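import Mathlib
import Cfsg.Prelude.Def_GeometricClasses
import Cfsg.Agent.Lib.Helper20.AschDefs
import Cfsg.Agent.Lib.Helper7.AschForms

/-!
FORM DATUM shared by the form-carrying versions of Aschbacher's theorem (S5662 `Sp`, S5663 `SU`, S5673 `Ω`):
a non-degenerate `ε`-hermitian `σ`-sesquilinear form `f` on `F^n` given as a function (`RForm σ ε f`), its isometry group
`Isom f` (`GU n F q = Isom (hermForm n F q)` by `rfl`), adjoints (`IsAdj`, `adjM`), orthogonal complements (`perp`).
Built on helper7's `AschForms` toolkit (`gramF`, `vmap`, `rep_of`, `eq_of_forall_dot`, `dot_conj`, `core`).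
`Sp`: `RForm (RingHom.id F) (-1)`; `U`: `RForm frob 1`; `O` (`q` odd): `RForm (RingHom.id F) 1`.
-/

set_option autoImplicit false
set_option linter.unusedSectionVars false
set_option linter.unusedVariables false

namespace Cfsg.Agent.Lib.Helper15.AschForm
open Matrix Cfsg.Geo Cfsg.Agent.Lib.Helper20.Asch Cfsg.Agent.Lib.Helper7.AschLeaf

variable {F : Type*} [Field F] {n : ℕ}

/-- a non-degenerate `ε`-hermitian `σ`-sesquilinear form on `F^n` (linear in the first variable) -/
structure RForm (σ : F →+* F) (ε : F) (f : (Fin n → F) → (Fin n → F) → F) : Prop where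
  add_left : ∀ x y v, f (x + y) v = f x v + f y v
  smul_left : ∀ (c : F) (x v : Fin n → F), f (c • x) v = c * f x v
  add_right : ∀ v x y, f v (x + y) = f v x + f v y
  smul_right : ∀ (c : F) (v x : Fin n → F), f v (c • x) = σ c * f v x
  invol : ∀ a : F, σ (σ a) = a
  herm : ∀ u v, f v u = ε * σ (f u v)
  nondeg : IsNondegenerateForm f

/-- the isometry group of a two-argument form -/
def Isom (f : (Fin n → F) → (Fin n → F) → F) : Subgroup (GL (Fin n) F) :=
  preserving (Units.coeHom (Matrix (Fin n) (Fin n) F)) f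

lemma mem_Isom {f : (Fin n → F) → (Fin n → F) → F} {g : GL (Fin n) F} :
    g ∈ Isom f ↔ ∀ u v, f ((g : Matrix (Fin n) (Fin n) F) *ᵥ u) ((g : Matrix (Fin n) (Fin n) F) *ᵥ v) = f u v :=
  Iff.rfl

lemma GU_eq_Isom (q : ℕ) : Cfsg.GU n F q = Isom (hermForm n F q) := rfl

/-- `y` is an adjoint of `x` for `f` (the shape used by `IsAdjointClosedFor`) -/
def IsAdj (f : (Fin n → F) → (Fin n → F) → F) (x y : Matrix (Fin n) (Fin n) F) : Prop :=
  ∀ u v : Fin n → F, f (x *ᵥ u) v = f u (y *ᵥ v)

/-- the adjoint matrix: `f (x u) v = f u (adjM σ f x v)` -/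
noncomputable def adjM (σ : F →+* F) (f : (Fin n → F) → (Fin n → F) → F)
    (x : Matrix (Fin n) (Fin n) F) : Matrix (Fin n) (Fin n) F :=
  ((gramF f)⁻¹ * xᵀ * gramF f).map σ

namespace RForm
variable {σ : F →+* F} {ε : F} {f : (Fin n → F) → (Fin n → F) → F}

lemma rep (hf : RForm σ ε f) (u v : Fin n → F) : f u v = u ⬝ᵥ gramF f *ᵥ vmap σ v :=
  rep_of σ f hf.add_left hf.smul_left hf.add_right hf.smul_right u v

lemma gram_det_ne_zero (hf : RForm σ ε f) : (gramF f).det ≠ 0 :=
  gram_det_ne_zero' σ f hf.rep hf.nondeg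

lemma zero_left (hf : RForm σ ε f) (v : Fin n → F) : f 0 v = 0 := by
  have := hf.smul_left 0 0 v
  simpa using this

lemma zero_right (hf : RForm σ ε f) (v : Fin n → F) : f v 0 = 0 := by
  have := hf.smul_right 0 v 0
  simpa using this

lemma neg_left (hf : RForm σ ε f) (u v : Fin n → F) : f (-u) v = - f u v := by
  have := hf.smul_left (-1) u v
  simpa using this

lemma neg_right (hf : RForm σ ε f) (u v : Fin n → F) : f u (-v) = - f u v := by
  have := hf.smul_right (-1) u v
  simpa using this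

lemma sub_left (hf : RForm σ ε f) (u u' v : Fin n → F) : f (u - u') v = f u v - f u' v := by
  rw [sub_eq_add_neg, hf.add_left, hf.neg_left, ← sub_eq_add_neg]

lemma sub_right (hf : RForm σ ε f) (u v v' : Fin n → F) : f u (v - v') = f u v - f u v' := by
  rw [sub_eq_add_neg, hf.add_right, hf.neg_right, ← sub_eq_add_neg]

lemma eps_ne_zero (hn : 0 < n) (hf : RForm σ ε f) : ε ≠ 0 := by
  classical
  intro h0
  have : Nonempty (Fin n) := ⟨⟨0, hn⟩⟩
  obtain ⟨i⟩ := this
  have hv : (Pi.single i (1 : F) : Fin n → F) ≠ 0 := by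
    intro h
    have := congrFun h i
    simp at this
  obtain ⟨x, hx⟩ := (hf.nondeg _ hv).1
  apply hx
  rw [hf.herm, h0, zero_mul]

/-- reflexivity -/
lemma refl (hf : RForm σ ε f) {u v : Fin n → F} (h : f u v = 0) : f v u = 0 := by
  rw [hf.herm, h, map_zero, mul_zero]

lemma refl_iff (hf : RForm σ ε f) (u v : Fin n → F) : f u v = 0 ↔ f v u = 0 :=
  ⟨hf.refl, hf.refl⟩

end RForm

/-- the orthogonal complement `{v | ∀ u ∈ W, f u v = 0}` (`= {v | ∀ u ∈ W, f v u = 0}` by reflexivity) -/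
def perp {σ : F →+* F} {ε : F} {f : (Fin n → F) → (Fin n → F) → F} (hf : RForm σ ε f)
    (W : Submodule F (Fin n → F)) : Submodule F (Fin n → F) where
  carrier := {v | ∀ u ∈ W, f u v = 0}
  add_mem' := by
    intro a b ha hb u hu
    rw [hf.add_right, ha u hu, hb u hu, add_zero]
  zero_mem' := fun u _ => hf.zero_right u
  smul_mem' := by
    intro c v hv u hu
    rw [hf.smul_right, hv u hu, mul_zero]

lemma mem_perp {σ : F →+* F} {ε : F} {f : (Fin n → F) → (Fin n → F) → F} (hf : RForm σ ε f)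
    {W : Submodule F (Fin n → F)} {v : Fin n → F} : v ∈ perp hf W ↔ ∀ u ∈ W, f u v = 0 := Iff.rfl

lemma mem_perp' {σ : F →+* F} {ε : F} {f : (Fin n → F) → (Fin n → F) → F} (hf : RForm σ ε f)
    {W : Submodule F (Fin n → F)} {v : Fin n → F} : v ∈ perp hf W ↔ ∀ u ∈ W, f v u = 0 :=
  ⟨fun h u hu => hf.refl (h u hu), fun h u hu => hf.refl (h u hu)⟩

end Cfsg.Agent.Lib.Helper15.AschForm
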