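import Mathlib
import Cfsg.Prelude.Def_GeometricClasses
import Cfsg.Agent.Lib.Helper20.AschDefs
import Cfsg.Agent.Lib.Helper7.AschForms
import Cfsg.Agent.Lib.Helper15.AschFormDefs

/-!
FORM DATUM, matrix level (shared by S5662 / S5663 / S5673): `FixJ σ J X` (`X` preserves the `σ`-sesquilinear form with
Gram matrix `J`: `xᵀ J σ(x) = J`), `gramIn σ J e P` (the Gram matrix in the basis given by `P` and the reindexing `e`),
and the bridge to forms given as functions (`RForm`, `Isom`, `formOfGram`).  `σ = RingHom.id F` for bilinear forms.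
-/

set_option autoImplicit false
set_option linter.unusedSectionVars false
set_option linter.unusedVariables false

namespace Cfsg.Agent.Lib.Helper15.AschForm
open Matrix Cfsg.Geo Cfsg.Agent.Lib.Helper20.Asch Cfsg.Agent.Lib.Helper7.AschLeaf
open scoped Kronecker

variable {F : Type*} [Field F] {n : ℕ}

/-- `X` preserves the `σ`-sesquilinear form with Gram matrix `J` -/
def FixJ (σ : F →+* F) (J : Matrix (Fin n) (Fin n) F) (X : Subgroup (GL (Fin n) F)) : Prop :=
  ∀ x ∈ X, (x : Matrix (Fin n) (Fin n) F)ᵀ * J * (x : Matrix (Fin n) (Fin n) F).map σ = J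

/-- the Gram matrix of the form with Gram matrix `J` in the basis given by the columns of `P`, reindexed along `e` -/
def gramIn {κ : Type} [Fintype κ] [DecidableEq κ] (σ : F →+* F) (J : Matrix (Fin n) (Fin n) F)
    (e : Fin n ≃ κ) (P : GL (Fin n) F) : Matrix κ κ F :=
  Matrix.reindex e e ((P : Matrix (Fin n) (Fin n) F)ᵀ * J * (P : Matrix (Fin n) (Fin n) F).map σ)

/-- the form with Gram matrix `G` (on `F^n`), as a function -/
def sform (σ : F →+* F) (G : Matrix (Fin n) (Fin n) F) (u v : Fin n → F) : F :=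
  u ⬝ᵥ G *ᵥ vmap σ v

lemma gramF_sform (σ : F →+* F) (G : Matrix (Fin n) (Fin n) F) : gramF (sform σ G) = G := by
  classical
  ext i j
  simp only [gramF, sform, Matrix.of_apply]
  rw [vmap_single]
  simp

lemma gramMatrix_sform (σ : F →+* F) (G : Matrix (Fin n) (Fin n) F) : gramMatrix (sform σ G) = G := by
  have := gramF_sform σ G
  ext i j
  have h := congrFun (congrFun this i) j
  simpa [gramF, gramMatrix] using h

lemma gramMatrix_eq_gramF (f : (Fin n → F) → (Fin n → F) → F) : gramMatrix f = gramF f := rfl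

/-- isometries of `f` preserve its Gram matrix -/
lemma fixJ_of_le_Isom {σ : F →+* F} {ε : F} {f : (Fin n → F) → (Fin n → F) → F} (hf : RForm σ ε f)
    {X : Subgroup (GL (Fin n) F)} (hX : X ≤ Isom f) : FixJ σ (gramF f) X := by
  intro x hx
  apply eq_of_forall_dot σ
  intro u v
  rw [← dot_conj, ← hf.rep, ← hf.rep]
  exact hX hx u v

/-- conversely -/
lemma le_Isom_of_fixJ {σ : F →+* F} {ε : F} {f : (Fin n → F) → (Fin n → F) → F} (hf : RForm σ ε f)
    {X : Subgroup (GL (Fin n) F)} (hX : FixJ σ (gramF f) X) : X ≤ Isom f := by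
  intro x hx u v
  show f ((x : Matrix (Fin n) (Fin n) F) *ᵥ u) ((x : Matrix (Fin n) (Fin n) F) *ᵥ v) = f u v
  rw [hf.rep, dot_conj, hX x hx, ← hf.rep]

lemma formOfGram_eq_dot {κ : Type} [Fintype κ] (σ : F → F) (G : Matrix κ κ F) (x y : κ → F) :
    formOfGram σ G x y = x ⬝ᵥ G *ᵥ (fun b => σ (y b)) := by
  simp only [formOfGram, dotProduct, Matrix.mulVec, Finset.mul_sum, mul_assoc]

lemma gramF_hermForm [Fintype F] {q : ℕ} (hq : q ≠ 0) : gramF (hermForm n F q) = 1 := by
  classical
  ext i j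
  simp only [gramF, Matrix.of_apply, hermForm]
  rw [Finset.sum_eq_single i]
  · by_cases h : i = j
    · subst h; simp
    · simp [Matrix.one_apply_ne h, Pi.single_eq_of_ne h, hq]
  · intro k _ hk
    simp [Pi.single_eq_of_ne hk]
  · intro h; exact absurd (Finset.mem_univ i) h

/-- the form in the basis `(e, P)`: `f (P (x ∘ e)) (P (y ∘ e)) = formOfGram σ (gramIn σ J e P) x y` -/
lemma form_gramIn {κ : Type} [Fintype κ] [DecidableEq κ] (σ : F →+* F) (J : Matrix (Fin n) (Fin n) F)
    (e : Fin n ≃ κ) (P : GL (Fin n) F) (x y : κ → F) :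
    sform σ J ((P : Matrix (Fin n) (Fin n) F) *ᵥ (x ∘ e)) ((P : Matrix (Fin n) (Fin n) F) *ᵥ (y ∘ e)) =
      formOfGram (σ : F → F) (gramIn σ J e P) x y := by
  unfold sform
  rw [dot_conj, formOfGram_eq_dot]
  unfold gramIn
  simp only [dotProduct, Matrix.mulVec, Matrix.reindex_apply, Matrix.submatrix_apply, vmap, Function.comp]
  rw [← e.sum_comp]
  apply Finset.sum_congr rfl
  intro i _
  congr 1
  rw [← e.sum_comp]
  apply Finset.sum_congr rfl
  intro j _
  simp

end Cfsg.Agent.Lib.Helper15.AschForm
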