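/-
DEFECT-ONE CLUSTER, Part O (planner helper27), leaf DO-SUPP `supp_main` in `_of` form over DO-VAL:
if all `a χ i = μ χ i - μ χ 0` (`i` a unit) vanish, then `Dfun (μ χ)` vanishes off `1`, so by VAL (at `y = 1`)
`χ` vanishes on `P \ 1`; hence `χ(1) = ∑_{x ∈ P} χ(x) ∈ p ℕ`, `χ` has `p`-defect zero, its block `B` has defect `0`,
but `|P| = p ^ blockDefect p B`.
-/
import Mathlib
import Cfsg.Prelude.Def_BlockRank
import Cfsg.Agent.Lib.Helper27.DODefs
import Cfsg.Agent.Lib.Helper27.BlkAlgDefs2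
import Cfsg.Agent.Lib.Helper6.DefectOrder
import Cfsg.Agent.Lib.Helper6.FirstMain
import Cfsg.Agent.Lib.Helper17.BlkDefZero
import Cfsg.Agent.Lib.Helper24.IrrFacts

set_option autoImplicit false

namespace Cfsg.Agent.Lib.Helper15.DOSUPPOf

open Cfsg Cfsg.Agent.Lib.Helper8.DOM Cfsg.Agent.Lib.Helper27.DO Cfsg.Agent.Lib.Helper27.BlkAlg
open scoped ComplexConjugate

universe u

/-- `∑_{i : ℤ/p} ζ^(i k) = 0` for `p ∤ k`. -/
theorem sum_zetaP_pow_eq_zero {p : ℕ} [hp : Fact p.Prime] (k : ℕ) (hk : ¬ p ∣ k) :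
    ∑ i : ZMod p, zetaP p ^ (i.val * k) = 0 := by
  have hζ : IsPrimitiveRoot (zetaP p) p := Complex.isPrimitiveRoot_exp p hp.out.ne_zero
  have hω : IsPrimitiveRoot (zetaP p ^ k) p :=
    hζ.pow_of_coprime k ((Nat.Prime.coprime_iff_not_dvd hp.out).2 hk).symm
  have h0 := hω.geom_sum_eq_zero hp.out.one_lt
  have h1 : ∀ i : ZMod p, zetaP p ^ (i.val * k) = (zetaP p ^ k) ^ i.val := by
    intro i; rw [← pow_mul, mul_comm]
  simp only [h1]
  obtain ⟨n, hn⟩ : ∃ n, p = n + 1 := Nat.exists_eq_succ_of_ne_zero hp.out.ne_zero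
  subst hn
  rw [← h0]
  exact Fin.sum_univ_eq_sum_range (fun j => (zetaP (n + 1) ^ k) ^ j) (n + 1)

variable {G : Type u} [Group G]

/-- `Dfun` of a constant row vanishes off `1`. -/
theorem Dfun_eq_zero_of_const {p : ℕ} [hp : Fact p.Prime] (x0 x : G) (hx : x ≠ 1) (μ : ZMod p → ℤ)
    (hμ : ∀ i, μ i = μ 0) : Dfun p x0 μ x = 0 := by
  unfold Dfun
  apply finsum_mem_eq_zero_of_forall_eq_zero
  intro k hk
  have hk0 : k ≠ 0 := by
    rintro rfl
    apply hx
    have hk' : x = x0 ^ (0 : ZMod p).val := hk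
    rw [hk', ZMod.val_zero, pow_zero]
  have hkp : ¬ p ∣ k.val := by
    intro hd
    have h1 : k.val = 0 := Nat.eq_zero_of_dvd_of_lt hd (ZMod.val_lt k)
    exact hk0 ((ZMod.val_eq_zero k).1 h1)
  rw [finsum_eq_sum_of_fintype]
  have h2 : ∀ i : ZMod p, (μ i : ℂ) * zetaP p ^ (i.val * k.val)
      = (μ 0 : ℂ) * zetaP p ^ (i.val * k.val) := by
    intro i; rw [hμ i]
  simp only [h2]
  rw [← Finset.mul_sum, sum_zetaP_pow_eq_zero k.val hkp, mul_zero]

variable [Finite G] {p : ℕ} [Fact p.Prime] {M : Ideal AlgInt}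
  {P : Subgroup G} {B : Set (IrrCharacter G)} {θ : IrrCharacter (Cz P)} {T : Subgroup G} {x0 : G}

/-- SUPP in `_of` form over VAL. -/
theorem supp_main_of (c : Ctx p M P B θ T x0)
    (hval : ∀ χ ∈ B, ∀ x ∈ P, x ≠ 1 → ∀ y ∈ Cz P, ¬ p ∣ orderOf y →
      (χ : G → ℂ) (x * y) = (Nat.card T : ℂ)⁻¹ *
        ∑ᶠ n : Nz P, Dfun p x0 (muZ p M P θ x0 χ) ((n : G) * x * (n : G)⁻¹) *
          extendByZero (Cz P) (θ : Cz P → ℂ) ((n : G) * y * (n : G)⁻¹))
    (χ : IrrCharacter G) (hχ : χ ∈ B) :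
    ∃ i : (ZMod p)ˣ, muZ p M P θ x0 χ i - muZ p M P θ x0 χ 0 ≠ 0 := by
  classical
  have hp : p.Prime := Fact.out
  by_contra hcon
  push Not at hcon
  -- the row is constant
  have hμ : ∀ i : ZMod p, muZ p M P θ x0 χ i = muZ p M P θ x0 χ 0 := by
    intro i
    by_cases hi : i = 0
    · rw [hi]
    · have := hcon (Units.mk0 i hi)
      rw [Units.val_mk0] at this
      linarith
  -- `χ` vanishes on `P \ 1`
  have hvan : ∀ x ∈ P, x ≠ 1 → (χ : G → ℂ) x = 0 := by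
    intro x hx hx1
    have h1 := hval χ hχ x hx hx1 1 (Subgroup.one_mem _)
      (by rw [orderOf_one]; exact hp.not_dvd_one)
    rw [mul_one] at h1
    rw [h1]
    have h2 : ∀ n : Nz P, Dfun p x0 (muZ p M P θ x0 χ) ((n : G) * x * (n : G)⁻¹) *
          extendByZero (Cz P) (θ : Cz P → ℂ) ((n : G) * 1 * (n : G)⁻¹) = 0 := by
      intro n
      rw [Dfun_eq_zero_of_const x0 _ _ _ hμ, zero_mul]
      intro h
      apply hx1
      have : x = (n : G)⁻¹ * ((n : G) * x * (n : G)⁻¹) * (n : G) := by group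
      rw [this, h]; group
    simp only [h2]
    rw [finsum_zero, mul_zero]
  -- `p ∣ χ(1)`
  have : Fintype G := Fintype.ofFinite G
  have : Fintype P := Fintype.ofFinite P
  obtain ⟨n, hn⟩ := Cfsg.Agent.Lib.Helper6.exists_sum_subgroup_eq (χ : G → ℂ)
    (Cfsg.Agent.CharLib.IsIrrCharacter.isCharacter χ.2) P
  have hsum : ∑ u : P, (χ : G → ℂ) (u : G) = (χ : G → ℂ) 1 := by
    rw [Finset.sum_eq_single (1 : P)]
    · rfl
    · intro u _ hu
      exact hvan u u.2 (fun h => hu (Subtype.ext h))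
    · intro h; exact absurd (Finset.mem_univ _) h
  rw [hsum, Cfsg.Agent.Lib.Helper24.irr_apply_one, c.hP] at hn
  have hdvd : p ∣ charDegree (χ : G → ℂ) := by
    have : charDegree (χ : G → ℂ) = p * n := by exact_mod_cast hn
    exact ⟨n, this⟩
  -- `χ` has defect zero
  have hprime : M.IsPrime := Cfsg.Agent.Lib.Helper24.isPrime_of_isPModular c.hM
  have hGp : (Nat.card G).factorization p = 1 := by
    have h1 : Nat.card G = p * P.index := by rw [← c.hP]; exact (Subgroup.card_mul_index P).symm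
    have hidx : P.index ≠ 0 := by
      intro h0; rw [h0, mul_zero] at h1; exact Nat.card_pos.ne' h1
    rw [h1, Nat.factorization_mul hp.ne_zero hidx, Finsupp.add_apply, hp.factorization_self,
      Nat.factorization_eq_zero_of_not_dvd c.hSyl]
  have hdz : Cfsg.Agent.Lib.Helper17.BlkDefZero.IsDefZero p χ := by
    unfold Cfsg.Agent.Lib.Helper17.BlkDefZero.IsDefZero
    rw [hGp]
    exact hp.factorization_pos_of_dvd (Cfsg.Agent.Lib.Helper24.irr_charDegree_pos χ).ne' hdvd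
  have hB : B = blockOf M (χ : G → ℂ) :=
    Cfsg.Agent.Lib.Helper6.isPBlock_eq_of_mem c.hB ⟨χ, rfl⟩ hχ
      (Cfsg.Agent.Lib.Helper6.mem_blockOf_self χ)
  have hd0 : blockDefect p B = 0 := by
    rw [hB]
    exact (Cfsg.Agent.Lib.Helper17.BlkDefZero.blockDefect_blockOf_eq_zero_iff p M c.hM χ).2 hdz
  have hcard := Cfsg.Agent.Lib.Helper6.card_defectGroup_eq c.hM B c.hB P c.hBP
  rw [hd0, pow_zero, c.hP] at hcard
  exact hp.one_lt.ne' hcard

end Cfsg.Agent.Lib.Helper15.DOSUPPOf
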