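/-
S4503 PART E (planner helper14), leaf BRE-NOTRIV `sum_mul_conj_eq_zero` (frozen statement in notes/S4503_E_leaves.lean):
two exceptional characters with disjoint `F`-orbits are orthogonal on `P = ⟨x0⟩`.  Pure root-of-unity computation:
`∑_{j<p} ζ^(a j) conj(ζ^(b j)) = 0` for `a ≢ b (mod p)`.
-/
import Mathlib
import Cfsg.Prelude.Def_BlockRank
import Cfsg.Agent.Lib.Helper27.DODefs
import Cfsg.Agent.Lib.Helper27.BlkAlgDefs2

set_option autoImplicit false

namespace Cfsg.Agent.Lib.Helper15.BRENOTRIV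

open Cfsg Cfsg.Agent.Lib.Helper8.DOM Cfsg.Agent.Lib.Helper27.DO Cfsg.Agent.Lib.Helper27.BlkAlg
open scoped ComplexConjugate

universe u

/-- a sum over a finite cyclic subgroup as a sum over a range -/
theorem finsum_mem_zpowers {G : Type u} [Group G] [Finite G] (x0 : G) (g : G → ℂ) :
    ∑ᶠ x ∈ ((Subgroup.zpowers x0 : Subgroup G) : Set G), g x
      = ∑ j ∈ Finset.range (orderOf x0), g (x0 ^ j) := by
  classical
  have hset : ((Subgroup.zpowers x0 : Subgroup G) : Set G)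
      = ↑((Finset.range (orderOf x0)).image (fun j => x0 ^ j)) := by
    ext y
    rw [SetLike.mem_coe, mem_zpowers_iff_mem_range_orderOf]
    simp
  rw [hset, finsum_mem_coe_finset, Finset.sum_image]
  intro a ha b hb hab
  exact pow_injOn_Iio_orderOf (by simpa using ha) (by simpa using hb) hab

section prelim

variable {p : ℕ} [hp : Fact p.Prime]

theorem zetaP_prim : IsPrimitiveRoot (zetaP p) p :=
  Complex.isPrimitiveRoot_exp p hp.out.ne_zero

theorem zetaP_mul_conj (m : ℕ) : zetaP p ^ m * conj (zetaP p ^ m) = 1 := by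
  have h1 : ‖zetaP p‖ = 1 :=
    Complex.norm_eq_one_of_pow_eq_one (zetaP_prim (p := p)).pow_eq_one hp.out.ne_zero
  rw [Complex.mul_conj, Complex.normSq_eq_norm_sq, norm_pow, h1, one_pow, one_pow]
  simp

/-- `∑_{j<p} ζ^(a j) conj(ζ^(b j)) = 0` for `a ≢ b (mod p)`. -/
theorem sum_zeta_mul_conj_eq_zero (a b : ℕ) (hab : (a : ZMod p) ≠ (b : ZMod p)) :
    ∑ j ∈ Finset.range p, zetaP p ^ (a * j) * conj (zetaP p ^ (b * j)) = 0 := by
  set ω : ℂ := zetaP p ^ a * conj (zetaP p ^ b) with hω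
  have hterm : ∀ j : ℕ, zetaP p ^ (a * j) * conj (zetaP p ^ (b * j)) = ω ^ j := by
    intro j
    rw [hω, mul_pow, pow_mul, pow_mul, map_pow]
  have hωp : ω ^ p = 1 := by
    rw [hω, mul_pow, ← map_pow, ← pow_mul, ← pow_mul, mul_comm a p, mul_comm b p, pow_mul, pow_mul,
      (zetaP_prim (p := p)).pow_eq_one, one_pow, one_pow, map_one, mul_one]
  have hω1 : ω ≠ 1 := by
    intro h
    apply hab
    have h2 : zetaP p ^ a = zetaP p ^ b := by
      have h3 := zetaP_mul_conj (p := p) b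
      calc zetaP p ^ a = zetaP p ^ a * (zetaP p ^ b * conj (zetaP p ^ b)) := by rw [h3, mul_one]
        _ = (zetaP p ^ a * conj (zetaP p ^ b)) * zetaP p ^ b := by ring
        _ = zetaP p ^ b := by rw [← hω, h, one_mul]
    have hfin : IsOfFinOrder (zetaP p) :=
      isOfFinOrder_iff_pow_eq_one.2 ⟨p, hp.out.pos, (zetaP_prim (p := p)).pow_eq_one⟩
    have h4 := hfin.pow_eq_pow_iff_modEq.1 h2
    rw [← (zetaP_prim (p := p)).eq_orderOf] at h4
    exact (ZMod.natCast_eq_natCast_iff a b p).2 h4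
  simp only [hterm]
  rw [geom_sum_eq hω1, hωp, sub_self, zero_div]

end prelim

variable {G : Type u} [Group G] [Finite G] {p : ℕ} [Fact p.Prime]

/-- the orbit sum as a `Finset` sum -/
theorem finsum_mem_subgroup_units (F : Subgroup (ZMod p)ˣ) [DecidablePred fun w : (ZMod p)ˣ => w ∈ F]
    (g : (ZMod p)ˣ → ℂ) :
    ∑ᶠ w ∈ (F : Set (ZMod p)ˣ), g w
      = ∑ w ∈ (Finset.univ.filter (fun w : (ZMod p)ˣ => w ∈ F)), g w := by
  have hset : (F : Set (ZMod p)ˣ) = ↑(Finset.univ.filter (fun w : (ZMod p)ˣ => w ∈ F)) := by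
    ext w; simp
  rw [hset, finsum_mem_coe_finset]

/-- NOTRIV : two exceptional characters with disjoint `F`-orbits are orthogonal on `P`. -/
theorem sum_mul_conj_eq_zero (P : Subgroup G) (x0 : G) (hx0 : P = Subgroup.zpowers x0)
    (hord : orderOf x0 = p) (F : Subgroup (ZMod p)ˣ) (i i' : (ZMod p)ˣ) (hii' : i' * i⁻¹ ∉ F)
    (ε : ℤ) (hε : ε = 1 ∨ ε = -1) (c : ℕ) (χ χ' : G → ℂ)
    (hval : ∀ j : ℕ, ¬ p ∣ j → χ (x0 ^ j) = (ε : ℂ) * (c : ℂ) *
      ∑ᶠ w ∈ (F : Set (ZMod p)ˣ), zetaP p ^ (((w : ZMod p) * (i : ZMod p)).val * j))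
    (hval' : ∀ j : ℕ, ¬ p ∣ j → χ' (x0 ^ j) = (ε : ℂ) * (c : ℂ) *
      ∑ᶠ w ∈ (F : Set (ZMod p)ˣ), zetaP p ^ (((w : ZMod p) * (i' : ZMod p)).val * j))
    (h1 : χ 1 = ((Nat.card F * c : ℕ) : ℂ)) (h1' : χ' 1 = ((Nat.card F * c : ℕ) : ℂ)) :
    ∑ᶠ x ∈ (P : Set G), χ x * conj (χ' x) = 0 := by
  classical
  have hεsq : (ε : ℂ) * (ε : ℂ) = 1 := by
    rcases hε with h | h <;> rw [h] <;> norm_num
  have hεconj : conj (ε : ℂ) = (ε : ℂ) := map_intCast (starRingEnd ℂ) ε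
  have hcconj : conj (c : ℂ) = (c : ℂ) := map_natCast (starRingEnd ℂ) c
  set FS : Finset (ZMod p)ˣ := Finset.univ.filter (fun w : (ZMod p)ˣ => w ∈ F) with hFS
  have hcardF : (Nat.card F : ℂ) = (FS.card : ℂ) := by
    congr 1
    rw [hFS, Nat.card_eq_fintype_card, Fintype.card_subtype]
  -- termwise description
  have hterm : ∀ j ∈ Finset.range p, χ (x0 ^ j) * conj (χ' (x0 ^ j)) =
      (c : ℂ) * (c : ℂ) * ∑ w ∈ FS, ∑ w' ∈ FS,
        zetaP p ^ (((w : ZMod p) * (i : ZMod p)).val * j) *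
          conj (zetaP p ^ (((w' : ZMod p) * (i' : ZMod p)).val * j)) := by
    intro j hj
    rw [Finset.mem_range] at hj
    by_cases hj0 : j = 0
    · subst hj0
      simp only [pow_zero, mul_zero, map_one, mul_one, Finset.sum_const, nsmul_eq_mul]
      rw [h1, h1', map_natCast, ← hcardF]
      push_cast
      ring
    · have hpj : ¬ p ∣ j := fun hd => hj0 (Nat.eq_zero_of_dvd_of_lt hd hj)
      rw [hval j hpj, hval' j hpj, finsum_mem_subgroup_units, finsum_mem_subgroup_units, map_mul,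
        map_mul, hεconj, hcconj, map_sum, ← hFS]
      have : (ε : ℂ) * (c : ℂ) * (∑ w ∈ FS, zetaP p ^ (((w : ZMod p) * (i : ZMod p)).val * j)) *
          ((ε : ℂ) * (c : ℂ) * ∑ w' ∈ FS, conj (zetaP p ^ (((w' : ZMod p) * (i' : ZMod p)).val * j)))
          = ((ε : ℂ) * (ε : ℂ)) * ((c : ℂ) * (c : ℂ)) *
            ((∑ w ∈ FS, zetaP p ^ (((w : ZMod p) * (i : ZMod p)).val * j)) *
              ∑ w' ∈ FS, conj (zetaP p ^ (((w' : ZMod p) * (i' : ZMod p)).val * j))) := by ring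
      rw [this, hεsq, one_mul, Finset.sum_mul_sum]
  rw [hx0, finsum_mem_zpowers, hord, Finset.sum_congr rfl hterm, ← Finset.mul_sum,
    Finset.sum_comm]
  have hzero : ∀ w ∈ FS, ∑ j ∈ Finset.range p, ∑ w' ∈ FS,
      zetaP p ^ (((w : ZMod p) * (i : ZMod p)).val * j) *
        conj (zetaP p ^ (((w' : ZMod p) * (i' : ZMod p)).val * j)) = 0 := by
    intro w hw
    rw [Finset.sum_comm]
    apply Finset.sum_eq_zero
    intro w' hw'
    apply sum_zeta_mul_conj_eq_zero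
    rw [ZMod.natCast_zmod_val, ZMod.natCast_zmod_val]
    intro heq
    apply hii'
    have hwF : w ∈ F := (Finset.mem_filter.1 hw).2
    have hw'F : w' ∈ F := (Finset.mem_filter.1 hw').2
    have hu : w * i = w' * i' := Units.ext (by push_cast; exact heq)
    have h5 : i' = w'⁻¹ * (w * i) := by rw [hu, inv_mul_cancel_left]
    have : i' * i⁻¹ = w'⁻¹ * w := by
      rw [h5, mul_assoc, mul_assoc, mul_inv_cancel, mul_one]
    rw [this]
    exact F.mul_mem (F.inv_mem hw'F) hwF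
  rw [Finset.sum_eq_zero hzero, mul_zero]

end Cfsg.Agent.Lib.Helper15.BRENOTRIV
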