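import Mathlib
import Cfsg.Prelude.Def_ClassicalGeometry

/-! Helper15 library: the symplectic form of `Matrix.symplecticGroup` as a bilinear form; in
characteristic two every symplectic matrix preserves a quadratic form polarising to it. -/

set_option autoImplicit false

namespace Cfsg.Agent.Lib.Helper15

open Matrix QuadraticMap

section
variable {F : Type*} [Field F] (m : ℕ)

noncomputable def sympBilin : LinearMap.BilinForm F (Fin m ⊕ Fin m → F) :=
  Matrix.toLinearMap₂' F (Matrix.J (Fin m) F)

theorem sympBilin_apply (u v : Fin m ⊕ Fin m → F) : sympBilin m u v = Cfsg.sympForm m F u v := by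
  unfold sympBilin Cfsg.sympForm
  rw [Matrix.toLinearMap₂'_apply']

theorem sympForm_eq (u v : Fin m ⊕ Fin m → F) :
    Cfsg.sympForm m F u v = ∑ i, (u (Sum.inr i) * v (Sum.inl i) - u (Sum.inl i) * v (Sum.inr i)) := by
  unfold Cfsg.sympForm Matrix.J
  simp only [dotProduct, Matrix.mulVec, Fintype.sum_sum_type, Matrix.fromBlocks_apply₁₁,
    Matrix.fromBlocks_apply₁₂, Matrix.fromBlocks_apply₂₁, Matrix.fromBlocks_apply₂₂,
    Matrix.zero_apply, Matrix.neg_apply, Matrix.one_apply, zero_mul, Finset.sum_const_zero,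
    zero_add, add_zero, neg_mul, ite_mul, one_mul, Finset.sum_neg_distrib, Finset.sum_ite_eq,
    Finset.mem_univ, if_true, mul_neg]
  rw [Finset.sum_sub_distrib]
  ring

theorem sympForm_invariant (A : Matrix.symplecticGroup (Fin m) F) (u v : Fin m ⊕ Fin m → F) :
    Cfsg.sympForm m F ((A : Matrix _ _ F) *ᵥ u) ((A : Matrix _ _ F) *ᵥ v) = Cfsg.sympForm m F u v := by
  unfold Cfsg.sympForm
  have h := SymplecticGroup.mem_iff'.mp A.2
  have e1 : ∀ w : Fin m ⊕ Fin m → F, ((A : Matrix _ _ F) *ᵥ u) ⬝ᵥ w = u ⬝ᵥ ((A : Matrix _ _ F)ᵀ *ᵥ w) := by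
    intro w
    rw [Matrix.dotProduct_mulVec, Matrix.vecMul_transpose]
  rw [e1, Matrix.mulVec_mulVec, Matrix.mulVec_mulVec, h]

theorem sympBilin_nondegenerate : (sympBilin m (F := F)).Nondegenerate := by
  unfold sympBilin
  exact Matrix.nondegenerate_toLinearMap₂'_iff.mpr
    (Matrix.nondegenerate_iff_det_ne_zero.mpr (Matrix.isUnit_det_J (Fin m) F).ne_zero)

noncomputable def plusQF : QuadraticForm F (Fin m ⊕ Fin m → F) :=
  ∑ i : Fin m, QuadraticMap.proj (Sum.inl i) (Sum.inr i)

theorem plusQF_apply (v : Fin m ⊕ Fin m → F) : plusQF m v = ∑ i, v (Sum.inl i) * v (Sum.inr i) := by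
  unfold plusQF
  rw [_root_.sum_apply]
  simp only [QuadraticMap.proj_apply]

variable [CharP F 2]

theorem polar_plusQF (u v : Fin m ⊕ Fin m → F) : polar (plusQF m (F := F)) u v = Cfsg.sympForm m F u v := by
  have h2 : (2 : F) = 0 := CharTwo.two_eq_zero
  rw [sympForm_eq]
  simp only [polar, plusQF_apply, Pi.add_apply]
  rw [← Finset.sum_sub_distrib, ← Finset.sum_sub_distrib]
  refine Finset.sum_congr rfl fun i _ => ?_
  linear_combination (u (Sum.inl i) * v (Sum.inr i)) * h2

theorem sympForm_comm (u v : Fin m ⊕ Fin m → F) : Cfsg.sympForm m F u v = Cfsg.sympForm m F v u := by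
  rw [← polar_plusQF, ← polar_plusQF, polar_comm]

theorem exists_invariant_form [Finite F] (A : Matrix.symplecticGroup (Fin m) F) :
    ∃ Q : QuadraticForm F (Fin m ⊕ Fin m → F),
      (∀ u v : Fin m ⊕ Fin m → F, polar Q u v = Cfsg.sympForm m F u v) ∧
      ∀ v : Fin m ⊕ Fin m → F, Q ((A : Matrix (Fin m ⊕ Fin m) (Fin m ⊕ Fin m) F).mulVec v) = Q v := by
  have h2 : (2 : F) = 0 := CharTwo.two_eq_zero
  have hsq_add : ∀ x y : F, (x + y) ^ 2 = x ^ 2 + y ^ 2 := by
    intro x y; linear_combination (x * y) * h2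
  set B := sympBilin m (F := F) with hB
  have hBnd : B.Nondegenerate := sympBilin_nondegenerate m
  have hBapp : ∀ u v, B u v = Cfsg.sympForm m F u v := sympBilin_apply m
  have hBsymm : ∀ u v, B u v = B v u := by
    intro u v; rw [hBapp, hBapp, sympForm_comm]
  have hBrefl : B.IsRefl := by
    intro u v h; rw [hBsymm]; exact h
  set T : (Fin m ⊕ Fin m → F) →ₗ[F] (Fin m ⊕ Fin m → F) := Matrix.toLin' (A : Matrix _ _ F) with hT
  have hTapp : ∀ v, T v = (A : Matrix _ _ F) *ᵥ v := fun v => Matrix.toLin'_apply _ _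
  have hBT : ∀ u v, B (T u) (T v) = B u v := by
    intro u v
    rw [hBapp, hBapp, hTapp, hTapp, sympForm_invariant]
  have hTsurj : Function.Surjective T := by
    intro c
    refine ⟨(A⁻¹).1 *ᵥ c, ?_⟩
    rw [hTapp, Matrix.mulVec_mulVec]
    have : A.1 * (A⁻¹).1 = 1 := by
      have := congrArg Subtype.val (mul_inv_cancel A)
      exact this
    rw [this, Matrix.one_mulVec]
  set Q₀ := plusQF m (F := F) with hQ₀
  have hpol₀ : ∀ u v, polar Q₀ u v = B u v := by
    intro u v; rw [hBapp, polar_plusQF]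
  -- the defect
  set D : QuadraticForm F (Fin m ⊕ Fin m → F) := Q₀.comp T - Q₀ with hD
  have hDapp : ∀ v, D v = Q₀ (T v) - Q₀ v := fun v => rfl
  have hDadd : ∀ u v, D (u + v) = D u + D v := by
    intro u v
    have h1 : Q₀ (T u + T v) = Q₀ (T u) + Q₀ (T v) + B (T u) (T v) := by
      rw [← hpol₀, polar]; ring
    have h2' : Q₀ (u + v) = Q₀ u + Q₀ v + B u v := by
      rw [← hpol₀, polar]; ring
    rw [hDapp, hDapp, hDapp, map_add, h1, h2', hBT]
    ring
  have hDsmul : ∀ (c : F) v, D (c • v) = c ^ 2 * D v := by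
    intro c v
    rw [QuadraticMap.map_smul, smul_eq_mul]; ring
  -- its square root, a linear functional
  let sq := (frobeniusEquiv F 2).symm
  have hsq : ∀ x : F, (sq x) ^ 2 = x := fun x => frobeniusEquiv_symm_pow_p F 2 x
  have hsq' : ∀ x : F, sq (x ^ 2) = x := fun x => by
    have := frobeniusEquiv_symm_apply_frobenius F 2 x
    rwa [frobenius_def] at this
  let lam : (Fin m ⊕ Fin m → F) →ₗ[F] F :=
    { toFun := fun v => sq (D v)
      map_add' := by intro u v; rw [hDadd, map_add]
      map_smul' := by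
        intro c v
        rw [hDsmul, map_mul, hsq', RingHom.id_apply, smul_eq_mul] }
  have hlam : ∀ v, (lam v) ^ 2 = D v := fun v => hsq (D v)
  -- Riesz representative
  set w := (B.toDual hBnd).symm lam with hw
  have hwB : ∀ v, B w v = lam v := fun v => LinearMap.BilinForm.apply_toDual_symm_apply lam v
  -- w lies in the range of 1 + T
  have hwmem : w ∈ LinearMap.range (LinearMap.id + T) := by
    rw [← LinearMap.BilinForm.orthogonal_orthogonal hBnd hBrefl (LinearMap.range (LinearMap.id + T))]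
    rw [LinearMap.BilinForm.mem_orthogonal_iff]
    intro u hu
    rw [LinearMap.BilinForm.mem_orthogonal_iff] at hu
    -- u is fixed by T
    have hfix : T u = u := by
      have h3 : ∀ c, B c (T u - u) = 0 := by
        intro c
        obtain ⟨b, rfl⟩ := hTsurj c
        have h4 := hu (b + T b) ⟨b, by simp⟩
        rw [map_add, LinearMap.add_apply] at h4
        rw [map_sub, hBT]
        have : B (T b) u = - B b u := by linear_combination h4
        rw [this]
        have : B b u + B b u = 0 := by linear_combination (B b u) * h2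
        linear_combination this
      have := hBnd.2 (T u - u) h3
      exact sub_eq_zero.mp this
    rw [hBsymm, hwB]
    have : D u = 0 := by rw [hDapp, hfix, sub_self]
    have h5 := hlam u
    rw [this] at h5
    exact pow_eq_zero_iff (two_ne_zero) |>.mp h5
  obtain ⟨b, hb⟩ := hwmem
  have hb' : b + T b = w := by simpa using hb
  -- the invariant form
  let μ : (Fin m ⊕ Fin m → F) →ₗ[F] F := B (T b)
  refine ⟨Q₀ + QuadraticMap.linMulLin μ μ, ?_, ?_⟩
  · intro u v
    have : polar (⇑(Q₀ + QuadraticMap.linMulLin μ μ)) u v = polar Q₀ u v + (μ (u + v) * μ (u + v) - μ u * μ u - μ v * μ v) := by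
      simp only [polar, _root_.add_apply, QuadraticMap.linMulLin_apply]
      ring
    rw [this, polar_plusQF, map_add]
    linear_combination (μ u * μ v) * h2
  · intro v
    rw [← hTapp]
    simp only [_root_.add_apply, QuadraticMap.linMulLin_apply]
    have h6 : Q₀ (T v) - Q₀ v = (μ (T v) + μ v) ^ 2 := by
      rw [← hDapp, ← hlam, ← hwB, ← hb', map_add, LinearMap.add_apply]
      show (B b v + B (T b) v) ^ 2 = (B (T b) (T v) + B (T b) v) ^ 2
      rw [hBT]
    rw [hsq_add] at h6
    linear_combination h6 + (μ (T v) * μ (T v)) * h2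

end
end Cfsg.Agent.Lib.Helper15
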