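import Mathlib
import Cfsg.Prelude.Def_ClassicalGeometry
import Cfsg.Agent.Lib.Helper15.SympChar2

/-! Helper15 library: embedding groups of K-linear maps preserving an F-valued alternating form into
`Matrix.symplecticGroup` over a subfield F via an adapted F-basis; quadratic extensions of finite fields. -/

set_option autoImplicit false

namespace Cfsg.Agent.Lib.Helper15

open Matrix Module

theorem mem_symplectic_of_preserves {F : Type*} [Field F] {m : ℕ}
    (M : Matrix (Fin m ⊕ Fin m) (Fin m ⊕ Fin m) F)
    (h : ∀ u v, Cfsg.sympForm m F (M *ᵥ u) (M *ᵥ v) = Cfsg.sympForm m F u v) :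
    M ∈ Matrix.symplecticGroup (Fin m) F := by
  rw [SymplecticGroup.mem_iff']
  have key : ∀ u v : Fin m ⊕ Fin m → F,
      u ⬝ᵥ ((Mᵀ * Matrix.J (Fin m) F * M) *ᵥ v) = u ⬝ᵥ (Matrix.J (Fin m) F *ᵥ v) := by
    intro u v
    have := h u v
    unfold Cfsg.sympForm at this
    rw [← this, ← Matrix.mulVec_mulVec, ← Matrix.mulVec_mulVec, Matrix.dotProduct_mulVec u Mᵀ,
      Matrix.vecMul_transpose]
  ext i j
  have := key (Pi.single i 1) (Pi.single j 1)
  simpa using this

theorem embed_of_basis {K F : Type*} [Field K] [Field F] [Algebra F K] {I : Type*} [Fintype I]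
    [DecidableEq I] {m : ℕ} (B : Basis (Fin m ⊕ Fin m) F (I → K)) (Ψ : (I → K) → (I → K) → F)
    (hB : ∀ x y, Cfsg.sympForm m F (B.equivFun x) (B.equivFun y) = Ψ x y)
    {G : Type*} [Group G] (ρ : G →* Matrix I I K) (hρ : Function.Injective ρ)
    (hG : ∀ g x y, Ψ (ρ g *ᵥ x) (ρ g *ᵥ y) = Ψ x y) :
    ∃ φ : G →* Matrix.symplecticGroup (Fin m) F, Function.Injective φ := by
  classical
  let L : G → ((I → K) →ₗ[F] (I → K)) := fun g => (Matrix.toLin' (ρ g)).restrictScalars F
  have hL1 : L 1 = LinearMap.id := by
    ext x : 1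
    simp [L]
  have hLmul : ∀ g h, L (g * h) = (L g).comp (L h) := by
    intro g h
    ext x : 1
    simp [L]
  let M : G → Matrix (Fin m ⊕ Fin m) (Fin m ⊕ Fin m) F := fun g => LinearMap.toMatrix B B (L g)
  have hMv : ∀ g x, M g *ᵥ B.equivFun x = B.equivFun (ρ g *ᵥ x) := by
    intro g x
    have := LinearMap.toMatrix_mulVec_repr B B (L g) x
    simpa [M, L] using this
  have hMmem : ∀ g, M g ∈ Matrix.symplecticGroup (Fin m) F := by
    intro g
    apply mem_symplectic_of_preserves
    intro u v
    obtain ⟨x, rfl⟩ := B.equivFun.surjective u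
    obtain ⟨y, rfl⟩ := B.equivFun.surjective v
    rw [hMv, hMv, hB, hB, hG]
  refine ⟨{ toFun := fun g => ⟨M g, hMmem g⟩, map_one' := ?_, map_mul' := ?_ }, ?_⟩
  · apply Subtype.ext
    show M 1 = 1
    simp only [M, hL1, LinearMap.toMatrix_id]
  · intro g h
    apply Subtype.ext
    show M (g * h) = M g * M h
    simp only [M, hLmul, LinearMap.toMatrix_comp B B B]
  · intro g h hgh
    have h1 : M g = M h := congrArg Subtype.val hgh
    have h2 : L g = L h := (LinearMap.toMatrix B B).injective h1
    have h3 : Matrix.toLin' (ρ g) = Matrix.toLin' (ρ h) :=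
      LinearMap.restrictScalars_injective F h2
    exact hρ (Matrix.toLin'.injective h3)


theorem exists_ringHom_of_card_sq {F K : Type*} [Field F] [Fintype F] [Field K] [Fintype K]
    (h : Fintype.card K = Fintype.card F ^ 2) : Nonempty (F →+* K) := by
  obtain ⟨p, hp⟩ := CharP.exists F
  have : Fact p.Prime := ⟨CharP.char_is_prime F p⟩
  let _ : Fintype (FiniteField.Extension F p 2) := Fintype.ofFinite _
  have hcard : Fintype.card (FiniteField.Extension F p 2) = Fintype.card K := by
    rw [h, Fintype.card_eq_nat_card, FiniteField.natCard_extension, Nat.card_eq_fintype_card]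
  let e : FiniteField.Extension F p 2 ≃+* K := FiniteField.ringEquivOfCardEq hcard
  exact ⟨(e : FiniteField.Extension F p 2 →+* K).comp (algebraMap F (FiniteField.Extension F p 2))⟩

theorem finrank_eq_two_of_card_sq {F K : Type*} [Field F] [Fintype F] [Field K] [Fintype K]
    [Algebra F K] (h : Fintype.card K = Fintype.card F ^ 2) : finrank F K = 2 := by
  have := Module.card_eq_pow_finrank (K := F) (V := K)
  rw [h] at this
  exact (Nat.pow_right_injective Fintype.one_lt_card this).symm

theorem dual_pairing {F K : Type*} [Field F] [Field K] [Algebra F K] [FiniteDimensional F K]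
    [Algebra.IsSeparable F K] {ι : Type*} [Fintype ι] [DecidableEq ι] (b : Basis ι F K) (u w : K) :
    ∑ s, b.repr u s * ((Algebra.traceForm F K).dualBasis (traceForm_nondegenerate F K) b).repr w s
      = Algebra.trace F K (u * w) := by
  simp only [LinearMap.BilinForm.dualBasis_repr_apply, Algebra.traceForm_apply]
  calc ∑ s, b.repr u s * Algebra.trace F K (w * b s)
      = Algebra.trace F K (w * ∑ s, b.repr u s • b s) := by
        rw [Finset.mul_sum, map_sum]
        apply Finset.sum_congr rfl
        intro s _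
        rw [mul_smul_comm, map_smul, smul_eq_mul]
    _ = Algebra.trace F K (u * w) := by rw [b.sum_repr, mul_comm]

end Cfsg.Agent.Lib.Helper15
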