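import Mathlib
import Cfsg.Prelude.Def_ClassicalGeometry
import Cfsg.Agent.Lib.Helper15.FieldExt
import Cfsg.Agent.Lib.Helper14.SympCount

/-! Helper15 library: orders of isometry groups of non-degenerate symmetric bilinear forms over
finite fields of characteristic two (abstract spaces). -/

set_option autoImplicit false

namespace Cfsg.Agent.Lib.Helper15.SymIso

open Module

universe u

section general

variable {F : Type*} [Field F] {W : Type*} [AddCommGroup W] [Module F W]

/-- the isometry group of a bilinear form -/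
def Og (γ : LinearMap.BilinForm F W) : Subgroup (W ≃ₗ[F] W) where
  carrier := {h | ∀ x y, γ (h x) (h y) = γ x y}
  mul_mem' := by
    intro a b ha hb x y
    show γ (a (b x)) (a (b y)) = _
    rw [ha, hb]
  one_mem' := by
    intro x y
    rfl
  inv_mem' := by
    intro a ha x y
    have h1 := ha (a⁻¹ x) (a⁻¹ y)
    have h2 : ∀ z, a (a⁻¹ z) = z := fun z => a.apply_symm_apply z
    rw [h2, h2] at h1
    exact h1.symm

lemma mem_Og (γ : LinearMap.BilinForm F W) (h : W ≃ₗ[F] W) :
    h ∈ Og γ ↔ ∀ x y, γ (h x) (h y) = γ x y := Iff.rfl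

/-- hyperbolic systems -/
def Hyp (γ : LinearMap.BilinForm F W) (k : ℕ) (e f : Fin k → W) : Prop :=
  (∀ i j, γ (e i) (e j) = 0) ∧ (∀ i j, γ (f i) (f j) = 0) ∧
    (∀ i j, γ (e i) (f j) = if i = j then 1 else 0)

lemma alt_swap (γ : LinearMap.BilinForm F W) (halt : ∀ x, γ x x = 0) (x y : W) :
    γ y x = - γ x y := by
  have h := halt (x + y)
  simp only [map_add, LinearMap.add_apply, halt] at h
  linear_combination h

end general

section hyp

variable {F : Type*} [Field F]

/-- the perpendicular space of a pair -/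
def pairPerp {W : Type u} [AddCommGroup W] [Module F W] (γ : LinearMap.BilinForm F W) (x y : W) :
    Submodule F W := LinearMap.ker (γ x) ⊓ LinearMap.ker (γ y)

lemma mem_pairPerp {W : Type u} [AddCommGroup W] [Module F W] (γ : LinearMap.BilinForm F W)
    (x y v : W) : v ∈ pairPerp γ x y ↔ γ x v = 0 ∧ γ y v = 0 := by
  unfold pairPerp
  rw [Submodule.mem_inf, LinearMap.mem_ker, LinearMap.mem_ker]

lemma proj_mem {W : Type u} [AddCommGroup W] [Module F W] (γ : LinearMap.BilinForm F W)
    (halt : ∀ x, γ x x = 0) (x y : W) (hxy : γ x y = 1) (w : W) :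
    w + γ y w • x - γ x w • y ∈ pairPerp γ x y := by
  rw [mem_pairPerp]
  have hyx : γ y x = -1 := by rw [alt_swap γ halt x y, hxy]
  constructor
  · rw [map_sub, map_add, map_smul, map_smul, halt, hxy]
    simp
  · rw [map_sub, map_add, map_smul, map_smul, halt, hyx]
    simp

lemma finrank_pairPerp' {W : Type u} [AddCommGroup W] [Module F W] [FiniteDimensional F W]
    (γ : LinearMap.BilinForm F W) (x y u1 u2 : W) (h11 : γ x u1 = 1) (h12 : γ y u1 = 0)
    (h21 : γ x u2 = 0) (h22 : γ y u2 = 1) :
    finrank F (pairPerp γ x y) + 2 = finrank F W := by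
  let T : W →ₗ[F] (F × F) := (γ x).prod (γ y)
  have hk : LinearMap.ker T = pairPerp γ x y := by
    ext v
    rw [LinearMap.mem_ker, mem_pairPerp]
    show ((γ x) v, (γ y) v) = 0 ↔ _
    rw [Prod.mk_eq_zero]
  have hs : Function.Surjective T := by
    rintro ⟨a, b⟩
    refine ⟨a • u1 + b • u2, ?_⟩
    show ((γ x) (a • u1 + b • u2), (γ y) (a • u1 + b • u2)) = (a, b)
    rw [map_add, map_add, map_smul, map_smul, map_smul, map_smul, h11, h12, h21, h22]
    simp
  have h1 := LinearMap.finrank_range_add_finrank_ker T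
  rw [LinearMap.range_eq_top.2 hs, finrank_top, hk, Module.finrank_prod, Module.finrank_self] at h1
  omega

lemma finrank_pairPerp {W : Type u} [AddCommGroup W] [Module F W] [FiniteDimensional F W]
    (γ : LinearMap.BilinForm F W)
    (halt : ∀ x, γ x x = 0) (x y : W) (hxy : γ x y = 1) :
    finrank F (pairPerp γ x y) + 2 = finrank F W := by
  have hyx : γ y x = -1 := by rw [alt_swap γ halt x y, hxy]
  let T : W →ₗ[F] (F × F) := (γ x).prod (γ y)
  have hk : LinearMap.ker T = pairPerp γ x y := by
    ext v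
    rw [LinearMap.mem_ker, mem_pairPerp]
    show ((γ x) v, (γ y) v) = 0 ↔ _
    rw [Prod.mk_eq_zero]
  have hs : Function.Surjective T := by
    rintro ⟨a, b⟩
    refine ⟨a • y - b • x, ?_⟩
    show ((γ x) (a • y - b • x), (γ y) (a • y - b • x)) = (a, b)
    rw [map_sub, map_sub, map_smul, map_smul, map_smul, map_smul, halt, halt, hxy, hyx]
    simp
  have h1 := LinearMap.finrank_range_add_finrank_ker T
  rw [LinearMap.range_eq_top.2 hs, finrank_top, hk, Module.finrank_prod, Module.finrank_self] at h1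
  omega

theorem exists_hyp : ∀ (n : ℕ) (W : Type u) [AddCommGroup W] [Module F W]
    [FiniteDimensional F W] (γ : LinearMap.BilinForm F W), (∀ x, γ x x = 0) →
    (∀ x, (∀ y, γ x y = 0) → x = 0) → finrank F W = n →
    ∃ (k : ℕ) (e f : Fin k → W), 2 * k = n ∧ Hyp γ k e f := by
  intro n
  induction n using Nat.strong_induction_on with
  | _ n ih =>
    intro W _ _ _ γ halt hnd hn
    by_cases h0 : n = 0
    · subst h0
      exact ⟨0, Fin.elim0, Fin.elim0, rfl, fun i => i.elim0, fun i => i.elim0, fun i => i.elim0⟩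
    · have hpos : 0 < finrank F W := by omega
      obtain ⟨x, hx⟩ := Module.finrank_pos_iff_exists_ne_zero.1 hpos
      have h1 : ∃ y', γ x y' ≠ 0 := by
        by_contra hcon
        push Not at hcon
        exact hx (hnd x hcon)
      obtain ⟨y', hy'⟩ := h1
      set y : W := (γ x y')⁻¹ • y' with hy
      have hxy : γ x y = 1 := by
        rw [hy, map_smul, smul_eq_mul, inv_mul_cancel₀ hy']
      have hyx : γ y x = -1 := by rw [alt_swap γ halt x y, hxy]
      have hfr := finrank_pairPerp γ halt x y hxy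
      -- the restricted form
      let γ' : LinearMap.BilinForm F (pairPerp γ x y) := γ.restrict (pairPerp γ x y)
      have hγ' : ∀ a b : pairPerp γ x y, γ' a b = γ a.1 b.1 := fun a b => rfl
      have halt' : ∀ a, γ' a a = 0 := fun a => halt a.1
      have hnd' : ∀ a, (∀ b, γ' a b = 0) → a = 0 := by
        intro a ha
        apply Subtype.ext
        apply hnd a.1
        intro w
        have h2 := ha ⟨_, proj_mem γ halt x y hxy w⟩
        rw [hγ'] at h2
        have hax : γ a.1 x = 0 := by
          rw [alt_swap γ halt x a.1, ((mem_pairPerp γ x y a.1).1 a.2).1, neg_zero]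
        have hay : γ a.1 y = 0 := by
          rw [alt_swap γ halt y a.1, ((mem_pairPerp γ x y a.1).1 a.2).2, neg_zero]
        simp only [map_sub, map_add, map_smul, hax, hay, smul_zero, add_zero, sub_zero] at h2
        exact h2
      obtain ⟨k', e', f', hk', he', hf', hef'⟩ :=
        ih (n - 2) (by omega) (pairPerp γ x y) γ' halt' hnd' (by omega)
      refine ⟨k' + 1, Fin.cons x (fun i => (e' i).1), Fin.cons y (fun i => (f' i).1), by omega,
        ?_, ?_, ?_⟩
      · intro i j
        refine Fin.cases ?_ (fun i' => ?_) i <;> refine Fin.cases ?_ (fun j' => ?_) j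
        · simp only [Fin.cons_zero]
          exact halt x
        · simp only [Fin.cons_zero, Fin.cons_succ]
          exact ((mem_pairPerp γ x y _).1 (e' j').2).1
        · simp only [Fin.cons_zero, Fin.cons_succ]
          rw [alt_swap γ halt x _, ((mem_pairPerp γ x y _).1 (e' i').2).1, neg_zero]
        · simp only [Fin.cons_succ]
          exact he' i' j'
      · intro i j
        refine Fin.cases ?_ (fun i' => ?_) i <;> refine Fin.cases ?_ (fun j' => ?_) j
        · simp only [Fin.cons_zero]
          exact halt y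
        · simp only [Fin.cons_zero, Fin.cons_succ]
          exact ((mem_pairPerp γ x y _).1 (f' j').2).2
        · simp only [Fin.cons_zero, Fin.cons_succ]
          rw [alt_swap γ halt y _, ((mem_pairPerp γ x y _).1 (f' i').2).2, neg_zero]
        · simp only [Fin.cons_succ]
          exact hf' i' j'
      · intro i j
        refine Fin.cases ?_ (fun i' => ?_) i <;> refine Fin.cases ?_ (fun j' => ?_) j
        · rw [Fin.cons_zero, Fin.cons_zero, if_pos rfl]
          exact hxy
        · rw [Fin.cons_zero, Fin.cons_succ, if_neg (Fin.succ_ne_zero j').symm]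
          exact ((mem_pairPerp γ x y _).1 (f' j').2).1
        · rw [Fin.cons_succ, Fin.cons_zero, if_neg (Fin.succ_ne_zero i'), alt_swap γ halt y _,
            ((mem_pairPerp γ x y _).1 (e' i').2).2, neg_zero]
        · rw [Fin.cons_succ, Fin.cons_succ]
          have h2 := hef' i' j'
          by_cases h : i' = j'
          · rw [if_pos (congrArg Fin.succ h)]
            rw [if_pos h] at h2
            exact h2
          · rw [if_neg (fun hh => h (Fin.succ_injective _ hh))]
            rw [if_neg h] at h2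
            exact h2

end hyp


section transfer

variable {F : Type*} [Field F]

lemma gram_J {W : Type u} [AddCommGroup W] [Module F W] (γ : LinearMap.BilinForm F W)
    (halt : ∀ x, γ x x = 0) {k : ℕ} {e f : Fin k → W} (h : Hyp γ k e f) (a b : Fin k ⊕ Fin k) :
    γ (Sum.elim f e a) (Sum.elim f e b) = Matrix.J (Fin k) F a b := by
  rcases a with i | i <;> rcases b with j | j
  · show γ (f i) (f j) = _
    rw [h.2.1, Cfsg.Agent.Lib.Helper14.J_inl_inl]
  · show γ (f i) (e j) = _
    rw [alt_swap γ halt (e j) (f i), h.2.2, Cfsg.Agent.Lib.Helper14.J_inl_inr]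
    by_cases hij : i = j
    · subst hij
      rw [if_pos rfl, if_pos rfl]
    · rw [if_neg (fun hh => hij hh.symm), if_neg hij, neg_zero]
  · show γ (e i) (f j) = _
    rw [h.2.2, Cfsg.Agent.Lib.Helper14.J_inr_inl]
  · show γ (e i) (e j) = _
    rw [h.1, Cfsg.Agent.Lib.Helper14.J_inr_inr]

theorem exists_symp_equiv (W : Type u) [AddCommGroup W] [Module F W]
    [FiniteDimensional F W] (γ : LinearMap.BilinForm F W) (halt : ∀ x, γ x x = 0)
    (hnd : ∀ x, (∀ y, γ x y = 0) → x = 0) :
    ∃ (k : ℕ) (φ : W ≃ₗ[F] (Fin k ⊕ Fin k → F)), 2 * k = finrank F W ∧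
      ∀ x y, Cfsg.sympForm k F (φ x) (φ y) = γ x y := by
  obtain ⟨k, e, f, hk, hyp⟩ := exists_hyp (F := F) (finrank F W) W γ halt hnd rfl
  let ψ : (Fin k ⊕ Fin k → F) →ₗ[F] W := Fintype.linearCombination F (Sum.elim f e)
  have hψ : ∀ u v, γ (ψ u) (ψ v) = Cfsg.sympForm k F u v := by
    intro u v
    show γ (Fintype.linearCombination F (Sum.elim f e) u)
      (Fintype.linearCombination F (Sum.elim f e) v) = _
    rw [Fintype.linearCombination_apply, Fintype.linearCombination_apply,
      LinearMap.BilinForm.sum_left]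
    unfold Cfsg.sympForm
    rw [dotProduct]
    apply Finset.sum_congr rfl
    intro a _
    rw [LinearMap.BilinForm.smul_left, LinearMap.BilinForm.sum_right, Matrix.mulVec, dotProduct]
    congr 1
    apply Finset.sum_congr rfl
    intro b _
    rw [LinearMap.BilinForm.smul_right, gram_J γ halt hyp, mul_comm]
  have hinj : Function.Injective ψ := by
    rw [← LinearMap.ker_eq_bot, LinearMap.ker_eq_bot']
    intro u hu
    have h1 : ∀ v, Cfsg.Agent.Lib.Helper15.sympBilin k u v = 0 := by
      intro v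
      rw [Cfsg.Agent.Lib.Helper15.sympBilin_apply, ← hψ, hu, map_zero, LinearMap.zero_apply]
    exact (Cfsg.Agent.Lib.Helper15.sympBilin_nondegenerate (F := F) k).1 u h1
  have hfr : finrank F (Fin k ⊕ Fin k → F) = finrank F W := by
    rw [Module.finrank_fintype_fun_eq_card, Fintype.card_sum, Fintype.card_fin]
    omega
  have hsurj : Function.Surjective ψ :=
    (LinearMap.injective_iff_surjective_of_finrank_eq_finrank hfr).1 hinj
  let Ψ : (Fin k ⊕ Fin k → F) ≃ₗ[F] W := LinearEquiv.ofBijective ψ ⟨hinj, hsurj⟩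
  refine ⟨k, Ψ.symm, hk, ?_⟩
  intro x y
  obtain ⟨u, rfl⟩ := Ψ.surjective x
  obtain ⟨v, rfl⟩ := Ψ.surjective y
  rw [LinearEquiv.symm_apply_apply, LinearEquiv.symm_apply_apply]
  exact (hψ u v).symm

lemma sp_val_mul_inv {k : ℕ} (g : Matrix.symplecticGroup (Fin k) F) : g.1 * (g⁻¹).1 = 1 := by
  have h : (g * g⁻¹).1 = 1 := by rw [mul_inv_cancel]; rfl
  exact h

lemma sp_val_inv_mul {k : ℕ} (g : Matrix.symplecticGroup (Fin k) F) : (g⁻¹).1 * g.1 = 1 := by
  have h : (g⁻¹ * g).1 = 1 := by rw [inv_mul_cancel]; rfl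
  exact h

theorem card_Og_alt (W : Type u) [AddCommGroup W] [Module F W]
    [FiniteDimensional F W] (γ : LinearMap.BilinForm F W) (halt : ∀ x, γ x x = 0)
    (hnd : ∀ x, (∀ y, γ x y = 0) → x = 0) (k : ℕ) (hk : 2 * k = finrank F W) :
    Nat.card (Og γ) = Nat.card (Matrix.symplecticGroup (Fin k) F) := by
  obtain ⟨k', φ, hk', hφ⟩ := exists_symp_equiv W γ halt hnd
  have : k' = k := by omega
  subst this
  apply Nat.card_congr
  refine
    { toFun := fun h => ⟨LinearMap.toMatrix'
        (φ.toLinearMap ∘ₗ h.1.toLinearMap ∘ₗ φ.symm.toLinearMap), ?_⟩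
      invFun := fun A => ⟨φ.trans ((Matrix.toLin'OfInv (sp_val_inv_mul A)
        (sp_val_mul_inv A)).trans φ.symm), ?_⟩
      left_inv := ?_
      right_inv := ?_ }
  · apply Cfsg.Agent.Lib.Helper15.mem_symplectic_of_preserves
    intro u v
    rw [LinearMap.toMatrix'_mulVec, LinearMap.toMatrix'_mulVec]
    show Cfsg.sympForm k' F (φ (h.1 (φ.symm u))) (φ (h.1 (φ.symm v))) = _
    rw [hφ, h.2, ← hφ, LinearEquiv.apply_symm_apply, LinearEquiv.apply_symm_apply]
  · rw [mem_Og]
    intro x y
    show γ (φ.symm (Matrix.toLin' A.1 (φ x))) (φ.symm (Matrix.toLin' A.1 (φ y))) = _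
    rw [← hφ, LinearEquiv.apply_symm_apply, LinearEquiv.apply_symm_apply, Matrix.toLin'_apply,
      Matrix.toLin'_apply, Cfsg.Agent.Lib.Helper15.sympForm_invariant, hφ]
  · intro h
    apply Subtype.ext
    apply LinearEquiv.ext
    intro x
    show φ.symm (Matrix.toLin' (LinearMap.toMatrix'
        (φ.toLinearMap ∘ₗ h.1.toLinearMap ∘ₗ φ.symm.toLinearMap)) (φ x)) = h.1 x
    rw [Matrix.toLin'_toMatrix']
    show φ.symm (φ (h.1 (φ.symm (φ x)))) = h.1 x
    rw [LinearEquiv.symm_apply_apply, LinearEquiv.symm_apply_apply]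
  · intro A
    apply Subtype.ext
    show LinearMap.toMatrix' _ = A.1
    rw [← LinearMap.toMatrix'_toLin' A.1]
    congr 1
    apply LinearMap.ext
    intro u
    show φ (φ.symm (Matrix.toLin' A.1 (φ (φ.symm u)))) = Matrix.toLin' A.1 u
    rw [LinearEquiv.apply_symm_apply, LinearEquiv.apply_symm_apply]

end transfer


section ext

variable {F : Type*} [Field F] {W : Type u} [AddCommGroup W] [Module F W] [FiniteDimensional F W]

/-- isometries fixing a subspace pointwise correspond to isometries of its orthogonal complement -/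
theorem card_fix_eq (γ : LinearMap.BilinForm F W) (hs : ∀ x y, γ x y = γ y x)
    (P V' : Submodule F W) (hc : IsCompl P V') (horth : ∀ p ∈ P, ∀ v ∈ V', γ p v = 0)
    (hperp : ∀ v, (∀ p ∈ P, γ p v = 0) → v ∈ V') :
    Nat.card {h : Og γ // ∀ p ∈ P, h.1 p = p} = Nat.card (Og (γ.restrict V')) := by
  have hdec : ∀ x : W, ∃ p ∈ P, ∃ v ∈ V', x = p + v := by
    intro x
    have hx : x ∈ P ⊔ V' := by rw [hc.sup_eq_top]; exact Submodule.mem_top
    obtain ⟨p, hp, v, hv, rfl⟩ := Submodule.mem_sup.1 hx
    exact ⟨p, hp, v, hv, rfl⟩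
  have hmaps : ∀ h : Og γ, (∀ p ∈ P, h.1 p = p) → ∀ v ∈ V', h.1 v ∈ V' := by
    intro h hfix v hv
    apply hperp
    intro p hp
    have h1 := h.2 p v
    rw [hfix p hp] at h1
    rw [h1]
    exact horth p hp v hv
  let E := P.prodEquivOfIsCompl V' hc
  apply Nat.card_congr
  refine
    { toFun := fun h => ⟨LinearEquiv.ofBijective
          (h.1.1.toLinearMap.restrict (hmaps h.1 h.2)) ⟨?_, ?_⟩, ?_⟩
      invFun := fun h' => ⟨⟨E.symm.trans (((LinearEquiv.refl F P).prodCongr h'.1).trans E), ?_⟩, ?_⟩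
      left_inv := ?_
      right_inv := ?_ }
  · intro a b hab
    apply Subtype.ext
    have h1 := congrArg Subtype.val hab
    exact h.1.1.injective h1
  · apply LinearMap.injective_iff_surjective.1
    intro a b hab
    apply Subtype.ext
    have h1 := congrArg Subtype.val hab
    exact h.1.1.injective h1
  · rw [mem_Og]
    intro x y
    exact h.1.2 x.1 y.1
  · rw [mem_Og]
    have hval : ∀ x : W, (E.symm.trans (((LinearEquiv.refl F P).prodCongr h'.1).trans E)) x =
        ((E.symm x).1 : W) + ((h'.1 (E.symm x).2 : V') : W) := by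
      intro x
      show E ((E.symm x).1, h'.1 (E.symm x).2) = _
      rw [Submodule.coe_prodEquivOfIsCompl']
    have hx : ∀ x : W, x = ((E.symm x).1 : W) + ((E.symm x).2 : W) := by
      intro x
      have := Submodule.coe_prodEquivOfIsCompl' P V' hc (E.symm x)
      rw [← this]
      exact (E.apply_symm_apply x).symm
    intro x y
    rw [hval, hval]
    nth_rewrite 3 [hx x]
    nth_rewrite 3 [hx y]
    set p := (E.symm x).1
    set v := (E.symm x).2
    set p' := (E.symm y).1
    set v' := (E.symm y).2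
    have h1 : γ (h'.1 v : W) (h'.1 v' : W) = γ (v : W) (v' : W) := h'.2 v v'
    have c1 : γ (p : W) ((h'.1 v' : V') : W) = 0 := horth p p.2 _ (h'.1 v').2
    have c2 : γ ((h'.1 v : V') : W) (p' : W) = 0 := by
      rw [hs]
      exact horth p' p'.2 _ (h'.1 v).2
    have c3 : γ (p : W) (v' : W) = 0 := horth p p.2 _ v'.2
    have c4 : γ (v : W) (p' : W) = 0 := by
      rw [hs]
      exact horth p' p'.2 _ v.2
    simp only [map_add, LinearMap.add_apply, c1, c2, c3, c4, h1]
  · intro p hp
    show E ((E.symm p).1, h'.1 (E.symm p).2) = p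
    have h1 : E.symm p = (⟨p, hp⟩, 0) := Submodule.prodEquivOfIsCompl_symm_apply_left P V' hc ⟨p, hp⟩
    rw [h1, Submodule.coe_prodEquivOfIsCompl']
    simp
  · intro h
    apply Subtype.ext
    apply Subtype.ext
    apply LinearEquiv.ext
    intro x
    obtain ⟨p, hp, v, hv, rfl⟩ := hdec x
    have hx : p + v = E (⟨p, hp⟩, ⟨v, hv⟩) :=
      (Submodule.coe_prodEquivOfIsCompl' P V' hc (⟨p, hp⟩, ⟨v, hv⟩)).symm
    have key : ∀ (h'' : V' ≃ₗ[F] V') (q : P × V'),
        (E.symm.trans (((LinearEquiv.refl F P).prodCongr h'').trans E)) (E q) =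
          E (q.1, h'' q.2) := by
      intro h'' q
      show E ((E.symm (E q)).1, h'' (E.symm (E q)).2) = _
      rw [E.symm_apply_apply]
    show (E.symm.trans (((LinearEquiv.refl F P).prodCongr _).trans E)) (p + v) = h.1.1 (p + v)
    rw [hx, key, Submodule.coe_prodEquivOfIsCompl', ← hx, map_add, h.2 p hp]
    rfl
  · intro h'
    apply Subtype.ext
    apply LinearEquiv.ext
    intro v
    apply Subtype.ext
    show E ((E.symm (v : W)).1, h'.1 (E.symm (v : W)).2) = _
    have h1 : E.symm (v : W) = (0, v) := Submodule.prodEquivOfIsCompl_symm_apply_right P V' hc v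
    rw [h1, Submodule.coe_prodEquivOfIsCompl']
    simp

end ext


section char2

variable {F : Type*} [Field F] [Finite F] [CharP F 2]

lemma two_eq_zero' : (2 : F) = 0 := by
  have := CharP.cast_eq_zero F 2
  exact_mod_cast this

lemma sq_inj (x y : F) (h : x * x = y * y) : x = y := by
  have h2 : (2 : F) = 0 := two_eq_zero'
  have h1 : (x - y) * (x - y) = 0 := by
    linear_combination h + (y * y - x * y) * h2
  have h3 : x - y = 0 := by
    rcases mul_eq_zero.1 h1 with h | h <;> exact h
  exact sub_eq_zero.1 h3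

lemma sq_surj (a : F) : ∃ r : F, r * r = a :=
  Finite.injective_iff_surjective.1 (fun x y (h : x * x = y * y) => sq_inj x y h) a

/-- square roots in a finite field of characteristic two -/
noncomputable def sqrt2 (a : F) : F := Classical.choose (sq_surj a)

lemma sqrt2_mul_self (a : F) : sqrt2 a * sqrt2 a = a := Classical.choose_spec (sq_surj a)

lemma sqrt2_unique (a r : F) (h : r * r = a) : sqrt2 a = r :=
  sq_inj _ _ (by rw [sqrt2_mul_self, h])

variable {W : Type u} [AddCommGroup W] [Module F W]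

/-- the linear functional whose square is `v ↦ γ v v` -/
noncomputable def lam (γ : LinearMap.BilinForm F W) (hs : ∀ x y, γ x y = γ y x) : W →ₗ[F] F where
  toFun v := sqrt2 (γ v v)
  map_add' v w := by
    apply sqrt2_unique
    have h2 : (2 : F) = 0 := two_eq_zero'
    simp only [map_add, LinearMap.add_apply]
    have e1 := sqrt2_mul_self (γ v v)
    have e2 := sqrt2_mul_self (γ w w)
    rw [hs w v]
    linear_combination e1 + e2 + (sqrt2 (γ v v) * sqrt2 (γ w w) - γ v w) * h2
  map_smul' c v := by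
    apply sqrt2_unique
    have e1 := sqrt2_mul_self (γ v v)
    simp only [map_smul, LinearMap.smul_apply, smul_eq_mul, RingHom.id_apply]
    linear_combination c * c * e1

lemma lam_sq (γ : LinearMap.BilinForm F W) (hs : ∀ x y, γ x y = γ y x) (v : W) :
    lam γ hs v * lam γ hs v = γ v v := sqrt2_mul_self _

variable [FiniteDimensional F W]

lemma exists_z (γ : LinearMap.BilinForm F W) (hs : ∀ x y, γ x y = γ y x)
    (hnd : ∀ x, (∀ y, γ x y = 0) → x = 0) : ∃ z : W, ∀ v, γ z v = lam γ hs v := by
  have hinj : Function.Injective (γ : W →ₗ[F] (W →ₗ[F] F)) := by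
    rw [← LinearMap.ker_eq_bot, LinearMap.ker_eq_bot']
    intro x hx
    apply hnd
    intro y
    rw [hx, LinearMap.zero_apply]
  have hfr : finrank F W = finrank F (W →ₗ[F] F) := (Subspace.dual_finrank_eq (K := F) (V := W)).symm
  have hsurj := (LinearMap.injective_iff_surjective_of_finrank_eq_finrank hfr).1 hinj
  obtain ⟨z, hz⟩ := hsurj (lam γ hs)
  exact ⟨z, fun v => by rw [hz]⟩

lemma lam_iso (γ : LinearMap.BilinForm F W) (hs : ∀ x y, γ x y = γ y x) (h : Og γ) (v : W) :
    lam γ hs (h.1 v) = lam γ hs v := by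
  apply sq_inj
  rw [lam_sq, lam_sq, h.2]

lemma z_fixed (γ : LinearMap.BilinForm F W) (hs : ∀ x y, γ x y = γ y x)
    (hnd : ∀ x, (∀ y, γ x y = 0) → x = 0) (z : W) (hz : ∀ v, γ z v = lam γ hs v) (h : Og γ) :
    h.1 z = z := by
  have h1 : ∀ y, γ (h.1 z - z) y = 0 := by
    intro y
    obtain ⟨v, rfl⟩ := h.1.surjective y
    rw [map_sub, LinearMap.sub_apply, h.2, hz, hz, lam_iso, sub_self]
  exact sub_eq_zero.1 (hnd _ h1)


theorem case_one (γ : LinearMap.BilinForm F W) (hs : ∀ x y, γ x y = γ y x)
    (hnd : ∀ x, (∀ y, γ x y = 0) → x = 0) (z : W) (hz : ∀ v, γ z v = lam γ hs v)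
    (h1 : lam γ hs z = 1) :
    ∃ k, finrank F W = 2 * k + 1 ∧
      Nat.card (Og γ) = Nat.card (Matrix.symplecticGroup (Fin k) F) := by
  have hz0 : z ≠ 0 := by
    intro h
    rw [h, map_zero] at h1
    exact zero_ne_one h1
  set P : Submodule F W := Submodule.span F {z} with hP
  set V' : Submodule F W := LinearMap.ker (lam γ hs) with hV'
  have hdec : ∀ x : W, x - lam γ hs x • z ∈ V' := by
    intro x
    rw [hV', LinearMap.mem_ker, map_sub, map_smul, h1, smul_eq_mul, mul_one, sub_self]
  have hc : IsCompl P V' := by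
    apply IsCompl.of_eq
    · rw [Submodule.eq_bot_iff]
      intro x hx
      obtain ⟨hx1, hx2⟩ := Submodule.mem_inf.1 hx
      obtain ⟨a, rfl⟩ := Submodule.mem_span_singleton.1 hx1
      rw [hV', LinearMap.mem_ker, map_smul, h1, smul_eq_mul, mul_one] at hx2
      rw [hx2, zero_smul]
    · rw [Submodule.eq_top_iff']
      intro x
      have : x = lam γ hs x • z + (x - lam γ hs x • z) := by abel
      rw [this]
      exact Submodule.add_mem_sup (Submodule.smul_mem _ _ (Submodule.mem_span_singleton_self z))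
        (hdec x)
  have horth : ∀ p ∈ P, ∀ v ∈ V', γ p v = 0 := by
    intro p hp v hv
    obtain ⟨a, rfl⟩ := Submodule.mem_span_singleton.1 hp
    rw [hV', LinearMap.mem_ker] at hv
    rw [map_smul, LinearMap.smul_apply, hz, hv, smul_zero]
  have hperp : ∀ v, (∀ p ∈ P, γ p v = 0) → v ∈ V' := by
    intro v hv
    rw [hV', LinearMap.mem_ker, ← hz]
    exact hv z (Submodule.mem_span_singleton_self z)
  have halt' : ∀ a : V', γ.restrict V' a a = 0 := by
    intro a
    show γ a.1 a.1 = 0
    have h2 : lam γ hs a.1 = 0 := a.2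
    rw [← lam_sq γ hs, h2, zero_mul]
  have hnd' : ∀ a : V', (∀ b : V', γ.restrict V' a b = 0) → a = 0 := by
    intro a ha
    apply Subtype.ext
    apply hnd
    intro x
    have h2 : lam γ hs a.1 = 0 := a.2
    have h3 : γ a.1 (x - lam γ hs x • z) = 0 := ha ⟨_, hdec x⟩
    have h4 : x = lam γ hs x • z + (x - lam γ hs x • z) := by abel
    rw [h4, map_add, h3, add_zero, map_smul, hs, hz, h2, smul_zero]
  have hfr := Submodule.finrank_add_eq_of_isCompl hc
  rw [hP, finrank_span_singleton hz0] at hfr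
  obtain ⟨k, φ, hk, -⟩ := exists_symp_equiv V' (γ.restrict V') halt' hnd'
  refine ⟨k, by omega, ?_⟩
  rw [← card_Og_alt V' (γ.restrict V') halt' hnd' k hk,
    ← card_fix_eq γ hs P V' hc horth hperp]
  apply Nat.card_congr
  refine (Equiv.subtypeUnivEquiv ?_).symm
  intro h p hp
  obtain ⟨a, rfl⟩ := Submodule.mem_span_singleton.1 hp
  rw [map_smul, z_fixed γ hs hnd z hz h]


lemma exists_iso_move (γ : LinearMap.BilinForm F W) (hs : ∀ x y, γ x y = γ y x)
    (hnd : ∀ x, (∀ y, γ x y = 0) → x = 0) (z : W) (hz : ∀ v, γ z v = lam γ hs v)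
    (h0 : lam γ hs z = 0) (v0 : W) (hv0 : lam γ hs v0 = 1) (a : W) (ha : lam γ hs a = 0) :
    ∃ g : Og γ, g.1 v0 = v0 + a := by
  have h2 : (2 : F) = 0 := two_eq_zero'
  set c0 : F := γ v0 a with hc0
  let gl : W →ₗ[F] W :=
    LinearMap.id + (lam γ hs).smulRight (a + c0 • z) + (γ a).smulRight z
  have hgl : ∀ v, gl v = v + lam γ hs v • (a + c0 • z) + γ a v • z := fun v => rfl
  have hzr : ∀ x, γ x z = lam γ hs x := fun x => by rw [hs, hz]
  have haa : γ a a = 0 := by rw [← lam_sq γ hs, ha, zero_mul]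
  have hiso : ∀ v w, γ (gl v) (gl w) = γ v w := by
    intro v w
    rw [hgl, hgl]
    simp only [map_add, map_smul, LinearMap.add_apply, LinearMap.smul_apply, smul_eq_mul, hz, hzr,
      ha, h0, haa]
    rw [hs v a]
    linear_combination (lam γ hs w * γ a v + lam γ hs v * lam γ hs w * c0 +
      lam γ hs v * γ a w) * h2
  have hinj : Function.Injective gl := by
    rw [← LinearMap.ker_eq_bot, LinearMap.ker_eq_bot']
    intro v hv
    apply hnd
    intro w
    rw [← hiso, hv, map_zero, LinearMap.zero_apply]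
  let g : W ≃ₗ[F] W := LinearEquiv.ofBijective gl ⟨hinj, LinearMap.injective_iff_surjective.1 hinj⟩
  refine ⟨⟨g, fun v w => hiso v w⟩, ?_⟩
  show gl v0 = v0 + a
  rw [hgl, hv0, one_smul, hs a v0]
  have : c0 • z + c0 • z = 0 := by
    rw [← add_smul, ← two_mul, h2, zero_mul, zero_smul]
  rw [add_assoc, add_assoc, this, add_zero]


theorem case_zero (γ : LinearMap.BilinForm F W) (hs : ∀ x y, γ x y = γ y x)
    (hnd : ∀ x, (∀ y, γ x y = 0) → x = 0) (z : W) (hz : ∀ v, γ z v = lam γ hs v)
    (hz0 : z ≠ 0) (h0 : lam γ hs z = 0) :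
    ∃ k, finrank F W = 2 * k + 2 ∧
      Nat.card (Og γ) =
        Nat.card F ^ (2 * k + 1) * Nat.card (Matrix.symplecticGroup (Fin k) F) := by
  have hex : ∃ v, lam γ hs v ≠ 0 := by
    by_contra hcon
    push Not at hcon
    apply hz0
    apply hnd
    intro y
    rw [hz, hcon]
  obtain ⟨v1, hv1⟩ := hex
  obtain ⟨v0, hv0⟩ : ∃ v0, lam γ hs v0 = 1 :=
    ⟨(lam γ hs v1)⁻¹ • v1, by rw [map_smul, smul_eq_mul, inv_mul_cancel₀ hv1]⟩
  have hzz : γ z z = 0 := by rw [hz, h0]
  have hzv : γ z v0 = 1 := by rw [hz, hv0]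
  have hvz : γ v0 z = 1 := by rw [hs, hzv]
  have hvv : γ v0 v0 = 1 := by rw [← lam_sq γ hs, hv0, one_mul]
  set P : Submodule F W := Submodule.span F {z, v0} with hP
  set V' : Submodule F W := pairPerp γ z v0 with hV'
  have hzP : z ∈ P := Submodule.subset_span (by simp)
  have hvP : v0 ∈ P := Submodule.subset_span (by simp)
  have hdec : ∀ x : W, x - (γ v0 x - γ z x) • z - γ z x • v0 ∈ V' := by
    intro x
    rw [hV', mem_pairPerp]
    constructor
    · simp only [map_sub, map_smul, smul_eq_mul, hzz, hzv]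
      ring
    · simp only [map_sub, map_smul, smul_eq_mul, hvz, hvv]
      ring
  have hc : IsCompl P V' := by
    apply IsCompl.of_eq
    · rw [Submodule.eq_bot_iff]
      intro x hx
      obtain ⟨hx1, hx2⟩ := Submodule.mem_inf.1 hx
      obtain ⟨a, b, rfl⟩ := Submodule.mem_span_pair.1 hx1
      rw [hV', mem_pairPerp] at hx2
      obtain ⟨e1, e2⟩ := hx2
      simp only [map_add, map_smul, smul_eq_mul, hzz, hzv, hvz, hvv] at e1 e2
      have hb : b = 0 := by linear_combination e1
      have ha : a = 0 := by linear_combination e2 - e1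
      rw [ha, hb, zero_smul, zero_smul, add_zero]
    · rw [Submodule.eq_top_iff']
      intro x
      have : x = ((γ v0 x - γ z x) • z + γ z x • v0) +
          (x - (γ v0 x - γ z x) • z - γ z x • v0) := by abel
      rw [this]
      exact Submodule.add_mem_sup (Submodule.add_mem _ (Submodule.smul_mem _ _ hzP)
        (Submodule.smul_mem _ _ hvP)) (hdec x)
  have horth : ∀ p ∈ P, ∀ v ∈ V', γ p v = 0 := by
    intro p hp v hv
    obtain ⟨a, b, rfl⟩ := Submodule.mem_span_pair.1 hp
    rw [hV', mem_pairPerp] at hv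
    rw [map_add, map_smul, map_smul, LinearMap.add_apply, LinearMap.smul_apply,
      LinearMap.smul_apply, hv.1, hv.2, smul_zero, smul_zero, add_zero]
  have hperp : ∀ v, (∀ p ∈ P, γ p v = 0) → v ∈ V' := by
    intro v hv
    rw [hV', mem_pairPerp]
    exact ⟨hv z hzP, hv v0 hvP⟩
  have halt' : ∀ a : V', γ.restrict V' a a = 0 := by
    intro a
    show γ a.1 a.1 = 0
    have h2 : γ z a.1 = 0 := ((mem_pairPerp γ z v0 a.1).1 a.2).1
    rw [← lam_sq γ hs, ← hz, h2, zero_mul]
  have hnd' : ∀ a : V', (∀ b : V', γ.restrict V' a b = 0) → a = 0 := by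
    intro a ha
    apply Subtype.ext
    apply hnd
    intro x
    have h2 : γ z a.1 = 0 := ((mem_pairPerp γ z v0 a.1).1 a.2).1
    have h3 : γ v0 a.1 = 0 := ((mem_pairPerp γ z v0 a.1).1 a.2).2
    have h4 : γ a.1 (x - (γ v0 x - γ z x) • z - γ z x • v0) = 0 := ha ⟨_, hdec x⟩
    have h5 : x = ((γ v0 x - γ z x) • z + γ z x • v0) +
        (x - (γ v0 x - γ z x) • z - γ z x • v0) := by abel
    rw [h5, map_add, h4, add_zero, map_add, map_smul, map_smul, hs a.1 z, hs a.1 v0, h2, h3,
      smul_zero, smul_zero, add_zero]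
  have hfrV : finrank F V' + 2 = finrank F W := by
    apply finrank_pairPerp' γ z v0 (v0 - z) z
    · rw [map_sub, hzv, hzz, sub_zero]
    · rw [map_sub, hvv, hvz, sub_self]
    · exact hzz
    · exact hvz
  obtain ⟨k, φ, hk, -⟩ := exists_symp_equiv V' (γ.restrict V') halt' hnd'
  refine ⟨k, by omega, ?_⟩
  -- orbit-stabilizer
  have horb : MulAction.orbit (Og γ) v0 = {v : W | lam γ hs v = 1} := by
    ext v
    constructor
    · rintro ⟨h, rfl⟩
      show lam γ hs (h.1 v0) = 1
      rw [lam_iso, hv0]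
    · intro hv
      have hv' : lam γ hs v = 1 := hv
      obtain ⟨g, hg⟩ := exists_iso_move γ hs hnd z hz h0 v0 hv0 (v - v0)
        (by rw [map_sub, hv', hv0, sub_self])
      refine ⟨g, ?_⟩
      show g.1 v0 = v
      rw [hg]
      abel
  have hstab : Nat.card (MulAction.stabilizer (Og γ) v0) =
      Nat.card (Matrix.symplecticGroup (Fin k) F) := by
    rw [← card_Og_alt V' (γ.restrict V') halt' hnd' k hk,
      ← card_fix_eq γ hs P V' hc horth hperp]
    apply Nat.card_congr
    apply Equiv.subtypeEquivRight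
    intro h
    rw [MulAction.mem_stabilizer_iff]
    constructor
    · intro hh p hp
      have hh' : h.1 v0 = v0 := hh
      obtain ⟨a, b, rfl⟩ := Submodule.mem_span_pair.1 hp
      rw [map_add, map_smul, map_smul, z_fixed γ hs hnd z hz h, hh']
    · intro hh
      exact hh v0 hvP
  have hker : finrank F (LinearMap.ker (lam γ hs)) = 2 * k + 1 := by
    have h1 := LinearMap.finrank_range_add_finrank_ker (lam γ hs)
    have hsurj : Function.Surjective (lam γ hs) := by
      intro c
      refine ⟨c • v0, ?_⟩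
      rw [map_smul, hv0, smul_eq_mul, mul_one]
    rw [LinearMap.range_eq_top.2 hsurj, finrank_top, Module.finrank_self] at h1
    omega
  have hcount : (MulAction.orbit (Og γ) v0).ncard = Nat.card F ^ (2 * k + 1) := by
    rw [horb, ← Nat.card_coe_set_eq, ← hker, ← Module.natCard_eq_pow_finrank]
    apply Nat.card_congr
    refine
      { toFun := fun v => ⟨v.1 - v0, ?_⟩
        invFun := fun a => ⟨v0 + a.1, ?_⟩
        left_inv := fun v => by
          apply Subtype.ext
          show v0 + (v.1 - v0) = v.1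
          abel
        right_inv := fun a => by
          apply Subtype.ext
          show v0 + a.1 - v0 = a.1
          abel }
    · rw [LinearMap.mem_ker, map_sub, hv0]
      have : lam γ hs v.1 = 1 := v.2
      rw [this, sub_self]
    · show lam γ hs (v0 + a.1) = 1
      have : lam γ hs a.1 = 0 := a.2
      rw [map_add, hv0, this, add_zero]
  rw [← Subgroup.card_mul_index (MulAction.stabilizer (Og γ) v0), MulAction.index_stabilizer,
    hstab, hcount, mul_comm]


lemma lam_z_cases (γ : LinearMap.BilinForm F W) (hs : ∀ x y, γ x y = γ y x) (z : W)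
    (hz : ∀ v, γ z v = lam γ hs v) : lam γ hs z = 0 ∨ lam γ hs z = 1 := by
  have h1 : lam γ hs z * lam γ hs z = lam γ hs z := by rw [lam_sq, hz]
  have h2 : lam γ hs z * (lam γ hs z - 1) = 0 := by linear_combination h1
  rcases mul_eq_zero.1 h2 with h | h
  · exact Or.inl h
  · exact Or.inr (sub_eq_zero.1 h)

/-- odd dimension: the isometry group is a symplectic group of dimension one less -/
theorem card_Og_odd (γ : LinearMap.BilinForm F W) (hs : ∀ x y, γ x y = γ y x)
    (hnd : ∀ x, (∀ y, γ x y = 0) → x = 0) (k : ℕ) (hfr : finrank F W = 2 * k + 1) :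
    Nat.card (Og γ) = Nat.card (Matrix.symplecticGroup (Fin k) F) := by
  obtain ⟨z, hz⟩ := exists_z γ hs hnd
  rcases lam_z_cases γ hs z hz with h0 | h1
  · exfalso
    by_cases hz0 : z = 0
    · have halt : ∀ x, γ x x = 0 := by
        intro x
        rw [← lam_sq γ hs, ← hz, hz0, map_zero, LinearMap.zero_apply, zero_mul]
      obtain ⟨k', φ, hk', -⟩ := exists_symp_equiv W γ halt hnd
      omega
    · obtain ⟨k', hk', -⟩ := case_zero γ hs hnd z hz hz0 h0
      omega
  · obtain ⟨k', hk', hc⟩ := case_one γ hs hnd z hz h1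
    have : k' = k := by omega
    subst this
    exact hc

/-- even dimension, not alternating -/
theorem card_Og_even (γ : LinearMap.BilinForm F W) (hs : ∀ x y, γ x y = γ y x)
    (hnd : ∀ x, (∀ y, γ x y = 0) → x = 0) (hna : ∃ v, γ v v ≠ 0) (k : ℕ)
    (hfr : finrank F W = 2 * k + 2) :
    Nat.card (Og γ) =
      Nat.card F ^ (2 * k + 1) * Nat.card (Matrix.symplecticGroup (Fin k) F) := by
  obtain ⟨z, hz⟩ := exists_z γ hs hnd
  have hz0 : z ≠ 0 := by
    intro h
    obtain ⟨v, hv⟩ := hna
    apply hv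
    rw [← lam_sq γ hs, ← hz, h, map_zero, LinearMap.zero_apply, zero_mul]
  rcases lam_z_cases γ hs z hz with h0 | h1
  · obtain ⟨k', hk', hc⟩ := case_zero γ hs hnd z hz hz0 h0
    have : k' = k := by omega
    subst this
    exact hc
  · exfalso
    obtain ⟨k', hk', -⟩ := case_one γ hs hnd z hz h1
    omega

end char2

end Cfsg.Agent.Lib.Helper15.SymIso
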