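import Mathlib

/-! Helper15 library: classification of quadratic forms over finite fields: singular vectors
(Chevalley-Warning), hyperbolic pairs, orthogonal splitting, hyperbolic families. -/

set_option autoImplicit false

namespace Cfsg.Agent.Lib.Helper15

open Module QuadraticMap



/-- Over a finite field, a quadratic form on a space of dimension at least three has a nonzero
singular vector (Chevalley–Warning). -/
theorem exists_singular_of_three_le {F V : Type*} [Field F] [Finite F] [AddCommGroup V] [Module F V]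
    [FiniteDimensional F V] (Q : QuadraticForm F V) (h3 : 3 ≤ finrank F V) :
    ∃ v : V, v ≠ 0 ∧ Q v = 0 := by
  classical
  have := Fintype.ofFinite F
  obtain ⟨p, hp⟩ := CharP.exists F
  have hpp : p.Prime := CharP.char_is_prime F p
  obtain ⟨β, hβ⟩ := LinearMap.BilinMap.toQuadraticMap_surjective Q
  set n := finrank F V with hn
  let b : Basis (Fin n) F V := Module.finBasis F V
  let P : MvPolynomial (Fin n) F :=
    ∑ i, ∑ j, MvPolynomial.C (β (b i) (b j)) * MvPolynomial.X i * MvPolynomial.X j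
  have hev : ∀ x : Fin n → F, MvPolynomial.eval x P = Q (∑ i, x i • b i) := by
    intro x
    rw [← hβ, LinearMap.BilinMap.toQuadraticMap_apply]
    simp only [P, map_sum, map_mul, MvPolynomial.eval_C, MvPolynomial.eval_X, LinearMap.sum_apply,
      map_smul, LinearMap.smul_apply, smul_eq_mul]
    rw [Finset.sum_comm]
    refine Finset.sum_congr rfl fun i _ => ?_
    rw [Finset.mul_sum]
    refine Finset.sum_congr rfl fun j _ => ?_
    ring
  have hdeg : P.totalDegree < Fintype.card (Fin n) := by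
    rw [Fintype.card_fin]
    refine lt_of_le_of_lt ?_ (show 2 < n from h3)
    refine (MvPolynomial.totalDegree_finsetSum _ _).trans ?_
    refine Finset.sup_le fun i _ => ?_
    refine (MvPolynomial.totalDegree_finsetSum _ _).trans ?_
    refine Finset.sup_le fun j _ => ?_
    refine (MvPolynomial.totalDegree_mul _ _).trans ?_
    have h1 := MvPolynomial.totalDegree_mul (MvPolynomial.C (β (b i) (b j))) (MvPolynomial.X i : MvPolynomial (Fin n) F)
    rw [MvPolynomial.totalDegree_C, MvPolynomial.totalDegree_X, zero_add] at h1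
    rw [MvPolynomial.totalDegree_X]
    omega
  have hdvd := char_dvd_card_solutions p hdeg
  have h0 : MvPolynomial.eval (0 : Fin n → F) P = 0 := by
    rw [hev]; simp
  have hcard : 1 < Fintype.card { x : Fin n → F // MvPolynomial.eval x P = 0 } := by
    have hpos : 0 < Fintype.card { x : Fin n → F // MvPolynomial.eval x P = 0 } :=
      Fintype.card_pos_iff.mpr ⟨⟨0, h0⟩⟩
    have := Nat.le_of_dvd hpos hdvd
    exact lt_of_lt_of_le hpp.one_lt this
  obtain ⟨⟨x, hx⟩, ⟨y, hy⟩, hxy⟩ := Fintype.one_lt_card_iff.mp hcard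
  have key : ∀ z : Fin n → F, MvPolynomial.eval z P = 0 → z ≠ 0 → ∃ v : V, v ≠ 0 ∧ Q v = 0 := by
    intro z hz hz0
    refine ⟨∑ i, z i • b i, ?_, by rw [← hev, hz]⟩
    intro h
    apply hz0
    have := Fintype.linearIndependent_iff.mp b.linearIndependent z h
    funext i
    exact this i
  by_cases hx0 : x = 0
  · apply key y hy
    intro hy0
    apply hxy
    simp [hx0, hy0]
  · exact key x hx hx0




variable {F V : Type*} [Field F] [AddCommGroup V] [Module F V]

/-- Nondegeneracy of the polar form of `Q` on a submodule. -/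
def NdOn (Q : QuadraticForm F V) (W : Submodule F V) : Prop :=
  ∀ w ∈ W, (∀ w' ∈ W, polar Q w w' = 0) → w = 0

/-- The part of `W` orthogonal to `e` and `f`. -/
def perpPair (Q : QuadraticForm F V) (W : Submodule F V) (e f : V) : Submodule F V :=
  W ⊓ (LinearMap.ker (polarBilin Q e) ⊓ LinearMap.ker (polarBilin Q f))

theorem mem_perpPair (Q : QuadraticForm F V) (W : Submodule F V) (e f v : V) :
    v ∈ perpPair Q W e f ↔ v ∈ W ∧ polar Q e v = 0 ∧ polar Q f v = 0 := by
  simp [perpPair, LinearMap.mem_ker, polarBilin_apply_apply]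

theorem perpPair_le (Q : QuadraticForm F V) (W : Submodule F V) (e f : V) :
    perpPair Q W e f ≤ W := inf_le_left

theorem polar_self_of_singular (Q : QuadraticForm F V) {e : V} (he : Q e = 0) : polar Q e e = 0 := by
  rw [polar_self, he, smul_zero]

/-- A nonzero singular vector has a singular partner. -/
theorem exists_hyp_partner (Q : QuadraticForm F V) (W : Submodule F V) (hW : NdOn Q W)
    {e : V} (heW : e ∈ W) (he0 : e ≠ 0) (he : Q e = 0) :
    ∃ f ∈ W, Q f = 0 ∧ polar Q e f = 1 := by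
  have : ∃ w' ∈ W, polar Q e w' ≠ 0 := by
    by_contra h
    push Not at h
    exact he0 (hW e heW h)
  obtain ⟨f₀, hf₀W, h1⟩ : ∃ f₀ ∈ W, polar Q e f₀ = 1 := by
    obtain ⟨w', hw'W, hw'⟩ := this
    refine ⟨(polar Q e w')⁻¹ • w', W.smul_mem _ hw'W, ?_⟩
    rw [polar_smul_right, smul_eq_mul, inv_mul_cancel₀ hw']
  refine ⟨f₀ - Q f₀ • e, W.sub_mem hf₀W (W.smul_mem _ heW), ?_, ?_⟩
  · have h2 : Q (f₀ - Q f₀ • e) = Q f₀ + Q (-(Q f₀ • e)) + polar Q f₀ (-(Q f₀ • e)) := by
      rw [sub_eq_add_neg, polar]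
      ring
    rw [h2, QuadraticMap.map_neg, QuadraticMap.map_smul, he, polar_neg_right, polar_smul_right,
      polar_comm, h1]
    simp
  · rw [polar_sub_right, polar_smul_right, h1, polar_self_of_singular Q he]
    simp

theorem perpPair_nd (Q : QuadraticForm F V) (W : Submodule F V) (hW : NdOn Q W)
    {e f : V} (heW : e ∈ W) (hfW : f ∈ W) (he : Q e = 0) (hf : Q f = 0) (hef : polar Q e f = 1) :
    NdOn Q (perpPair Q W e f) := by
  intro w hw hall
  rw [mem_perpPair] at hw
  obtain ⟨hwW, hwe, hwf⟩ := hw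
  apply hW w hwW
  intro v hv
  set v' := v - polar Q v f • e - polar Q v e • f with hv'
  have hv'mem : v' ∈ perpPair Q W e f := by
    rw [mem_perpPair]
    refine ⟨W.sub_mem (W.sub_mem hv (W.smul_mem _ heW)) (W.smul_mem _ hfW), ?_, ?_⟩
    · rw [hv', polar_sub_right, polar_sub_right, polar_smul_right, polar_smul_right,
        polar_self_of_singular Q he, hef, polar_comm Q e v]
      simp
    · rw [hv', polar_sub_right, polar_sub_right, polar_smul_right, polar_smul_right,
        polar_self_of_singular Q hf, polar_comm Q f e, hef, polar_comm Q f v]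
      simp
  have h0 := hall v' hv'mem
  rw [hv', polar_sub_right, polar_sub_right, polar_smul_right, polar_smul_right,
    polar_comm Q w e, hwe, polar_comm Q w f, hwf] at h0
  simpa using h0

theorem perpPair_finrank [FiniteDimensional F V] (Q : QuadraticForm F V) (W : Submodule F V)
    {e f : V} (heW : e ∈ W) (hfW : f ∈ W) (he : Q e = 0) (hf : Q f = 0) (hef : polar Q e f = 1) :
    finrank F (perpPair Q W e f) + 2 = finrank F W := by
  let φ : W →ₗ[F] F × F := ((polarBilin Q e).prod (polarBilin Q f)).comp W.subtype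
  have hker : LinearMap.ker φ = Submodule.comap W.subtype (perpPair Q W e f) := by
    ext w
    simp [φ, mem_perpPair, polarBilin_apply_apply]
  have hrange : LinearMap.range φ = ⊤ := by
    rw [eq_top_iff]
    rintro ⟨a, b⟩ -
    refine ⟨a • ⟨f, hfW⟩ + b • ⟨e, heW⟩, ?_⟩
    simp [φ, polarBilin_apply_apply, hef, polar_self_of_singular Q he, polar_self_of_singular Q hf,
      polar_comm Q f e]
  have h1 := LinearMap.finrank_range_add_finrank_ker φ
  rw [hrange, finrank_top, finrank_prod, finrank_self, hker,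
    (Submodule.comapSubtypeEquivOfLe (perpPair_le Q W e f)).finrank_eq] at h1
  omega


/-- A hyperbolic family `e i, f i` inside `W`. -/
def HypFam (Q : QuadraticForm F V) (W : Submodule F V) {m : ℕ} (e f : Fin m → V) : Prop :=
  (∀ i, e i ∈ W ∧ f i ∈ W) ∧ (∀ i, Q (e i) = 0 ∧ Q (f i) = 0) ∧
    (∀ i j, polar Q (e i) (f j) = if i = j then 1 else 0) ∧
    (∀ i j, polar Q (e i) (e j) = 0 ∧ polar Q (f i) (f j) = 0)

theorem HypFam.mono {Q : QuadraticForm F V} {W W' : Submodule F V} (h : W ≤ W') {m : ℕ}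
    {e f : Fin m → V} (H : HypFam Q W e f) : HypFam Q W' e f :=
  ⟨fun i => ⟨h (H.1 i).1, h (H.1 i).2⟩, H.2⟩

theorem hypFam_zero (Q : QuadraticForm F V) (W : Submodule F V) (e f : Fin 0 → V) :
    HypFam Q W e f :=
  ⟨fun i => i.elim0, fun i => i.elim0, fun i => i.elim0, fun i => i.elim0⟩

theorem HypFam.cons {Q : QuadraticForm F V} {W : Submodule F V} {e₀ f₀ : V}
    (heW : e₀ ∈ W) (hfW : f₀ ∈ W) (he : Q e₀ = 0) (hf : Q f₀ = 0) (hef : polar Q e₀ f₀ = 1)
    {m : ℕ} {e f : Fin m → V} (H : HypFam Q (perpPair Q W e₀ f₀) e f) :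
    HypFam Q W (Fin.cons e₀ e : Fin (m + 1) → V) (Fin.cons f₀ f : Fin (m + 1) → V) := by
  obtain ⟨H1, H2, H3, H4⟩ := H
  have he' : ∀ i, e i ∈ W ∧ polar Q e₀ (e i) = 0 ∧ polar Q f₀ (e i) = 0 := fun i =>
    (mem_perpPair Q W e₀ f₀ _).mp (H1 i).1
  have hf' : ∀ i, f i ∈ W ∧ polar Q e₀ (f i) = 0 ∧ polar Q f₀ (f i) = 0 := fun i =>
    (mem_perpPair Q W e₀ f₀ _).mp (H1 i).2
  refine ⟨?_, ?_, ?_, ?_⟩
  · intro i
    refine Fin.cases ?_ (fun i => ?_) i
    · exact ⟨by simpa using heW, by simpa using hfW⟩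
    · exact ⟨by simpa using (he' i).1, by simpa using (hf' i).1⟩
  · intro i
    refine Fin.cases ?_ (fun i => ?_) i
    · exact ⟨by simpa using he, by simpa using hf⟩
    · simpa using H2 i
  · intro i j
    refine Fin.cases ?_ (fun i => ?_) i <;> refine Fin.cases ?_ (fun j => ?_) j
    · simpa using hef
    · simpa [Fin.succ_ne_zero, eq_comm] using (hf' j).2.1
    · simp only [Fin.cons_succ, Fin.cons_zero, Fin.succ_ne_zero, if_false]
      rw [polar_comm]; exact (he' i).2.2
    · simpa [Fin.succ_inj] using H3 i j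
  · intro i j
    refine Fin.cases ?_ (fun i => ?_) i <;> refine Fin.cases ?_ (fun j => ?_) j
    · exact ⟨by simpa using polar_self_of_singular Q he, by simpa using polar_self_of_singular Q hf⟩
    · exact ⟨by simpa using (he' j).2.1, by simpa using (hf' j).2.2⟩
    · constructor
      · simp only [Fin.cons_succ, Fin.cons_zero]; rw [polar_comm]; exact (he' i).2.1
      · simp only [Fin.cons_succ, Fin.cons_zero]; rw [polar_comm]; exact (hf' i).2.2
    · simpa using H4 i j

/-- Linear independence of a hyperbolic family together with an independent family orthogonal to it. -/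
theorem HypFam.indep {Q : QuadraticForm F V} {W : Submodule F V} {m : ℕ} {e f : Fin m → V}
    (H : HypFam Q W e f) {κ : Type*} [Fintype κ] (r : κ → V) (hr : LinearIndependent F r)
    (hre : ∀ k i, polar Q (r k) (e i) = 0 ∧ polar Q (r k) (f i) = 0)
    (a b : Fin m → F) (c : κ → F)
    (h0 : ∑ i, a i • e i + ∑ i, b i • f i + ∑ k, c k • r k = 0) :
    a = 0 ∧ b = 0 ∧ c = 0 := by
  obtain ⟨H1, H2, H3, H4⟩ := H
  have ha : a = 0 := by
    funext j
    have := congrArg (fun v => polarBilin Q (f j) v) h0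
    simp only [map_add, map_sum, map_smul, polarBilin_apply_apply, map_zero, smul_eq_mul] at this
    simp only [polar_comm Q (f j) (e _), H3, (H4 _ _).2, polar_comm Q (f j) (r _), (hre _ _).2,
      mul_zero, Finset.sum_const_zero, add_zero, mul_ite, mul_one, Finset.sum_ite_eq',
      Finset.mem_univ, if_true] at this
    simpa using this
  have hb : b = 0 := by
    funext j
    have := congrArg (fun v => polarBilin Q (e j) v) h0
    simp only [map_add, map_sum, map_smul, polarBilin_apply_apply, map_zero, smul_eq_mul] at this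
    simp only [H3, (H4 _ _).1, polar_comm Q (e j) (r _), (hre _ _).1,
      mul_zero, Finset.sum_const_zero, add_zero, zero_add, mul_ite, mul_one, Finset.sum_ite_eq,
      Finset.mem_univ, if_true] at this
    simpa using this
  refine ⟨ha, hb, ?_⟩
  rw [ha, hb] at h0
  simp only [Pi.zero_apply, zero_smul, Finset.sum_const_zero, zero_add] at h0
  funext k
  exact Fintype.linearIndependent_iff.mp hr c h0 k


theorem HypFam.linearIndependent_sum {Q : QuadraticForm F V} {W : Submodule F V} {m : ℕ}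
    {e f : Fin m → V} (H : HypFam Q W e f) {κ : Type*} [Fintype κ] (r : κ → V)
    (hr : LinearIndependent F r)
    (hre : ∀ k i, polar Q (r k) (e i) = 0 ∧ polar Q (r k) (f i) = 0) :
    LinearIndependent F (Sum.elim r (Sum.elim e f)) := by
  rw [Fintype.linearIndependent_iff]
  intro g hg
  simp only [Fintype.sum_sum_type, Sum.elim_inl, Sum.elim_inr] at hg
  have := H.indep r hr hre (fun i => g (Sum.inr (Sum.inl i))) (fun i => g (Sum.inr (Sum.inr i)))
    (fun k => g (Sum.inl k)) (by rw [← hg]; abel)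
  obtain ⟨h1, h2, h3⟩ := this
  rintro (k | i | i)
  · exact congrFun h3 k
  · exact congrFun h1 i
  · exact congrFun h2 i

theorem ndOn_top (Q : QuadraticForm F V) (hQ : (polarBilin Q).Nondegenerate) : NdOn Q ⊤ := by
  intro w _ h
  apply hQ.1 w
  intro y
  rw [polarBilin_apply_apply]
  exact h y Submodule.mem_top

/-- singular vector inside a submodule of dimension at least 3 -/
theorem exists_singular_in {F V : Type*} [Field F] [Finite F] [AddCommGroup V] [Module F V]
    [FiniteDimensional F V] (Q : QuadraticForm F V) (W : Submodule F V) (h3 : 3 ≤ finrank F W) :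
    ∃ e ∈ W, e ≠ 0 ∧ Q e = 0 := by
  obtain ⟨w, hw0, hw⟩ := exists_singular_of_three_le (Q.comp W.subtype) h3
  refine ⟨w.1, w.2, ?_, ?_⟩
  · intro h
    apply hw0
    exact Subtype.ext h
  · simpa using hw

theorem odd_family {F V : Type*} [Field F] [Finite F] [AddCommGroup V] [Module F V]
    [FiniteDimensional F V] (Q : QuadraticForm F V) :
    ∀ (m : ℕ) (W : Submodule F V), NdOn Q W → finrank F W = 2 * m + 1 →
      ∃ (e f : Fin m → V) (x : V), HypFam Q W e f ∧ x ∈ W ∧ Q x ≠ 0 ∧
        ∀ i, polar Q x (e i) = 0 ∧ polar Q x (f i) = 0 := by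
  intro m
  induction m with
  | zero =>
    intro W hW hdim
    have hpos : 0 < finrank F W := by omega
    have hne : W ≠ ⊥ := by
      intro h
      rw [h, finrank_bot] at hpos
      exact lt_irrefl _ hpos
    obtain ⟨x, hxW, hx0⟩ := Submodule.exists_mem_ne_zero_of_ne_bot hne
    refine ⟨fun i => i.elim0, fun i => i.elim0, x, hypFam_zero Q W _ _, hxW, ?_, fun i => i.elim0⟩
    intro hQx
    apply hx0
    apply hW x hxW
    intro w' hw'
    have h1 : finrank F W = 1 := by omega
    have hx0' : (⟨x, hxW⟩ : W) ≠ 0 := fun h => hx0 (congrArg Subtype.val h)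
    obtain ⟨c, hc⟩ := (finrank_eq_one_iff_of_nonzero' (⟨x, hxW⟩ : W) hx0').mp h1 ⟨w', hw'⟩
    have hc' : c • x = w' := congrArg Subtype.val hc
    rw [← hc', polar_smul_right, polar_self, hQx]
    simp
  | succ m ih =>
    intro W hW hdim
    obtain ⟨e₀, heW, he0, he⟩ := exists_singular_in Q W (by omega)
    obtain ⟨f₀, hfW, hf, hef⟩ := exists_hyp_partner Q W hW heW he0 he
    have hnd := perpPair_nd Q W hW heW hfW he hf hef
    have hfr := perpPair_finrank Q W heW hfW he hf hef
    obtain ⟨e, f, x, H, hxW, hQx, hx⟩ := ih (perpPair Q W e₀ f₀) hnd (by omega)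
    have hx' := (mem_perpPair Q W e₀ f₀ x).mp hxW
    refine ⟨Fin.cons e₀ e, Fin.cons f₀ f, x, H.cons heW hfW he hf hef, hx'.1, hQx, ?_⟩
    intro i
    refine Fin.cases ?_ (fun i => ?_) i
    · constructor
      · simp only [Fin.cons_zero]; rw [polar_comm]; exact hx'.2.1
      · simp only [Fin.cons_zero]; rw [polar_comm]; exact hx'.2.2
    · simpa using hx i

/-- An anisotropic plane over a finite field represents every scalar. -/
theorem exists_represents {F V : Type*} [Field F] [Finite F] [AddCommGroup V] [Module F V]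
    [FiniteDimensional F V] (Q : QuadraticForm F V) (W : Submodule F V) (h2 : finrank F W = 2)
    (han : ∀ w ∈ W, Q w = 0 → w = 0) (c : F) : ∃ x ∈ W, Q x = c := by
  let Q' : QuadraticForm F (W × F) := (Q.comp W.subtype).prod ((-c) • (QuadraticMap.sq (R := F) (A := F)))
  have h3 : 3 ≤ finrank F (W × F) := by
    rw [finrank_prod, h2, finrank_self]
  obtain ⟨⟨w, t⟩, hne, hq⟩ := exists_singular_of_three_le Q' h3
  have hq' : Q w.1 + -(c * (t * t)) = 0 := by
    simpa [Q'] using hq
  have ht : t ≠ 0 := by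
    intro ht
    rw [ht] at hq'
    have hw : w.1 = 0 := han w.1 w.2 (by simpa using hq')
    apply hne
    rw [ht]
    exact Prod.ext (Subtype.ext hw) rfl
  refine ⟨t⁻¹ • w.1, W.smul_mem _ w.2, ?_⟩
  rw [QuadraticMap.map_smul, smul_eq_mul]
  have : Q w.1 = c * (t * t) := by linear_combination hq'
  rw [this]
  field_simp

/-- Normal form of an anisotropic plane. -/
theorem elliptic_plane {F V : Type*} [Field F] [Finite F] [AddCommGroup V] [Module F V]
    [FiniteDimensional F V] (Q : QuadraticForm F V) (W : Submodule F V) (hW : NdOn Q W)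
    (h2 : finrank F W = 2) (han : ∀ w ∈ W, Q w = 0 → w = 0) :
    ∃ x ∈ W, ∃ y ∈ W, ∃ ζ : F, Q x = 1 ∧ polar Q x y = 1 ∧ Q y = ζ ∧ (∀ t : F, t • x + y ≠ 0) ∧
      ∀ t : F, t ^ 2 + t + ζ ≠ 0 := by
  obtain ⟨x, hxW, hQx⟩ := exists_represents Q W h2 han 1
  have hx0 : x ≠ 0 := by
    rintro rfl
    rw [QuadraticMap.map_zero] at hQx
    exact zero_ne_one hQx
  -- y₀ with B(x, y₀) = 1
  obtain ⟨y₀, hy₀W, hy₀⟩ : ∃ y₀ ∈ W, polar Q x y₀ = 1 := by
    have : ∃ w' ∈ W, polar Q x w' ≠ 0 := by
      by_contra h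
      push Not at h
      exact hx0 (hW x hxW h)
    obtain ⟨w', hw'W, hw'⟩ := this
    refine ⟨(polar Q x w')⁻¹ • w', W.smul_mem _ hw'W, ?_⟩
    rw [polar_smul_right, smul_eq_mul, inv_mul_cancel₀ hw']
  -- z nonzero in W with B(x, z) = 0
  obtain ⟨z, hzW, hz0, hxz⟩ : ∃ z ∈ W, z ≠ 0 ∧ polar Q x z = 0 := by
    let φ : W →ₗ[F] F := (polarBilin Q x).comp W.subtype
    have hker : LinearMap.ker φ ≠ ⊥ := LinearMap.ker_ne_bot_of_finrank_lt (by rw [finrank_self, h2]; norm_num)
    obtain ⟨z, hz, hz0⟩ := Submodule.exists_mem_ne_zero_of_ne_bot hker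
    refine ⟨z.1, z.2, fun h => hz0 (Subtype.ext h), ?_⟩
    simpa [φ, polarBilin_apply_apply] using hz
  -- choose y
  obtain ⟨y, hyW, hxy, hy⟩ : ∃ y ∈ W, polar Q x y = 1 ∧ ∀ t : F, t • x + y ≠ 0 := by
    by_cases hcase : ∀ t : F, t • x + y₀ ≠ 0
    · exact ⟨y₀, hy₀W, hy₀, hcase⟩
    · push Not at hcase
      obtain ⟨t₀, ht₀⟩ := hcase
      have hy₀' : y₀ = -(t₀ • x) := eq_neg_of_add_eq_zero_right ht₀
      have hxx : polar Q x x ≠ 0 := by
        intro h
        rw [hy₀', polar_neg_right, polar_smul_right, h] at hy₀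
        simp at hy₀
      refine ⟨y₀ + z, W.add_mem hy₀W hzW, by rw [polar_add_right, hy₀, hxz, add_zero], ?_⟩
      intro t ht
      have hz' : z = (t₀ - t) • x := by
        rw [hy₀'] at ht
        rw [sub_smul]
        have : z = -(t • x) + t₀ • x := by
          have h' : t • x + (-(t₀ • x) + z) = 0 := ht
          calc z = (t • x + (-(t₀ • x) + z)) + (-(t • x) + t₀ • x) := by abel
            _ = -(t • x) + t₀ • x := by rw [h', zero_add]
        rw [this]; abel
      rw [hz', polar_smul_right, smul_eq_mul] at hxz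
      rcases mul_eq_zero.mp hxz with h | h
      · apply hz0
        rw [hz', h, zero_smul]
      · exact hxx h
  refine ⟨x, hxW, y, hyW, Q y, hQx, hxy, rfl, hy, ?_⟩
  intro t ht
  have hmem : t • x + y ∈ W := W.add_mem (W.smul_mem _ hxW) hyW
  apply hy t
  apply han _ hmem
  have : Q (t • x + y) = Q (t • x) + Q y + polar Q (t • x) y := by
    rw [polar]; ring
  rw [this, QuadraticMap.map_smul, polar_smul_left, hQx, hxy]
  simp only [smul_eq_mul, mul_one]
  linear_combination ht

/-- Elliptic data: a hyperbolic family together with an anisotropic pair `x, y` orthogonal to it. -/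
def EllFam {F V : Type*} [Field F] [AddCommGroup V] [Module F V] (Q : QuadraticForm F V)
    (W : Submodule F V) {k : ℕ} (e f : Fin k → V) (x y : V) (ζ : F) : Prop :=
  HypFam Q W e f ∧ x ∈ W ∧ y ∈ W ∧ (∀ t : F, t ^ 2 + t + ζ ≠ 0) ∧
    (∀ i, (polar Q x (e i) = 0 ∧ polar Q x (f i) = 0) ∧ (polar Q y (e i) = 0 ∧ polar Q y (f i) = 0)) ∧
    Q x = 1 ∧ polar Q x y = 1 ∧ Q y = ζ ∧ ∀ t : F, t • x + y ≠ 0

theorem even_family {F V : Type*} [Field F] [Finite F] [AddCommGroup V] [Module F V]
    [FiniteDimensional F V] (Q : QuadraticForm F V) :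
    ∀ (k : ℕ) (W : Submodule F V), NdOn Q W → finrank F W = 2 * (k + 1) →
      (∃ e f : Fin (k + 1) → V, HypFam Q W e f) ∨
      (∃ (e f : Fin k → V) (x y : V) (ζ : F), EllFam Q W e f x y ζ) := by
  intro k
  induction k with
  | zero =>
    intro W hW hdim
    by_cases hs : ∃ e ∈ W, e ≠ 0 ∧ Q e = 0
    · obtain ⟨e₀, heW, he0, he⟩ := hs
      obtain ⟨f₀, hfW, hf, hef⟩ := exists_hyp_partner Q W hW heW he0 he
      left
      exact ⟨Fin.cons e₀ (fun i => i.elim0), Fin.cons f₀ (fun i => i.elim0),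
        HypFam.cons heW hfW he hf hef (hypFam_zero Q _ _ _)⟩
    · right
      have han : ∀ w ∈ W, Q w = 0 → w = 0 := by
        intro w hw hq
        by_contra hne
        exact hs ⟨w, hw, hne, hq⟩
      obtain ⟨x, hxW, y, hyW, ζ, h1, h2, h3, h4, h5⟩ := elliptic_plane Q W hW (by omega) han
      exact ⟨fun i => i.elim0, fun i => i.elim0, x, y, ζ, hypFam_zero Q W _ _, hxW, hyW, h5,
        fun i => i.elim0, h1, h2, h3, h4⟩
  | succ k ih =>
    intro W hW hdim
    obtain ⟨e₀, heW, he0, he⟩ := exists_singular_in Q W (by omega)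
    obtain ⟨f₀, hfW, hf, hef⟩ := exists_hyp_partner Q W hW heW he0 he
    have hnd := perpPair_nd Q W hW heW hfW he hf hef
    have hfr := perpPair_finrank Q W heW hfW he hf hef
    rcases ih (perpPair Q W e₀ f₀) hnd (by omega) with ⟨e, f, H⟩ | ⟨e, f, x, y, ζ, H, hxW, hyW, hζ, horth, h1, h2, h3, h4⟩
    · left
      exact ⟨Fin.cons e₀ e, Fin.cons f₀ f, H.cons heW hfW he hf hef⟩
    · right
      have hx' := (mem_perpPair Q W e₀ f₀ x).mp hxW
      have hy' := (mem_perpPair Q W e₀ f₀ y).mp hyW
      refine ⟨Fin.cons e₀ e, Fin.cons f₀ f, x, y, ζ, H.cons heW hfW he hf hef, hx'.1, hy'.1, hζ, ?_,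
        h1, h2, h3, h4⟩
      intro i
      refine Fin.cases ?_ (fun i => ?_) i
      · simp only [Fin.cons_zero]
        rw [polar_comm Q x e₀, polar_comm Q x f₀, polar_comm Q y e₀, polar_comm Q y f₀]
        exact ⟨⟨hx'.2.1, hx'.2.2⟩, ⟨hy'.2.1, hy'.2.2⟩⟩
      · simpa using horth i

section
variable {F V : Type*} [Field F] [AddCommGroup V] [Module F V]
theorem HypFam.linearIndependent {Q : QuadraticForm F V} {W : Submodule F V} {m : ℕ}
    {e f : Fin m → V} (H : HypFam Q W e f) : LinearIndependent F (Sum.elim e f) := by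
  rw [Fintype.linearIndependent_iff]
  intro g hg
  simp only [Fintype.sum_sum_type, Sum.elim_inl, Sum.elim_inr] at hg
  have := H.indep (fun i : Fin 0 => i.elim0) (linearIndependent_empty_type) (fun k => k.elim0)
    (fun i => g (Sum.inl i)) (fun i => g (Sum.inr i)) (fun k => k.elim0) (by simpa using hg)
  obtain ⟨h1, h2, -⟩ := this
  rintro (i | i)
  · exact congrFun h1 i
  · exact congrFun h2 i

theorem EllFam.pair_indep {Q : QuadraticForm F V} {W : Submodule F V} {k : ℕ}
    {e f : Fin k → V} {x y : V} {ζ : F} (H : EllFam Q W e f x y ζ) :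
    LinearIndependent F ![x, y] := by
  obtain ⟨-, -, -, -, -, hQx, -, -, hxy⟩ := H
  have hx0 : x ≠ 0 := by
    rintro rfl
    rw [QuadraticMap.map_zero] at hQx
    exact zero_ne_one hQx
  rw [LinearIndependent.pair_iff]
  intro s t hst
  have ht : t = 0 := by
    by_contra ht
    apply hxy (t⁻¹ * s)
    have := congrArg (fun v => t⁻¹ • v) hst
    simp only [smul_add, smul_smul, smul_zero, inv_mul_cancel₀ ht, one_smul] at this
    exact this
  rw [ht, zero_smul, add_zero] at hst
  exact ⟨(smul_eq_zero.mp hst).resolve_right hx0, ht⟩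

theorem EllFam.linearIndependent {Q : QuadraticForm F V} {W : Submodule F V} {k : ℕ}
    {e f : Fin k → V} {x y : V} {ζ : F} (H : EllFam Q W e f x y ζ) :
    LinearIndependent F (Sum.elim (Sum.elim e f) ![x, y]) := by
  have h1 := H.1.linearIndependent_sum ![x, y] H.pair_indep (by
    intro j i
    fin_cases j
    · exact (H.2.2.2.2.1 i).1
    · exact (H.2.2.2.2.1 i).2)
  have h2 := h1.comp (Equiv.sumComm _ _) (Equiv.injective _)
  convert h2 using 1
  funext i
  rcases i with (i | i) | j <;> simp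

end

end Cfsg.Agent.Lib.Helper15
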