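import Mathlib
import Cfsg.Prelude.Def_GeometricClasses
import Cfsg.Agent.Lib.Helper25.TensDefs
import Cfsg.Agent.Lib.Helper25.TensStmt

/-!
S5637 leaf TT (`transport`): maximality of the Kronecker group in the model `Fin n₁ × Fin n₂`
transported to `Fin n` along the reindexing `e` and the conjugation by `P`.
-/

set_option autoImplicit false
set_option linter.unusedSectionVars false
set_option linter.unusedVariables false

namespace Cfsg.Agent.Lib.Helper15.TensLeaf
open Matrix Cfsg.Agent.Lib.Helper25.Tens Cfsg.Agent.Lib.Helper25.TensLeaves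
open scoped Kronecker

variable {F : Type*} [Field F]

/-- `IsMaximalIn` is transported by a group isomorphism -/
theorem tt_isMaximalIn_map {G G' : Type*} [Group G] [Group G'] (φ : G ≃* G') {K H : Subgroup G}
    (h : Cfsg.Geo.IsMaximalIn K H) :
    Cfsg.Geo.IsMaximalIn (K.map φ.toMonoidHom) (H.map φ.toMonoidHom) := by
  obtain ⟨hlt, hmax⟩ := h
  have hinj : Function.Injective φ.toMonoidHom := φ.injective
  refine ⟨(Subgroup.map_lt_map_iff_of_injective hinj).mpr hlt, fun M hHM hMK => ?_⟩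
  have hM : M = (M.comap φ.toMonoidHom).map φ.toMonoidHom :=
    (Subgroup.map_comap_eq_self_of_surjective φ.surjective M).symm
  have h1 : H ≤ M.comap φ.toMonoidHom := (Subgroup.map_le_iff_le_comap).mp hHM
  have h2 : M.comap φ.toMonoidHom ≤ K := by
    intro x hx
    have : φ.toMonoidHom x ∈ K.map φ.toMonoidHom := hMK hx
    obtain ⟨y, hy, hyx⟩ := this
    rwa [← hinj hyx]
  rcases hmax _ h1 h2 with e | e
  · left; rw [hM, e]
  · right; rw [hM, e]

/-- the image of `SL` under a determinant-preserving isomorphism is `SL` -/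
theorem tt_map_specialLinear {ι κ : Type} [Fintype ι] [DecidableEq ι] [Fintype κ] [DecidableEq κ]
    (φ : GL ι F ≃* GL κ F)
    (hdet : ∀ g : GL ι F, Matrix.GeneralLinearGroup.det (φ g) = Matrix.GeneralLinearGroup.det g) :
    (Cfsg.Geo.specialLinear ι F).map φ.toMonoidHom = Cfsg.Geo.specialLinear κ F := by
  ext x
  unfold Cfsg.Geo.specialLinear
  rw [Subgroup.mem_map, MonoidHom.mem_ker]
  constructor
  · rintro ⟨g, hg, rfl⟩
    rw [MonoidHom.mem_ker] at hg
    rw [MulEquiv.coe_toMonoidHom, hdet, hg]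
  · intro hx
    refine ⟨φ.symm x, ?_, by simp⟩
    rw [MonoidHom.mem_ker, ← hdet, MulEquiv.apply_symm_apply, hx]

theorem tt_det_glReindex {ι κ : Type} [Fintype ι] [DecidableEq ι] [Fintype κ] [DecidableEq κ]
    (e : κ ≃ ι) (g : GL κ F) :
    Matrix.GeneralLinearGroup.det (Cfsg.Geo.glReindex (F := F) e g) =
      Matrix.GeneralLinearGroup.det g := by
  apply Units.ext
  rw [Matrix.GeneralLinearGroup.val_det_apply, Matrix.GeneralLinearGroup.val_det_apply]
  change (Matrix.reindexAlgEquiv F F e (g : Matrix κ κ F)).det = _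
  rw [Matrix.coe_reindexAlgEquiv, Matrix.det_reindex_self]

theorem tt_det_conj {ι : Type} [Fintype ι] [DecidableEq ι] (P g : GL ι F) :
    Matrix.GeneralLinearGroup.det (MulAut.conj P g) = Matrix.GeneralLinearGroup.det g := by
  rw [MulAut.conj_apply, map_mul, map_mul, map_inv, mul_comm, ← mul_assoc, inv_mul_cancel, one_mul]

/-- (TT) transport to `Fin n`, `e`, `P`. -/
theorem transport (n n₁ n₂ : ℕ) (e : Fin n ≃ Fin n₁ × Fin n₂) (P : GL (Fin n) F)
    (h : Cfsg.Geo.IsMaximalIn (SLG n₁ n₂ F) (KG n₁ n₂ F ⊓ SLG n₁ n₂ F)) :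
    Cfsg.Geo.IsMaximalIn (Cfsg.Geo.specialLinear (Fin n) F)
      (Cfsg.Geo.tensorProductSubgroup n₁ n₂ e P ⊓ Cfsg.Geo.specialLinear (Fin n) F) := by
  set φ : GL (Idx n₁ n₂) F ≃* GL (Fin n) F :=
    (Cfsg.Geo.glReindex (F := F) e.symm).trans (MulAut.conj P) with hφ
  have hdet : ∀ g : GL (Idx n₁ n₂) F,
      Matrix.GeneralLinearGroup.det (φ g) = Matrix.GeneralLinearGroup.det g := by
    intro g
    rw [hφ, MulEquiv.trans_apply, tt_det_conj, tt_det_glReindex]
  have hSL : (SLG n₁ n₂ F).map φ.toMonoidHom = Cfsg.Geo.specialLinear (Fin n) F :=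
    tt_map_specialLinear φ hdet
  have hKG : (KG n₁ n₂ F).map φ.toMonoidHom = Cfsg.Geo.tensorProductSubgroup n₁ n₂ e P := by
    unfold Cfsg.Geo.tensorProductSubgroup
    rw [Subgroup.map_map]
    rfl
  have key := tt_isMaximalIn_map φ h
  rw [Subgroup.map_inf _ _ _ φ.injective, hSL, hKG] at key
  exact key

end Cfsg.Agent.Lib.Helper15.TensLeaf
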