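import Mathlib
import Cfsg.Prelude.Def_GeometricClasses
import Cfsg.Agent.Lib.Helper11.MonoDefs
import Cfsg.Agent.Lib.Helper11.MonoBasic

/-!
S5634, case `m = 1`, leaf MWa1 (`dichotomy`): in world (W), if a column `j` of a non-monomial
`B ∈ M` vanishes at two rows `c ≠ c'`, then any column `m` with `B c m ≠ 0` is supported on
`{c, c'}` and the field has exactly five elements.
-/

set_option autoImplicit false

namespace Cfsg.Agent.Lib.Helper15.MonoLeaf
open Matrix Cfsg.Agent.Lib.Helper11.Mono

variable {F : Type*} [Field F] [Fintype F] {ι : Type} [Fintype ι] [DecidableEq ι]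

/-- the torus element `t_cc'(ε)`: `ε` at `c`, `ε⁻¹` at `c'`, one elsewhere -/
def tcc (c c' : ι) (ε : Fˣ) : ι → Fˣ :=
  fun x => if x = c then ε else if x = c' then ε⁻¹ else 1

lemma tcc_prod {c c' : ι} (hcc : c ≠ c') (ε : Fˣ) : ∏ i, tcc c c' ε i = 1 := by
  rw [Finset.prod_eq_mul c c' hcc]
  · simp [tcc, hcc.symm]
  · intro x _ hx
    simp [tcc, hx.1, hx.2]
  · simp
  · simp

lemma tcc_same (c c' : ι) (ε : Fˣ) : tcc c c' ε c = ε := by simp [tcc]

lemma tcc_other {c c' : ι} (hcc : c ≠ c') (ε : Fˣ) : tcc c c' ε c' = ε⁻¹ := by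
  simp [tcc, hcc.symm]

lemma tcc_off {c c' a : ι} (hac : a ≠ c) (hac' : a ≠ c') (ε : Fˣ) : tcc c c' ε a = 1 := by
  simp [tcc, hac, hac']

/-- counting: the columns of an invertible matrix indexed by the image of `k` and lying in the
span of a finset `w` are at most `w.card` many -/
lemma card_image_le_of_span (B : GL ι F) {T : Type*} [Fintype T] (k : T → ι)
    (w : Finset (ι → F))
    (hk : ∀ x, Matrix.col (B : Matrix ι ι F) (k x) ∈ Submodule.span F (w : Set (ι → F))) :
    (Finset.univ.image k).card ≤ w.card := by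
  classical
  have hli : LinearIndependent F (B : Matrix ι ι F).col :=
    Matrix.linearIndependent_cols_iff_isUnit.2 (Units.isUnit B)
  have hli' : LinearIndependent F
      (fun i : ↥(Finset.univ.image k) => (B : Matrix ι ι F).col (i : ι)) :=
    hli.comp _ Subtype.val_injective
  have h := linearIndependent_le_span_aux' _ hli' (w : Set (ι → F)) (by
    rintro _ ⟨⟨i, hi⟩, rfl⟩
    obtain ⟨x, _, rfl⟩ := Finset.mem_image.mp hi
    exact hk x)
  simpa only [Finset.coe_sort_coe, Fintype.card_coe] using h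

theorem dichotomy (hq : 5 ≤ Fintype.card F) (M : Subgroup (GL ι F)) (hH : ContainsH M)
    (hW : WorldW M) (B : GL ι F) (hB : B ∈ M) (hnm : ¬ IsMono (B : Matrix ι ι F))
    (j c c' : ι) (hcc : c ≠ c') (h1 : (B : Matrix ι ι F) c j = 0) (h2 : (B : Matrix ι ι F) c' j = 0)
    (m : ι) (hm : (B : Matrix ι ι F) c m ≠ 0) :
    Fintype.card F = 5 ∧ ∀ a, a ≠ c → a ≠ c' → (B : Matrix ι ι F) a m = 0 := by
  classical
  -- the torus elements permute the frame
  have hperm : ∀ ε : Fˣ, ∃ k' : ι, ∃ l : F, ∀ i,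
      ((tcc c c' ε i : Fˣ) : F) * (B : Matrix ι ι F) i m = l * (B : Matrix ι ι F) i k' := by
    intro ε
    have hmem : dg (tcc c c' ε) ∈ M := dg_mem_of_containsH hH (tcc_prod hcc ε)
    have hfix : ((dg (tcc c c' ε) : GL ι F) : Matrix ι ι F) *ᵥ Matrix.col (B : Matrix ι ι F) j =
        (1 : F) • Matrix.col (B : Matrix ι ι F) j := by
      rw [dg_mulVec, one_smul]
      ext i
      by_cases hic : i = c
      · subst hic
        simp [h1]
      · by_cases hic' : i = c'
        · subst hic'
          simp [h2]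
        · simp [tcc_off hic hic']
    obtain ⟨k', l, hk⟩ := perm_frame M hW B _ hB hmem j 1 hfix m
    rw [dg_mulVec] at hk
    refine ⟨k', l, fun i => ?_⟩
    have := congrFun hk i
    simpa using this
  choose k lam hk using hperm
  have hkc : ∀ ε : Fˣ, (ε : F) * ((B : Matrix ι ι F) c m) = lam ε * (B : Matrix ι ι F) c (k ε) := by
    intro ε
    have := hk ε c
    rwa [tcc_same] at this
  have hkc' : ∀ ε : Fˣ, ((ε⁻¹ : Fˣ) : F) * ((B : Matrix ι ι F) c' m) = lam ε * (B : Matrix ι ι F) c' (k ε) := by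
    intro ε
    have := hk ε c'
    rwa [tcc_other hcc] at this
  have hka : ∀ (ε : Fˣ) (a : ι), a ≠ c → a ≠ c' →
      (B : Matrix ι ι F) a m = lam ε * (B : Matrix ι ι F) a (k ε) := by
    intro ε a hac hac'
    have := hk ε a
    rwa [tcc_off hac hac', Units.val_one, one_mul] at this
  have hlam : ∀ ε : Fˣ, lam ε ≠ 0 := by
    intro ε h0
    have := hkc ε
    rw [h0, zero_mul] at this
    exact (mul_ne_zero ε.ne_zero hm) this
  -- first coordinate relation on a fibre
  have hfib : ∀ ε₁ ε₂ : Fˣ, k ε₁ = k ε₂ → (ε₁ : F) * lam ε₂ = (ε₂ : F) * lam ε₁ := by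
    intro ε₁ ε₂ h12
    have e1 := hkc ε₁
    have e2 := hkc ε₂
    rw [h12] at e1
    have : ((ε₁ : F) * lam ε₂) * ((B : Matrix ι ι F) c m) = ((ε₂ : F) * lam ε₁) * ((B : Matrix ι ι F) c m) := by
      calc ((ε₁ : F) * lam ε₂) * ((B : Matrix ι ι F) c m) = lam ε₂ * ((ε₁ : F) * ((B : Matrix ι ι F) c m)) := by ring
        _ = lam ε₂ * (lam ε₁ * (B : Matrix ι ι F) c (k ε₂)) := by rw [e1]
        _ = lam ε₁ * (lam ε₂ * (B : Matrix ι ι F) c (k ε₂)) := by ring
        _ = lam ε₁ * ((ε₂ : F) * ((B : Matrix ι ι F) c m)) := by rw [e2]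
        _ = ((ε₂ : F) * lam ε₁) * ((B : Matrix ι ι F) c m) := by ring
    exact mul_right_cancel₀ hm this
  -- columns in the image of `k` are scalar multiples of the twisted column
  have hcol : ∀ ε : Fˣ, Matrix.col (B : Matrix ι ι F) (k ε) =
      (lam ε)⁻¹ • (fun i => ((tcc c c' ε i : Fˣ) : F) * (B : Matrix ι ι F) i m) := by
    intro ε
    ext i
    rw [Pi.smul_apply, smul_eq_mul, hk ε i, ← mul_assoc, inv_mul_cancel₀ (hlam ε), one_mul]
    rfl
  by_cases hA : ∃ a, a ≠ c ∧ a ≠ c' ∧ (B : Matrix ι ι F) a m ≠ 0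
  · -- case A: `k` is injective and its image lies in a space spanned by three vectors
    exfalso
    obtain ⟨a, hac, hac', ham⟩ := hA
    have hinj : Function.Injective k := by
      intro ε₁ ε₂ h12
      have f1 := hka ε₁ a hac hac'
      have f2 := hka ε₂ a hac hac'
      rw [h12] at f1
      have hy : (B : Matrix ι ι F) a (k ε₂) ≠ 0 := by
        intro h0
        rw [h0, mul_zero] at f2
        exact ham f2
      have hl : lam ε₁ = lam ε₂ := mul_right_cancel₀ hy (f1.symm.trans f2)
      have := hfib ε₁ ε₂ h12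
      rw [hl] at this
      exact Units.ext (mul_right_cancel₀ (hlam ε₂) this)
    have hspan : ∀ ε : Fˣ, Matrix.col (B : Matrix ι ι F) (k ε) ∈ Submodule.span F
        (({Matrix.col (B : Matrix ι ι F) m, Pi.single c (1 : F), Pi.single c' (1 : F)} :
          Finset (ι → F)) : Set (ι → F)) := by
      intro ε
      rw [hcol ε]
      apply Submodule.smul_mem
      have hdec : (fun i => ((tcc c c' ε i : Fˣ) : F) * (B : Matrix ι ι F) i m) =
          Matrix.col (B : Matrix ι ι F) m + (((ε : F) - 1) * ((B : Matrix ι ι F) c m)) • (Pi.single c (1 : F) : ι → F) +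
            ((((ε⁻¹ : Fˣ) : F) - 1) * ((B : Matrix ι ι F) c' m)) • (Pi.single c' (1 : F) : ι → F) := by
        ext i
        by_cases hic : i = c
        · subst hic
          simp [tcc_same, hcc]
          ring
        · by_cases hic' : i = c'
          · subst hic'
            simp [tcc_other hcc, hic]
            ring
          · simp [tcc_off hic hic', hic, hic']
      rw [hdec]
      refine Submodule.add_mem _ (Submodule.add_mem _ ?_ ?_) ?_
      · exact Submodule.subset_span (by simp)
      · exact Submodule.smul_mem _ _ (Submodule.subset_span (by simp))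
      · exact Submodule.smul_mem _ _ (Submodule.subset_span (by simp))
    have hcard := card_image_le_of_span B k _ hspan
    rw [Finset.card_image_of_injective _ hinj, Finset.card_univ, Fintype.card_units] at hcard
    have h3 := Finset.card_le_three (a := Matrix.col (B : Matrix ι ι F) m)
      (b := (Pi.single c (1 : F) : ι → F)) (c := (Pi.single c' (1 : F) : ι → F))
    omega
  · -- case B: column `m` is supported on `{c, c'}`
    push Not at hA
    refine ⟨?_, hA⟩
    have hb0 : ((B : Matrix ι ι F) c' m) ≠ 0 := by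
      intro h0
      apply hnm
      apply hW B hB
      refine ⟨m, c, fun x hx => ?_⟩
      by_cases hx' : x = c'
      · subst hx'
        exact h0
      · exact hA x hx hx'
    have hsq : ∀ ε₁ ε₂ : Fˣ, k ε₁ = k ε₂ → ε₁ = ε₂ ∨ ε₁ = -ε₂ := by
      intro ε₁ ε₂ h12
      have r1 := hfib ε₁ ε₂ h12
      have g1 := hkc' ε₁
      have g2 := hkc' ε₂
      rw [h12] at g1
      have r2 : ((ε₁⁻¹ : Fˣ) : F) * lam ε₂ = ((ε₂⁻¹ : Fˣ) : F) * lam ε₁ := by
        have : (((ε₁⁻¹ : Fˣ) : F) * lam ε₂) * ((B : Matrix ι ι F) c' m) = (((ε₂⁻¹ : Fˣ) : F) * lam ε₁) * ((B : Matrix ι ι F) c' m) := by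
          calc (((ε₁⁻¹ : Fˣ) : F) * lam ε₂) * ((B : Matrix ι ι F) c' m) = lam ε₂ * (((ε₁⁻¹ : Fˣ) : F) * ((B : Matrix ι ι F) c' m)) := by ring
            _ = lam ε₂ * (lam ε₁ * (B : Matrix ι ι F) c' (k ε₂)) := by rw [g1]
            _ = lam ε₁ * (lam ε₂ * (B : Matrix ι ι F) c' (k ε₂)) := by ring
            _ = lam ε₁ * (((ε₂⁻¹ : Fˣ) : F) * ((B : Matrix ι ι F) c' m)) := by rw [g2]
            _ = (((ε₂⁻¹ : Fˣ) : F) * lam ε₁) * ((B : Matrix ι ι F) c' m) := by ring
        exact mul_right_cancel₀ hb0 this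
      have h1ne := ε₁.ne_zero
      have h2ne := ε₂.ne_zero
      have hl1 := hlam ε₁
      have hl2 := hlam ε₂
      rw [Units.val_inv_eq_inv_val, Units.val_inv_eq_inv_val] at r2
      have r2' : (ε₂ : F) * lam ε₂ = (ε₁ : F) * lam ε₁ := by
        calc (ε₂ : F) * lam ε₂ = ((ε₁ : F)⁻¹ * lam ε₂) * ((ε₁ : F) * ε₂) := by field_simp
          _ = ((ε₂ : F)⁻¹ * lam ε₁) * ((ε₁ : F) * ε₂) := by rw [r2]
          _ = (ε₁ : F) * lam ε₁ := by field_simp
      have hsq' : (ε₁ : F) * (ε₁ : F) = (ε₂ : F) * (ε₂ : F) := by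
        have e3 : (ε₁ : F) * (ε₁ : F) * lam ε₂ = (ε₂ : F) * (ε₂ : F) * lam ε₂ := by
          linear_combination (ε₁ : F) * r1 - (ε₂ : F) * r2'
        exact mul_right_cancel₀ hl2 e3
      have hfac : ((ε₁ : F) - ε₂) * ((ε₁ : F) + ε₂) = 0 := by linear_combination hsq'
      rcases mul_eq_zero.mp hfac with h | h
      · left
        exact Units.ext (sub_eq_zero.mp h)
      · right
        apply Units.ext
        rw [Units.val_neg]
        exact eq_neg_of_add_eq_zero_left h
    have hspan : ∀ ε : Fˣ, Matrix.col (B : Matrix ι ι F) (k ε) ∈ Submodule.span F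
        (({Pi.single c (1 : F), Pi.single c' (1 : F)} : Finset (ι → F)) : Set (ι → F)) := by
      intro ε
      rw [hcol ε]
      apply Submodule.smul_mem
      have hdec : (fun i => ((tcc c c' ε i : Fˣ) : F) * (B : Matrix ι ι F) i m) =
          ((ε : F) * ((B : Matrix ι ι F) c m)) • (Pi.single c (1 : F) : ι → F) +
            (((ε⁻¹ : Fˣ) : F) * ((B : Matrix ι ι F) c' m)) • (Pi.single c' (1 : F) : ι → F) := by
        ext i
        by_cases hic : i = c
        · rw [hic]
          simp [tcc_same, hcc]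
        · by_cases hic' : i = c'
          · rw [hic']
            simp [tcc_other hcc, hcc.symm]
          · simp [tcc_off hic hic', hic, hic', hA i hic hic']
      rw [hdec]
      refine Submodule.add_mem _ ?_ ?_
      · exact Submodule.smul_mem _ _ (Submodule.subset_span (by simp))
      · exact Submodule.smul_mem _ _ (Submodule.subset_span (by simp))
    have hcard := card_image_le_of_span B k _ hspan
    have h2 := Finset.card_le_two (a := (Pi.single c (1 : F) : ι → F))
      (b := (Pi.single c' (1 : F) : ι → F))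
    have hfibre : (Finset.univ : Finset Fˣ).card ≤ 2 * (Finset.univ.image k).card := by
      apply Finset.card_le_mul_card_image
      intro b hb
      obtain ⟨ε₀, _, rfl⟩ := Finset.mem_image.mp hb
      calc (Finset.univ.filter fun x => k x = k ε₀).card ≤ ({ε₀, -ε₀} : Finset Fˣ).card := by
            apply Finset.card_le_card
            intro x hx
            rw [Finset.mem_filter] at hx
            rcases hsq x ε₀ hx.2 with h | h
            · simp [h]
            · simp [h]
        _ ≤ 2 := Finset.card_le_two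
    rw [Finset.card_univ, Fintype.card_units] at hfibre
    omega

end Cfsg.Agent.Lib.Helper15.MonoLeaf
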