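import Mathlib
import Cfsg.Agent.Lib.Helper29.FrDefs
import Cfsg.Agent.Lib.Helper29.FrStdDefs
import Cfsg.Agent.Lib.Helper25.SpinAll
import Cfsg.Agent.Lib.Helper25.SpinForms
import Cfsg.Agent.Lib.Helper25.OmegaNonMax
import Cfsg.Agent.Lib.Helper5.NDGlue
import Cfsg.Agent.Lib.Helper18.OSubR2
import Cfsg.Agent.Lib.Helper11.UTrans

/-!
S5696 part 2 (helper29's market, `notes/S5696_part2_leaves.lean`): leaf S2 `signs_mem`, and the shared tools for S3, S4:
`stdQ_nondeg'`, `mem_omegaGL_of_word` (a matrix acting as an even word of reflections with square norm product lies in `Ω`),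
the reflections `r_{e_a}` and `r_{e_a - e_b}` of the standard form in coordinates.
-/

set_option autoImplicit false
set_option linter.unusedSectionVars false
set_option linter.unusedVariables false

namespace Cfsg.Agent.Lib.Helper15.Fr2Leaf
open Matrix Cfsg.Agent.Lib.Helper11.Mono Cfsg.Agent.Lib.Helper15.MonoLeaf Cfsg.Agent.Lib.Helper2.MonoLeaf
  Cfsg.Agent.Lib.Helper29.Fr Cfsg.Agent.Lib.Helper29.FrStd
open Cfsg.Agent.Lib.Helper25.CD Cfsg.Agent.Lib.Helper25.Spin

variable {F : Type*} [Field F] [Fintype F] {ι : Type} [Fintype ι] [DecidableEq ι]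

/-- the dot product with a coordinate vector -/
lemma sum_single_mul (a : ι) (x : ι → F) : ∑ i, (Pi.single a (1 : F) : ι → F) i * x i = x a := by
  rw [Finset.sum_eq_single a]
  · simp
  · intro j _ hj; simp [hj]
  · simp

/-- `polar (stdQ c)` is non-degenerate (local copy of leaf S0) -/
lemma stdQ_nondeg' (h2 : (2 : F) ≠ 0) {c : F} (hc : c ≠ 0) :
    (QuadraticMap.polarBilin (stdQ ι F c)).Nondegenerate := by
  have h2c : (2 : F) * c ≠ 0 := mul_ne_zero h2 hc
  constructor
  · intro x hx
    ext i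
    have h := hx (Pi.single i 1)
    rw [QuadraticMap.polarBilin_apply_apply, QuadraticMap.polar_comm, polar_stdQ, sum_single_mul] at h
    exact (mul_eq_zero.mp h).resolve_left h2c
  · intro x hx
    ext i
    have h := hx (Pi.single i 1)
    rw [QuadraticMap.polarBilin_apply_apply, polar_stdQ, sum_single_mul] at h
    exact (mul_eq_zero.mp h).resolve_left h2c

/-- a matrix acting as an even word of reflections with square norm product lies in `Ω` -/
lemma mem_omegaGL_of_word (h2 : (2 : F) ≠ 0) (Q : QuadraticForm F (ι → F))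
    (hQ : (QuadraticMap.polarBilin Q).Nondegenerate) (x : GL ι F) (vs : List (ι → F))
    (hvs : ∀ v ∈ vs, Q v ≠ 0) (h : ∀ u, (x : Matrix ι ι F) *ᵥ u = wordProd Q vs u)
    (hev : Even vs.length) (hsq : IsSquare (normProd Q vs)) : x ∈ Cfsg.Geo.omegaGL ⇑Q := by
  have hD := eq_wordG_of_apply Q h
  exact (Cfsg.Agent.Lib.Helper25.Fam.mem_omegaGL_iff Q).2 ⟨wordG Q vs, (mem_omega_iff Q h2 hQ hvs).2 ⟨hev, hsq⟩, Units.ext hD⟩

lemma stdQ_single (c : F) (a : ι) : stdQ ι F c (Pi.single a 1) = c := by
  rw [stdQ_apply, sum_single_mul, Pi.single_eq_same, mul_one]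

/-- the reflection in `e_a` changes the sign of the coordinate `a` -/
lemma reflE_single {c : F} (hc : c ≠ 0) (a : ι) (x : ι → F) :
    reflE (stdQ ι F c) (Pi.single a 1) x = fun i => if i = a then - x i else x i := by
  ext i
  rw [reflE_apply, stdQ_single, polar_stdQ, sum_single_mul]
  simp only [Pi.sub_apply, Pi.smul_apply, smul_eq_mul, Pi.single_apply]
  by_cases hi : i = a
  · subst hi
    rw [if_pos rfl, if_pos rfl]
    field_simp
    ring
  · rw [if_neg hi, if_neg hi, mul_zero, sub_zero]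

/-- S2 -/
theorem signs_mem (h2 : (2 : F) ≠ 0) {c : F} (hc : c ≠ 0) (a b : ι) (hab : a ≠ b) :
    dg (tcc a b (-1 : Fˣ)) ∈ Cfsg.Geo.omegaGL ⇑(stdQ ι F c) := by
  apply mem_omegaGL_of_word h2 (stdQ ι F c) (stdQ_nondeg' h2 hc) _
    [Pi.single a 1, Pi.single b 1]
  · intro v hv
    simp only [List.mem_cons, List.not_mem_nil, or_false] at hv
    rcases hv with rfl | rfl
    · rw [stdQ_single]; exact hc
    · rw [stdQ_single]; exact hc
  · intro u
    rw [dg_mulVec, wordProd_cons, wordProd_cons, wordProd_nil, mul_one, LinearEquiv.mul_apply,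
      reflE_single hc, reflE_single hc]
    ext i
    by_cases hia : i = a
    · subst hia
      simp [tcc, hab]
    · by_cases hib : i = b
      · subst hib
        simp [tcc, hia]
      · simp [tcc, hia, hib]
  · exact ⟨1, rfl⟩
  · rw [normProd_cons, normProd_cons, normProd_nil, stdQ_single, stdQ_single, mul_one]
    exact ⟨c, rfl⟩

end Cfsg.Agent.Lib.Helper15.Fr2Leaf
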