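import Mathlib
import Cfsg.Agent.Lib.Helper15.Fr2S2

/-!
S5696 part 2 (helper29's market, `notes/S5696_part2_leaves.lean`): leaf S3 `threeCycle_mem`.
The permutation matrix of a 3-cycle `σ = swap a b * swap b c` is the product of the reflections in `e_b - e_c` and
`e_a - e_b` (norms `2c`), a word of even length with norm product `(2c)²`.
-/

set_option autoImplicit false
set_option linter.unusedSectionVars false
set_option linter.unusedVariables false

namespace Cfsg.Agent.Lib.Helper15.Fr2Leaf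
open Matrix Cfsg.Agent.Lib.Helper11.Mono Cfsg.Agent.Lib.Helper15.MonoLeaf Cfsg.Agent.Lib.Helper2.MonoLeaf
  Cfsg.Agent.Lib.Helper29.Fr Cfsg.Agent.Lib.Helper29.FrStd
open Cfsg.Agent.Lib.Helper25.CD Cfsg.Agent.Lib.Helper25.Spin

variable {F : Type*} [Field F] [Fintype F] {ι : Type} [Fintype ι] [DecidableEq ι]

lemma sum_sub_single_mul (a b : ι) (x : ι → F) :
    ∑ i, ((Pi.single a (1 : F) - Pi.single b (1 : F) : ι → F)) i * x i = x a - x b := by
  simp only [Pi.sub_apply, sub_mul, Finset.sum_sub_distrib, sum_single_mul]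

lemma stdQ_sub_single (c : F) {a b : ι} (hab : a ≠ b) :
    stdQ ι F c (Pi.single a 1 - Pi.single b 1) = 2 * c := by
  rw [stdQ_apply, sum_sub_single_mul]
  simp only [Pi.sub_apply, Pi.single_eq_same, Pi.single_apply, if_neg hab, if_neg hab.symm]
  ring

/-- the reflection in `e_a - e_b` swaps the coordinates `a`, `b` -/
lemma reflE_sub_single (h2 : (2 : F) ≠ 0) {c : F} (hc : c ≠ 0) {a b : ι} (hab : a ≠ b) (x : ι → F) :
    reflE (stdQ ι F c) (Pi.single a 1 - Pi.single b 1) x = x ∘ Equiv.swap a b := by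
  ext i
  rw [reflE_apply, stdQ_sub_single c hab, polar_stdQ, sum_sub_single_mul]
  simp only [Pi.sub_apply, Pi.smul_apply, smul_eq_mul, Pi.single_apply, Function.comp_apply]
  by_cases hia : i = a
  · subst hia
    rw [Equiv.swap_apply_left, if_pos rfl, if_neg hab]
    field_simp
    ring
  · by_cases hib : i = b
    · subst hib
      rw [Equiv.swap_apply_right, if_neg hia, if_pos rfl]
      field_simp
      ring
    · rw [Equiv.swap_apply_of_ne_of_ne hia hib, if_neg hia, if_neg hib]
      ring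

/-- S3 -/
theorem threeCycle_mem (h2 : (2 : F) ≠ 0) {c : F} (hc : c ≠ 0) (σ : Equiv.Perm ι) (hσ : σ.IsThreeCycle) :
    (pmGL σ : GL ι F) ∈ Cfsg.Geo.omegaGL ⇑(stdQ ι F c) := by
  have hne : σ.support.Nonempty := by
    rw [← Finset.card_pos, hσ.card_support]; norm_num
  obtain ⟨a, ha⟩ := hne
  have hnd := hσ.nodup_iff_mem_support.mpr ha
  have hdec := hσ.eq_swap_mul_swap_iff_mem_support.mpr ha
  have hab : a ≠ σ a := by
    intro h; rw [← h] at hnd; simp at hnd
  have hbc : σ a ≠ σ (σ a) := by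
    intro h; rw [← h] at hnd; simp at hnd
  have h2c : (2 : F) * c ≠ 0 := mul_ne_zero h2 hc
  apply mem_omegaGL_of_word h2 (stdQ ι F c) (stdQ_nondeg' h2 hc) _
    [Pi.single (σ a) 1 - Pi.single (σ (σ a)) 1, Pi.single a 1 - Pi.single (σ a) 1]
  · intro v hv
    simp only [List.mem_cons, List.not_mem_nil, or_false] at hv
    rcases hv with rfl | rfl
    · rw [stdQ_sub_single c hbc]; exact h2c
    · rw [stdQ_sub_single c hab]; exact h2c
  · intro u
    rw [pmGL_val, Matrix.permMatrix_mulVec, wordProd_cons, wordProd_cons, wordProd_nil, mul_one,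
      LinearEquiv.mul_apply, reflE_sub_single h2 hc hab, reflE_sub_single h2 hc hbc]
    conv_lhs => rw [hdec]
    rfl
  · exact ⟨1, rfl⟩
  · rw [normProd_cons, normProd_cons, normProd_nil, stdQ_sub_single c hbc, stdQ_sub_single c hab, mul_one]
    exact ⟨2 * c, rfl⟩

end Cfsg.Agent.Lib.Helper15.Fr2Leaf
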