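import Mathlib
import Cfsg.Prelude.Def_Classical

set_option autoImplicit false

namespace Cfsg.Agent.Lib.Helper15

open Module Matrix

/-- Abstract bound on the dimension of a "totally singular" subspace: `ξ`, `η` are the `x`- and `y`-coordinate maps. -/
theorem ts_bound {F : Type*} [Field F] {V : Type*} [AddCommGroup V] [Module F V] [FiniteDimensional F V]
    (k : ℕ) (ξ η : V →ₗ[F] (Fin k → F)) (U : Submodule F V)
    (h1 : ∀ u ∈ U, η u = 0 → ξ u = 0 → u = 0)
    (h2 : ∀ d ∈ U, ∀ u ∈ U, η d = 0 → ξ d ⬝ᵥ η u = 0) : finrank F U ≤ k := by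
  classical
  set ηU : U →ₗ[F] (Fin k → F) := η.domRestrict U with hηU
  have hrn := LinearMap.finrank_range_add_finrank_ker ηU
  set f : LinearMap.ker ηU →ₗ[F] (Fin k → F) := (ξ.domRestrict U).domRestrict (LinearMap.ker ηU) with hf
  have hfinj : Function.Injective f := by
    rw [← LinearMap.ker_eq_bot, LinearMap.ker_eq_bot']
    rintro ⟨⟨u, hu⟩, hker⟩ hfu
    have h3 : η u = 0 := by simpa [hηU] using hker
    have h4 : ξ u = 0 := by simpa [hf] using hfu
    have := h1 u hu h3 h4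
    subst this
    rfl
  have hr : finrank F (LinearMap.range f) = finrank F (LinearMap.ker ηU) := LinearMap.finrank_range_of_inj hfinj
  set B : LinearMap.BilinForm F (Fin k → F) := Matrix.toBilin' (1 : Matrix (Fin k) (Fin k) F) with hB
  have hBapp : ∀ x y, B x y = x ⬝ᵥ y := by
    intro x y
    rw [hB, Matrix.toBilin'_apply', Matrix.one_mulVec]
  have hBnd : B.Nondegenerate := by
    rw [hB]
    exact Matrix.Nondegenerate.toBilin' (Matrix.nondegenerate_of_det_ne_zero (by simp))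
  have hle : LinearMap.range ηU ≤ B.orthogonal (LinearMap.range f) := by
    rintro _ ⟨⟨u, hu⟩, rfl⟩
    rw [LinearMap.BilinForm.mem_orthogonal_iff]
    rintro _ ⟨⟨⟨d, hd⟩, hker⟩, rfl⟩
    have h3 : η d = 0 := by simpa [hηU] using hker
    rw [hBapp]
    exact h2 d hd u hu h3
  have h5 := Submodule.finrank_mono hle
  rw [LinearMap.BilinForm.finrank_orthogonal hBnd, Module.finrank_fin_fun] at h5
  have h6 : finrank F (LinearMap.range f) ≤ k := by
    have := Submodule.finrank_le (LinearMap.range f)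
    rwa [Module.finrank_fin_fun] at this
  omega

/-- polar form of the plus-type form -/
theorem polar_quadFormPlus {F : Type*} [Field F] (m : ℕ) (u v : Fin m ⊕ Fin m → F) :
    Cfsg.quadFormPlus m F (u + v) - Cfsg.quadFormPlus m F u - Cfsg.quadFormPlus m F v =
      (fun i => u (Sum.inl i)) ⬝ᵥ (fun i => v (Sum.inr i)) + (fun i => v (Sum.inl i)) ⬝ᵥ (fun i => u (Sum.inr i)) := by
  simp only [Cfsg.quadFormPlus, dotProduct, Pi.add_apply]
  rw [← Finset.sum_sub_distrib, ← Finset.sum_sub_distrib, ← Finset.sum_add_distrib]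
  refine Finset.sum_congr rfl fun i _ => ?_
  ring

/-- A totally singular subspace for the plus-type form has dimension at most `m`. -/
theorem ts_plus_le {F : Type*} [Field F] (m : ℕ) (U : Submodule F (Fin m ⊕ Fin m → F))
    (hU : ∀ u ∈ U, Cfsg.quadFormPlus m F u = 0) : finrank F U ≤ m := by
  classical
  set ξ : (Fin m ⊕ Fin m → F) →ₗ[F] (Fin m → F) := LinearMap.funLeft F F Sum.inl with hξ
  set η : (Fin m ⊕ Fin m → F) →ₗ[F] (Fin m → F) := LinearMap.funLeft F F Sum.inr with hη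
  apply ts_bound m ξ η U
  · intro u _ h3 h4
    ext j
    rcases j with j | j
    · exact congrFun h4 j
    · exact congrFun h3 j
  · intro d hd u hu h3
    have hp := polar_quadFormPlus m d u
    rw [hU _ (U.add_mem hd hu), hU d hd, hU u hu] at hp
    have e1 : (fun i => d (Sum.inl i)) = ξ d := rfl
    have e2 : (fun i => u (Sum.inr i)) = η u := rfl
    have e3 : (fun i => d (Sum.inr i)) = η d := rfl
    rw [e1, e2, e3, h3] at hp
    simp at hp
    exact hp.symm

/-- polar form of the minus-type form -/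
theorem polar_quadFormMinus {F : Type*} [Field F] (k : ℕ) (a b : F) (u v : (Fin k ⊕ Fin k) ⊕ Fin 2 → F) :
    Cfsg.quadFormMinus k F a b (u + v) - Cfsg.quadFormMinus k F a b u - Cfsg.quadFormMinus k F a b v =
      (fun i => u (Sum.inl (Sum.inl i))) ⬝ᵥ (fun i => v (Sum.inl (Sum.inr i)))
      + (fun i => v (Sum.inl (Sum.inl i))) ⬝ᵥ (fun i => u (Sum.inl (Sum.inr i)))
      + (2 * u (Sum.inr 0) * v (Sum.inr 0) + a * (u (Sum.inr 0) * v (Sum.inr 1) + u (Sum.inr 1) * v (Sum.inr 0))
          + 2 * b * u (Sum.inr 1) * v (Sum.inr 1)) := by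
  simp only [Cfsg.quadFormMinus, dotProduct, Pi.add_apply]
  have e1 : ∑ x : Fin k, (u (Sum.inl (Sum.inl x)) + v (Sum.inl (Sum.inl x))) * (u (Sum.inl (Sum.inr x)) + v (Sum.inl (Sum.inr x)))
      = ∑ x : Fin k, u (Sum.inl (Sum.inl x)) * u (Sum.inl (Sum.inr x)) + ∑ x : Fin k, v (Sum.inl (Sum.inl x)) * v (Sum.inl (Sum.inr x))
        + (∑ x : Fin k, u (Sum.inl (Sum.inl x)) * v (Sum.inl (Sum.inr x)) + ∑ x : Fin k, v (Sum.inl (Sum.inl x)) * u (Sum.inl (Sum.inr x))) := by
    rw [← Finset.sum_add_distrib, ← Finset.sum_add_distrib, ← Finset.sum_add_distrib]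
    refine Finset.sum_congr rfl fun i _ => ?_
    ring
  rw [e1]
  ring

/-- A totally singular subspace for the minus-type form (anisotropic binary part) has dimension at most `k`
(the number of hyperbolic pairs). -/
theorem ts_minus_le {F : Type*} [Field F] (k : ℕ) (a b : F)
    (hab : ∀ z₁ z₂ : F, z₁ ^ 2 + a * z₁ * z₂ + b * z₂ ^ 2 = 0 → z₁ = 0 ∧ z₂ = 0)
    (U : Submodule F ((Fin k ⊕ Fin k) ⊕ Fin 2 → F))
    (hU : ∀ u ∈ U, Cfsg.quadFormMinus k F a b u = 0) : finrank F U ≤ k := by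
  classical
  set ξ : ((Fin k ⊕ Fin k) ⊕ Fin 2 → F) →ₗ[F] (Fin k → F) := LinearMap.funLeft F F (Sum.inl ∘ Sum.inl) with hξ
  set η : ((Fin k ⊕ Fin k) ⊕ Fin 2 → F) →ₗ[F] (Fin k → F) := LinearMap.funLeft F F (Sum.inl ∘ Sum.inr) with hη
  have hz : ∀ u ∈ U, η u = 0 → u (Sum.inr 0) = 0 ∧ u (Sum.inr 1) = 0 := by
    intro u hu h3
    have hq := hU u hu
    simp only [Cfsg.quadFormMinus] at hq
    have : ∑ i : Fin k, u (Sum.inl (Sum.inl i)) * u (Sum.inl (Sum.inr i)) = 0 := by
      apply Finset.sum_eq_zero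
      intro i _
      have : u (Sum.inl (Sum.inr i)) = 0 := congrFun h3 i
      rw [this, mul_zero]
    rw [this, zero_add] at hq
    exact hab _ _ hq
  apply ts_bound k ξ η U
  · intro u hu h3 h4
    obtain ⟨hz0, hz1⟩ := hz u hu h3
    ext j
    rcases j with (j | j) | j
    · exact congrFun h4 j
    · exact congrFun h3 j
    · fin_cases j
      · exact hz0
      · exact hz1
  · intro d hd u hu h3
    obtain ⟨hz0, hz1⟩ := hz d hd h3
    have hp := polar_quadFormMinus k a b d u
    rw [hU _ (U.add_mem hd hu), hU d hd, hU u hu, hz0, hz1] at hp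
    have e1 : (fun i => d (Sum.inl (Sum.inl i))) = ξ d := rfl
    have e2 : (fun i => u (Sum.inl (Sum.inr i))) = η u := rfl
    have e3 : (fun i => d (Sum.inl (Sum.inr i))) = η d := rfl
    rw [e1, e2, e3, h3] at hp
    simp at hp
    exact hp.symm

/-- The standard maximal totally singular subspace `{y = 0}` of the plus-type form. -/
theorem plus_std_ts {F : Type*} [Field F] (m : ℕ) :
    (∀ u ∈ LinearMap.ker (LinearMap.funLeft F F (Sum.inr : Fin m → Fin m ⊕ Fin m)), Cfsg.quadFormPlus m F u = 0) ∧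
    finrank F (LinearMap.ker (LinearMap.funLeft F F (Sum.inr : Fin m → Fin m ⊕ Fin m))) = m := by
  constructor
  · intro u hu
    rw [LinearMap.mem_ker] at hu
    simp only [Cfsg.quadFormPlus]
    apply Finset.sum_eq_zero
    intro i _
    have : u (Sum.inr i) = 0 := congrFun hu i
    rw [this, mul_zero]
  · have h := LinearMap.finrank_range_add_finrank_ker (LinearMap.funLeft F F (Sum.inr : Fin m → Fin m ⊕ Fin m))
    have hsurj : LinearMap.range (LinearMap.funLeft F F (Sum.inr : Fin m → Fin m ⊕ Fin m)) = ⊤ := by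
      rw [LinearMap.range_eq_top]
      intro y
      refine ⟨Sum.elim 0 y, ?_⟩
      ext i
      simp [LinearMap.funLeft]
    rw [hsurj, finrank_top, Module.finrank_fin_fun] at h
    have h2 : finrank F (Fin m ⊕ Fin m → F) = m + m := by simp
    omega

/-- anisotropy of `z₁² + z₁ z₂ + ζ z₂²` from irreducibility of `t² + t + ζ`. -/
theorem aniso_of_noroot {F : Type*} [Field F] (ζ : F) (hζ : ∀ t : F, t ^ 2 + t + ζ ≠ 0) :
    ∀ z₁ z₂ : F, z₁ ^ 2 + 1 * z₁ * z₂ + ζ * z₂ ^ 2 = 0 → z₁ = 0 ∧ z₂ = 0 := by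
  intro z₁ z₂ h
  by_cases hz : z₂ = 0
  · subst hz
    simp at h
    exact ⟨h, rfl⟩
  · exfalso
    apply hζ (z₁ / z₂)
    field_simp
    linear_combination h

end Cfsg.Agent.Lib.Helper15
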