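import Mathlib
import Cfsg.Prelude.Def_Classical
import Cfsg.Agent.Lib.Helper15.WittBound

/-! Helper15 library: the sign character sum (Arf invariant) of quadratic functions over `ZMod 2`,
and the polar form of the plus-type form over `ZMod 2`. -/

set_option autoImplicit false

namespace Cfsg.Agent.Lib.Helper15

open Matrix


/-- the sign character of `ZMod 2` -/
def chi2 (a : ZMod 2) : ℤ := if a = 0 then 1 else -1

theorem chi2_add (a b : ZMod 2) : chi2 (a + b) = chi2 a * chi2 b := by
  revert a b; decide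

theorem chi2_sub (a b : ZMod 2) : chi2 (a - b) = chi2 a * chi2 b := by
  revert a b; decide

theorem chi2_zero : chi2 0 = 1 := rfl

theorem chi2_ne_zero {a : ZMod 2} (ha : a ≠ 0) : chi2 a = -1 := by
  revert a; decide

section
variable {V : Type*} [AddCommGroup V] [Fintype V]

/-- the character sum of a function `V → ZMod 2` -/
def arfSum (q : V → ZMod 2) : ℤ := ∑ v, chi2 (q v)

variable (f : V → V → ZMod 2) (q : V → ZMod 2)

omit [AddCommGroup V] in
theorem arfSum_comp_equiv (g : V ≃ V) : arfSum (fun v => q (g v)) = arfSum q := by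
  unfold arfSum
  exact Fintype.sum_equiv g _ _ (fun _ => rfl)

theorem arfSum_shift (hq : ∀ u v, q (u + v) = q u + q v + f u v) (w : V) :
    arfSum (fun v => q v + f v w) = chi2 (q w) * arfSum q := by
  unfold arfSum
  have h1 : ∀ v, chi2 (q v + f v w) = chi2 (q w) * chi2 (q (v + w)) := by
    intro v
    have : q v + f v w = q (v + w) - q w := by rw [hq v w]; ring
    rw [this, chi2_sub, mul_comm]
  simp only [h1]
  rw [← Finset.mul_sum]
  congr 1
  exact Fintype.sum_equiv (Equiv.addRight w) _ _ (fun _ => rfl)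

theorem arfSum_sq (hf1 : ∀ u u' v, f (u + u') v = f u v + f u' v) (hf0 : ∀ u, f u u = 0)
    (hnd : ∀ z, z ≠ 0 → ∃ u, f u z ≠ 0)
    (hq : ∀ u v, q (u + v) = q u + q v + f u v) :
    arfSum q * arfSum q = Fintype.card V := by
  classical
  have hq0 : q 0 = 0 := by
    have := hq 0 0
    rw [add_zero, hf0 0, add_zero] at this
    exact left_eq_add.mp this
  have hf0l : ∀ v, f 0 v = 0 := by
    intro v
    have := hf1 0 0 v
    rw [add_zero] at this
    exact left_eq_add.mp this
  have hinner : ∀ z, ∑ u, chi2 (f u z) = if z = 0 then (Fintype.card V : ℤ) else 0 := by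
    intro z
    by_cases hz : z = 0
    · subst hz
      rw [if_pos rfl]
      have : ∀ u, f u 0 = 0 := by
        intro u
        have h1 := hq u 0
        rw [add_zero, hq0, add_zero] at h1
        exact (left_eq_add.mp h1)
      simp [this, chi2_zero]
    · rw [if_neg hz]
      obtain ⟨u₀, hu₀⟩ := hnd z hz
      have h1 : ∑ u, chi2 (f u z) = ∑ u, chi2 (f (u + u₀) z) :=
        (Fintype.sum_equiv (Equiv.addRight u₀) _ _ (fun _ => rfl)).symm
      have h2 : ∑ u, chi2 (f (u + u₀) z) = - ∑ u, chi2 (f u z) := by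
        simp only [hf1, chi2_add, chi2_ne_zero hu₀]
        rw [← Finset.sum_mul]; ring
      linarith
  unfold arfSum
  rw [Finset.sum_mul_sum]
  have h3 : ∀ u, ∑ v, chi2 (q u) * chi2 (q v) = ∑ z, chi2 (q z) * chi2 (f u z) := by
    intro u
    rw [← Fintype.sum_equiv (Equiv.addLeft u) (fun z => chi2 (q u) * chi2 (q (u + z))) _ (fun _ => rfl)]
    refine Finset.sum_congr rfl fun z _ => ?_
    rw [← chi2_add, ← chi2_add, hq u z]
    congr 1
    have : q u + q u = 0 := CharTwo.add_self_eq_zero _
    linear_combination this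
  simp only [h3]
  rw [Finset.sum_comm]
  simp only [← Finset.mul_sum, hinner]
  simp [hq0, chi2_zero]

end



/-- the polar form of the plus-type form over `ZMod 2` -/
def plusPolar (m : ℕ) (u v : Fin m ⊕ Fin m → ZMod 2) : ZMod 2 :=
  Cfsg.quadFormPlus m (ZMod 2) (u + v) - Cfsg.quadFormPlus m (ZMod 2) u - Cfsg.quadFormPlus m (ZMod 2) v

theorem plusPolar_eq (m : ℕ) (u v : Fin m ⊕ Fin m → ZMod 2) :
    plusPolar m u v = ∑ i, (u (Sum.inl i) * v (Sum.inr i) + v (Sum.inl i) * u (Sum.inr i)) := by
  unfold plusPolar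
  rw [polar_quadFormPlus]
  simp only [dotProduct, Finset.sum_add_distrib]

theorem plusPolar_add_left (m : ℕ) (u u' v : Fin m ⊕ Fin m → ZMod 2) :
    plusPolar m (u + u') v = plusPolar m u v + plusPolar m u' v := by
  simp only [plusPolar_eq, Pi.add_apply, ← Finset.sum_add_distrib]
  refine Finset.sum_congr rfl fun i _ => ?_
  ring

theorem plusPolar_self (m : ℕ) (u : Fin m ⊕ Fin m → ZMod 2) : plusPolar m u u = 0 := by
  simp only [plusPolar_eq]
  apply Finset.sum_eq_zero
  intro i _
  exact CharTwo.add_self_eq_zero _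

theorem plusPolar_comm (m : ℕ) (u v : Fin m ⊕ Fin m → ZMod 2) : plusPolar m u v = plusPolar m v u := by
  simp only [plusPolar_eq]
  refine Finset.sum_congr rfl fun i _ => ?_
  ring

theorem plusPolar_nondeg (m : ℕ) (z : Fin m ⊕ Fin m → ZMod 2) (hz : z ≠ 0) :
    ∃ u, plusPolar m u z ≠ 0 := by
  classical
  have : ∃ k, z k ≠ 0 := by
    by_contra h
    push Not at h
    exact hz (funext h)
  obtain ⟨k, hk⟩ := this
  rcases k with i | i
  · refine ⟨Pi.single (Sum.inr i) 1, ?_⟩
    rw [plusPolar_eq]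
    simp [Pi.single_apply, hk]
  · refine ⟨Pi.single (Sum.inl i) 1, ?_⟩
    rw [plusPolar_eq]
    simp [Pi.single_apply, hk]

end Cfsg.Agent.Lib.Helper15
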