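import Cfsg.Agent.Lib.Helper15.QuadSim
import Cfsg.Agent.Lib.Helper15.ArfSum
import Cfsg.Agent.Lib.Helper15.SympChar2

/-! Helper15 library: quadratic functions over `ZMod 2` polarising to the standard alternating form:
conversion to Mathlib quadratic forms, coordinates along a basis, classification into plus/minus type. -/

set_option autoImplicit false

namespace Cfsg.Agent.Lib.Helper15

open Module QuadraticMap



/-- A quadratic function over `ZMod 2` polarising to a biadditive map, as a Mathlib quadratic form. -/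
noncomputable def mkQF2 {V : Type*} [AddCommGroup V] [Module (ZMod 2) V] (q : V → ZMod 2)
    (f : V → V → ZMod 2) (hf : ∀ u u' v, f (u + u') v = f u v + f u' v)
    (hq : ∀ u v, q (u + v) = q u + q v + f u v) (hf0 : ∀ u, f u u = 0) : QuadraticForm (ZMod 2) V :=
  have hq0 : q 0 = 0 := by
    have := hq 0 0
    rw [add_zero, hf0 0, add_zero] at this
    exact left_eq_add.mp this
  have hpol : ∀ u v, polar q u v = f u v := by
    intro u v; rw [polar, hq]; ring
  have hf0l : ∀ v, f 0 v = 0 := by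
    intro v
    have := hf 0 0 v
    rw [add_zero] at this
    exact left_eq_add.mp this
  have hcases : ∀ c : ZMod 2, c = 0 ∨ c = 1 := by decide
  QuadraticMap.ofPolar q
    (by
      intro a x
      rcases hcases a with rfl | rfl
      · simp [hq0]
      · simp)
    (by intro x x' y; rw [hpol, hpol, hpol, hf])
    (by
      intro a x y
      rw [hpol, hpol]
      rcases hcases a with rfl | rfl
      · simp [hf0l]
      · simp)

theorem mkQF2_apply {V : Type*} [AddCommGroup V] [Module (ZMod 2) V] (q : V → ZMod 2)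
    (f : V → V → ZMod 2) (hf : ∀ u u' v, f (u + u') v = f u v + f u' v)
    (hq : ∀ u v, q (u + v) = q u + q v + f u v) (hf0 : ∀ u, f u u = 0) (v : V) :
    mkQF2 q f hf hq hf0 v = q v := rfl

theorem mkQF2_polar {V : Type*} [AddCommGroup V] [Module (ZMod 2) V] (q : V → ZMod 2)
    (f : V → V → ZMod 2) (hf : ∀ u u' v, f (u + u') v = f u v + f u' v)
    (hq : ∀ u v, q (u + v) = q u + q v + f u v) (hf0 : ∀ u, f u u = 0) (u v : V) :
    polar (mkQF2 q f hf hq hf0) u v = f u v := by
  show polar q u v = f u v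
  rw [polar, hq]; ring

/-- transport a quadratic form to coordinates along a basis -/
theorem eq_comp_equivFun {F V ι : Type*} [Field F] [AddCommGroup V] [Module F V] [Fintype ι]
    [DecidableEq ι] (b : Basis ι F V) (Q₁ : QuadraticForm F V) (Q₂ : QuadraticForm F (ι → F))
    (h1 : ∀ i, Q₁ (b i) = Q₂ (Pi.single i 1))
    (h2 : ∀ i j, i ≠ j → polar Q₁ (b i) (b j) = polar Q₂ (Pi.single i 1) (Pi.single j 1)) :
    ∀ v, Q₁ v = Q₂ (b.equivFun v) := by
  have hself : ∀ i, b.equivFun (b i) = Pi.single i 1 := by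
    intro i
    ext j
    rw [Basis.equivFun_self]
    simp [Pi.single_apply, eq_comm]
  have : Q₁ = Q₂.comp b.equivFun.toLinearMap := by
    apply quad_ext_basis b
    · intro i
      rw [comp_apply, LinearEquiv.coe_coe, hself, h1]
    · intro i j hij
      have e : polar (Q₂.comp b.equivFun.toLinearMap) (b i) (b j)
          = polar Q₂ (Pi.single i 1) (Pi.single j 1) := by
        simp only [polar, comp_apply, LinearEquiv.coe_coe, map_add, hself]
      rw [e, h2 i j hij]
  intro v
  rw [this]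
  rfl



section
variable {F : Type*} [Field F]

theorem plusQF_eq (m : ℕ) (v : Fin m ⊕ Fin m → F) : plusQF m v = Cfsg.quadFormPlus m F v := by
  rw [plusQF_apply]; rfl

theorem polar_plusQF' (m : ℕ) (u v : Fin m ⊕ Fin m → F) :
    polar (plusQF m (F := F)) u v
      = ∑ i, (u (Sum.inl i) * v (Sum.inr i) + v (Sum.inl i) * u (Sum.inr i)) := by
  simp only [polar, plusQF_apply, Pi.add_apply]
  rw [← Finset.sum_sub_distrib, ← Finset.sum_sub_distrib]
  refine Finset.sum_congr rfl fun i _ => ?_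
  ring

/-- the minus-type form with `a = c = 1` as a Mathlib quadratic form -/
noncomputable def minusQF (k : ℕ) : QuadraticForm F ((Fin k ⊕ Fin k) ⊕ Fin 2 → F) :=
  (∑ i : Fin k, QuadraticMap.proj (Sum.inl (Sum.inl i)) (Sum.inl (Sum.inr i)))
    + QuadraticMap.proj (Sum.inr 0) (Sum.inr 0) + QuadraticMap.proj (Sum.inr 0) (Sum.inr 1)
    + QuadraticMap.proj (Sum.inr 1) (Sum.inr 1)

theorem minusQF_apply (k : ℕ) (v : (Fin k ⊕ Fin k) ⊕ Fin 2 → F) :
    minusQF k v = (∑ i, v (Sum.inl (Sum.inl i)) * v (Sum.inl (Sum.inr i)))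
      + v (Sum.inr 0) * v (Sum.inr 0) + v (Sum.inr 0) * v (Sum.inr 1) + v (Sum.inr 1) * v (Sum.inr 1) := by
  unfold minusQF
  simp only [_root_.add_apply, _root_.sum_apply, QuadraticMap.proj_apply]

theorem minusQF_eq (k : ℕ) (v : (Fin k ⊕ Fin k) ⊕ Fin 2 → F) :
    minusQF k v = Cfsg.quadFormMinus k F 1 1 v := by
  rw [minusQF_apply]
  unfold Cfsg.quadFormMinus
  ring

theorem polar_minusQF (k : ℕ) (u v : (Fin k ⊕ Fin k) ⊕ Fin 2 → F) :
    polar (minusQF k (F := F)) u v
      = ∑ i, (u (Sum.inl (Sum.inl i)) * v (Sum.inl (Sum.inr i)) + v (Sum.inl (Sum.inl i)) * u (Sum.inl (Sum.inr i)))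
        + 2 * u (Sum.inr 0) * v (Sum.inr 0) + (u (Sum.inr 0) * v (Sum.inr 1) + v (Sum.inr 0) * u (Sum.inr 1))
        + 2 * u (Sum.inr 1) * v (Sum.inr 1) := by
  simp only [polar, minusQF_apply, Pi.add_apply]
  have : ∑ i, (u (Sum.inl (Sum.inl i)) * v (Sum.inl (Sum.inr i)) + v (Sum.inl (Sum.inl i)) * u (Sum.inl (Sum.inr i)))
      = ∑ i, (u (Sum.inl (Sum.inl i)) + v (Sum.inl (Sum.inl i))) * (u (Sum.inl (Sum.inr i)) + v (Sum.inl (Sum.inr i)))
        - ∑ i, u (Sum.inl (Sum.inl i)) * u (Sum.inl (Sum.inr i))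
        - ∑ i, v (Sum.inl (Sum.inl i)) * v (Sum.inl (Sum.inr i)) := by
    rw [← Finset.sum_sub_distrib, ← Finset.sum_sub_distrib]
    refine Finset.sum_congr rfl fun i _ => ?_
    ring
  rw [this]
  ring

end

theorem classify_F2 (k : ℕ) (q : (Fin (k + 1) ⊕ Fin (k + 1) → ZMod 2) → ZMod 2)
    (hq : ∀ u v, q (u + v) = q u + q v + plusPolar (k + 1) u v) :
    (∃ g : (Fin (k + 1) ⊕ Fin (k + 1) → ZMod 2) ≃ₗ[ZMod 2] (Fin (k + 1) ⊕ Fin (k + 1) → ZMod 2),
        ∀ v, q v = Cfsg.quadFormPlus (k + 1) (ZMod 2) (g v)) ∨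
    (∃ g : (Fin (k + 1) ⊕ Fin (k + 1) → ZMod 2) ≃ₗ[ZMod 2] ((Fin k ⊕ Fin k) ⊕ Fin 2 → ZMod 2),
        ∀ v, q v = Cfsg.quadFormMinus k (ZMod 2) 1 1 (g v)) := by
  classical
  have h20 : (2 : ZMod 2) = 0 := by decide
  set Q := mkQF2 q (plusPolar (k + 1)) (plusPolar_add_left _) hq (plusPolar_self _) with hQ
  have hQapp : ∀ v, Q v = q v := fun v => rfl
  have hQpol : ∀ u v, polar Q u v = plusPolar (k + 1) u v := mkQF2_polar _ _ _ _ _
  have hQnd : (polarBilin Q).Nondegenerate := by
    constructor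
    · intro x hx
      by_contra hne
      obtain ⟨u, hu⟩ := plusPolar_nondeg (k + 1) x hne
      apply hu
      rw [plusPolar_comm, ← hQpol, ← polarBilin_apply_apply]
      exact hx u
    · intro x hx
      by_contra hne
      obtain ⟨u, hu⟩ := plusPolar_nondeg (k + 1) x hne
      apply hu
      rw [← hQpol, ← polarBilin_apply_apply]
      exact hx u
  have hfr : finrank (ZMod 2) (Fin (k + 1) ⊕ Fin (k + 1) → ZMod 2) = 2 * (k + 1) := by
    rw [Module.finrank_fintype_fun_eq_card]; simp; ring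
  rcases even_family Q k ⊤ (ndOn_top Q hQnd) (by rw [finrank_top, hfr]) with
    ⟨e, f, H⟩ | ⟨e, f, x, y, ζ, H⟩
  · left
    have hcard : Fintype.card (Fin (k + 1) ⊕ Fin (k + 1)) = finrank (ZMod 2) (Fin (k + 1) ⊕ Fin (k + 1) → ZMod 2) := by
      rw [hfr]; simp; ring
    let b := basisOfLinearIndependentOfCardEqFinrank' _ H.linearIndependent hcard
    have hb : ⇑b = Sum.elim e f := coe_basisOfLinearIndependentOfCardEqFinrank' _ _ _
    have H2 := H.2.1
    have H3 := H.2.2.1
    have H4 := H.2.2.2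
    refine ⟨b.equivFun, fun v => ?_⟩
    rw [← plusQF_eq, ← hQapp]
    apply eq_comp_equivFun b Q (plusQF (k + 1))
    · rintro (i | i)
      · simp [hb, (H2 i).1, plusQF_apply, Pi.single_apply]
      · simp [hb, (H2 i).2, plusQF_apply, Pi.single_apply]
    · rintro (i | i) (j | j) hij
      · simp [hb, (H4 i j).1, polar_plusQF', Pi.single_apply]
      · simp [hb, H3 i j, polar_plusQF', Pi.single_apply]
        simp only [eq_comm]
      · rw [hb]
        simp only [Sum.elim_inr, Sum.elim_inl]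
        rw [polar_comm, H3 j i]
        simp [polar_plusQF', Pi.single_apply, eq_comm]
      · simp [hb, (H4 i j).2, polar_plusQF', Pi.single_apply]
  · right
    have hcard : Fintype.card ((Fin k ⊕ Fin k) ⊕ Fin 2) = finrank (ZMod 2) (Fin (k + 1) ⊕ Fin (k + 1) → ZMod 2) := by
      rw [hfr]; simp; ring
    let b := basisOfLinearIndependentOfCardEqFinrank' _ H.linearIndependent hcard
    have hb : ⇑b = Sum.elim (Sum.elim e f) ![x, y] := coe_basisOfLinearIndependentOfCardEqFinrank' _ _ _
    have H2 := H.1.2.1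
    have H3 := H.1.2.2.1
    have H4 := H.1.2.2.2
    have hζ := H.2.2.2.1
    have hQx := H.2.2.2.2.2.1
    have hxy := H.2.2.2.2.2.2.1
    have hQy := H.2.2.2.2.2.2.2.1
    have hζ1 : ζ = 1 := by
      have h0 := hζ 0
      have : ∀ z : ZMod 2, (0 : ZMod 2) ^ 2 + 0 + z ≠ 0 → z = 1 := by decide
      exact this ζ h0
    have hyx : polar Q y x = 1 := by rw [polar_comm]; exact hxy
    have hxe : ∀ i, polar Q x (e i) = 0 := fun i => (H.2.2.2.2.1 i).1.1
    have hxf : ∀ i, polar Q x (f i) = 0 := fun i => (H.2.2.2.2.1 i).1.2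
    have hye : ∀ i, polar Q y (e i) = 0 := fun i => (H.2.2.2.2.1 i).2.1
    have hyf : ∀ i, polar Q y (f i) = 0 := fun i => (H.2.2.2.2.1 i).2.2
    have hex : ∀ i, polar Q (e i) x = 0 := fun i => by rw [polar_comm]; exact hxe i
    have hfx : ∀ i, polar Q (f i) x = 0 := fun i => by rw [polar_comm]; exact hxf i
    have hey : ∀ i, polar Q (e i) y = 0 := fun i => by rw [polar_comm]; exact hye i
    have hfy : ∀ i, polar Q (f i) y = 0 := fun i => by rw [polar_comm]; exact hyf i
    refine ⟨b.equivFun, fun v => ?_⟩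
    rw [← minusQF_eq, ← hQapp]
    apply eq_comp_equivFun b Q (minusQF k)
    · rintro ((i | i) | j)
      · simp [hb, (H2 i).1, minusQF_apply, Pi.single_apply]
      · simp [hb, (H2 i).2, minusQF_apply, Pi.single_apply]
      · fin_cases j
        · simp [hb, hQx, minusQF_apply, Pi.single_apply]
        · simp [hb, hQy, hζ1, minusQF_apply, Pi.single_apply]
    · rintro ((i | i) | j) ((i' | i') | j') hij
      · simp [hb, (H4 i i').1, polar_minusQF, Pi.single_apply]
      · simp [hb, H3 i i', polar_minusQF, Pi.single_apply]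
        simp only [eq_comm]
      · fin_cases j' <;> simp [hb, hex, hey, polar_minusQF, Pi.single_apply]
      · rw [hb]
        simp only [Sum.elim_inr, Sum.elim_inl]
        rw [polar_comm, H3 i' i]
        simp [polar_minusQF, Pi.single_apply, eq_comm]
      · simp [hb, (H4 i i').2, polar_minusQF, Pi.single_apply]
      · fin_cases j' <;> simp [hb, hfx, hfy, polar_minusQF, Pi.single_apply]
      · fin_cases j <;> simp [hb, hxe, hye, polar_minusQF, Pi.single_apply]
      · fin_cases j <;> simp [hb, hxf, hyf, polar_minusQF, Pi.single_apply]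
      · fin_cases j <;> fin_cases j'
        · exact absurd rfl hij
        · simp [hb, hxy, polar_minusQF, Pi.single_apply]
        · simp [hb, hyx, polar_minusQF, Pi.single_apply]
        · exact absurd rfl hij

/-- orthogonality of characters on `Fin m → ZMod 2` -/
theorem sum_chi2_dot (m : ℕ) (x : Fin m → ZMod 2) :
    ∑ y : Fin m → ZMod 2, chi2 (∑ i, x i * y i) = if x = 0 then (2 : ℤ) ^ m else 0 := by
  classical
  by_cases hx : x = 0
  · subst hx
    rw [if_pos rfl]
    simp [chi2_zero]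
  · rw [if_neg hx]
    have : ∃ i, x i ≠ 0 := by
      by_contra h
      push Not at h
      exact hx (funext h)
    obtain ⟨i, hi⟩ := this
    have h1 : ∑ y : Fin m → ZMod 2, chi2 (∑ j, x j * y j)
        = ∑ y : Fin m → ZMod 2, chi2 (∑ j, x j * (y + (Pi.single i (1 : ZMod 2) : Fin m → ZMod 2)) j) := by
      symm
      apply Fintype.sum_equiv (Equiv.addRight (Pi.single i (1 : ZMod 2) : Fin m → ZMod 2))
      intro y
      simp only [Equiv.coe_addRight]
    have h2 : ∀ y : Fin m → ZMod 2, ∑ j, x j * (y + (Pi.single i (1 : ZMod 2) : Fin m → ZMod 2)) j = (∑ j, x j * y j) + x i := by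
      intro y
      simp only [Pi.add_apply, mul_add, Finset.sum_add_distrib, Pi.single_apply, mul_ite, mul_one,
        mul_zero, Finset.sum_ite_eq', Finset.mem_univ, if_true]
    have h3 : ∑ y : Fin m → ZMod 2, chi2 (∑ j, x j * (y + (Pi.single i (1 : ZMod 2) : Fin m → ZMod 2)) j)
        = - ∑ y : Fin m → ZMod 2, chi2 (∑ j, x j * y j) := by
      simp only [h2, chi2_add, chi2_ne_zero hi]
      rw [← Finset.sum_mul]; ring
    linarith

theorem arfSum_plus (m : ℕ) : arfSum (Cfsg.quadFormPlus m (ZMod 2)) = 2 ^ m := by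
  classical
  unfold arfSum
  rw [← Fintype.sum_equiv (Equiv.sumArrowEquivProdArrow (Fin m) (Fin m) (ZMod 2)).symm
    (fun p : (Fin m → ZMod 2) × (Fin m → ZMod 2) => chi2 (∑ i, p.1 i * p.2 i)) _ (by
      intro p
      simp [Cfsg.quadFormPlus, Equiv.sumArrowEquivProdArrow])]
  rw [Fintype.sum_prod_type]
  simp only [sum_chi2_dot]
  simp

/-- the numbers of zeros and non-zeros of the plus form over `ZMod 2` -/
theorem card_zeros_plus (m : ℕ) (hm : 1 ≤ m) :
    Nat.card {w : Fin m ⊕ Fin m → ZMod 2 // Cfsg.quadFormPlus m (ZMod 2) w = 0} = 2 ^ (2 * m - 1) + 2 ^ (m - 1) ∧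
    Nat.card {w : Fin m ⊕ Fin m → ZMod 2 // Cfsg.quadFormPlus m (ZMod 2) w ≠ 0} = 2 ^ (2 * m - 1) - 2 ^ (m - 1) := by
  classical
  set P := Cfsg.quadFormPlus m (ZMod 2) with hP
  have hS := arfSum_plus m
  unfold arfSum at hS
  have h1 : ∑ v, chi2 (P v) = ((Finset.univ.filter (fun v => P v = 0)).card : ℤ)
      - ((Finset.univ.filter (fun v => ¬ P v = 0)).card : ℤ) := by
    have : ∀ v, chi2 (P v) = (if P v = 0 then (1 : ℤ) else 0) - (if ¬ P v = 0 then (1 : ℤ) else 0) := by
      intro v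
      by_cases h : P v = 0
      · simp [h, chi2_zero]
      · simp [h, chi2_ne_zero h]
    simp only [this, Finset.sum_sub_distrib, Finset.sum_boole]
  have h2 : (Finset.univ.filter (fun v => P v = 0)).card + (Finset.univ.filter (fun v => ¬ P v = 0)).card
      = 2 ^ (2 * m) := by
    rw [Finset.card_filter_add_card_filter_not]
    simp [Finset.card_univ]
    ring
  rw [Nat.card_eq_fintype_card, Nat.card_eq_fintype_card, Fintype.card_subtype, Fintype.card_subtype]
  obtain ⟨k, rfl⟩ : ∃ k, m = k + 1 := ⟨m - 1, by omega⟩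
  have e1 : 2 * (k + 1) - 1 = 2 * k + 1 := by omega
  have e2 : k + 1 - 1 = k := by omega
  rw [e1, e2]
  have e3 : (2 : ℕ) ^ (2 * (k + 1)) = 2 * 2 ^ (2 * k + 1) := by ring
  have e4 : (2 : ℤ) ^ (k + 1) = 2 * 2 ^ k := by ring
  have hle : 2 ^ k ≤ 2 ^ (2 * k + 1) := Nat.pow_le_pow_right (by norm_num) (by omega)
  rw [h1, e4] at hS
  rw [e3] at h2
  constructor
  · zify at h2 ⊢; linarith
  · zify [hle] at h2 ⊢; linarith

end Cfsg.Agent.Lib.Helper15
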