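import Mathlib
import Cfsg.Agent.S0752

/-! Helper15 library: two nondegenerate alternating forms on the same finite-dimensional space are
isometric (from the Darboux basis theorem S0752). -/

set_option autoImplicit false

namespace Cfsg.Agent.Lib.Helper15.AltIso

open Module

theorem exists_isometry_of_alt {F : Type*} [Field F] {W : Type*} [AddCommGroup W] [Module F W]
    [FiniteDimensional F W] (β₁ β₂ : LinearMap.BilinForm F W) (h₁ : β₁.IsAlt) (h₂ : β₂.IsAlt)
    (n₁ : ∀ u, (∀ v, β₁ u v = 0) → u = 0) (n₂ : ∀ u, (∀ v, β₂ u v = 0) → u = 0) :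
    ∃ θ : W ≃ₗ[F] W, ∀ u v, β₁ (θ u) (θ v) = β₂ u v := by
  classical
  obtain ⟨m₁, k₁, b₁, hxy₁, hxx₁, hyy₁, hrad₁⟩ := Cfsg.Agent.S0752.result β₁ h₁
  obtain ⟨m₂, k₂, b₂, hxy₂, hxx₂, hyy₂, hrad₂⟩ := Cfsg.Agent.S0752.result β₂ h₂
  have hk₁ : k₁ = 0 := by
    by_contra hne
    have j : Fin k₁ := ⟨0, Nat.pos_of_ne_zero hne⟩
    exact b₁.ne_zero (Sum.inr j) (n₁ _ (hrad₁ j))
  have hk₂ : k₂ = 0 := by
    by_contra hne
    have j : Fin k₂ := ⟨0, Nat.pos_of_ne_zero hne⟩
    exact b₂.ne_zero (Sum.inr j) (n₂ _ (hrad₂ j))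
  subst hk₁ hk₂
  have hm : m₁ = m₂ := by
    have e1 := Module.finrank_eq_card_basis b₁
    have e2 := Module.finrank_eq_card_basis b₂
    rw [e1] at e2
    simp only [Fintype.card_sum, Fintype.card_fin] at e2
    omega
  subst hm
  refine ⟨b₂.equiv b₁ (Equiv.refl _), ?_⟩
  have key : β₁.comp (b₂.equiv b₁ (Equiv.refl _)).toLinearMap
      (b₂.equiv b₁ (Equiv.refl _)).toLinearMap = β₂ := by
    apply LinearMap.BilinForm.ext_basis b₂
    intro i j
    rw [LinearMap.BilinForm.comp_apply]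
    simp only [LinearEquiv.coe_coe, Basis.equiv_apply, Equiv.refl_apply]
    rcases i with (i | i) | i
    · rcases j with (j | j) | j
      · rw [hxx₁, hxx₂]
      · rw [hxy₁, hxy₂]
      · exact j.elim0
    · rcases j with (j | j) | j
      · rw [← h₁.neg_eq, ← h₂.neg_eq, hxy₁, hxy₂]
      · rw [hyy₁, hyy₂]
      · exact j.elim0
    · exact i.elim0
  intro u v
  rw [← key, LinearMap.BilinForm.comp_apply]
  rfl

end Cfsg.Agent.Lib.Helper15.AltIso
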