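import Mathlib
import Cfsg.Agent.Lib.Helper15.AltIso

/-! Helper15 library: correcting an alternating form on the range of a self-adjoint idempotent. -/

set_option autoImplicit false
set_option linter.unusedSectionVars false

namespace Cfsg.Agent.Lib.Helper15.AltGlue

open Matrix Cfsg.Agent.Lib.Helper15.AltIso

variable {F : Type*} [Field F] {ι : Type} [Fintype ι] [DecidableEq ι]

lemma dot_mulVec' (M N : Matrix ι ι F) (u v : ι → F) :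
    (M *ᵥ u) ⬝ᵥ N *ᵥ v = u ⬝ᵥ (Mᵀ * N) *ᵥ v := by
  rw [← Matrix.mulVec_mulVec, Matrix.dotProduct_mulVec u, Matrix.vecMul_transpose]

lemma mat_ext_bilin' (M N : Matrix ι ι F)
    (h : ∀ u v : ι → F, u ⬝ᵥ M *ᵥ v = u ⬝ᵥ N *ᵥ v) : M = N := by
  apply Matrix.toBilin'.injective
  apply LinearMap.ext₂
  intro u v
  rw [Matrix.toBilin'_apply', Matrix.toBilin'_apply', h]

lemma restrict_toBilin' (Λ : Matrix ι ι F) (W : Submodule F (ι → F)) (u v : W) :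
    (Matrix.toBilin' Λ).restrict W u v = (u : ι → F) ⬝ᵥ Λ *ᵥ (v : ι → F) := by
  rw [← Matrix.toBilin'_apply']
  rfl

/-- correct the form `Γ` to `G` on the range of the idempotent `E` -/
theorem glue_one (G Γ E : Matrix ι ι F) (hGalt : ∀ u : ι → F, u ⬝ᵥ G *ᵥ u = 0)
    (hΓalt : ∀ u : ι → F, u ⬝ᵥ Γ *ᵥ u = 0)
    (hGnd : ∀ u : ι → F, (∀ v, u ⬝ᵥ G *ᵥ v = 0) → u = 0)
    (hΓnd : ∀ u : ι → F, (∀ v, u ⬝ᵥ Γ *ᵥ v = 0) → u = 0)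
    (hEE : E * E = E) (hGE : Eᵀ * G = G * E) (hΓE : Eᵀ * Γ = Γ * E) :
    ∃ Θ Θ' : Matrix ι ι F, Θ * Θ' = 1 ∧ Θ * E = E * Θ ∧ Θ * (1 - E) = 1 - E ∧
      Θᵀ * Γ * Θ * E = G * E := by
  classical
  obtain ⟨W, hW⟩ : ∃ W : Submodule F (ι → F), W = LinearMap.range (Matrix.toLin' E) := ⟨_, rfl⟩
  have hEW : ∀ w : W, E *ᵥ (w : ι → F) = w := by
    intro w
    have hw : (w : ι → F) ∈ LinearMap.range (Matrix.toLin' E) := by rw [← hW]; exact w.2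
    obtain ⟨v, hv⟩ := hw
    rw [Matrix.toLin'_apply] at hv
    rw [← hv, Matrix.mulVec_mulVec, hEE]
  have hmemW : ∀ v : ι → F, E *ᵥ v ∈ W := by
    intro v
    rw [hW]
    exact ⟨v, by rw [Matrix.toLin'_apply]⟩
  have hE1 : E * (1 - E) = 0 := by rw [Matrix.mul_sub, Matrix.mul_one, hEE, sub_self]
  have h1E : (1 - E) * E = 0 := by rw [Matrix.sub_mul, Matrix.one_mul, hEE, sub_self]
  -- nondegeneracy on W
  have hnd : ∀ (Λ : Matrix ι ι F), (∀ u : ι → F, (∀ v, u ⬝ᵥ Λ *ᵥ v = 0) → u = 0) →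
      Eᵀ * Λ = Λ * E → ∀ u : W, (∀ v : W, (u : ι → F) ⬝ᵥ Λ *ᵥ (v : ι → F) = 0) → u = 0 := by
    intro Λ hΛ hΛE u hu
    apply Subtype.ext
    apply hΛ
    intro v
    have hv : v = E *ᵥ v + (1 - E) *ᵥ v := by
      rw [← Matrix.add_mulVec, add_sub_cancel, Matrix.one_mulVec]
    rw [hv, Matrix.mulVec_add, dotProduct_add, hu ⟨_, hmemW v⟩, zero_add]
    nth_rewrite 1 [← hEW u]
    rw [Matrix.mulVec_mulVec, dot_mulVec', ← Matrix.mul_assoc, hΛE, Matrix.mul_assoc, hE1,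
      Matrix.mul_zero, Matrix.zero_mulVec, dotProduct_zero]
  obtain ⟨θ, hθ⟩ := exists_isometry_of_alt ((Matrix.toBilin' Γ).restrict W)
    ((Matrix.toBilin' G).restrict W)
    (fun u => by rw [restrict_toBilin']; exact hΓalt _)
    (fun u => by rw [restrict_toBilin']; exact hGalt _)
    (fun u hu => hnd Γ hΓnd hΓE u (fun v => by
      have := hu v
      rwa [restrict_toBilin'] at this))
    (fun u hu => hnd G hGnd hGE u (fun v => by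
      have := hu v
      rwa [restrict_toBilin'] at this))
  have hθ' : ∀ u v : W, (θ u : ι → F) ⬝ᵥ Γ *ᵥ (θ v : ι → F) = (u : ι → F) ⬝ᵥ G *ᵥ (v : ι → F) := by
    intro u v
    have := hθ u v
    rwa [restrict_toBilin', restrict_toBilin'] at this
  -- the maps
  obtain ⟨P, hP⟩ : ∃ P : (ι → F) →ₗ[F] W, ∀ v, ((P v : W) : ι → F) = E *ᵥ v :=
    ⟨(Matrix.toLin' E).codRestrict W (fun v => by rw [Matrix.toLin'_apply]; exact hmemW v),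
      fun v => by rw [LinearMap.codRestrict_apply, Matrix.toLin'_apply]⟩
  obtain ⟨T, hT⟩ : ∃ T : (ι → F) →ₗ[F] (ι → F), ∀ v, T v = (θ (P v) : ι → F) + (1 - E) *ᵥ v :=
    ⟨W.subtype ∘ₗ θ.toLinearMap ∘ₗ P + Matrix.toLin' (1 - E), fun v => by
      rw [LinearMap.add_apply, Matrix.toLin'_apply]; rfl⟩
  obtain ⟨T', hT'⟩ : ∃ T' : (ι → F) →ₗ[F] (ι → F),
      ∀ v, T' v = (θ.symm (P v) : ι → F) + (1 - E) *ᵥ v :=
    ⟨W.subtype ∘ₗ θ.symm.toLinearMap ∘ₗ P + Matrix.toLin' (1 - E), fun v => by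
      rw [LinearMap.add_apply, Matrix.toLin'_apply]; rfl⟩
  have hPW : ∀ w : W, P (w : ι → F) = w := by
    intro w
    apply Subtype.ext
    rw [hP, hEW]
  have hP1 : ∀ v, P ((1 - E) *ᵥ v) = 0 := by
    intro v
    apply Subtype.ext
    rw [hP, Matrix.mulVec_mulVec, hE1, Matrix.zero_mulVec]
    rfl
  have h1W : ∀ w : W, (1 - E) *ᵥ (w : ι → F) = 0 := by
    intro w
    rw [Matrix.sub_mulVec, Matrix.one_mulVec, hEW, sub_self]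
  have hTT' : ∀ v, T (T' v) = v := by
    intro v
    rw [hT, hT', map_add, hPW, hP1, add_zero, LinearEquiv.apply_symm_apply, hP,
      Matrix.mulVec_add, h1W, zero_add, Matrix.mulVec_mulVec]
    have : (1 - E) * (1 - E) = 1 - E := by
      rw [Matrix.mul_sub, Matrix.mul_one, h1E, sub_zero]
    rw [this, ← Matrix.add_mulVec, add_sub_cancel, Matrix.one_mulVec]
  have hTE : ∀ v, T (E *ᵥ v) = (θ (P v) : ι → F) := by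
    intro v
    have h3 : P (E *ᵥ v) = P v := by
      apply Subtype.ext
      rw [hP, hP, Matrix.mulVec_mulVec, hEE]
    rw [hT, h3, Matrix.mulVec_mulVec, h1E, Matrix.zero_mulVec, add_zero]
  have hET : ∀ v, E *ᵥ T v = (θ (P v) : ι → F) := by
    intro v
    rw [hT, Matrix.mulVec_add, hEW, Matrix.mulVec_mulVec, hE1, Matrix.zero_mulVec, add_zero]
  have hT1 : ∀ v, T ((1 - E) *ᵥ v) = (1 - E) *ᵥ v := by
    intro v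
    rw [hT, hP1, map_zero, Matrix.mulVec_mulVec]
    have : (1 - E) * (1 - E) = 1 - E := by
      rw [Matrix.mul_sub, Matrix.mul_one, h1E, sub_zero]
    rw [this]
    simp
  have hmv : ∀ (S : (ι → F) →ₗ[F] (ι → F)) (v : ι → F), LinearMap.toMatrix' S *ᵥ v = S v := by
    intro S v
    rw [← Matrix.toLin'_apply, Matrix.toLin'_toMatrix']
  refine ⟨LinearMap.toMatrix' T, LinearMap.toMatrix' T', ?_, ?_, ?_, ?_⟩
  · rw [← LinearMap.toMatrix'_comp]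
    have : T ∘ₗ T' = LinearMap.id := by
      apply LinearMap.ext
      intro v
      rw [LinearMap.comp_apply, hTT']
      rfl
    rw [this, LinearMap.toMatrix'_id]
  · apply Matrix.toLin'.injective
    apply LinearMap.ext
    intro v
    rw [Matrix.toLin'_apply, Matrix.toLin'_apply, ← Matrix.mulVec_mulVec, ← Matrix.mulVec_mulVec,
      hmv, hmv, hTE, hET]
  · apply Matrix.toLin'.injective
    apply LinearMap.ext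
    intro v
    rw [Matrix.toLin'_apply, Matrix.toLin'_apply, ← Matrix.mulVec_mulVec, hmv, hT1]
  · apply mat_ext_bilin'
    intro u v
    have h3 : u ⬝ᵥ ((LinearMap.toMatrix' T)ᵀ * Γ * LinearMap.toMatrix' T * E) *ᵥ v =
        (T u) ⬝ᵥ Γ *ᵥ (T (E *ᵥ v)) := by
      rw [← hmv T u, ← hmv T (E *ᵥ v), dot_mulVec', Matrix.mulVec_mulVec, Matrix.mulVec_mulVec]
    rw [h3, hTE, hT, add_dotProduct, hθ', hP, hP, dot_mulVec', hGE, Matrix.mulVec_mulVec,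
      Matrix.mul_assoc, hEE]
    have h4 : ((1 - E) *ᵥ u) ⬝ᵥ Γ *ᵥ (θ (P v) : ι → F) = 0 := by
      nth_rewrite 1 [← hEW (θ (P v))]
      rw [Matrix.mulVec_mulVec, dot_mulVec']
      have h5 : (1 - E)ᵀ * (Γ * E) = 0 := by
        rw [transpose_sub, transpose_one, Matrix.sub_mul, Matrix.one_mul, ← Matrix.mul_assoc, hΓE,
          Matrix.mul_assoc, hEE, sub_self]
      rw [h5, Matrix.zero_mulVec, dotProduct_zero]
    rw [h4, add_zero]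


/-- `glue_one` with the derived facts on the complement -/
theorem glue_one' (G Γ E : Matrix ι ι F) (hGalt : ∀ u : ι → F, u ⬝ᵥ G *ᵥ u = 0)
    (hΓalt : ∀ u : ι → F, u ⬝ᵥ Γ *ᵥ u = 0)
    (hGnd : ∀ u : ι → F, (∀ v, u ⬝ᵥ G *ᵥ v = 0) → u = 0)
    (hΓnd : ∀ u : ι → F, (∀ v, u ⬝ᵥ Γ *ᵥ v = 0) → u = 0)
    (hEE : E * E = E) (hGE : Eᵀ * G = G * E) (hΓE : Eᵀ * Γ = Γ * E) :
    ∃ Θ Θ' : Matrix ι ι F, Θ * Θ' = 1 ∧ Θ * E = E * Θ ∧ Θ * (1 - E) = 1 - E ∧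
      (1 - E) * Θ = 1 - E ∧ Θᵀ * Γ * Θ * E = G * E ∧ Θᵀ * Γ * Θ * (1 - E) = Γ * (1 - E) := by
  obtain ⟨Θ, Θ', h1, h2, h3, h4⟩ := glue_one G Γ E hGalt hΓalt hGnd hΓnd hEE hGE hΓE
  have h5 : (1 - E) * Θ = 1 - E := by
    rw [Matrix.sub_mul, Matrix.one_mul, ← h2, ← h3, Matrix.mul_sub, Matrix.mul_one]
  refine ⟨Θ, Θ', h1, h2, h3, h5, h4, ?_⟩
  have h6 : (1 - E)ᵀ * Γ = Γ * (1 - E) := by
    rw [transpose_sub, transpose_one, Matrix.sub_mul, Matrix.one_mul, hΓE, Matrix.mul_sub,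
      Matrix.mul_one]
  calc Θᵀ * Γ * Θ * (1 - E) = Θᵀ * Γ * (Θ * (1 - E)) := by rw [Matrix.mul_assoc]
    _ = Θᵀ * (Γ * (1 - E)) := by rw [h3, Matrix.mul_assoc]
    _ = ((1 - E) * Θ)ᵀ * Γ := by rw [← h6, transpose_mul, Matrix.mul_assoc]
    _ = Γ * (1 - E) := by rw [h5, h6]

/-- correct `Γ` to `G` on two orthogonal idempotents; off them the forms agree -/
theorem glue_two (G Γ E₁ E₂ : Matrix ι ι F) (hGalt : ∀ u : ι → F, u ⬝ᵥ G *ᵥ u = 0)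
    (hΓalt : ∀ u : ι → F, u ⬝ᵥ Γ *ᵥ u = 0)
    (hGnd : ∀ u : ι → F, (∀ v, u ⬝ᵥ G *ᵥ v = 0) → u = 0)
    (hΓnd : ∀ u : ι → F, (∀ v, u ⬝ᵥ Γ *ᵥ v = 0) → u = 0)
    (hE₁ : E₁ * E₁ = E₁) (hE₂ : E₂ * E₂ = E₂) (h12 : E₁ * E₂ = 0) (h21 : E₂ * E₁ = 0)
    (hGE₁ : E₁ᵀ * G = G * E₁) (hΓE₁ : E₁ᵀ * Γ = Γ * E₁)
    (hGE₂ : E₂ᵀ * G = G * E₂) (hΓE₂ : E₂ᵀ * Γ = Γ * E₂)
    (hF : Γ * (1 - E₁ - E₂) = G * (1 - E₁ - E₂)) :
    ∃ Θ Θ' : Matrix ι ι F, Θ * Θ' = 1 ∧ Θ * E₁ = E₁ * Θ ∧ Θ * E₂ = E₂ * Θ ∧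
      Θ * (1 - E₁ - E₂) = 1 - E₁ - E₂ ∧ Θᵀ * Γ * Θ = G := by
  obtain ⟨Θ₁, Θ₁', a1, a2, a3, a4, a5, a6⟩ :=
    glue_one' G Γ E₁ hGalt hΓalt hGnd hΓnd hE₁ hGE₁ hΓE₁
  obtain ⟨Γ₁, hΓ₁⟩ : ∃ Γ₁, Γ₁ = Θ₁ᵀ * Γ * Θ₁ := ⟨_, rfl⟩
  rw [← hΓ₁] at a5 a6
  have a1' : Θ₁' * Θ₁ = 1 := mul_eq_one_comm.1 a1
  have hΓ₁alt : ∀ u : ι → F, u ⬝ᵥ Γ₁ *ᵥ u = 0 := by
    intro u
    have := hΓalt (Θ₁ *ᵥ u)
    rw [dot_mulVec', Matrix.mulVec_mulVec] at this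
    rw [hΓ₁]
    exact this
  have hΓ₁nd : ∀ u : ι → F, (∀ v, u ⬝ᵥ Γ₁ *ᵥ v = 0) → u = 0 := by
    intro u hu
    have h3 : Θ₁ *ᵥ u = 0 := by
      apply hΓnd
      intro v
      have := hu (Θ₁' *ᵥ v)
      rw [hΓ₁, Matrix.mulVec_mulVec, Matrix.mul_assoc, Matrix.mul_assoc, a1, Matrix.mul_one,
        ← dot_mulVec'] at this
      exact this
    have := congrArg (fun w => Θ₁' *ᵥ w) h3
    simp only [Matrix.mulVec_mulVec, a1', Matrix.one_mulVec, Matrix.mulVec_zero] at this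
    exact this
  have e12 : (1 - E₁) * E₂ = E₂ := by rw [Matrix.sub_mul, Matrix.one_mul, h12, sub_zero]
  have e21 : E₂ * (1 - E₁) = E₂ := by rw [Matrix.mul_sub, Matrix.mul_one, h21, sub_zero]
  have hΘ₁E₂ : Θ₁ * E₂ = E₂ := by rw [← e12, ← Matrix.mul_assoc, a3]
  have hE₂Θ₁ : E₂ * Θ₁ = E₂ := by rw [← e21, Matrix.mul_assoc, a4]
  have hΓ₁E₂ : Γ₁ * E₂ = Γ * E₂ := by
    rw [← e12, ← Matrix.mul_assoc, a6, Matrix.mul_assoc]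
  have hE₂Γ₁ : E₂ᵀ * Γ₁ = Γ₁ * E₂ := by
    rw [hΓ₁E₂, hΓ₁]
    calc E₂ᵀ * (Θ₁ᵀ * Γ * Θ₁) = (Θ₁ * E₂)ᵀ * Γ * Θ₁ := by
          rw [transpose_mul]; simp only [Matrix.mul_assoc]
      _ = Γ * (E₂ * Θ₁) := by rw [hΘ₁E₂, hΓE₂, Matrix.mul_assoc]
      _ = Γ * E₂ := by rw [hE₂Θ₁]
  obtain ⟨Θ₂, Θ₂', b1, b2, b3, b4, b5, b6⟩ :=
    glue_one' G Γ₁ E₂ hGalt hΓ₁alt hGnd hΓ₁nd hE₂ hGE₂ hE₂Γ₁
  have b1' : Θ₂' * Θ₂ = 1 := mul_eq_one_comm.1 b1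
  have f21 : (1 - E₂) * E₁ = E₁ := by rw [Matrix.sub_mul, Matrix.one_mul, h21, sub_zero]
  have f12 : E₁ * (1 - E₂) = E₁ := by rw [Matrix.mul_sub, Matrix.mul_one, h12, sub_zero]
  have hΘ₂E₁ : Θ₂ * E₁ = E₁ := by rw [← f21, ← Matrix.mul_assoc, b3]
  have hE₁Θ₂ : E₁ * Θ₂ = E₁ := by rw [← f12, Matrix.mul_assoc, b4]
  obtain ⟨F₀, hF₀⟩ : ∃ F₀, F₀ = 1 - E₁ - E₂ := ⟨_, rfl⟩
  rw [← hF₀] at hF ⊢
  have g1 : (1 - E₁) * F₀ = F₀ := by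
    rw [hF₀, Matrix.sub_mul, Matrix.one_mul, Matrix.mul_sub, Matrix.mul_sub, Matrix.mul_one, hE₁,
      h12]
    abel
  have g2 : (1 - E₂) * F₀ = F₀ := by
    rw [hF₀, Matrix.sub_mul, Matrix.one_mul, Matrix.mul_sub, Matrix.mul_sub, Matrix.mul_one, hE₂,
      h21]
    abel
  have hsum : E₁ + E₂ + F₀ = 1 := by rw [hF₀]; abel
  refine ⟨Θ₁ * Θ₂, Θ₂' * Θ₁', ?_, ?_, ?_, ?_, ?_⟩
  · calc Θ₁ * Θ₂ * (Θ₂' * Θ₁') = Θ₁ * (Θ₂ * Θ₂') * Θ₁' := by simp only [Matrix.mul_assoc]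
      _ = 1 := by rw [b1, Matrix.mul_one, a1]
  · rw [Matrix.mul_assoc, hΘ₂E₁, a2, ← Matrix.mul_assoc, ← a2, Matrix.mul_assoc, hE₁Θ₂]
  · rw [Matrix.mul_assoc, b2, ← Matrix.mul_assoc, hΘ₁E₂, ← Matrix.mul_assoc, hE₂Θ₁]
  · rw [Matrix.mul_assoc, ← g2, ← Matrix.mul_assoc Θ₂, b3, g2, ← g1, ← Matrix.mul_assoc, a3]
  · have hΓ₂ : (Θ₁ * Θ₂)ᵀ * Γ * (Θ₁ * Θ₂) = Θ₂ᵀ * Γ₁ * Θ₂ := by
      rw [hΓ₁, transpose_mul]; simp only [Matrix.mul_assoc]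
    rw [hΓ₂]
    have k1 : Θ₂ᵀ * Γ₁ * Θ₂ * E₁ = G * E₁ := by
      rw [← f21, ← Matrix.mul_assoc, b6, Matrix.mul_assoc, f21, a5]
    have k3 : Θ₂ᵀ * Γ₁ * Θ₂ * F₀ = G * F₀ := by
      rw [← g2, ← Matrix.mul_assoc, b6, Matrix.mul_assoc, g2, ← g1, ← Matrix.mul_assoc, a6,
        Matrix.mul_assoc, g1, hF]
    calc Θ₂ᵀ * Γ₁ * Θ₂ = Θ₂ᵀ * Γ₁ * Θ₂ * (E₁ + E₂ + F₀) := by rw [hsum, Matrix.mul_one]
      _ = G * E₁ + G * E₂ + G * F₀ := by rw [Matrix.mul_add, Matrix.mul_add, k1, b5, k3]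
      _ = G := by rw [← Matrix.mul_add, ← Matrix.mul_add, hsum, Matrix.mul_one]

end Cfsg.Agent.Lib.Helper15.AltGlue
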