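import Mathlib

/-! Helper15 library: the twisted reciprocal polynomial `star σ P = (σP)(0)⁻¹ · reverse (σP)` and
roots of irreducible polynomials over finite fields. -/

set_option autoImplicit false

namespace Cfsg.Agent.Lib.Helper15.StarPoly

open Polynomial

section basic

variable {K : Type*} [Field K]

/-- twisted reciprocal polynomial -/
noncomputable def star (σ : K →+* K) (P : K[X]) : K[X] :=
  C ((P.map σ).coeff 0)⁻¹ * (P.map σ).reverse

lemma star_mul (σ : K →+* K) (P Q : K[X]) : star σ (P * Q) = star σ P * star σ Q := by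
  unfold star
  rw [Polynomial.map_mul, reverse_mul_of_domain, mul_coeff_zero, mul_inv, C_mul]
  ring

lemma star_one (σ : K →+* K) : star σ (1 : K[X]) = 1 := by
  unfold star
  rw [Polynomial.map_one, ← C_1, reverse_C, C_1, coeff_one_zero, inv_one, C_1, one_mul]

/-- `star` as a monoid homomorphism -/
noncomputable def starHom (σ : K →+* K) : K[X] →* K[X] where
  toFun := star σ
  map_one' := star_one σ
  map_mul' := star_mul σ

lemma star_pow (σ : K →+* K) (P : K[X]) (n : ℕ) : star σ (P ^ n) = star σ P ^ n :=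
  map_pow (starHom σ) P n

lemma star_prod {ι : Type*} (σ : K →+* K) (s : Finset ι) (f : ι → K[X]) :
    star σ (∏ i ∈ s, f i) = ∏ i ∈ s, star σ (f i) :=
  map_prod (starHom σ) f s

lemma coeff_star (σ : K →+* K) (P : K[X]) (j : ℕ) (hj : j ≤ P.natDegree) :
    (star σ P).coeff j = (σ (P.coeff 0))⁻¹ * σ (P.coeff (P.natDegree - j)) := by
  unfold star
  rw [coeff_C_mul, coeff_reverse, natDegree_map, revAt_le hj, coeff_map, coeff_map]

lemma coeff_star_of_lt (σ : K →+* K) (P : K[X]) (j : ℕ) (hj : P.natDegree < j) :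
    (star σ P).coeff j = 0 := by
  unfold star
  rw [coeff_C_mul, coeff_reverse, natDegree_map, revAt_eq_self_of_lt hj, coeff_map, coeff_map,
    coeff_eq_zero_of_natDegree_lt hj, map_zero, mul_zero]

lemma coeff_zero_star (σ : K →+* K) (P : K[X]) :
    (star σ P).coeff 0 = (σ (P.coeff 0))⁻¹ * σ P.leadingCoeff := by
  rw [coeff_star σ P 0 (Nat.zero_le _), Nat.sub_zero]
  rfl

lemma natDegree_star (σ : K →+* K) (P : K[X]) (h0 : P.coeff 0 ≠ 0) :
    (star σ P).natDegree = P.natDegree := by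
  have hσ0 : σ (P.coeff 0) ≠ 0 := (map_ne_zero σ).2 h0
  apply le_antisymm
  · rw [natDegree_le_iff_coeff_eq_zero]
    intro j hj
    exact coeff_star_of_lt σ P j hj
  · apply le_natDegree_of_ne_zero
    rw [coeff_star σ P _ le_rfl, Nat.sub_self]
    exact mul_ne_zero (inv_ne_zero hσ0) hσ0

lemma monic_star (σ : K →+* K) (P : K[X]) (h0 : P.coeff 0 ≠ 0) : (star σ P).Monic := by
  have hσ0 : σ (P.coeff 0) ≠ 0 := (map_ne_zero σ).2 h0
  unfold Monic leadingCoeff
  rw [natDegree_star σ P h0, coeff_star σ P _ le_rfl, Nat.sub_self, inv_mul_cancel₀ hσ0]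

lemma coeff_zero_star_ne_zero (σ : K →+* K) (P : K[X]) (h0 : P.coeff 0 ≠ 0) :
    (star σ P).coeff 0 ≠ 0 := by
  have hσ0 : σ (P.coeff 0) ≠ 0 := (map_ne_zero σ).2 h0
  have hP : P ≠ 0 := by
    rintro rfl
    exact h0 (coeff_zero 0)
  rw [coeff_zero_star]
  exact mul_ne_zero (inv_ne_zero hσ0) ((map_ne_zero σ).2 (leadingCoeff_ne_zero.2 hP))

lemma star_star (σ : K →+* K) (hσ : ∀ x, σ (σ x) = x) (P : K[X]) (hm : P.Monic)
    (h0 : P.coeff 0 ≠ 0) : star σ (star σ P) = P := by
  have hσ0 : σ (P.coeff 0) ≠ 0 := (map_ne_zero σ).2 h0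
  have hd := natDegree_star σ P h0
  have h0' := coeff_zero_star_ne_zero σ P h0
  ext j
  by_cases hj : j ≤ P.natDegree
  · rw [coeff_star σ _ j (by rw [hd]; exact hj), hd, coeff_zero_star, hm.leadingCoeff, map_one,
      mul_one, coeff_star σ P _ (Nat.sub_le _ _), Nat.sub_sub_self hj, map_inv₀, hσ, map_mul,
      map_inv₀, hσ, hσ, inv_inv, ← mul_assoc, mul_inv_cancel₀ h0, one_mul]
  · push Not at hj
    rw [coeff_star_of_lt σ _ j (by rw [hd]; exact hj), coeff_eq_zero_of_natDegree_lt hj]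

lemma star_X_sub_one (σ : K →+* K) : star σ (X - 1 : K[X]) = X - 1 := by
  have h1 : (X - 1 : K[X]) = X - C 1 := by rw [C_1]
  have hd : (X - 1 : K[X]).natDegree = 1 := by rw [h1]; exact natDegree_X_sub_C 1
  have hc0 : (X - 1 : K[X]).coeff 0 = -1 := by
    rw [coeff_sub, coeff_X_zero, coeff_one_zero, zero_sub]
  have hc1 : (X - 1 : K[X]).coeff 1 = 1 := by
    rw [coeff_sub, coeff_X_one, coeff_one, if_neg (by norm_num), sub_zero]
  ext j
  rcases Nat.lt_or_ge 1 j with hj | hj
  · rw [coeff_star_of_lt σ _ j (by rw [hd]; exact hj), coeff_eq_zero_of_natDegree_lt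
      (by rw [hd]; exact hj)]
  · rw [coeff_star σ _ j (by rw [hd]; exact hj), hd, hc0, map_neg, map_one]
    interval_cases j
    · rw [Nat.sub_zero, hc1, hc0, map_one, mul_one, inv_neg, inv_one]
    · rw [Nat.sub_self, hc0, hc1, map_neg, map_one, inv_neg, inv_one, neg_mul_neg, one_mul]

lemma star_X_pow_sub_one (σ : K →+* K) (r : ℕ) (hr : 0 < r) :
    star σ (X ^ r - 1 : K[X]) = X ^ r - 1 := by
  have h1 : (X ^ r - 1 : K[X]) = X ^ r - C 1 := by rw [C_1]
  have hd : (X ^ r - 1 : K[X]).natDegree = r := by rw [h1]; exact natDegree_X_pow_sub_C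
  have hc : ∀ j, (X ^ r - 1 : K[X]).coeff j = (if j = r then 1 else 0) - if j = 0 then 1 else 0 := by
    intro j
    rw [coeff_sub, coeff_X_pow, coeff_one]
  ext j
  rcases Nat.lt_or_ge r j with hj | hj
  · rw [coeff_star_of_lt σ _ j (by rw [hd]; exact hj), coeff_eq_zero_of_natDegree_lt
      (by rw [hd]; exact hj)]
  · rw [coeff_star σ _ j (by rw [hd]; exact hj), hd, hc 0, hc (r - j), hc j,
      if_neg hr.ne, if_pos rfl]
    by_cases hj0 : j = 0
    · subst hj0
      rw [Nat.sub_zero, if_pos rfl, if_neg hr.ne', if_neg hr.ne, if_pos rfl]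
      simp
    · by_cases hjr : j = r
      · subst hjr
        rw [Nat.sub_self, if_neg hr.ne, if_pos rfl, if_pos rfl, if_neg hr.ne']
        simp
      · have h3 : r - j ≠ r := by omega
        have h4 : r - j ≠ 0 := by omega
        rw [if_neg h3, if_neg h4, if_neg hjr, if_neg hj0]
        simp

/-- `star` of a monic irreducible polynomial with nonzero constant term is irreducible -/
lemma irreducible_star (σ : K →+* K) (hσ : ∀ x, σ (σ x) = x) (P : K[X]) (hm : P.Monic)
    (h0 : P.coeff 0 ≠ 0) (hirr : Irreducible P) : Irreducible (star σ P) := by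
  have hd := natDegree_star σ P h0
  have h0' := coeff_zero_star_ne_zero σ P h0
  refine ⟨?_, ?_⟩
  · intro hu
    have := natDegree_eq_zero_of_isUnit hu
    rw [hd] at this
    exact hirr.not_isUnit (isUnit_iff.2 ⟨P.coeff 0, isUnit_iff_ne_zero.2 h0,
      (eq_C_of_natDegree_eq_zero this).symm⟩)
  · intro f g hfg
    have hf0 : f.coeff 0 ≠ 0 := by
      intro h
      apply h0'
      rw [hfg, mul_coeff_zero, h, zero_mul]
    have hg0 : g.coeff 0 ≠ 0 := by
      intro h
      apply h0'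
      rw [hfg, mul_coeff_zero, h, mul_zero]
    have h3 : P = star σ f * star σ g := by
      rw [← star_mul, ← hfg, star_star σ hσ P hm h0]
    have key : ∀ e : K[X], e.coeff 0 ≠ 0 → IsUnit (star σ e) → IsUnit e := by
      intro e he hu
      have h4 := natDegree_eq_zero_of_isUnit hu
      rw [natDegree_star σ e he] at h4
      exact isUnit_iff.2 ⟨e.coeff 0, isUnit_iff_ne_zero.2 he, (eq_C_of_natDegree_eq_zero h4).symm⟩
    rcases hirr.isUnit_or_isUnit h3 with hu | hu
    · exact Or.inl (key f hf0 hu)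
    · exact Or.inr (key g hg0 hu)

end basic


section roots

variable {K : Type*} [Field K] {L : Type*} [Field L] [Algebra K L]

/-- a root `y ≠ 0` of `P` gives the root `(y^(p^f))⁻¹` of `star σ P` when `σ` is the `p^f`-power
map -/
lemma star_root (p f : ℕ) [Fact p.Prime] [CharP L p] (σ : K →+* K)
    (hσ : ∀ c, algebraMap K L (σ c) = (algebraMap K L c) ^ (p ^ f)) (P : K[X]) (y : L)
    (hy : y ≠ 0) (hP : aeval y P = 0) : aeval ((y ^ (p ^ f))⁻¹) (star σ P) = 0 := by
  unfold star
  rw [map_mul, aeval_C]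
  have hne : y ^ (p ^ f) ≠ 0 := pow_ne_zero _ hy
  letI : Invertible (y ^ (p ^ f)) := invertibleOfNonzero hne
  have h1 : eval₂ (algebraMap K L) (⅟(y ^ (p ^ f))) (reverse (P.map σ)) = 0 := by
    rw [eval₂_reverse_eq_zero_iff, eval₂_map]
    have h2 : (algebraMap K L).comp σ = (iterateFrobenius L p f).comp (algebraMap K L) := by
      ext c
      rw [RingHom.comp_apply, RingHom.comp_apply, hσ, iterateFrobenius_def]
    rw [h2]
    have h3 : y ^ (p ^ f) = iterateFrobenius L p f y := (iterateFrobenius_def ..).symm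
    rw [h3, ← hom_eval₂]
    have : eval₂ (algebraMap K L) y P = 0 := by rwa [← aeval_def]
    rw [this, map_zero]
  rw [invOf_eq_inv] at h1
  rw [aeval_def, h1, mul_zero]

/-- Frobenius conjugates of a root are roots -/
lemma aeval_pow_card_pow (p : ℕ) [Fact p.Prime] [Finite K] [CharP K p] [CharP L p] (P : K[X])
    (y : L) (m : ℕ) : aeval (y ^ (Nat.card K ^ m)) P = (aeval y P) ^ (Nat.card K ^ m) := by
  let _ : Fintype K := Fintype.ofFinite K
  obtain ⟨k, -, hk⟩ := FiniteField.card K p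
  have hQ : Nat.card K ^ m = p ^ ((k : ℕ) * m) := by
    rw [Nat.card_eq_fintype_card, hk, pow_mul]
  have h2 : (iterateFrobenius L p ((k : ℕ) * m)).comp (algebraMap K L) = algebraMap K L := by
    ext c
    rw [RingHom.comp_apply, iterateFrobenius_def, ← map_pow, ← hQ, Nat.card_eq_fintype_card,
      FiniteField.pow_card_pow]
  rw [hQ, aeval_def, aeval_def]
  have h3 : y ^ p ^ ((k : ℕ) * m) = iterateFrobenius L p ((k : ℕ) * m) y :=
    (iterateFrobenius_def ..).symm
  have h4 : (eval₂ (algebraMap K L) y P) ^ p ^ ((k : ℕ) * m) =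
      iterateFrobenius L p ((k : ℕ) * m) (eval₂ (algebraMap K L) y P) :=
    (iterateFrobenius_def ..).symm
  rw [h3, h4, hom_eval₂, h2]

end roots

section galois

variable {K : Type*} [Field K] [Finite K]

/-- the roots of an irreducible polynomial over a finite field in its root field are the Frobenius
conjugates of the canonical root -/
theorem exists_pow_of_root (p : ℕ) [Fact p.Prime] [CharP K p] (h : K[X])
    [hirr : Fact (Irreducible h)] (y : AdjoinRoot h) (hy : aeval y h = 0) :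
    ∃ m : ℕ, y = (AdjoinRoot.root h) ^ (Nat.card K ^ m) := by
  haveI : Module.Finite K (AdjoinRoot h) := (AdjoinRoot.powerBasis hirr.out.ne_zero).finite
  haveI : Finite (AdjoinRoot h) := Module.finite_of_finite K
  let φ : AdjoinRoot h →ₐ[K] AdjoinRoot h :=
    AdjoinRoot.liftAlgHom h (Algebra.ofId K _) y (by rw [aeval_def] at hy; exact hy)
  have hinj : Function.Injective φ := φ.toRingHom.injective
  have hbij : Function.Bijective φ := ⟨hinj, Finite.injective_iff_surjective.1 hinj⟩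
  obtain ⟨m, hm⟩ := FiniteField.exists_forall_apply_eq_pow K p (AdjoinRoot h)
    (AlgEquiv.ofBijective φ hbij)
  refine ⟨m, ?_⟩
  have h5 : φ (AdjoinRoot.root h) = y := AdjoinRoot.liftAlgHom_root h _ y _
  have h6 := hm (AdjoinRoot.root h)
  rw [AlgEquiv.coe_ofBijective, h5] at h6
  exact h6

/-- `star σ h = h` for an irreducible factor `h ≠ X - 1` of `X^r - 1` iff `-p^f` is a power of
`|K|` modulo `r` -/
theorem star_eq_self_iff (p f : ℕ) [Fact p.Prime] [CharP K p] (σ : K →+* K)
    (hσ : ∀ c, σ c = c ^ (p ^ f)) (hσσ : ∀ c, σ (σ c) = c) (r : ℕ) (hr : r.Prime) (h : K[X])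
    (hm : h.Monic) (hirr : Irreducible h) (hdvd : h ∣ X ^ r - 1) (hne : h ≠ X - 1) :
    star σ h = h ↔ ∃ m : ℕ, ((p ^ f + Nat.card K ^ m : ℕ) : ZMod r) = 0 := by
  haveI : Fact (Irreducible h) := ⟨hirr⟩
  haveI : Fact r.Prime := ⟨hr⟩
  obtain ⟨ζ, hζ⟩ : ∃ ζ : AdjoinRoot h, ζ = AdjoinRoot.root h := ⟨_, rfl⟩
  haveI : CharP (AdjoinRoot h) p :=
    charP_of_injective_algebraMap (algebraMap K (AdjoinRoot h)).injective p
  have hζ0 : aeval ζ h = 0 := by
    rw [hζ, AdjoinRoot.aeval_eq, AdjoinRoot.mk_self]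
  have hζr : ζ ^ r = 1 := by
    obtain ⟨g, hg⟩ := hdvd
    have := congrArg (aeval ζ) hg
    rw [map_mul, hζ0, zero_mul, map_sub, map_pow, aeval_X, map_one, sub_eq_zero] at this
    exact this
  have hζ1 : ζ ≠ 1 := by
    intro h1
    apply hne
    have h2 : eval 1 h = 0 := by
      have h3 : aeval (algebraMap K (AdjoinRoot h) 1) h = 0 := by rw [map_one, ← h1]; exact hζ0
      rw [aeval_algebraMap_apply_eq_algebraMap_eval] at h3
      exact (map_eq_zero_iff _ (algebraMap K (AdjoinRoot h)).injective).1 h3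
    have h4 : (X - C 1 : K[X]) ∣ h := dvd_iff_isRoot.2 h2
    rw [C_1] at h4
    have h5 : (X - 1 : K[X]).Monic := by rw [← C_1]; exact monic_X_sub_C 1
    have h6 : Irreducible (X - 1 : K[X]) := by rw [← C_1]; exact irreducible_X_sub_C 1
    exact (eq_of_monic_of_associated h5 hm (h6.associated_of_dvd hirr h4)).symm
  have hord : orderOf ζ = r := orderOf_eq_prime hζr hζ1
  have hζne : ζ ≠ 0 := by
    intro h0
    rw [h0, zero_pow hr.pos.ne'] at hζr
    exact zero_ne_one hζr
  have h0 : h.coeff 0 ≠ 0 := by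
    intro hc
    rw [coeff_zero_eq_eval_zero] at hc
    obtain ⟨g, hg⟩ := hdvd
    have := congrArg (eval 0) hg
    rw [eval_mul, hc, zero_mul, eval_sub, eval_pow, eval_X, eval_one, zero_pow hr.pos.ne',
      zero_sub] at this
    exact one_ne_zero (neg_eq_zero.1 this)
  have hroot : aeval ((ζ ^ (p ^ f))⁻¹) (star σ h) = 0 :=
    star_root p f σ (fun c => by rw [hσ, map_pow]) h ζ hζne hζ0
  have hstar_irr := irreducible_star σ hσσ h hm h0 hirr
  have hstar_mon := monic_star σ h h0
  constructor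
  · intro hs
    rw [hs] at hroot
    obtain ⟨m, hm'⟩ := exists_pow_of_root p h _ hroot
    refine ⟨m, ?_⟩
    rw [ZMod.natCast_eq_zero_iff, ← hord]
    apply orderOf_dvd_of_pow_eq_one
    rw [← hζ] at hm'
    rw [pow_add, ← hm', mul_inv_cancel₀ (pow_ne_zero _ hζne)]
  · rintro ⟨m, hm'⟩
    rw [ZMod.natCast_eq_zero_iff, ← hord] at hm'
    have h1 : ζ ^ (p ^ f + Nat.card K ^ m) = 1 := orderOf_dvd_iff_pow_eq_one.1 hm'
    have h2 : (ζ ^ (p ^ f))⁻¹ = ζ ^ (Nat.card K ^ m) := by
      rw [pow_add] at h1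
      exact inv_eq_of_mul_eq_one_right h1
    have h3 : aeval ((ζ ^ (p ^ f))⁻¹) h = 0 := by
      rw [h2, aeval_pow_card_pow p, hζ0, zero_pow]
      exact pow_ne_zero _ Nat.card_pos.ne'
    rw [minpoly.eq_of_irreducible_of_monic hstar_irr hroot hstar_mon,
      ← minpoly.eq_of_irreducible_of_monic hirr h3 hm]

end galois

end Cfsg.Agent.Lib.Helper15.StarPoly
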