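import Mathlib
import Cfsg.Agent.Lib.Helper15.StarPoly
import Cfsg.Agent.Lib.Helper15.AltIso
import Cfsg.Agent.Lib.Helper15.AltGlue
import Cfsg.Agent.Lib.Helper15.SympChar2

set_option autoImplicit false

namespace Cfsg.Agent.Lib.Helper15.SpReal

open Polynomial Module
open scoped Matrix

universe u

section defs

variable {F : Type u} [Field F]

/-- `f` is the characteristic polynomial of an isometry `T` with `T^N = 1` of some nondegenerate
alternating space -/
def SympReal (N : ℕ) (f : F[X]) : Prop :=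
  ∃ (W : Type u) (_ : AddCommGroup W) (_ : Module F W) (_ : FiniteDimensional F W)
    (T : W →ₗ[F] W) (β : LinearMap.BilinForm F W),
    β.IsAlt ∧ (∀ u, (∀ v, β u v = 0) → u = 0) ∧ (∀ u v, β (T u) (T v) = β u v) ∧ T ^ N = 1 ∧
      T.charpoly = f

lemma sympReal_one (N : ℕ) : SympReal N (1 : F[X]) := by
  refine ⟨PUnit, inferInstance, inferInstance, inferInstance, 0, 0, ?_, ?_, ?_, ?_, ?_⟩
  · intro u; rfl
  · intro u _; exact Subsingleton.elim _ _
  · intro u v; rfl
  · apply LinearMap.ext; intro x; exact Subsingleton.elim _ _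
  · apply Polynomial.eq_one_of_monic_natDegree_zero (LinearMap.charpoly_monic _)
    rw [LinearMap.charpoly_natDegree, finrank_zero_of_subsingleton]

lemma prodMap_pow' {W₁ W₂ : Type*} [AddCommGroup W₁] [Module F W₁] [AddCommGroup W₂] [Module F W₂]
    (T₁ : W₁ →ₗ[F] W₁) (T₂ : W₂ →ₗ[F] W₂) (k : ℕ) :
    (T₁.prodMap T₂) ^ k = (T₁ ^ k).prodMap (T₂ ^ k) := by
  induction k with
  | zero => rw [pow_zero, pow_zero, pow_zero, LinearMap.prodMap_one]
  | succ k ih => rw [pow_succ, pow_succ, pow_succ, ih, LinearMap.prodMap_mul]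

lemma SympReal.mul {N : ℕ} {f g : F[X]} (hf : SympReal N f) (hg : SympReal N g) :
    SympReal N (f * g) := by
  obtain ⟨W₁, _, _, _, T₁, β₁, ha₁, hn₁, hi₁, hp₁, hc₁⟩ := hf
  obtain ⟨W₂, _, _, _, T₂, β₂, ha₂, hn₂, hi₂, hp₂, hc₂⟩ := hg
  let β : LinearMap.BilinForm F (W₁ × W₂) :=
    β₁.compl₁₂ (LinearMap.fst F W₁ W₂) (LinearMap.fst F W₁ W₂) +
      β₂.compl₁₂ (LinearMap.snd F W₁ W₂) (LinearMap.snd F W₁ W₂)
  have hβ : ∀ x y, β x y = β₁ x.1 y.1 + β₂ x.2 y.2 := fun x y => rfl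
  refine ⟨W₁ × W₂, inferInstance, inferInstance, inferInstance, T₁.prodMap T₂, β, ?_, ?_, ?_, ?_, ?_⟩
  · intro x
    rw [hβ, ha₁, ha₂, add_zero]
  · intro x hx
    have h1 : x.1 = 0 := by
      apply hn₁
      intro v
      have := hx (v, 0)
      rw [hβ] at this
      simpa using this
    have h2 : x.2 = 0 := by
      apply hn₂
      intro v
      have := hx (0, v)
      rw [hβ] at this
      simpa using this
    exact Prod.ext h1 h2
  · intro x y
    rw [hβ, hβ]
    show β₁ (T₁ x.1) (T₁ y.1) + β₂ (T₂ x.2) (T₂ y.2) = _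
    rw [hi₁, hi₂]
  · rw [prodMap_pow', hp₁, hp₂, LinearMap.prodMap_one]
  · rw [LinearMap.charpoly_prodMap, hc₁, hc₂]

lemma SympReal.pow {N : ℕ} {f : F[X]} (hf : SympReal N f) (k : ℕ) : SympReal N (f ^ k) := by
  induction k with
  | zero => rw [pow_zero]; exact sympReal_one N
  | succ k ih => rw [pow_succ]; exact ih.mul hf

lemma SympReal.prod {N : ℕ} {ι : Type*} (s : Finset ι) (f : ι → F[X])
    (hf : ∀ i ∈ s, SympReal N (f i)) : SympReal N (∏ i ∈ s, f i) :=
  Finset.prod_induction f (SympReal N) (fun _ _ ha hb => ha.mul hb) (sympReal_one N) hf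

end defs


section hyp

variable {F : Type u} [Field F]

/-- characteristic polynomial of the inverse transpose -/
theorem charpoly_invT {n : Type*} [Fintype n] [DecidableEq n] (A Ai : Matrix n n F)
    (hA : A * Ai = 1) : (Aiᵀ).charpoly = StarPoly.star (RingHom.id F) A.charpoly := by
  have hAu : IsUnit A := ⟨⟨A, Ai, hA, mul_eq_one_comm.1 hA⟩, rfl⟩
  have hB : IsUnit (Aᵀ) := by
    rw [Matrix.isUnit_transpose]
    exact hAu
  have hinv : Aiᵀ = (Aᵀ)⁻¹ := by
    symm
    apply Matrix.inv_eq_left_inv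
    rw [← Matrix.transpose_mul, hA, Matrix.transpose_one]
  have hcp : (Aᵀ).charpoly = A.charpoly.map (RingHom.id F) := by
    rw [Matrix.charpoly_transpose, Polynomial.map_id]
  rw [hinv, Matrix.charpoly_inv _ hB, ← Matrix.reverse_charpoly, hcp]
  unfold StarPoly.star
  have hdet := Matrix.det_eq_sign_charpoly_coeff (Aᵀ)
  rw [hcp] at hdet
  have hdet0 : (Aᵀ).det ≠ 0 := by
    rw [Matrix.isUnit_iff_isUnit_det] at hB
    exact hB.ne_zero
  rw [Ring.inverse_eq_inv']
  have h1 : ((map (RingHom.id F) A.charpoly).coeff 0)⁻¹ =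
      (-1) ^ Fintype.card n * (Aᵀ).det⁻¹ := by
    rw [hdet, mul_inv, ← mul_assoc]
    have h3 : ((-1 : F) ^ Fintype.card n) * ((-1) ^ Fintype.card n) = 1 := by
      rw [← mul_pow]; norm_num
    have h4 : ((-1 : F) ^ Fintype.card n)⁻¹ = (-1) ^ Fintype.card n := by
      rw [inv_eq_iff_eq_inv]
      exact eq_inv_of_mul_eq_one_left h3
    rw [h4, h3, one_mul]
  rw [h1, C_mul, C_pow, C_neg, C_1]

/-- the hyperbolic realisation: `diag(C, C⁻ᵀ)` on `Fⁿ × Fⁿ` -/
theorem sympReal_hyperbolic (N d : ℕ) (C Ci : Matrix (Fin d) (Fin d) F) (h1 : C * Ci = 1)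
    (hN : C ^ N = 1) :
    SympReal N (C.charpoly * StarPoly.star (RingHom.id F) C.charpoly) := by
  have h2 : Ci * C = 1 := mul_eq_one_comm.1 h1
  let β : LinearMap.BilinForm F ((Fin d → F) × (Fin d → F)) :=
    LinearMap.mk₂ F (fun x y => x.1 ⬝ᵥ y.2 - y.1 ⬝ᵥ x.2)
      (by intro x x' y; simp only [Prod.fst_add, Prod.snd_add, add_dotProduct, dotProduct_add]; ring)
      (by intro c x y; simp only [Prod.smul_fst, Prod.smul_snd, smul_dotProduct, dotProduct_smul,
        smul_eq_mul]; ring)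
      (by intro x y y'; simp only [Prod.fst_add, Prod.snd_add, add_dotProduct, dotProduct_add]; ring)
      (by intro c x y; simp only [Prod.smul_fst, Prod.smul_snd, smul_dotProduct, dotProduct_smul,
        smul_eq_mul]; ring)
  have hβ : ∀ x y, β x y = x.1 ⬝ᵥ y.2 - y.1 ⬝ᵥ x.2 := fun x y => rfl
  have hCiN : (Ciᵀ) ^ N = 1 := by
    have h3 : Ci ^ N = 1 := by
      have : (C * Ci) ^ N = C ^ N * Ci ^ N := (Commute.mul_pow (by
        show C * Ci = Ci * C
        rw [h1, h2]) N)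
      rw [h1, one_pow, hN, one_mul] at this
      exact this.symm
    rw [← Matrix.transpose_pow, h3, Matrix.transpose_one]
  refine ⟨(Fin d → F) × (Fin d → F), inferInstance, inferInstance, inferInstance,
    (Matrix.toLin' C).prodMap (Matrix.toLin' Ciᵀ), β, ?_, ?_, ?_, ?_, ?_⟩
  · intro x
    rw [hβ, sub_self]
  · intro x hx
    have hx1 : x.1 = 0 := by
      funext j
      have := hx (0, Pi.single j 1)
      rw [hβ] at this
      simpa using this
    have hx2 : x.2 = 0 := by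
      funext j
      have := hx (Pi.single j 1, 0)
      rw [hβ] at this
      simpa using this
    exact Prod.ext hx1 hx2
  · intro x y
    rw [hβ, hβ]
    show (C *ᵥ x.1) ⬝ᵥ (Ciᵀ *ᵥ y.2) - (C *ᵥ y.1) ⬝ᵥ (Ciᵀ *ᵥ x.2) = _
    have key : ∀ a b : Fin d → F, (C *ᵥ a) ⬝ᵥ (Ciᵀ *ᵥ b) = a ⬝ᵥ b := by
      intro a b
      rw [AltGlue.dot_mulVec', ← Matrix.transpose_mul, h2, Matrix.transpose_one, Matrix.one_mulVec]
    rw [key, key]
  · rw [prodMap_pow', ← Matrix.toLin'_pow, ← Matrix.toLin'_pow, hN, hCiN, Matrix.toLin'_one]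
    exact LinearMap.prodMap_one
  · rw [LinearMap.charpoly_prodMap, Matrix.charpoly_toLin', Matrix.charpoly_toLin',
      charpoly_invT C Ci h1]

end hyp


section selfdual

variable {F : Type u} [Field F] [Finite F]

/-- a self-reciprocal irreducible polynomial whose root `ζ` satisfies `ζ^N = 1`, `ζ^2 ≠ 1` is the
characteristic polynomial of an isometry of an alternating space (trace form twisted by
`ζ - ζ⁻¹`) -/
theorem sympReal_selfdual (p : ℕ) [Fact p.Prime] [CharP F p] (N : ℕ) (h : F[X]) (hm : h.Monic)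
    (hirr : Irreducible h) (hstar : StarPoly.star (RingHom.id F) h = h)
    (hdvd : h ∣ X ^ N - 1) (hndvd : ¬ h ∣ X ^ 2 - 1) : SympReal N h := by
  haveI : Fact (Irreducible h) := ⟨hirr⟩
  haveI : Module.Finite F (AdjoinRoot h) := (AdjoinRoot.powerBasis hirr.ne_zero).finite
  haveI : CharP (AdjoinRoot h) p :=
    charP_of_injective_algebraMap (algebraMap F (AdjoinRoot h)).injective p
  obtain ⟨ζ, hζ⟩ : ∃ ζ : AdjoinRoot h, ζ = AdjoinRoot.root h := ⟨_, rfl⟩
  have hζ0 : aeval ζ h = 0 := by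
    rw [hζ, AdjoinRoot.aeval_eq, AdjoinRoot.mk_self]
  have hζN : ζ ^ N = 1 := by
    obtain ⟨g, hg⟩ := hdvd
    have := congrArg (aeval ζ) hg
    rw [map_mul, hζ0, zero_mul, map_sub, map_pow, aeval_X, map_one, sub_eq_zero] at this
    exact this
  have hζ2 : ζ ^ 2 ≠ 1 := by
    intro h2
    apply hndvd
    have h3 : aeval ζ (X ^ 2 - 1 : F[X]) = 0 := by
      rw [map_sub, map_pow, aeval_X, map_one, h2, sub_self]
    have h4 := minpoly.dvd F ζ h3
    rw [hζ, AdjoinRoot.minpoly_root hirr.ne_zero, hm.leadingCoeff, inv_one, C_1, mul_one] at h4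
    exact h4
  have hc0 : h.coeff 0 ≠ 0 := by
    intro hc
    have : StarPoly.star (RingHom.id F) h = 0 := by
      unfold StarPoly.star
      rw [Polynomial.map_id, hc, inv_zero, C_0, zero_mul]
    rw [hstar] at this
    exact hirr.ne_zero this
  have hζne : ζ ≠ 0 := by
    intro h0
    apply hc0
    rw [coeff_zero_eq_eval_zero]
    have h1 : aeval (algebraMap F (AdjoinRoot h) 0) h = 0 := by
      rw [map_zero]
      rw [h0] at hζ0
      exact hζ0
    rw [aeval_algebraMap_apply_eq_algebraMap_eval] at h1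
    exact (map_eq_zero_iff _ (algebraMap F (AdjoinRoot h)).injective).1 h1
  have hroot : aeval (ζ⁻¹) h = 0 := by
    have := StarPoly.star_root p 0 (RingHom.id F) (L := AdjoinRoot h)
      (fun c => by rw [pow_zero, pow_one]; rfl) h ζ hζne hζ0
    rw [pow_zero, pow_one, hstar] at this
    exact this
  let ι : AdjoinRoot h →ₐ[F] AdjoinRoot h :=
    AdjoinRoot.liftAlgHom h (Algebra.ofId F _) ζ⁻¹ (by rw [aeval_def] at hroot; exact hroot)
  have hιζ : ι ζ = ζ⁻¹ := by
    have h1 : ι (AdjoinRoot.root h) = ζ⁻¹ := AdjoinRoot.liftAlgHom_root h _ _ _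
    rw [hζ]
    rw [hζ] at h1
    exact h1
  have hιι : ι.comp ι = AlgHom.id F _ := by
    apply AdjoinRoot.algHom_ext
    rw [AlgHom.comp_apply, ← hζ, hιζ, map_inv₀, hιζ, inv_inv]
    rfl
  have hιι' : ∀ x, ι (ι x) = x := fun x => by
    have := congrArg (fun φ : AdjoinRoot h →ₐ[F] AdjoinRoot h => φ x) hιι
    exact this
  let ιe : AdjoinRoot h ≃ₐ[F] AdjoinRoot h := AlgEquiv.ofAlgHom ι ι hιι hιι
  have htr : ∀ x, Algebra.trace F (AdjoinRoot h) (ι x) = Algebra.trace F (AdjoinRoot h) x :=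
    fun x => Algebra.trace_eq_of_algEquiv ιe x
  obtain ⟨c, hc⟩ : ∃ c : AdjoinRoot h, c = ζ - ζ⁻¹ := ⟨_, rfl⟩
  have hcne : c ≠ 0 := by
    intro h0
    apply hζ2
    rw [hc, sub_eq_zero] at h0
    have : ζ * ζ = ζ * ζ⁻¹ := by rw [← h0]
    rw [mul_inv_cancel₀ hζne, ← sq] at this
    exact this
  let β : LinearMap.BilinForm F (AdjoinRoot h) :=
    LinearMap.mk₂ F (fun u v => Algebra.trace F (AdjoinRoot h) (c * u * ι v))
      (by intro x x' y; rw [mul_add, add_mul, map_add])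
      (by intro a x y; rw [Algebra.mul_smul_comm, Algebra.smul_mul_assoc, map_smul])
      (by intro x y y'; rw [map_add, mul_add, map_add])
      (by intro a x y; rw [map_smul, Algebra.mul_smul_comm, map_smul])
  have hβ : ∀ u v, β u v = Algebra.trace F (AdjoinRoot h) (c * u * ι v) := fun u v => rfl
  refine ⟨AdjoinRoot h, inferInstance, inferInstance, inferInstance,
    Algebra.lmul F (AdjoinRoot h) ζ, β, ?_, ?_, ?_, ?_, ?_⟩
  · intro u
    rw [hβ, hc]
    have h1 : (ζ - ζ⁻¹) * u * ι u = ζ * (u * ι u) - ι (ζ * (u * ι u)) := by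
      rw [map_mul, map_mul, hιζ, hιι']
      ring
    rw [h1, map_sub, htr, sub_self]
  · intro u hu
    have h1 : ∀ y, Algebra.traceForm F (AdjoinRoot h) (c * u) y = 0 := by
      intro y
      have := hu (ι y)
      rw [hβ, hιι'] at this
      rw [Algebra.traceForm_apply]
      exact this
    have h2 := (traceForm_nondegenerate F (AdjoinRoot h)).1 (c * u) h1
    rcases mul_eq_zero.1 h2 with h3 | h3
    · exact absurd h3 hcne
    · exact h3
  · intro u v
    rw [hβ, hβ]
    show Algebra.trace F (AdjoinRoot h) (c * (ζ * u) * ι (ζ * v)) = _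
    rw [map_mul ι, hιζ]
    have : c * (ζ * u) * (ζ⁻¹ * ι v) = (ζ * ζ⁻¹) * (c * u * ι v) := by ring
    rw [this, mul_inv_cancel₀ hζne, one_mul]
  · rw [← map_pow, hζN, map_one]
  · have h1 : (Algebra.leftMulMatrix (AdjoinRoot.powerBasis hirr.ne_zero).basis ζ).charpoly =
        minpoly F ζ := by
      have := charpoly_leftMulMatrix (AdjoinRoot.powerBasis hirr.ne_zero)
      rw [AdjoinRoot.powerBasis_gen, ← hζ] at this
      exact this
    rw [Algebra.leftMulMatrix_apply, LinearMap.charpoly_toMatrix] at h1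
    rw [h1, hζ, AdjoinRoot.minpoly_root hirr.ne_zero, hm.leadingCoeff, inv_one, C_1, mul_one]

end selfdual


section final

variable {F : Type u} [Field F]

lemma conj_pow' {W V : Type*} [AddCommGroup W] [Module F W] [AddCommGroup V] [Module F V]
    (E : W ≃ₗ[F] V) (T : W →ₗ[F] W) (k : ℕ) : (E.conj T) ^ k = E.conj (T ^ k) := by
  induction k with
  | zero =>
    rw [pow_zero, pow_zero]
    apply LinearMap.ext
    intro v
    rw [LinearEquiv.conj_apply]
    simp
  | succ k ih =>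
    rw [pow_succ, pow_succ, ih]
    apply LinearMap.ext
    intro v
    simp [LinearEquiv.conj_apply]

/-- from an abstract realisation to a symplectic matrix -/
theorem exists_symplectic {N : ℕ} {f : F[X]} (hf : SympReal N f) (m : ℕ)
    (hdeg : f.natDegree = m + m) :
    ∃ B : Matrix (Fin m ⊕ Fin m) (Fin m ⊕ Fin m) F,
      B ∈ Matrix.symplecticGroup (Fin m) F ∧ B.charpoly = f ∧ B ^ N = 1 := by
  classical
  obtain ⟨W, _, _, _, T, β, halt, hnd, hinv, hpow, hcp⟩ := hf
  obtain ⟨J, hJ⟩ : ∃ J, J = Matrix.J (Fin m) F := ⟨_, rfl⟩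
  have hJ2 : J * (-J) = 1 := by rw [hJ, Matrix.mul_neg, Matrix.J_squared, neg_neg]
  have hJalt : ∀ u : Fin m ⊕ Fin m → F, u ⬝ᵥ J *ᵥ u = 0 := by
    intro u
    have := Cfsg.Agent.Lib.Helper15.sympForm_eq m u u
    unfold Cfsg.sympForm at this
    rw [hJ, this]
    apply Finset.sum_eq_zero
    intro i _
    ring
  have hJnd : ∀ u : Fin m ⊕ Fin m → F, (∀ v, u ⬝ᵥ J *ᵥ v = 0) → u = 0 := by
    intro u hu
    have h1 : Matrix.vecMul u J = 0 := by
      funext j
      have := hu (Pi.single j 1)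
      rw [Matrix.dotProduct_mulVec, dotProduct_single, mul_one] at this
      exact this
    have h2 : Matrix.vecMul (Matrix.vecMul u J) (-J) = u := by
      rw [Matrix.vecMul_vecMul, hJ2, Matrix.vecMul_one]
    rw [← h2, h1, Matrix.zero_vecMul]
  have hfr : finrank F W = finrank F (Fin m ⊕ Fin m → F) := by
    rw [← LinearMap.charpoly_natDegree T, hcp, hdeg, Module.finrank_fintype_fun_eq_card,
      Fintype.card_sum, Fintype.card_fin]
  let e : W ≃ₗ[F] (Fin m ⊕ Fin m → F) := LinearEquiv.ofFinrankEq _ _ hfr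
  let βJ : LinearMap.BilinForm F W := (Matrix.toBilin' J).compl₁₂ e.toLinearMap e.toLinearMap
  have hβJ : ∀ x y, βJ x y = (e x) ⬝ᵥ J *ᵥ (e y) := by
    intro x y
    show Matrix.toBilin' J (e x) (e y) = _
    rw [Matrix.toBilin'_apply']
  have hβJalt : βJ.IsAlt := by
    intro x
    rw [hβJ, hJalt]
  have hβJnd : ∀ x, (∀ y, βJ x y = 0) → x = 0 := by
    intro x hx
    have h1 : e x = 0 := by
      apply hJnd
      intro v
      have := hx (e.symm v)
      rw [hβJ, LinearEquiv.apply_symm_apply] at this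
      exact this
    exact e.map_eq_zero_iff.1 h1
  obtain ⟨θ, hθ⟩ := Cfsg.Agent.Lib.Helper15.AltIso.exists_isometry_of_alt βJ β hβJalt halt hβJnd hnd
  let E : W ≃ₗ[F] (Fin m ⊕ Fin m → F) := θ.trans e
  have hE : ∀ x y, (E x) ⬝ᵥ J *ᵥ (E y) = β x y := by
    intro x y
    rw [← hθ, hβJ]
    rfl
  let S : (Fin m ⊕ Fin m → F) →ₗ[F] (Fin m ⊕ Fin m → F) := E.conj T
  have hS : ∀ u, S u = E (T (E.symm u)) := by
    intro u
    show (E.conj T) u = _
    rw [LinearEquiv.conj_apply]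
    rfl
  refine ⟨LinearMap.toMatrix' S, ?_, ?_, ?_⟩
  · rw [SymplecticGroup.mem_iff', ← hJ]
    apply AltGlue.mat_ext_bilin'
    intro u v
    have h1 : ∀ w, (LinearMap.toMatrix' S) *ᵥ w = E (T (E.symm w)) := by
      intro w
      rw [← Matrix.toLin'_apply, Matrix.toLin'_toMatrix', hS]
    rw [Matrix.mul_assoc, ← AltGlue.dot_mulVec', ← Matrix.mulVec_mulVec, h1, h1, hE, hinv, ← hE,
      LinearEquiv.apply_symm_apply, LinearEquiv.apply_symm_apply]
  · rw [← Matrix.charpoly_toLin', Matrix.toLin'_toMatrix']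
    show (E.conj T).charpoly = f
    rw [LinearEquiv.charpoly_conj, hcp]
  · have h1 : S ^ N = 1 := by
      show (E.conj T) ^ N = 1
      rw [conj_pow', hpow]
      apply LinearMap.ext
      intro v
      rw [LinearEquiv.conj_apply]
      simp
    have h2 : LinearMap.toMatrix' (S ^ N) = (LinearMap.toMatrix' S) ^ N := by
      have : ∀ X : (Fin m ⊕ Fin m → F) →ₗ[F] (Fin m ⊕ Fin m → F),
          LinearMap.toMatrix' X = LinearMap.toMatrixAlgEquiv' X := fun X => rfl
      rw [this, this, map_pow]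
    rw [← h2, h1]
    exact LinearMap.toMatrix'_one

end final


section sympchar

variable {F : Type u} [Field F]

/-- the characteristic polynomial of a symplectic matrix is self-reciprocal -/
theorem charpoly_symplectic {m : ℕ} (A : Matrix (Fin m ⊕ Fin m) (Fin m ⊕ Fin m) F)
    (hA : A ∈ Matrix.symplecticGroup (Fin m) F) :
    StarPoly.star (RingHom.id F) A.charpoly = A.charpoly := by
  classical
  obtain ⟨J, hJ⟩ : ∃ J, J = Matrix.J (Fin m) F := ⟨_, rfl⟩
  have hJ1 : (-J) * J = 1 := by rw [hJ, Matrix.neg_mul, Matrix.J_squared, neg_neg]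
  have hJ2 : J * (-J) = 1 := by rw [hJ, Matrix.mul_neg, Matrix.J_squared, neg_neg]
  have hJt : Jᵀ = -J := by rw [hJ]; exact Matrix.J_transpose (Fin m) F
  have hAJ : Aᵀ * J * A = J := by
    rw [hJ]; exact SymplecticGroup.mem_iff'.1 hA
  have h1 : (-J * Aᵀ * J) * A = 1 := by
    rw [Matrix.mul_assoc, Matrix.mul_assoc, ← Matrix.mul_assoc Aᵀ, hAJ, hJ1]
  have h2 : A * (-J * Aᵀ * J) = 1 := mul_eq_one_comm.1 h1
  have h3 := charpoly_invT A (-J * Aᵀ * J) h2
  rw [← h3]
  have h4 : (-J * Aᵀ * J)ᵀ = J * A * (-J) := by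
    rw [Matrix.transpose_mul, Matrix.transpose_mul, Matrix.transpose_transpose,
      Matrix.transpose_neg, hJt, neg_neg, Matrix.mul_assoc, Matrix.neg_mul, Matrix.mul_neg,
      Matrix.mul_neg]
  rw [h4]
  have h5 : (J * A * J⁻¹).charpoly = A.charpoly := Matrix.charpoly_units_conj
    (⟨J, -J, hJ2, hJ1⟩ : (Matrix (Fin m ⊕ Fin m) (Fin m ⊕ Fin m) F)ˣ) A
  have h6 : (J : Matrix (Fin m ⊕ Fin m) (Fin m ⊕ Fin m) F)⁻¹ = -J :=
    Matrix.inv_eq_right_inv hJ2
  rw [h6] at h5
  exact h5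

end sympchar

end Cfsg.Agent.Lib.Helper15.SpReal
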