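import Mathlib

/-! Helper15 library: Hilbert 90 and surjectivity of the norm for a finite commutative ring with an
involution `σ` such that `c - σ c` is a unit for some `c`. -/

set_option autoImplicit false

namespace Cfsg.Agent.Lib.Helper15.Hilbert90

universe u

section basic

variable {L : Type u} [CommRing L]

lemma isUnit_or_isNilpotent [Finite L] (hid : ∀ e : L, e * e = e → e = 0 ∨ e = 1) (x : L) :
    IsUnit x ∨ IsNilpotent x := by
  obtain ⟨m, m', hne, heq⟩ := Finite.exists_ne_map_eq_of_infinite (fun k : ℕ => x ^ k)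
  wlog hlt : m < m' generalizing m m'
  · exact this m' m hne.symm heq.symm (lt_of_le_of_ne (not_lt.1 hlt) hne.symm)
  obtain ⟨t, ht, rfl⟩ : ∃ t, 0 < t ∧ m' = m + t := ⟨m' - m, by omega, by omega⟩
  have heq' : x ^ m = x ^ (m + t) := heq
  have h1 : ∀ j : ℕ, x ^ (m + j * t) = x ^ m := by
    intro j
    induction j with
    | zero => rw [zero_mul, add_zero]
    | succ j ih => rw [add_mul, one_mul, ← add_assoc, pow_add, ih, ← pow_add, ← heq']
  have h2 : ∀ k : ℕ, m ≤ k → ∀ j : ℕ, x ^ (k + j * t) = x ^ k := by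
    intro k hk j
    obtain ⟨r, rfl⟩ : ∃ r, k = m + r := ⟨k - m, by omega⟩
    rw [show m + r + j * t = (m + j * t) + r by ring, pow_add, h1, ← pow_add]
  have hidem : x ^ (m * t) * x ^ (m * t) = x ^ (m * t) := by
    rw [← pow_add]
    exact h2 (m * t) (Nat.le_mul_of_pos_right m ht) m
  rcases hid _ hidem with h0 | h1'
  · exact Or.inr ⟨m * t, h0⟩
  · left
    rcases Nat.eq_zero_or_pos m with hm | hm
    · subst hm
      rw [pow_zero, zero_add] at heq'
      exact IsUnit.of_mul_eq_one (x ^ (t - 1)) (by rw [← pow_succ', Nat.sub_add_cancel ht, ← heq'])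
    · have hpos : 0 < m * t := Nat.mul_pos hm ht
      exact IsUnit.of_mul_eq_one (x ^ (m * t - 1))
        (by rw [← pow_succ', Nat.sub_add_cancel hpos, h1'])

lemma mem_span_one_sub_iff (f : L) (hf : f * f = f) (y : L) :
    y ∈ Ideal.span {1 - f} ↔ f * y = 0 := by
  rw [Ideal.mem_span_singleton']
  constructor
  · rintro ⟨a, rfl⟩
    linear_combination (-a) * hf
  · intro h
    exact ⟨y, by linear_combination (-1 : L) * h⟩

end basic

section h90

/-- data on a direct factor of the ring cut out by a fixed idempotent -/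
lemma component {L : Type u} [CommRing L] [Finite L] (σ : L →+* L) (hσ : ∀ x, σ (σ x) = x)
    (c : L) (hc : IsUnit (c - σ c)) (u : L) (hu : u * σ u = 1)
    (IH : ∀ (L' : Type u) [CommRing L'] [Finite L'] (σ' : L' →+* L') (_ : ∀ x, σ' (σ' x) = x)
      (c' : L') (_ : IsUnit (c' - σ' c')) (_ : Nat.card L' < Nat.card L) (u' : L')
      (_ : u' * σ' u' = 1), ∃ x : L', IsUnit x ∧ u' * σ' x = x)
    (f : L) (hf : f * f = f) (hσf : σ f = f) (hf1 : f ≠ 1) :
    ∃ x x' : L, f * (x * x' - 1) = 0 ∧ f * (u * σ x - x) = 0 := by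
  classical
  obtain ⟨I, hI⟩ : ∃ I : Ideal L, I = Ideal.span {1 - f} := ⟨_, rfl⟩
  have hmem : ∀ y, y ∈ I ↔ f * y = 0 := by
    intro y
    rw [hI]
    exact mem_span_one_sub_iff f hf y
  have hcomap : I ≤ I.comap σ := by
    intro y hy
    rw [Ideal.mem_comap, hmem]
    rw [hmem] at hy
    rw [← hσf, ← map_mul, hy, map_zero]
  obtain ⟨σ', hσ'⟩ : ∃ σ' : L ⧸ I →+* L ⧸ I, σ' = Ideal.quotientMap I σ hcomap := ⟨_, rfl⟩
  have hσ'mk : ∀ y : L, σ' (Ideal.Quotient.mk I y) = Ideal.Quotient.mk I (σ y) := by
    intro y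
    rw [hσ']
    exact Ideal.quotientMap_mk
  have hinv : ∀ z, σ' (σ' z) = z := by
    intro z
    obtain ⟨y, rfl⟩ := Ideal.Quotient.mk_surjective z
    rw [hσ'mk, hσ'mk, hσ]
  have : Finite (L ⧸ I) := Finite.of_surjective _ Ideal.Quotient.mk_surjective
  have hcard : Nat.card (L ⧸ I) < Nat.card L := by
    let _ : Fintype L := Fintype.ofFinite L
    let _ : Fintype (L ⧸ I) := Fintype.ofFinite _
    rw [Nat.card_eq_fintype_card, Nat.card_eq_fintype_card]
    apply Fintype.card_lt_of_surjective_not_injective _ Ideal.Quotient.mk_surjective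
    intro hinj
    apply hf1
    have h1 : Ideal.Quotient.mk I (1 - f) = Ideal.Quotient.mk I 0 := by
      rw [map_zero, Ideal.Quotient.eq_zero_iff_mem, hI]
      exact Ideal.mem_span_singleton_self _
    have h2 := hinj h1
    exact (sub_eq_zero.1 h2).symm
  have hc' : IsUnit (Ideal.Quotient.mk I c - σ' (Ideal.Quotient.mk I c)) := by
    rw [hσ'mk, ← map_sub]
    exact hc.map _
  have hu' : Ideal.Quotient.mk I u * σ' (Ideal.Quotient.mk I u) = 1 := by
    rw [hσ'mk, ← map_mul, hu, map_one]
  obtain ⟨z, hz, hzu⟩ := IH (L ⧸ I) σ' hinv _ hc' hcard _ hu'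
  obtain ⟨z', hz'⟩ := hz.exists_right_inv
  obtain ⟨x, rfl⟩ := Ideal.Quotient.mk_surjective z
  obtain ⟨x', rfl⟩ := Ideal.Quotient.mk_surjective z'
  refine ⟨x, x', ?_, ?_⟩
  · rw [← hmem, ← Ideal.Quotient.eq_zero_iff_mem, map_sub, map_mul, hz', map_one, sub_self]
  · rw [← hmem, ← Ideal.Quotient.eq_zero_iff_mem, map_sub, map_mul, ← hσ'mk, hzu, sub_self]

/-- Hilbert 90 for a finite commutative ring with involution -/
theorem hilbert90 : ∀ (N : ℕ) (L : Type u) [CommRing L] [Finite L] (σ : L →+* L)
    (_ : ∀ x, σ (σ x) = x) (c : L) (_ : IsUnit (c - σ c)) (_ : Nat.card L = N) (u : L)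
    (_ : u * σ u = 1), ∃ x : L, IsUnit x ∧ u * σ x = x := by
  intro N
  induction N using Nat.strong_induction_on with
  | _ N ih =>
    intro L _ _ σ hσ c hc hN u hu
    have IH : ∀ (L' : Type u) [CommRing L'] [Finite L'] (σ' : L' →+* L') (_ : ∀ x, σ' (σ' x) = x)
        (c' : L') (_ : IsUnit (c' - σ' c')) (_ : Nat.card L' < Nat.card L) (u' : L')
        (_ : u' * σ' u' = 1), ∃ x : L', IsUnit x ∧ u' * σ' x = x := by
      intro L' _ _ σ' hσ' c' hc' hlt u' hu'
      exact ih (Nat.card L') (by rw [← hN]; exact hlt) L' σ' hσ' c' hc' rfl u' hu'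
    by_cases hid : ∀ e : L, e * e = e → e = 0 ∨ e = 1
    · -- local case
      by_contra hcon
      push Not at hcon
      have hT : ∀ y : L, IsNilpotent (y + u * σ y) := by
        intro y
        rcases isUnit_or_isNilpotent hid (y + u * σ y) with h | h
        · exfalso
          apply hcon _ h
          rw [map_add, map_mul, hσ, mul_add, ← mul_assoc, hu, one_mul, add_comm]
        · exact h
      have h1 := hT 1
      rw [map_one, mul_one] at h1
      have h2 := hT c
      have h3 : IsNilpotent (c - σ c) := by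
        have : c - σ c = (c + u * σ c) - σ c * (1 + u) := by ring
        rw [this]
        exact (Commute.all _ _).isNilpotent_sub h2 ((Commute.all _ _).isNilpotent_mul_left h1)
      obtain ⟨k, hk⟩ := h3
      have h0 : IsUnit (0 : L) := by rw [← hk]; exact hc.pow k
      have hsub : Subsingleton L := by
        rw [isUnit_zero_iff] at h0
        exact subsingleton_of_zero_eq_one h0
      exact hcon 1 isUnit_one (Subsingleton.elim _ _)
    · push Not at hid
      obtain ⟨e, he, he0, he1⟩ := hid
      -- a fixed idempotent or the swap case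
      have key : ∀ f : L, f * f = f → σ f = f → f ≠ 0 → f ≠ 1 → ∃ x : L, IsUnit x ∧ u * σ x = x := by
        intro f hf hσf hf0 hf1
        obtain ⟨x₁, x₁', h11, h12⟩ := component σ hσ c hc u hu IH f hf hσf hf1
        have hf' : (1 - f) * (1 - f) = 1 - f := by linear_combination hf
        have hσf' : σ (1 - f) = 1 - f := by rw [map_sub, map_one, hσf]
        have hf1' : (1 - f) ≠ 1 := by
          intro h
          apply hf0
          linear_combination (-1 : L) * h
        obtain ⟨x₂, x₂', h21, h22⟩ := component σ hσ c hc u hu IH (1 - f) hf' hσf' hf1'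
        refine ⟨f * x₁ + (1 - f) * x₂, ?_, ?_⟩
        · apply IsUnit.of_mul_eq_one (f * x₁' + (1 - f) * x₂')
          linear_combination h11 + h21 + (x₁ * x₁' - x₁ * x₂' - x₂ * x₁' + x₂ * x₂') * hf
        · rw [map_add, map_mul, map_mul, hσf, hσf']
          linear_combination h12 + h22
      have hσe : σ e * σ e = σ e := by rw [← map_mul, he]
      by_cases hf0 : e * σ e = 0
      · by_cases hg1 : e + σ e = 1
        · -- swap case
          refine ⟨e * u + σ e, ?_, ?_⟩
          · apply IsUnit.of_mul_eq_one (e * σ u + σ e)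
            linear_combination (u * σ u) * he + hσe + (u + σ u) * hf0 + e * hu + hg1
          · rw [map_add, map_mul, hσ]
            linear_combination σ e * hu
        · apply key (e + σ e) _ _ _ hg1
          · linear_combination he + hσe + 2 * hf0
          · rw [map_add, hσ, add_comm]
          · intro h
            apply he0
            linear_combination e * h - he - hf0
      · apply key (e * σ e) _ _ hf0 _
        · linear_combination (σ e * σ e) * he + e * hσe
        · rw [map_mul, hσ, mul_comm]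
        · intro h
          apply he1
          linear_combination (1 - e) * h + σ e * he

end h90

section norm

variable {L : Type u} [CommRing L] [Finite L]

/-- every fixed unit is a norm -/
theorem norm_surj (σ : L →+* L) (hσ : ∀ x, σ (σ x) = x) (c : L) (hc : IsUnit (c - σ c))
    (a : L) (ha : IsUnit a) (hfix : σ a = a) : ∃ p : L, σ p * p = a := by
  classical
  let S : Lˣ →* Lˣ := Units.map (σ : L →* L)
  have hSv : ∀ x : Lˣ, ((S x : Lˣ) : L) = σ (x : L) := fun x => rfl
  have hS : ∀ x, S (S x) = x := fun x => Units.ext (hσ x)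
  let Nm : Lˣ →* Lˣ :=
    { toFun := fun x => x * S x
      map_one' := by rw [map_one, mul_one]
      map_mul' := fun x y => by rw [map_mul]; exact mul_mul_mul_comm x y (S x) (S y) }
  let T : Lˣ →* Lˣ :=
    { toFun := fun x => x * (S x)⁻¹
      map_one' := by rw [map_one, inv_one, mul_one]
      map_mul' := fun x y => by rw [map_mul, _root_.mul_inv]; exact mul_mul_mul_comm x y _ _ }
  have hNm : ∀ x, Nm x = x * S x := fun x => rfl
  have hT : ∀ x, T x = x * (S x)⁻¹ := fun x => rfl
  have hker : Nm.ker = T.range := by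
    ext v
    rw [MonoidHom.mem_ker, MonoidHom.mem_range]
    constructor
    · intro hv
      rw [hNm] at hv
      have hv' : (v : L) * σ (v : L) = 1 := by
        have := congrArg Units.val hv
        rwa [Units.val_mul, hSv, Units.val_one] at this
      obtain ⟨x, hx, hvx⟩ := hilbert90 _ L σ hσ c hc rfl (v : L) hv'
      refine ⟨hx.unit, ?_⟩
      rw [hT, mul_inv_eq_iff_eq_mul]
      apply Units.ext
      rw [Units.val_mul, hSv, IsUnit.unit_spec, hvx]
    · rintro ⟨x, rfl⟩
      rw [hNm, hT, map_mul, map_inv, hS]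
      rw [mul_assoc, inv_mul_cancel_left, mul_inv_cancel]
  have hrange : Nm.range ≤ T.ker := by
    rintro _ ⟨x, rfl⟩
    rw [MonoidHom.mem_ker, hT, hNm, map_mul, hS, mul_comm (S x) x, mul_inv_cancel]
  have hcard : Nat.card Nm.range = Nat.card T.ker := by
    have h1 := Nm.ker.card_mul_index
    rw [Subgroup.index_ker] at h1
    have h2 := T.ker.card_mul_index
    rw [Subgroup.index_ker] at h2
    rw [hker] at h1
    have hpos : 0 < Nat.card T.range := Nat.card_pos
    have h3 : Nat.card T.range * Nat.card Nm.range = Nat.card T.range * Nat.card T.ker := by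
      rw [h1, mul_comm, h2]
    exact Nat.eq_of_mul_eq_mul_left hpos h3
  have heq : Nm.range = T.ker := Subgroup.eq_of_le_of_card_ge hrange (by rw [hcard])
  have hmem : ha.unit ∈ T.ker := by
    rw [MonoidHom.mem_ker, hT, mul_inv_eq_one]
    apply Units.ext
    rw [hSv, IsUnit.unit_spec, hfix]
  rw [← heq] at hmem
  obtain ⟨x, hx⟩ := hmem
  refine ⟨(x : L), ?_⟩
  have h4 := congrArg Units.val hx
  rw [hNm, Units.val_mul, hSv, IsUnit.unit_spec] at h4
  rw [mul_comm]
  exact h4

end norm

end Cfsg.Agent.Lib.Helper15.Hilbert90
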