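import Mathlib
import Cfsg.Agent.Lib.Helper15.Hilbert90

/-! Helper15 library: Hilbert 90 and norm surjectivity in the commutative algebra `K[s]` of matrices
with respect to a twisted adjoint `x ↦ h⁻¹ xᴴ h`. -/

set_option autoImplicit false

namespace Cfsg.Agent.Lib.Helper15.AdjoinInv

open Matrix

variable {K : Type*} [Field K] [Finite K] [StarRing K] {n : ℕ}

/-- twisted adjoint -/
def sh (h hi x : Matrix (Fin n) (Fin n) K) : Matrix (Fin n) (Fin n) K := hi * xᴴ * h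

omit [Finite K] in
lemma sh_mul (h hi : Matrix (Fin n) (Fin n) K) (h2 : h * hi = 1) (x y : Matrix (Fin n) (Fin n) K) :
    sh h hi (x * y) = sh h hi y * sh h hi x := by
  unfold sh
  rw [conjTranspose_mul]
  calc hi * (yᴴ * xᴴ) * h = hi * yᴴ * 1 * xᴴ * h := by
        rw [Matrix.mul_one]; simp only [Matrix.mul_assoc]
    _ = hi * yᴴ * h * (hi * xᴴ * h) := by rw [← h2]; simp only [Matrix.mul_assoc]

omit [Finite K] in
lemma sh_add (h hi x y : Matrix (Fin n) (Fin n) K) :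
    sh h hi (x + y) = sh h hi x + sh h hi y := by
  unfold sh
  rw [conjTranspose_add, Matrix.mul_add, Matrix.add_mul]

omit [Finite K] in
lemma sh_algebraMap (h hi : Matrix (Fin n) (Fin n) K) (h1 : hi * h = 1) (r : K) :
    sh h hi (algebraMap K (Matrix (Fin n) (Fin n) K) r) =
      algebraMap K (Matrix (Fin n) (Fin n) K) (star r) := by
  unfold sh
  rw [Algebra.algebraMap_eq_smul_one, Algebra.algebraMap_eq_smul_one, conjTranspose_smul,
    conjTranspose_one, Matrix.mul_smul, Matrix.smul_mul, Matrix.mul_one, h1]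

omit [Finite K] in
lemma sh_mem (s h hi : Matrix (Fin n) (Fin n) K) (h1 : hi * h = 1) (h2 : h * hi = 1)
    (hs : sh h hi s ∈ Algebra.adjoin K ({s} : Set (Matrix (Fin n) (Fin n) K)))
    (x : Matrix (Fin n) (Fin n) K) (hx : x ∈ Algebra.adjoin K ({s} : Set (Matrix (Fin n) (Fin n) K))) :
    sh h hi x ∈ Algebra.adjoin K ({s} : Set (Matrix (Fin n) (Fin n) K)) := by
  induction hx using Algebra.adjoin_induction with
  | mem y hy =>
    rw [Set.mem_singleton_iff] at hy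
    rw [hy]
    exact hs
  | algebraMap r =>
    rw [sh_algebraMap h hi h1]
    exact Subalgebra.algebraMap_mem _ _
  | add x y _ _ hx hy =>
    rw [sh_add]
    exact Subalgebra.add_mem _ hx hy
  | mul x y _ _ hx hy =>
    rw [sh_mul h hi h2]
    exact Subalgebra.mul_mem _ hy hx

omit [Finite K] in
lemma sh_sh (s h hi : Matrix (Fin n) (Fin n) K) (h1 : hi * h = 1) (h2 : h * hi = 1)
    (hss : sh h hi (sh h hi s) = s)
    (x : Matrix (Fin n) (Fin n) K) (hx : x ∈ Algebra.adjoin K ({s} : Set (Matrix (Fin n) (Fin n) K))) :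
    sh h hi (sh h hi x) = x := by
  induction hx using Algebra.adjoin_induction with
  | mem y hy =>
    rw [Set.mem_singleton_iff] at hy
    rw [hy]
    exact hss
  | algebraMap r =>
    rw [sh_algebraMap h hi h1, sh_algebraMap h hi h1, star_star]
  | add x y _ _ hx hy =>
    rw [sh_add, sh_add, hx, hy]
  | mul x y _ _ hx hy =>
    rw [sh_mul h hi h2, sh_mul h hi h2, hx, hy]

omit [StarRing K] in
/-- a subalgebra element invertible as a matrix is invertible in the subalgebra -/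
lemma exists_inv_mem (𝒜 : Subalgebra K (Matrix (Fin n) (Fin n) K)) (a : Matrix (Fin n) (Fin n) K)
    (ha : a ∈ 𝒜) (hu : IsUnit a) : ∃ b ∈ 𝒜, a * b = 1 ∧ b * a = 1 := by
  have hinj : Function.Injective (fun x : ↥𝒜 => (⟨a, ha⟩ : ↥𝒜) * x) := by
    intro x y hxy
    have h1 : a * (x : Matrix (Fin n) (Fin n) K) = a * (y : Matrix (Fin n) (Fin n) K) :=
      congrArg Subtype.val hxy
    exact Subtype.ext (hu.mul_left_cancel h1)
  obtain ⟨b, hb⟩ := (Finite.injective_iff_surjective.1 hinj) 1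
  have h1 : a * (b : Matrix (Fin n) (Fin n) K) = 1 := congrArg Subtype.val hb
  exact ⟨b, b.2, h1, mul_eq_one_comm.1 h1⟩

/-- Hilbert 90 and norm surjectivity in `K[s]` for the twisted adjoint -/
theorem adjoin_h90_norm (s h hi : Matrix (Fin n) (Fin n) K) (h1 : hi * h = 1) (h2 : h * hi = 1)
    (hs : sh h hi s ∈ Algebra.adjoin K ({s} : Set (Matrix (Fin n) (Fin n) K)))
    (hss : sh h hi (sh h hi s) = s) (τ : K) (hτ : τ - star τ ≠ 0) :
    (∀ u ∈ Algebra.adjoin K ({s} : Set (Matrix (Fin n) (Fin n) K)), u * sh h hi u = 1 →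
      ∃ x ∈ Algebra.adjoin K ({s} : Set (Matrix (Fin n) (Fin n) K)), IsUnit x ∧ u * sh h hi x = x) ∧
    (∀ a ∈ Algebra.adjoin K ({s} : Set (Matrix (Fin n) (Fin n) K)), IsUnit a → sh h hi a = a →
      ∃ p ∈ Algebra.adjoin K ({s} : Set (Matrix (Fin n) (Fin n) K)), sh h hi p * p = a) := by
  classical
  obtain ⟨𝒜, h𝒜⟩ : ∃ 𝒜 : Subalgebra K (Matrix (Fin n) (Fin n) K),
      𝒜 = Algebra.adjoin K ({s} : Set (Matrix (Fin n) (Fin n) K)) := ⟨_, rfl⟩
  have hcomm0 : ∀ x ∈ 𝒜, ∀ y ∈ 𝒜, x * y = y * x := by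
    intro x hx y hy
    rw [h𝒜] at hx hy
    have hcm : IsMulCommutative ↥(Algebra.adjoin K ({s} : Set (Matrix (Fin n) (Fin n) K))) :=
      Algebra.isMulCommutative_adjoin K (by
        intro a ha b hb
        rw [Set.mem_singleton_iff] at ha hb
        rw [ha, hb])
    exact congrArg Subtype.val (mul_comm' (⟨x, hx⟩ : ↥(Algebra.adjoin K ({s} : Set (Matrix (Fin n) (Fin n) K)))) ⟨y, hy⟩)
  rw [← h𝒜] at hs ⊢
  have hmem : ∀ x ∈ 𝒜, sh h hi x ∈ 𝒜 := by
    intro x hx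
    rw [h𝒜] at hx ⊢
    exact sh_mem s h hi h1 h2 (by rw [← h𝒜]; exact hs) x hx
  have hinv : ∀ x ∈ 𝒜, sh h hi (sh h hi x) = x := by
    intro x hx
    rw [h𝒜] at hx
    exact sh_sh s h hi h1 h2 hss x hx
  let _ : CommRing ↥𝒜 :=
    { (inferInstance : Ring ↥𝒜) with
      mul_comm := fun x y => Subtype.ext (hcomm0 x x.2 y y.2) }
  let σ : ↥𝒜 →+* ↥𝒜 :=
    { toFun := fun x => ⟨sh h hi x, hmem x x.2⟩
      map_one' := by
        apply Subtype.ext
        show sh h hi 1 = 1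
        unfold sh
        rw [conjTranspose_one, Matrix.mul_one, h1]
      map_mul' := fun x y => by
        apply Subtype.ext
        show sh h hi ((x : Matrix (Fin n) (Fin n) K) * y) = sh h hi x * sh h hi y
        rw [sh_mul h hi h2]
        exact hcomm0 _ (hmem y y.2) _ (hmem x x.2)
      map_zero' := by
        apply Subtype.ext
        show sh h hi 0 = 0
        unfold sh
        rw [conjTranspose_zero, Matrix.mul_zero, Matrix.zero_mul]
      map_add' := fun x y => by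
        apply Subtype.ext
        show sh h hi ((x : Matrix (Fin n) (Fin n) K) + y) = sh h hi x + sh h hi y
        exact sh_add h hi _ _ }
  have hσv : ∀ x : ↥𝒜, ((σ x : ↥𝒜) : Matrix (Fin n) (Fin n) K) = sh h hi x := fun x => rfl
  have hσ : ∀ x, σ (σ x) = x := fun x => Subtype.ext (hinv x x.2)
  obtain ⟨c, hc⟩ : ∃ c : ↥𝒜, (c : Matrix (Fin n) (Fin n) K) = algebraMap K _ τ :=
    ⟨⟨algebraMap K _ τ, Subalgebra.algebraMap_mem _ _⟩, rfl⟩
  have hcu : IsUnit (c - σ c) := by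
    have h3 : ((c - σ c : ↥𝒜) : Matrix (Fin n) (Fin n) K) = algebraMap K _ (τ - star τ) := by
      rw [Subalgebra.coe_sub, hσv, hc, sh_algebraMap h hi h1, map_sub]
    have h4 : IsUnit ((c - σ c : ↥𝒜) : Matrix (Fin n) (Fin n) K) := by
      rw [h3]
      exact (IsUnit.mk0 _ hτ).map _
    obtain ⟨b, hb, hb1, hb2⟩ := exists_inv_mem 𝒜 _ (c - σ c).2 h4
    exact IsUnit.of_mul_eq_one (⟨b, hb⟩ : ↥𝒜) (Subtype.ext hb1)
  constructor
  · intro u hu huu
    obtain ⟨x, hx, hxu⟩ := Hilbert90.hilbert90 _ ↥𝒜 σ hσ c hcu rfl ⟨u, hu⟩ (Subtype.ext huu)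
    refine ⟨x, x.2, ?_, ?_⟩
    · exact hx.map (𝒜.val : ↥𝒜 →* Matrix (Fin n) (Fin n) K)
    · exact congrArg Subtype.val hxu
  · intro a ha hau hfix
    obtain ⟨b, hb, hb1, hb2⟩ := exists_inv_mem 𝒜 a ha hau
    have hau' : IsUnit (⟨a, ha⟩ : ↥𝒜) := IsUnit.of_mul_eq_one (⟨b, hb⟩ : ↥𝒜) (Subtype.ext hb1)
    obtain ⟨p, hp⟩ := Hilbert90.norm_surj σ hσ c hcu ⟨a, ha⟩ hau' (Subtype.ext hfix)
    exact ⟨p, p.2, congrArg Subtype.val hp⟩

end Cfsg.Agent.Lib.Helper15.AdjoinInv
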