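import Mathlib
import Cfsg.Agent.Lib.Helper15.Hilbert90
import Cfsg.Agent.Lib.Helper15.AdjoinInv

/-! Helper15 library: the adjoint `x ↦ G⁻¹ xᵀ G` on commutative matrix algebras generated by a
set stable under it; relative norm surjectivity on a direct factor cut out by an idempotent. -/

set_option autoImplicit false
set_option linter.unusedSectionVars false

namespace Cfsg.Agent.Lib.Helper15.AdjointRing

open Matrix

universe u

section rel

variable {L : Type u} [CommRing L] [Finite L]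

/-- norm surjectivity on the factor cut out by a fixed idempotent -/
theorem norm_surj_rel (σ : L →+* L) (hσ : ∀ x, σ (σ x) = x) (f : L) (hf : f * f = f)
    (hσf : σ f = f) (c d : L) (hcd : (c - σ c) * d = f) (a a' : L) (hfix : σ a = a)
    (haa : a * a' = f) :
    ∃ p p' : L, f * (σ p * p - a) = 0 ∧ f * (p * p' - 1) = 0 := by
  classical
  obtain ⟨I, hI⟩ : ∃ I : Ideal L, I = Ideal.span {1 - f} := ⟨_, rfl⟩
  have hmem : ∀ y, y ∈ I ↔ f * y = 0 := by
    intro y
    rw [hI]
    exact Hilbert90.mem_span_one_sub_iff f hf y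
  have hcomap : I ≤ I.comap σ := by
    intro y hy
    rw [Ideal.mem_comap, hmem]
    rw [hmem] at hy
    rw [← hσf, ← map_mul, hy, map_zero]
  obtain ⟨σ', hσ'⟩ : ∃ σ' : L ⧸ I →+* L ⧸ I, σ' = Ideal.quotientMap I σ hcomap := ⟨_, rfl⟩
  have hσ'mk : ∀ y : L, σ' (Ideal.Quotient.mk I y) = Ideal.Quotient.mk I (σ y) := by
    intro y
    rw [hσ']
    exact Ideal.quotientMap_mk
  have hinv : ∀ z, σ' (σ' z) = z := by
    intro z
    obtain ⟨y, rfl⟩ := Ideal.Quotient.mk_surjective z
    rw [hσ'mk, hσ'mk, hσ]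
  have : Finite (L ⧸ I) := Finite.of_surjective _ Ideal.Quotient.mk_surjective
  have hf1 : Ideal.Quotient.mk I f = 1 := by
    have h1 : Ideal.Quotient.mk I (1 - f) = 0 := by
      rw [Ideal.Quotient.eq_zero_iff_mem, hI]
      exact Ideal.mem_span_singleton_self _
    rw [map_sub, map_one, sub_eq_zero] at h1
    exact h1.symm
  have hc' : IsUnit (Ideal.Quotient.mk I c - σ' (Ideal.Quotient.mk I c)) := by
    apply IsUnit.of_mul_eq_one (Ideal.Quotient.mk I d)
    rw [hσ'mk, ← map_sub, ← map_mul, hcd, hf1]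
  have ha' : IsUnit (Ideal.Quotient.mk I a) := by
    apply IsUnit.of_mul_eq_one (Ideal.Quotient.mk I a')
    rw [← map_mul, haa, hf1]
  have hfix' : σ' (Ideal.Quotient.mk I a) = Ideal.Quotient.mk I a := by
    rw [hσ'mk, hfix]
  obtain ⟨z, hz⟩ := Hilbert90.norm_surj σ' hinv _ hc' _ ha' hfix'
  obtain ⟨p, rfl⟩ := Ideal.Quotient.mk_surjective z
  have hzu : IsUnit (Ideal.Quotient.mk I p) := by
    have h1 : IsUnit (σ' (Ideal.Quotient.mk I p) * Ideal.Quotient.mk I p) := by rw [hz]; exact ha'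
    exact isUnit_of_mul_isUnit_right h1
  obtain ⟨z', hz'⟩ := hzu.exists_right_inv
  obtain ⟨p', rfl⟩ := Ideal.Quotient.mk_surjective z'
  refine ⟨p, p', ?_, ?_⟩
  · rw [← hmem, ← Ideal.Quotient.eq_zero_iff_mem, map_sub, map_mul, ← hσ'mk, hz, sub_self]
  · rw [← hmem, ← Ideal.Quotient.eq_zero_iff_mem, map_sub, map_mul, hz', map_one, sub_self]


/-- in a finite commutative ring a non-zero-divisor is a unit -/
lemma exists_inv_of_regular (u : L) (hu : ∀ y, u * y = 0 → y = 0) : ∃ v, u * v = 1 := by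
  have hinj : Function.Injective (fun y : L => u * y) := by
    intro x y hxy
    have h1 : u * (x - y) = 0 := by
      have : u * x = u * y := hxy
      rw [mul_sub, this, sub_self]
    exact sub_eq_zero.1 (hu _ h1)
  exact (Finite.injective_iff_surjective.1 hinj) 1

/-- the commutative-ring core: a semisimple isometry `a` of odd order commuting with a self-adjoint
unit `s`; on the complement of the fixed part of `a`, `s` is a norm -/
theorem exists_isometry_factor (σ : L →+* L) (hσ : ∀ x, σ (σ x) = x)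
    (a ai s s' m' : L) (M : ℕ) (hodd : Odd M) (haM : a ^ M = 1) (hm : m' * (M : L) = 1)
    (hai : a * ai = 1) (hσa : σ a = ai) (hσs : σ s = s) (hss : s * s' = 1) :
    ∃ e d₁ h h' : L, e * e = e ∧ a * e = e ∧ σ e = e ∧ (a - 1) * d₁ = 1 - e ∧ h * h' = 1 ∧
      σ h * h = s * (1 - e) + e := by
  classical
  obtain ⟨T, hT⟩ : ∃ T : L, T = ∑ j ∈ Finset.range M, a ^ j := ⟨_, rfl⟩
  have haT : a * T = T := by
    have h1 : ∑ j ∈ Finset.range (M + 1), a ^ j = T + 1 := by
      rw [Finset.sum_range_succ, ← hT, haM]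
    have h2 : ∑ j ∈ Finset.range (M + 1), a ^ j = ∑ j ∈ Finset.range M, a ^ (j + 1) + 1 := by
      rw [Finset.sum_range_succ', pow_zero]
    have h3 : a * T = ∑ j ∈ Finset.range M, a ^ (j + 1) := by
      rw [hT, Finset.mul_sum]
      apply Finset.sum_congr rfl
      intro j _
      rw [pow_succ']
    rw [h3]
    have := h1.symm.trans h2
    exact (add_right_cancel this).symm
  obtain ⟨e, he⟩ : ∃ e : L, e = m' * T := ⟨_, rfl⟩
  have hae : a * e = e := by rw [he]; linear_combination m' * haT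
  have hfix : ∀ x, a * x = x → e * x = x := by
    intro x hx
    have h1 : ∀ j : ℕ, a ^ j * x = x := by
      intro j
      induction j with
      | zero => rw [pow_zero, one_mul]
      | succ j ih => rw [pow_succ, mul_assoc, hx, ih]
    have h2 : T * x = (M : L) * x := by
      rw [hT, Finset.sum_mul, Finset.sum_congr rfl (fun j _ => h1 j), Finset.sum_const,
        Finset.card_range, nsmul_eq_mul]
    rw [he, mul_assoc, h2, ← mul_assoc, hm, one_mul]
  have hee : e * e = e := hfix e hae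
  have hσe : σ e = e := by
    have h1 : ai * σ e = σ e := by rw [← hσa, ← map_mul, hae]
    have h2 : a * σ e = σ e := by linear_combination (-a) * h1 + σ e * hai
    have h3 : e * σ e = σ e := hfix _ h2
    have h4 : σ e * e = e := by
      have := congrArg σ h3
      rwa [map_mul, hσ] at this
    rw [← h3, mul_comm, h4]
  obtain ⟨f, hf⟩ : ∃ f : L, f = 1 - e := ⟨_, rfl⟩
  have hff : f * f = f := by rw [hf]; linear_combination hee
  have hσf : σ f = f := by rw [hf, map_sub, map_one, hσe]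
  have hef : e * f = 0 := by rw [hf]; linear_combination (-1 : L) * hee
  -- (a - 1) invertible on the f-part
  obtain ⟨v₁, hv₁⟩ := exists_inv_of_regular ((a - 1) * f + e) (by
    intro y hy
    have h1 : e * y = 0 := by
      have := congrArg (fun z => e * z) hy
      simp only [mul_zero] at this
      linear_combination this - (a - 1) * y * hef - y * hee
    have h2 : a * y = y := by
      rw [hf] at hy
      linear_combination hy + (a - 2) * h1
    have h3 := hfix y h2
    rw [← h3, h1])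
  have hev₁ : e * v₁ = e := by
    have := congrArg (fun z => e * z) hv₁
    simp only [mul_one] at this
    linear_combination this - (a - 1) * v₁ * hef - v₁ * hee
  have hd₁ : (a - 1) * (f * v₁) = f := by linear_combination hv₁ - hev₁ - hf
  -- (a + 1) invertible on the f-part
  obtain ⟨v₂, hv₂⟩ := exists_inv_of_regular ((a + 1) * f + e) (by
    intro y hy
    have h1 : e * y = 0 := by
      have := congrArg (fun z => e * z) hy
      simp only [mul_zero] at this
      linear_combination this - (a + 1) * y * hef - y * hee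
    have h2 : a * y = -y := by
      rw [hf] at hy
      linear_combination hy + a * h1
    have h3 : ∀ j : ℕ, a ^ j * y = (-1) ^ j * y := by
      intro j
      induction j with
      | zero => rw [pow_zero, pow_zero]
      | succ j ih => rw [pow_succ, mul_assoc, h2, mul_neg, ih, pow_succ]; ring
    have h4 := h3 M
    rw [haM, hodd.neg_one_pow, one_mul, neg_one_mul] at h4
    have h5 : a * y = y := by rw [h2, ← h4]
    have h6 := hfix y h5
    rw [← h6, h1])
  have hev₂ : e * v₂ = e := by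
    have := congrArg (fun z => e * z) hv₂
    simp only [mul_one] at this
    linear_combination this - (a + 1) * v₂ * hef - v₂ * hee
  have hd₂ : (a + 1) * (f * v₂) = f := by linear_combination hv₂ - hev₂ - hf
  have hcd : (a - σ a) * (a * (f * v₁) * (f * v₂)) = f := by
    rw [hσa]
    linear_combination ((a + 1) * (f * v₂)) * hd₁ + f * hd₂ + hff - ((f * v₁) * (f * v₂)) * hai
  obtain ⟨p, p', hp1, hp2⟩ := norm_surj_rel σ hσ f hff hσf a _ hcd s (s' * f) hσs
    (by linear_combination f * hss)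
  refine ⟨e, f * v₁, p * f + e, p' * f + e, hee, hae, hσe, by rw [← hf]; exact hd₁, ?_, ?_⟩
  · linear_combination hp2 + (p * p') * hff + (p + p') * hef + hee + hf
  · rw [map_add, map_mul, hσf, hσe, ← hf]
    linear_combination hp1 + (σ p * p) * hff + (σ p + p) * hef + hee


/-- averaging idempotent onto the fixed part of a unit of finite invertible order -/
lemma exists_avg (σ : L →+* L) (hσ : ∀ x, σ (σ x) = x) (a ai m' : L) (M : ℕ)
    (haM : a ^ M = 1) (hm : m' * (M : L) = 1) (hai : a * ai = 1) (hσa : σ a = ai) :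
    ∃ e d : L, e * e = e ∧ a * e = e ∧ σ e = e ∧ (a - 1) * d = 1 - e := by
  classical
  obtain ⟨T, hT⟩ : ∃ T : L, T = ∑ j ∈ Finset.range M, a ^ j := ⟨_, rfl⟩
  have haT : a * T = T := by
    have h1 : ∑ j ∈ Finset.range (M + 1), a ^ j = T + 1 := by
      rw [Finset.sum_range_succ, ← hT, haM]
    have h2 : ∑ j ∈ Finset.range (M + 1), a ^ j = ∑ j ∈ Finset.range M, a ^ (j + 1) + 1 := by
      rw [Finset.sum_range_succ', pow_zero]
    have h3 : a * T = ∑ j ∈ Finset.range M, a ^ (j + 1) := by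
      rw [hT, Finset.mul_sum]
      apply Finset.sum_congr rfl
      intro j _
      rw [pow_succ']
    rw [h3]
    have := h1.symm.trans h2
    exact (add_right_cancel this).symm
  obtain ⟨e, he⟩ : ∃ e : L, e = m' * T := ⟨_, rfl⟩
  have hae : a * e = e := by rw [he]; linear_combination m' * haT
  have hfix : ∀ x, a * x = x → e * x = x := by
    intro x hx
    have h1 : ∀ j : ℕ, a ^ j * x = x := by
      intro j
      induction j with
      | zero => rw [pow_zero, one_mul]
      | succ j ih => rw [pow_succ, mul_assoc, hx, ih]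
    have h2 : T * x = (M : L) * x := by
      rw [hT, Finset.sum_mul, Finset.sum_congr rfl (fun j _ => h1 j), Finset.sum_const,
        Finset.card_range, nsmul_eq_mul]
    rw [he, mul_assoc, h2, ← mul_assoc, hm, one_mul]
  have hee : e * e = e := hfix e hae
  have hσe : σ e = e := by
    have h1 : ai * σ e = σ e := by rw [← hσa, ← map_mul, hae]
    have h2 : a * σ e = σ e := by linear_combination (-a) * h1 + σ e * hai
    have h3 : e * σ e = σ e := hfix _ h2
    have h4 : σ e * e = e := by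
      have := congrArg σ h3
      rwa [map_mul, hσ] at this
    rw [← h3, mul_comm, h4]
  obtain ⟨f, hf⟩ : ∃ f : L, f = 1 - e := ⟨_, rfl⟩
  have hef : e * f = 0 := by rw [hf]; linear_combination (-1 : L) * hee
  obtain ⟨v₁, hv₁⟩ := exists_inv_of_regular ((a - 1) * f + e) (by
    intro y hy
    have h1 : e * y = 0 := by
      have := congrArg (fun z => e * z) hy
      simp only [mul_zero] at this
      linear_combination this - (a - 1) * y * hef - y * hee
    have h2 : a * y = y := by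
      rw [hf] at hy
      linear_combination hy + (a - 2) * h1
    have h3 := hfix y h2
    rw [← h3, h1])
  have hev₁ : e * v₁ = e := by
    have := congrArg (fun z => e * z) hv₁
    simp only [mul_one] at this
    linear_combination this - (a - 1) * v₁ * hef - v₁ * hee
  refine ⟨e, f * v₁, hee, hae, hσe, ?_⟩
  linear_combination hv₁ - hev₁

/-- a self-adjoint unit is a norm off a fixed idempotent where `c - σ c` is invertible -/
lemma factor_of_idem (σ : L →+* L) (hσ : ∀ x, σ (σ x) = x) (c d s s' e : L)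
    (hee : e * e = e) (hσe : σ e = e) (hcd : (c - σ c) * d = 1 - e) (hσs : σ s = s)
    (hss : s * s' = 1) :
    ∃ h h' : L, h * h' = 1 ∧ σ h * h = s * (1 - e) + e := by
  obtain ⟨f, hf⟩ : ∃ f : L, f = 1 - e := ⟨_, rfl⟩
  have hff : f * f = f := by rw [hf]; linear_combination hee
  have hσf : σ f = f := by rw [hf, map_sub, map_one, hσe]
  have hef : e * f = 0 := by rw [hf]; linear_combination (-1 : L) * hee
  rw [← hf] at hcd
  obtain ⟨p, p', hp1, hp2⟩ := norm_surj_rel σ hσ f hff hσf c d hcd s (s' * f) hσs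
    (by linear_combination f * hss)
  refine ⟨p * f + e, p' * f + e, ?_, ?_⟩
  · linear_combination hp2 + (p * p') * hff + (p + p') * hef + hee + hf
  · rw [map_add, map_mul, hσf, hσe, ← hf]
    linear_combination hp1 + (σ p * p) * hff + (σ p + p) * hef + hee

/-- the commutative-ring core for an isometry `a` of invertible finite order: idempotents for the
eigenvalues `1` and `-1` and a norm decomposition of `s` off them -/
theorem exists_sp_factor (σ : L →+* L) (hσ : ∀ x, σ (σ x) = x)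
    (a ai s s' m' : L) (M : ℕ) (haM : a ^ M = 1) (hm : m' * (M : L) = 1)
    (hai : a * ai = 1) (hσa : σ a = ai) (hσs : σ s = s) (hss : s * s' = 1)
    (h2 : (2 : L) = 0 ∨ ((∃ t : L, t * 2 = 1) ∧ Even M)) :
    ∃ e₁ e₂ h h' : L, e₁ * e₁ = e₁ ∧ e₂ * e₂ = e₂ ∧ e₁ * e₂ = 0 ∧ a * e₁ = e₁ ∧ a * e₂ = -e₂ ∧
      σ e₁ = e₁ ∧ σ e₂ = e₂ ∧ h * h' = 1 ∧ σ h * h = s * (1 - e₁ - e₂) + e₁ + e₂ := by
  obtain ⟨e₁, d₁, h11, h12, h13, h14⟩ := exists_avg σ hσ a ai m' M haM hm hai hσa
  rcases h2 with h2 | ⟨⟨t, ht⟩, hM⟩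
  · have hcd : (a - σ a) * (a * d₁ * d₁) = 1 - (e₁ + 0) := by
      rw [hσa]
      linear_combination ((a - 1) * d₁ + 1 - e₁) * h14 + h11 + (d₁ * ((a - 1) * d₁)) * h2
        - (d₁ * d₁) * hai
    obtain ⟨h, h', hh1, hh2⟩ := factor_of_idem σ hσ a _ s s' (e₁ + 0)
      (by linear_combination h11) (by rw [map_add, map_zero, h13]) hcd hσs hss
    refine ⟨e₁, 0, h, h', h11, by ring, by ring, h12, by ring, h13, map_zero σ, hh1, ?_⟩
    rw [hh2]; ring
  · have haM' : (-a) ^ M = 1 := by rw [hM.neg_pow, haM]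
    obtain ⟨e₂, d₂, h21, h22, h23, h24⟩ := exists_avg σ hσ (-a) (-ai) m' M haM' hm
      (by linear_combination hai) (by rw [map_neg, hσa])
    have h12' : e₁ * e₂ = 0 := by
      have h3 : 2 * (e₁ * e₂) = 0 := by linear_combination (-e₂) * h12 - e₁ * h22
      linear_combination t * h3 - (e₁ * e₂) * ht
    have hcd : (a - σ a) * (-a * d₁ * d₂) = 1 - (e₁ + e₂) := by
      rw [hσa]
      linear_combination ((-a - 1) * d₂) * h14 + (1 - e₁) * h24 + h12' + (d₁ * d₂) * hai
    obtain ⟨h, h', hh1, hh2⟩ := factor_of_idem σ hσ a _ s s' (e₁ + e₂)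
      (by linear_combination h11 + h21 + 2 * h12') (by rw [map_add, h13, h23]) hcd hσs hss
    refine ⟨e₁, e₂, h, h', h11, h21, h12', h12, by linear_combination (-1 : L) * h22, h13, h23,
      hh1, ?_⟩
    rw [hh2]; ring

end rel

section mat

variable {F : Type u} [Field F] {ι : Type} [Fintype ι] [DecidableEq ι]

/-- adjoint with respect to the form with Gram matrix `G` -/
def dag (G Gi x : Matrix ι ι F) : Matrix ι ι F := Gi * xᵀ * G

lemma dag_mul (G Gi : Matrix ι ι F) (h2 : G * Gi = 1)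
    (x y : Matrix ι ι F) : dag G Gi (x * y) = dag G Gi y * dag G Gi x := by
  unfold dag
  rw [transpose_mul]
  calc Gi * (yᵀ * xᵀ) * G = Gi * yᵀ * 1 * xᵀ * G := by
        rw [Matrix.mul_one]; simp only [Matrix.mul_assoc]
    _ = Gi * yᵀ * G * (Gi * xᵀ * G) := by rw [← h2]; simp only [Matrix.mul_assoc]

lemma dag_add (G Gi x y : Matrix ι ι F) :
    dag G Gi (x + y) = dag G Gi x + dag G Gi y := by
  unfold dag
  rw [transpose_add, Matrix.mul_add, Matrix.add_mul]

lemma dag_sub (G Gi x y : Matrix ι ι F) :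
    dag G Gi (x - y) = dag G Gi x - dag G Gi y := by
  unfold dag
  rw [transpose_sub, Matrix.mul_sub, Matrix.sub_mul]

lemma dag_one (G Gi : Matrix ι ι F) (h1 : Gi * G = 1) : dag G Gi 1 = 1 := by
  unfold dag
  rw [transpose_one, Matrix.mul_one, h1]

lemma dag_zero (G Gi : Matrix ι ι F) : dag G Gi 0 = 0 := by
  unfold dag
  rw [transpose_zero, Matrix.mul_zero, Matrix.zero_mul]

lemma dag_algebraMap (G Gi : Matrix ι ι F) (h1 : Gi * G = 1) (r : F) :
    dag G Gi (algebraMap F (Matrix ι ι F) r) =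
      algebraMap F (Matrix ι ι F) r := by
  unfold dag
  rw [Algebra.algebraMap_eq_smul_one, transpose_smul, transpose_one, Matrix.mul_smul,
    Matrix.smul_mul, Matrix.mul_one, h1]

lemma dag_smul (G Gi : Matrix ι ι F) (r : F) (x : Matrix ι ι F) :
    dag G Gi (r • x) = r • dag G Gi x := by
  unfold dag
  rw [transpose_smul, Matrix.mul_smul, Matrix.smul_mul]

lemma dag_dag (G Gi : Matrix ι ι F) (h1 : Gi * G = 1) (h2 : G * Gi = 1)
    (hG : Gᵀ = G ∨ Gᵀ = -G) (x : Matrix ι ι F) : dag G Gi (dag G Gi x) = x := by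
  have hGi : Giᵀ * Gᵀ = 1 := by rw [← transpose_mul, h2, transpose_one]
  unfold dag
  rw [transpose_mul, transpose_mul, transpose_transpose]
  rcases hG with hG | hG
  · have h3 : Giᵀ = Gi := by
      rw [hG] at hGi
      calc Giᵀ = Giᵀ * (G * Gi) := by rw [h2, Matrix.mul_one]
        _ = (Giᵀ * G) * Gi := by rw [Matrix.mul_assoc]
        _ = Gi := by rw [hGi, Matrix.one_mul]
    rw [hG, h3]
    calc Gi * (G * (x * Gi)) * G = (Gi * G) * x * (Gi * G) := by simp only [Matrix.mul_assoc]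
      _ = x := by rw [h1, Matrix.one_mul, Matrix.mul_one]
  · have h3 : Giᵀ = -Gi := by
      rw [hG] at hGi
      calc Giᵀ = Giᵀ * (G * Gi) := by rw [h2, Matrix.mul_one]
        _ = -((Giᵀ * -G) * Gi) := by rw [Matrix.mul_neg, Matrix.neg_mul, neg_neg, Matrix.mul_assoc]
        _ = -Gi := by rw [hGi, Matrix.one_mul]
    rw [hG, h3]
    calc Gi * (-G * (x * -Gi)) * G = (Gi * G) * x * (Gi * G) := by
          simp only [Matrix.mul_assoc, Matrix.neg_mul, Matrix.mul_neg, neg_neg]
      _ = x := by rw [h1, Matrix.one_mul, Matrix.mul_one]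

lemma dag_mem (G Gi : Matrix ι ι F) (h1 : Gi * G = 1) (h2 : G * Gi = 1)
    (S : Set (Matrix ι ι F)) (hS : ∀ y ∈ S, dag G Gi y ∈ Algebra.adjoin F S)
    (x : Matrix ι ι F) (hx : x ∈ Algebra.adjoin F S) :
    dag G Gi x ∈ Algebra.adjoin F S := by
  induction hx using Algebra.adjoin_induction with
  | mem y hy => exact hS y hy
  | algebraMap r =>
    rw [dag_algebraMap G Gi h1]
    exact Subalgebra.algebraMap_mem _ _
  | add x y _ _ hx hy =>
    rw [dag_add]
    exact Subalgebra.add_mem _ hx hy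
  | mul x y _ _ hx hy =>
    rw [dag_mul G Gi h2]
    exact Subalgebra.mul_mem _ hy hx

variable [Finite F]

/-- a subalgebra element invertible as a matrix is invertible in the subalgebra -/
lemma exists_inv_mem' (𝒜 : Subalgebra F (Matrix ι ι F)) (a : Matrix ι ι F)
    (ha : a ∈ 𝒜) (hu : IsUnit a) : ∃ b ∈ 𝒜, a * b = 1 ∧ b * a = 1 := by
  have hinj : Function.Injective (fun x : ↥𝒜 => (⟨a, ha⟩ : ↥𝒜) * x) := by
    intro x y hxy
    have h1 : a * (x : Matrix ι ι F) = a * (y : Matrix ι ι F) :=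
      congrArg Subtype.val hxy
    exact Subtype.ext (hu.mul_left_cancel h1)
  obtain ⟨b, hb⟩ := (Finite.injective_iff_surjective.1 hinj) 1
  have h1 : a * (b : Matrix ι ι F) = 1 := congrArg Subtype.val hb
  exact ⟨b, b.2, h1, mul_eq_one_comm.1 h1⟩

/-- relative norm surjectivity for the adjoint in a commutative matrix algebra -/
theorem exists_dag_sqrt (G Gi : Matrix ι ι F) (h1 : Gi * G = 1) (h2 : G * Gi = 1)
    (hG : Gᵀ = G ∨ Gᵀ = -G) (S : Set (Matrix ι ι F))
    (hcomm : ∀ a ∈ S, ∀ b ∈ S, a * b = b * a)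
    (hS : ∀ y ∈ S, dag G Gi y ∈ Algebra.adjoin F S)
    (f c d a a' : Matrix ι ι F)
    (hfm : f ∈ Algebra.adjoin F S) (hcm : c ∈ Algebra.adjoin F S) (hdm : d ∈ Algebra.adjoin F S)
    (ham : a ∈ Algebra.adjoin F S) (ham' : a' ∈ Algebra.adjoin F S)
    (hf : f * f = f) (hσf : dag G Gi f = f) (hcd : (c - dag G Gi c) * d = f)
    (hfix : dag G Gi a = a) (haa : a * a' = f) :
    ∃ P ∈ Algebra.adjoin F S, ∃ P' ∈ Algebra.adjoin F S,
      f * (dag G Gi P * P - a) = 0 ∧ f * (P * P' - 1) = 0 := by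
  classical
  obtain ⟨𝒜, h𝒜⟩ : ∃ 𝒜 : Subalgebra F (Matrix ι ι F), 𝒜 = Algebra.adjoin F S :=
    ⟨_, rfl⟩
  have hcomm0 : ∀ x ∈ 𝒜, ∀ y ∈ 𝒜, x * y = y * x := by
    intro x hx y hy
    rw [h𝒜] at hx hy
    have hcm : IsMulCommutative ↥(Algebra.adjoin F S) :=
      Algebra.isMulCommutative_adjoin F hcomm
    exact congrArg Subtype.val (mul_comm' (⟨x, hx⟩ : ↥(Algebra.adjoin F S)) ⟨y, hy⟩)
  rw [← h𝒜] at hfm hcm hdm ham ham' ⊢
  have hmem : ∀ x ∈ 𝒜, dag G Gi x ∈ 𝒜 := by
    intro x hx
    rw [h𝒜] at hx ⊢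
    exact dag_mem G Gi h1 h2 S hS x hx
  let _ : CommRing ↥𝒜 :=
    { (inferInstance : Ring ↥𝒜) with
      mul_comm := fun x y => Subtype.ext (hcomm0 x x.2 y y.2) }
  let σ : ↥𝒜 →+* ↥𝒜 :=
    { toFun := fun x => ⟨dag G Gi x, hmem x x.2⟩
      map_one' := Subtype.ext (dag_one G Gi h1)
      map_mul' := fun x y => by
        apply Subtype.ext
        show dag G Gi ((x : Matrix ι ι F) * y) = dag G Gi x * dag G Gi y
        rw [dag_mul G Gi h2]
        exact hcomm0 _ (hmem y y.2) _ (hmem x x.2)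
      map_zero' := Subtype.ext (dag_zero G Gi)
      map_add' := fun x y => Subtype.ext (dag_add G Gi _ _) }
  have hσv : ∀ x : ↥𝒜, ((σ x : ↥𝒜) : Matrix ι ι F) = dag G Gi x := fun x => rfl
  have hσ : ∀ x, σ (σ x) = x := fun x => Subtype.ext (dag_dag G Gi h1 h2 hG x)
  obtain ⟨p, p', hp1, hp2⟩ := norm_surj_rel σ hσ (⟨f, hfm⟩ : ↥𝒜) (Subtype.ext hf)
    (Subtype.ext hσf) ⟨c, hcm⟩ ⟨d, hdm⟩ (Subtype.ext hcd) ⟨a, ham⟩ ⟨a', ham'⟩ (Subtype.ext hfix)
    (Subtype.ext haa)
  exact ⟨p, p.2, p', p'.2, congrArg Subtype.val hp1, congrArg Subtype.val hp2⟩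


/-- the commutative algebra generated by a commuting adjoint-stable set, bundled as a finite
commutative ring with involution -/
theorem exists_commRing (G Gi : Matrix ι ι F) (h1 : Gi * G = 1) (h2 : G * Gi = 1)
    (hG : Gᵀ = G ∨ Gᵀ = -G) (S : Set (Matrix ι ι F))
    (hcomm : ∀ a ∈ S, ∀ b ∈ S, a * b = b * a)
    (hS : ∀ y ∈ S, dag G Gi y ∈ Algebra.adjoin F S) :
    ∃ (L : Type u) (_ : CommRing L) (_ : Finite L) (ι : L →+* Matrix ι ι F)
      (σ : L →+* L), Function.Injective ι ∧ (∀ x, x ∈ Algebra.adjoin F S ↔ ∃ y, ι y = x) ∧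
      (∀ y, ι (σ y) = dag G Gi (ι y)) ∧ (∀ y, σ (σ y) = y) := by
  classical
  obtain ⟨𝒜, h𝒜⟩ : ∃ 𝒜 : Subalgebra F (Matrix ι ι F), 𝒜 = Algebra.adjoin F S :=
    ⟨_, rfl⟩
  have hcomm0 : ∀ x ∈ 𝒜, ∀ y ∈ 𝒜, x * y = y * x := by
    intro x hx y hy
    rw [h𝒜] at hx hy
    have hcm : IsMulCommutative ↥(Algebra.adjoin F S) :=
      Algebra.isMulCommutative_adjoin F hcomm
    exact congrArg Subtype.val (mul_comm' (⟨x, hx⟩ : ↥(Algebra.adjoin F S)) ⟨y, hy⟩)
  rw [← h𝒜]
  have hmem : ∀ x ∈ 𝒜, dag G Gi x ∈ 𝒜 := by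
    intro x hx
    rw [h𝒜] at hx ⊢
    exact dag_mem G Gi h1 h2 S hS x hx
  let inst : CommRing ↥𝒜 :=
    { (inferInstance : Ring ↥𝒜) with
      mul_comm := fun x y => Subtype.ext (hcomm0 x x.2 y y.2) }
  let σ : ↥𝒜 →+* ↥𝒜 :=
    { toFun := fun x => ⟨dag G Gi x, hmem x x.2⟩
      map_one' := Subtype.ext (dag_one G Gi h1)
      map_mul' := fun x y => by
        apply Subtype.ext
        show dag G Gi ((x : Matrix ι ι F) * y) = dag G Gi x * dag G Gi y
        rw [dag_mul G Gi h2]
        exact hcomm0 _ (hmem y y.2) _ (hmem x x.2)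
      map_zero' := Subtype.ext (dag_zero G Gi)
      map_add' := fun x y => Subtype.ext (dag_add G Gi _ _) }
  refine ⟨↥𝒜, inst, inferInstance, 𝒜.val.toRingHom, σ, Subtype.val_injective, ?_, fun y => rfl,
    fun x => Subtype.ext (dag_dag G Gi h1 h2 hG x)⟩
  intro x
  constructor
  · intro hx
    exact ⟨⟨x, hx⟩, rfl⟩
  · rintro ⟨y, rfl⟩
    exact y.2

end mat

end Cfsg.Agent.Lib.Helper15.AdjointRing
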