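import Mathlib
import Cfsg.Prelude.Def_Classical

/-! Helper15 library: isometry groups of quadratic functions given by a matrix; base change along
a field embedding; transport along an invertible change of coordinates; minus-type form becomes
hyperbolic over the quadratic extension. -/

set_option autoImplicit false

namespace Cfsg.Agent.Lib.Helper15

open Matrix Polynomial



/-- A matrix whose quadratic function vanishes identically is alternating, and conversely. -/
theorem quad_vanish_iff {R : Type*} [CommRing R] {n : Type*} [Fintype n] [DecidableEq n]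
    (D : Matrix n n R) :
    (∀ v : n → R, v ⬝ᵥ D *ᵥ v = 0) ↔ (∀ i, D i i = 0) ∧ ∀ i j, D i j + D j i = 0 := by
  constructor
  · intro h
    have h1 : ∀ i, D i i = 0 := by
      intro i
      have := h (Pi.single i 1)
      simpa using this
    refine ⟨h1, fun i j => ?_⟩
    have := h (Pi.single i 1 + Pi.single j 1)
    simp only [Matrix.mulVec_add, add_dotProduct, dotProduct_add, Matrix.mulVec_single_one,
      single_one_dotProduct, Matrix.col_apply] at this
    rw [h1 i, h1 j] at this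
    simpa [add_comm] using this
  · rintro ⟨h1, h2⟩ v
    have : v ⬝ᵥ D *ᵥ v = ∑ x : n × n, v x.1 * (D x.1 x.2 * v x.2) := by
      simp only [dotProduct, Matrix.mulVec, Finset.mul_sum]
      rw [← Finset.sum_product']
      rfl
    rw [this]
    refine Finset.sum_involution (fun x _ => Prod.swap x) ?_ ?_ (fun _ _ => Finset.mem_univ _)
      (fun x _ => Prod.swap_swap x)
    · rintro ⟨i, j⟩ _
      have := h2 i j
      simp only [Prod.swap_prod_mk]
      linear_combination (v i * v j) * this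
    · rintro ⟨i, j⟩ _ hne hij
      simp only [Prod.swap_prod_mk, Prod.mk.injEq] at hij
      apply hne
      obtain ⟨rfl, -⟩ := hij
      simp [h1]




theorem mem_isometryGroup_iff {n : Type} [Fintype n] [DecidableEq n] {F : Type*} [Field F]
    (Q : (n → F) → F) (g : Matrix.GeneralLinearGroup n F) :
    g ∈ Cfsg.isometryGroup F Q ↔ ∀ u, Q ((g : Matrix n n F) *ᵥ u) = Q u := by
  constructor
  · intro h u
    exact h u u
  · intro h u v
    exact h u

/-- If `Q v = v ⬝ᵥ U *ᵥ v`, then `g` is an isometry iff `gᵀ U g - U` is alternating. -/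
theorem isometry_iff_alt {n : Type} [Fintype n] [DecidableEq n] {F : Type*} [Field F]
    (U : Matrix n n F) (Q : (n → F) → F) (hQ : ∀ v, Q v = v ⬝ᵥ U *ᵥ v)
    (g : Matrix n n F) :
    (∀ u, Q (g *ᵥ u) = Q u) ↔
      (∀ i, (gᵀ * U * g - U) i i = 0) ∧ ∀ i j, (gᵀ * U * g - U) i j + (gᵀ * U * g - U) j i = 0 := by
  rw [← quad_vanish_iff]
  refine forall_congr' fun u => ?_
  rw [hQ, hQ, Matrix.sub_mulVec, dotProduct_sub, sub_eq_zero]
  have : (g *ᵥ u) ⬝ᵥ U *ᵥ (g *ᵥ u) = u ⬝ᵥ (gᵀ * U * g) *ᵥ u := by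
    rw [← Matrix.mulVec_mulVec, ← Matrix.mulVec_mulVec, Matrix.dotProduct_mulVec u,
      Matrix.vecMul_transpose]
  rw [this]

/-- Base change of isometries along a field embedding. -/
theorem basechange_isometry {n : Type} [Fintype n] [DecidableEq n] {F K : Type*} [Field F] [Field K]
    (ι : F →+* K) (U : Matrix n n F) (QF : (n → F) → F) (QK : (n → K) → K)
    (hF : ∀ v, QF v = v ⬝ᵥ U *ᵥ v) (hK : ∀ v, QK v = v ⬝ᵥ (U.map ι) *ᵥ v) :
    ∃ Φ : ↥(Cfsg.isometryGroup F QF) →* ↥(Cfsg.isometryGroup K QK), Function.Injective Φ := by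
  have hmem : ∀ g : ↥(Cfsg.isometryGroup F QF),
      Matrix.GeneralLinearGroup.map ι g.1 ∈ Cfsg.isometryGroup K QK := by
    intro g
    rw [mem_isometryGroup_iff, isometry_iff_alt (U.map ι) QK hK]
    have hg := (isometry_iff_alt U QF hF _).mp ((mem_isometryGroup_iff QF g.1).mp g.2)
    have hD : ((Matrix.GeneralLinearGroup.map ι g.1 : Matrix n n K)ᵀ * U.map ι *
        (Matrix.GeneralLinearGroup.map ι g.1 : Matrix n n K) - U.map ι)
        = (((g.1 : Matrix n n F))ᵀ * U * (g.1 : Matrix n n F) - U).map ι := by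
      rw [Matrix.map_sub (f := ι) (fun a b => map_sub ι a b), Matrix.map_mul, Matrix.map_mul, Matrix.transpose_map]
      rfl
    rw [hD]
    refine ⟨fun i => ?_, fun i j => ?_⟩
    · rw [Matrix.map_apply, hg.1 i, map_zero]
    · rw [Matrix.map_apply, Matrix.map_apply, ← map_add, hg.2 i j, map_zero]
  refine ⟨((Matrix.GeneralLinearGroup.map ι).comp (Subgroup.subtype _)).codRestrict _ hmem, ?_⟩
  intro g g' h
  have h1 : Matrix.GeneralLinearGroup.map ι g.1 = Matrix.GeneralLinearGroup.map ι g'.1 :=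
    congrArg Subtype.val h
  apply Subtype.ext
  apply Units.ext
  have h2 : ((g.1 : Matrix n n F)).map ι = ((g'.1 : Matrix n n F)).map ι :=
    congrArg Units.val h1
  ext i j
  have := congrFun (congrFun h2 i) j
  exact ι.injective this

/-- Transport of isometry groups along an invertible (rectangular) change of coordinates. -/
theorem transport_isometry {n₁ n₂ : Type} [Fintype n₁] [DecidableEq n₁] [Fintype n₂] [DecidableEq n₂]
    {K : Type*} [Field K] (Q₁ : (n₁ → K) → K) (Q₂ : (n₂ → K) → K)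
    (P : Matrix n₂ n₁ K) (P' : Matrix n₁ n₂ K) (h1 : P * P' = 1) (h2 : P' * P = 1)
    (hQ : ∀ w, Q₂ (P *ᵥ w) = Q₁ w) :
    ∃ Φ : ↥(Cfsg.isometryGroup K Q₁) →* ↥(Cfsg.isometryGroup K Q₂), Function.Injective Φ := by
  let f : Matrix.GeneralLinearGroup n₁ K →* Matrix.GeneralLinearGroup n₂ K :=
    { toFun := fun g => ⟨P * g.1 * P', P * g.2 * P', by
          calc P * g.1 * P' * (P * g.2 * P') = P * (g.1 * ((P' * P) * g.2)) * P' := by
                simp only [Matrix.mul_assoc]
            _ = 1 := by rw [h2, Matrix.one_mul, g.3, Matrix.mul_one, h1], by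
          calc P * g.2 * P' * (P * g.1 * P') = P * (g.2 * ((P' * P) * g.1)) * P' := by
                simp only [Matrix.mul_assoc]
            _ = 1 := by rw [h2, Matrix.one_mul, g.4, Matrix.mul_one, h1]⟩
      map_one' := by
        apply Units.ext
        show P * (1 : Matrix n₁ n₁ K) * P' = 1
        rw [Matrix.mul_one, h1]
      map_mul' := by
        intro g g'
        apply Units.ext
        show P * ((g.1 : Matrix n₁ n₁ K) * g'.1) * P' = (P * g.1 * P') * (P * g'.1 * P')
        calc P * ((g.1 : Matrix n₁ n₁ K) * g'.1) * P' = P * (g.1 * (1 * g'.1)) * P' := by rw [Matrix.one_mul]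
          _ = (P * g.1 * P') * (P * g'.1 * P') := by rw [← h2]; simp only [Matrix.mul_assoc] }
  have hf : ∀ g : Matrix.GeneralLinearGroup n₁ K, ((f g : Matrix.GeneralLinearGroup n₂ K) : Matrix n₂ n₂ K) = P * g.1 * P' := fun g => rfl
  have hmem : ∀ g : ↥(Cfsg.isometryGroup K Q₁), f g.1 ∈ Cfsg.isometryGroup K Q₂ := by
    intro g
    rw [mem_isometryGroup_iff]
    intro u
    have hg := (mem_isometryGroup_iff Q₁ g.1).mp g.2
    rw [hf, ← Matrix.mulVec_mulVec, ← Matrix.mulVec_mulVec, hQ, hg, ← hQ, Matrix.mulVec_mulVec, h1,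
      Matrix.one_mulVec]
  refine ⟨(f.comp (Subgroup.subtype _)).codRestrict _ hmem, ?_⟩
  intro g g' h
  have h3 : f g.1 = f g'.1 := congrArg Subtype.val h
  have h4 : P * (g.1 : Matrix n₁ n₁ K) * P' = P * (g'.1 : Matrix n₁ n₁ K) * P' := by
    rw [← hf, ← hf, h3]
  apply Subtype.ext
  apply Units.ext
  generalize ((g.1 : Matrix.GeneralLinearGroup n₁ K) : Matrix n₁ n₁ K) = A at h4 ⊢
  generalize ((g'.1 : Matrix.GeneralLinearGroup n₁ K) : Matrix n₁ n₁ K) = A' at h4 ⊢
  calc A = (P' * P) * A * (P' * P) := by rw [h2, Matrix.one_mul, Matrix.mul_one]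
    _ = P' * (P * A * P') * P := by simp only [Matrix.mul_assoc]
    _ = P' * (P * A' * P') * P := by rw [h4]
    _ = (P' * P) * A' * (P' * P) := by simp only [Matrix.mul_assoc]
    _ = A' := by rw [h2, Matrix.one_mul, Matrix.mul_one]




/-- Gram-type (upper triangular) matrix of the minus-type form. -/
def minusMat (k : ℕ) (R : Type*) [CommRing R] (a c : R) :
    Matrix ((Fin k ⊕ Fin k) ⊕ Fin 2) ((Fin k ⊕ Fin k) ⊕ Fin 2) R :=
  Matrix.fromBlocks (Matrix.fromBlocks 0 1 0 0) 0 0 !![1, a; 0, c]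

theorem quadFormMinus_eq_mat (k : ℕ) {F : Type*} [Field F] (a c : F)
    (v : (Fin k ⊕ Fin k) ⊕ Fin 2 → F) :
    Cfsg.quadFormMinus k F a c v = v ⬝ᵥ (minusMat k F a c) *ᵥ v := by
  unfold minusMat Cfsg.quadFormMinus
  simp only [dotProduct, Matrix.mulVec, Fintype.sum_sum_type, Matrix.fromBlocks_apply₁₁,
    Matrix.fromBlocks_apply₁₂, Matrix.fromBlocks_apply₂₁, Matrix.fromBlocks_apply₂₂,
    Matrix.zero_apply, Matrix.one_apply, zero_mul, Finset.sum_const_zero, add_zero, zero_add,
    ite_mul, one_mul, Finset.sum_ite_eq, Finset.mem_univ, if_true, mul_zero, Fin.sum_univ_two,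
    Matrix.of_apply, Matrix.cons_val', Matrix.cons_val_zero, Matrix.cons_val_one,
    Matrix.cons_val_fin_one]
  ring

theorem minusMat_map (k : ℕ) {F K : Type*} [Field F] [Field K] (ι : F →+* K) (a c : F) :
    (minusMat k F a c).map ι = minusMat k K (ι a) (ι c) := by
  unfold minusMat
  rw [Matrix.fromBlocks_map, Matrix.fromBlocks_map]
  congr 1
  · congr 1 <;> simp
  · simp
  · simp
  · ext i j
    fin_cases i <;> fin_cases j <;> simp




/-- hyperbolic form on the index type of the minus form -/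
def hypForm (k : ℕ) (K : Type*) [Field K] (w : (Fin k ⊕ Fin k) ⊕ Fin 2 → K) : K :=
  (∑ i : Fin k, w (.inl (.inl i)) * w (.inl (.inr i))) + w (.inr 0) * w (.inr 1)

/-- index bijection -/
def idxEquiv (k : ℕ) : (Fin (k + 1) ⊕ Fin (k + 1)) ≃ ((Fin k ⊕ Fin k) ⊕ Fin 2) where
  toFun := Sum.elim (Fin.lastCases (Sum.inr 0) (fun i => Sum.inl (Sum.inl i)))
    (Fin.lastCases (Sum.inr 1) (fun i => Sum.inl (Sum.inr i)))
  invFun := Sum.elim (Sum.elim (fun i => Sum.inl (Fin.castSucc i)) (fun i => Sum.inr (Fin.castSucc i)))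
    (fun t => if t = 0 then Sum.inl (Fin.last k) else Sum.inr (Fin.last k))
  left_inv := by
    rintro (j | j)
    · induction j using Fin.lastCases with
      | last => simp
      | cast i => simp
    · induction j using Fin.lastCases with
      | last => simp
      | cast i => simp
  right_inv := by
    rintro ((i | i) | t)
    · simp
    · simp
    · fin_cases t <;> simp

theorem quadFormPlus_comp_idx (k : ℕ) {K : Type*} [Field K] (w : (Fin k ⊕ Fin k) ⊕ Fin 2 → K) :
    Cfsg.quadFormPlus (k + 1) K (w ∘ idxEquiv k) = hypForm k K w := by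
  unfold Cfsg.quadFormPlus hypForm
  rw [Fin.sum_univ_castSucc]
  simp [idxEquiv]

theorem hypForm_change (k : ℕ) {K : Type*} [Field K] (a c α β : K) (h1 : α + β = -a) (h2 : α * β = c)
    (w : (Fin k ⊕ Fin k) ⊕ Fin 2 → K) :
    hypForm k K ((Matrix.fromBlocks 1 0 0 !![1, -α; 1, -β] : Matrix ((Fin k ⊕ Fin k) ⊕ Fin 2) ((Fin k ⊕ Fin k) ⊕ Fin 2) K) *ᵥ w)
      = Cfsg.quadFormMinus k K a c w := by
  unfold hypForm Cfsg.quadFormMinus
  have e1 : ∀ x, ((Matrix.fromBlocks 1 0 0 !![1, -α; 1, -β] : Matrix ((Fin k ⊕ Fin k) ⊕ Fin 2) ((Fin k ⊕ Fin k) ⊕ Fin 2) K) *ᵥ w) (Sum.inl x) = w (Sum.inl x) := by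
    intro x
    simp [Matrix.mulVec, dotProduct, Fintype.sum_sum_type, Matrix.one_apply]
  have e2 : ((Matrix.fromBlocks 1 0 0 !![1, -α; 1, -β] : Matrix ((Fin k ⊕ Fin k) ⊕ Fin 2) ((Fin k ⊕ Fin k) ⊕ Fin 2) K) *ᵥ w) (Sum.inr 0) = w (Sum.inr 0) - α * w (Sum.inr 1) := by
    simp [Matrix.mulVec, dotProduct, Fintype.sum_sum_type, Fin.sum_univ_two]
    ring
  have e3 : ((Matrix.fromBlocks 1 0 0 !![1, -α; 1, -β] : Matrix ((Fin k ⊕ Fin k) ⊕ Fin 2) ((Fin k ⊕ Fin k) ⊕ Fin 2) K) *ᵥ w) (Sum.inr 1) = w (Sum.inr 0) - β * w (Sum.inr 1) := by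
    simp [Matrix.mulVec, dotProduct, Fintype.sum_sum_type, Fin.sum_univ_two]
    ring
  simp only [e1, e2, e3]
  have : a = -(α + β) := by rw [h1, neg_neg]
  rw [this, ← h2]
  ring




theorem exists_embedding_root {F K : Type*} [Field F] [Fintype F] [Field K] [Fintype K]
    (hK : Fintype.card K = Fintype.card F ^ 2) (a c : F)
    (hac : ∀ z : F, z ^ 2 + a * z + c ≠ 0) :
    ∃ (ι : F →+* K) (α : K), α ^ 2 + ι a * α + ι c = 0 ∧ 2 * α + ι a ≠ 0 := by
  classical
  set f : F[X] := X ^ 2 + C a * X + C c with hf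
  have hdeg : f.natDegree = 2 := by
    rw [hf]; compute_degree!
  have hmonic : f.Monic := by
    rw [hf]; monicity!
  have hirr : Irreducible f := by
    rw [Polynomial.Monic.irreducible_iff_roots_eq_zero_of_degree_le_three hmonic (by omega) (by omega)]
    apply Multiset.eq_zero_of_forall_notMem
    intro z hz
    rw [Polynomial.mem_roots hmonic.ne_zero, Polynomial.IsRoot.def] at hz
    apply hac z
    rw [← hz, hf]
    simp
  have hsep : f.Separable := PerfectField.separable_of_irreducible hirr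
  have hder : derivative f = C 2 * X + C a := by
    rw [hf]
    simp only [derivative_add, derivative_X_pow, derivative_mul, derivative_C, derivative_X]
    simp
  obtain ⟨ι, α, hα⟩ : ∃ (ι : F →+* K) (α : K), f.eval₂ ι α = 0 := by
    have : Fact (Irreducible f) := ⟨hirr⟩
    have : Module.Finite F (AdjoinRoot f) := hmonic.finite_adjoinRoot
    have : Finite (AdjoinRoot f) := Module.finite_of_finite F
    let _ : Fintype (AdjoinRoot f) := Fintype.ofFinite _
    have hrank : Module.finrank F (AdjoinRoot f) = 2 := by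
      rw [← hdeg]
      exact finrank_quotient_span_eq_natDegree (f := f)
    have hcard : Fintype.card (AdjoinRoot f) = Fintype.card K := by
      rw [Module.card_eq_pow_finrank (K := F) (V := AdjoinRoot f), hrank, hK]
    let e : AdjoinRoot f ≃+* K := FiniteField.ringEquivOfCardEq hcard
    refine ⟨(e : AdjoinRoot f →+* K).comp (AdjoinRoot.of f), e (AdjoinRoot.root f), ?_⟩
    have h1 := AdjoinRoot.eval₂_root f
    have h2 := congrArg (e : AdjoinRoot f →+* K) h1
    rw [Polynomial.hom_eval₂, map_zero] at h2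
    exact h2
  refine ⟨ι, α, ?_, ?_⟩
  · rw [hf] at hα
    simpa [Polynomial.eval₂_add, Polynomial.eval₂_mul, Polynomial.eval₂_pow] using hα
  · have := hsep.eval₂_derivative_ne_zero ι hα
    rw [hder] at this
    have h2 : ι 2 = 2 := map_ofNat ι 2
    simpa [Polynomial.eval₂_add, Polynomial.eval₂_mul, h2] using this


end Cfsg.Agent.Lib.Helper15
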