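import Mathlib
import Cfsg.Agent.Lib.Helper15.StarPoly
import Cfsg.Agent.Lib.Helper15.SpReal
import Cfsg.Agent.Lib.Helper15.F2Forms
import Cfsg.Agent.S2618
import Cfsg.Agent.S2590

set_option autoImplicit false

namespace Cfsg.Agent.Lib.Helper15.OrthReal

open Polynomial Module
open scoped Matrix

universe u

section defs

variable {F : Type u} [Field F]

/-- `f` is the characteristic polynomial of an isometry `T` with `T^N = 1` of some nondegenerate
symmetric bilinear space -/
def OrthReal (N : ℕ) (f : F[X]) : Prop :=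
  ∃ (W : Type u) (_ : AddCommGroup W) (_ : Module F W) (_ : FiniteDimensional F W)
    (T : W →ₗ[F] W) (β : LinearMap.BilinForm F W),
    (∀ u v, β u v = β v u) ∧ (∀ u, (∀ v, β u v = 0) → u = 0) ∧
      (∀ u v, β (T u) (T v) = β u v) ∧ T ^ N = 1 ∧ T.charpoly = f

lemma orthReal_one (N : ℕ) : OrthReal N (1 : F[X]) := by
  refine ⟨PUnit, inferInstance, inferInstance, inferInstance, 0, 0, ?_, ?_, ?_, ?_, ?_⟩
  · intro u v; rfl
  · intro u _; exact Subsingleton.elim _ _
  · intro u v; rfl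
  · apply LinearMap.ext; intro x; exact Subsingleton.elim _ _
  · apply Polynomial.eq_one_of_monic_natDegree_zero (LinearMap.charpoly_monic _)
    rw [LinearMap.charpoly_natDegree, finrank_zero_of_subsingleton]

lemma OrthReal.mul {N : ℕ} {f g : F[X]} (hf : OrthReal N f) (hg : OrthReal N g) :
    OrthReal N (f * g) := by
  obtain ⟨W₁, _, _, _, T₁, β₁, ha₁, hn₁, hi₁, hp₁, hc₁⟩ := hf
  obtain ⟨W₂, _, _, _, T₂, β₂, ha₂, hn₂, hi₂, hp₂, hc₂⟩ := hg
  let β : LinearMap.BilinForm F (W₁ × W₂) :=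
    β₁.compl₁₂ (LinearMap.fst F W₁ W₂) (LinearMap.fst F W₁ W₂) +
      β₂.compl₁₂ (LinearMap.snd F W₁ W₂) (LinearMap.snd F W₁ W₂)
  have hβ : ∀ x y, β x y = β₁ x.1 y.1 + β₂ x.2 y.2 := fun x y => rfl
  refine ⟨W₁ × W₂, inferInstance, inferInstance, inferInstance, T₁.prodMap T₂, β, ?_, ?_, ?_, ?_, ?_⟩
  · intro x y
    rw [hβ, hβ, ha₁, ha₂]
  · intro x hx
    have h1 : x.1 = 0 := by
      apply hn₁
      intro v
      have := hx (v, 0)
      rw [hβ] at this
      simpa using this
    have h2 : x.2 = 0 := by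
      apply hn₂
      intro v
      have := hx (0, v)
      rw [hβ] at this
      simpa using this
    exact Prod.ext h1 h2
  · intro x y
    rw [hβ, hβ]
    show β₁ (T₁ x.1) (T₁ y.1) + β₂ (T₂ x.2) (T₂ y.2) = _
    rw [hi₁, hi₂]
  · rw [SpReal.prodMap_pow', hp₁, hp₂, LinearMap.prodMap_one]
  · rw [LinearMap.charpoly_prodMap, hc₁, hc₂]

lemma OrthReal.pow {N : ℕ} {f : F[X]} (hf : OrthReal N f) (k : ℕ) : OrthReal N (f ^ k) := by
  induction k with
  | zero => rw [pow_zero]; exact orthReal_one N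
  | succ k ih => rw [pow_succ]; exact ih.mul hf

lemma OrthReal.prod {N : ℕ} {ι : Type*} (s : Finset ι) (f : ι → F[X])
    (hf : ∀ i ∈ s, OrthReal N (f i)) : OrthReal N (∏ i ∈ s, f i) :=
  Finset.prod_induction f (OrthReal N) (fun _ _ ha hb => ha.mul hb) (orthReal_one N) hf

/-- the identity on `F^k` with the dot product -/
lemma orthReal_fixed (N k : ℕ) : OrthReal N ((X - 1 : F[X]) ^ k) := by
  let β : LinearMap.BilinForm F (Fin k → F) :=
    LinearMap.mk₂ F (fun x y => x ⬝ᵥ y)
      (by intro x x' y; rw [add_dotProduct])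
      (by intro c x y; rw [smul_dotProduct])
      (by intro x y y'; rw [dotProduct_add])
      (by intro c x y; rw [dotProduct_smul])
  have hβ : ∀ x y, β x y = x ⬝ᵥ y := fun x y => rfl
  refine ⟨Fin k → F, inferInstance, inferInstance, inferInstance,
    Matrix.toLin' (1 : Matrix (Fin k) (Fin k) F), β, ?_, ?_, ?_, ?_, ?_⟩
  · intro x y
    rw [hβ, hβ, dotProduct_comm]
  · intro x hx
    funext j
    have := hx (Pi.single j 1)
    rw [hβ, dotProduct_single, mul_one] at this
    exact this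
  · intro x y
    rw [Matrix.toLin'_one]
    rfl
  · rw [Matrix.toLin'_one]
    exact one_pow N
  · rw [Matrix.charpoly_toLin', Matrix.charpoly_one, Fintype.card_fin]

end defs

section hyp

variable {F : Type u} [Field F]

/-- the hyperbolic realisation: `diag(C, C⁻ᵀ)` on `Fⁿ × Fⁿ` -/
theorem orthReal_hyperbolic (N d : ℕ) (C Ci : Matrix (Fin d) (Fin d) F) (h1 : C * Ci = 1)
    (hN : C ^ N = 1) :
    OrthReal N (C.charpoly * StarPoly.star (RingHom.id F) C.charpoly) := by
  have h2 : Ci * C = 1 := mul_eq_one_comm.1 h1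
  let β : LinearMap.BilinForm F ((Fin d → F) × (Fin d → F)) :=
    LinearMap.mk₂ F (fun x y => x.1 ⬝ᵥ y.2 + y.1 ⬝ᵥ x.2)
      (by intro x x' y; simp only [Prod.fst_add, Prod.snd_add, add_dotProduct, dotProduct_add]; ring)
      (by intro c x y; simp only [Prod.smul_fst, Prod.smul_snd, smul_dotProduct, dotProduct_smul,
        smul_eq_mul]; ring)
      (by intro x y y'; simp only [Prod.fst_add, Prod.snd_add, add_dotProduct, dotProduct_add]; ring)
      (by intro c x y; simp only [Prod.smul_fst, Prod.smul_snd, smul_dotProduct, dotProduct_smul,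
        smul_eq_mul]; ring)
  have hβ : ∀ x y, β x y = x.1 ⬝ᵥ y.2 + y.1 ⬝ᵥ x.2 := fun x y => rfl
  have hCiN : (Ciᵀ) ^ N = 1 := by
    have h3 : Ci ^ N = 1 := by
      have : (C * Ci) ^ N = C ^ N * Ci ^ N := (Commute.mul_pow (by
        show C * Ci = Ci * C
        rw [h1, h2]) N)
      rw [h1, one_pow, hN, one_mul] at this
      exact this.symm
    rw [← Matrix.transpose_pow, h3, Matrix.transpose_one]
  refine ⟨(Fin d → F) × (Fin d → F), inferInstance, inferInstance, inferInstance,
    (Matrix.toLin' C).prodMap (Matrix.toLin' Ciᵀ), β, ?_, ?_, ?_, ?_, ?_⟩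
  · intro x y
    rw [hβ, hβ, add_comm]
  · intro x hx
    have hx1 : x.1 = 0 := by
      funext j
      have := hx (0, Pi.single j 1)
      rw [hβ] at this
      simpa using this
    have hx2 : x.2 = 0 := by
      funext j
      have := hx (Pi.single j 1, 0)
      rw [hβ] at this
      simpa using this
    exact Prod.ext hx1 hx2
  · intro x y
    rw [hβ, hβ]
    show (C *ᵥ x.1) ⬝ᵥ (Ciᵀ *ᵥ y.2) + (C *ᵥ y.1) ⬝ᵥ (Ciᵀ *ᵥ x.2) = _
    have key : ∀ a b : Fin d → F, (C *ᵥ a) ⬝ᵥ (Ciᵀ *ᵥ b) = a ⬝ᵥ b := by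
      intro a b
      rw [AltGlue.dot_mulVec', ← Matrix.transpose_mul, h2, Matrix.transpose_one, Matrix.one_mulVec]
    rw [key, key]
  · rw [SpReal.prodMap_pow', ← Matrix.toLin'_pow, ← Matrix.toLin'_pow, hN, hCiN, Matrix.toLin'_one]
    exact LinearMap.prodMap_one
  · rw [LinearMap.charpoly_prodMap, Matrix.charpoly_toLin', Matrix.charpoly_toLin',
      SpReal.charpoly_invT C Ci h1]

end hyp

section selfdual

variable {F : Type u} [Field F] [Finite F]

/-- a self-reciprocal irreducible polynomial whose root `ζ` satisfies `ζ^N = 1` is the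
characteristic polynomial of an isometry of a symmetric space (trace form `Tr(u · ῡ)`) -/
theorem orthReal_selfdual (p : ℕ) [Fact p.Prime] [CharP F p] (N : ℕ) (h : F[X]) (hm : h.Monic)
    (hirr : Irreducible h) (hstar : StarPoly.star (RingHom.id F) h = h)
    (hdvd : h ∣ X ^ N - 1) : OrthReal N h := by
  have : Fact (Irreducible h) := ⟨hirr⟩
  have : Module.Finite F (AdjoinRoot h) := (AdjoinRoot.powerBasis hirr.ne_zero).finite
  have : CharP (AdjoinRoot h) p :=
    charP_of_injective_algebraMap (algebraMap F (AdjoinRoot h)).injective p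
  obtain ⟨ζ, hζ⟩ : ∃ ζ : AdjoinRoot h, ζ = AdjoinRoot.root h := ⟨_, rfl⟩
  have hζ0 : aeval ζ h = 0 := by
    rw [hζ, AdjoinRoot.aeval_eq, AdjoinRoot.mk_self]
  have hζN : ζ ^ N = 1 := by
    obtain ⟨g, hg⟩ := hdvd
    have := congrArg (aeval ζ) hg
    rw [map_mul, hζ0, zero_mul, map_sub, map_pow, aeval_X, map_one, sub_eq_zero] at this
    exact this
  have hc0 : h.coeff 0 ≠ 0 := by
    intro hc
    have : StarPoly.star (RingHom.id F) h = 0 := by
      unfold StarPoly.star
      rw [Polynomial.map_id, hc, inv_zero, C_0, zero_mul]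
    rw [hstar] at this
    exact hirr.ne_zero this
  have hζne : ζ ≠ 0 := by
    intro h0
    apply hc0
    rw [coeff_zero_eq_eval_zero]
    have h1 : aeval (algebraMap F (AdjoinRoot h) 0) h = 0 := by
      rw [map_zero]
      rw [h0] at hζ0
      exact hζ0
    rw [aeval_algebraMap_apply_eq_algebraMap_eval] at h1
    exact (map_eq_zero_iff _ (algebraMap F (AdjoinRoot h)).injective).1 h1
  have hroot : aeval (ζ⁻¹) h = 0 := by
    have := StarPoly.star_root p 0 (RingHom.id F) (L := AdjoinRoot h)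
      (fun c => by rw [pow_zero, pow_one]; rfl) h ζ hζne hζ0
    rw [pow_zero, pow_one, hstar] at this
    exact this
  let ι : AdjoinRoot h →ₐ[F] AdjoinRoot h :=
    AdjoinRoot.liftAlgHom h (Algebra.ofId F _) ζ⁻¹ (by rw [aeval_def] at hroot; exact hroot)
  have hιζ : ι ζ = ζ⁻¹ := by
    have h1 : ι (AdjoinRoot.root h) = ζ⁻¹ := AdjoinRoot.liftAlgHom_root h _ _ _
    rw [hζ]
    rw [hζ] at h1
    exact h1
  have hιι : ι.comp ι = AlgHom.id F _ := by
    apply AdjoinRoot.algHom_ext
    rw [AlgHom.comp_apply, ← hζ, hιζ, map_inv₀, hιζ, inv_inv]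
    rfl
  have hιι' : ∀ x, ι (ι x) = x := fun x => by
    have := congrArg (fun φ : AdjoinRoot h →ₐ[F] AdjoinRoot h => φ x) hιι
    exact this
  let ιe : AdjoinRoot h ≃ₐ[F] AdjoinRoot h := AlgEquiv.ofAlgHom ι ι hιι hιι
  have htr : ∀ x, Algebra.trace F (AdjoinRoot h) (ι x) = Algebra.trace F (AdjoinRoot h) x :=
    fun x => Algebra.trace_eq_of_algEquiv ιe x
  let β : LinearMap.BilinForm F (AdjoinRoot h) :=
    LinearMap.mk₂ F (fun u v => Algebra.trace F (AdjoinRoot h) (u * ι v))
      (by intro x x' y; rw [add_mul, map_add])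
      (by intro a x y; rw [Algebra.smul_mul_assoc, map_smul])
      (by intro x y y'; rw [map_add, mul_add, map_add])
      (by intro a x y; rw [map_smul, Algebra.mul_smul_comm, map_smul])
  have hβ : ∀ u v, β u v = Algebra.trace F (AdjoinRoot h) (u * ι v) := fun u v => rfl
  refine ⟨AdjoinRoot h, inferInstance, inferInstance, inferInstance,
    Algebra.lmul F (AdjoinRoot h) ζ, β, ?_, ?_, ?_, ?_, ?_⟩
  · intro u v
    rw [hβ, hβ, ← htr (v * ι u)]
    have : ι (v * ι u) = u * ι v := by rw [map_mul ι, hιι', mul_comm]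
    rw [this]
  · intro u hu
    have h1 : ∀ y, Algebra.traceForm F (AdjoinRoot h) u y = 0 := by
      intro y
      have := hu (ι y)
      rw [hβ, hιι'] at this
      rw [Algebra.traceForm_apply]
      exact this
    exact (traceForm_nondegenerate F (AdjoinRoot h)).1 u h1
  · intro u v
    rw [hβ, hβ]
    show Algebra.trace F (AdjoinRoot h) ((ζ * u) * ι (ζ * v)) = _
    rw [map_mul ι, hιζ]
    have : (ζ * u) * (ζ⁻¹ * ι v) = (ζ * ζ⁻¹) * (u * ι v) := by ring
    rw [this, mul_inv_cancel₀ hζne, one_mul]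
  · rw [← map_pow, hζN, map_one]
  · have h1 : (Algebra.leftMulMatrix (AdjoinRoot.powerBasis hirr.ne_zero).basis ζ).charpoly =
        minpoly F ζ := by
      have := charpoly_leftMulMatrix (AdjoinRoot.powerBasis hirr.ne_zero)
      rw [AdjoinRoot.powerBasis_gen, ← hζ] at this
      exact this
    rw [Algebra.leftMulMatrix_apply, LinearMap.charpoly_toMatrix] at h1
    rw [h1, hζ, AdjoinRoot.minpoly_root hirr.ne_zero, hm.leadingCoeff, inv_one, C_1, mul_one]

end selfdual


section oddform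

variable {F : Type u} [Field F]

open QuadraticMap

/-- the standard odd-dimensional form as a Mathlib quadratic form -/
noncomputable def oddQF (m : ℕ) : QuadraticForm F (Unit ⊕ (Fin m ⊕ Fin m) → F) :=
  QuadraticMap.proj (Sum.inl ()) (Sum.inl ()) +
    ∑ i : Fin m, QuadraticMap.proj (Sum.inr (Sum.inl i)) (Sum.inr (Sum.inr i))

theorem oddQF_apply (m : ℕ) (v : Unit ⊕ (Fin m ⊕ Fin m) → F) :
    oddQF m v = Cfsg.quadFormOdd m F v := by
  unfold oddQF Cfsg.quadFormOdd
  simp only [_root_.add_apply, _root_.sum_apply, QuadraticMap.proj_apply]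
  ring

theorem polar_oddQF (m : ℕ) (u v : Unit ⊕ (Fin m ⊕ Fin m) → F) :
    polar (oddQF m (F := F)) u v = 2 * u (Sum.inl ()) * v (Sum.inl ()) +
      ∑ i, (u (Sum.inr (Sum.inl i)) * v (Sum.inr (Sum.inr i)) +
        v (Sum.inr (Sum.inl i)) * u (Sum.inr (Sum.inr i))) := by
  simp only [polar, oddQF_apply, Cfsg.quadFormOdd, Pi.add_apply]
  have : ∀ i : Fin m, (u (Sum.inr (Sum.inl i)) + v (Sum.inr (Sum.inl i))) *
      (u (Sum.inr (Sum.inr i)) + v (Sum.inr (Sum.inr i))) =
      u (Sum.inr (Sum.inl i)) * u (Sum.inr (Sum.inr i)) +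
      v (Sum.inr (Sum.inl i)) * v (Sum.inr (Sum.inr i)) +
      (u (Sum.inr (Sum.inl i)) * v (Sum.inr (Sum.inr i)) +
        v (Sum.inr (Sum.inl i)) * u (Sum.inr (Sum.inr i))) := by
    intro i; ring
  rw [Finset.sum_congr rfl (fun i _ => this i), Finset.sum_add_distrib, Finset.sum_add_distrib]
  ring

end oddform


section realise

variable {F : Type u} [Field F] [Finite F]

open QuadraticMap

/-- from an abstract realisation to an isometry of the standard odd-dimensional form -/
theorem exists_orthogonal_odd (h2 : (2 : F) ≠ 0) {N : ℕ} {f : F[X]} (hf : OrthReal N f) (m : ℕ)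
    (hdeg : f.natDegree = 2 * m + 1) :
    ∃ B : Matrix (Unit ⊕ (Fin m ⊕ Fin m)) (Unit ⊕ (Fin m ⊕ Fin m)) F,
      (∀ u, Cfsg.quadFormOdd m F (B *ᵥ u) = Cfsg.quadFormOdd m F u) ∧ B.charpoly = f ∧
        B ^ N = 1 := by
  classical
  obtain ⟨W, _, _, _, T, β, hsymm, hnd, hinv, hpow, hcp⟩ := hf
  let Q : QuadraticForm F W := LinearMap.BilinMap.toQuadraticMap β
  have hQ : ∀ v, Q v = β v v := fun v => rfl
  have hpolar : ∀ u v, polar Q u v = 2 * β u v := by
    intro u v
    rw [LinearMap.BilinMap.polar_toQuadraticMap, hsymm v u, two_mul]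
  have hQnd : (polarBilin Q).Nondegenerate := by
    constructor
    · intro x hx
      apply hnd
      intro y
      have := hx y
      rw [polarBilin_apply_apply, hpolar] at this
      exact (mul_eq_zero.1 this).resolve_left h2
    · intro y hy
      apply hnd
      intro x
      have := hy x
      rw [polarBilin_apply_apply, hpolar, hsymm] at this
      exact (mul_eq_zero.1 this).resolve_left h2
  have hfr : finrank F W = 2 * m + 1 := by
    rw [← LinearMap.charpoly_natDegree T, hcp, hdeg]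
  obtain ⟨b, hb0, hb1, hb2, hb3, hb4⟩ := Cfsg.Agent.S2618.result hfr Q hQnd
  obtain ⟨c, hc⟩ : ∃ c, c = Q (b (Sum.inl ())) := ⟨_, rfl⟩
  have hc0 : c ≠ 0 := by rw [hc]; exact hb0
  let w : Unit ⊕ (Fin m ⊕ Fin m) → Fˣ :=
    fun k => Sum.elim (fun _ => 1) (Sum.elim (fun _ => 1) (fun _ => Units.mk0 c hc0)) k
  obtain ⟨b', hb'⟩ : ∃ b' : Basis (Unit ⊕ (Fin m ⊕ Fin m)) F W, b' = b.unitsSMul w := ⟨_, rfl⟩
  have hb'0 : b' (Sum.inl ()) = b (Sum.inl ()) := by
    rw [hb', Basis.unitsSMul_apply]; exact one_smul _ _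
  have hb'1 : ∀ i, b' (Sum.inr (Sum.inl i)) = b (Sum.inr (Sum.inl i)) := by
    intro i; rw [hb', Basis.unitsSMul_apply]; exact one_smul _ _
  have hb'2 : ∀ i, b' (Sum.inr (Sum.inr i)) = c • b (Sum.inr (Sum.inr i)) := by
    intro i; rw [hb', Basis.unitsSMul_apply]; rfl
  have hcoord : ∀ v, Q v = (c • oddQF m) (b'.equivFun v) := by
    apply eq_comp_equivFun b' Q (c • oddQF m)
    · rintro (⟨⟩ | i | i)
      · rw [hb'0, ← hc, _root_.smul_apply, oddQF_apply]
        simp [Cfsg.quadFormOdd]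
      · rw [hb'1, (hb2 i).1, _root_.smul_apply, oddQF_apply]
        simp [Cfsg.quadFormOdd, Pi.single_apply]
      · rw [hb'2, QuadraticMap.map_smul, (hb2 i).2, _root_.smul_apply, oddQF_apply]
        simp [Cfsg.quadFormOdd, Pi.single_apply]
    · rintro (⟨⟩ | i | i) (⟨⟩ | j | j) hij
      · exact absurd rfl hij
      · rw [hb'0, hb'1, (hb1 j).1, FunLike.coe_smul, polar_smul, polar_oddQF]
        simp [Pi.single_apply]
      · rw [hb'0, hb'2, polar_smul_right, (hb1 j).2, FunLike.coe_smul, polar_smul,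
          polar_oddQF]
        simp [Pi.single_apply]
      · rw [hb'0, hb'1, polar_comm, (hb1 i).1, FunLike.coe_smul, polar_smul, polar_oddQF]
        simp [Pi.single_apply]
      · rw [hb'1, hb'1, (hb4 i j).1, FunLike.coe_smul, polar_smul, polar_oddQF]
        simp [Pi.single_apply]
      · rw [hb'1, hb'2, polar_smul_right, hb3 i j, FunLike.coe_smul, polar_smul,
          polar_oddQF]
        simp [Pi.single_apply]
        simp only [eq_comm]
      · rw [hb'0, hb'2, polar_smul_left, polar_comm, (hb1 i).2, FunLike.coe_smul,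
          polar_smul, polar_oddQF]
        simp [Pi.single_apply]
      · rw [hb'1, hb'2, polar_smul_left, polar_comm, hb3 j i, FunLike.coe_smul, polar_smul,
          polar_oddQF]
        simp [Pi.single_apply, eq_comm]
      · rw [hb'2, hb'2, polar_smul_left, polar_smul_right, (hb4 i j).2, FunLike.coe_smul,
          polar_smul, polar_oddQF]
        simp [Pi.single_apply]
  let E : W ≃ₗ[F] (Unit ⊕ (Fin m ⊕ Fin m) → F) := b'.equivFun
  have hE : ∀ x, c * Cfsg.quadFormOdd m F (E x) = Q x := by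
    intro x
    rw [hcoord x, _root_.smul_apply, oddQF_apply]
    rfl
  let S : (Unit ⊕ (Fin m ⊕ Fin m) → F) →ₗ[F] (Unit ⊕ (Fin m ⊕ Fin m) → F) := E.conj T
  have hS : ∀ u, S u = E (T (E.symm u)) := by
    intro u
    show (E.conj T) u = _
    rw [LinearEquiv.conj_apply]
    rfl
  refine ⟨LinearMap.toMatrix' S, ?_, ?_, ?_⟩
  · intro u
    have h1 : (LinearMap.toMatrix' S) *ᵥ u = E (T (E.symm u)) := by
      rw [← Matrix.toLin'_apply, Matrix.toLin'_toMatrix', hS]
    have h3 : c * Cfsg.quadFormOdd m F ((LinearMap.toMatrix' S) *ᵥ u) =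
        c * Cfsg.quadFormOdd m F u := by
      rw [h1, hE, hQ, hinv, ← hQ, ← hE, LinearEquiv.apply_symm_apply]
    exact mul_left_cancel₀ hc0 h3
  · rw [← Matrix.charpoly_toLin', Matrix.toLin'_toMatrix']
    show (E.conj T).charpoly = f
    rw [LinearEquiv.charpoly_conj, hcp]
  · have h1 : S ^ N = 1 := by
      show (E.conj T) ^ N = 1
      rw [SpReal.conj_pow', hpow]
      apply LinearMap.ext
      intro v
      rw [LinearEquiv.conj_apply]
      simp
    have h2' : LinearMap.toMatrix' (S ^ N) = (LinearMap.toMatrix' S) ^ N := by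
      have : ∀ X : (Unit ⊕ (Fin m ⊕ Fin m) → F) →ₗ[F] (Unit ⊕ (Fin m ⊕ Fin m) → F),
          LinearMap.toMatrix' X = LinearMap.toMatrixAlgEquiv' X := fun X => rfl
      rw [this, this, map_pow]
    rw [← h2', h1]
    exact LinearMap.toMatrix'_one

end realise


section gram

variable {F : Type u} [Field F] {ι : Type} [Fintype ι] [DecidableEq ι]

open QuadraticMap

lemma exists_gram' (Q : QuadraticForm F (ι → F))
    (hQ : (QuadraticMap.polarBilin Q).Nondegenerate) :
    ∃ G Gi : Matrix ι ι F, Gi * G = 1 ∧ G * Gi = 1 ∧ Gᵀ = G ∧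
      ∀ u v, QuadraticMap.polar Q u v = u ⬝ᵥ G *ᵥ v := by
  obtain ⟨G, hG⟩ : ∃ G, G = LinearMap.BilinForm.toMatrix' (QuadraticMap.polarBilin Q) := ⟨_, rfl⟩
  have hdet : G.det ≠ 0 := by
    rw [← Matrix.nondegenerate_iff_det_ne_zero, hG]
    exact LinearMap.BilinForm.nondegenerate_toMatrix'_iff.2 hQ
  have hu : IsUnit G.det := isUnit_iff_ne_zero.2 hdet
  refine ⟨G, G⁻¹, Matrix.nonsing_inv_mul _ hu, Matrix.mul_nonsing_inv _ hu, ?_, ?_⟩
  · ext i j
    rw [Matrix.transpose_apply, hG, LinearMap.BilinForm.toMatrix'_apply,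
      LinearMap.BilinForm.toMatrix'_apply]
    exact QuadraticMap.polar_comm _ _ _
  · intro u v
    have h1 : Matrix.toBilin' G = QuadraticMap.polarBilin Q := by
      rw [hG]; exact Matrix.toBilin'_toMatrix' _
    rw [← Matrix.toBilin'_apply', h1]
    rfl

lemma gram_of_isometry' (Q : QuadraticForm F (ι → F)) (G : Matrix ι ι F)
    (hpol : ∀ u v, QuadraticMap.polar Q u v = u ⬝ᵥ G *ᵥ v)
    (A : Matrix ι ι F) (hA : ∀ u, Q (A *ᵥ u) = Q u) : Aᵀ * G * A = G := by
  apply AltGlue.mat_ext_bilin'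
  intro u v
  have h3 : (A *ᵥ u) ⬝ᵥ G *ᵥ (A *ᵥ v) = u ⬝ᵥ (Aᵀ * G * A) *ᵥ v := by
    rw [← Matrix.mulVec_mulVec, ← Matrix.mulVec_mulVec, Matrix.dotProduct_mulVec u,
      Matrix.vecMul_transpose]
  rw [← h3, ← hpol, ← hpol]
  unfold QuadraticMap.polar
  rw [← Matrix.mulVec_add, hA, hA, hA]

/-- the characteristic polynomial of an isometry of a nondegenerate quadratic form is
self-reciprocal -/
theorem charpoly_isometry (Q : QuadraticForm F (ι → F))
    (hQ : (QuadraticMap.polarBilin Q).Nondegenerate) (A Ai : Matrix ι ι F) (hAAi : A * Ai = 1)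
    (hA : ∀ u, Q (A *ᵥ u) = Q u) :
    StarPoly.star (RingHom.id F) A.charpoly = A.charpoly := by
  obtain ⟨G, Gi, h1, h2, hGs, hpol⟩ := exists_gram' Q hQ
  have hAG := gram_of_isometry' Q G hpol A hA
  have h3 : Aiᵀ = G * A * Gi := by
    have h4 : Aᵀ * G = G * Ai := by
      calc Aᵀ * G = Aᵀ * G * (A * Ai) := by rw [hAAi, Matrix.mul_one]
        _ = (Aᵀ * G * A) * Ai := by simp only [Matrix.mul_assoc]
        _ = G * Ai := by rw [hAG]
    have h5 : G * A = Aiᵀ * G := by
      have := congrArg Matrix.transpose h4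
      rw [Matrix.transpose_mul, Matrix.transpose_mul, Matrix.transpose_transpose, hGs] at this
      exact this
    rw [h5, Matrix.mul_assoc, h2, Matrix.mul_one]
  rw [← SpReal.charpoly_invT A Ai hAAi, h3]
  have h5 : (G * A * G⁻¹).charpoly = A.charpoly := Matrix.charpoly_units_conj
    (⟨G, Gi, h2, h1⟩ : (Matrix ι ι F)ˣ) A
  have h6 : (G : Matrix ι ι F)⁻¹ = Gi := Matrix.inv_eq_right_inv h2
  rw [h6] at h5
  exact h5

theorem oddQF_nondegenerate (h2 : (2 : F) ≠ 0) (m : ℕ) :
    (QuadraticMap.polarBilin (oddQF m (F := F))).Nondegenerate := by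
  have key : ∀ x : Unit ⊕ (Fin m ⊕ Fin m) → F, (∀ y, polar (oddQF m (F := F)) x y = 0) → x = 0 := by
    intro x hx
    funext k
    rcases k with ⟨⟩ | j | j
    · have := hx (Pi.single (Sum.inl ()) 1)
      rw [polar_oddQF] at this
      simp [Pi.single_apply] at this
      rcases this with h | h
      · exact absurd h h2
      · exact h
    · have := hx (Pi.single (Sum.inr (Sum.inr j)) 1)
      rw [polar_oddQF] at this
      simpa [Pi.single_apply] using this
    · have := hx (Pi.single (Sum.inr (Sum.inl j)) 1)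
      rw [polar_oddQF] at this
      simpa [Pi.single_apply] using this
  constructor
  · intro x hx
    exact key x (fun y => by have := hx y; rwa [polarBilin_apply_apply] at this)
  · intro y hy
    exact key y (fun x => by have := hy x; rwa [polarBilin_apply_apply, polar_comm] at this)

end gram


section conj

variable {F : Type u} [Field F] [Finite F] {ι : Type} [Fintype ι] [DecidableEq ι]

open QuadraticMap

/-- `S2590.core` for an arbitrary finite index type -/
theorem core' (Q : QuadraticForm F (ι → F)) (hnd : (polarBilin Q).Nondegenerate)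
    (A B : Matrix ι ι F) (hA : ∀ u, Q (A *ᵥ u) = Q u) (hB : ∀ u, Q (B *ᵥ u) = Q u)
    (M : ℕ) (hM : A ^ M = 1) (hMF : (M : F) ≠ 0) (hodd : Odd M)
    (c ci : Matrix ι ι F) (hc1 : c * ci = 1) (hc2 : ci * c = 1) (hcAB : c * A = B * c) :
    ∃ g gi : Matrix ι ι F, g * gi = 1 ∧ gi * g = 1 ∧ (∀ u, Q (g *ᵥ u) = Q u) ∧
      g * A = B * g := by
  classical
  obtain ⟨n, ⟨e⟩⟩ : ∃ n, Nonempty (ι ≃ Fin n) := ⟨Fintype.card ι, ⟨Fintype.equivFin ι⟩⟩
  let R : Matrix ι ι F ≃ₐ[F] Matrix (Fin n) (Fin n) F := Matrix.reindexAlgEquiv F F e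
  let L : (Fin n → F) ≃ₗ[F] (ι → F) := LinearEquiv.funCongrLeft F F e
  have hRL : ∀ (X : Matrix ι ι F) (u : Fin n → F), L ((R X) *ᵥ u) = X *ᵥ (L u) := by
    intro X u
    funext k
    show ((Matrix.reindex e e X) *ᵥ u) (e k) = (X *ᵥ (u ∘ e)) k
    rw [Matrix.reindex_apply, Matrix.submatrix_mulVec_equiv]
    simp
  let Q' : QuadraticForm F (Fin n → F) := Q.comp L.toLinearMap
  have hQ' : ∀ x, Q' x = Q (L x) := fun x => rfl
  have hpol' : ∀ x y, polar Q' x y = polar Q (L x) (L y) := by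
    intro x y
    unfold polar
    rw [hQ', hQ', hQ', map_add]
  have hnd' : (polarBilin Q').Nondegenerate := by
    constructor
    · intro x hx
      have h1 : L x = 0 := by
        apply hnd.1
        intro z
        have := hx (L.symm z)
        rw [polarBilin_apply_apply, hpol', LinearEquiv.apply_symm_apply] at this
        rw [polarBilin_apply_apply]
        exact this
      exact L.map_eq_zero_iff.1 h1
    · intro y hy
      have h1 : L y = 0 := by
        apply hnd.2
        intro z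
        have := hy (L.symm z)
        rw [polarBilin_apply_apply, hpol', LinearEquiv.apply_symm_apply] at this
        rw [polarBilin_apply_apply]
        exact this
      exact L.map_eq_zero_iff.1 h1
  have hA' : ∀ u, Q' ((R A) *ᵥ u) = Q' u := by
    intro u
    rw [hQ', hRL, hA, ← hQ']
  have hB' : ∀ u, Q' ((R B) *ᵥ u) = Q' u := by
    intro u
    rw [hQ', hRL, hB, ← hQ']
  obtain ⟨g', gi', hg1, hg2, hgQ, hgAB⟩ := Cfsg.Agent.S2590.core Q' hnd' (R A) (R B) hA' hB' M
    (by rw [← map_pow, hM, map_one]) hMF hodd (R c) (R ci)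
    (by rw [← map_mul, hc1, map_one]) (by rw [← map_mul, hc2, map_one])
    (by rw [← map_mul, ← map_mul, hcAB])
  refine ⟨R.symm g', R.symm gi', ?_, ?_, ?_, ?_⟩
  · rw [← map_mul, hg1, map_one]
  · rw [← map_mul, hg2, map_one]
  · intro u
    obtain ⟨v, rfl⟩ : ∃ v, u = L v := ⟨L.symm u, (L.apply_symm_apply u).symm⟩
    rw [← hRL, AlgEquiv.apply_symm_apply, ← hQ', hgQ, hQ']
  · apply R.injective
    rw [map_mul, map_mul, AlgEquiv.apply_symm_apply]
    exact hgAB

end conj

end Cfsg.Agent.Lib.Helper15.OrthReal
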