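import Mathlib
import Cfsg.Prelude.Def_LieClassical
import Cfsg.Agent.Lib.Helper15.F2Forms
import Cfsg.Agent.Lib.Helper15.IsometryTransport
import Cfsg.Agent.Lib.Helper15.FieldExt
import Cfsg.Agent.Lib.Helper15.WittBound

/-! Helper15 library: the unitary group inside the orthogonal groups over the subfield. -/

set_option autoImplicit false

namespace Cfsg.Agent.Lib.Helper15

open Module QuadraticMap Matrix

section generic
variable {F V : Type*} [Field F] [AddCommGroup V] [Module F V]

theorem polar_eq_zero_of_ts (Q : QuadraticForm F V) (U : Submodule F V) (hU : ∀ u ∈ U, Q u = 0)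
    {u u' : V} (hu : u ∈ U) (hu' : u' ∈ U) : polar Q u u' = 0 := by
  rw [polar, hU _ (U.add_mem hu hu'), hU _ hu, hU _ hu']; ring

/-- A nondegenerate space of dimension `2k` containing a totally singular subspace of dimension `k`
has a hyperbolic family of `k` pairs. -/
theorem hypFam_of_ts [FiniteDimensional F V] (Q : QuadraticForm F V) :
    ∀ (k : ℕ) (W U : Submodule F V), NdOn Q W → finrank F W = 2 * k → U ≤ W →
      (∀ u ∈ U, Q u = 0) → k ≤ finrank F U → ∃ e f : Fin k → V, HypFam Q W e f := by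
  intro k
  induction k with
  | zero =>
    intro W U _ _ _ _ _
    exact ⟨fun i => i.elim0, fun i => i.elim0, hypFam_zero Q W _ _⟩
  | succ k ih =>
    intro W U hW hdim hUW hU hk
    have hpos : 0 < finrank F U := by omega
    obtain ⟨e₀, he₀U, he0⟩ : ∃ e₀ ∈ U, e₀ ≠ 0 := by
      obtain ⟨⟨x, hx⟩, hne⟩ := Module.finrank_pos_iff_exists_ne_zero.mp hpos
      exact ⟨x, hx, fun h => hne (Subtype.ext h)⟩
    have he := hU e₀ he₀U
    have heW := hUW he₀U
    obtain ⟨f₀, hfW, hf, hef⟩ := exists_hyp_partner Q W hW heW he0 he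
    have hnd := perpPair_nd Q W hW heW hfW he hf hef
    have hfr := perpPair_finrank Q W heW hfW he hf hef
    have hU'W : U ⊓ LinearMap.ker (polarBilin Q f₀) ≤ perpPair Q W e₀ f₀ := by
      intro u hu
      obtain ⟨hu1, hu2⟩ := Submodule.mem_inf.mp hu
      rw [mem_perpPair]
      refine ⟨hUW hu1, polar_eq_zero_of_ts Q U hU he₀U hu1, ?_⟩
      simpa [LinearMap.mem_ker, polarBilin_apply_apply] using hu2
    have hU'ts : ∀ u ∈ U ⊓ LinearMap.ker (polarBilin Q f₀), Q u = 0 :=
      fun u hu => hU u (Submodule.mem_inf.mp hu).1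
    have hU'dim : k ≤ finrank F ↥(U ⊓ LinearMap.ker (polarBilin Q f₀)) := by
      have h1 := Submodule.finrank_sup_add_finrank_inf_eq U (LinearMap.ker (polarBilin Q f₀))
      have h2 : finrank F V ≤ finrank F (LinearMap.ker (polarBilin Q f₀)) + 1 := by
        have := LinearMap.finrank_range_add_finrank_ker (polarBilin Q f₀)
        have h3 : finrank F (LinearMap.range (polarBilin Q f₀)) ≤ 1 := by
          calc _ ≤ finrank F F := Submodule.finrank_le _
            _ = 1 := finrank_self F
        omega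
      have h4 : finrank F ↥(U ⊔ LinearMap.ker (polarBilin Q f₀)) ≤ finrank F V :=
        Submodule.finrank_le _
      omega
    obtain ⟨e, f, H⟩ := ih (perpPair Q W e₀ f₀) _ hnd (by omega) hU'W hU'ts hU'dim
    exact ⟨Fin.cons e₀ e, Fin.cons f₀ f, H.cons heW hfW he hf hef⟩

/-- the minus-type form as a Mathlib quadratic form -/
noncomputable def minusQFab (k : ℕ) (a b : F) : QuadraticForm F ((Fin k ⊕ Fin k) ⊕ Fin 2 → F) :=
  (∑ i : Fin k, QuadraticMap.proj (Sum.inl (Sum.inl i)) (Sum.inl (Sum.inr i)))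
    + QuadraticMap.proj (Sum.inr 0) (Sum.inr 0) + a • QuadraticMap.proj (Sum.inr 0) (Sum.inr 1)
    + b • QuadraticMap.proj (Sum.inr 1) (Sum.inr 1)

theorem minusQFab_eq (k : ℕ) (a b : F) (v : (Fin k ⊕ Fin k) ⊕ Fin 2 → F) :
    minusQFab k a b v = Cfsg.quadFormMinus k F a b v := by
  unfold minusQFab Cfsg.quadFormMinus
  simp only [_root_.add_apply, _root_.sum_apply, QuadraticMap.proj_apply, _root_.smul_apply,
    smul_eq_mul]
  ring

theorem polar_minusQFab (k : ℕ) (a b : F) (u v : (Fin k ⊕ Fin k) ⊕ Fin 2 → F) :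
    polar (minusQFab k a b) u v =
      (fun i => u (Sum.inl (Sum.inl i))) ⬝ᵥ (fun i => v (Sum.inl (Sum.inr i)))
      + (fun i => v (Sum.inl (Sum.inl i))) ⬝ᵥ (fun i => u (Sum.inl (Sum.inr i)))
      + (2 * u (Sum.inr 0) * v (Sum.inr 0) + a * (u (Sum.inr 0) * v (Sum.inr 1) + u (Sum.inr 1) * v (Sum.inr 0))
          + 2 * b * u (Sum.inr 1) * v (Sum.inr 1)) := by
  have := polar_quadFormMinus k a b u v
  simp only [polar, minusQFab_eq]
  exact this

/-- Coordinates in which a form with a full hyperbolic family is the standard plus-type form. -/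
theorem plus_coords [FiniteDimensional F V] (Q : QuadraticForm F V) {k : ℕ} (e f : Fin k → V)
    (H : HypFam Q ⊤ e f) (hdim : finrank F V = 2 * k) :
    ∃ b : Basis (Fin k ⊕ Fin k) F V, ∀ v, Cfsg.quadFormPlus k F (b.equivFun v) = Q v := by
  classical
  have hcard : Fintype.card (Fin k ⊕ Fin k) = finrank F V := by
    rw [hdim]; simp; ring
  let b := basisOfLinearIndependentOfCardEqFinrank' _ H.linearIndependent hcard
  have hb : ⇑b = Sum.elim e f := coe_basisOfLinearIndependentOfCardEqFinrank' _ _ _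
  have H2 := H.2.1
  have H3 := H.2.2.1
  have H4 := H.2.2.2
  refine ⟨b, fun v => ?_⟩
  rw [← plusQF_eq]
  symm
  apply eq_comp_equivFun b Q (plusQF k)
  · rintro (i | i)
    · simp [hb, (H2 i).1, plusQF_apply, Pi.single_apply]
    · simp [hb, (H2 i).2, plusQF_apply, Pi.single_apply]
  · rintro (i | i) (j | j) hij
    · simp [hb, (H4 i j).1, polar_plusQF', Pi.single_apply]
    · simp [hb, H3 i j, polar_plusQF', Pi.single_apply]
      simp only [eq_comm]
    · rw [hb]
      simp only [Sum.elim_inr, Sum.elim_inl]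
      rw [polar_comm, H3 j i]
      simp [polar_plusQF', Pi.single_apply, eq_comm]
    · simp [hb, (H4 i j).2, polar_plusQF', Pi.single_apply]

/-- Coordinates in which a form with a hyperbolic family and an orthogonal pair `x, y` is the
standard minus-type form. -/
theorem minus_coords [FiniteDimensional F V] (Q : QuadraticForm F V) {k : ℕ} (e f : Fin k → V)
    (x y : V) (a c : F) (H : HypFam Q ⊤ e f) (hli : LinearIndependent F ![x, y])
    (hxe : ∀ i, polar Q x (e i) = 0) (hxf : ∀ i, polar Q x (f i) = 0)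
    (hye : ∀ i, polar Q y (e i) = 0) (hyf : ∀ i, polar Q y (f i) = 0)
    (hQx : Q x = 1) (hxy : polar Q x y = a) (hQy : Q y = c) (hdim : finrank F V = 2 * k + 2) :
    ∃ b : Basis ((Fin k ⊕ Fin k) ⊕ Fin 2) F V,
      ∀ v, Cfsg.quadFormMinus k F a c (b.equivFun v) = Q v := by
  classical
  have hcard : Fintype.card ((Fin k ⊕ Fin k) ⊕ Fin 2) = finrank F V := by
    rw [hdim]; simp; ring
  have hli' : LinearIndependent F (Sum.elim (Sum.elim e f) ![x, y]) := by
    have h1 := H.linearIndependent_sum ![x, y] hli (by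
      intro j i
      fin_cases j
      · exact ⟨hxe i, hxf i⟩
      · exact ⟨hye i, hyf i⟩)
    have h2 := h1.comp (Equiv.sumComm _ _) (Equiv.injective _)
    convert h2 using 1
    funext i
    rcases i with (i | i) | j <;> simp
  let b := basisOfLinearIndependentOfCardEqFinrank' _ hli' hcard
  have hb : ⇑b = Sum.elim (Sum.elim e f) ![x, y] := coe_basisOfLinearIndependentOfCardEqFinrank' _ _ _
  have H2 := H.2.1
  have H3 := H.2.2.1
  have H4 := H.2.2.2
  have hyx : polar Q y x = a := by rw [polar_comm]; exact hxy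
  have hex : ∀ i, polar Q (e i) x = 0 := fun i => by rw [polar_comm]; exact hxe i
  have hfx : ∀ i, polar Q (f i) x = 0 := fun i => by rw [polar_comm]; exact hxf i
  have hey : ∀ i, polar Q (e i) y = 0 := fun i => by rw [polar_comm]; exact hye i
  have hfy : ∀ i, polar Q (f i) y = 0 := fun i => by rw [polar_comm]; exact hyf i
  refine ⟨b, fun v => ?_⟩
  rw [← minusQFab_eq]
  symm
  apply eq_comp_equivFun b Q (minusQFab k a c)
  · rintro ((i | i) | j)
    · simp [hb, (H2 i).1, minusQFab_eq, Cfsg.quadFormMinus, Pi.single_apply]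
    · simp [hb, (H2 i).2, minusQFab_eq, Cfsg.quadFormMinus, Pi.single_apply]
    · fin_cases j
      · simp [hb, hQx, minusQFab_eq, Cfsg.quadFormMinus, Pi.single_apply]
      · simp [hb, hQy, minusQFab_eq, Cfsg.quadFormMinus, Pi.single_apply]
  · rintro ((i | i) | j) ((i' | i') | j') hij
    · simp [hb, (H4 i i').1, polar_minusQFab, dotProduct, Pi.single_apply]
    · simp [hb, H3 i i', polar_minusQFab, dotProduct, Pi.single_apply]
      simp only [eq_comm]
    · fin_cases j' <;> simp [hb, hex, hey, polar_minusQFab, dotProduct, Pi.single_apply]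
    · rw [hb]
      simp only [Sum.elim_inr, Sum.elim_inl]
      rw [polar_comm, H3 i' i]
      simp [polar_minusQFab, dotProduct, Pi.single_apply, eq_comm]
    · simp [hb, (H4 i i').2, polar_minusQFab, dotProduct, Pi.single_apply]
    · fin_cases j' <;> simp [hb, hfx, hfy, polar_minusQFab, dotProduct, Pi.single_apply]
    · fin_cases j <;> simp [hb, hxe, hye, polar_minusQFab, dotProduct, Pi.single_apply]
    · fin_cases j <;> simp [hb, hxf, hyf, polar_minusQFab, dotProduct, Pi.single_apply]
    · fin_cases j <;> fin_cases j'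
      · exact absurd rfl hij
      · simp [hb, hxy, polar_minusQFab, dotProduct, Pi.single_apply]
      · simp [hb, hyx, polar_minusQFab, dotProduct, Pi.single_apply]
      · exact absurd rfl hij

end generic

/-- Embedding a group of `K`-linear maps preserving an `F`-valued quadratic function into the isometry
group of a standard form over `F` via an adapted `F`-basis. -/
theorem embed_of_basis_quad {K F : Type*} [Field K] [Field F] [Algebra F K] {I : Type*} [Fintype I]
    [DecidableEq I] {J : Type} [Fintype J] [DecidableEq J] (B : Basis J F (I → K))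
    (q₀ : (J → F) → F) (Ψ : (I → K) → F)
    (hB : ∀ x, q₀ (B.equivFun x) = Ψ x)
    {G : Type*} [Group G] (ρ : G →* Matrix I I K) (hρ : Function.Injective ρ)
    (hG : ∀ g x, Ψ (ρ g *ᵥ x) = Ψ x) :
    ∃ φ : G →* ↥(Cfsg.isometryGroup F q₀), Function.Injective φ := by
  classical
  let L : G → ((I → K) →ₗ[F] (I → K)) := fun g => (Matrix.toLin' (ρ g)).restrictScalars F
  have hL1 : L 1 = LinearMap.id := by
    ext x : 1
    simp [L]
  have hLmul : ∀ g h, L (g * h) = (L g).comp (L h) := by
    intro g h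
    ext x : 1
    simp [L]
  let M : G → Matrix J J F := fun g => LinearMap.toMatrix B B (L g)
  have hMv : ∀ g x, M g *ᵥ B.equivFun x = B.equivFun (ρ g *ᵥ x) := by
    intro g x
    have := LinearMap.toMatrix_mulVec_repr B B (L g) x
    simpa [M, L] using this
  have hMq : ∀ g u, q₀ (M g *ᵥ u) = q₀ u := by
    intro g u
    obtain ⟨x, rfl⟩ := B.equivFun.surjective u
    rw [hMv, hB, hB, hG]
  let Mh : G →* Matrix J J F :=
    { toFun := M
      map_one' := by simp only [M, hL1, LinearMap.toMatrix_id]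
      map_mul' := fun g h => by simp only [M, hLmul, LinearMap.toMatrix_comp B B B] }
  have hmem : ∀ g, Mh.toHomUnits g ∈ Cfsg.isometryGroup F q₀ := by
    intro g
    rw [mem_isometryGroup_iff]
    intro u
    exact hMq g u
  refine ⟨Mh.toHomUnits.codRestrict _ hmem, ?_⟩
  intro g h hgh
  have h0 : Mh.toHomUnits g = Mh.toHomUnits h := congrArg Subtype.val hgh
  have h1 : M g = M h := congrArg Units.val h0
  have h2 : L g = L h := (LinearMap.toMatrix B B).injective h1
  have h3 : Matrix.toLin' (ρ g) = Matrix.toLin' (ρ h) :=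
    LinearMap.restrictScalars_injective F h2
  exact hρ (Matrix.toLin'.injective h3)

section field
variable {F K : Type*} [Field F] [Fintype F] [Field K] [Fintype K] [Algebra F K]

omit [Fintype K] in
open Polynomial in
/-- Elements fixed by the relative Frobenius lie in the subfield. -/
theorem fix_mem_range (x : K) (hx : x ^ Fintype.card F = x) : ∃ c : F, algebraMap F K c = x := by
  classical
  have hq : 1 < Fintype.card F := Fintype.one_lt_card
  have hne : (X ^ Fintype.card F - X : K[X]) ≠ 0 := FiniteField.X_pow_card_sub_X_ne_zero K hq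
  have hdeg : (X ^ Fintype.card F - X : K[X]).natDegree = Fintype.card F :=
    FiniteField.X_pow_card_sub_X_natDegree_eq K hq
  have hroot : ∀ y : K, y ^ Fintype.card F = y → y ∈ (X ^ Fintype.card F - X : K[X]).roots.toFinset := by
    intro y hy
    rw [Multiset.mem_toFinset, Polynomial.mem_roots hne, Polynomial.IsRoot.def]
    simp [hy]
  have hsub : Finset.image (algebraMap F K) Finset.univ ⊆ (X ^ Fintype.card F - X : K[X]).roots.toFinset := by
    intro y hy
    obtain ⟨c, -, rfl⟩ := Finset.mem_image.mp hy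
    apply hroot
    rw [← map_pow, FiniteField.pow_card]
  have hcard : (X ^ Fintype.card F - X : K[X]).roots.toFinset.card ≤
      (Finset.image (algebraMap F K) Finset.univ).card := by
    rw [Finset.card_image_of_injective _ (algebraMap F K).injective, Finset.card_univ]
    calc _ ≤ Multiset.card (X ^ Fintype.card F - X : K[X]).roots := Multiset.toFinset_card_le _
      _ ≤ (X ^ Fintype.card F - X : K[X]).natDegree := Polynomial.card_roots' _
      _ = Fintype.card F := hdeg
  have heq := Finset.eq_of_subset_of_card_le hsub hcard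
  have hx' := hroot x hx
  rw [← heq] at hx'
  obtain ⟨c, -, hc⟩ := Finset.mem_image.mp hx'
  exact ⟨c, hc⟩

variable (F K) in
/-- The relative Frobenius `z ↦ z ^ |F|`. -/
noncomputable def frobK : K ≃ₐ[F] K := FiniteField.frobeniusAlgEquivOfAlgebraic F K

theorem frobK_apply (z : K) : frobK F K z = z ^ Fintype.card F := rfl

theorem frobK_frobK (hK : Fintype.card K = Fintype.card F ^ 2) (z : K) :
    frobK F K (frobK F K z) = z := by
  rw [frobK_apply, frobK_apply, ← pow_mul, ← _root_.sq, ← hK, FiniteField.pow_card]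

theorem frobK_algebraMap (c : F) : frobK F K (algebraMap F K c) = algebraMap F K c := by
  rw [AlgEquiv.commutes]

theorem exists_norm_neg_one (hK : Fintype.card K = Fintype.card F ^ 2) :
    ∃ ε : K, ε * frobK F K ε = -1 := by
  obtain ⟨ε, hε⟩ := FiniteField.norm_surjective F K (-1)
  refine ⟨ε, ?_⟩
  have h := FiniteField.algebraMap_norm_eq_pow_sum F K ε
  rw [hε, finrank_eq_two_of_card_sq hK, Finset.sum_range_succ, Finset.sum_range_one, pow_zero,
    pow_one, Nat.card_eq_fintype_card, pow_add, pow_one] at h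
  rw [frobK_apply, ← h]
  simp

theorem trace_eq (hK : Fintype.card K = Fintype.card F ^ 2) (w : K) :
    algebraMap F K (Algebra.trace F K w) = w + frobK F K w := by
  have h := FiniteField.algebraMap_trace_eq_sum_pow F K w
  rw [finrank_eq_two_of_card_sq hK, Finset.sum_range_succ, Finset.sum_range_one, pow_zero,
    pow_one, pow_one, Nat.card_eq_fintype_card] at h
  rw [h, frobK_apply]

/-- The conjugate root. -/
theorem conj_root (a b : F) (hab : ∀ z : F, z ^ 2 + a * z + b ≠ 0) (α : K)
    (hα : α ^ 2 + algebraMap F K a * α + algebraMap F K b = 0) :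
    (-α) + frobK F K (-α) = algebraMap F K a ∧ (-α) * frobK F K (-α) = algebraMap F K b ∧
      ∀ z : F, algebraMap F K z ≠ -α := by
  have hnot : ∀ z : F, algebraMap F K z ≠ α := by
    intro z hz
    apply hab z
    apply (algebraMap F K).injective
    rw [map_add, map_add, map_pow, map_mul, hz, map_zero]
    exact hα
  have h1 : (frobK F K α) ^ 2 + algebraMap F K a * frobK F K α + algebraMap F K b = 0 := by
    have := congrArg (frobK F K) hα
    simpa [map_add, map_mul, map_pow, frobK_algebraMap] using this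
  have h2 : (frobK F K α - α) * (frobK F K α + α + algebraMap F K a) = 0 := by
    linear_combination h1 - hα
  have h3 : frobK F K α - α ≠ 0 := by
    intro h
    obtain ⟨z, hz⟩ := fix_mem_range (F := F) α (by rw [← frobK_apply]; exact sub_eq_zero.mp h)
    exact hnot z hz
  have h4 : frobK F K α + α + algebraMap F K a = 0 := (mul_eq_zero.mp h2).resolve_left h3
  refine ⟨?_, ?_, ?_⟩
  · rw [map_neg]; linear_combination -h4
  · rw [map_neg]; linear_combination α * h4 - hα
  · intro z hz
    apply hnot (-z)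
    rw [map_neg, hz, neg_neg]

/-- The `F`-bilinear map `(u, v) ↦ ℓ (Σ u_i v_i^q)`. -/
noncomputable def hermB (m : ℕ) (ℓ : K →ₗ[F] F) : LinearMap.BilinMap F (Fin m → K) F :=
  LinearMap.mk₂ F (fun u v => ℓ (∑ i, u i * frobK F K (v i)))
    (by intro u u' v; simp only [Pi.add_apply, add_mul, Finset.sum_add_distrib, map_add])
    (by intro c u v; simp only [Pi.smul_apply, smul_mul_assoc, ← Finset.smul_sum, map_smul])
    (by intro u v v'; simp only [Pi.add_apply, map_add, mul_add, Finset.sum_add_distrib])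
    (by intro c u v; simp only [Pi.smul_apply, map_smul, mul_smul_comm, ← Finset.smul_sum])

theorem hermB_apply (m : ℕ) (ℓ : K →ₗ[F] F) (u v : Fin m → K) :
    hermB m ℓ u v = ℓ (∑ i, u i * frobK F K (v i)) := rfl

/-- The quadratic form `v ↦ ℓ (Σ v_i^(q+1))` over `F`. -/
noncomputable def hermQF (m : ℕ) (ℓ : K →ₗ[F] F) : QuadraticForm F (Fin m → K) :=
  (hermB m ℓ).toQuadraticMap

theorem hermQF_apply (m : ℕ) (ℓ : K →ₗ[F] F) (v : Fin m → K) :
    hermQF m ℓ v = ℓ (∑ i, v i * frobK F K (v i)) := by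
  unfold hermQF
  rw [LinearMap.BilinMap.toQuadraticMap_apply, hermB_apply]

theorem hermQF_polar (m : ℕ) (ℓ : K →ₗ[F] F) (u v : Fin m → K) :
    polar (hermQF m ℓ) u v = ℓ (∑ i, (u i * frobK F K (v i) + v i * frobK F K (u i))) := by
  unfold hermQF
  rw [LinearMap.BilinMap.polar_toQuadraticMap, hermB_apply, hermB_apply, ← map_add,
    ← Finset.sum_add_distrib]

theorem hermQF_polar_single (hK : Fintype.card K = Fintype.card F ^ 2) (m : ℕ) (ℓ : K →ₗ[F] F)
    (hℓ : ∀ c, ℓ (algebraMap F K c) = c) (u : Fin m → K) (i : Fin m) (c : K) :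
    polar (hermQF m ℓ) u (Pi.single i c) = Algebra.trace F K (u i * frobK F K c) := by
  rw [hermQF_polar, Finset.sum_eq_single i]
  · rw [Pi.single_eq_same]
    have h := trace_eq hK (u i * frobK F K c)
    rw [map_mul (frobK F K), frobK_frobK hK] at h
    rw [mul_comm c, ← h, hℓ]
  · intro j _ hj
    rw [Pi.single_eq_of_ne hj, map_zero, mul_zero, zero_mul, add_zero]
  · intro h; exact absurd (Finset.mem_univ _) h

theorem coord_eq_zero_of_polar (hK : Fintype.card K = Fintype.card F ^ 2) (m : ℕ) (ℓ : K →ₗ[F] F)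
    (hℓ : ∀ c, ℓ (algebraMap F K c) = c) (u : Fin m → K) (i : Fin m)
    (h : ∀ c : K, polar (hermQF m ℓ) u (Pi.single i c) = 0) : u i = 0 := by
  apply (traceForm_nondegenerate F K).1 (u i)
  intro y
  have := h ((frobK F K).symm y)
  rw [hermQF_polar_single hK m ℓ hℓ, AlgEquiv.apply_symm_apply] at this
  rw [Algebra.traceForm_apply]
  exact this

theorem hermQF_ndOn_top (hK : Fintype.card K = Fintype.card F ^ 2) (m : ℕ) (ℓ : K →ₗ[F] F)
    (hℓ : ∀ c, ℓ (algebraMap F K c) = c) : NdOn (hermQF m ℓ) ⊤ := by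
  intro w _ h
  funext i
  exact coord_eq_zero_of_polar hK m ℓ hℓ w i (fun c => h _ Submodule.mem_top)

theorem finrank_fun (hK : Fintype.card K = Fintype.card F ^ 2) (m : ℕ) :
    finrank F (Fin m → K) = 2 * m := by
  rw [Module.finrank_pi_fintype]
  simp [finrank_eq_two_of_card_sq hK, mul_comm]

/-- the parametrisation of a totally singular subspace -/
noncomputable def tsMap (r : ℕ) (ε : K) : (Fin r → K) →ₗ[F] (Fin (r + r) → K) where
  toFun z := Fin.append z (fun j => ε * z j)
  map_add' := by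
    intro z z'
    ext i
    refine Fin.addCases (fun j => ?_) (fun j => ?_) i
    · simp only [Fin.append_left, Pi.add_apply]
    · simp only [Fin.append_right, Pi.add_apply, mul_add]
  map_smul' := by
    intro c z
    ext i
    refine Fin.addCases (fun j => ?_) (fun j => ?_) i
    · simp only [Fin.append_left, Pi.smul_apply, RingHom.id_apply]
    · simp only [Fin.append_right, Pi.smul_apply, RingHom.id_apply, mul_smul_comm]

theorem tsMap_apply (r : ℕ) (ε : K) (z : Fin r → K) :
    tsMap (F := F) r ε z = Fin.append z (fun j => ε * z j) := rfl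

theorem tsMap_injective (r : ℕ) (ε : K) : Function.Injective (tsMap (F := F) r ε) := by
  intro z z' h
  funext j
  have := congrFun h (Fin.castAdd r j)
  simpa [tsMap_apply] using this

theorem hermQF_tsMap (r : ℕ) (ℓ : K →ₗ[F] F) (ε : K) (hε : ε * frobK F K ε = -1) (z : Fin r → K) :
    hermQF (r + r) ℓ (tsMap (F := F) r ε z) = 0 := by
  rw [hermQF_apply, Fin.sum_univ_add, tsMap_apply]
  simp only [Fin.append_left, Fin.append_right, map_mul]
  rw [← Finset.sum_add_distrib]
  have : ∀ j : Fin r, z j * frobK F K (z j) + ε * z j * (frobK F K ε * frobK F K (z j)) = 0 := by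
    intro j
    linear_combination (z j * frobK F K (z j)) * hε
  rw [Finset.sum_congr rfl (fun j _ => this j)]
  simp

theorem exists_hypFam_even (hK : Fintype.card K = Fintype.card F ^ 2) (r : ℕ) (ℓ : K →ₗ[F] F)
    (hℓ : ∀ c, ℓ (algebraMap F K c) = c) :
    ∃ e f : Fin (r + r) → (Fin (r + r) → K), HypFam (hermQF (r + r) ℓ) ⊤ e f := by
  obtain ⟨ε, hε⟩ := exists_norm_neg_one (F := F) hK
  apply hypFam_of_ts (hermQF (r + r) ℓ) (r + r) ⊤ (LinearMap.range (tsMap (F := F) r ε))
    (hermQF_ndOn_top hK _ ℓ hℓ)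
  · rw [finrank_top, finrank_fun hK]
  · exact le_top
  · rintro _ ⟨z, rfl⟩
    exact hermQF_tsMap r ℓ ε hε z
  · rw [LinearMap.finrank_range_of_inj (tsMap_injective r ε), finrank_fun hK]
    omega

theorem hermQF_GU (m : ℕ) (ℓ : K →ₗ[F] F) (g : ↥(Cfsg.GU m K (Fintype.card F))) (x : Fin m → K) :
    hermQF m ℓ (((g : GL (Fin m) K) : Matrix (Fin m) (Fin m) K) *ᵥ x) = hermQF m ℓ x := by
  rw [hermQF_apply, hermQF_apply]
  congr 1
  exact g.2 x x

theorem exists_retraction : ∃ ℓ : K →ₗ[F] F, ∀ c, ℓ (algebraMap F K c) = c := by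
  obtain ⟨ℓ, hℓ⟩ := LinearMap.exists_leftInverse_of_injective (Algebra.linearMap F K)
    (LinearMap.ker_eq_bot.mpr (algebraMap F K).injective)
  refine ⟨ℓ, fun c => ?_⟩
  have := LinearMap.congr_fun hℓ c
  simpa using this

/-- `GU_{2r}(q)` embeds in `O⁺_{4r}(q)`. -/
theorem gu_embeds_plus (hK : Fintype.card K = Fintype.card F ^ 2) (r : ℕ) :
    ∃ φ : ↥(Cfsg.GU (r + r) K (Fintype.card F)) →*
      ↥(Cfsg.isometryGroup F (Cfsg.quadFormPlus (r + r) F)), Function.Injective φ := by
  obtain ⟨ℓ, hℓ⟩ := exists_retraction (F := F) (K := K)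
  obtain ⟨e, f, H⟩ := exists_hypFam_even hK r ℓ hℓ
  obtain ⟨b, hb⟩ := plus_coords (hermQF (r + r) ℓ) e f H (by rw [finrank_fun hK])
  exact embed_of_basis_quad b (Cfsg.quadFormPlus (r + r) F) (fun x => hermQF (r + r) ℓ x) hb
    ((Units.coeHom (Matrix (Fin (r + r)) (Fin (r + r)) K)).comp
      (Cfsg.GU (r + r) K (Fintype.card F)).subtype)
    (fun g h hgh => Subtype.ext (Units.ext hgh))
    (fun g x => hermQF_GU (r + r) ℓ g x)

/-- appending a zero last coordinate -/
noncomputable def snocMap (n : ℕ) : (Fin n → K) →ₗ[F] (Fin (n + 1) → K) where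
  toFun v := Fin.snoc (α := fun _ => K) v 0
  map_add' := by
    intro z z'
    ext i
    refine Fin.lastCases ?_ (fun j => ?_) i
    · simp only [Fin.snoc_last, Pi.add_apply, add_zero]
    · simp only [Fin.snoc_castSucc, Pi.add_apply]
  map_smul' := by
    intro c z
    ext i
    refine Fin.lastCases ?_ (fun j => ?_) i
    · simp only [Fin.snoc_last, Pi.smul_apply, RingHom.id_apply, smul_zero]
    · simp only [Fin.snoc_castSucc, Pi.smul_apply, RingHom.id_apply]

theorem snocMap_last (n : ℕ) (v : Fin n → K) : snocMap (F := F) n v (Fin.last n) = 0 := by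
  simp [snocMap]

theorem snocMap_castSucc (n : ℕ) (v : Fin n → K) (j : Fin n) :
    snocMap (F := F) n v (Fin.castSucc j) = v j := by
  simp [snocMap]

theorem hermQF_snocMap (n : ℕ) (ℓ : K →ₗ[F] F) (v : Fin n → K) :
    hermQF (n + 1) ℓ (snocMap (F := F) n v) = hermQF n ℓ v := by
  rw [hermQF_apply, hermQF_apply, Fin.sum_univ_castSucc]
  simp only [snocMap_last, snocMap_castSucc, zero_mul, add_zero]

theorem polar_snocMap (n : ℕ) (ℓ : K →ₗ[F] F) (u v : Fin n → K) :
    polar (hermQF (n + 1) ℓ) (snocMap (F := F) n u) (snocMap (F := F) n v) = polar (hermQF n ℓ) u v := by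
  simp only [polar, ← map_add, hermQF_snocMap]

theorem polar_snocMap_single (hK : Fintype.card K = Fintype.card F ^ 2) (n : ℕ) (ℓ : K →ₗ[F] F)
    (hℓ : ∀ c, ℓ (algebraMap F K c) = c) (v : Fin n → K) (c : K) :
    polar (hermQF (n + 1) ℓ) (Pi.single (Fin.last n) c) (snocMap (F := F) n v) = 0 := by
  rw [polar_comm, hermQF_polar_single hK _ ℓ hℓ, snocMap_last, zero_mul, map_zero]

/-- `GU_{2r+1}(q)` embeds in `O⁻_{4r+2}(q)`. -/
theorem gu_embeds_minus (hK : Fintype.card K = Fintype.card F ^ 2) (r : ℕ) (a b : F)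
    (hab : ∀ z : F, z ^ 2 + a * z + b ≠ 0) (α : K)
    (hα : α ^ 2 + algebraMap F K a * α + algebraMap F K b = 0) :
    ∃ φ : ↥(Cfsg.GU (r + r + 1) K (Fintype.card F)) →*
      ↥(Cfsg.isometryGroup F (Cfsg.quadFormMinus (r + r) F a b)), Function.Injective φ := by
  obtain ⟨ℓ, hℓ⟩ := exists_retraction (F := F) (K := K)
  obtain ⟨e, f, H⟩ := exists_hypFam_even hK r ℓ hℓ
  obtain ⟨h1, h2, h3⟩ := conj_root a b hab α hα
  obtain ⟨β, hβ⟩ : ∃ β : K, β = -α := ⟨_, rfl⟩
  rw [← hβ] at h1 h2 h3
  obtain ⟨x, hx⟩ : ∃ x : Fin (r + r + 1) → K, x = Pi.single (Fin.last (r + r)) 1 := ⟨_, rfl⟩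
  obtain ⟨y, hy⟩ : ∃ y : Fin (r + r + 1) → K, y = Pi.single (Fin.last (r + r)) β := ⟨_, rfl⟩
  have H' : HypFam (hermQF (r + r + 1) ℓ) ⊤ (fun i => snocMap (F := F) (r + r) (e i))
      (fun i => snocMap (F := F) (r + r) (f i)) := by
    obtain ⟨-, H2, H3, H4⟩ := H
    refine ⟨fun i => ⟨Submodule.mem_top, Submodule.mem_top⟩, fun i => ?_, fun i j => ?_, fun i j => ?_⟩
    · rw [hermQF_snocMap, hermQF_snocMap]; exact H2 i
    · rw [polar_snocMap]; exact H3 i j
    · rw [polar_snocMap, polar_snocMap]; exact H4 i j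
  have hQsingle : ∀ c : K, hermQF (r + r + 1) ℓ (Pi.single (Fin.last (r + r)) c) = ℓ (c * frobK F K c) := by
    intro c
    rw [hermQF_apply, Finset.sum_eq_single (Fin.last (r + r))]
    · rw [Pi.single_eq_same]
    · intro j _ hj
      rw [Pi.single_eq_of_ne hj, zero_mul]
    · intro h; exact absurd (Finset.mem_univ _) h
  have hQx : hermQF (r + r + 1) ℓ x = 1 := by
    rw [hx, hQsingle, map_one, mul_one, ← map_one (algebraMap F K), hℓ]
  have hQy : hermQF (r + r + 1) ℓ y = b := by
    rw [hy, hQsingle, h2, hℓ]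
  have hxy : polar (hermQF (r + r + 1) ℓ) x y = a := by
    rw [hy, hermQF_polar_single hK _ ℓ hℓ, hx, Pi.single_eq_same, one_mul]
    apply (algebraMap F K).injective
    rw [trace_eq hK, frobK_frobK hK, add_comm, h1]
  have hli : LinearIndependent F ![x, y] := by
    rw [LinearIndependent.pair_iff]
    intro s t hst
    have h0 := congrFun hst (Fin.last (r + r))
    rw [hx, hy] at h0
    simp only [Pi.add_apply, Pi.smul_apply, Pi.single_eq_same, Pi.zero_apply] at h0
    rw [Algebra.smul_def, Algebra.smul_def, mul_one] at h0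
    have ht : t = 0 := by
      by_contra ht
      apply h3 (-(s / t))
      have ht' : algebraMap F K t ≠ 0 := fun h => ht ((map_eq_zero _).mp h)
      rw [map_neg, map_div₀]
      field_simp
      linear_combination -h0
    rw [ht, map_zero, zero_mul, add_zero] at h0
    exact ⟨(map_eq_zero _).mp h0, ht⟩
  obtain ⟨B, hB⟩ := minus_coords (hermQF (r + r + 1) ℓ) _ _ x y a b H' hli
    (fun i => by rw [hx]; exact polar_snocMap_single hK _ ℓ hℓ _ _)
    (fun i => by rw [hx]; exact polar_snocMap_single hK _ ℓ hℓ _ _)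
    (fun i => by rw [hy]; exact polar_snocMap_single hK _ ℓ hℓ _ _)
    (fun i => by rw [hy]; exact polar_snocMap_single hK _ ℓ hℓ _ _)
    hQx hxy hQy (by rw [finrank_fun hK]; ring)
  exact embed_of_basis_quad B (Cfsg.quadFormMinus (r + r) F a b) (fun x => hermQF (r + r + 1) ℓ x) hB
    ((Units.coeHom (Matrix (Fin (r + r + 1)) (Fin (r + r + 1)) K)).comp
      (Cfsg.GU (r + r + 1) K (Fintype.card F)).subtype)
    (fun g h hgh => Subtype.ext (Units.ext hgh))
    (fun g x => hermQF_GU (r + r + 1) ℓ g x)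

end field

end Cfsg.Agent.Lib.Helper15
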