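import Mathlib
import Cfsg.Agent.Lib.Helper15.StarPoly
import Cfsg.Agent.Lib.Helper15.SpReal
import Cfsg.Agent.Lib.Helper15.OrthReal
import Cfsg.Agent.Lib.Helper15.UnitaryQuad
import Cfsg.Agent.Lib.Helper14.FormCount
import Cfsg.Agent.Lib.Helper14.OrthMinus

set_option autoImplicit false

namespace Cfsg.Agent.Lib.Helper15.QuadReal

open Polynomial Module QuadraticMap
open scoped Matrix

universe u

section defs

variable {F : Type u} [Field F]

/-- `f` is the characteristic polynomial of a fixed-point-free isometry `T` with `T^N = 1` of some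
quadratic space with nondegenerate polar form -/
def QReal (N : ℕ) (f : F[X]) : Prop :=
  ∃ (W : Type u) (_ : AddCommGroup W) (_ : Module F W) (_ : FiniteDimensional F W)
    (T : W →ₗ[F] W) (Q : QuadraticForm F W),
    (polarBilin Q).Nondegenerate ∧ (∀ u, Q (T u) = Q u) ∧ T ^ N = 1 ∧ T.charpoly = f ∧
      ∀ v, T v = v → v = 0

lemma qReal_one (N : ℕ) : QReal N (1 : F[X]) := by
  refine ⟨PUnit, inferInstance, inferInstance, inferInstance, 0, 0, ?_, ?_, ?_, ?_, ?_⟩
  · constructor
    · intro u _; exact Subsingleton.elim _ _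
    · intro u _; exact Subsingleton.elim _ _
  · intro u; rfl
  · apply LinearMap.ext; intro x; exact Subsingleton.elim _ _
  · apply Polynomial.eq_one_of_monic_natDegree_zero (LinearMap.charpoly_monic _)
    rw [LinearMap.charpoly_natDegree, finrank_zero_of_subsingleton]
  · intro v _; exact Subsingleton.elim _ _

lemma nondegenerate_prod {W₁ W₂ : Type*} [AddCommGroup W₁] [Module F W₁] [AddCommGroup W₂]
    [Module F W₂] (Q₁ : QuadraticForm F W₁) (Q₂ : QuadraticForm F W₂)
    (h₁ : (polarBilin Q₁).Nondegenerate) (h₂ : (polarBilin Q₂).Nondegenerate) :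
    (polarBilin (Q₁.prod Q₂)).Nondegenerate := by
  constructor
  · intro x hx
    have h1 : x.1 = 0 := by
      apply h₁.1
      intro v
      have := hx (v, 0)
      rw [polarBilin_apply_apply, polar_prod] at this
      rw [polarBilin_apply_apply]
      simpa using this
    have h2 : x.2 = 0 := by
      apply h₂.1
      intro v
      have := hx (0, v)
      rw [polarBilin_apply_apply, polar_prod] at this
      rw [polarBilin_apply_apply]
      simpa using this
    exact Prod.ext h1 h2
  · intro x hx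
    have h1 : x.1 = 0 := by
      apply h₁.2
      intro v
      have := hx (v, 0)
      rw [polarBilin_apply_apply, polar_prod] at this
      rw [polarBilin_apply_apply]
      simpa using this
    have h2 : x.2 = 0 := by
      apply h₂.2
      intro v
      have := hx (0, v)
      rw [polarBilin_apply_apply, polar_prod] at this
      rw [polarBilin_apply_apply]
      simpa using this
    exact Prod.ext h1 h2

lemma QReal.mul {N : ℕ} {f g : F[X]} (hf : QReal N f) (hg : QReal N g) :
    QReal N (f * g) := by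
  obtain ⟨W₁, _, _, _, T₁, Q₁, hn₁, hi₁, hp₁, hc₁, hf₁⟩ := hf
  obtain ⟨W₂, _, _, _, T₂, Q₂, hn₂, hi₂, hp₂, hc₂, hf₂⟩ := hg
  refine ⟨W₁ × W₂, inferInstance, inferInstance, inferInstance, T₁.prodMap T₂, Q₁.prod Q₂,
    nondegenerate_prod Q₁ Q₂ hn₁ hn₂, ?_, ?_, ?_, ?_⟩
  · intro x
    show Q₁ (T₁ x.1) + Q₂ (T₂ x.2) = Q₁ x.1 + Q₂ x.2
    rw [hi₁, hi₂]
  · rw [SpReal.prodMap_pow', hp₁, hp₂, LinearMap.prodMap_one]
  · rw [LinearMap.charpoly_prodMap, hc₁, hc₂]
  · intro v hv
    have h1 : T₁ v.1 = v.1 := congrArg Prod.fst hv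
    have h2 : T₂ v.2 = v.2 := congrArg Prod.snd hv
    exact Prod.ext (hf₁ _ h1) (hf₂ _ h2)

lemma QReal.pow {N : ℕ} {f : F[X]} (hf : QReal N f) (k : ℕ) : QReal N (f ^ k) := by
  induction k with
  | zero => rw [pow_zero]; exact qReal_one N
  | succ k ih => rw [pow_succ]; exact ih.mul hf

lemma QReal.prod {N : ℕ} {ι : Type*} (s : Finset ι) (f : ι → F[X])
    (hf : ∀ i ∈ s, QReal N (f i)) : QReal N (∏ i ∈ s, f i) :=
  Finset.prod_induction f (QReal N) (fun _ _ ha hb => ha.mul hb) (qReal_one N) hf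

end defs

section selfdual

variable {F : Type u} [Field F] [Finite F]

/-- a self-reciprocal irreducible polynomial whose root `ζ` satisfies `ζ^N = 1`, `ζ² ≠ 1`, is the
characteristic polynomial of a fixed-point-free isometry of a quadratic space
(`Q(u) = Tr(θ u ū)` with `θ + θ̄ = 1`) -/
theorem qReal_selfdual (p : ℕ) [Fact p.Prime] [CharP F p] (N : ℕ) (h : F[X]) (hm : h.Monic)
    (hirr : Irreducible h) (hstar : StarPoly.star (RingHom.id F) h = h)
    (hdvd : h ∣ X ^ N - 1) (hndvd : ¬ h ∣ X ^ 2 - 1) : QReal N h := by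
  have : Fact (Irreducible h) := ⟨hirr⟩
  have : Module.Finite F (AdjoinRoot h) := (AdjoinRoot.powerBasis hirr.ne_zero).finite
  have : CharP (AdjoinRoot h) p :=
    charP_of_injective_algebraMap (algebraMap F (AdjoinRoot h)).injective p
  obtain ⟨ζ, hζ⟩ : ∃ ζ : AdjoinRoot h, ζ = AdjoinRoot.root h := ⟨_, rfl⟩
  have hζ0 : aeval ζ h = 0 := by
    rw [hζ, AdjoinRoot.aeval_eq, AdjoinRoot.mk_self]
  have hζN : ζ ^ N = 1 := by
    obtain ⟨g, hg⟩ := hdvd
    have := congrArg (aeval ζ) hg
    rw [map_mul, hζ0, zero_mul, map_sub, map_pow, aeval_X, map_one, sub_eq_zero] at this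
    exact this
  have hζ2 : ζ ^ 2 ≠ 1 := by
    intro h2
    apply hndvd
    have h3 : aeval ζ (X ^ 2 - 1 : F[X]) = 0 := by
      rw [map_sub, map_pow, aeval_X, map_one, h2, sub_self]
    have h4 := minpoly.dvd F ζ h3
    rw [hζ, AdjoinRoot.minpoly_root hirr.ne_zero, hm.leadingCoeff, inv_one, C_1, mul_one] at h4
    exact h4
  have hc0 : h.coeff 0 ≠ 0 := by
    intro hc
    have : StarPoly.star (RingHom.id F) h = 0 := by
      unfold StarPoly.star
      rw [Polynomial.map_id, hc, inv_zero, C_0, zero_mul]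
    rw [hstar] at this
    exact hirr.ne_zero this
  have hζne : ζ ≠ 0 := by
    intro h0
    apply hc0
    rw [coeff_zero_eq_eval_zero]
    have h1 : aeval (algebraMap F (AdjoinRoot h) 0) h = 0 := by
      rw [map_zero]
      rw [h0] at hζ0
      exact hζ0
    rw [aeval_algebraMap_apply_eq_algebraMap_eval] at h1
    exact (map_eq_zero_iff _ (algebraMap F (AdjoinRoot h)).injective).1 h1
  have hroot : aeval (ζ⁻¹) h = 0 := by
    have := StarPoly.star_root p 0 (RingHom.id F) (L := AdjoinRoot h)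
      (fun c => by rw [pow_zero, pow_one]; rfl) h ζ hζne hζ0
    rw [pow_zero, pow_one, hstar] at this
    exact this
  let ι : AdjoinRoot h →ₐ[F] AdjoinRoot h :=
    AdjoinRoot.liftAlgHom h (Algebra.ofId F _) ζ⁻¹ (by rw [aeval_def] at hroot; exact hroot)
  have hιζ : ι ζ = ζ⁻¹ := by
    have h1 : ι (AdjoinRoot.root h) = ζ⁻¹ := AdjoinRoot.liftAlgHom_root h _ _ _
    rw [hζ]
    rw [hζ] at h1
    exact h1
  have hιι : ι.comp ι = AlgHom.id F _ := by
    apply AdjoinRoot.algHom_ext
    rw [AlgHom.comp_apply, ← hζ, hιζ, map_inv₀, hιζ, inv_inv]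
    rfl
  have hιι' : ∀ x, ι (ι x) = x := fun x => by
    have := congrArg (fun φ : AdjoinRoot h →ₐ[F] AdjoinRoot h => φ x) hιι
    exact this
  let ιe : AdjoinRoot h ≃ₐ[F] AdjoinRoot h := AlgEquiv.ofAlgHom ι ι hιι hιι
  have htr : ∀ x, Algebra.trace F (AdjoinRoot h) (ι x) = Algebra.trace F (AdjoinRoot h) x :=
    fun x => Algebra.trace_eq_of_algEquiv ιe x
  obtain ⟨c, hc⟩ : ∃ c : AdjoinRoot h, c = ζ - ζ⁻¹ := ⟨_, rfl⟩
  have hcne : c ≠ 0 := by
    intro h0
    apply hζ2
    rw [hc, sub_eq_zero] at h0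
    have : ζ * ζ = ζ * ζ⁻¹ := by rw [← h0]
    rw [mul_inv_cancel₀ hζne, ← _root_.sq] at this
    exact this
  have hιc : ι c = -c := by
    rw [hc, map_sub, hιζ, map_inv₀, hιζ, inv_inv]
    ring
  obtain ⟨θ, hθ⟩ : ∃ θ : AdjoinRoot h, θ = ζ * c⁻¹ := ⟨_, rfl⟩
  have hθθ : θ + ι θ = 1 := by
    rw [hθ, map_mul, map_inv₀, hιc, hιζ, inv_neg]
    have : ζ * c⁻¹ + ζ⁻¹ * -c⁻¹ = (ζ - ζ⁻¹) * c⁻¹ := by ring
    rw [this, ← hc, mul_inv_cancel₀ hcne]
  let β : LinearMap.BilinForm F (AdjoinRoot h) :=
    LinearMap.mk₂ F (fun u v => Algebra.trace F (AdjoinRoot h) (θ * u * ι v))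
      (by intro x x' y; rw [mul_add, add_mul, map_add])
      (by intro a x y; rw [Algebra.mul_smul_comm, Algebra.smul_mul_assoc, map_smul])
      (by intro x y y'; rw [map_add, mul_add, map_add])
      (by intro a x y; rw [map_smul, Algebra.mul_smul_comm, map_smul])
  have hβ : ∀ u v, β u v = Algebra.trace F (AdjoinRoot h) (θ * u * ι v) := fun u v => rfl
  let Q : QuadraticForm F (AdjoinRoot h) := LinearMap.BilinMap.toQuadraticMap β
  have hQ : ∀ v, Q v = Algebra.trace F (AdjoinRoot h) (θ * v * ι v) := fun v => rfl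
  have hpolar : ∀ u v, polar Q u v = Algebra.trace F (AdjoinRoot h) (u * ι v) := by
    intro u v
    rw [LinearMap.BilinMap.polar_toQuadraticMap, hβ, hβ, ← htr (θ * v * ι u)]
    have : ι (θ * v * ι u) = ι θ * u * ι v := by
      rw [map_mul, map_mul, hιι']
      ring
    rw [this, ← map_add]
    have : θ * u * ι v + ι θ * u * ι v = (θ + ι θ) * (u * ι v) := by ring
    rw [this, hθθ, one_mul]
  refine ⟨AdjoinRoot h, inferInstance, inferInstance, inferInstance,
    Algebra.lmul F (AdjoinRoot h) ζ, Q, ?_, ?_, ?_, ?_, ?_⟩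
  · constructor
    · intro u hu
      have h1 : ∀ y, Algebra.traceForm F (AdjoinRoot h) u y = 0 := by
        intro y
        have := hu (ι y)
        rw [polarBilin_apply_apply, hpolar, hιι'] at this
        rw [Algebra.traceForm_apply]
        exact this
      exact (traceForm_nondegenerate F (AdjoinRoot h)).1 u h1
    · intro u hu
      have h1 : ∀ y, Algebra.traceForm F (AdjoinRoot h) (ι u) y = 0 := by
        intro y
        have := hu y
        rw [polarBilin_apply_apply, hpolar, mul_comm] at this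
        rw [Algebra.traceForm_apply]
        exact this
      have h2 := (traceForm_nondegenerate F (AdjoinRoot h)).1 (ι u) h1
      have h3 := congrArg ι h2
      rw [hιι', map_zero] at h3
      exact h3
  · intro u
    rw [hQ, hQ]
    show Algebra.trace F (AdjoinRoot h) (θ * (ζ * u) * ι (ζ * u)) = _
    rw [map_mul ι, hιζ]
    have : θ * (ζ * u) * (ζ⁻¹ * ι u) = (ζ * ζ⁻¹) * (θ * u * ι u) := by ring
    rw [this, mul_inv_cancel₀ hζne, one_mul]
  · rw [← map_pow, hζN, map_one]
  · have h1 : (Algebra.leftMulMatrix (AdjoinRoot.powerBasis hirr.ne_zero).basis ζ).charpoly =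
        minpoly F ζ := by
      have := charpoly_leftMulMatrix (AdjoinRoot.powerBasis hirr.ne_zero)
      rw [AdjoinRoot.powerBasis_gen, ← hζ] at this
      exact this
    rw [Algebra.leftMulMatrix_apply, LinearMap.charpoly_toMatrix] at h1
    rw [h1, hζ, AdjoinRoot.minpoly_root hirr.ne_zero, hm.leadingCoeff, inv_one, C_1, mul_one]
  · intro v hv
    have h1 : ζ * v = v := hv
    have h2 : (ζ - 1) * v = 0 := by rw [sub_mul, one_mul, h1, sub_self]
    rcases mul_eq_zero.1 h2 with h3 | h3
    · exfalso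
      apply hζ2
      rw [sub_eq_zero.1 h3, one_pow]
    · exact h3

end selfdual


section fixed

variable {F : Type u} [Field F]

/-- a nonzero fixed vector forces `1` to be a root of the characteristic polynomial -/
lemma eval_one_charpoly_of_fixed {n : Type*} [Fintype n] [DecidableEq n] (A : Matrix n n F)
    (v : n → F) (hv : v ≠ 0) (hA : A *ᵥ v = v) : A.charpoly.eval 1 = 0 := by
  have h1 : (1 - A) *ᵥ v = 0 := by rw [Matrix.sub_mulVec, Matrix.one_mulVec, hA, sub_self]
  have h2 : (1 - A).det = 0 := Matrix.exists_mulVec_eq_zero_iff.1 ⟨v, hv, h1⟩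
  rw [Matrix.eval_charpoly, map_one]
  exact h2

/-- the hyperbolic realisation: `diag(C, C⁻ᵀ)` on `Fⁿ × Fⁿ` with `Q(x, y) = x ⬝ y` -/
theorem qReal_hyperbolic (N d : ℕ) (C Ci : Matrix (Fin d) (Fin d) F) (h1 : C * Ci = 1)
    (hN : C ^ N = 1) (hfix : C.charpoly.eval 1 ≠ 0) :
    QReal N (C.charpoly * StarPoly.star (RingHom.id F) C.charpoly) := by
  have h2 : Ci * C = 1 := mul_eq_one_comm.1 h1
  let β : LinearMap.BilinForm F ((Fin d → F) × (Fin d → F)) :=
    LinearMap.mk₂ F (fun x y => x.1 ⬝ᵥ y.2)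
      (by intro x x' y; simp only [Prod.fst_add, add_dotProduct])
      (by intro c x y; simp only [Prod.smul_fst, smul_dotProduct])
      (by intro x y y'; simp only [Prod.snd_add, dotProduct_add])
      (by intro c x y; simp only [Prod.smul_snd, dotProduct_smul])
  have hβ : ∀ x y, β x y = x.1 ⬝ᵥ y.2 := fun x y => rfl
  let Q : QuadraticForm F ((Fin d → F) × (Fin d → F)) := LinearMap.BilinMap.toQuadraticMap β
  have hQ : ∀ v, Q v = v.1 ⬝ᵥ v.2 := fun v => rfl
  have hpolar : ∀ u v, polar Q u v = u.1 ⬝ᵥ v.2 + v.1 ⬝ᵥ u.2 := by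
    intro u v
    rw [LinearMap.BilinMap.polar_toQuadraticMap, hβ, hβ]
  have hCiN : (Ciᵀ) ^ N = 1 := by
    have h3 : Ci ^ N = 1 := by
      have : (C * Ci) ^ N = C ^ N * Ci ^ N := (Commute.mul_pow (by
        show C * Ci = Ci * C
        rw [h1, h2]) N)
      rw [h1, one_pow, hN, one_mul] at this
      exact this.symm
    rw [← Matrix.transpose_pow, h3, Matrix.transpose_one]
  have key : ∀ x : (Fin d → F) × (Fin d → F), (∀ y, polar Q x y = 0) → x = 0 := by
    intro x hx
    have hx1 : x.1 = 0 := by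
      funext j
      have := hx (0, Pi.single j 1)
      rw [hpolar] at this
      simpa using this
    have hx2 : x.2 = 0 := by
      funext j
      have := hx (Pi.single j 1, 0)
      rw [hpolar] at this
      simpa using this
    exact Prod.ext hx1 hx2
  refine ⟨(Fin d → F) × (Fin d → F), inferInstance, inferInstance, inferInstance,
    (Matrix.toLin' C).prodMap (Matrix.toLin' Ciᵀ), Q, ?_, ?_, ?_, ?_, ?_⟩
  · constructor
    · intro x hx
      exact key x (fun y => by have := hx y; rwa [polarBilin_apply_apply] at this)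
    · intro y hy
      exact key y (fun x => by have := hy x; rwa [polarBilin_apply_apply, polar_comm] at this)
  · intro x
    rw [hQ, hQ]
    show (C *ᵥ x.1) ⬝ᵥ (Ciᵀ *ᵥ x.2) = _
    rw [AltGlue.dot_mulVec', ← Matrix.transpose_mul, h2, Matrix.transpose_one, Matrix.one_mulVec]
  · rw [SpReal.prodMap_pow', ← Matrix.toLin'_pow, ← Matrix.toLin'_pow, hN, hCiN, Matrix.toLin'_one]
    exact LinearMap.prodMap_one
  · rw [LinearMap.charpoly_prodMap, Matrix.charpoly_toLin', Matrix.charpoly_toLin',
      SpReal.charpoly_invT C Ci h1]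
  · intro v hv
    have hv1 : C *ᵥ v.1 = v.1 := congrArg Prod.fst hv
    have hv2 : Ciᵀ *ᵥ v.2 = v.2 := congrArg Prod.snd hv
    have h3 : v.1 = 0 := by
      by_contra hne
      exact hfix (eval_one_charpoly_of_fixed C v.1 hne hv1)
    have h4 : v.2 = 0 := by
      by_contra hne
      apply hfix
      rw [← Matrix.charpoly_transpose]
      apply eval_one_charpoly_of_fixed Cᵀ v.2 hne
      have : Cᵀ *ᵥ (Ciᵀ *ᵥ v.2) = Cᵀ *ᵥ v.2 := by rw [hv2]
      rw [Matrix.mulVec_mulVec, ← Matrix.transpose_mul, h2, Matrix.transpose_one,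
        Matrix.one_mulVec] at this
      exact this.symm
    exact Prod.ext h3 h4

end fixed

section orbit

variable {F : Type u} [Field F]

/-- a fixed-point-free isometry of prime order `r` permutes each nonzero level set in orbits of
size `r` -/
theorem dvd_card_level {W : Type*} [AddCommGroup W] [Module F W] [Finite W]
    (Q : QuadraticForm F W) (T : W →ₗ[F] W) (r : ℕ) (hr : r.Prime) (hT : T ^ r = 1)
    (hinv : ∀ u, Q (T u) = Q u) (hfix : ∀ v, T v = v → v = 0) (c : F) (hc : c ≠ 0) :
    r ∣ Nat.card {v : W // Q v = c} := by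
  classical
  have : Fact r.Prime := ⟨hr⟩
  have : Fintype W := Fintype.ofFinite W
  let f : Function.End {v : W // Q v = c} := fun v => ⟨T v.1, by rw [hinv]; exact v.2⟩
  have hfk : ∀ (k : ℕ) (v : {v : W // Q v = c}), ((f ^ k) v).1 = (T ^ k) v.1 := by
    intro k
    induction k with
    | zero => intro v; rfl
    | succ k ih =>
      intro v
      rw [pow_succ', pow_succ']
      show T ((f ^ k) v).1 = T ((T ^ k) v.1)
      rw [ih]
  have hf : f ^ r ^ 1 = 1 := by
    funext v
    apply Subtype.ext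
    rw [pow_one, hfk, hT]
    rfl
  have h1 := Equiv.Perm.card_fixedPoints_modEq hf
  have h2 : Fintype.card (Function.fixedPoints f) = 0 := by
    rw [Fintype.card_eq_zero_iff]
    constructor
    rintro ⟨v, hv⟩
    have h3 : T v.1 = v.1 := congrArg Subtype.val hv
    have h4 := hfix _ h3
    have h5 := v.2
    rw [h4, QuadraticMap.map_zero] at h5
    exact hc h5.symm
  rw [h2] at h1
  rw [Nat.card_eq_fintype_card]
  exact (Nat.modEq_zero_iff_dvd).1 h1

end orbit

section transport

variable {F : Type u} [Field F]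

/-- transporting an isometry of an abstract space to a matrix preserving the coordinate form -/
theorem exists_matrix_of_model {ι : Type} [Fintype ι] [DecidableEq ι] {W : Type*} [AddCommGroup W]
    [Module F W] [FiniteDimensional F W] (Q : W → F) (Qf : (ι → F) → F) (b : Basis ι F W)
    (hb : ∀ v, Qf (b.equivFun v) = Q v) (T : W →ₗ[F] W) (hinv : ∀ u, Q (T u) = Q u) (N : ℕ)
    (hN : T ^ N = 1) :
    ∃ B : Matrix ι ι F, (∀ u, Qf (B *ᵥ u) = Qf u) ∧ B.charpoly = T.charpoly ∧ B ^ N = 1 := by
  let E : W ≃ₗ[F] (ι → F) := b.equivFun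
  have hE : ∀ x, Qf (E x) = Q x := hb
  let S : (ι → F) →ₗ[F] (ι → F) := E.conj T
  have hS : ∀ u, S u = E (T (E.symm u)) := by
    intro u
    show (E.conj T) u = _
    rw [LinearEquiv.conj_apply]
    rfl
  refine ⟨LinearMap.toMatrix' S, ?_, ?_, ?_⟩
  · intro u
    have h1 : (LinearMap.toMatrix' S) *ᵥ u = E (T (E.symm u)) := by
      rw [← Matrix.toLin'_apply, Matrix.toLin'_toMatrix', hS]
    rw [h1, hE, hinv, ← hE, LinearEquiv.apply_symm_apply]
  · rw [← Matrix.charpoly_toLin', Matrix.toLin'_toMatrix']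
    show (E.conj T).charpoly = _
    rw [LinearEquiv.charpoly_conj]
  · have h1 : S ^ N = 1 := by
      show (E.conj T) ^ N = 1
      rw [SpReal.conj_pow', hN]
      apply LinearMap.ext
      intro v
      rw [LinearEquiv.conj_apply]
      simp
    have h2' : LinearMap.toMatrix' (S ^ N) = (LinearMap.toMatrix' S) ^ N := by
      have : ∀ X : (ι → F) →ₗ[F] (ι → F),
          LinearMap.toMatrix' X = LinearMap.toMatrixAlgEquiv' X := fun X => rfl
      rw [this, this, map_pow]
    rw [← h2', h1]
    exact LinearMap.toMatrix'_one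

end transport

end Cfsg.Agent.Lib.Helper15.QuadReal
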