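import Mathlib
import Cfsg.Agent.Lib.Helper15.QuadReal
import Cfsg.Agent.Lib.Helper15.WittBound

set_option autoImplicit false

namespace Cfsg.Agent.Lib.Helper15.QuadType

open Module QuadraticMap Cfsg.Agent.Lib.Helper15 Cfsg.Agent.Lib.Helper14
  Cfsg.Agent.Lib.Helper14.QuadExt Cfsg.Agent.Lib.Helper14.OrthMinus
open scoped Matrix

section hastype

variable {F : Type*} [Field F] [Fintype F]

/-- the level sets of `Q` have the sizes of those of a `2n`-dimensional quadratic space of type
`ε = ±1` over `F` (everything multiplied by `q` to avoid `q^(n-1)`) -/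
def HasType (ε : ℤ) (n : ℕ) {W : Type*} (Q : W → F) : Prop :=
  ((Fintype.card F : ℤ) * (Nat.card {v : W // Q v = 0} : ℤ) =
    (Fintype.card F : ℤ) ^ (2 * n) - ε * (Fintype.card F : ℤ) ^ n +
      ε * (Fintype.card F : ℤ) ^ (n + 1)) ∧
  ∀ c : F, c ≠ 0 → (Fintype.card F : ℤ) * (Nat.card {v : W // Q v = c} : ℤ) =
    (Fintype.card F : ℤ) ^ (2 * n) - ε * (Fintype.card F : ℤ) ^ n

theorem HasType.apply [DecidableEq F] {ε : ℤ} {n : ℕ} {W : Type*} {Q : W → F}
    (h : HasType ε n Q) (c : F) :
    (Fintype.card F : ℤ) * (Nat.card {v : W // Q v = c} : ℤ) =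
      (Fintype.card F : ℤ) ^ (2 * n) - ε * (Fintype.card F : ℤ) ^ n +
        (if c = 0 then ε * (Fintype.card F : ℤ) ^ (n + 1) else 0) := by
  by_cases hc : c = 0
  · rw [if_pos hc, hc]
    exact h.1
  · rw [if_neg hc, add_zero]
    exact h.2 c hc

theorem hasType_of_apply [DecidableEq F] {ε : ℤ} {n : ℕ} {W : Type*} {Q : W → F}
    (h : ∀ c : F, (Fintype.card F : ℤ) * (Nat.card {v : W // Q v = c} : ℤ) =
      (Fintype.card F : ℤ) ^ (2 * n) - ε * (Fintype.card F : ℤ) ^ n +
        (if c = 0 then ε * (Fintype.card F : ℤ) ^ (n + 1) else 0)) : HasType ε n Q := by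
  constructor
  · have := h 0
    rw [if_pos rfl] at this
    exact this
  · intro c hc
    have := h c
    rw [if_neg hc, add_zero] at this
    exact this

theorem HasType.congr {ε : ℤ} {n : ℕ} {W W' : Type*} {Q : W → F} {Q' : W' → F}
    (h : HasType ε n Q) (e : W ≃ W') (he : ∀ v, Q' (e v) = Q v) : HasType ε n Q' := by
  have key : ∀ c : F, Nat.card {v : W' // Q' v = c} = Nat.card {v : W // Q v = c} := by
    intro c
    symm
    apply Nat.card_congr
    refine Equiv.subtypeEquiv e ?_
    intro v
    rw [he]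
  constructor
  · rw [key]
    exact h.1
  · intro c hc
    rw [key]
    exact h.2 c hc

theorem HasType.unique {ε ε' : ℤ} {n : ℕ} {W : Type*} {Q : W → F}
    (h : HasType ε n Q) (h' : HasType ε' n Q) : ε = ε' := by
  have h1 := h.2 1 one_ne_zero
  have h2 := h'.2 1 one_ne_zero
  rw [h1] at h2
  have hq : (Fintype.card F : ℤ) ^ n ≠ 0 := by
    apply pow_ne_zero
    have : 0 < Fintype.card F := Fintype.card_pos
    exact_mod_cast this.ne'
  have h3 : (ε - ε') * (Fintype.card F : ℤ) ^ n = 0 := by linear_combination -h2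
  rcases mul_eq_zero.1 h3 with h4 | h4
  · exact sub_eq_zero.1 h4
  · exact absurd h4 hq

/-- the arithmetic consequence of a fixed-point-free isometry of prime order `r` -/
theorem HasType.zmod {ε : ℤ} {n : ℕ} {W : Type*} {Q : W → F} (h : HasType ε n Q) (r : ℕ)
    [Fact r.Prime] (hdvd : r ∣ Nat.card {v : W // Q v = 1}) (hq : ¬ r ∣ Fintype.card F) :
    ((Fintype.card F : ℕ) : ZMod r) ^ n = (ε : ZMod r) := by
  have h1 := h.2 1 one_ne_zero
  have h2 := congrArg (Int.cast : ℤ → ZMod r) h1
  have h3 : ((Nat.card {v : W // Q v = 1} : ℕ) : ZMod r) = 0 := by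
    rw [ZMod.natCast_eq_zero_iff]
    exact hdvd
  push_cast at h2
  rw [h3, mul_zero] at h2
  have hq0 : ((Fintype.card F : ℕ) : ZMod r) ≠ 0 := by
    rw [Ne, ZMod.natCast_eq_zero_iff]
    exact hq
  have h4 : ((Fintype.card F : ℕ) : ZMod r) ^ n *
      (((Fintype.card F : ℕ) : ZMod r) ^ n - (ε : ZMod r)) = 0 := by
    linear_combination -h2
  rcases mul_eq_zero.1 h4 with h5 | h5
  · exact absurd h5 (pow_ne_zero n hq0)
  · exact sub_eq_zero.1 h5

/-- convolution of level-set counts -/
theorem card_conv {A B : Type*} [Finite A] [Finite B] (f : A → F) (g : B → F) (c : F) :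
    Nat.card {p : A × B // f p.1 + g p.2 = c} =
      ∑ d : F, Nat.card {a // f a = d} * Nat.card {b // g b = c - d} := by
  have e : {p : A × B // f p.1 + g p.2 = c} ≃
      Σ d : F, {a // f a = d} × {b // g b = c - d} := by
    refine ⟨fun p => ⟨f p.1.1, ⟨p.1.1, rfl⟩, ⟨p.1.2, by have := p.2; linear_combination this⟩⟩,
      fun s => ⟨(s.2.1.1, s.2.2.1), by
        show f s.2.1.1 + g s.2.2.1 = c
        rw [s.2.1.2, s.2.2.2]; ring⟩, ?_, ?_⟩
    · intro p
      rfl
    · rintro ⟨d, ⟨a, rfl⟩, ⟨b, hb⟩⟩
      rfl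
  rw [Nat.card_congr e, Nat.card_sigma]
  apply Finset.sum_congr rfl
  intro d _
  rw [Nat.card_prod]

theorem HasType.prod {ε ε' : ℤ} {n k : ℕ} {W W' : Type*} [Finite W] [Finite W'] {Q : W → F}
    {Q' : W' → F} (h : HasType ε n Q) (h' : HasType ε' k Q') :
    HasType (ε * ε') (n + k) (fun p : W × W' => Q p.1 + Q' p.2) := by
  classical
  apply hasType_of_apply
  intro c
  have hq : (Fintype.card F : ℤ) ≠ 0 := by
    have : 0 < Fintype.card F := Fintype.card_pos
    exact_mod_cast this.ne'
  apply mul_left_cancel₀ hq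
  rw [card_conv]
  push_cast
  have h1 : (Fintype.card F : ℤ) * ((Fintype.card F : ℤ) *
      ∑ d : F, (Nat.card {a // Q a = d} : ℤ) * (Nat.card {b // Q' b = c - d} : ℤ)) =
      ∑ d : F, ((Fintype.card F : ℤ) * (Nat.card {a // Q a = d} : ℤ)) *
        ((Fintype.card F : ℤ) * (Nat.card {b // Q' b = c - d} : ℤ)) := by
    rw [Finset.mul_sum, Finset.mul_sum]
    apply Finset.sum_congr rfl
    intro d _
    ring
  rw [h1]
  have h2 : ∀ d : F, ((Fintype.card F : ℤ) * (Nat.card {a // Q a = d} : ℤ)) *
        ((Fintype.card F : ℤ) * (Nat.card {b // Q' b = c - d} : ℤ)) =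
      ((Fintype.card F : ℤ) ^ (2 * n) - ε * (Fintype.card F : ℤ) ^ n) *
        ((Fintype.card F : ℤ) ^ (2 * k) - ε' * (Fintype.card F : ℤ) ^ k) +
      (if d = c then ((Fintype.card F : ℤ) ^ (2 * n) - ε * (Fintype.card F : ℤ) ^ n) *
        (ε' * (Fintype.card F : ℤ) ^ (k + 1)) else 0) +
      (if d = 0 then (ε * (Fintype.card F : ℤ) ^ (n + 1)) *
        ((Fintype.card F : ℤ) ^ (2 * k) - ε' * (Fintype.card F : ℤ) ^ k) else 0) +
      (if d = 0 then (if c = 0 then (ε * (Fintype.card F : ℤ) ^ (n + 1)) *
        (ε' * (Fintype.card F : ℤ) ^ (k + 1)) else 0) else 0) := by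
    intro d
    rw [h.apply d, h'.apply (c - d)]
    by_cases hd : d = 0
    · by_cases hc : c = 0
      · have h3 : c - d = 0 := by rw [hd, hc, sub_zero]
        have h4 : d = c := by rw [hd, hc]
        rw [if_pos hd, if_pos h3, if_pos h4, if_pos hd, if_pos hd, if_pos hc]
        ring
      · have h3 : c - d ≠ 0 := by rw [hd, sub_zero]; exact hc
        have h4 : d ≠ c := by rw [hd]; exact fun h => hc h.symm
        rw [if_pos hd, if_neg h3, if_neg h4, if_pos hd, if_pos hd, if_neg hc]
        ring
    · by_cases hdc : d = c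
      · have h3 : c - d = 0 := by rw [hdc, sub_self]
        rw [if_neg hd, if_pos h3, if_pos hdc, if_neg hd, if_neg hd]
        ring
      · have h3 : c - d ≠ 0 := fun h => hdc (sub_eq_zero.1 h).symm
        rw [if_neg hd, if_neg h3, if_neg hdc, if_neg hd, if_neg hd]
        ring
  rw [Finset.sum_congr rfl (fun d _ => h2 d), Finset.sum_add_distrib, Finset.sum_add_distrib,
    Finset.sum_add_distrib, Finset.sum_const, Finset.sum_ite_eq', Finset.sum_ite_eq',
    Finset.sum_ite_eq', if_pos (Finset.mem_univ _), if_pos (Finset.mem_univ _),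
    if_pos (Finset.mem_univ _), Finset.card_univ, nsmul_eq_mul]
  by_cases hc : c = 0
  · rw [if_pos hc, if_pos hc]
    ring
  · rw [if_neg hc, if_neg hc]
    ring

end hastype


section std

variable {F : Type*} [Field F] [Fintype F]

theorem hasType_plus (m : ℕ) : HasType 1 m (Cfsg.quadFormPlus m F) := by
  classical
  have hq : 1 ≤ Fintype.card F := Fintype.card_pos
  have key : ∀ c : F, Nat.card {v : Fin m ⊕ Fin m → F // Cfsg.quadFormPlus m F v = c} =
      (if c = 0 then Fintype.card F ^ m else 0) +
        (Fintype.card F ^ m - 1) * Fintype.card F ^ (m - 1) := fun c => natCard_plus m c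
  constructor
  · rw [key, if_pos rfl]
    rcases Nat.eq_zero_or_pos m with rfl | hm
    · simp
    · obtain ⟨k, rfl⟩ : ∃ k, m = k + 1 := ⟨m - 1, by omega⟩
      have h1 : 1 ≤ Fintype.card F ^ (k + 1) := Nat.one_le_pow _ _ hq
      simp only [Nat.add_sub_cancel]
      push_cast [Nat.cast_sub h1]
      ring
  · intro c hc
    rw [key, if_neg hc, zero_add]
    rcases Nat.eq_zero_or_pos m with rfl | hm
    · simp
    · obtain ⟨k, rfl⟩ : ∃ k, m = k + 1 := ⟨m - 1, by omega⟩
      have h1 : 1 ≤ Fintype.card F ^ (k + 1) := Nat.one_le_pow _ _ hq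
      simp only [Nat.add_sub_cancel]
      push_cast [Nat.cast_sub h1]
      ring

theorem hasType_minus {a b : F} (hab : Aniso a b) (n : ℕ) :
    HasType (-1) (n + 1) (Cfsg.quadFormMinus n F a b) := by
  classical
  have hq : 1 ≤ Fintype.card F := Fintype.card_pos
  have h1 : 1 ≤ Fintype.card F ^ n := Nat.one_le_pow _ _ hq
  constructor
  · rw [minus_card_zero hab n]
    push_cast [Nat.cast_sub h1]
    ring
  · intro c hc
    rw [minus_card_ne hab n c hc]
    push_cast [Nat.cast_sub h1]
    ring

omit [Fintype F] in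
theorem plusQF_nondegenerate (m : ℕ) : (polarBilin (plusQF m (F := F))).Nondegenerate := by
  classical
  have key : ∀ x : Fin m ⊕ Fin m → F, (∀ y, polar (plusQF m (F := F)) x y = 0) → x = 0 := by
    intro x hx
    funext k
    rcases k with j | j
    · have := hx (Pi.single (Sum.inr j) 1)
      rw [polar_plusQF'] at this
      simpa [Pi.single_apply] using this
    · have := hx (Pi.single (Sum.inl j) 1)
      rw [polar_plusQF'] at this
      simpa [Pi.single_apply] using this
  constructor
  · intro x hx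
    exact key x (fun y => by have := hx y; rwa [polarBilin_apply_apply] at this)
  · intro y hy
    exact key y (fun x => by have := hy x; rwa [polarBilin_apply_apply, polar_comm] at this)

omit [Fintype F] in
theorem minusQFab_nondegenerate (k : ℕ) (a c : F) (hD : a ^ 2 - 4 * c ≠ 0) :
    (polarBilin (minusQFab k a c)).Nondegenerate := by
  classical
  have key : ∀ x : (Fin k ⊕ Fin k) ⊕ Fin 2 → F, (∀ y, polar (minusQFab k a c) x y = 0) → x = 0 := by
    intro x hx
    have h0 := hx (Pi.single (Sum.inr 0) 1)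
    have h1 := hx (Pi.single (Sum.inr 1) 1)
    rw [polar_minusQFab] at h0 h1
    simp [dotProduct] at h0 h1
    have e1 : (a ^ 2 - 4 * c) * x (Sum.inr 1) = 0 := by linear_combination a * h0 - 2 * h1
    have e0 : (a ^ 2 - 4 * c) * x (Sum.inr 0) = 0 := by
      linear_combination (-2 * c) * h0 + a * h1
    have u1 : x (Sum.inr 1) = 0 := (mul_eq_zero.mp e1).resolve_left hD
    have u0 : x (Sum.inr 0) = 0 := (mul_eq_zero.mp e0).resolve_left hD
    funext i
    rcases i with (j | j) | j
    · have := hx (Pi.single (Sum.inl (Sum.inr j)) 1)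
      rw [polar_minusQFab] at this
      simpa [dotProduct, Pi.single_apply] using this
    · have := hx (Pi.single (Sum.inl (Sum.inl j)) 1)
      rw [polar_minusQFab] at this
      simpa [dotProduct, Pi.single_apply] using this
    · fin_cases j
      · exact u0
      · exact u1
  constructor
  · intro x hx
    exact key x (fun y => by have := hx y; rwa [polarBilin_apply_apply] at this)
  · intro y hy
    exact key y (fun x => by have := hy x; rwa [polarBilin_apply_apply, polar_comm] at this)

theorem exists_aniso : ∃ a c : F, Aniso a c := by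
  have h1 : ¬ Function.Injective (fun t : F => t ^ 2 + t) := by
    intro hinj
    have h2 : (fun t : F => t ^ 2 + t) 0 = (fun t : F => t ^ 2 + t) (-1) := by
      show (0 : F) ^ 2 + 0 = (-1) ^ 2 + -1
      ring
    have h3 := hinj h2
    have : (1 : F) = 0 := by linear_combination h3
    exact one_ne_zero this
  have h2 : ¬ Function.Surjective (fun t : F => t ^ 2 + t) :=
    fun hs => h1 (Finite.injective_iff_surjective.2 hs)
  rw [Function.Surjective] at h2
  push Not at h2
  obtain ⟨z, hz⟩ := h2
  refine ⟨1, -z, aniso_of_noroot (-z) ?_⟩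
  intro t ht
  apply hz t
  show t ^ 2 + t = z
  linear_combination ht

end std


section classify

variable {F : Type*} [Field F] [Fintype F] {V : Type*} [AddCommGroup V] [Module F V]
  [FiniteDimensional F V]

/-- every nondegenerate quadratic space of dimension `2(k+1)` over a finite field is, in suitable
coordinates, the standard plus form or the standard minus form with any prescribed anisotropic
binary part -/
theorem classify (Q : QuadraticForm F V) (hnd : (polarBilin Q).Nondegenerate) (k : ℕ)
    (hdim : finrank F V = 2 * (k + 1)) {a c : F} (hac : Aniso a c) :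
    (∃ b : Basis (Fin (k + 1) ⊕ Fin (k + 1)) F V,
      ∀ v, Cfsg.quadFormPlus (k + 1) F (b.equivFun v) = Q v) ∨
    (∃ b : Basis ((Fin k ⊕ Fin k) ⊕ Fin 2) F V,
      ∀ v, Cfsg.quadFormMinus k F a c (b.equivFun v) = Q v) := by
  rcases even_family Q k ⊤ (ndOn_top Q hnd) (by rw [finrank_top]; exact hdim) with
    ⟨e, f, H⟩ | ⟨e, f, x, y, ζ, H, -, -, hζ, horth, hQx, hxy, hQy, -⟩
  · left
    exact plus_coords Q e f H hdim
  · right
    have hβδ : Aniso 1 ζ := aniso_of_noroot ζ hζ
    obtain ⟨z0, hz0, -⟩ := exists_root hac hβδ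
    obtain ⟨s, t, hst⟩ : ∃ s t : F, z0 = ⟨s, t⟩ := ⟨z0.re, z0.im, rfl⟩
    rw [hst] at hz0
    obtain ⟨h1, h2⟩ := (root_iff hac s t).1 hz0
    obtain ⟨y', hy'⟩ : ∃ y' : V, y' = s • x + t • y := ⟨_, rfl⟩
    have hQy' : Q y' = c := by
      have : Q (s • x + t • y) = Q (s • x) + Q (t • y) + polar Q (s • x) (t • y) := by
        rw [polar]; ring
      rw [hy', this, QuadraticMap.map_smul, QuadraticMap.map_smul, polar_smul_left,
        polar_smul_right, hQx, hQy, hxy]
      simp only [smul_eq_mul]
      linear_combination h1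
    have hxy' : polar Q x y' = a := by
      rw [hy', polar_add_right, polar_smul_right, polar_smul_right, hxy, polar_self, hQx]
      simp only [smul_eq_mul]
      linear_combination h2
    have hli : LinearIndependent F ![x, y'] := by
      rw [LinearIndependent.pair_iff]
      intro α β hαβ
      have h3 : Q (α • x + β • y') = 0 := by rw [hαβ, QuadraticMap.map_zero]
      have : Q (α • x + β • y') = Q (α • x) + Q (β • y') + polar Q (α • x) (β • y') := by
        rw [polar]; ring
      rw [this, QuadraticMap.map_smul, QuadraticMap.map_smul, polar_smul_left,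
        polar_smul_right, hQx, hQy', hxy'] at h3
      simp only [smul_eq_mul] at h3
      exact hac α β (by linear_combination h3)
    have hy'e : ∀ i, polar Q y' (e i) = 0 := by
      intro i
      rw [hy', polar_add_left, polar_smul_left, polar_smul_left, (horth i).1.1, (horth i).2.1]
      simp
    have hy'f : ∀ i, polar Q y' (f i) = 0 := by
      intro i
      rw [hy', polar_add_left, polar_smul_left, polar_smul_left, (horth i).1.2, (horth i).2.2]
      simp
    exact minus_coords Q e f x y' a c H hli (fun i => (horth i).1.1) (fun i => (horth i).1.2)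
      hy'e hy'f hQx hxy' hQy' (by rw [hdim]; ring)

/-- every nondegenerate quadratic space of even dimension has a type -/
theorem hasType_of_nondeg (Q : QuadraticForm F V) (hnd : (polarBilin Q).Nondegenerate) (n : ℕ)
    (hdim : finrank F V = 2 * n) : ∃ ε : ℤ, (ε = 1 ∨ ε = -1) ∧ HasType ε n Q := by
  rcases Nat.eq_zero_or_pos n with rfl | hn
  · refine ⟨1, Or.inl rfl, ?_⟩
    rw [mul_zero] at hdim
    have hsub : Subsingleton V := Module.finrank_zero_iff.1 hdim
    constructor
    · have : Nat.card {v : V // Q v = 0} = 1 := by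
        rw [Nat.card_eq_one_iff_unique]
        refine ⟨⟨fun x y => Subtype.ext (Subsingleton.elim _ _)⟩, ⟨⟨0, QuadraticMap.map_zero Q⟩⟩⟩
      rw [this]
      simp
    · intro c hc
      have : Nat.card {v : V // Q v = c} = 0 := by
        rw [Nat.card_eq_zero]
        left
        constructor
        rintro ⟨v, hv⟩
        rw [Subsingleton.elim v 0, QuadraticMap.map_zero] at hv
        exact hc hv.symm
      rw [this]
      simp
  · obtain ⟨k, rfl⟩ : ∃ k, n = k + 1 := ⟨n - 1, by omega⟩
    obtain ⟨a, c, hac⟩ := exists_aniso (F := F)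
    rcases classify Q hnd k hdim hac with ⟨b, hb⟩ | ⟨b, hb⟩
    · refine ⟨1, Or.inl rfl, ?_⟩
      apply (hasType_plus (F := F) (k + 1)).congr b.equivFun.symm.toEquiv
      intro v
      show Q (b.equivFun.symm v) = _
      rw [← hb, LinearEquiv.apply_symm_apply]
    · refine ⟨-1, Or.inr rfl, ?_⟩
      apply (hasType_minus hac k).congr b.equivFun.symm.toEquiv
      intro v
      show Q (b.equivFun.symm v) = _
      rw [← hb, LinearEquiv.apply_symm_apply]

/-- the plus form is the only space of its type -/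
theorem univ_plus (Q : QuadraticForm F V) (hnd : (polarBilin Q).Nondegenerate) (m : ℕ)
    (hm : 1 ≤ m) (hdim : finrank F V = 2 * m) (ht : HasType 1 m Q) :
    ∃ b : Basis (Fin m ⊕ Fin m) F V, ∀ v, Cfsg.quadFormPlus m F (b.equivFun v) = Q v := by
  obtain ⟨k, rfl⟩ : ∃ k, m = k + 1 := ⟨m - 1, by omega⟩
  obtain ⟨a, c, hac⟩ := exists_aniso (F := F)
  rcases classify Q hnd k hdim hac with ⟨b, hb⟩ | ⟨b, hb⟩
  · exact ⟨b, hb⟩
  · exfalso
    have h1 : HasType (-1) (k + 1) Q := by
      apply (hasType_minus hac k).congr b.equivFun.symm.toEquiv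
      intro v
      show Q (b.equivFun.symm v) = _
      rw [← hb, LinearEquiv.apply_symm_apply]
    have := ht.unique h1
    omega

/-- the minus form is the only space of its type -/
theorem univ_minus (Q : QuadraticForm F V) (hnd : (polarBilin Q).Nondegenerate) (k : ℕ)
    (hdim : finrank F V = 2 * (k + 1)) (ht : HasType (-1) (k + 1) Q) {a c : F}
    (hac : Aniso a c) :
    ∃ b : Basis ((Fin k ⊕ Fin k) ⊕ Fin 2) F V,
      ∀ v, Cfsg.quadFormMinus k F a c (b.equivFun v) = Q v := by
  rcases classify Q hnd k hdim hac with ⟨b, hb⟩ | ⟨b, hb⟩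
  · exfalso
    have h1 : HasType 1 (k + 1) Q := by
      apply (hasType_plus (F := F) (k + 1)).congr b.equivFun.symm.toEquiv
      intro v
      show Q (b.equivFun.symm v) = _
      rw [← hb, LinearEquiv.apply_symm_apply]
    have := ht.unique h1
    omega
  · exact ⟨b, hb⟩

end classify

end Cfsg.Agent.Lib.Helper15.QuadType
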