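import Mathlib
import Cfsg.Agent.Lib.Helper6.GLBND

/-!
helper15: the symplectic group `SpG m F` inside `GL (Fin (m + m)) F` for the Gram matrix `Om`
(antidiagonal, basis order `e_1, …, e_m, f_m, …, f_1`); root elements and monomial elements.
-/

set_option autoImplicit false

namespace Cfsg.Agent.Lib.Helper15.SpBN

open Matrix Equiv Cfsg.Agent.Lib.Helper6.GLBN

variable {m : ℕ} {F : Type*} [Field F]

/-- the sign of a position -/
def eta (m : ℕ) (F : Type*) [Field F] (i : Fin (m + m)) : F := if i.val < m then -1 else 1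

lemma eta_rev (i : Fin (m + m)) : eta m F i.rev = - eta m F i := by
  unfold eta
  rw [Fin.val_rev]
  have := i.2
  by_cases h : i.val < m
  · rw [if_pos h, if_neg (by omega), neg_neg]
  · rw [if_neg h, if_pos (by omega)]

lemma eta_mul_self (i : Fin (m + m)) : eta m F i * eta m F i = 1 := by
  unfold eta
  split_ifs <;> simp

lemma eta_ne_zero (i : Fin (m + m)) : eta m F i ≠ 0 := by
  intro h
  have := eta_mul_self (F := F) i
  rw [h, mul_zero] at this
  exact zero_ne_one this

lemma rev_ne_self (i : Fin (m + m)) : i.rev ≠ i := by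
  intro h
  have h1 := congrArg Fin.val h
  rw [Fin.val_rev] at h1
  have := i.2
  omega

lemma eta_of_lt {i : Fin (m + m)} (h : i.val < m) : eta m F i = -1 := by
  unfold eta
  rw [if_pos h]

lemma eta_of_ge {i : Fin (m + m)} (h : m ≤ i.val) : eta m F i = 1 := by
  unfold eta
  rw [if_neg (by omega)]

/-- the Gram matrix -/
def Om (m : ℕ) (F : Type*) [Field F] : Matrix (Fin (m + m)) (Fin (m + m)) F :=
  Matrix.of fun i j => if j = i.rev then eta m F i else 0

lemma Om_apply (i j : Fin (m + m)) : Om m F i j = if j = i.rev then eta m F i else 0 := rfl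

lemma Om_mul_apply (A : Matrix (Fin (m + m)) (Fin (m + m)) F) (i j : Fin (m + m)) :
    (Om m F * A) i j = eta m F i * A i.rev j := by
  rw [Matrix.mul_apply, Finset.sum_eq_single i.rev]
  · rw [Om_apply, if_pos rfl]
  · intro k _ hk
    rw [Om_apply, if_neg hk, zero_mul]
  · intro h; exact absurd (Finset.mem_univ _) h

lemma mul_Om_apply (A : Matrix (Fin (m + m)) (Fin (m + m)) F) (i j : Fin (m + m)) :
    (A * Om m F) i j = A i j.rev * eta m F j.rev := by
  rw [Matrix.mul_apply, Finset.sum_eq_single j.rev]
  · rw [Om_apply, if_pos (Fin.rev_rev j).symm]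
  · intro k _ hk
    rw [Om_apply, if_neg, mul_zero]
    intro h
    apply hk
    rw [h, Fin.rev_rev]
  · intro h; exact absurd (Finset.mem_univ _) h

lemma Om_mul_Om : Om m F * Om m F = -1 := by
  ext i j
  rw [Om_mul_apply, Om_apply, Fin.rev_rev, Matrix.neg_apply, Matrix.one_apply]
  by_cases h : i = j
  · subst h
    rw [if_pos rfl, if_pos rfl, eta_rev, mul_neg, eta_mul_self]
  · rw [if_neg (Ne.symm h), if_neg h, mul_zero, neg_zero]

/-- the symplectic group of `Om`, as a subgroup of `GL` -/
def SpG (m : ℕ) (F : Type*) [Field F] : Subgroup (GL (Fin (m + m)) F) where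
  carrier := {g | (g : Matrix (Fin (m + m)) (Fin (m + m)) F) * Om m F *
    (g : Matrix (Fin (m + m)) (Fin (m + m)) F)ᵀ = Om m F}
  mul_mem' := by
    intro a b ha hb
    show ((a * b : GL (Fin (m + m)) F) : Matrix (Fin (m + m)) (Fin (m + m)) F) * Om m F *
      ((a * b : GL (Fin (m + m)) F) : Matrix (Fin (m + m)) (Fin (m + m)) F)ᵀ = Om m F
    have ha' : (a : Matrix (Fin (m + m)) (Fin (m + m)) F) * Om m F *
      (a : Matrix (Fin (m + m)) (Fin (m + m)) F)ᵀ = Om m F := ha
    have hb' : (b : Matrix (Fin (m + m)) (Fin (m + m)) F) * Om m F *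
      (b : Matrix (Fin (m + m)) (Fin (m + m)) F)ᵀ = Om m F := hb
    rw [Units.val_mul, Matrix.transpose_mul]
    calc (a : Matrix (Fin (m + m)) (Fin (m + m)) F) * b * Om m F *
          ((b : Matrix (Fin (m + m)) (Fin (m + m)) F)ᵀ * (a : Matrix (Fin (m + m)) (Fin (m + m)) F)ᵀ)
        = (a : Matrix (Fin (m + m)) (Fin (m + m)) F) * ((b : Matrix (Fin (m + m)) (Fin (m + m)) F) *
          Om m F * (b : Matrix (Fin (m + m)) (Fin (m + m)) F)ᵀ) *
          (a : Matrix (Fin (m + m)) (Fin (m + m)) F)ᵀ := by simp only [Matrix.mul_assoc]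
      _ = Om m F := by rw [hb', ha']
  one_mem' := by
    show ((1 : GL (Fin (m + m)) F) : Matrix (Fin (m + m)) (Fin (m + m)) F) * Om m F *
      ((1 : GL (Fin (m + m)) F) : Matrix (Fin (m + m)) (Fin (m + m)) F)ᵀ = Om m F
    rw [Units.val_one, Matrix.one_mul, Matrix.transpose_one, Matrix.mul_one]
  inv_mem' := by
    intro a ha
    have ha' : (a : Matrix (Fin (m + m)) (Fin (m + m)) F) * Om m F *
      (a : Matrix (Fin (m + m)) (Fin (m + m)) F)ᵀ = Om m F := ha
    show ((a⁻¹ : GL (Fin (m + m)) F) : Matrix (Fin (m + m)) (Fin (m + m)) F) * Om m F *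
      ((a⁻¹ : GL (Fin (m + m)) F) : Matrix (Fin (m + m)) (Fin (m + m)) F)ᵀ = Om m F
    have h1 : ((a⁻¹ : GL (Fin (m + m)) F) : Matrix (Fin (m + m)) (Fin (m + m)) F) *
        (a : Matrix (Fin (m + m)) (Fin (m + m)) F) = 1 := by
      rw [← Units.val_mul, inv_mul_cancel, Units.val_one]
    have h2 : (a : Matrix (Fin (m + m)) (Fin (m + m)) F)ᵀ *
        ((a⁻¹ : GL (Fin (m + m)) F) : Matrix (Fin (m + m)) (Fin (m + m)) F)ᵀ = 1 := by
      rw [← Matrix.transpose_mul, h1, Matrix.transpose_one]
    calc ((a⁻¹ : GL (Fin (m + m)) F) : Matrix (Fin (m + m)) (Fin (m + m)) F) * Om m F *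
          ((a⁻¹ : GL (Fin (m + m)) F) : Matrix (Fin (m + m)) (Fin (m + m)) F)ᵀ
        = ((a⁻¹ : GL (Fin (m + m)) F) : Matrix (Fin (m + m)) (Fin (m + m)) F) *
          ((a : Matrix (Fin (m + m)) (Fin (m + m)) F) * Om m F *
          (a : Matrix (Fin (m + m)) (Fin (m + m)) F)ᵀ) *
          ((a⁻¹ : GL (Fin (m + m)) F) : Matrix (Fin (m + m)) (Fin (m + m)) F)ᵀ := by rw [ha']
      _ = (((a⁻¹ : GL (Fin (m + m)) F) : Matrix (Fin (m + m)) (Fin (m + m)) F) *
          (a : Matrix (Fin (m + m)) (Fin (m + m)) F)) * Om m F *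
          ((a : Matrix (Fin (m + m)) (Fin (m + m)) F)ᵀ *
          ((a⁻¹ : GL (Fin (m + m)) F) : Matrix (Fin (m + m)) (Fin (m + m)) F)ᵀ) := by
        simp only [Matrix.mul_assoc]
      _ = Om m F := by rw [h1, h2, Matrix.one_mul, Matrix.mul_one]

lemma mem_SpG {g : GL (Fin (m + m)) F} :
    g ∈ SpG m F ↔ (g : Matrix (Fin (m + m)) (Fin (m + m)) F) * Om m F *
      (g : Matrix (Fin (m + m)) (Fin (m + m)) F)ᵀ = Om m F := Iff.rfl

/-! ### transvections -/

lemma transvection_transpose (p q : Fin (m + m)) (t : F) :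
    (transvection p q t)ᵀ = transvection q p t := by
  unfold transvection
  rw [Matrix.transpose_add, Matrix.transpose_one, Matrix.transpose_single]

/-- moving a transposed transvection through the Gram matrix -/
lemma Om_mul_transvection_transpose (p q : Fin (m + m)) (t : F) :
    Om m F * (transvection p q t)ᵀ =
      transvection q.rev p.rev (eta m F p * eta m F q * t) * Om m F := by
  ext i j
  rw [transvection_transpose, mul_transvection_apply', transvection_mul_apply', Om_apply, Om_apply,
    Om_apply, Fin.rev_rev]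
  congr 1
  by_cases hj : j = p
  · subst hj
    rw [if_pos rfl, if_pos rfl]
    by_cases hi : i = q.rev
    · subst hi
      rw [if_pos rfl, if_pos (Fin.rev_rev q).symm, eta_rev, eta_rev]
      have h1 := eta_mul_self (F := F) j
      have h2 := eta_mul_self (F := F) q
      linear_combination (t * eta m F q) * h1
    · rw [if_neg hi, if_neg, mul_zero]
      intro h
      apply hi
      rw [h, Fin.rev_rev]
  · rw [if_neg hj]
    by_cases hi : i = q.rev
    · rw [if_pos hi, if_neg hj, mul_zero]
    · rw [if_neg hi]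

lemma transvection_comm {p q p' q' : Fin (m + m)} (h1 : q ≠ p') (h2 : q' ≠ p) (a b : F) :
    transvection p q a * transvection p' q' b = transvection p' q' b * transvection p q a := by
  unfold transvection
  have e1 : Matrix.single p q a * Matrix.single p' q' b = 0 :=
    Matrix.single_mul_single_of_ne _ _ _ _ h1 _
  have e2 : Matrix.single p' q' b * Matrix.single p q a = 0 :=
    Matrix.single_mul_single_of_ne _ _ _ _ h2 _
  simp only [Matrix.add_mul, Matrix.mul_add, Matrix.one_mul, Matrix.mul_one, e1, e2]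
  abel


/-! ### root elements -/

/-- long root elements are symplectic -/
lemma xGL_long_mem (p : Fin (m + m)) (t : F) :
    xGL p p.rev (rev_ne_self p).symm t ∈ SpG m F := by
  rw [mem_SpG, coe_xGL, Matrix.mul_assoc, Om_mul_transvection_transpose, Fin.rev_rev,
    ← Matrix.mul_assoc, transvection_mul_transvection_same _ _ (rev_ne_self p).symm]
  have h : t + eta m F p * eta m F p.rev * t = 0 := by
    rw [eta_rev]
    have h1 := eta_mul_self (F := F) p
    linear_combination (-t) * h1
  rw [h, transvection_zero, Matrix.one_mul]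

lemma rev_ne_rev {p q : Fin (m + m)} (h : p ≠ q) : q.rev ≠ p.rev := by
  intro h1
  exact h (Fin.rev_injective h1).symm

/-- short root elements, in `GL` -/
def xsGL (p q : Fin (m + m)) (hpq : p ≠ q) (t : F) : GL (Fin (m + m)) F :=
  xGL p q hpq t * xGL q.rev p.rev (rev_ne_rev hpq) (-(eta m F p * eta m F q * t))

lemma coe_xsGL (p q : Fin (m + m)) (hpq : p ≠ q) (t : F) :
    ((xsGL p q hpq t : GL (Fin (m + m)) F) : Matrix (Fin (m + m)) (Fin (m + m)) F) =
      transvection p q t * transvection q.rev p.rev (-(eta m F p * eta m F q * t)) := rfl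

lemma xsGL_mem (p q : Fin (m + m)) (hpq : p ≠ q) (t : F) : xsGL p q hpq t ∈ SpG m F := by
  rw [mem_SpG, coe_xsGL, Matrix.transpose_mul]
  set u : F := -(eta m F p * eta m F q * t) with hu
  have hpp := eta_mul_self (F := F) p
  have hqq := eta_mul_self (F := F) q
  have e1 : Om m F * (transvection q.rev p.rev u)ᵀ = transvection p q (-t) * Om m F := by
    rw [Om_mul_transvection_transpose, Fin.rev_rev, Fin.rev_rev, eta_rev, eta_rev]
    congr 2
    rw [hu]
    have h4 : eta m F p * eta m F q * (eta m F p * eta m F q) = 1 := by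
      rw [mul_mul_mul_comm, hpp, hqq, one_mul]
    linear_combination (-t) * h4
  have e2 : Om m F * (transvection p q t)ᵀ = transvection q.rev p.rev (-u) * Om m F := by
    rw [Om_mul_transvection_transpose, hu, neg_neg]
  have hc : transvection q.rev p.rev u * transvection p q (-t) =
      transvection p q (-t) * transvection q.rev p.rev u :=
    transvection_comm (rev_ne_self p) (rev_ne_self q).symm _ _
  calc transvection p q t * transvection q.rev p.rev u * Om m F *
        ((transvection q.rev p.rev u)ᵀ * (transvection p q t)ᵀ)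
      = transvection p q t * transvection q.rev p.rev u *
        (Om m F * (transvection q.rev p.rev u)ᵀ) * (transvection p q t)ᵀ := by
        simp only [Matrix.mul_assoc]
    _ = transvection p q t * (transvection q.rev p.rev u * transvection p q (-t)) *
        (Om m F * (transvection p q t)ᵀ) := by
        rw [e1]; simp only [Matrix.mul_assoc]
    _ = (transvection p q t * transvection p q (-t)) *
        (transvection q.rev p.rev u * transvection q.rev p.rev (-u)) * Om m F := by
        rw [hc, e2]; simp only [Matrix.mul_assoc]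
    _ = Om m F := by
        rw [transvection_mul_transvection_same _ _ hpq,
          transvection_mul_transvection_same _ _ (rev_ne_rev hpq), add_neg_cancel, add_neg_cancel,
          transvection_zero, transvection_zero, Matrix.one_mul, Matrix.one_mul]

lemma xsGL_apply (p q : Fin (m + m)) (hpq : p ≠ q) (t : F) (i j : Fin (m + m)) :
    ((xsGL p q hpq t : GL (Fin (m + m)) F) : Matrix (Fin (m + m)) (Fin (m + m)) F) i j =
      (if i = j then 1 else 0) + (if i = q.rev ∧ j = p.rev then -(eta m F p * eta m F q * t) else 0)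
        + (if i = p ∧ j = q then t else 0) := by
  rw [coe_xsGL, transvection_mul_apply', transvection_apply', transvection_apply']
  have h1 : ¬ (q = q.rev ∧ j = p.rev) := fun h => (rev_ne_self q) h.1.symm
  rw [if_neg h1, add_zero]
  by_cases hi : i = p
  · by_cases hj : j = q
    · simp [hi, hj]
    · have h2 : ¬ (q = j) := fun h => hj h.symm
      simp [hi, hj, h2]
  · simp [hi]

lemma xsGL_zero (p q : Fin (m + m)) (hpq : p ≠ q) : xsGL p q hpq (0 : F) = 1 := by
  unfold xsGL
  rw [mul_zero, neg_zero, xGL_zero, xGL_zero, mul_one]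

lemma xsGL_mul (p q : Fin (m + m)) (hpq : p ≠ q) (t u : F) :
    xsGL p q hpq t * xsGL p q hpq u = xsGL p q hpq (t + u) := by
  apply Units.ext
  rw [Units.val_mul, coe_xsGL, coe_xsGL, coe_xsGL]
  have hc : transvection q.rev p.rev (-(eta m F p * eta m F q * t)) * transvection p q u =
      transvection p q u * transvection q.rev p.rev (-(eta m F p * eta m F q * t)) :=
    transvection_comm (rev_ne_self p) (rev_ne_self q).symm _ _
  calc transvection p q t * transvection q.rev p.rev (-(eta m F p * eta m F q * t)) *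
        (transvection p q u * transvection q.rev p.rev (-(eta m F p * eta m F q * u)))
      = transvection p q t * (transvection q.rev p.rev (-(eta m F p * eta m F q * t)) *
        transvection p q u) * transvection q.rev p.rev (-(eta m F p * eta m F q * u)) := by
        simp only [Matrix.mul_assoc]
    _ = (transvection p q t * transvection p q u) *
        (transvection q.rev p.rev (-(eta m F p * eta m F q * t)) *
        transvection q.rev p.rev (-(eta m F p * eta m F q * u))) := by
        rw [hc]; simp only [Matrix.mul_assoc]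
    _ = _ := by
        rw [transvection_mul_transvection_same _ _ hpq,
          transvection_mul_transvection_same _ _ (rev_ne_rev hpq)]
        congr 2
        ring

lemma xsGL_inv (p q : Fin (m + m)) (hpq : p ≠ q) (t : F) :
    (xsGL p q hpq t)⁻¹ = xsGL p q hpq (-t) := by
  rw [inv_eq_iff_mul_eq_one, xsGL_mul, add_neg_cancel, xsGL_zero]

/-! ### monomial elements -/

lemma mono_transpose (σ : Perm (Fin (m + m))) (c : Fin (m + m) → F) :
    (mono σ c)ᵀ = mono σ⁻¹ (fun j => c (σ⁻¹ j)) := by
  ext i j
  rw [Matrix.transpose_apply, mono_apply, mono_apply]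
  by_cases h : j = σ i
  · subst h
    rw [if_pos rfl, if_pos (by simp)]
    simp
  · rw [if_neg h, if_neg]
    intro h1
    apply h
    rw [h1]
    simp

lemma mono_Om_apply (σ : Perm (Fin (m + m))) (c : Fin (m + m) → F) (i j : Fin (m + m)) :
    (mono σ c * Om m F * (mono σ c)ᵀ) i j =
      c (σ⁻¹ i) * Om m F (σ⁻¹ i) (σ⁻¹ j) * c (σ⁻¹ j) := by
  rw [mono_transpose, mul_mono_apply, mono_mul_apply]
  rfl


lemma monoGL_mem_SpG_iff (σ : Perm (Fin (m + m))) (c : Fin (m + m) → Fˣ) :
    monoGL σ c ∈ SpG m F ↔ (∀ a, σ a.rev = (σ a).rev) ∧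
      ∀ a, (c a : F) * c a.rev * eta m F a = eta m F (σ a) := by
  rw [mem_SpG, coe_monoGL]
  constructor
  · intro h
    have key : ∀ a, σ a.rev = (σ a).rev ∧ (c a : F) * c a.rev * eta m F a = eta m F (σ a) := by
      intro a
      have h1 := congrFun (congrFun h (σ a)) (σ a.rev)
      rw [mono_Om_apply] at h1
      simp only [Perm.coe_inv, Equiv.symm_apply_apply] at h1
      rw [Om_apply, if_pos rfl, Om_apply] at h1
      by_cases h2 : σ a.rev = (σ a).rev
      · rw [if_pos h2] at h1
        refine ⟨h2, ?_⟩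
        rw [← h1]
        ring
      · exfalso
        rw [if_neg h2] at h1
        have h3 : (c a : F) ≠ 0 := (c a).ne_zero
        have h4 : (c a.rev : F) ≠ 0 := (c a.rev).ne_zero
        exact mul_ne_zero (mul_ne_zero h3 (eta_ne_zero a)) h4 h1
    exact ⟨fun a => (key a).1, fun a => (key a).2⟩
  · rintro ⟨h1, h2⟩
    ext i j
    rw [mono_Om_apply, Om_apply, Om_apply]
    obtain ⟨a, rfl⟩ : ∃ a, i = σ a := ⟨σ⁻¹ i, by simp⟩
    simp only [Perm.coe_inv, Equiv.symm_apply_apply]
    by_cases hj : j = (σ a).rev
    · rw [if_pos hj, hj, ← h1 a]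
      simp only [Equiv.symm_apply_apply, if_true]
      rw [← h2 a]
      ring
    · rw [if_neg hj, if_neg, mul_zero, zero_mul]
      intro h3
      apply hj
      rw [← h1 a, ← h3]
      simp

/-! ### entries of symplectic matrices -/

lemma SpG_entry {g : GL (Fin (m + m)) F} (hg : g ∈ SpG m F) (i j : Fin (m + m)) :
    ∑ a, (g : Matrix (Fin (m + m)) (Fin (m + m)) F) i a.rev * eta m F a.rev *
      (g : Matrix (Fin (m + m)) (Fin (m + m)) F) j a = Om m F i j := by
  have h := congrFun (congrFun (mem_SpG.mp hg) i) j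
  rw [Matrix.mul_apply] at h
  rw [← h]
  apply Finset.sum_congr rfl
  intro a _
  rw [mul_Om_apply, Matrix.transpose_apply]

/-- the diagonal of an upper triangular symplectic matrix -/
lemma diag_mul_diag_rev {g : GL (Fin (m + m)) F} (hg : g ∈ SpG m F) (hb : g ∈ Bup (m + m) F)
    (i : Fin (m + m)) :
    (g : Matrix (Fin (m + m)) (Fin (m + m)) F) i i *
      (g : Matrix (Fin (m + m)) (Fin (m + m)) F) i.rev i.rev = 1 := by
  have h := SpG_entry hg i i.rev
  rw [Om_apply, if_pos rfl, Finset.sum_eq_single i.rev] at h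
  · rw [Fin.rev_rev] at h
    have h1 := eta_ne_zero (F := F) i
    have h2 : eta m F i * ((g : Matrix (Fin (m + m)) (Fin (m + m)) F) i i *
        (g : Matrix (Fin (m + m)) (Fin (m + m)) F) i.rev i.rev) = eta m F i * 1 := by
      rw [mul_one]
      linear_combination h
    exact mul_left_cancel₀ h1 h2
  · intro a _ ha
    rcases lt_or_gt_of_ne ha with hlt | hgt
    · -- a < i.rev : the second factor vanishes
      rw [(mem_Bup.mp hb) i.rev a hlt, mul_zero]
    · -- a > i.rev : a.rev < i
      have : a.rev < i := by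
        rw [← Fin.rev_rev i]
        exact Fin.rev_lt_rev.mpr hgt
      rw [(mem_Bup.mp hb) i a.rev this, zero_mul, zero_mul]
  · intro h; exact absurd (Finset.mem_univ _) h

/-- vanishing of the mirror entry -/
lemma mirror_entry_zero {g : GL (Fin (m + m)) F} (hg : g ∈ SpG m F) (hb : g ∈ Bup (m + m) F)
    {k k' : Fin (m + m)} (hk : k'.val = k.val + 1)
    (h0 : (g : Matrix (Fin (m + m)) (Fin (m + m)) F) k k' = 0) :
    (g : Matrix (Fin (m + m)) (Fin (m + m)) F) k'.rev k.rev = 0 := by
  have hne : k'.rev ≠ k.rev := by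
    intro h
    have := Fin.rev_injective h
    rw [this] at hk
    omega
  have h := SpG_entry hg k k'.rev
  rw [Om_apply, if_neg hne, Finset.sum_eq_single k.rev] at h
  · rw [Fin.rev_rev] at h
    have h1 := eta_ne_zero (F := F) k
    have h2 := diag_ne_zero hb k
    rcases mul_eq_zero.mp h with h3 | h3
    · rcases mul_eq_zero.mp h3 with h4 | h4
      · exact absurd h4 h2
      · exact absurd h4 h1
    · exact h3
  · intro a _ ha
    by_cases h1 : a.rev < k
    · rw [(mem_Bup.mp hb) k a.rev h1, zero_mul, zero_mul]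
    · by_cases h2 : a.rev = k'
      · rw [h2, h0, zero_mul, zero_mul]
      · -- a.rev > k'
        have h3 : a.rev ≠ k := by
          intro h
          apply ha
          rw [← h, Fin.rev_rev]
        have h4 : k' < a.rev := by
          rw [Fin.lt_def] at h1 ⊢
          have h5 : a.rev.val ≠ k.val := fun h => h3 (Fin.ext h)
          have h6 : a.rev.val ≠ k'.val := fun h => h2 (Fin.ext h)
          omega
        have h5 : a < k'.rev := by
          rw [← Fin.rev_rev a]
          exact Fin.rev_lt_rev.mpr h4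
        rw [(mem_Bup.mp hb) k'.rev a h5, mul_zero]
  · intro h; exact absurd (Finset.mem_univ _) h

end Cfsg.Agent.Lib.Helper15.SpBN
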