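/-
helper15: towards the (B,N)-pair of the symplectic group: commutation lemmas, monomial conjugation,
the simple reflections and the rank one computations.
-/
import Mathlib
import Cfsg.Agent.Lib.Helper15.SpBNA

set_option autoImplicit false

namespace Cfsg.Agent.Lib.Helper15.SpBN

open Matrix Equiv Cfsg.Agent.Lib.Helper6.GLBN

section general

variable {n : ℕ} {F : Type*} [Field F]

/-- entries of a conjugate by a monomial matrix -/
lemma conj_monoGL_apply (σ : Perm (Fin n)) (c : Fin n → Fˣ) (X : GL (Fin n) F) (i j : Fin n) :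
    (((monoGL σ c)⁻¹ * X * monoGL σ c : GL (Fin n) F) : Matrix (Fin n) (Fin n) F) i j =
      ((c i)⁻¹ : Fˣ) * (X : Matrix (Fin n) (Fin n) F) (σ i) (σ j) * c j := by
  rw [monoGL_inv, Units.val_mul, Units.val_mul, coe_monoGL, coe_monoGL, mul_mono_apply,
    mono_mul_apply]
  simp [Perm.inv_def]

/-- entries of `n X n` for a monomial matrix `n` -/
lemma monoGL_mul_mul_apply (σ : Perm (Fin n)) (c : Fin n → Fˣ) (X : GL (Fin n) F) (i j : Fin n) :
    ((monoGL σ c * X * monoGL σ c : GL (Fin n) F) : Matrix (Fin n) (Fin n) F) i j =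
      (c (σ.symm i) : F) * (X : Matrix (Fin n) (Fin n) F) (σ.symm i) (σ j) * c j := by
  rw [Units.val_mul, Units.val_mul, coe_monoGL, mul_mono_apply, mono_mul_apply]

lemma conj_monoGL_mem_Bup_iff (σ : Perm (Fin n)) (c : Fin n → Fˣ) (X : GL (Fin n) F) :
    (monoGL σ c)⁻¹ * X * monoGL σ c ∈ Bup n F ↔
      ∀ i j : Fin n, j < i → (X : Matrix (Fin n) (Fin n) F) (σ i) (σ j) = 0 := by
  rw [mem_Bup]
  constructor
  · intro h i j hji
    have := h i j hji
    rw [conj_monoGL_apply] at this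
    have h1 : (((c i)⁻¹ : Fˣ) : F) ≠ 0 := Units.ne_zero _
    have h2 : ((c j : Fˣ) : F) ≠ 0 := Units.ne_zero _
    rcases mul_eq_zero.mp this with h3 | h3
    · rcases mul_eq_zero.mp h3 with h4 | h4
      · exact absurd h4 h1
      · exact h4
    · exact absurd h3 h2
  · intro h i j hji
    rw [conj_monoGL_apply, h i j hji, mul_zero, zero_mul]

lemma regroup {G : Type*} [Group G] (s₁ s₂ x₁ x₂ y₁ y₂ : G) (c1 : s₂ * x₁ = x₁ * s₂)
    (c2 : x₂ * y₁ = y₁ * x₂) (c3 : s₂ * y₁ = y₁ * s₂) :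
    s₁ * s₂ * (x₁ * x₂) * (y₁ * y₂) = (s₁ * x₁ * y₁) * (s₂ * x₂ * y₂) := by
  calc s₁ * s₂ * (x₁ * x₂) * (y₁ * y₂) = s₁ * (s₂ * x₁) * (x₂ * y₁) * y₂ := by
        simp only [mul_assoc]
    _ = s₁ * (x₁ * s₂) * (y₁ * x₂) * y₂ := by rw [c1, c2]
    _ = s₁ * x₁ * (s₂ * y₁) * x₂ * y₂ := by simp only [mul_assoc]
    _ = s₁ * x₁ * (y₁ * s₂) * x₂ * y₂ := by rw [c3]
    _ = _ := by simp only [mul_assoc]

lemma regroup2 {G : Type*} [Group G] (s₁ s₂ b : G) (c : s₁ * s₂ = s₂ * s₁) :
    s₁ * s₂ * b * (s₁ * s₂) = s₁ * (s₂ * b * s₂) * s₁ := by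
  calc s₁ * s₂ * b * (s₁ * s₂) = s₁ * s₂ * b * (s₂ * s₁) := by rw [c]
    _ = _ := by simp only [mul_assoc]

lemma xGL_comm {p q p' q' : Fin n} (hpq : p ≠ q) (hpq' : p' ≠ q') (h1 : q ≠ p') (h2 : q' ≠ p)
    (a b : F) :
    xGL p q hpq a * xGL p' q' hpq' b = xGL p' q' hpq' b * xGL p q hpq a := by
  apply Units.ext
  rw [Units.val_mul, Units.val_mul, coe_xGL, coe_xGL]
  unfold transvection
  have e1 : Matrix.single p q a * Matrix.single p' q' b = 0 :=
    Matrix.single_mul_single_of_ne _ _ _ _ h1 _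
  have e2 : Matrix.single p' q' b * Matrix.single p q a = 0 :=
    Matrix.single_mul_single_of_ne _ _ _ _ h2 _
  simp only [Matrix.add_mul, Matrix.mul_add, Matrix.one_mul, Matrix.mul_one, e1, e2]
  abel

lemma sG_comm_xGL {a a' p q : Fin n} (hpq : p ≠ q) (hpa : p ≠ a) (hpa' : p ≠ a') (hqa : q ≠ a)
    (hqa' : q ≠ a') (t : F) :
    (sG a a' : GL (Fin n) F) * xGL p q hpq t = xGL p q hpq t * sG a a' := by
  apply Units.ext
  ext i j
  rw [Units.val_mul, Units.val_mul, coe_sG_mul, coe_xGL]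
  unfold sG
  rw [coe_monoGL, mul_mono_apply, transvection_apply', transvection_apply']
  have hp : swap a a' p = p := swap_apply_of_ne_of_ne hpa hpa'
  have hq : swap a a' q = q := swap_apply_of_ne_of_ne hqa hqa'
  have e1 : (swap a a' i = j) ↔ (i = swap a a' j) := swap_apply_eq_iff
  have e2 : (swap a a' i = p) ↔ (i = p) := by rw [swap_apply_eq_iff, hp]
  have e3 : (swap a a' j = q) ↔ (j = q) := by rw [swap_apply_eq_iff, hq]
  simp only [e1, e2, e3, Units.val_one, mul_one]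

lemma sG_comm_sG {a a' b b' : Fin n} (h : [a, a', b, b'].Nodup) :
    (sG a a' : GL (Fin n) F) * sG b b' = sG b b' * sG a a' := by
  unfold sG
  rw [monoGL_mul, monoGL_mul]
  congr 1
  exact (Equiv.Perm.disjoint_swap_swap h).commute.eq

/-- a permutation of `Fin n` which is increasing on adjacent pairs is the identity -/
lemma perm_eq_one_of_adj {σ : Perm (Fin n)}
    (h : ∀ i j : Fin n, j.val = i.val + 1 → σ i < σ j) : σ = 1 := by
  have hmono : ∀ d : ℕ, ∀ i j : Fin n, j.val = i.val + d + 1 → σ i < σ j := by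
    intro d
    induction d with
    | zero => intro i j hij; exact h i j (by omega)
    | succ d ih =>
      intro i j hij
      have hlt : i.val + d + 1 < n := by have := j.2; omega
      exact lt_trans (ih i ⟨i.val + d + 1, hlt⟩ rfl) (h ⟨i.val + d + 1, hlt⟩ j (by simp only [hij]; omega))
  have hsm : StrictMono σ := by
    intro i j hij
    rw [Fin.lt_def] at hij
    exact hmono (j.val - i.val - 1) i j (by omega)
  have hle : ∀ j, j ≤ σ j := by
    intro j
    have key : ∀ d : ℕ, ∀ j : Fin n, j.val = d → j ≤ σ j := by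
      intro d
      induction d with
      | zero => intro j hj; rw [Fin.le_def, hj]; exact Nat.zero_le _
      | succ d ih =>
        intro j hj
        have hlt : d < n := by have := j.2; omega
        have h1 := ih ⟨d, hlt⟩ rfl
        have h2 : σ ⟨d, hlt⟩ < σ j := hsm (by rw [Fin.lt_def]; simp [hj])
        rw [Fin.le_def] at h1 ⊢
        rw [Fin.lt_def] at h2
        simp at h1
        omega
    exact key j.val j rfl
  have h1 : σ⁻¹ = 1 := by
    apply perm_eq_one_of_le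
    intro j
    have := hle (σ⁻¹ j)
    simpa using this
  rw [← inv_inv σ, h1, inv_one]

end general

section conj

variable {m : ℕ} {F : Type*} [Field F]

lemma inv_rev_of_comm {σ : Perm (Fin (m + m))} (hσ : ∀ a, σ a.rev = (σ a).rev) (a : Fin (m + m)) :
    σ⁻¹ a.rev = (σ⁻¹ a).rev := by
  apply σ.injective
  rw [hσ]
  simp

/-- conjugating a short root element by a monomial symplectic matrix -/
lemma conj_xsGL_mem_Bup {σ : Perm (Fin (m + m))} (hσ : ∀ a, σ a.rev = (σ a).rev)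
    (c : Fin (m + m) → Fˣ) (p q : Fin (m + m)) (hpq : p ≠ q) (h : σ⁻¹ p < σ⁻¹ q) (t : F) :
    (monoGL σ c)⁻¹ * xsGL p q hpq t * monoGL σ c ∈ Bup (m + m) F := by
  rw [conj_monoGL_mem_Bup_iff]
  intro i j hji
  rw [xsGL_apply]
  have h1 : ¬ (σ i = σ j) := fun e => (ne_of_gt hji) (σ.injective e)
  have h2 : ¬ (σ i = q.rev ∧ σ j = p.rev) := by
    rintro ⟨e1, e2⟩
    have e1' : i = (σ⁻¹ q).rev := by
      rw [← inv_rev_of_comm hσ, ← e1]; simp
    have e2' : j = (σ⁻¹ p).rev := by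
      rw [← inv_rev_of_comm hσ, ← e2]; simp
    rw [e1', e2', Fin.rev_lt_rev] at hji
    exact absurd h (not_lt.mpr hji.le)
  have h3 : ¬ (σ i = p ∧ σ j = q) := by
    rintro ⟨e1, e2⟩
    have e1' : i = σ⁻¹ p := by rw [← e1]; simp
    have e2' : j = σ⁻¹ q := by rw [← e2]; simp
    rw [e1', e2'] at hji
    exact absurd h (not_lt.mpr hji.le)
  rw [if_neg h1, if_neg h2, if_neg h3, add_zero, add_zero]

/-- conjugating a long root element by a monomial matrix -/
lemma conj_xGL_mem_Bup {n : ℕ} (σ : Perm (Fin n))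
    (c : Fin n → Fˣ) (p q : Fin n) (hpq : p ≠ q) (h : σ⁻¹ p < σ⁻¹ q) (t : F) :
    (monoGL σ c)⁻¹ * xGL p q hpq t * monoGL σ c ∈ Bup n F := by
  rw [conj_monoGL_mem_Bup_iff]
  intro i j hji
  rw [coe_xGL, transvection_apply']
  have h1 : ¬ (σ i = σ j) := fun e => (ne_of_gt hji) (σ.injective e)
  have h3 : ¬ (σ i = p ∧ σ j = q) := by
    rintro ⟨e1, e2⟩
    have e1' : i = σ⁻¹ p := by rw [← e1]; simp
    have e2' : j = σ⁻¹ q := by rw [← e2]; simp
    rw [e1', e2'] at hji
    exact absurd h (not_lt.mpr hji.le)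
  rw [if_neg h1, if_neg h3, add_zero]

/-- the converse: a non-zero entry forces the order -/
lemma lt_of_conj_mem_Bup {n : ℕ} {σ : Perm (Fin n)} {c : Fin n → Fˣ} {X : GL (Fin n) F}
    (h : (monoGL σ c)⁻¹ * X * monoGL σ c ∈ Bup n F) {p q : Fin n} (hpq : p ≠ q)
    (hX : (X : Matrix (Fin n) (Fin n) F) p q ≠ 0) : σ⁻¹ p < σ⁻¹ q := by
  rw [conj_monoGL_mem_Bup_iff] at h
  by_contra hlt
  rw [not_lt] at hlt
  rcases lt_or_eq_of_le hlt with h1 | h1
  · have := h _ _ h1
    simp at this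
    exact hX this
  · exact hpq (σ⁻¹.injective h1.symm)

end conj

section short

variable {m : ℕ} {F : Type*} [Field F]

lemma xsGL_short {p q : Fin (m + m)} (hpq : p ≠ q) (hp : p.val < m) (hq : q.val < m) (t : F) :
    xsGL p q hpq t = xGL p q hpq t * xGL q.rev p.rev (rev_ne_rev hpq) (-t) := by
  unfold xsGL
  rw [eta_of_lt hp, eta_of_lt hq]
  congr 2
  ring

/-- the short simple reflections -/
def sS (k k' : Fin (m + m)) : GL (Fin (m + m)) F := sG k k' * sG k'.rev k.rev

lemma sS_eq_monoGL (k k' : Fin (m + m)) :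
    (sS k k' : GL (Fin (m + m)) F) = monoGL (swap k k' * swap k'.rev k.rev) (fun _ => 1) := by
  unfold sS sG
  rw [monoGL_mul]
  congr 1
  funext j
  simp

variable {k k' : Fin (m + m)} (hk : k'.val = k.val + 1) (hkm : k'.val < m)
include hk hkm

lemma short_idx : k ≠ k' ∧ k ≠ k'.rev ∧ k ≠ k.rev ∧ k' ≠ k'.rev ∧ k' ≠ k.rev ∧ k'.rev ≠ k.rev ∧
    k.rev.val = k'.rev.val + 1 ∧ k.val < m := by
  have h1 := Fin.val_rev k
  have h2 := Fin.val_rev k'
  have h3 := k.2
  have h4 := k'.2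
  refine ⟨?_, ?_, ?_, ?_, ?_, ?_, ?_, ?_⟩
  · apply Fin.ne_of_val_ne; omega
  · apply Fin.ne_of_val_ne; omega
  · apply Fin.ne_of_val_ne; omega
  · apply Fin.ne_of_val_ne; omega
  · apply Fin.ne_of_val_ne; omega
  · apply Fin.ne_of_val_ne; omega
  · omega
  · omega

lemma sS_comm : (sG k k' : GL (Fin (m + m)) F) * sG k'.rev k.rev = sG k'.rev k.rev * sG k k' := by
  obtain ⟨h1, h2, h3, h4, h5, h6, -, -⟩ := short_idx hk hkm
  apply sG_comm_sG
  simp only [List.nodup_cons, List.mem_cons, List.not_mem_nil, or_false, not_or, List.nodup_nil,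
    and_true, not_false_eq_true]
  exact ⟨⟨h1, h2, h3⟩, ⟨h4, h5⟩, h6⟩

lemma sS_inv : (sS k k' : GL (Fin (m + m)) F)⁻¹ = sS k k' := by
  unfold sS
  rw [_root_.mul_inv_rev, sG_inv, sG_inv, ← sS_comm hk hkm]

lemma sS_mul_self : (sS k k' : GL (Fin (m + m)) F) * sS k k' = 1 := by
  rw [← eq_inv_iff_mul_eq_one, sS_inv hk hkm]

lemma sS_mem : (sS k k' : GL (Fin (m + m)) F) ∈ SpG m F := by
  obtain ⟨h1, h2, h3, h4, h5, h6, h7, h8⟩ := short_idx hk hkm
  rw [sS_eq_monoGL, monoGL_mem_SpG_iff]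
  have hR : ∀ x y : Fin (m + m), (Fin.revPerm : Perm (Fin (m + m))) * swap x y =
      swap x.rev y.rev * Fin.revPerm := by
    intro x y
    rw [Equiv.mul_swap_eq_swap_mul]
    rfl
  have hcomm : (Fin.revPerm : Perm (Fin (m + m))) * (swap k k' * swap k'.rev k.rev) =
      (swap k k' * swap k'.rev k.rev) * Fin.revPerm := by
    rw [← mul_assoc, hR, mul_assoc, hR, Fin.rev_rev, Fin.rev_rev, ← mul_assoc]
    congr 1
    rw [swap_comm k.rev k'.rev, swap_comm k' k]
    refine ((Equiv.Perm.disjoint_swap_swap ?_).commute.eq).symm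
    simp only [List.nodup_cons, List.mem_cons, List.not_mem_nil, or_false, not_or, List.nodup_nil,
      and_true, not_false_eq_true]
    exact ⟨⟨h1, h2, h3⟩, ⟨h4, h5⟩, h6⟩
  constructor
  · intro a
    have := congrArg (fun τ : Perm (Fin (m + m)) => τ a) hcomm
    simp only [Perm.mul_apply, Fin.revPerm_apply] at this
    exact this.symm
  · intro a
    simp only [Units.val_one, one_mul, Perm.mul_apply]
    -- the permutation preserves the two halves
    by_cases ha1 : a = k'.rev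
    · subst ha1
      rw [swap_apply_left, swap_apply_of_ne_of_ne (Ne.symm h3) (Ne.symm h5),
        eta_of_ge (by rw [Fin.val_rev]; have := k'.2; omega),
        eta_of_ge (by rw [Fin.val_rev]; have := k.2; omega)]
    · by_cases ha2 : a = k.rev
      · subst ha2
        rw [swap_apply_right, swap_apply_of_ne_of_ne (Ne.symm h2) (Ne.symm h4),
          eta_of_ge (by rw [Fin.val_rev]; have := k'.2; omega),
          eta_of_ge (by rw [Fin.val_rev]; have := k.2; omega)]
      · rw [swap_apply_of_ne_of_ne ha1 ha2]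
        by_cases ha3 : a = k
        · subst ha3
          rw [swap_apply_left, eta_of_lt h8, eta_of_lt hkm]
        · by_cases ha4 : a = k'
          · subst ha4
            rw [swap_apply_right, eta_of_lt h8, eta_of_lt hkm]
          · rw [swap_apply_of_ne_of_ne ha3 ha4]

/-- splitting off the root subgroup of a short simple root -/
lemma short_factor (hkk' : k ≠ k') {b : GL (Fin (m + m)) F} (hS : b ∈ SpG m F)
    (hB : b ∈ Bup (m + m) F) :
    ∃ t : F, sS k k' * (b * (xsGL k k' hkk' t)⁻¹) * (sS k k')⁻¹ ∈ Bup (m + m) F := by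
  obtain ⟨h1, h2, h3, h4, h5, h6, h7, h8⟩ := short_idx hk hkm
  have hlt : k < k' := by rw [Fin.lt_def]; omega
  have hlt' : k'.rev < k.rev := by rw [Fin.lt_def]; omega
  set t : F := (b : Matrix (Fin (m + m)) (Fin (m + m)) F) k k' /
    (b : Matrix (Fin (m + m)) (Fin (m + m)) F) k k with ht
  refine ⟨t, ?_⟩
  rw [xsGL_inv]
  set b' : GL (Fin (m + m)) F := b * xsGL k k' h1 (-t) with hb'
  have hxB : xsGL k k' h1 (-t) ∈ Bup (m + m) F := by
    unfold xsGL
    exact Subgroup.mul_mem _ (xGL_mem_Bup hlt _) (xGL_mem_Bup hlt' _)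
  have hb'B : b' ∈ Bup (m + m) F := Subgroup.mul_mem _ hB hxB
  have hb'S : b' ∈ SpG m F := Subgroup.mul_mem _ hS (xsGL_mem _ _ _ _)
  have h0 : (b' : Matrix (Fin (m + m)) (Fin (m + m)) F) k k' = 0 := by
    rw [hb', Units.val_mul, coe_xsGL, ← Matrix.mul_assoc, mul_transvection_apply',
      mul_transvection_apply', if_pos rfl, if_neg h5, add_zero, ht]
    field_simp [diag_ne_zero hB k]
    ring
  have h0' : (b' : Matrix (Fin (m + m)) (Fin (m + m)) F) k'.rev k.rev = 0 :=
    mirror_entry_zero hb'S hb'B hk h0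
  have hc1 := sG_conj_mem_Bup h7 hb'B h0'
  have h0'' : ((sG k'.rev k.rev * b' * sG k'.rev k.rev : GL (Fin (m + m)) F) :
      Matrix (Fin (m + m)) (Fin (m + m)) F) k k' = 0 := by
    rw [Units.val_mul, Units.val_mul, coe_sG_mul_mul, swap_apply_of_ne_of_ne h2 h3,
      swap_apply_of_ne_of_ne h4 h5]
    exact h0
  have hc2 := sG_conj_mem_Bup hk hc1 h0''
  have e : sS k k' * b' * (sS k k')⁻¹ =
      sG k k' * (sG k'.rev k.rev * b' * sG k'.rev k.rev) * sG k k' := by
    rw [sS_inv hk hkm]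
    unfold sS
    exact regroup2 _ _ _ (sS_comm hk hkm)
  rw [e]
  exact hc2

/-- the rank one computation for a short simple root -/
lemma short_rank_one (hkk' : k ≠ k') {t : F} (ht : t ≠ 0) :
    sS k k' * xsGL k k' hkk' t * xsGL k' k hkk'.symm (-t⁻¹) ∈ Bup (m + m) F := by
  obtain ⟨h1, h2, h3, h4, h5, h6, h7, h8⟩ := short_idx hk hkm
  rw [xsGL_short h1 h8 hkm, xsGL_short h1.symm hkm h8]
  have r1 := rank_one_mem_Bup (F := F) hk h1 ht
  have r2 := rank_one_mem_Bup (F := F) (k := k'.rev) (k' := k.rev) h7 h6 (neg_ne_zero.mpr ht)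
  have e0 : (-(-t)⁻¹ : F) = -(-t⁻¹) := by rw [inv_neg]
  rw [e0] at r2
  have c1 : (sG k'.rev k.rev : GL (Fin (m + m)) F) * xGL k k' h1 t =
      xGL k k' h1 t * sG k'.rev k.rev := sG_comm_xGL h1 h2 h3 h4 h5 t
  have c2 : xGL k'.rev k.rev (rev_ne_rev h1) (-t) * xGL k' k h1.symm (-t⁻¹) =
      xGL k' k h1.symm (-t⁻¹) * xGL k'.rev k.rev (rev_ne_rev h1) (-t) :=
    xGL_comm _ _ (Ne.symm h5) h2 _ _
  have c3 : (sG k'.rev k.rev : GL (Fin (m + m)) F) * xGL k' k h1.symm (-t⁻¹) =
      xGL k' k h1.symm (-t⁻¹) * sG k'.rev k.rev := sG_comm_xGL h1.symm h4 h5 h2 h3 _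
  unfold sS
  rw [regroup _ _ _ _ _ _ c1 c2 c3]
  exact Subgroup.mul_mem _ r1 r2

end short

section long

variable {m : ℕ} {F : Type*} [Field F]

/-- the sign matrix -/
def dL (k : Fin (m + m)) : GL (Fin (m + m)) F := monoGL 1 (fun a => if a = k.rev then -1 else 1)

/-- the long simple reflection -/
def sL (k : Fin (m + m)) : GL (Fin (m + m)) F := dL k * sG k k.rev

lemma dL_mem_Bup (k : Fin (m + m)) : (dL k : GL (Fin (m + m)) F) ∈ Bup (m + m) F := by
  unfold dL
  rw [monoGL_mem_Bup_iff]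

lemma sL_eq_monoGL (k : Fin (m + m)) :
    (sL k : GL (Fin (m + m)) F) = monoGL (swap k k.rev) (fun a => if a = k then -1 else 1) := by
  unfold sL dL sG
  rw [monoGL_mul]
  congr 1
  funext j
  have : (swap k k.rev j = k.rev) ↔ j = k := by
    rw [swap_apply_eq_iff, swap_apply_right]
  simp only [this, mul_one]

lemma sL_inv (k : Fin (m + m)) :
    (sL k : GL (Fin (m + m)) F)⁻¹ = sG k k.rev * (dL k)⁻¹ := by
  unfold sL
  rw [_root_.mul_inv_rev, sG_inv]

variable {k : Fin (m + m)} (hk : k.val + 1 = m)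
include hk

lemma long_idx : k.rev.val = k.val + 1 ∧ k ≠ k.rev ∧ k.val < m ∧ m ≤ k.rev.val := by
  have h1 := Fin.val_rev k
  have h3 := k.2
  refine ⟨by omega, ?_, by omega, by omega⟩
  apply Fin.ne_of_val_ne; omega

lemma sL_mem : (sL k : GL (Fin (m + m)) F) ∈ SpG m F := by
  obtain ⟨h1, h2, h3, h4⟩ := long_idx hk
  rw [sL_eq_monoGL, monoGL_mem_SpG_iff]
  constructor
  · intro a
    rw [← Fin.rev_injective.swap_apply, Fin.rev_rev, Equiv.swap_comm]
  · intro a
    by_cases ha : a = k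
    · subst ha
      rw [if_pos rfl, if_neg (Ne.symm h2), swap_apply_left, eta_of_lt h3, eta_of_ge h4]
      simp
    · by_cases ha' : a = k.rev
      · subst ha'
        rw [if_neg (Ne.symm h2), Fin.rev_rev, if_pos rfl, swap_apply_right, eta_of_lt h3,
          eta_of_ge h4]
        simp
      · have ha'' : a.rev ≠ k := by
          intro h
          apply ha'
          rw [← h, Fin.rev_rev]
        rw [if_neg ha, if_neg ha'', swap_apply_of_ne_of_ne ha ha']
        simp

/-- splitting off the root subgroup of the long simple root -/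
lemma long_factor (hkk' : k ≠ k.rev) {b : GL (Fin (m + m)) F} (hB : b ∈ Bup (m + m) F) :
    ∃ t : F, sL k * (b * (xGL k k.rev hkk' t)⁻¹) * (sL k)⁻¹ ∈ Bup (m + m) F := by
  obtain ⟨h1, h2, h3, h4⟩ := long_idx hk
  obtain ⟨t, b', hb', h0, rfl⟩ := exists_factor h1 hB hkk'
  refine ⟨t, ?_⟩
  rw [mul_inv_cancel_right, sL_inv]
  have hc := sG_conj_mem_Bup h1 hb' h0
  have e : sL k * b' * (sG k k.rev * (dL k)⁻¹) = dL k * (sG k k.rev * b' * sG k k.rev) * (dL k)⁻¹ := by
    unfold sL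
    simp only [mul_assoc]
  rw [e]
  exact Subgroup.mul_mem _ (Subgroup.mul_mem _ (dL_mem_Bup k) hc)
    (Subgroup.inv_mem _ (dL_mem_Bup k))

/-- the rank one computation for the long simple root -/
lemma long_rank_one (hkk' : k ≠ k.rev) {t : F} (ht : t ≠ 0) :
    sL k * xGL k k.rev hkk' t * xGL k.rev k hkk'.symm (-t⁻¹) ∈ Bup (m + m) F := by
  obtain ⟨h1, h2, h3, h4⟩ := long_idx hk
  have r1 := rank_one_mem_Bup (F := F) h1 hkk' ht
  have e : sL k * xGL k k.rev hkk' t * xGL k.rev k hkk'.symm (-t⁻¹) =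
      dL k * (sG k k.rev * xGL k k.rev hkk' t * xGL k.rev k hkk'.symm (-t⁻¹)) := by
    unfold sL
    simp only [mul_assoc]
  rw [e]
  exact Subgroup.mul_mem _ (dL_mem_Bup k) r1

end long

section mulVec

variable {n : ℕ} {F : Type*} [Field F]

lemma transvection_mulVec (p q : Fin n) (t : F) (v : Fin n → F) (i : Fin n) :
    (transvection p q t *ᵥ v) i = v i + if i = p then t * v q else 0 := by
  unfold transvection
  rw [Matrix.add_mulVec, Matrix.one_mulVec, Pi.add_apply, Matrix.single_mulVec,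
    Function.update_apply]
  congr 1

end mulVec

section mulVec2

variable {m : ℕ} {F : Type*} [Field F]

lemma xsGL_mulVec (p q : Fin (m + m)) (hpq : p ≠ q) (t : F) (v : Fin (m + m) → F)
    (i : Fin (m + m)) :
    (((xsGL p q hpq t : GL (Fin (m + m)) F) : Matrix (Fin (m + m)) (Fin (m + m)) F) *ᵥ v) i =
      v i + (if i = q.rev then -(eta m F p * eta m F q * t) * v p.rev else 0) +
        (if i = p then t * v q else 0) := by
  rw [coe_xsGL, ← Matrix.mulVec_mulVec, transvection_mulVec, transvection_mulVec,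
    transvection_mulVec, if_neg (rev_ne_self q).symm, add_zero]

end mulVec2

end Cfsg.Agent.Lib.Helper15.SpBN
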