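/-
helper15: the (B,N)-pair of the symplectic group `SpG m F`: the subgroups `B`, `N`, the simple
reflections and the main double coset condition.
-/
import Mathlib
import Cfsg.Prelude.Def_LieExceptional
import Cfsg.Agent.Lib.Helper15.SpBNC

set_option autoImplicit false

namespace Cfsg.Agent.Lib.Helper15.SpBN

open Matrix Equiv Cfsg.Agent.Lib.Helper6.GLBN

section skeleton

variable {G : Type*} [Group G] {B : Subgroup G}

lemma dc_skeleton_pos {s n b' x : G} (hb' : s * b' * s⁻¹ ∈ B) (h : n⁻¹ * x * n ∈ B) :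
    s * (b' * x) * n ∈ DoubleCoset.doubleCoset (s * n) (B : Set G) B := by
  rw [DoubleCoset.mem_doubleCoset]
  exact ⟨s * b' * s⁻¹, hb', n⁻¹ * x * n, h, by group⟩

lemma dc_skeleton_neg {s n b' x y : G} (hb' : s * b' * s⁻¹ ∈ B) (h1 : s * x * y ∈ B)
    (h2 : n⁻¹ * y⁻¹ * n ∈ B) :
    s * (b' * x) * n ∈ DoubleCoset.doubleCoset n (B : Set G) B := by
  rw [DoubleCoset.mem_doubleCoset]
  exact ⟨s * b' * s⁻¹ * (s * x * y), B.mul_mem hb' h1, n⁻¹ * y⁻¹ * n, h2, by group⟩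

end skeleton

variable {m : ℕ} {F : Type*} [Field F]

/-- the Borel subgroup -/
def BG (m : ℕ) (F : Type*) [Field F] : Subgroup ↥(SpG m F) := (Bup (m + m) F).subgroupOf (SpG m F)

/-- the torus -/
def TG (m : ℕ) (F : Type*) [Field F] : Subgroup ↥(SpG m F) :=
  (diagSubgroup (m + m) F).subgroupOf (SpG m F)

/-- the simple reflections -/
def SG (m : ℕ) (F : Type*) [Field F] : Set ↥(SpG m F) :=
  {g | (∃ k k' : Fin (m + m), k'.val = k.val + 1 ∧ k'.val < m ∧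
      (g : GL (Fin (m + m)) F) = sS k k') ∨
    (∃ k : Fin (m + m), k.val + 1 = m ∧ (g : GL (Fin (m + m)) F) = sL k)}

/-- the monomial subgroup generated by the reflections and the torus -/
def NG (m : ℕ) (F : Type*) [Field F] : Subgroup ↥(SpG m F) := Subgroup.closure (SG m F) ⊔ TG m F

lemma mem_BG {g : ↥(SpG m F)} : g ∈ BG m F ↔ (g : GL (Fin (m + m)) F) ∈ Bup (m + m) F :=
  Subgroup.mem_subgroupOf

lemma mem_TG {g : ↥(SpG m F)} : g ∈ TG m F ↔ (g : GL (Fin (m + m)) F) ∈ diagSubgroup (m + m) F :=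
  Subgroup.mem_subgroupOf

lemma TG_le_BG : TG m F ≤ BG m F := by
  intro g hg
  rw [mem_TG] at hg
  rw [mem_BG]
  obtain ⟨c, hc⟩ := hg
  rw [hc, monoGL_mem_Bup_iff]

lemma TG_le_NG : TG m F ≤ NG m F := le_sup_right

lemma SG_subset_NG : SG m F ⊆ (NG m F : Set ↥(SpG m F)) := fun _ hg =>
  Subgroup.mem_sup_left (Subgroup.subset_closure hg)

lemma NG_le_mono : NG m F ≤ (monoSubgroup (m + m) F).subgroupOf (SpG m F) := by
  apply sup_le
  · rw [Subgroup.closure_le]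
    rintro g (⟨k, k', -, -, hg⟩ | ⟨k, -, hg⟩)
    · show g ∈ (monoSubgroup (m + m) F).subgroupOf (SpG m F)
      rw [Subgroup.mem_subgroupOf, hg, sS_eq_monoGL]
      exact ⟨_, _, rfl⟩
    · show g ∈ (monoSubgroup (m + m) F).subgroupOf (SpG m F)
      rw [Subgroup.mem_subgroupOf, hg, sL_eq_monoGL]
      exact ⟨_, _, rfl⟩
  · intro g hg
    rw [mem_TG] at hg
    rw [Subgroup.mem_subgroupOf]
    exact diagSubgroup_le_mono hg

lemma exists_monoGL {n : ↥(SpG m F)} (hn : n ∈ NG m F) :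
    ∃ (σ : Perm (Fin (m + m))) (c : Fin (m + m) → Fˣ), (n : GL (Fin (m + m)) F) = monoGL σ c := by
  have := NG_le_mono hn
  rw [Subgroup.mem_subgroupOf] at this
  exact this

lemma perm_comm_of_mem {n : ↥(SpG m F)} {σ : Perm (Fin (m + m))} {c : Fin (m + m) → Fˣ}
    (h : (n : GL (Fin (m + m)) F) = monoGL σ c) : ∀ a, σ a.rev = (σ a).rev := by
  have := n.2
  rw [h, monoGL_mem_SpG_iff] at this
  exact this.1

lemma BG_inf_NG : BG m F ⊓ NG m F = TG m F := by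
  apply le_antisymm
  · rintro g ⟨hB, hN⟩
    obtain ⟨σ, c, hg⟩ := exists_monoGL hN
    have hB' := mem_BG.mp hB
    rw [hg, monoGL_mem_Bup_iff] at hB'
    subst hB'
    rw [mem_TG, hg]
    exact ⟨c, rfl⟩
  · exact le_inf TG_le_BG TG_le_NG

/-- the data attached to a simple reflection that are needed for the double coset condition -/
def SimpleData (s : ↥(SpG m F)) (k k' : Fin (m + m)) : Prop :=
  ∀ b ∈ BG m F, ∃ b' x : ↥(SpG m F), b = b' * x ∧ s * b' * s⁻¹ ∈ BG m F ∧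
    (∀ (n : ↥(SpG m F)) (σ : Perm (Fin (m + m))) (c : Fin (m + m) → Fˣ),
      (n : GL (Fin (m + m)) F) = monoGL σ c → σ⁻¹ k < σ⁻¹ k' → n⁻¹ * x * n ∈ BG m F) ∧
    (x = 1 ∨ ∃ y : ↥(SpG m F), s * x * y ∈ BG m F ∧
      ∀ (n : ↥(SpG m F)) (σ : Perm (Fin (m + m))) (c : Fin (m + m) → Fˣ),
        (n : GL (Fin (m + m)) F) = monoGL σ c → σ⁻¹ k' < σ⁻¹ k → n⁻¹ * y⁻¹ * n ∈ BG m F)

lemma SimpleData.pos {s : ↥(SpG m F)} {k k' : Fin (m + m)} (hs : SimpleData s k k')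
    {b : ↥(SpG m F)} (hb : b ∈ BG m F) {n : ↥(SpG m F)} {σ : Perm (Fin (m + m))}
    {c : Fin (m + m) → Fˣ} (hn : (n : GL (Fin (m + m)) F) = monoGL σ c) (hlt : σ⁻¹ k < σ⁻¹ k') :
    s * b * n ∈ DoubleCoset.doubleCoset (s * n) (BG m F : Set ↥(SpG m F)) (BG m F) := by
  obtain ⟨b', x, rfl, h1, h2, -⟩ := hs b hb
  exact dc_skeleton_pos h1 (h2 n σ c hn hlt)

lemma SimpleData.main {s : ↥(SpG m F)} {k k' : Fin (m + m)} (hs : SimpleData s k k')
    (hkk' : k ≠ k') {b : ↥(SpG m F)} (hb : b ∈ BG m F) {n : ↥(SpG m F)} (hn : n ∈ NG m F) :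
    s * b * n ∈ DoubleCoset.doubleCoset (s * n) (BG m F : Set ↥(SpG m F)) (BG m F) ∪
      DoubleCoset.doubleCoset n (BG m F : Set ↥(SpG m F)) (BG m F) := by
  obtain ⟨σ, c, hσ⟩ := exists_monoGL hn
  have hne : σ⁻¹ k ≠ σ⁻¹ k' := fun h => hkk' (σ⁻¹.injective h)
  rcases lt_or_gt_of_ne hne with hlt | hgt
  · left
    exact hs.pos hb hσ hlt
  · obtain ⟨b', x, rfl, h1, h2, h3⟩ := hs b hb
    rcases h3 with rfl | ⟨y, h4, h5⟩
    · left
      apply dc_skeleton_pos h1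
      rw [mul_one, inv_mul_cancel]
      exact Subgroup.one_mem _
    · right
      exact dc_skeleton_neg h1 h4 (h5 n σ c hσ hgt)

/-! ### the simple reflections -/

lemma coe_mk_mul_inv (s b x : ↥(SpG m F)) :
    ((s * (b * x⁻¹) * s⁻¹ : ↥(SpG m F)) : GL (Fin (m + m)) F) =
      (s : GL (Fin (m + m)) F) * ((b : GL (Fin (m + m)) F) * (x : GL (Fin (m + m)) F)⁻¹) *
        (s : GL (Fin (m + m)) F)⁻¹ := rfl

lemma coe_conj (n x : ↥(SpG m F)) :
    ((n⁻¹ * x * n : ↥(SpG m F)) : GL (Fin (m + m)) F) =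
      (n : GL (Fin (m + m)) F)⁻¹ * (x : GL (Fin (m + m)) F) * (n : GL (Fin (m + m)) F) := rfl

lemma coe_mul3 (s x y : ↥(SpG m F)) :
    ((s * x * y : ↥(SpG m F)) : GL (Fin (m + m)) F) =
      (s : GL (Fin (m + m)) F) * (x : GL (Fin (m + m)) F) * (y : GL (Fin (m + m)) F) := rfl

lemma simpleData_short {k k' : Fin (m + m)} (hk : k'.val = k.val + 1) (hkm : k'.val < m)
    {s : ↥(SpG m F)} (hs : (s : GL (Fin (m + m)) F) = sS k k') : SimpleData s k k' := by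
  obtain ⟨h1, -⟩ := short_idx hk hkm
  intro b hb
  obtain ⟨t, ht⟩ := short_factor hk hkm h1 b.2 (mem_BG.mp hb)
  refine ⟨b * (⟨xsGL k k' h1 t, xsGL_mem _ _ _ _⟩ : ↥(SpG m F))⁻¹,
    ⟨xsGL k k' h1 t, xsGL_mem _ _ _ _⟩, by group, ?_, ?_, ?_⟩
  · rw [mem_BG, coe_mk_mul_inv, hs]
    exact ht
  · intro n σ c hn hlt
    rw [mem_BG, coe_conj, hn]
    exact conj_xsGL_mem_Bup (perm_comm_of_mem hn) c k k' h1 hlt t
  · by_cases ht0 : t = 0
    · left
      apply Subtype.ext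
      show xsGL k k' h1 t = 1
      rw [ht0, xsGL_zero]
    · right
      refine ⟨⟨xsGL k' k h1.symm (-t⁻¹), xsGL_mem _ _ _ _⟩, ?_, ?_⟩
      · rw [mem_BG, coe_mul3, hs]
        exact short_rank_one hk hkm h1 ht0
      · intro n σ c hn hgt
        rw [mem_BG, coe_conj, hn]
        show (monoGL σ c)⁻¹ * (xsGL k' k h1.symm (-t⁻¹))⁻¹ * monoGL σ c ∈ Bup (m + m) F
        rw [xsGL_inv]
        exact conj_xsGL_mem_Bup (perm_comm_of_mem hn) c k' k h1.symm hgt _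

lemma simpleData_long {k : Fin (m + m)} (hk : k.val + 1 = m)
    {s : ↥(SpG m F)} (hs : (s : GL (Fin (m + m)) F) = sL k) : SimpleData s k k.rev := by
  obtain ⟨h1, h2, h3, h4⟩ := long_idx hk
  intro b hb
  obtain ⟨t, ht⟩ := long_factor hk h2 (mem_BG.mp hb)
  refine ⟨b * (⟨xGL k k.rev h2 t, xGL_long_mem _ _⟩ : ↥(SpG m F))⁻¹,
    ⟨xGL k k.rev h2 t, xGL_long_mem _ _⟩, by group, ?_, ?_, ?_⟩
  · rw [mem_BG, coe_mk_mul_inv, hs]
    exact ht
  · intro n σ c hn hlt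
    rw [mem_BG, coe_conj, hn]
    exact conj_xGL_mem_Bup σ c k k.rev h2 hlt t
  · by_cases ht0 : t = 0
    · left
      apply Subtype.ext
      show xGL k k.rev h2 t = 1
      rw [ht0, xGL_zero]
    · right
      have hmem : xGL k.rev k h2.symm (-t⁻¹) ∈ SpG m F := by
        have := xGL_long_mem (F := F) k.rev (-t⁻¹)
        have e : ∀ (q : Fin (m + m)) (hq : k.rev ≠ q), q = k →
            xGL k.rev q hq (-t⁻¹) = xGL k.rev k h2.symm (-t⁻¹) := by
          intro q hq e; subst e; rfl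
        rw [e _ _ (Fin.rev_rev k)] at this
        exact this
      refine ⟨⟨xGL k.rev k h2.symm (-t⁻¹), hmem⟩, ?_, ?_⟩
      · rw [mem_BG, coe_mul3, hs]
        exact long_rank_one hk h2 ht0
      · intro n σ c hn hgt
        rw [mem_BG, coe_conj, hn]
        show (monoGL σ c)⁻¹ * (xGL k.rev k h2.symm (-t⁻¹))⁻¹ * monoGL σ c ∈ Bup (m + m) F
        rw [xGL_inv]
        exact conj_xGL_mem_Bup σ c k.rev k h2.symm hgt _

/-- the index pair of a simple reflection -/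
lemma exists_simpleData {s : ↥(SpG m F)} (hs : s ∈ SG m F) :
    ∃ k k' : Fin (m + m), k'.val = k.val + 1 ∧ k.val < m ∧ SimpleData s k k' := by
  rcases hs with ⟨k, k', hk, hkm, hs⟩ | ⟨k, hk, hs⟩
  · exact ⟨k, k', hk, by omega, simpleData_short hk hkm hs⟩
  · obtain ⟨h1, h2, h3, h4⟩ := long_idx hk
    exact ⟨k, k.rev, h1, h3, simpleData_long hk hs⟩

/-! ### the remaining conditions, except generation -/

/-- `s` is the simple reflection attached to the position `k` -/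
def IsReflAt (s : ↥(SpG m F)) (k : Fin (m + m)) : Prop :=
  (∃ k' : Fin (m + m), k'.val = k.val + 1 ∧ k'.val < m ∧ (s : GL (Fin (m + m)) F) = sS k k') ∨
    (k.val + 1 = m ∧ (s : GL (Fin (m + m)) F) = sL k)

lemma exists_isReflAt {s : ↥(SpG m F)} (hs : s ∈ SG m F) : ∃ k, IsReflAt s k := by
  rcases hs with ⟨k, k', hk, hkm, hs⟩ | ⟨k, hk, hs⟩
  · exact ⟨k, Or.inl ⟨k', hk, hkm, hs⟩⟩
  · exact ⟨k, Or.inr ⟨hk, hs⟩⟩

lemma IsReflAt.unique {s s' : ↥(SpG m F)} {k : Fin (m + m)} (h : IsReflAt s k)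
    (h' : IsReflAt s' k) : s = s' := by
  apply Subtype.ext
  rcases h with ⟨k', hk, hkm, hs⟩ | ⟨hk, hs⟩
  · rcases h' with ⟨k'', hk', hkm', hs'⟩ | ⟨hk', hs'⟩
    · have : k' = k'' := Fin.ext (by omega)
      subst this
      rw [hs, hs']
    · omega
  · rcases h' with ⟨k'', hk', hkm', hs'⟩ | ⟨hk', hs'⟩
    · omega
    · rw [hs, hs']

lemma IsReflAt.perm {s : ↥(SpG m F)} {k : Fin (m + m)} (h : IsReflAt s k) :
    ∃ (σ : Perm (Fin (m + m))) (c : Fin (m + m) → Fˣ), (s : GL (Fin (m + m)) F) = monoGL σ c ∧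
      (σ k).val = k.val + 1 ∧ σ (σ k) = k ∧ (∀ j : Fin (m + m), j.val < k.val → σ j = j) ∧
      ∃ x : ↥(SpG m F), x ∈ BG m F ∧
        ((x : GL (Fin (m + m)) F) : Matrix (Fin (m + m)) (Fin (m + m)) F) k (σ k) ≠ 0 := by
  rcases h with ⟨k', hk, hkm, hs⟩ | ⟨hk, hs⟩
  · obtain ⟨h1, h2, h3, h4, h5, h6, h7, h8⟩ := short_idx hk hkm
    have e1 : (swap k k' * swap k'.rev k.rev) k = k' := by
      rw [Perm.mul_apply, swap_apply_of_ne_of_ne h2 h3, swap_apply_left]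
    have e2 : (swap k k' * swap k'.rev k.rev) k' = k := by
      rw [Perm.mul_apply, swap_apply_of_ne_of_ne h4 h5, swap_apply_right]
    have hlt : k < k' := by rw [Fin.lt_def]; omega
    have hlt' : k'.rev < k.rev := by rw [Fin.lt_def]; omega
    refine ⟨swap k k' * swap k'.rev k.rev, fun _ => 1, ?_, ?_, ?_, ?_, ?_⟩
    · rw [hs, sS_eq_monoGL]
    · rw [e1, hk]
    · rw [e1, e2]
    · intro j hj
      have hv1 := Fin.val_rev k
      have hv2 := Fin.val_rev k'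
      have g1 : j ≠ k'.rev := by apply Fin.ne_of_val_ne; omega
      have g2 : j ≠ k.rev := by apply Fin.ne_of_val_ne; omega
      have g3 : j ≠ k := by apply Fin.ne_of_val_ne; omega
      have g4 : j ≠ k' := by apply Fin.ne_of_val_ne; omega
      rw [Perm.mul_apply, swap_apply_of_ne_of_ne g1 g2, swap_apply_of_ne_of_ne g3 g4]
    · refine ⟨⟨xsGL k k' h1 1, xsGL_mem _ _ _ _⟩, ?_, ?_⟩
      · rw [mem_BG]
        show xsGL k k' h1 1 ∈ Bup (m + m) F
        unfold xsGL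
        exact Subgroup.mul_mem _ (xGL_mem_Bup hlt _) (xGL_mem_Bup hlt' _)
      · rw [e1]
        show ((xsGL k k' h1 (1 : F) : GL (Fin (m + m)) F) :
          Matrix (Fin (m + m)) (Fin (m + m)) F) k k' ≠ 0
        rw [xsGL_apply, if_neg h1, if_neg (fun h => h2 h.1), if_pos ⟨rfl, rfl⟩, zero_add, zero_add]
        exact one_ne_zero
  · obtain ⟨h1, h2, h3, h4⟩ := long_idx hk
    have hlt : k < k.rev := by rw [Fin.lt_def]; omega
    refine ⟨swap k k.rev, (fun a => if a = k then -1 else 1), ?_, ?_, ?_, ?_, ?_⟩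
    · rw [hs, sL_eq_monoGL]
    · rw [swap_apply_left, h1]
    · rw [swap_apply_left, swap_apply_right]
    · intro j hj
      have g3 : j ≠ k := by apply Fin.ne_of_val_ne; omega
      have g4 : j ≠ k.rev := by apply Fin.ne_of_val_ne; omega
      rw [swap_apply_of_ne_of_ne g3 g4]
    · refine ⟨⟨xGL k k.rev h2 1, xGL_long_mem _ _⟩, ?_, ?_⟩
      · rw [mem_BG]
        exact xGL_mem_Bup hlt _
      · rw [swap_apply_left]
        show ((xGL k k.rev h2 (1 : F) : GL (Fin (m + m)) F) :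
          Matrix (Fin (m + m)) (Fin (m + m)) F) k k.rev ≠ 0
        rw [coe_xGL, transvection_apply', if_neg h2, if_pos ⟨rfl, rfl⟩, zero_add]
        exact one_ne_zero

lemma SG_sq_mem {s : ↥(SpG m F)} (hs : s ∈ SG m F) : s * s ∈ BG m F := by
  obtain ⟨k, hk⟩ := exists_isReflAt hs
  obtain ⟨σ, c, hsσ, h1, h2, h3, -⟩ := hk.perm
  rw [mem_BG]
  show (s : GL (Fin (m + m)) F) * (s : GL (Fin (m + m)) F) ∈ Bup (m + m) F
  rcases hk with ⟨k', hk, hkm, hs'⟩ | ⟨hk, hs'⟩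
  · rw [hs', sS_mul_self hk hkm]
    exact Subgroup.one_mem _
  · rw [hs', sL_eq_monoGL, monoGL_mul, monoGL_mem_Bup_iff, Equiv.swap_mul_self]

lemma SG_inj {s s' : ↥(SpG m F)} (hs : s ∈ SG m F) (hs' : s' ∈ SG m F) (h : s⁻¹ * s' ∈ BG m F) :
    s = s' := by
  obtain ⟨k, hk⟩ := exists_isReflAt hs
  obtain ⟨l, hl⟩ := exists_isReflAt hs'
  obtain ⟨σ, c, hsσ, h1, h2, h3, -⟩ := hk.perm
  obtain ⟨τ, d, hsτ, g1, g2, g3, -⟩ := hl.perm
  rw [mem_BG] at h
  have h' : (s : GL (Fin (m + m)) F)⁻¹ * (s' : GL (Fin (m + m)) F) ∈ Bup (m + m) F := h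
  rw [hsσ, hsτ, monoGL_inv, monoGL_mul, monoGL_mem_Bup_iff] at h'
  have hστ : σ = τ := by
    rw [inv_mul_eq_one] at h'
    exact h'
  subst hστ
  have hkl : k = l := by
    apply Fin.ext
    by_contra hne
    rcases lt_or_gt_of_ne hne with hlt | hgt
    · have := g3 k hlt
      rw [this] at h1
      omega
    · have := h3 l hgt
      rw [this] at g1
      omega
  subst hkl
  exact hk.unique hl

lemma SG_conj_ne {s : ↥(SpG m F)} (hs : s ∈ SG m F) :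
    (fun b : ↥(SpG m F) => s * b * s) '' (BG m F : Set ↥(SpG m F)) ≠ (BG m F : Set ↥(SpG m F)) := by
  obtain ⟨k, hk⟩ := exists_isReflAt hs
  obtain ⟨σ, c, hsσ, h1, h2, h3, x, hxB, hx⟩ := hk.perm
  intro heq
  have hmem : s * x * s ∈ (BG m F : Set ↥(SpG m F)) := by
    rw [← heq]
    exact ⟨x, hxB, rfl⟩
  have hmem' : (s : GL (Fin (m + m)) F) * (x : GL (Fin (m + m)) F) * (s : GL (Fin (m + m)) F) ∈
      Bup (m + m) F := mem_BG.mp hmem
  have hlt : k < σ k := by rw [Fin.lt_def]; omega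
  have := (mem_Bup.mp hmem') (σ k) k hlt
  rw [hsσ, monoGL_mul_mul_apply, Equiv.symm_apply_apply] at this
  have hc : ((c k : Fˣ) : F) ≠ 0 := Units.ne_zero _
  rcases mul_eq_zero.mp this with h4 | h4
  · rcases mul_eq_zero.mp h4 with h5 | h5
    · exact hc h5
    · exact hx h5
  · exact hc h4

lemma NG_conj_mem {n : ↥(SpG m F)} (hn : n ∈ NG m F) {t : ↥(SpG m F)}
    (ht : t ∈ BG m F ⊓ NG m F) : n * t * n⁻¹ ∈ BG m F := by
  rw [BG_inf_NG, mem_TG] at ht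
  obtain ⟨σ, c, hσ⟩ := exists_monoGL hn
  obtain ⟨d, hd⟩ := ht
  rw [mem_BG]
  show (n : GL (Fin (m + m)) F) * (t : GL (Fin (m + m)) F) * (n : GL (Fin (m + m)) F)⁻¹ ∈
    Bup (m + m) F
  rw [hσ, hd, monoGL_inv, monoGL_mul, monoGL_mul, monoGL_mem_Bup_iff]
  simp

end Cfsg.Agent.Lib.Helper15.SpBN
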