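import Mathlib
import Cfsg.Agent.Lib.Helper6.GLBND
import Cfsg.Agent.Lib.Helper16.FusSUA

/-!
helper15: the general unitary group `GUJ σ n` inside `GL (Fin n) F` for the hermitian form with
antidiagonal Gram matrix (`σ` an involution of `F`); root elements, monomial elements, and the
relations between the entries of an upper triangular unitary matrix.
-/

set_option autoImplicit false

namespace Cfsg.Agent.Lib.Helper15.UnBN

open Matrix Equiv Cfsg.Agent.Lib.Helper6.GLBN
open Cfsg.Agent.Lib.Helper16.FusSU (adj adj_apply adj_mul adj_one)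

variable {n : ℕ} {F : Type*} [Field F]

/-- the unitary group of the antidiagonal hermitian form, as a subgroup of `GL` -/
def GUJ (σ : F →+* F) (n : ℕ) : Subgroup (GL (Fin n) F) where
  carrier := {g | (g : Matrix (Fin n) (Fin n) F) * adj σ (g : Matrix (Fin n) (Fin n) F) = 1}
  mul_mem' := by
    intro a b ha hb
    show ((a * b : GL (Fin n) F) : Matrix (Fin n) (Fin n) F) *
      adj σ ((a * b : GL (Fin n) F) : Matrix (Fin n) (Fin n) F) = 1
    have ha' : (a : Matrix (Fin n) (Fin n) F) * adj σ (a : Matrix (Fin n) (Fin n) F) = 1 := ha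
    have hb' : (b : Matrix (Fin n) (Fin n) F) * adj σ (b : Matrix (Fin n) (Fin n) F) = 1 := hb
    rw [Units.val_mul, adj_mul, Matrix.mul_assoc,
      ← Matrix.mul_assoc (b : Matrix (Fin n) (Fin n) F), hb', Matrix.one_mul, ha']
  one_mem' := by
    show ((1 : GL (Fin n) F) : Matrix (Fin n) (Fin n) F) *
      adj σ ((1 : GL (Fin n) F) : Matrix (Fin n) (Fin n) F) = 1
    rw [Units.val_one, adj_one, Matrix.one_mul]
  inv_mem' := by
    intro a ha
    have ha' : (a : Matrix (Fin n) (Fin n) F) * adj σ (a : Matrix (Fin n) (Fin n) F) = 1 := ha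
    have h1 : ((a⁻¹ : GL (Fin n) F) : Matrix (Fin n) (Fin n) F) =
        adj σ (a : Matrix (Fin n) (Fin n) F) := by
      have h0 : ((a⁻¹ : GL (Fin n) F) : Matrix (Fin n) (Fin n) F) *
          (a : Matrix (Fin n) (Fin n) F) = 1 := by
        rw [← Units.val_mul, inv_mul_cancel, Units.val_one]
      calc ((a⁻¹ : GL (Fin n) F) : Matrix (Fin n) (Fin n) F)
          = ((a⁻¹ : GL (Fin n) F) : Matrix (Fin n) (Fin n) F) *
            ((a : Matrix (Fin n) (Fin n) F) * adj σ (a : Matrix (Fin n) (Fin n) F)) := by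
            rw [ha', Matrix.mul_one]
        _ = adj σ (a : Matrix (Fin n) (Fin n) F) := by
            rw [← Matrix.mul_assoc, h0, Matrix.one_mul]
    show ((a⁻¹ : GL (Fin n) F) : Matrix (Fin n) (Fin n) F) *
      adj σ ((a⁻¹ : GL (Fin n) F) : Matrix (Fin n) (Fin n) F) = 1
    rw [h1]
    have h2 := congrArg (adj σ) ha'
    rw [adj_mul, adj_one] at h2
    exact _root_.mul_eq_one_comm.mp h2

variable {σ : F →+* F}

lemma mem_GUJ {g : GL (Fin n) F} :
    g ∈ GUJ σ n ↔ (g : Matrix (Fin n) (Fin n) F) * adj σ (g : Matrix (Fin n) (Fin n) F) = 1 :=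
  Iff.rfl

lemma GUJ_adj_mul {g : GL (Fin n) F} (hg : g ∈ GUJ σ n) :
    adj σ (g : Matrix (Fin n) (Fin n) F) * (g : Matrix (Fin n) (Fin n) F) = 1 :=
  _root_.mul_eq_one_comm.mp (mem_GUJ.mp hg)

lemma GUJ_inv_coe {g : GL (Fin n) F} (hg : g ∈ GUJ σ n) :
    ((g⁻¹ : GL (Fin n) F) : Matrix (Fin n) (Fin n) F) = adj σ (g : Matrix (Fin n) (Fin n) F) := by
  have h0 : ((g⁻¹ : GL (Fin n) F) : Matrix (Fin n) (Fin n) F) *
      (g : Matrix (Fin n) (Fin n) F) = 1 := by
    rw [← Units.val_mul, inv_mul_cancel, Units.val_one]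
  calc ((g⁻¹ : GL (Fin n) F) : Matrix (Fin n) (Fin n) F)
      = ((g⁻¹ : GL (Fin n) F) : Matrix (Fin n) (Fin n) F) *
        ((g : Matrix (Fin n) (Fin n) F) * adj σ (g : Matrix (Fin n) (Fin n) F)) := by
        rw [mem_GUJ.mp hg, Matrix.mul_one]
    _ = adj σ (g : Matrix (Fin n) (Fin n) F) := by
        rw [← Matrix.mul_assoc, h0, Matrix.one_mul]

/-- the entries of `adj g * g = 1` -/
lemma GUJ_entry {g : GL (Fin n) F} (hg : g ∈ GUJ σ n) (i j : Fin n) :
    ∑ l, σ ((g : Matrix (Fin n) (Fin n) F) l.rev i.rev) * (g : Matrix (Fin n) (Fin n) F) l j =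
      if i = j then 1 else 0 := by
  have h := congrFun (congrFun (GUJ_adj_mul hg) i) j
  rw [Matrix.mul_apply, Matrix.one_apply] at h
  rw [← h]
  apply Finset.sum_congr rfl
  intro l _
  rw [adj_apply]

/-- the entries of `g * adj g = 1` -/
lemma GUJ_entry' {g : GL (Fin n) F} (hg : g ∈ GUJ σ n) (i j : Fin n) :
    ∑ l, (g : Matrix (Fin n) (Fin n) F) i l * σ ((g : Matrix (Fin n) (Fin n) F) j.rev l.rev) =
      if i = j then 1 else 0 := by
  have h := congrFun (congrFun (mem_GUJ.mp hg) i) j
  rw [Matrix.mul_apply, Matrix.one_apply] at h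
  rw [← h]
  apply Finset.sum_congr rfl
  intro l _
  rw [adj_apply]

/-! ### transvections -/

lemma adj_transvection (p q : Fin n) (t : F) :
    adj σ (transvection p q t) = transvection q.rev p.rev (σ t) := by
  ext i j
  rw [adj_apply, transvection_apply', transvection_apply']
  have e1 : (j.rev = i.rev) ↔ (i = j) := by
    constructor
    · intro h; exact (Fin.rev_injective h).symm
    · intro h; rw [h]
  have e2 : (j.rev = p ∧ i.rev = q) ↔ (i = q.rev ∧ j = p.rev) := by
    constructor
    · rintro ⟨h1, h2⟩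
      exact ⟨by rw [← h2, Fin.rev_rev], by rw [← h1, Fin.rev_rev]⟩
    · rintro ⟨h1, h2⟩
      exact ⟨by rw [h2, Fin.rev_rev], by rw [h1, Fin.rev_rev]⟩
  by_cases h1 : i = j
  · by_cases h2 : i = q.rev ∧ j = p.rev
    · rw [if_pos (e1.mpr h1), if_pos (e2.mpr h2), if_pos h1, if_pos h2, map_add, map_one]
    · rw [if_pos (e1.mpr h1), if_neg (fun h => h2 (e2.mp h)), if_pos h1, if_neg h2, map_add,
        map_one, map_zero]
  · by_cases h2 : i = q.rev ∧ j = p.rev
    · rw [if_neg (fun h => h1 (e1.mp h)), if_pos (e2.mpr h2), if_neg h1, if_pos h2, map_add,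
        map_zero]
    · rw [if_neg (fun h => h1 (e1.mp h)), if_neg (fun h => h2 (e2.mp h)), if_neg h1, if_neg h2,
        map_add, map_zero]

lemma transvection_comm {p q p' q' : Fin n} (h1 : q ≠ p') (h2 : q' ≠ p) (a b : F) :
    transvection p q a * transvection p' q' b = transvection p' q' b * transvection p q a := by
  unfold transvection
  have e1 : Matrix.single p q a * Matrix.single p' q' b = 0 :=
    Matrix.single_mul_single_of_ne _ _ _ _ h1 _
  have e2 : Matrix.single p' q' b * Matrix.single p q a = 0 :=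
    Matrix.single_mul_single_of_ne _ _ _ _ h2 _
  simp only [Matrix.add_mul, Matrix.mul_add, Matrix.one_mul, Matrix.mul_one, e1, e2]
  abel

lemma rev_ne_rev {p q : Fin n} (h : p ≠ q) : q.rev ≠ p.rev := by
  intro h1
  exact h (Fin.rev_injective h1).symm

/-! ### root elements -/

/-- long root elements are unitary -/
lemma xGL_long_mem {p : Fin n} (hp : p ≠ p.rev) {t : F} (ht : t + σ t = 0) :
    xGL p p.rev hp t ∈ GUJ σ n := by
  rw [mem_GUJ, coe_xGL, adj_transvection, Fin.rev_rev,
    transvection_mul_transvection_same _ _ hp, ht, transvection_zero]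

/-- short root elements, in `GL` -/
def xsU (σ : F →+* F) (p q : Fin n) (hpq : p ≠ q) (t : F) : GL (Fin n) F :=
  xGL p q hpq t * xGL q.rev p.rev (rev_ne_rev hpq) (-σ t)

lemma coe_xsU (p q : Fin n) (hpq : p ≠ q) (t : F) :
    ((xsU σ p q hpq t : GL (Fin n) F) : Matrix (Fin n) (Fin n) F) =
      transvection p q t * transvection q.rev p.rev (-σ t) := rfl

lemma xsU_mem (hσ : ∀ x, σ (σ x) = x) {p q : Fin n} (hpq : p ≠ q) (hp : p ≠ p.rev)
    (hq : q ≠ q.rev) (t : F) : xsU σ p q hpq t ∈ GUJ σ n := by
  rw [mem_GUJ, coe_xsU, adj_mul, adj_transvection, adj_transvection, Fin.rev_rev, Fin.rev_rev,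
    map_neg, hσ]
  have hc : transvection q.rev p.rev (-σ t) * transvection p q (-t) =
      transvection p q (-t) * transvection q.rev p.rev (-σ t) :=
    transvection_comm hp.symm hq _ _
  calc transvection p q t * transvection q.rev p.rev (-σ t) *
        (transvection p q (-t) * transvection q.rev p.rev (σ t))
      = transvection p q t * (transvection q.rev p.rev (-σ t) * transvection p q (-t)) *
        transvection q.rev p.rev (σ t) := by simp only [Matrix.mul_assoc]
    _ = (transvection p q t * transvection p q (-t)) *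
        (transvection q.rev p.rev (-σ t) * transvection q.rev p.rev (σ t)) := by
        rw [hc]; simp only [Matrix.mul_assoc]
    _ = 1 := by
        rw [transvection_mul_transvection_same _ _ hpq,
          transvection_mul_transvection_same _ _ (rev_ne_rev hpq), add_neg_cancel,
          neg_add_cancel, transvection_zero, transvection_zero, Matrix.one_mul]

lemma xsU_apply {p q : Fin n} (hpq : p ≠ q) (hq : q ≠ q.rev) (t : F) (i j : Fin n) :
    ((xsU σ p q hpq t : GL (Fin n) F) : Matrix (Fin n) (Fin n) F) i j =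
      (if i = j then 1 else 0) + (if i = q.rev ∧ j = p.rev then -σ t else 0)
        + (if i = p ∧ j = q then t else 0) := by
  rw [coe_xsU, transvection_mul_apply', transvection_apply', transvection_apply']
  have h1 : ¬ (q = q.rev ∧ j = p.rev) := fun h => hq h.1
  rw [if_neg h1, add_zero]
  by_cases hi : i = p
  · by_cases hj : j = q
    · simp [hi, hj]
    · have h2 : ¬ (q = j) := fun h => hj h.symm
      simp [hi, hj, h2]
  · simp [hi]

lemma xsU_zero (p q : Fin n) (hpq : p ≠ q) : xsU σ p q hpq (0 : F) = 1 := by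
  unfold xsU
  rw [map_zero, neg_zero, xGL_zero, xGL_zero, mul_one]

lemma xsU_mul {p q : Fin n} (hpq : p ≠ q) (hp : p ≠ p.rev) (hq : q ≠ q.rev) (t u : F) :
    xsU σ p q hpq t * xsU σ p q hpq u = xsU σ p q hpq (t + u) := by
  apply Units.ext
  rw [Units.val_mul, coe_xsU, coe_xsU, coe_xsU]
  have hc : transvection q.rev p.rev (-σ t) * transvection p q u =
      transvection p q u * transvection q.rev p.rev (-σ t) :=
    transvection_comm hp.symm hq _ _
  calc transvection p q t * transvection q.rev p.rev (-σ t) *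
        (transvection p q u * transvection q.rev p.rev (-σ u))
      = transvection p q t * (transvection q.rev p.rev (-σ t) *
        transvection p q u) * transvection q.rev p.rev (-σ u) := by
        simp only [Matrix.mul_assoc]
    _ = (transvection p q t * transvection p q u) *
        (transvection q.rev p.rev (-σ t) * transvection q.rev p.rev (-σ u)) := by
        rw [hc]; simp only [Matrix.mul_assoc]
    _ = _ := by
        rw [transvection_mul_transvection_same _ _ hpq,
          transvection_mul_transvection_same _ _ (rev_ne_rev hpq), map_add]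
        congr 2
        ring

lemma xsU_inv {p q : Fin n} (hpq : p ≠ q) (hp : p ≠ p.rev) (hq : q ≠ q.rev) (t : F) :
    (xsU σ p q hpq t)⁻¹ = xsU σ p q hpq (-t) := by
  rw [inv_eq_iff_mul_eq_one, xsU_mul hpq hp hq, add_neg_cancel, xsU_zero]

/-! ### monomial elements -/

lemma mono_mul_adj_apply (π : Perm (Fin n)) (c : Fin n → F) (i j : Fin n) :
    (mono π c * adj σ (mono π c)) i j =
      c (π.symm i) * σ (mono π c j.rev (π.symm i).rev) := by
  rw [mono_mul_apply, adj_apply]

lemma monoGL_mem_GUJ_iff (π : Perm (Fin n)) (c : Fin n → Fˣ) :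
    monoGL π c ∈ GUJ σ n ↔ (∀ a, π a.rev = (π a).rev) ∧
      ∀ a, (c a : F) * σ (c a.rev : F) = 1 := by
  rw [mem_GUJ, coe_monoGL]
  constructor
  · intro h
    have key : ∀ a, π a.rev = (π a).rev ∧ (c a : F) * σ (c a.rev : F) = 1 := by
      intro a
      have h1 := congrFun (congrFun h (π a)) (π a)
      rw [mono_mul_adj_apply, Matrix.one_apply_eq, Equiv.symm_apply_apply, mono_apply] at h1
      by_cases h2 : (π a).rev = π a.rev
      · rw [if_pos h2] at h1
        exact ⟨h2.symm, h1⟩
      · rw [if_neg h2, map_zero, mul_zero] at h1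
        exact absurd h1 zero_ne_one
    exact ⟨fun a => (key a).1, fun a => (key a).2⟩
  · rintro ⟨h1, h2⟩
    ext i j
    obtain ⟨a, rfl⟩ : ∃ a, i = π a := ⟨π.symm i, by simp⟩
    rw [mono_mul_adj_apply, Equiv.symm_apply_apply, mono_apply, Matrix.one_apply]
    by_cases hj : π a = j
    · subst hj
      rw [if_pos rfl, if_pos (h1 a).symm]
      exact h2 a
    · rw [if_neg hj, if_neg, map_zero, mul_zero]
      intro h3
      apply hj
      rw [h1 a] at h3
      exact (Fin.rev_injective h3).symm

/-! ### entries of upper triangular unitary matrices -/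

/-- the diagonal of an upper triangular unitary matrix -/
lemma diag_mul_diag_rev {g : GL (Fin n) F} (hg : g ∈ GUJ σ n) (hb : g ∈ Bup n F) (i : Fin n) :
    (g : Matrix (Fin n) (Fin n) F) i i * σ ((g : Matrix (Fin n) (Fin n) F) i.rev i.rev) = 1 := by
  have h := GUJ_entry' hg i i
  rw [if_pos rfl, Finset.sum_eq_single i] at h
  · exact h
  · intro l _ hl
    rcases lt_or_gt_of_ne hl with hlt | hgt
    · rw [(mem_Bup.mp hb) i l hlt, zero_mul]
    · rw [(mem_Bup.mp hb) i.rev l.rev (Fin.rev_lt_rev.mpr hgt), map_zero, mul_zero]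
  · intro h; exact absurd (Finset.mem_univ _) h

/-- vanishing of the mirror entry -/
lemma mirror_entry_zero {g : GL (Fin n) F} (hg : g ∈ GUJ σ n) (hb : g ∈ Bup n F)
    {k k' : Fin n} (hk : k'.val = k.val + 1)
    (h0 : (g : Matrix (Fin n) (Fin n) F) k k' = 0) :
    (g : Matrix (Fin n) (Fin n) F) k'.rev k.rev = 0 := by
  have hne : k ≠ k' := by
    apply Fin.ne_of_val_ne; omega
  have h := GUJ_entry hg k k'
  rw [if_neg hne, Finset.sum_eq_single k'] at h
  · have h2 := diag_ne_zero hb k'
    rcases mul_eq_zero.mp h with h3 | h3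
    · exact (map_eq_zero σ).mp h3
    · exact absurd h3 h2
  · intro l _ hl
    by_cases h1 : l = k
    · rw [h1, h0, mul_zero]
    · by_cases h2 : l < k
      · have : k.rev < l.rev := Fin.rev_lt_rev.mpr h2
        rw [(mem_Bup.mp hb) l.rev k.rev this, map_zero, zero_mul]
      · have h3 : k' < l := by
          rw [Fin.lt_def] at h2 ⊢
          have h5 : l.val ≠ k.val := fun h => h1 (Fin.ext h)
          have h6 : l.val ≠ k'.val := fun h => hl (Fin.ext h)
          omega
        rw [(mem_Bup.mp hb) l k' h3, mul_zero]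
  · intro h; exact absurd (Finset.mem_univ _) h

/-- the relation satisfied by a row of an upper triangular unitary matrix next to the middle -/
lemma row_relation {g : GL (Fin n) F} (hg : g ∈ GUJ σ n)
    {k : Fin n} (hk : k ≠ k.rev) :
    ∑ l, (g : Matrix (Fin n) (Fin n) F) k l * σ ((g : Matrix (Fin n) (Fin n) F) k l.rev) = 0 := by
  have h := GUJ_entry' hg k k.rev
  rw [if_neg hk] at h
  rw [← h]
  apply Finset.sum_congr rfl
  intro l _
  rw [Fin.rev_rev]

end Cfsg.Agent.Lib.Helper15.UnBN
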