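import Mathlib
import Cfsg.Agent.Lib.Helper15.UnBNA
import Cfsg.Agent.Lib.Helper15.SpBNC
import Cfsg.Agent.Lib.Helper16.FusSUD

/-!
helper15: embedding `GL_r → GL_n` along an injection of the index sets, and the `3 × 3` matrices
needed for the last simple root of the unitary group in odd dimension.
-/

set_option autoImplicit false

namespace Cfsg.Agent.Lib.Helper15.UnBN

open Matrix Equiv Cfsg.Agent.Lib.Helper6.GLBN
open Cfsg.Agent.Lib.Helper16.FusSU (adj adj_apply adj_mul adj_one emb Pm Pm_apply emb_one emb_mul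
  emb_apply_mem emb_apply_of_not_left emb_apply_of_not_right Pm_transpose_mul)
open Cfsg.Agent.Lib.Helper15.SpBN (conj_monoGL_mem_Bup_iff)

variable {n r : ℕ} {F : Type*} [Field F]

/-- the embedding of `GL_r` into `GL_n` -/
def embGL (ι : Fin r → Fin n) (hι : Function.Injective ι) : GL (Fin r) F →* GL (Fin n) F where
  toFun M :=
    { val := emb ι (M : Matrix (Fin r) (Fin r) F)
      inv := emb ι ((M⁻¹ : GL (Fin r) F) : Matrix (Fin r) (Fin r) F)
      val_inv := by rw [← emb_mul hι, ← Units.val_mul, mul_inv_cancel, Units.val_one, emb_one]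
      inv_val := by rw [← emb_mul hι, ← Units.val_mul, inv_mul_cancel, Units.val_one, emb_one] }
  map_one' := Units.ext (emb_one ι)
  map_mul' a b := Units.ext (emb_mul hι _ _)

lemma coe_embGL (ι : Fin r → Fin n) (hι : Function.Injective ι) (M : GL (Fin r) F) :
    ((embGL ι hι M : GL (Fin n) F) : Matrix (Fin n) (Fin n) F) =
      emb ι (M : Matrix (Fin r) (Fin r) F) := rfl

lemma mul_Pm_apply (ι : Fin r → Fin n) (X : Matrix (Fin n) (Fin n) F) (i : Fin n) (β : Fin r) :
    (X * Pm F ι) i β = X i (ι β) := by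
  rw [Matrix.mul_apply, Finset.sum_eq_single (ι β)]
  · rw [Pm_apply, if_pos rfl, mul_one]
  · intro l _ hl
    rw [Pm_apply, if_neg hl, mul_zero]
  · intro h; exact absurd (Finset.mem_univ _) h

lemma Pm_transpose_mul_apply (ι : Fin r → Fin n) (X : Matrix (Fin n) (Fin n) F) (α : Fin r)
    (j : Fin n) : ((Pm F ι)ᵀ * X) α j = X (ι α) j := by
  rw [Matrix.mul_apply, Finset.sum_eq_single (ι α)]
  · rw [Matrix.transpose_apply, Pm_apply, if_pos rfl, one_mul]
  · intro l _ hl
    rw [Matrix.transpose_apply, Pm_apply, if_neg hl, zero_mul]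
  · intro h; exact absurd (Finset.mem_univ _) h

lemma emb_mul_Pm {ι : Fin r → Fin n} (hι : Function.Injective ι) (M : Matrix (Fin r) (Fin r) F) :
    emb ι M * Pm F ι = Pm F ι * M := by
  unfold emb
  rw [Matrix.add_mul, Matrix.one_mul, Matrix.mul_assoc, Pm_transpose_mul hι, Matrix.mul_one,
    Matrix.mul_sub, Matrix.mul_one]
  abel

lemma Pm_transpose_mul_emb {ι : Fin r → Fin n} (hι : Function.Injective ι)
    (M : Matrix (Fin r) (Fin r) F) : (Pm F ι)ᵀ * emb ι M = M * (Pm F ι)ᵀ := by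
  unfold emb
  rw [Matrix.mul_add, Matrix.mul_one, ← Matrix.mul_assoc, ← Matrix.mul_assoc, Pm_transpose_mul hι,
    Matrix.one_mul, Matrix.sub_mul, Matrix.one_mul]
  abel

/-- right multiplication by an embedded matrix, columns in the range -/
lemma mul_emb_apply_mem {ι : Fin r → Fin n} (hι : Function.Injective ι)
    (A : Matrix (Fin n) (Fin n) F) (M : Matrix (Fin r) (Fin r) F) (i : Fin n) (β : Fin r) :
    (A * emb ι M) i (ι β) = ∑ α, A i (ι α) * M α β := by
  rw [← mul_Pm_apply ι (A * emb ι M) i β, Matrix.mul_assoc, emb_mul_Pm hι, ← Matrix.mul_assoc,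
    Matrix.mul_apply]
  apply Finset.sum_congr rfl
  intro α _
  rw [mul_Pm_apply]

/-- right multiplication by an embedded matrix, columns outside the range -/
lemma mul_emb_apply_not (ι : Fin r → Fin n)
    (A : Matrix (Fin n) (Fin n) F) (M : Matrix (Fin r) (Fin r) F) (i : Fin n) {j : Fin n}
    (hj : ∀ α, j ≠ ι α) : (A * emb ι M) i j = A i j := by
  rw [Matrix.mul_apply, Finset.sum_eq_single j]
  · rw [emb_apply_of_not_right _ _ _ hj, Matrix.one_apply_eq, mul_one]
  · intro l _ hl
    rw [emb_apply_of_not_right _ _ _ hj, Matrix.one_apply_ne hl, mul_zero]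
  · intro h; exact absurd (Finset.mem_univ _) h

/-- left multiplication by an embedded matrix, rows in the range -/
lemma emb_mul_apply_mem {ι : Fin r → Fin n} (hι : Function.Injective ι)
    (A : Matrix (Fin n) (Fin n) F) (M : Matrix (Fin r) (Fin r) F) (α : Fin r) (j : Fin n) :
    (emb ι M * A) (ι α) j = ∑ β, M α β * A (ι β) j := by
  rw [← Pm_transpose_mul_apply ι (emb ι M * A) α j, ← Matrix.mul_assoc, Pm_transpose_mul_emb hι,
    Matrix.mul_assoc, Matrix.mul_apply]
  apply Finset.sum_congr rfl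
  intro β _
  rw [Pm_transpose_mul_apply]

/-- left multiplication by an embedded matrix, rows outside the range -/
lemma emb_mul_apply_not (ι : Fin r → Fin n)
    (A : Matrix (Fin n) (Fin n) F) (M : Matrix (Fin r) (Fin r) F) {i : Fin n} (j : Fin n)
    (hi : ∀ α, i ≠ ι α) : (emb ι M * A) i j = A i j := by
  rw [Matrix.mul_apply, Finset.sum_eq_single i]
  · rw [emb_apply_of_not_left _ _ hi, Matrix.one_apply_eq, one_mul]
  · intro l _ hl
    rw [emb_apply_of_not_left _ _ hi, Matrix.one_apply_ne (Ne.symm hl), zero_mul]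
  · intro h; exact absurd (Finset.mem_univ _) h

/-- an entry of an embedded matrix off the diagonal is an entry of the small matrix -/
lemma emb_apply_ne {ι : Fin r → Fin n} (hι : Function.Injective ι) (M : Matrix (Fin r) (Fin r) F)
    {i j : Fin n} (hij : i ≠ j) (h : emb ι M i j ≠ 0) :
    ∃ α β, α ≠ β ∧ i = ι α ∧ j = ι β ∧ M α β ≠ 0 := by
  by_cases hi : ∃ α, i = ι α
  · obtain ⟨α, rfl⟩ := hi
    by_cases hj : ∃ β, j = ι β
    · obtain ⟨β, rfl⟩ := hj
      rw [emb_apply_mem hι] at h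
      exact ⟨α, β, fun e => hij (by rw [e]), rfl, rfl, h⟩
    · exfalso
      apply h
      rw [emb_apply_of_not_right _ _ _ (fun β e => hj ⟨β, e⟩), Matrix.one_apply_ne hij]
  · exfalso
    apply h
    rw [emb_apply_of_not_left _ _ (fun α e => hi ⟨α, e⟩), Matrix.one_apply_ne hij]

/-- embedded upper triangular matrices are upper triangular -/
lemma embGL_mem_Bup {ι : Fin r → Fin n} (hι : StrictMono ι) {M : GL (Fin r) F}
    (hM : M ∈ Bup r F) : embGL ι hι.injective M ∈ Bup n F := by
  rw [mem_Bup]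
  intro i j hji
  by_contra h
  rw [coe_embGL] at h
  obtain ⟨α, β, hαβ, rfl, rfl, h1⟩ := emb_apply_ne hι.injective _ (ne_of_gt hji) h
  have : β < α := hι.lt_iff_lt.mp hji
  exact h1 ((mem_Bup.mp hM) α β this)

/-- conjugating an embedded matrix by a monomial matrix -/
lemma conj_embGL_mem_Bup {ι : Fin r → Fin n} (hι : Function.Injective ι) (τ : Perm (Fin n))
    (c : Fin n → Fˣ) (M : GL (Fin r) F)
    (hM : ∀ α β, α ≠ β → (M : Matrix (Fin r) (Fin r) F) α β ≠ 0 → τ⁻¹ (ι α) < τ⁻¹ (ι β)) :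
    (monoGL τ c)⁻¹ * embGL ι hι M * monoGL τ c ∈ Bup n F := by
  rw [conj_monoGL_mem_Bup_iff]
  intro i j hji
  by_contra h
  rw [coe_embGL] at h
  have hne : τ i ≠ τ j := fun e => (ne_of_gt hji) (τ.injective e)
  obtain ⟨α, β, hαβ, h1, h2, h3⟩ := emb_apply_ne hι _ hne h
  have := hM α β hαβ h3
  rw [← h1, ← h2] at this
  simp at this
  exact absurd this (not_lt.mpr hji.le)

/-- the adjoint of an embedded matrix -/
lemma adj_emb {σ : F →+* F} {ι : Fin r → Fin n} (hι : Function.Injective ι)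
    (hrev : ∀ α, ι α.rev = (ι α).rev) (M : Matrix (Fin r) (Fin r) F) :
    adj σ (emb ι M) = emb ι (adj σ M) := by
  ext i j
  rw [adj_apply]
  by_cases hi : ∃ α, i = ι α
  · obtain ⟨α, rfl⟩ := hi
    by_cases hj : ∃ β, j = ι β
    · obtain ⟨β, rfl⟩ := hj
      rw [← hrev, ← hrev, emb_apply_mem hι, emb_apply_mem hι, adj_apply]
    · have hj' : ∀ β, j ≠ ι β := fun β e => hj ⟨β, e⟩
      have hj'' : ∀ β, j.rev ≠ ι β := by
        intro β e
        apply hj' β.rev
        rw [hrev, ← e, Fin.rev_rev]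
      rw [emb_apply_of_not_left _ _ hj'', emb_apply_of_not_right _ _ _ hj', Matrix.one_apply,
        Matrix.one_apply]
      by_cases e : ι α = j
      · exact absurd e.symm (hj' α)
      · rw [if_neg e, if_neg, map_zero]
        intro e'
        exact e (Fin.rev_injective e').symm
  · have hi' : ∀ α, i ≠ ι α := fun α e => hi ⟨α, e⟩
    have hi'' : ∀ α, i.rev ≠ ι α := by
      intro α e
      apply hi' α.rev
      rw [hrev, ← e, Fin.rev_rev]
    rw [emb_apply_of_not_right _ _ _ hi'', emb_apply_of_not_left _ _ hi', Matrix.one_apply,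
      Matrix.one_apply]
    by_cases e : i = j
    · rw [if_pos e, if_pos (by rw [e]), map_one]
    · rw [if_neg e, if_neg, map_zero]
      intro e'
      exact e (Fin.rev_injective e').symm

/-- embedded unitary matrices are unitary -/
lemma embGL_mem_GUJ {σ : F →+* F} {ι : Fin r → Fin n} (hι : Function.Injective ι)
    (hrev : ∀ α, ι α.rev = (ι α).rev) {M : GL (Fin r) F} (hM : M ∈ GUJ σ r) :
    embGL ι hι M ∈ GUJ σ n := by
  rw [mem_GUJ, coe_embGL, adj_emb hι hrev, ← emb_mul hι, mem_GUJ.mp hM, emb_one]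

/-- an embedded permutation matrix -/
lemma embGL_monoGL {ι : Fin r → Fin n} (hι : Function.Injective ι) (π₀ : Perm (Fin r))
    (π : Perm (Fin n)) (h1 : ∀ α, π (ι α) = ι (π₀ α)) (h2 : ∀ i, (∀ α, i ≠ ι α) → π i = i) :
    embGL ι hι (monoGL π₀ (fun _ => 1) : GL (Fin r) F) = monoGL π (fun _ => 1) := by
  apply Units.ext
  rw [coe_embGL, coe_monoGL, coe_monoGL]
  ext i j
  rw [mono_apply]
  by_cases hj : ∃ β, j = ι β
  · obtain ⟨β, rfl⟩ := hj
    by_cases hi : ∃ α, i = ι α
    · obtain ⟨α, rfl⟩ := hi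
      rw [emb_apply_mem hι, mono_apply, h1]
      by_cases e : α = π₀ β
      · rw [if_pos e, if_pos (by rw [e])]
      · rw [if_neg e, if_neg (fun e' => e (hι e'))]
    · have hi' : ∀ α, i ≠ ι α := fun α e => hi ⟨α, e⟩
      rw [emb_apply_of_not_left _ _ hi', Matrix.one_apply_ne (hi' β), if_neg]
      rw [h1]
      exact hi' _
  · have hj' : ∀ β, j ≠ ι β := fun β e => hj ⟨β, e⟩
    rw [emb_apply_of_not_right _ _ _ hj', h2 j hj', Matrix.one_apply]
    simp

end Cfsg.Agent.Lib.Helper15.UnBN
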