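import Mathlib
import Cfsg.Agent.Lib.Helper15.UnBNB

/-!
helper15: the `3 × 3` matrices for the last simple root of the unitary group in odd dimension, and
the corresponding root elements of `GUJ σ n`.
-/

set_option autoImplicit false

namespace Cfsg.Agent.Lib.Helper15.UnBN

open Matrix Equiv Cfsg.Agent.Lib.Helper6.GLBN
open Cfsg.Agent.Lib.Helper16.FusSU (adj adj_apply adj_mul adj_one)
open Cfsg.Agent.Lib.Helper15.SpBN (conj_monoGL_mem_Bup_iff)

section sums

variable {ι R : Type*} [Fintype ι] [DecidableEq ι] [AddCommMonoid R]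

lemma sum_eq_three (a b c : ι) (hab : a ≠ b) (hac : a ≠ c) (hbc : b ≠ c) (f : ι → R)
    (h : ∀ l, l ≠ a → l ≠ b → l ≠ c → f l = 0) : ∑ l, f l = f a + f b + f c := by
  rw [← Finset.sum_subset (Finset.subset_univ ({a, b, c} : Finset ι))]
  · rw [Finset.sum_insert, Finset.sum_insert, Finset.sum_singleton, add_assoc]
    · simpa using hbc
    · simp [hab, hac]
  · intro l _ hl
    simp only [Finset.mem_insert, Finset.mem_singleton, not_or] at hl
    exact h l hl.1 hl.2.1 hl.2.2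

lemma sum_eq_two (a b : ι) (hab : a ≠ b) (f : ι → R)
    (h : ∀ l, l ≠ a → l ≠ b → f l = 0) : ∑ l, f l = f a + f b := by
  rw [← Finset.sum_subset (Finset.subset_univ ({a, b} : Finset ι))]
  · rw [Finset.sum_insert, Finset.sum_singleton]
    simpa using hab
  · intro l _ hl
    simp only [Finset.mem_insert, Finset.mem_singleton, not_or] at hl
    exact h l hl.1 hl.2

end sums

section three

variable {F : Type*} [Field F]

/-- upper unitriangular `3 × 3` matrices -/
def U3 (a ab b : F) : Matrix (Fin 3) (Fin 3) F := !![1, a, b; 0, 1, -ab; 0, 0, 1]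

/-- lower unitriangular `3 × 3` matrices -/
def L3 (c cb d : F) : Matrix (Fin 3) (Fin 3) F := !![1, 0, 0; -cb, 1, 0; d, c, 1]

lemma U3_zero : U3 (0 : F) 0 0 = 1 := by
  ext i j
  fin_cases i <;> fin_cases j <;> simp [U3]

lemma U3_mul (a ab b a' ab' b' : F) :
    U3 a ab b * U3 a' ab' b' = U3 (a + a') (ab + ab') (b + b' - a * ab') := by
  ext i j
  fin_cases i <;> fin_cases j <;> simp [U3, Matrix.mul_apply, Fin.sum_univ_three] <;> ring

lemma L3_zero : L3 (0 : F) 0 0 = 1 := by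
  ext i j
  fin_cases i <;> fin_cases j <;> simp [L3]

lemma L3_mul (c cb d c' cb' d' : F) :
    L3 c cb d * L3 c' cb' d' = L3 (c + c') (cb + cb') (d + d' - c * cb') := by
  ext i j
  fin_cases i <;> fin_cases j <;> simp [L3, Matrix.mul_apply, Fin.sum_univ_three] <;> ring

lemma adj_U3 (σ : F →+* F) (a ab b : F) : adj σ (U3 a ab b) = U3 (-σ ab) (-σ a) (σ b) := by
  ext i j
  fin_cases i <;> fin_cases j <;> simp [U3, adj_apply, Fin.rev]

lemma adj_L3 (σ : F →+* F) (c cb d : F) : adj σ (L3 c cb d) = L3 (-σ cb) (-σ c) (σ d) := by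
  ext i j
  fin_cases i <;> fin_cases j <;> simp [L3, adj_apply, Fin.rev]

lemma rank3 (a ab b bb : F) (hb : b ≠ 0) (hbb : bb ≠ 0) (h : b + bb + a * ab = 0) (i j : Fin 3)
    (hji : j < i) :
    (mono (swap (0 : Fin 3) 2) (fun _ => (1 : F)) * U3 a ab b *
      L3 (-a / b) (-ab / bb) (1 / bb)) i j = 0 := by
  fin_cases i <;> fin_cases j <;> simp at hji <;>
    simp [U3, L3, Matrix.mul_apply, Fin.sum_univ_three, mono_apply, swap_apply_def] <;>
    field_simp <;> first | ring1 | linear_combination h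

/-- upper unitriangular matrices as elements of `GL_3` -/
def U3GL (a ab b : F) : GL (Fin 3) F where
  val := U3 a ab b
  inv := U3 (-a) (-ab) (-b - a * ab)
  val_inv := by
    rw [U3_mul, add_neg_cancel, add_neg_cancel, show b + (-b - a * ab) - a * -ab = 0 by ring,
      U3_zero]
  inv_val := by
    rw [U3_mul, neg_add_cancel, neg_add_cancel, show -b - a * ab + b - -a * ab = 0 by ring,
      U3_zero]

/-- lower unitriangular matrices as elements of `GL_3` -/
def L3GL (c cb d : F) : GL (Fin 3) F where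
  val := L3 c cb d
  inv := L3 (-c) (-cb) (-d - c * cb)
  val_inv := by
    rw [L3_mul, add_neg_cancel, add_neg_cancel, show d + (-d - c * cb) - c * -cb = 0 by ring,
      L3_zero]
  inv_val := by
    rw [L3_mul, neg_add_cancel, neg_add_cancel, show -d - c * cb + d - -c * cb = 0 by ring,
      L3_zero]

lemma coe_U3GL (a ab b : F) : ((U3GL a ab b : GL (Fin 3) F) : Matrix (Fin 3) (Fin 3) F) =
    U3 a ab b := rfl

lemma coe_L3GL (c cb d : F) : ((L3GL c cb d : GL (Fin 3) F) : Matrix (Fin 3) (Fin 3) F) =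
    L3 c cb d := rfl

lemma U3GL_inv (a ab b : F) : (U3GL a ab b)⁻¹ = U3GL (-a) (-ab) (-b - a * ab) := by
  apply Units.ext
  rfl

lemma L3GL_inv (c cb d : F) : (L3GL c cb d)⁻¹ = L3GL (-c) (-cb) (-d - c * cb) := by
  apply Units.ext
  rfl

lemma U3GL_mul (a ab b a' ab' b' : F) :
    U3GL a ab b * U3GL a' ab' b' = U3GL (a + a') (ab + ab') (b + b' - a * ab') := by
  apply Units.ext
  rw [Units.val_mul, coe_U3GL, coe_U3GL, coe_U3GL, U3_mul]

lemma U3GL_zero : U3GL (0 : F) 0 0 = 1 := by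
  apply Units.ext
  rw [coe_U3GL, U3_zero, Units.val_one]

lemma U3GL_mem_Bup (a ab b : F) : U3GL a ab b ∈ Bup 3 F := by
  rw [mem_Bup]
  intro i j hji
  rw [coe_U3GL]
  fin_cases i <;> fin_cases j <;> simp at hji <;> simp [U3]

lemma U3_apply_ne {a ab b : F} {α β : Fin 3} (hαβ : α ≠ β) (h : U3 a ab b α β ≠ 0) : α < β := by
  fin_cases α <;> fin_cases β <;> simp [U3] at h hαβ ⊢

lemma L3_apply_ne {c cb d : F} {α β : Fin 3} (hαβ : α ≠ β) (h : L3 c cb d α β ≠ 0) : β < α := by
  fin_cases α <;> fin_cases β <;> simp [L3] at h hαβ ⊢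

variable {σ : F →+* F}

lemma U3GL_mem_GUJ (hσ : ∀ x, σ (σ x) = x) {a b : F} (h : b + σ b + a * σ a = 0) :
    U3GL a (σ a) b ∈ GUJ σ 3 := by
  rw [mem_GUJ, coe_U3GL, adj_U3, U3_mul, hσ, add_neg_cancel, add_neg_cancel,
    show b + σ b - a * -σ a = 0 by linear_combination h, U3_zero]

lemma L3GL_mem_GUJ (hσ : ∀ x, σ (σ x) = x) {c d : F} (h : d + σ d + c * σ c = 0) :
    L3GL c (σ c) d ∈ GUJ σ 3 := by
  rw [mem_GUJ, coe_L3GL, adj_L3, L3_mul, hσ, add_neg_cancel, add_neg_cancel,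
    show d + σ d - c * -σ c = 0 by linear_combination h, L3_zero]

/-- the antidiagonal permutation matrix -/
def P3GL (F : Type*) [Field F] : GL (Fin 3) F := monoGL (swap (0 : Fin 3) 2) (fun _ => 1)

lemma P3GL_mem_GUJ : P3GL F ∈ GUJ σ 3 := by
  unfold P3GL
  rw [monoGL_mem_GUJ_iff]
  refine ⟨?_, fun a => by simp⟩
  intro a
  fin_cases a <;> decide

lemma rank3GL {a ab b bb : F} (hb : b ≠ 0) (hbb : bb ≠ 0) (h : b + bb + a * ab = 0) :
    P3GL F * U3GL a ab b * L3GL (-a / b) (-ab / bb) (1 / bb) ∈ Bup 3 F := by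
  rw [mem_Bup]
  intro i j hji
  rw [Units.val_mul, Units.val_mul, coe_U3GL, coe_L3GL]
  exact rank3 a ab b bb hb hbb h i j hji

end three

end Cfsg.Agent.Lib.Helper15.UnBN
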