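import Mathlib
import Cfsg.Agent.Lib.Helper15.UnBNC

/-!
helper15: the root elements of the last simple root of the unitary group `GUJ σ n` in odd
dimension: membership, splitting off, the rank one computation, conjugation by monomial matrices.
-/

set_option autoImplicit false

namespace Cfsg.Agent.Lib.Helper15.UnBN

open Matrix Equiv Cfsg.Agent.Lib.Helper6.GLBN
open Cfsg.Agent.Lib.Helper16.FusSU (adj adj_apply adj_mul adj_one emb emb_apply_mem)
open Cfsg.Agent.Lib.Helper15.SpBN (conj_monoGL_mem_Bup_iff)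

variable {n : ℕ} {F : Type*} [Field F] {σ : F →+* F}

/-- permutations commuting with the reversal: the inverse commutes as well -/
lemma inv_rev_of_comm {τ : Perm (Fin n)} (hτ : ∀ a, τ a.rev = (τ a).rev) (a : Fin n) :
    τ⁻¹ a.rev = (τ⁻¹ a).rev := by
  apply τ.injective
  rw [hτ]
  simp

/-- the index injection of the middle block in odd dimension -/
def io (k k' : Fin n) : Fin 3 → Fin n := ![k, k', k.rev]

section odd

variable {k k' : Fin n} (hk : k'.val = k.val + 1) (hn : 2 * k.val + 3 = n)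
include hk hn

lemma odd_idx : k'.rev = k' ∧ k.rev.val = k.val + 2 ∧ k ≠ k' ∧ k ≠ k.rev ∧ k' ≠ k.rev ∧ k < k' ∧
    k' < k.rev := by
  have h1 := Fin.val_rev k
  have h2 := Fin.val_rev k'
  refine ⟨?_, by omega, ?_, ?_, ?_, ?_, ?_⟩
  · apply Fin.ext; omega
  · apply Fin.ne_of_val_ne; omega
  · apply Fin.ne_of_val_ne; omega
  · apply Fin.ne_of_val_ne; omega
  · rw [Fin.lt_def]; omega
  · rw [Fin.lt_def]; omega

lemma io_strictMono : StrictMono (io k k') := by
  obtain ⟨h1, h2, h3, h4, h5, h6, h7⟩ := odd_idx hk hn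
  intro α β hαβ
  fin_cases α <;> fin_cases β <;> simp at hαβ <;> simp [io]
  · exact h6
  · exact lt_trans h6 h7
  · exact h7

lemma io_rev (α : Fin 3) : io k k' α.rev = (io k k' α).rev := by
  obtain ⟨h1, h2, h3, h4, h5, h6, h7⟩ := odd_idx hk hn
  fin_cases α
  · show io k k' 2 = (io k k' 0).rev
    simp [io]
  · show io k k' 1 = (io k k' 1).rev
    simp [io, h1]
  · show io k k' 0 = (io k k' 2).rev
    simp [io]

lemma io_swap (α : Fin 3) : swap k k.rev (io k k' α) = io k k' (swap (0 : Fin 3) 2 α) := by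
  obtain ⟨h1, h2, h3, h4, h5, h6, h7⟩ := odd_idx hk hn
  fin_cases α
  · show swap k k.rev (io k k' 0) = io k k' (swap (0 : Fin 3) 2 0)
    rw [swap_apply_left]
    show swap k k.rev k = k.rev
    rw [swap_apply_left]
  · show swap k k.rev (io k k' 1) = io k k' (swap (0 : Fin 3) 2 1)
    have : swap (0 : Fin 3) 2 1 = 1 := by decide
    rw [this]
    show swap k k.rev k' = k'
    exact swap_apply_of_ne_of_ne (Ne.symm h3) h5
  · show swap k k.rev (io k k' 2) = io k k' (swap (0 : Fin 3) 2 2)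
    rw [swap_apply_right]
    show swap k k.rev k.rev = k
    rw [swap_apply_right]

omit hk hn in
lemma io_not {i : Fin n} (hi : ∀ α, i ≠ io k k' α) : swap k k.rev i = i :=
  swap_apply_of_ne_of_ne (hi 0) (hi 2)

/-- upper root elements of the last simple root -/
def uO (a ab b : F) : GL (Fin n) F :=
  embGL (io k k') (io_strictMono hk hn).injective (U3GL a ab b)

/-- lower root elements of the last simple root -/
def lO (c cb d : F) : GL (Fin n) F :=
  embGL (io k k') (io_strictMono hk hn).injective (L3GL c cb d)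

lemma uO_mem (hσ : ∀ x, σ (σ x) = x) {a b : F} (h : b + σ b + a * σ a = 0) :
    uO hk hn a (σ a) b ∈ GUJ σ n :=
  embGL_mem_GUJ _ (io_rev hk hn) (U3GL_mem_GUJ hσ h)

lemma lO_mem (hσ : ∀ x, σ (σ x) = x) {c d : F} (h : d + σ d + c * σ c = 0) :
    lO hk hn c (σ c) d ∈ GUJ σ n :=
  embGL_mem_GUJ _ (io_rev hk hn) (L3GL_mem_GUJ hσ h)

lemma uO_mem_Bup (a ab b : F) : uO hk hn a ab b ∈ Bup n F :=
  embGL_mem_Bup (io_strictMono hk hn) (U3GL_mem_Bup a ab b)

lemma uO_inv (a ab b : F) : (uO hk hn a ab b)⁻¹ = uO hk hn (-a) (-ab) (-b - a * ab) := by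
  unfold uO
  rw [← map_inv, U3GL_inv]

lemma lO_inv (c cb d : F) : (lO hk hn c cb d)⁻¹ = lO hk hn (-c) (-cb) (-d - c * cb) := by
  unfold lO
  rw [← map_inv, L3GL_inv]

lemma uO_zero : uO hk hn (0 : F) 0 0 = 1 := by
  unfold uO
  rw [U3GL_zero, map_one]

lemma coe_uO (a ab b : F) : ((uO hk hn a ab b : GL (Fin n) F) : Matrix (Fin n) (Fin n) F) =
    emb (io k k') (U3 a ab b) := rfl

lemma coe_lO (c cb d : F) : ((lO hk hn c cb d : GL (Fin n) F) : Matrix (Fin n) (Fin n) F) =
    emb (io k k') (L3 c cb d) := rfl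

lemma uO_apply_k_rev (a ab b : F) :
    ((uO hk hn a ab b : GL (Fin n) F) : Matrix (Fin n) (Fin n) F) k k.rev = b := by
  rw [coe_uO]
  have := emb_apply_mem (io_strictMono hk hn).injective (U3 a ab b) 0 2
  simpa [io, U3] using this

/-- the reflection of the last simple root is an embedded matrix -/
lemma sG_eq_embGL : embGL (io k k') (io_strictMono hk hn).injective (P3GL F) = sG k k.rev := by
  unfold P3GL sG
  exact embGL_monoGL _ _ _ (io_swap hk hn) (fun i hi => io_not hi)

lemma sG_odd_mem : (sG k k.rev : GL (Fin n) F) ∈ GUJ σ n := by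
  rw [← sG_eq_embGL hk hn]
  exact embGL_mem_GUJ _ (io_rev hk hn) P3GL_mem_GUJ

/-- the rank one computation for the last simple root in odd dimension -/
lemma odd_rank_one {a ab b bb : F} (hb : b ≠ 0) (hbb : bb ≠ 0) (h : b + bb + a * ab = 0) :
    sG k k.rev * uO hk hn a ab b * lO hk hn (-a / b) (-ab / bb) (1 / bb) ∈ Bup n F := by
  rw [← sG_eq_embGL hk hn]
  unfold uO lO
  rw [← map_mul, ← map_mul]
  exact embGL_mem_Bup (io_strictMono hk hn) (rank3GL hb hbb h)

/-- conjugating an upper root element by a monomial unitary matrix -/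
lemma conj_uO_mem_Bup {τ : Perm (Fin n)} (hτ : ∀ a, τ a.rev = (τ a).rev) (c : Fin n → Fˣ)
    (hlt : τ⁻¹ k < τ⁻¹ k') (a ab b : F) :
    (monoGL τ c)⁻¹ * uO hk hn a ab b * monoGL τ c ∈ Bup n F := by
  obtain ⟨h1, h2, h3, h4, h5, h6, h7⟩ := odd_idx hk hn
  have e1 : τ⁻¹ k' = k' := by
    have hx : (τ⁻¹ k').rev = τ⁻¹ k' := by rw [← inv_rev_of_comm hτ, h1]
    have hv := Fin.val_rev (τ⁻¹ k')
    apply Fin.ext
    have := congrArg Fin.val hx
    omega
  have e2 : τ⁻¹ k.rev = (τ⁻¹ k).rev := inv_rev_of_comm hτ k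
  have hv := Fin.val_rev (τ⁻¹ k)
  rw [e1, Fin.lt_def] at hlt
  unfold uO
  apply conj_embGL_mem_Bup
  intro α β hαβ hne
  have hlt' := U3_apply_ne hαβ hne
  fin_cases α <;> fin_cases β <;> simp at hlt' <;> simp only [io]
  · show τ⁻¹ k < τ⁻¹ k'
    rw [e1, Fin.lt_def]; exact hlt
  · show τ⁻¹ k < τ⁻¹ k.rev
    rw [e2, Fin.lt_def]; omega
  · show τ⁻¹ k' < τ⁻¹ k.rev
    rw [e1, e2, Fin.lt_def]; omega

/-- conjugating a lower root element by a monomial unitary matrix -/
lemma conj_lO_mem_Bup {τ : Perm (Fin n)} (hτ : ∀ a, τ a.rev = (τ a).rev) (c : Fin n → Fˣ)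
    (hlt : τ⁻¹ k' < τ⁻¹ k) (a ab b : F) :
    (monoGL τ c)⁻¹ * lO hk hn a ab b * monoGL τ c ∈ Bup n F := by
  obtain ⟨h1, h2, h3, h4, h5, h6, h7⟩ := odd_idx hk hn
  have e1 : τ⁻¹ k' = k' := by
    have hx : (τ⁻¹ k').rev = τ⁻¹ k' := by rw [← inv_rev_of_comm hτ, h1]
    have hv := Fin.val_rev (τ⁻¹ k')
    apply Fin.ext
    have := congrArg Fin.val hx
    omega
  have e2 : τ⁻¹ k.rev = (τ⁻¹ k).rev := inv_rev_of_comm hτ k
  have hv := Fin.val_rev (τ⁻¹ k)
  rw [e1, Fin.lt_def] at hlt
  unfold lO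
  apply conj_embGL_mem_Bup
  intro α β hαβ hne
  have hlt' := L3_apply_ne hαβ hne
  fin_cases α <;> fin_cases β <;> simp at hlt' <;> simp only [io]
  · show τ⁻¹ k' < τ⁻¹ k
    rw [e1, Fin.lt_def]; exact hlt
  · show τ⁻¹ k.rev < τ⁻¹ k
    rw [e2, Fin.lt_def]; omega
  · show τ⁻¹ k.rev < τ⁻¹ k'
    rw [e1, e2, Fin.lt_def]; omega

/-- the relation between the entries of the row `k` of an upper triangular unitary matrix -/
lemma odd_row_relation {g : GL (Fin n) F} (hg : g ∈ GUJ σ n) (hb : g ∈ Bup n F) :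
    (g : Matrix (Fin n) (Fin n) F) k k * σ ((g : Matrix (Fin n) (Fin n) F) k k.rev) +
      (g : Matrix (Fin n) (Fin n) F) k k' * σ ((g : Matrix (Fin n) (Fin n) F) k k') +
      (g : Matrix (Fin n) (Fin n) F) k k.rev * σ ((g : Matrix (Fin n) (Fin n) F) k k) = 0 := by
  obtain ⟨h1, h2, h3, h4, h5, h6, h7⟩ := odd_idx hk hn
  have h := row_relation hg h4
  rw [sum_eq_three k k' k.rev h3 h4 h5] at h
  · rw [h1, Fin.rev_rev] at h
    exact h
  · intro l hl1 hl2 hl3
    have hv := Fin.val_rev l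
    by_cases hlk : l < k
    · rw [(mem_Bup.mp hb) k l hlk, zero_mul]
    · have : l.rev < k := by
        rw [Fin.lt_def] at hlk ⊢
        have g1 : l.val ≠ k.val := fun e => hl1 (Fin.ext e)
        have g2 : l.val ≠ k'.val := fun e => hl2 (Fin.ext e)
        have g3 : l.val ≠ k.rev.val := fun e => hl3 (Fin.ext e)
        have := l.2
        omega
      rw [(mem_Bup.mp hb) k l.rev this, map_zero, mul_zero]

/-- splitting off the root subgroup of the last simple root in odd dimension -/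
lemma odd_factor (hσ : ∀ x, σ (σ x) = x) {b : GL (Fin n) F} (hS : b ∈ GUJ σ n)
    (hB : b ∈ Bup n F) :
    ∃ a c : F, c + σ c + a * σ a = 0 ∧
      sG k k.rev * (b * (uO hk hn a (σ a) c)⁻¹) * (sG k k.rev)⁻¹ ∈ Bup n F := by
  obtain ⟨h1, h2, h3, h4, h5, h6, h7⟩ := odd_idx hk hn
  have hd : (b : Matrix (Fin n) (Fin n) F) k k ≠ 0 := diag_ne_zero hB k
  have hd' : σ ((b : Matrix (Fin n) (Fin n) F) k k) ≠ 0 := fun e => hd ((map_eq_zero σ).mp e)
  set a : F := (b : Matrix (Fin n) (Fin n) F) k k' / (b : Matrix (Fin n) (Fin n) F) k k with ha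
  set c : F := (b : Matrix (Fin n) (Fin n) F) k k.rev / (b : Matrix (Fin n) (Fin n) F) k k with hc
  have hrel : c + σ c + a * σ a = 0 := by
    have := odd_row_relation hk hn hS hB
    rw [ha, hc, map_div₀, map_div₀]
    field_simp
    linear_combination this
  refine ⟨a, c, hrel, ?_⟩
  rw [uO_inv]
  set b' : GL (Fin n) F := b * uO hk hn (-a) (-σ a) (-c - a * σ a) with hb'
  have hxS : uO hk hn (-a) (-σ a) (-c - a * σ a) ∈ GUJ σ n := by
    have := uO_mem hk hn hσ (a := -a) (b := -c - a * σ a) (σ := σ) (by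
      rw [map_sub, map_neg, map_neg, map_mul, hσ]
      linear_combination (-1 : F) * hrel)
    rw [map_neg] at this
    exact this
  have hb'B : b' ∈ Bup n F := Subgroup.mul_mem _ hB (uO_mem_Bup hk hn _ _ _)
  have hb'S : b' ∈ GUJ σ n := Subgroup.mul_mem _ hS hxS
  have hι := (io_strictMono hk hn).injective
  have z1 : (b' : Matrix (Fin n) (Fin n) F) k k' = 0 := by
    rw [hb', Units.val_mul, coe_uO]
    have := mul_emb_apply_mem hι (b : Matrix (Fin n) (Fin n) F) (U3 (-a) (-σ a) (-c - a * σ a)) k 1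
    have e : io k k' 1 = k' := rfl
    rw [e] at this
    rw [this, Fin.sum_univ_three]
    simp only [io, U3]
    simp
    rw [ha]
    field_simp
    ring
  have z2 : (b' : Matrix (Fin n) (Fin n) F) k k.rev = 0 := by
    rw [hb', Units.val_mul, coe_uO]
    have := mul_emb_apply_mem hι (b : Matrix (Fin n) (Fin n) F) (U3 (-a) (-σ a) (-c - a * σ a)) k 2
    have e : io k k' 2 = k.rev := rfl
    rw [e] at this
    rw [this, Fin.sum_univ_three]
    simp only [io, U3]
    simp
    rw [ha, hc]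
    field_simp
    ring
  have z3 : (b' : Matrix (Fin n) (Fin n) F) k' k.rev = 0 := by
    have := mirror_entry_zero hb'S hb'B hk z1
    rw [h1] at this
    exact this
  rw [sG_inv]
  have e : (sG k k.rev : GL (Fin n) F) * b' * sG k k.rev =
      (sG k k.rev : GL (Fin n) F)⁻¹ * b' * sG k k.rev := by rw [sG_inv]
  rw [e]
  unfold sG
  rw [conj_monoGL_mem_Bup_iff]
  intro i j hji
  have hup := mem_Bup.mp hb'B
  by_cases hik : i = k
  · subst hik
    have hj1 : j ≠ i := ne_of_lt hji
    have hj2 : j ≠ i.rev := by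
      intro e; rw [e] at hji; exact absurd hji (not_lt.mpr (le_of_lt (lt_trans h6 h7)))
    rw [swap_apply_left, swap_apply_of_ne_of_ne hj1 hj2]
    exact hup _ _ (lt_trans hji (lt_trans h6 h7))
  · by_cases hir : i = k.rev
    · subst hir
      rw [swap_apply_right]
      by_cases hjk : j = k
      · subst hjk
        rw [swap_apply_left]
        exact z2
      · have hj2 : j ≠ k.rev := ne_of_lt hji
        rw [swap_apply_of_ne_of_ne hjk hj2]
        by_cases hjk' : j = k'
        · subst hjk'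
          exact z1
        · apply hup
          rw [Fin.lt_def] at hji ⊢
          have g1 : j.val ≠ k.val := fun e => hjk (Fin.ext e)
          have g2 : j.val ≠ k'.val := fun e => hjk' (Fin.ext e)
          omega
    · rw [swap_apply_of_ne_of_ne hik hir]
      by_cases hjk : j = k
      · subst hjk
        rw [swap_apply_left]
        by_cases hik' : i = k'
        · subst hik'
          exact z3
        · apply hup
          rw [Fin.lt_def] at hji ⊢
          have g1 : i.val ≠ j.rev.val := fun e => hir (Fin.ext e)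
          have g2 : i.val ≠ k'.val := fun e => hik' (Fin.ext e)
          omega
      · by_cases hjr : j = k.rev
        · subst hjr
          rw [swap_apply_right]
          exact hup _ _ (lt_trans (lt_trans h6 h7) hji)
        · rw [swap_apply_of_ne_of_ne hjk hjr]
          exact hup _ _ hji

end odd

end Cfsg.Agent.Lib.Helper15.UnBN
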