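import Mathlib
import Cfsg.Agent.Lib.Helper15.UnBND

/-!
helper15: the simple roots of the unitary group `GUJ σ n` away from the middle (short type) and
the middle root in even dimension (long type): reflections, splitting off, rank one computations.
-/

set_option autoImplicit false

namespace Cfsg.Agent.Lib.Helper15.UnBN

open Matrix Equiv Cfsg.Agent.Lib.Helper6.GLBN
open Cfsg.Agent.Lib.Helper16.FusSU (adj adj_apply adj_mul adj_one)
open Cfsg.Agent.Lib.Helper15.SpBN (conj_monoGL_mem_Bup_iff regroup regroup2 sG_comm_xGL sG_comm_sG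
  xGL_comm)

variable {n : ℕ} {F : Type*} [Field F] {σ : F →+* F}

/-- conjugating a short root element by a monomial unitary matrix -/
lemma conj_xsU_mem_Bup {τ : Perm (Fin n)} (hτ : ∀ a, τ a.rev = (τ a).rev)
    (c : Fin n → Fˣ) {p q : Fin n} (hpq : p ≠ q) (hq : q ≠ q.rev) (h : τ⁻¹ p < τ⁻¹ q) (t : F) :
    (monoGL τ c)⁻¹ * xsU σ p q hpq t * monoGL τ c ∈ Bup n F := by
  rw [conj_monoGL_mem_Bup_iff]
  intro i j hji
  rw [xsU_apply hpq hq]
  have h1 : ¬ (τ i = τ j) := fun e => (ne_of_gt hji) (τ.injective e)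
  have h2 : ¬ (τ i = q.rev ∧ τ j = p.rev) := by
    rintro ⟨e1, e2⟩
    have e1' : i = (τ⁻¹ q).rev := by
      rw [← inv_rev_of_comm hτ, ← e1]; simp
    have e2' : j = (τ⁻¹ p).rev := by
      rw [← inv_rev_of_comm hτ, ← e2]; simp
    rw [e1', e2', Fin.rev_lt_rev] at hji
    exact absurd h (not_lt.mpr hji.le)
  have h3 : ¬ (τ i = p ∧ τ j = q) := by
    rintro ⟨e1, e2⟩
    have e1' : i = τ⁻¹ p := by rw [← e1]; simp
    have e2' : j = τ⁻¹ q := by rw [← e2]; simp
    rw [e1', e2'] at hji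
    exact absurd h (not_lt.mpr hji.le)
  rw [if_neg h1, if_neg h2, if_neg h3, add_zero, add_zero]

/-- the short simple reflections -/
def sS (k k' : Fin n) : GL (Fin n) F := sG k k' * sG k'.rev k.rev

lemma sS_eq_monoGL (k k' : Fin n) :
    (sS k k' : GL (Fin n) F) = monoGL (swap k k' * swap k'.rev k.rev) (fun _ => 1) := by
  unfold sS sG
  rw [monoGL_mul]
  congr 1
  funext j
  simp

/-- the reflection of a pair of mirror positions is unitary -/
lemma sG_rev_mem (k : Fin n) : (sG k k.rev : GL (Fin n) F) ∈ GUJ σ n := by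
  unfold sG
  rw [monoGL_mem_GUJ_iff]
  refine ⟨?_, fun a => by simp⟩
  intro a
  rw [← Fin.rev_injective.swap_apply, Fin.rev_rev, Equiv.swap_comm]

section short

variable {k k' : Fin n} (hk : k'.val = k.val + 1) (hs : 2 * k.val + 3 < n)
include hk hs

lemma short_idx : k ≠ k' ∧ k ≠ k'.rev ∧ k ≠ k.rev ∧ k' ≠ k'.rev ∧ k' ≠ k.rev ∧ k'.rev ≠ k.rev ∧
    k.rev.val = k'.rev.val + 1 ∧ k' < k'.rev := by
  have h1 := Fin.val_rev k
  have h2 := Fin.val_rev k'
  have h3 := k.2
  have h4 := k'.2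
  refine ⟨?_, ?_, ?_, ?_, ?_, ?_, ?_, ?_⟩
  · apply Fin.ne_of_val_ne; omega
  · apply Fin.ne_of_val_ne; omega
  · apply Fin.ne_of_val_ne; omega
  · apply Fin.ne_of_val_ne; omega
  · apply Fin.ne_of_val_ne; omega
  · apply Fin.ne_of_val_ne; omega
  · omega
  · rw [Fin.lt_def]; omega

lemma sS_comm : (sG k k' : GL (Fin n) F) * sG k'.rev k.rev = sG k'.rev k.rev * sG k k' := by
  obtain ⟨h1, h2, h3, h4, h5, h6, -, -⟩ := short_idx hk hs
  apply sG_comm_sG
  simp only [List.nodup_cons, List.mem_cons, List.not_mem_nil, or_false, not_or, List.nodup_nil,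
    and_true, not_false_eq_true]
  exact ⟨⟨h1, h2, h3⟩, ⟨h4, h5⟩, h6⟩

lemma sS_inv : (sS k k' : GL (Fin n) F)⁻¹ = sS k k' := by
  unfold sS
  rw [_root_.mul_inv_rev, sG_inv, sG_inv, ← sS_comm hk hs]

lemma sS_mul_self : (sS k k' : GL (Fin n) F) * sS k k' = 1 := by
  rw [← eq_inv_iff_mul_eq_one, sS_inv hk hs]

lemma sS_mem : (sS k k' : GL (Fin n) F) ∈ GUJ σ n := by
  obtain ⟨h1, h2, h3, h4, h5, h6, h7, h8⟩ := short_idx hk hs
  rw [sS_eq_monoGL, monoGL_mem_GUJ_iff]
  have hR : ∀ x y : Fin n, (Fin.revPerm : Perm (Fin n)) * swap x y =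
      swap x.rev y.rev * Fin.revPerm := by
    intro x y
    rw [Equiv.mul_swap_eq_swap_mul]
    rfl
  have hcomm : (Fin.revPerm : Perm (Fin n)) * (swap k k' * swap k'.rev k.rev) =
      (swap k k' * swap k'.rev k.rev) * Fin.revPerm := by
    rw [← mul_assoc, hR, mul_assoc, hR, Fin.rev_rev, Fin.rev_rev, ← mul_assoc]
    congr 1
    rw [swap_comm k.rev k'.rev, swap_comm k' k]
    refine ((Equiv.Perm.disjoint_swap_swap ?_).commute.eq).symm
    simp only [List.nodup_cons, List.mem_cons, List.not_mem_nil, or_false, not_or, List.nodup_nil,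
      and_true, not_false_eq_true]
    exact ⟨⟨h1, h2, h3⟩, ⟨h4, h5⟩, h6⟩
  constructor
  · intro a
    have := congrArg (fun τ : Perm (Fin n) => τ a) hcomm
    simp only [Perm.mul_apply, Fin.revPerm_apply] at this
    exact this.symm
  · intro a
    simp

/-- splitting off the root subgroup of a short simple root -/
lemma short_factor (hkk' : k ≠ k') {b : GL (Fin n) F} (hS : b ∈ GUJ σ n)
    (hσ : ∀ x, σ (σ x) = x) (hB : b ∈ Bup n F) :
    ∃ t : F, sS k k' * (b * (xsU σ k k' hkk' t)⁻¹) * (sS k k')⁻¹ ∈ Bup n F := by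
  obtain ⟨h1, h2, h3, h4, h5, h6, h7, h8⟩ := short_idx hk hs
  have hlt : k < k' := by rw [Fin.lt_def]; omega
  have hlt' : k'.rev < k.rev := by rw [Fin.lt_def]; omega
  set t : F := (b : Matrix (Fin n) (Fin n) F) k k' /
    (b : Matrix (Fin n) (Fin n) F) k k with ht
  refine ⟨t, ?_⟩
  rw [xsU_inv h1 h3 h4]
  set b' : GL (Fin n) F := b * xsU σ k k' h1 (-t) with hb'
  have hxB : xsU σ k k' h1 (-t) ∈ Bup n F := by
    unfold xsU
    exact Subgroup.mul_mem _ (xGL_mem_Bup hlt _) (xGL_mem_Bup hlt' _)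
  have hb'B : b' ∈ Bup n F := Subgroup.mul_mem _ hB hxB
  have hb'S : b' ∈ GUJ σ n := Subgroup.mul_mem _ hS (xsU_mem hσ h1 h3 h4 _)
  have h0 : (b' : Matrix (Fin n) (Fin n) F) k k' = 0 := by
    rw [hb', Units.val_mul, coe_xsU, ← Matrix.mul_assoc, mul_transvection_apply',
      mul_transvection_apply', if_pos rfl, if_neg h5, add_zero, ht]
    field_simp [diag_ne_zero hB k]
    ring
  have h0' : (b' : Matrix (Fin n) (Fin n) F) k'.rev k.rev = 0 :=
    mirror_entry_zero hb'S hb'B hk h0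
  have hc1 := sG_conj_mem_Bup h7 hb'B h0'
  have h0'' : ((sG k'.rev k.rev * b' * sG k'.rev k.rev : GL (Fin n) F) :
      Matrix (Fin n) (Fin n) F) k k' = 0 := by
    rw [Units.val_mul, Units.val_mul, coe_sG_mul_mul, swap_apply_of_ne_of_ne h2 h3,
      swap_apply_of_ne_of_ne h4 h5]
    exact h0
  have hc2 := sG_conj_mem_Bup hk hc1 h0''
  have e : sS k k' * b' * (sS k k')⁻¹ =
      sG k k' * (sG k'.rev k.rev * b' * sG k'.rev k.rev) * sG k k' := by
    rw [sS_inv hk hs]
    unfold sS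
    exact regroup2 _ _ _ (sS_comm hk hs)
  rw [e]
  exact hc2

/-- the rank one computation for a short simple root -/
lemma short_rank_one (hkk' : k ≠ k') {t : F} (ht : t ≠ 0) :
    sS k k' * xsU σ k k' hkk' t * xsU σ k' k hkk'.symm (-t⁻¹) ∈ Bup n F := by
  obtain ⟨h1, h2, h3, h4, h5, h6, h7, h8⟩ := short_idx hk hs
  have hσt : σ t ≠ 0 := fun e => ht ((map_eq_zero σ).mp e)
  unfold xsU
  have r1 := rank_one_mem_Bup (F := F) hk h1 ht
  have r2 := rank_one_mem_Bup (F := F) (k := k'.rev) (k' := k.rev) h7 h6 (neg_ne_zero.mpr hσt)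
  have e0 : (-(-σ t)⁻¹ : F) = -σ (-t⁻¹) := by rw [map_neg, map_inv₀, inv_neg]
  rw [e0] at r2
  have c1 : (sG k'.rev k.rev : GL (Fin n) F) * xGL k k' h1 t =
      xGL k k' h1 t * sG k'.rev k.rev := sG_comm_xGL h1 h2 h3 h4 h5 t
  have c2 : xGL k'.rev k.rev (rev_ne_rev h1) (-σ t) * xGL k' k h1.symm (-t⁻¹) =
      xGL k' k h1.symm (-t⁻¹) * xGL k'.rev k.rev (rev_ne_rev h1) (-σ t) :=
    xGL_comm _ _ (Ne.symm h5) h2 _ _
  have c3 : (sG k'.rev k.rev : GL (Fin n) F) * xGL k' k h1.symm (-t⁻¹) =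
      xGL k' k h1.symm (-t⁻¹) * sG k'.rev k.rev := sG_comm_xGL h1.symm h4 h5 h2 h3 _
  unfold sS
  rw [regroup _ _ _ _ _ _ c1 c2 c3]
  exact Subgroup.mul_mem _ r1 r2

end short

section long

variable {k : Fin n} (hl : 2 * k.val + 2 = n)
include hl

lemma long_idx : k.rev.val = k.val + 1 ∧ k ≠ k.rev ∧ k < k.rev := by
  have h1 := Fin.val_rev k
  have h3 := k.2
  refine ⟨by omega, ?_, ?_⟩
  · apply Fin.ne_of_val_ne; omega
  · rw [Fin.lt_def]; omega

/-- the relation between the entries of the row `k` of an upper triangular unitary matrix -/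
lemma long_row_relation {g : GL (Fin n) F} (hg : g ∈ GUJ σ n) (hb : g ∈ Bup n F) :
    (g : Matrix (Fin n) (Fin n) F) k k * σ ((g : Matrix (Fin n) (Fin n) F) k k.rev) +
      (g : Matrix (Fin n) (Fin n) F) k k.rev * σ ((g : Matrix (Fin n) (Fin n) F) k k) = 0 := by
  obtain ⟨h1, h2, h3⟩ := long_idx hl
  have h := row_relation hg h2
  rw [sum_eq_two k k.rev h2] at h
  · rw [Fin.rev_rev] at h
    exact h
  · intro l hl1 hl2
    have hv := Fin.val_rev l
    by_cases hlk : l < k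
    · rw [(mem_Bup.mp hb) k l hlk, zero_mul]
    · have : l.rev < k := by
        rw [Fin.lt_def] at hlk ⊢
        have g1 : l.val ≠ k.val := fun e => hl1 (Fin.ext e)
        have g3 : l.val ≠ k.rev.val := fun e => hl2 (Fin.ext e)
        have := l.2
        omega
      rw [(mem_Bup.mp hb) k l.rev this, map_zero, mul_zero]

/-- splitting off the root subgroup of the long simple root -/
lemma long_factor (hkk' : k ≠ k.rev) {b : GL (Fin n) F} (hS : b ∈ GUJ σ n)
    (hB : b ∈ Bup n F) :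
    ∃ t : F, t + σ t = 0 ∧
      sG k k.rev * (b * (xGL k k.rev hkk' t)⁻¹) * (sG k k.rev)⁻¹ ∈ Bup n F := by
  obtain ⟨h1, h2, h3⟩ := long_idx hl
  have hd : (b : Matrix (Fin n) (Fin n) F) k k ≠ 0 := diag_ne_zero hB k
  have hd' : σ ((b : Matrix (Fin n) (Fin n) F) k k) ≠ 0 := fun e => hd ((map_eq_zero σ).mp e)
  set t : F := (b : Matrix (Fin n) (Fin n) F) k k.rev / (b : Matrix (Fin n) (Fin n) F) k k with ht
  have hrel : t + σ t = 0 := by
    have := long_row_relation hl hS hB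
    rw [ht, map_div₀]
    field_simp
    linear_combination this
  refine ⟨t, hrel, ?_⟩
  rw [xGL_inv, sG_inv]
  set b' : GL (Fin n) F := b * xGL k k.rev hkk' (-t) with hb'
  have hb'B : b' ∈ Bup n F := Subgroup.mul_mem _ hB (xGL_mem_Bup h3 _)
  have h0 : (b' : Matrix (Fin n) (Fin n) F) k k.rev = 0 := by
    rw [hb', Units.val_mul, coe_xGL, mul_transvection_apply', if_pos rfl, ht]
    field_simp
    ring
  exact sG_conj_mem_Bup h1 hb'B h0

/-- the rank one computation for the long simple root -/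
lemma long_rank_one (hkk' : k ≠ k.rev) {t : F} (ht : t ≠ 0) :
    sG k k.rev * xGL k k.rev hkk' t * xGL k.rev k hkk'.symm (-t⁻¹) ∈ Bup n F := by
  obtain ⟨h1, h2, h3⟩ := long_idx hl
  exact rank_one_mem_Bup (F := F) h1 hkk' ht

end long

end Cfsg.Agent.Lib.Helper15.UnBN
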