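import Mathlib
import Cfsg.Prelude.Def_LieExceptional
import Cfsg.Agent.Lib.Helper15.UnBNE
import Cfsg.Agent.Lib.Helper15.SpBND

/-!
helper15: the (B,N)-pair of the unitary group `GUJ σ n`: the subgroups `B`, `N`, the simple
reflections and the main double coset condition.
-/

set_option autoImplicit false

namespace Cfsg.Agent.Lib.Helper15.UnBN

open Matrix Equiv Cfsg.Agent.Lib.Helper6.GLBN
open Cfsg.Agent.Lib.Helper15.SpBN (conj_monoGL_mem_Bup_iff dc_skeleton_pos dc_skeleton_neg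
  conj_xGL_mem_Bup monoGL_mul_mul_apply)

variable {n : ℕ} {F : Type*} [Field F] {σ : F →+* F}

/-- the Borel subgroup -/
def BG (σ : F →+* F) (n : ℕ) : Subgroup ↥(GUJ σ n) := (Bup n F).subgroupOf (GUJ σ n)

/-- the torus -/
def TG (σ : F →+* F) (n : ℕ) : Subgroup ↥(GUJ σ n) := (diagSubgroup n F).subgroupOf (GUJ σ n)

/-- `s` is the simple reflection attached to the position `k` -/
def IsReflAt (s : ↥(GUJ σ n)) (k : Fin n) : Prop :=
  (∃ k' : Fin n, k'.val = k.val + 1 ∧ 2 * k.val + 3 < n ∧ (s : GL (Fin n) F) = sS k k') ∨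
    ((2 * k.val + 2 = n ∨ 2 * k.val + 3 = n) ∧ (s : GL (Fin n) F) = sG k k.rev)

/-- the simple reflections -/
def SG (σ : F →+* F) (n : ℕ) : Set ↥(GUJ σ n) := {s | ∃ k, IsReflAt s k}

/-- the monomial subgroup generated by the reflections and the torus -/
def NG (σ : F →+* F) (n : ℕ) : Subgroup ↥(GUJ σ n) := Subgroup.closure (SG σ n) ⊔ TG σ n

lemma mem_BG {g : ↥(GUJ σ n)} : g ∈ BG σ n ↔ (g : GL (Fin n) F) ∈ Bup n F :=
  Subgroup.mem_subgroupOf

lemma mem_TG {g : ↥(GUJ σ n)} : g ∈ TG σ n ↔ (g : GL (Fin n) F) ∈ diagSubgroup n F :=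
  Subgroup.mem_subgroupOf

lemma TG_le_BG : TG σ n ≤ BG σ n := by
  intro g hg
  rw [mem_TG] at hg
  rw [mem_BG]
  obtain ⟨c, hc⟩ := hg
  rw [hc, monoGL_mem_Bup_iff]

lemma TG_le_NG : TG σ n ≤ NG σ n := le_sup_right

lemma SG_subset_NG : SG σ n ⊆ (NG σ n : Set ↥(GUJ σ n)) := fun _ hg =>
  Subgroup.mem_sup_left (Subgroup.subset_closure hg)

lemma NG_le_mono : NG σ n ≤ (monoSubgroup n F).subgroupOf (GUJ σ n) := by
  apply sup_le
  · rw [Subgroup.closure_le]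
    rintro g ⟨k, ⟨k', -, -, hg⟩ | ⟨-, hg⟩⟩
    · show g ∈ (monoSubgroup n F).subgroupOf (GUJ σ n)
      rw [Subgroup.mem_subgroupOf, hg, sS_eq_monoGL]
      exact ⟨_, _, rfl⟩
    · show g ∈ (monoSubgroup n F).subgroupOf (GUJ σ n)
      rw [Subgroup.mem_subgroupOf, hg]
      exact ⟨_, _, rfl⟩
  · intro g hg
    rw [mem_TG] at hg
    rw [Subgroup.mem_subgroupOf]
    exact diagSubgroup_le_mono hg

lemma exists_monoGL {g : ↥(GUJ σ n)} (hn : g ∈ NG σ n) :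
    ∃ (τ : Perm (Fin n)) (c : Fin n → Fˣ), (g : GL (Fin n) F) = monoGL τ c := by
  have := NG_le_mono hn
  rw [Subgroup.mem_subgroupOf] at this
  exact this

lemma perm_comm_of_mem {g : ↥(GUJ σ n)} {τ : Perm (Fin n)} {c : Fin n → Fˣ}
    (h : (g : GL (Fin n) F) = monoGL τ c) : ∀ a, τ a.rev = (τ a).rev := by
  have := g.2
  rw [h, monoGL_mem_GUJ_iff] at this
  exact this.1

lemma BG_inf_NG : BG σ n ⊓ NG σ n = TG σ n := by
  apply le_antisymm
  · rintro g ⟨hB, hN⟩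
    obtain ⟨τ, c, hg⟩ := exists_monoGL hN
    have hB' := mem_BG.mp hB
    rw [hg, monoGL_mem_Bup_iff] at hB'
    subst hB'
    rw [mem_TG, hg]
    exact ⟨c, rfl⟩
  · exact le_inf TG_le_BG TG_le_NG

/-- the data attached to a simple reflection that are needed for the double coset condition -/
def SimpleData (s : ↥(GUJ σ n)) (k k' : Fin n) : Prop :=
  ∀ b ∈ BG σ n, ∃ b' x : ↥(GUJ σ n), b = b' * x ∧ s * b' * s⁻¹ ∈ BG σ n ∧
    (∀ (g : ↥(GUJ σ n)) (τ : Perm (Fin n)) (c : Fin n → Fˣ),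
      (g : GL (Fin n) F) = monoGL τ c → τ⁻¹ k < τ⁻¹ k' → g⁻¹ * x * g ∈ BG σ n) ∧
    (x = 1 ∨ ∃ y : ↥(GUJ σ n), s * x * y ∈ BG σ n ∧
      ∀ (g : ↥(GUJ σ n)) (τ : Perm (Fin n)) (c : Fin n → Fˣ),
        (g : GL (Fin n) F) = monoGL τ c → τ⁻¹ k' < τ⁻¹ k → g⁻¹ * y⁻¹ * g ∈ BG σ n)

lemma SimpleData.pos {s : ↥(GUJ σ n)} {k k' : Fin n} (hs : SimpleData s k k')
    {b : ↥(GUJ σ n)} (hb : b ∈ BG σ n) {g : ↥(GUJ σ n)} {τ : Perm (Fin n)}
    {c : Fin n → Fˣ} (hn : (g : GL (Fin n) F) = monoGL τ c) (hlt : τ⁻¹ k < τ⁻¹ k') :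
    s * b * g ∈ DoubleCoset.doubleCoset (s * g) (BG σ n : Set ↥(GUJ σ n)) (BG σ n) := by
  obtain ⟨b', x, rfl, h1, h2, -⟩ := hs b hb
  exact dc_skeleton_pos h1 (h2 g τ c hn hlt)

lemma SimpleData.main {s : ↥(GUJ σ n)} {k k' : Fin n} (hs : SimpleData s k k')
    (hkk' : k ≠ k') {b : ↥(GUJ σ n)} (hb : b ∈ BG σ n) {g : ↥(GUJ σ n)} (hn : g ∈ NG σ n) :
    s * b * g ∈ DoubleCoset.doubleCoset (s * g) (BG σ n : Set ↥(GUJ σ n)) (BG σ n) ∪
      DoubleCoset.doubleCoset g (BG σ n : Set ↥(GUJ σ n)) (BG σ n) := by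
  obtain ⟨τ, c, hτ⟩ := exists_monoGL hn
  have hne : τ⁻¹ k ≠ τ⁻¹ k' := fun h => hkk' (τ⁻¹.injective h)
  rcases lt_or_gt_of_ne hne with hlt | hgt
  · left
    exact hs.pos hb hτ hlt
  · obtain ⟨b', x, rfl, h1, h2, h3⟩ := hs b hb
    rcases h3 with rfl | ⟨y, h4, h5⟩
    · left
      apply dc_skeleton_pos h1
      rw [mul_one, inv_mul_cancel]
      exact Subgroup.one_mem _
    · right
      exact dc_skeleton_neg h1 h4 (h5 g τ c hτ hgt)

/-! ### the simple reflections -/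

lemma coe_mk_mul_inv (s b x : ↥(GUJ σ n)) :
    ((s * (b * x⁻¹) * s⁻¹ : ↥(GUJ σ n)) : GL (Fin n) F) =
      (s : GL (Fin n) F) * ((b : GL (Fin n) F) * (x : GL (Fin n) F)⁻¹) *
        (s : GL (Fin n) F)⁻¹ := rfl

lemma coe_conj (g x : ↥(GUJ σ n)) :
    ((g⁻¹ * x * g : ↥(GUJ σ n)) : GL (Fin n) F) =
      (g : GL (Fin n) F)⁻¹ * (x : GL (Fin n) F) * (g : GL (Fin n) F) := rfl

lemma coe_mul3 (s x y : ↥(GUJ σ n)) :
    ((s * x * y : ↥(GUJ σ n)) : GL (Fin n) F) =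
      (s : GL (Fin n) F) * (x : GL (Fin n) F) * (y : GL (Fin n) F) := rfl

lemma simpleData_short (hσ : ∀ x, σ (σ x) = x) {k k' : Fin n} (hk : k'.val = k.val + 1)
    (hs : 2 * k.val + 3 < n)
    {s : ↥(GUJ σ n)} (hs' : (s : GL (Fin n) F) = sS k k') : SimpleData s k k' := by
  obtain ⟨h1, h2, h3, h4, h5, h6, h7, h8⟩ := short_idx hk hs
  intro b hb
  obtain ⟨t, ht⟩ := short_factor hk hs h1 b.2 hσ (mem_BG.mp hb)
  refine ⟨b * (⟨xsU σ k k' h1 t, xsU_mem hσ h1 h3 h4 t⟩ : ↥(GUJ σ n))⁻¹,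
    ⟨xsU σ k k' h1 t, xsU_mem hσ h1 h3 h4 t⟩, by group, ?_, ?_, ?_⟩
  · rw [mem_BG, coe_mk_mul_inv, hs']
    exact ht
  · intro g τ c hn hlt
    rw [mem_BG, coe_conj, hn]
    exact conj_xsU_mem_Bup (perm_comm_of_mem hn) c h1 h4 hlt t
  · by_cases ht0 : t = 0
    · left
      apply Subtype.ext
      show xsU σ k k' h1 t = 1
      rw [ht0, xsU_zero]
    · right
      refine ⟨⟨xsU σ k' k h1.symm (-t⁻¹), xsU_mem hσ h1.symm h4 h3 _⟩, ?_, ?_⟩
      · rw [mem_BG, coe_mul3, hs']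
        exact short_rank_one hk hs h1 ht0
      · intro g τ c hn hgt
        rw [mem_BG, coe_conj, hn]
        show (monoGL τ c)⁻¹ * (xsU σ k' k h1.symm (-t⁻¹))⁻¹ * monoGL τ c ∈ Bup n F
        rw [xsU_inv h1.symm h4 h3]
        exact conj_xsU_mem_Bup (perm_comm_of_mem hn) c h1.symm h3 hgt _

lemma xGL_long_mem' {k : Fin n} (h2 : k.rev ≠ k) {u : F} (hu : u + σ u = 0) :
    xGL k.rev k h2 u ∈ GUJ σ n := by
  have h3 : k.rev ≠ k.rev.rev := by rw [Fin.rev_rev]; exact h2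
  have := xGL_long_mem (σ := σ) h3 hu
  have e : ∀ (q : Fin n) (hq : k.rev ≠ q), q = k →
      xGL k.rev q hq u = xGL k.rev k h2 u := by
    intro q hq e; subst e; rfl
  rw [e _ _ (Fin.rev_rev k)] at this
  exact this

lemma simpleData_long {k : Fin n} (hl : 2 * k.val + 2 = n)
    {s : ↥(GUJ σ n)} (hs : (s : GL (Fin n) F) = sG k k.rev) : SimpleData s k k.rev := by
  obtain ⟨h1, h2, h3⟩ := long_idx hl
  intro b hb
  obtain ⟨t, ht0, ht⟩ := long_factor hl h2 b.2 (mem_BG.mp hb)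
  refine ⟨b * (⟨xGL k k.rev h2 t, xGL_long_mem h2 ht0⟩ : ↥(GUJ σ n))⁻¹,
    ⟨xGL k k.rev h2 t, xGL_long_mem h2 ht0⟩, by group, ?_, ?_, ?_⟩
  · rw [mem_BG, coe_mk_mul_inv, hs]
    exact ht
  · intro g τ c hn hlt
    rw [mem_BG, coe_conj, hn]
    exact conj_xGL_mem_Bup τ c k k.rev h2 hlt t
  · by_cases ht1 : t = 0
    · left
      apply Subtype.ext
      show xGL k k.rev h2 t = 1
      rw [ht1, xGL_zero]
    · right
      have hu : (-t⁻¹ : F) + σ (-t⁻¹) = 0 := by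
        have hσt : σ t = -t := by linear_combination ht0
        rw [map_neg, map_inv₀, hσt, inv_neg]
        ring
      refine ⟨⟨xGL k.rev k h2.symm (-t⁻¹), xGL_long_mem' h2.symm hu⟩, ?_, ?_⟩
      · rw [mem_BG, coe_mul3, hs]
        exact long_rank_one hl h2 ht1
      · intro g τ c hn hgt
        rw [mem_BG, coe_conj, hn]
        show (monoGL τ c)⁻¹ * (xGL k.rev k h2.symm (-t⁻¹))⁻¹ * monoGL τ c ∈ Bup n F
        rw [xGL_inv]
        exact conj_xGL_mem_Bup τ c k.rev k h2.symm hgt _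

lemma simpleData_odd (hσ : ∀ x, σ (σ x) = x) {k k' : Fin n} (hk : k'.val = k.val + 1)
    (hn : 2 * k.val + 3 = n)
    {s : ↥(GUJ σ n)} (hs : (s : GL (Fin n) F) = sG k k.rev) : SimpleData s k k' := by
  intro b hb
  obtain ⟨a, c, hrel, hfac⟩ := odd_factor hk hn hσ b.2 (mem_BG.mp hb)
  refine ⟨b * (⟨uO hk hn a (σ a) c, uO_mem hk hn hσ hrel⟩ : ↥(GUJ σ n))⁻¹,
    ⟨uO hk hn a (σ a) c, uO_mem hk hn hσ hrel⟩, by group, ?_, ?_, ?_⟩
  · rw [mem_BG, coe_mk_mul_inv, hs]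
    exact hfac
  · intro g τ d hg hlt
    rw [mem_BG, coe_conj, hg]
    exact conj_uO_mem_Bup hk hn (perm_comm_of_mem hg) d hlt _ _ _
  · by_cases hc0 : c = 0
    · left
      have ha0 : a = 0 := by
        rw [hc0, map_zero, add_zero, zero_add] at hrel
        rcases mul_eq_zero.mp hrel with h | h
        · exact h
        · exact (map_eq_zero σ).mp h
      apply Subtype.ext
      show uO hk hn a (σ a) c = 1
      rw [hc0, ha0, map_zero, uO_zero]
    · right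
      have hσc : σ c ≠ 0 := fun e => hc0 ((map_eq_zero σ).mp e)
      have hy : lO hk hn (-a / c) (-σ a / σ c) (1 / σ c) ∈ GUJ σ n := by
        have := lO_mem hk hn hσ (c := -a / c) (d := 1 / σ c) (σ := σ) (by
          rw [map_div₀, map_div₀, map_neg, map_one, hσ]
          field_simp
          linear_combination hrel)
        rw [map_div₀, map_neg] at this
        exact this
      refine ⟨⟨lO hk hn (-a / c) (-σ a / σ c) (1 / σ c), hy⟩, ?_, ?_⟩
      · rw [mem_BG, coe_mul3, hs]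
        exact odd_rank_one hk hn hc0 hσc hrel
      · intro g τ d hg hgt
        rw [mem_BG, coe_conj, hg]
        show (monoGL τ d)⁻¹ * (lO hk hn (-a / c) (-σ a / σ c) (1 / σ c))⁻¹ * monoGL τ d ∈ Bup n F
        rw [lO_inv]
        exact conj_lO_mem_Bup hk hn (perm_comm_of_mem hg) d hgt _ _ _

/-- the index pair of a simple reflection -/
lemma exists_simpleData (hσ : ∀ x, σ (σ x) = x) {s : ↥(GUJ σ n)} {k : Fin n}
    (hs : IsReflAt s k) :
    ∃ k' : Fin n, k'.val = k.val + 1 ∧ SimpleData s k k' := by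
  rcases hs with ⟨k', hk, hs, hs'⟩ | ⟨hl | ho, hs'⟩
  · exact ⟨k', hk, simpleData_short hσ hk hs hs'⟩
  · obtain ⟨h1, h2, h3⟩ := long_idx hl
    exact ⟨k.rev, h1, simpleData_long hl hs'⟩
  · have hlt : k.val + 1 < n := by omega
    exact ⟨⟨k.val + 1, hlt⟩, rfl, simpleData_odd hσ rfl ho hs'⟩

/-! ### the remaining conditions, except generation -/

lemma IsReflAt.unique {s s' : ↥(GUJ σ n)} {k : Fin n} (h : IsReflAt s k)
    (h' : IsReflAt s' k) : s = s' := by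
  apply Subtype.ext
  rcases h with ⟨k', hk, hkm, hs⟩ | ⟨hk, hs⟩
  · rcases h' with ⟨k'', hk', hkm', hs'⟩ | ⟨hk', hs'⟩
    · have : k' = k'' := Fin.ext (by omega)
      subst this
      rw [hs, hs']
    · omega
  · rcases h' with ⟨k'', hk', hkm', hs'⟩ | ⟨hk', hs'⟩
    · omega
    · rw [hs, hs']

/-- the hypothesis giving root elements with a non-zero entry at the positions `(k, k.rev)`: either
a non-zero skew element, or odd dimension and a non-trivial solution of the norm-trace equation -/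
def SkOK (σ : F →+* F) (n : ℕ) : Prop :=
  (∃ c : F, c ≠ 0 ∧ c + σ c = 0) ∨ (Odd n ∧ ∃ a c : F, c ≠ 0 ∧ c + σ c + a * σ a = 0)

lemma skOK_of_skew {n : ℕ} (h : ∃ c : F, c ≠ 0 ∧ c + σ c = 0) : SkOK σ n := Or.inl h

lemma skOK_of_odd {n : ℕ} (hn : Odd n) (h : ∃ a c : F, c ≠ 0 ∧ c + σ c + a * σ a = 0) :
    SkOK σ n := Or.inr ⟨hn, h⟩

lemma IsReflAt.perm (hσ : ∀ x, σ (σ x) = x) (hsk : SkOK σ n)
    {s : ↥(GUJ σ n)} {k : Fin n} (h : IsReflAt s k) :
    ∃ (τ : Perm (Fin n)) (c : Fin n → Fˣ), (s : GL (Fin n) F) = monoGL τ c ∧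
      k < τ k ∧ τ (τ k) = k ∧ (∀ j : Fin n, j.val < k.val → τ j = j) ∧ τ * τ = 1 ∧
      (∀ j, c j = 1) ∧
      ∃ x : ↥(GUJ σ n), x ∈ BG σ n ∧
        ((x : GL (Fin n) F) : Matrix (Fin n) (Fin n) F) k (τ k) ≠ 0 := by
  rcases h with ⟨k', hk, hkm, hs⟩ | ⟨hk, hs⟩
  · obtain ⟨h1, h2, h3, h4, h5, h6, h7, h8⟩ := short_idx hk hkm
    have e1 : (swap k k' * swap k'.rev k.rev) k = k' := by
      rw [Perm.mul_apply, swap_apply_of_ne_of_ne h2 h3, swap_apply_left]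
    have e2 : (swap k k' * swap k'.rev k.rev) k' = k := by
      rw [Perm.mul_apply, swap_apply_of_ne_of_ne h4 h5, swap_apply_right]
    have hlt : k < k' := by rw [Fin.lt_def]; omega
    have hlt' : k'.rev < k.rev := by rw [Fin.lt_def]; omega
    refine ⟨swap k k' * swap k'.rev k.rev, fun _ => 1, ?_, ?_, ?_, ?_, ?_, fun _ => rfl, ?_⟩
    · rw [hs, sS_eq_monoGL]
    · rw [e1]; exact hlt
    · rw [e1, e2]
    · intro j hj
      have hv1 := Fin.val_rev k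
      have hv2 := Fin.val_rev k'
      have g1 : j ≠ k'.rev := by apply Fin.ne_of_val_ne; omega
      have g2 : j ≠ k.rev := by apply Fin.ne_of_val_ne; omega
      have g3 : j ≠ k := by apply Fin.ne_of_val_ne; omega
      have g4 : j ≠ k' := by apply Fin.ne_of_val_ne; omega
      rw [Perm.mul_apply, swap_apply_of_ne_of_ne g1 g2, swap_apply_of_ne_of_ne g3 g4]
    · have hd : Perm.Disjoint (swap k k') (swap k'.rev k.rev) := by
        apply Equiv.Perm.disjoint_swap_swap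
        simp only [List.nodup_cons, List.mem_cons, List.not_mem_nil, or_false, not_or,
          List.nodup_nil, and_true, not_false_eq_true]
        exact ⟨⟨h1, h2, h3⟩, ⟨h4, h5⟩, h6⟩
      rw [mul_assoc, ← mul_assoc (swap k'.rev k.rev), ← hd.commute.eq, mul_assoc,
        Equiv.swap_mul_self, mul_one, Equiv.swap_mul_self]
    · refine ⟨⟨xsU σ k k' h1 1, xsU_mem hσ h1 h3 h4 1⟩, ?_, ?_⟩
      · rw [mem_BG]
        show xsU σ k k' h1 1 ∈ Bup n F
        unfold xsU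
        exact Subgroup.mul_mem _ (xGL_mem_Bup hlt _) (xGL_mem_Bup hlt' _)
      · rw [e1]
        show ((xsU σ k k' h1 (1 : F) : GL (Fin n) F) : Matrix (Fin n) (Fin n) F) k k' ≠ 0
        rw [xsU_apply h1 h4, if_neg h1, if_neg (fun h => h2 h.1), if_pos ⟨rfl, rfl⟩, zero_add,
          zero_add]
        exact one_ne_zero
  · have hv := Fin.val_rev k
    have hlt : k < k.rev := by rw [Fin.lt_def]; omega
    have h2 : k ≠ k.rev := ne_of_lt hlt
    refine ⟨swap k k.rev, fun _ => 1, ?_, ?_, ?_, ?_, Equiv.swap_mul_self _ _, fun _ => rfl, ?_⟩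
    · rw [hs]; rfl
    · rw [swap_apply_left]; exact hlt
    · rw [swap_apply_left, swap_apply_right]
    · intro j hj
      have g3 : j ≠ k := by apply Fin.ne_of_val_ne; omega
      have g4 : j ≠ k.rev := by apply Fin.ne_of_val_ne; omega
      rw [swap_apply_of_ne_of_ne g3 g4]
    · rcases hsk with ⟨c₀, hc0, hc1⟩ | ⟨hodd, a, c₀, hc0, hrel⟩
      · refine ⟨⟨xGL k k.rev h2 c₀, xGL_long_mem h2 hc1⟩, ?_, ?_⟩
        · rw [mem_BG]
          exact xGL_mem_Bup hlt _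
        · rw [swap_apply_left]
          show ((xGL k k.rev h2 c₀ : GL (Fin n) F) : Matrix (Fin n) (Fin n) F) k k.rev ≠ 0
          rw [coe_xGL, transvection_apply', if_neg h2, if_pos ⟨rfl, rfl⟩, zero_add]
          exact hc0
      · have hn3 : 2 * k.val + 3 = n := by
          rcases hk with hk | hk
          · exfalso
            rw [← hk] at hodd
            exact (Nat.not_even_iff_odd.mpr hodd) ⟨k.val + 1, by ring⟩
          · exact hk
        have hlt' : k.val + 1 < n := by omega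
        have hk' : (⟨k.val + 1, hlt'⟩ : Fin n).val = k.val + 1 := rfl
        refine ⟨⟨uO hk' hn3 a (σ a) c₀, uO_mem hk' hn3 hσ hrel⟩, ?_, ?_⟩
        · rw [mem_BG]
          exact uO_mem_Bup hk' hn3 _ _ _
        · rw [swap_apply_left]
          show ((uO hk' hn3 a (σ a) c₀ : GL (Fin n) F) : Matrix (Fin n) (Fin n) F) k k.rev ≠ 0
          rw [uO_apply_k_rev]
          exact hc0

lemma SG_sq_mem {s : ↥(GUJ σ n)} (hs : s ∈ SG σ n) : s * s ∈ BG σ n := by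
  obtain ⟨k, hk⟩ := hs
  rw [mem_BG]
  show (s : GL (Fin n) F) * (s : GL (Fin n) F) ∈ Bup n F
  rcases hk with ⟨k', hk, hkm, hs'⟩ | ⟨hk, hs'⟩
  · rw [hs', sS_mul_self hk hkm]
    exact Subgroup.one_mem _
  · rw [hs', sG_mul_self]
    exact Subgroup.one_mem _

lemma SG_inj (hσ : ∀ x, σ (σ x) = x) (hsk : SkOK σ n)
    {s s' : ↥(GUJ σ n)} (hs : s ∈ SG σ n) (hs' : s' ∈ SG σ n)
    (h : s⁻¹ * s' ∈ BG σ n) : s = s' := by
  obtain ⟨k, hk⟩ := hs
  obtain ⟨l, hl⟩ := hs'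
  obtain ⟨τ, c, hsτ, h1, h2, h3, -⟩ := hk.perm hσ hsk
  obtain ⟨τ', d, hsτ', g1, g2, g3, -⟩ := hl.perm hσ hsk
  rw [mem_BG] at h
  have h' : (s : GL (Fin n) F)⁻¹ * (s' : GL (Fin n) F) ∈ Bup n F := h
  rw [hsτ, hsτ', monoGL_inv, monoGL_mul, monoGL_mem_Bup_iff] at h'
  have hττ : τ = τ' := by
    rw [inv_mul_eq_one] at h'
    exact h'
  subst hττ
  have hkl : k = l := by
    apply Fin.ext
    by_contra hne
    rcases lt_or_gt_of_ne hne with hlt | hgt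
    · have := g3 k hlt
      rw [this] at h1
      exact lt_irrefl _ h1
    · have := h3 l hgt
      rw [this] at g1
      exact lt_irrefl _ g1
  subst hkl
  exact hk.unique hl

lemma SG_conj_ne (hσ : ∀ x, σ (σ x) = x) (hsk : SkOK σ n)
    {s : ↥(GUJ σ n)} (hs : s ∈ SG σ n) :
    (fun b : ↥(GUJ σ n) => s * b * s) '' (BG σ n : Set ↥(GUJ σ n)) ≠
      (BG σ n : Set ↥(GUJ σ n)) := by
  obtain ⟨k, hk⟩ := hs
  obtain ⟨τ, c, hsτ, h1, h2, h3, -, -, x, hxB, hx⟩ := hk.perm hσ hsk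
  intro heq
  have hmem : s * x * s ∈ (BG σ n : Set ↥(GUJ σ n)) := by
    rw [← heq]
    exact ⟨x, hxB, rfl⟩
  have hmem' : (s : GL (Fin n) F) * (x : GL (Fin n) F) * (s : GL (Fin n) F) ∈
      Bup n F := mem_BG.mp hmem
  have := (mem_Bup.mp hmem') (τ k) k h1
  rw [hsτ, monoGL_mul_mul_apply, Equiv.symm_apply_apply] at this
  have hc : ((c k : Fˣ) : F) ≠ 0 := Units.ne_zero _
  rcases mul_eq_zero.mp this with h4 | h4
  · rcases mul_eq_zero.mp h4 with h5 | h5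
    · exact hc h5
    · exact hx h5
  · exact hc h4

lemma NG_conj_mem {g : ↥(GUJ σ n)} (hn : g ∈ NG σ n) {t : ↥(GUJ σ n)}
    (ht : t ∈ BG σ n ⊓ NG σ n) : g * t * g⁻¹ ∈ BG σ n := by
  rw [BG_inf_NG, mem_TG] at ht
  obtain ⟨τ, c, hτ⟩ := exists_monoGL hn
  obtain ⟨d, hd⟩ := ht
  rw [mem_BG]
  show (g : GL (Fin n) F) * (t : GL (Fin n) F) * (g : GL (Fin n) F)⁻¹ ∈ Bup n F
  rw [hτ, hd, monoGL_inv, monoGL_mul, monoGL_mul, monoGL_mem_Bup_iff]
  simp

end Cfsg.Agent.Lib.Helper15.UnBN
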