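import Mathlib
import Cfsg.Agent.Lib.Helper15.UnBNF

/-!
helper15: generation of the unitary group `GUJ σ n` by `B` and `N`: preliminaries on matrices
whose first columns are upper triangular.
-/

set_option autoImplicit false

namespace Cfsg.Agent.Lib.Helper15.UnBN

open Matrix Equiv Cfsg.Agent.Lib.Helper6.GLBN
open Cfsg.Agent.Lib.Helper16.FusSU (adj adj_apply adj_mul adj_one emb emb_apply_mem
  emb_apply_of_not_right emb_apply_of_not_left)

variable {n : ℕ} {F : Type*} [Field F] {σ : F →+* F}

/-- the matrix of an element of the unitary group -/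
def mat (g : ↥(GUJ σ n)) : Matrix (Fin n) (Fin n) F :=
  ((g : GL (Fin n) F) : Matrix (Fin n) (Fin n) F)

lemma mat_mul (a b : ↥(GUJ σ n)) : mat (a * b) = mat a * mat b := rfl

lemma mat_one : mat (1 : ↥(GUJ σ n)) = 1 := rfl

/-- the first `k` columns are upper triangular -/
def ColTri (A : Matrix (Fin n) (Fin n) F) (k : ℕ) : Prop :=
  ∀ i j : Fin n, j.val < k → j < i → A i j = 0

/-- the inverse of a matrix with upper triangular first columns has the same shape -/
lemma colTri_inv {A A' : Matrix (Fin n) (Fin n) F} (h : A' * A = 1) {k : ℕ} (hA : ColTri A k) :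
    ColTri A' k := by
  have key : ∀ N : ℕ, ∀ j : Fin n, j.val = N → N < k →
      (A j j ≠ 0 ∧ ∀ i : Fin n, j < i → A' i j = 0) := by
    intro N
    induction N using Nat.strong_induction_on with
    | _ N ih =>
      intro j hj hN
      have hsum : ∀ i : Fin n, j ≤ i → (A' * A) i j = A' i j * A j j := by
        intro i hji
        rw [Matrix.mul_apply, Finset.sum_eq_single j]
        · intro l _ hl
          rcases lt_or_gt_of_ne hl with hlt | hgt
          · have hlN : l.val < N := by rw [← hj]; exact hlt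
            have := (ih l.val hlN l rfl (lt_trans hlN hN)).2 i (lt_of_lt_of_le hlt hji)
            rw [this, zero_mul]
          · rw [hA l j (by rw [hj]; exact hN) hgt, mul_zero]
        · intro h'; exact absurd (Finset.mem_univ _) h'
      have h1 := hsum j le_rfl
      rw [h, Matrix.one_apply_eq] at h1
      have hne : A j j ≠ 0 := by
        intro e
        rw [e, mul_zero] at h1
        exact one_ne_zero h1
      refine ⟨hne, fun i hji => ?_⟩
      have h2 := hsum i hji.le
      rw [h, Matrix.one_apply_ne (ne_of_gt hji)] at h2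
      rcases mul_eq_zero.mp h2.symm with h3 | h3
      · exact h3
      · exact absurd h3 hne
  intro i j hj hji
  exact (key j.val j rfl hj).2 i hji

/-- an entry of a unitary matrix vanishes if the mirror entry of the inverse does -/
lemma apply_eq_zero_of_inv {g : GL (Fin n) F} (hg : g ∈ GUJ σ n) {i j : Fin n}
    (h : ((g⁻¹ : GL (Fin n) F) : Matrix (Fin n) (Fin n) F) j.rev i.rev = 0) :
    (g : Matrix (Fin n) (Fin n) F) i j = 0 := by
  rw [GUJ_inv_coe hg, adj_apply, Fin.rev_rev, Fin.rev_rev] at h
  exact (map_eq_zero σ).mp h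

/-- the last rows of a unitary matrix whose first columns are upper triangular -/
lemma rowTri_of_colTri (g : ↥(GUJ σ n)) {k : ℕ} (hg : ColTri (mat g) k) (i j : Fin n)
    (hi : i.rev.val < k) (hji : j < i) : mat g i j = 0 := by
  apply apply_eq_zero_of_inv g.2
  have hinv : ((g.1⁻¹ : GL (Fin n) F) : Matrix (Fin n) (Fin n) F) *
      ((g : GL (Fin n) F) : Matrix (Fin n) (Fin n) F) = 1 := by
    rw [← Units.val_mul, inv_mul_cancel, Units.val_one]
  exact colTri_inv hinv hg j.rev i.rev hi (Fin.rev_lt_rev.mpr hji)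

/-- the terminal case: enough triangular columns force upper triangularity -/
lemma mem_BG_of_colTri (g : ↥(GUJ σ n)) {k : ℕ} (hk : n ≤ 2 * k + 1) (hg : ColTri (mat g) k) :
    g ∈ BG σ n := by
  rw [mem_BG, mem_Bup]
  intro i j hji
  by_cases hj : j.val < k
  · exact hg i j hj hji
  · apply rowTri_of_colTri g hg i j _ hji
    rw [Fin.val_rev]
    rw [Fin.lt_def] at hji
    have := i.2
    omega

/-- left multiplication by a matrix whose first columns are those of the identity -/
lemma colTri_mul {h A : Matrix (Fin n) (Fin n) F} {k : ℕ}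
    (hh : ∀ i j : Fin n, j.val < k → h i j = (1 : Matrix (Fin n) (Fin n) F) i j)
    (hA : ColTri A k) : ColTri (h * A) k := by
  intro i j hj hji
  rw [Matrix.mul_apply]
  apply Finset.sum_eq_zero
  intro a _
  by_cases haj : j < a
  · rw [hA a j hj haj, mul_zero]
  · have haj' : a ≤ j := not_lt.mp haj
    have ha : a.val < k := lt_of_le_of_lt haj' hj
    rw [hh i a ha, Matrix.one_apply_ne (ne_of_gt (lt_of_le_of_lt haj' hji)), zero_mul]

/-! ### columns of the generators -/

lemma xsU_col {p q : Fin n} (hpq : p ≠ q) (hq : q ≠ q.rev) (t : F) (i : Fin n) {j : Fin n}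
    (hj1 : j ≠ q) (hj2 : j ≠ p.rev) :
    ((xsU σ p q hpq t : GL (Fin n) F) : Matrix (Fin n) (Fin n) F) i j =
      (1 : Matrix (Fin n) (Fin n) F) i j := by
  rw [xsU_apply hpq hq, Matrix.one_apply, if_neg (fun h : i = q.rev ∧ j = p.rev => hj2 h.2),
    if_neg (fun h : i = p ∧ j = q => hj1 h.2), add_zero, add_zero]

lemma xGL_col {p q : Fin n} (hpq : p ≠ q) (t : F) (i : Fin n) {j : Fin n} (hj : j ≠ q) :
    ((xGL p q hpq t : GL (Fin n) F) : Matrix (Fin n) (Fin n) F) i j =
      (1 : Matrix (Fin n) (Fin n) F) i j := by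
  rw [coe_xGL, transvection_apply', Matrix.one_apply, if_neg (fun h : i = p ∧ j = q => hj h.2),
    add_zero]

lemma monoGL_one_col (π : Perm (Fin n)) (i : Fin n) {j : Fin n} (hj : π j = j) :
    ((monoGL π (fun _ => 1) : GL (Fin n) F) : Matrix (Fin n) (Fin n) F) i j =
      (1 : Matrix (Fin n) (Fin n) F) i j := by
  rw [coe_monoGL, mono_apply, hj, Matrix.one_apply, Units.val_one]

lemma monoGL_one_mul_apply (π : Perm (Fin n)) (A : Matrix (Fin n) (Fin n) F) (i j : Fin n) :
    (((monoGL π (fun _ => 1) : GL (Fin n) F) : Matrix (Fin n) (Fin n) F) * A) i j =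
      A (π.symm i) j := by
  rw [coe_monoGL, mono_mul_apply, Units.val_one, one_mul]

/-- the isotropy relation for a column of a unitary matrix -/
lemma col_relation {g : GL (Fin n) F} (hg : g ∈ GUJ σ n) {j : Fin n} (hj : j.rev ≠ j) :
    ∑ l, σ ((g : Matrix (Fin n) (Fin n) F) l.rev j) * (g : Matrix (Fin n) (Fin n) F) l j = 0 := by
  have h := GUJ_entry hg j.rev j
  rw [if_neg hj] at h
  rw [← h]
  apply Finset.sum_congr rfl
  intro l _
  rw [Fin.rev_rev]

end Cfsg.Agent.Lib.Helper15.UnBN
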