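import Mathlib
import Cfsg.Agent.Lib.Helper15.UnBNG

/-!
helper15: generation of the unitary group `GUJ σ n` by `B` and `N`: the reduction steps.
-/

set_option autoImplicit false

namespace Cfsg.Agent.Lib.Helper15.UnBN

open Matrix Equiv Cfsg.Agent.Lib.Helper6.GLBN
open Cfsg.Agent.Lib.Helper16.FusSU (adj adj_apply adj_mul adj_one emb emb_apply_mem
  emb_apply_of_not_right emb_apply_of_not_left)

variable {n : ℕ} {F : Type*} [Field F] {σ : F →+* F}

/-- the vanishing pattern: the first `k` columns are upper triangular and the column `k` vanishes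
below the row `l` -/
def Pat (A : Matrix (Fin n) (Fin n) F) (k l : ℕ) : Prop :=
  ColTri A k ∧ ∀ i j : Fin n, j.val = k → l < i.val → A i j = 0

lemma xsU_mul_apply {p q : Fin n} (hpq : p ≠ q) (hq : q ≠ q.rev) (t : F)
    (A : Matrix (Fin n) (Fin n) F) (a j : Fin n) :
    (((xsU σ p q hpq t : GL (Fin n) F) : Matrix (Fin n) (Fin n) F) * A) a j =
      A a j + (if a = q.rev then -σ t * A p.rev j else 0) + (if a = p then t * A q j else 0) := by
  rw [coe_xsU, Matrix.mul_assoc, transvection_mul_apply', transvection_mul_apply',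
    transvection_mul_apply', if_neg hq, add_zero]

lemma xGL_mul_apply {p q : Fin n} (hpq : p ≠ q) (t : F)
    (A : Matrix (Fin n) (Fin n) F) (a j : Fin n) :
    (((xGL p q hpq t : GL (Fin n) F) : Matrix (Fin n) (Fin n) F) * A) a j =
      A a j + (if a = p then t * A q j else 0) := by
  rw [coe_xGL, transvection_mul_apply']

lemma pat_of_zero {A : Matrix (Fin n) (Fin n) F} {k l : ℕ} (hA : Pat A k l) (hl : 0 < l)
    (h0 : ∀ i j : Fin n, j.val = k → i.val = l → A i j = 0) : Pat A k (l - 1) := by
  refine ⟨hA.1, fun i j hj hi => ?_⟩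
  by_cases hil : i.val = l
  · exact h0 i j hj hil
  · exact hA.2 i j hj (by omega)

/-- the reduction step in the first half of the column: a short root -/
lemma step_first (hσ : ∀ x, σ (σ x) = x) {k l : ℕ} (hkl : k < l) (hl : 2 * l + 1 < n)
    (g : ↥(GUJ σ n)) (hP : Pat (mat g) k l) :
    ∃ h ∈ BG σ n ⊔ NG σ n, Pat (mat (h * g)) k (l - 1) := by
  have hpn : l - 1 < n := by omega
  have hp'n : l < n := by omega
  have hkn : k < n := by omega
  set p : Fin n := ⟨l - 1, hpn⟩ with hp
  set p' : Fin n := ⟨l, hp'n⟩ with hp'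
  set kc : Fin n := ⟨k, hkn⟩ with hkc
  have hk' : p'.val = p.val + 1 := by simp only [hp, hp']; omega
  have hs : 2 * p.val + 3 < n := by simp only [hp]; omega
  obtain ⟨h1, h2, h3, h4, h5, h6, h7, h8⟩ := short_idx hk' hs
  have hvp := Fin.val_rev p
  have hvp' := Fin.val_rev p'
  have hpv : p.val = l - 1 := rfl
  have hp'v : p'.val = l := rfl
  by_cases h0 : mat g p' kc = 0
  · refine ⟨1, Subgroup.one_mem _, ?_⟩
    rw [one_mul]
    apply pat_of_zero hP (by omega)
    intro i j hj hi
    have e1 : i = p' := Fin.ext hi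
    have e2 : j = kc := Fin.ext hj
    rw [e1, e2]
    exact h0
  · set t : F := -(mat g p kc) / (mat g p' kc) with ht
    have hlt : p < p' := by rw [Fin.lt_def]; omega
    have hlt' : p'.rev < p.rev := by rw [Fin.lt_def]; omega
    set x : ↥(GUJ σ n) := ⟨xsU σ p p' h1 t, xsU_mem hσ h1 h3 h4 t⟩ with hx
    set s : ↥(GUJ σ n) := ⟨sS p p', sS_mem hk' hs⟩ with hsdef
    have hxB : x ∈ BG σ n := by
      rw [mem_BG]
      show xsU σ p p' h1 t ∈ Bup n F
      unfold xsU
      exact Subgroup.mul_mem _ (xGL_mem_Bup hlt _) (xGL_mem_Bup hlt' _)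
    have hsN : s ∈ NG σ n := SG_subset_NG ⟨p, Or.inl ⟨p', hk', hs, rfl⟩⟩
    refine ⟨s * x, Subgroup.mul_mem _ (Subgroup.mem_sup_right hsN) (Subgroup.mem_sup_left hxB), ?_⟩
    have hmat : mat (s * x * g) = ((sS p p' : GL (Fin n) F) : Matrix (Fin n) (Fin n) F) *
        (((xsU σ p p' h1 t : GL (Fin n) F) : Matrix (Fin n) (Fin n) F) * mat g) := by
      rw [mat_mul, mat_mul, Matrix.mul_assoc]
      rfl
    rw [hmat]
    constructor
    · apply colTri_mul
      · intro i j hj
        rw [sS_eq_monoGL]
        apply monoGL_one_col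
        have g1 : j ≠ p'.rev := by apply Fin.ne_of_val_ne; omega
        have g2 : j ≠ p.rev := by apply Fin.ne_of_val_ne; omega
        have g3 : j ≠ p := by apply Fin.ne_of_val_ne; omega
        have g4 : j ≠ p' := by apply Fin.ne_of_val_ne; omega
        rw [Perm.mul_apply, swap_apply_of_ne_of_ne g1 g2, swap_apply_of_ne_of_ne g3 g4]
      · apply colTri_mul _ hP.1
        intro i j hj
        apply xsU_col h1 h4
        · apply Fin.ne_of_val_ne; omega
        · apply Fin.ne_of_val_ne; omega
    · intro i j hj hi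
      have e2 : j = kc := Fin.ext hj
      rw [e2, sS_eq_monoGL, monoGL_one_mul_apply, xsU_mul_apply h1 h4]
      have hz : ∀ a : Fin n, l < a.val → mat g a kc = 0 := fun a ha => hP.2 a kc rfl ha
      have hzr : mat g p.rev kc = 0 := hz _ (by omega)
      have hzr' : mat g p'.rev kc = 0 := hz _ (by omega)
      by_cases hi1 : i = p'
      · have e : (swap p p' * swap p'.rev p.rev).symm i = p := by
          rw [Equiv.symm_apply_eq, hi1, Perm.mul_apply, swap_apply_of_ne_of_ne h2 h3,
            swap_apply_left]
        rw [e, if_neg h2, if_pos rfl, add_zero, ht]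
        field_simp
        ring
      · by_cases hi2 : i = p'.rev
        · have e : (swap p p' * swap p'.rev p.rev).symm i = p.rev := by
            rw [Equiv.symm_apply_eq, hi2, Perm.mul_apply, swap_apply_right,
              swap_apply_of_ne_of_ne (Ne.symm h2) (Ne.symm h4)]
          rw [e, if_neg (Ne.symm h6), if_neg (Ne.symm h3), add_zero, add_zero]
          exact hzr
        · by_cases hi3 : i = p.rev
          · have e : (swap p p' * swap p'.rev p.rev).symm i = p'.rev := by
              rw [Equiv.symm_apply_eq, hi3, Perm.mul_apply, swap_apply_left,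
                swap_apply_of_ne_of_ne (Ne.symm h3) (Ne.symm h5)]
            rw [e, if_pos rfl, if_neg (Ne.symm h2), add_zero, hzr, hzr', mul_zero, add_zero]
          · have hi0 : i ≠ p := by apply Fin.ne_of_val_ne; omega
            have e : (swap p p' * swap p'.rev p.rev).symm i = i := by
              rw [Equiv.symm_apply_eq, Perm.mul_apply, swap_apply_of_ne_of_ne hi2 hi3,
                swap_apply_of_ne_of_ne hi0 hi1]
            rw [e, if_neg hi2, if_neg hi0, add_zero, add_zero]
            apply hz
            have : i.val ≠ l := fun e' => hi1 (Fin.ext e')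
            omega

/-- the reduction step in the second half of the column: a short root -/
lemma step_last (hσ : ∀ x, σ (σ x) = x) {k l : ℕ} (hl : n + 1 < 2 * l) (hlk : l + k + 1 ≤ n)
    (g : ↥(GUJ σ n)) (hP : Pat (mat g) k l) :
    ∃ h ∈ BG σ n ⊔ NG σ n, Pat (mat (h * g)) k (l - 1) := by
  have hpn : n - 1 - l < n := by omega
  have hp'n : n - l < n := by omega
  have hkn : k < n := by omega
  set p : Fin n := ⟨n - 1 - l, hpn⟩ with hp
  set p' : Fin n := ⟨n - l, hp'n⟩ with hp'
  set kc : Fin n := ⟨k, hkn⟩ with hkc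
  have hk' : p'.val = p.val + 1 := by simp only [hp, hp']; omega
  have hs : 2 * p.val + 3 < n := by simp only [hp]; omega
  obtain ⟨h1, h2, h3, h4, h5, h6, h7, h8⟩ := short_idx hk' hs
  have hvp := Fin.val_rev p
  have hvp' := Fin.val_rev p'
  have hpv : p.val = n - 1 - l := rfl
  have hp'v : p'.val = n - l := rfl
  by_cases h0 : mat g p.rev kc = 0
  · refine ⟨1, Subgroup.one_mem _, ?_⟩
    rw [one_mul]
    apply pat_of_zero hP (by omega)
    intro i j hj hi
    have e1 : i = p.rev := Fin.ext (by omega)
    have e2 : j = kc := Fin.ext hj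
    rw [e1, e2]
    exact h0
  · set t : F := σ (mat g p'.rev kc / mat g p.rev kc) with ht
    have hσt : σ t = mat g p'.rev kc / mat g p.rev kc := by rw [ht, hσ]
    have hlt : p < p' := by rw [Fin.lt_def]; omega
    have hlt' : p'.rev < p.rev := by rw [Fin.lt_def]; omega
    set x : ↥(GUJ σ n) := ⟨xsU σ p p' h1 t, xsU_mem hσ h1 h3 h4 t⟩ with hx
    set s : ↥(GUJ σ n) := ⟨sS p p', sS_mem hk' hs⟩ with hsdef
    have hxB : x ∈ BG σ n := by
      rw [mem_BG]
      show xsU σ p p' h1 t ∈ Bup n F
      unfold xsU
      exact Subgroup.mul_mem _ (xGL_mem_Bup hlt _) (xGL_mem_Bup hlt' _)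
    have hsN : s ∈ NG σ n := SG_subset_NG ⟨p, Or.inl ⟨p', hk', hs, rfl⟩⟩
    refine ⟨s * x, Subgroup.mul_mem _ (Subgroup.mem_sup_right hsN) (Subgroup.mem_sup_left hxB), ?_⟩
    have hmat : mat (s * x * g) = ((sS p p' : GL (Fin n) F) : Matrix (Fin n) (Fin n) F) *
        (((xsU σ p p' h1 t : GL (Fin n) F) : Matrix (Fin n) (Fin n) F) * mat g) := by
      rw [mat_mul, mat_mul, Matrix.mul_assoc]
      rfl
    rw [hmat]
    constructor
    · apply colTri_mul
      · intro i j hj
        rw [sS_eq_monoGL]
        apply monoGL_one_col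
        have g1 : j ≠ p'.rev := by apply Fin.ne_of_val_ne; omega
        have g2 : j ≠ p.rev := by apply Fin.ne_of_val_ne; omega
        have g3 : j ≠ p := by apply Fin.ne_of_val_ne; omega
        have g4 : j ≠ p' := by apply Fin.ne_of_val_ne; omega
        rw [Perm.mul_apply, swap_apply_of_ne_of_ne g1 g2, swap_apply_of_ne_of_ne g3 g4]
      · apply colTri_mul _ hP.1
        intro i j hj
        apply xsU_col h1 h4
        · apply Fin.ne_of_val_ne; omega
        · apply Fin.ne_of_val_ne; omega
    · intro i j hj hi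
      have e2 : j = kc := Fin.ext hj
      rw [e2, sS_eq_monoGL, monoGL_one_mul_apply, xsU_mul_apply h1 h4]
      have hz : ∀ a : Fin n, l < a.val → mat g a kc = 0 := fun a ha => hP.2 a kc rfl ha
      by_cases hi3 : i = p.rev
      · have e : (swap p p' * swap p'.rev p.rev).symm i = p'.rev := by
          rw [Equiv.symm_apply_eq, hi3, Perm.mul_apply, swap_apply_left,
            swap_apply_of_ne_of_ne (Ne.symm h3) (Ne.symm h5)]
        rw [e, if_pos rfl, if_neg (Ne.symm h2), add_zero, hσt]
        field_simp
        ring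
      · have hi0 : i ≠ p := by apply Fin.ne_of_val_ne; omega
        have hi1 : i ≠ p' := by apply Fin.ne_of_val_ne; omega
        have hi2 : i ≠ p'.rev := by apply Fin.ne_of_val_ne; omega
        have e : (swap p p' * swap p'.rev p.rev).symm i = i := by
          rw [Equiv.symm_apply_eq, Perm.mul_apply, swap_apply_of_ne_of_ne hi2 hi3,
            swap_apply_of_ne_of_ne hi0 hi1]
        rw [e, if_neg hi2, if_neg hi0, add_zero, add_zero]
        apply hz
        have : i.val ≠ l := fun e' => hi3 (Fin.ext (by omega))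
        omega

/-- the reduction step at the middle in even dimension: the long root -/
lemma step_long {k l : ℕ} (hkl : k < l) (hl : 2 * l = n)
    (g : ↥(GUJ σ n)) (hP : Pat (mat g) k l) :
    ∃ h ∈ BG σ n ⊔ NG σ n, Pat (mat (h * g)) k (l - 1) := by
  have hpn : l - 1 < n := by omega
  have hkn : k < n := by omega
  set p : Fin n := ⟨l - 1, hpn⟩ with hp
  set kc : Fin n := ⟨k, hkn⟩ with hkc
  have hl2 : 2 * p.val + 2 = n := by simp only [hp]; omega
  obtain ⟨h1, h2, h3⟩ := long_idx hl2
  have hvp := Fin.val_rev p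
  have hpv : p.val = l - 1 := rfl
  have hz : ∀ a : Fin n, l < a.val → mat g a kc = 0 := fun a ha => hP.2 a kc rfl ha
  by_cases h0 : mat g p.rev kc = 0
  · refine ⟨1, Subgroup.one_mem _, ?_⟩
    rw [one_mul]
    apply pat_of_zero hP (by omega)
    intro i j hj hi
    have e1 : i = p.rev := Fin.ext (by omega)
    have e2 : j = kc := Fin.ext hj
    rw [e1, e2]
    exact h0
  · set t : F := -(mat g p kc) / (mat g p.rev kc) with ht
    have h0' : σ (mat g p.rev kc) ≠ 0 := fun e => h0 ((map_eq_zero σ).mp e)
    have hrel : t + σ t = 0 := by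
      have hkr : kc.rev ≠ kc := by
        apply Fin.ne_of_val_ne
        rw [Fin.val_rev]
        show n - (k + 1) ≠ k
        omega
      have := col_relation g.2 hkr
      rw [sum_eq_two p p.rev h2] at this
      · rw [Fin.rev_rev] at this
        rw [ht, map_div₀, map_neg]
        field_simp
        have this' : σ (mat g p.rev kc) * mat g p kc + σ (mat g p kc) * mat g p.rev kc = 0 := this
        linear_combination (-1 : F) * this'
      · intro a ha1 ha2
        have hva := Fin.val_rev a
        by_cases hap : a.val < p.val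
        · have : mat g a.rev kc = 0 := hz _ (by omega)
          show σ (mat g a.rev kc) * mat g a kc = 0
          rw [this, map_zero, zero_mul]
        · have : mat g a kc = 0 := by
            apply hz
            have g1 : a.val ≠ p.val := fun e => ha1 (Fin.ext e)
            have g2 : a.val ≠ p.rev.val := fun e => ha2 (Fin.ext e)
            omega
          show σ (mat g a.rev kc) * mat g a kc = 0
          rw [this, mul_zero]
    set x : ↥(GUJ σ n) := ⟨xGL p p.rev h2 t, xGL_long_mem h2 hrel⟩ with hx
    set s : ↥(GUJ σ n) := ⟨sG p p.rev, sG_rev_mem p⟩ with hsdef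
    have hxB : x ∈ BG σ n := by
      rw [mem_BG]
      exact xGL_mem_Bup h3 _
    have hsN : s ∈ NG σ n := SG_subset_NG ⟨p, Or.inr ⟨Or.inl hl2, rfl⟩⟩
    refine ⟨s * x, Subgroup.mul_mem _ (Subgroup.mem_sup_right hsN) (Subgroup.mem_sup_left hxB), ?_⟩
    have hmat : mat (s * x * g) = ((sG p p.rev : GL (Fin n) F) : Matrix (Fin n) (Fin n) F) *
        (((xGL p p.rev h2 t : GL (Fin n) F) : Matrix (Fin n) (Fin n) F) * mat g) := by
      rw [mat_mul, mat_mul, Matrix.mul_assoc]
      rfl
    rw [hmat]
    constructor
    · apply colTri_mul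
      · intro i j hj
        unfold sG
        apply monoGL_one_col
        have g3 : j ≠ p := by apply Fin.ne_of_val_ne; omega
        have g4 : j ≠ p.rev := by apply Fin.ne_of_val_ne; omega
        rw [swap_apply_of_ne_of_ne g3 g4]
      · apply colTri_mul _ hP.1
        intro i j hj
        apply xGL_col h2
        apply Fin.ne_of_val_ne; omega
    · intro i j hj hi
      have e2 : j = kc := Fin.ext hj
      rw [e2, coe_sG_mul, xGL_mul_apply]
      by_cases hi3 : i = p.rev
      · rw [hi3, swap_apply_right, if_pos rfl, ht]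
        field_simp
        ring
      · have hi0 : i ≠ p := by apply Fin.ne_of_val_ne; omega
        rw [swap_apply_of_ne_of_ne hi0 hi3, if_neg hi0, add_zero]
        apply hz
        have : i.val ≠ l := fun e' => hi3 (Fin.ext (by omega))
        omega

/-- the middle entry of an isotropic column vanishes -/
lemma step_mid {k l : ℕ} (hkl : k < l) (hl : 2 * l + 1 = n)
    (g : ↥(GUJ σ n)) (hP : Pat (mat g) k l) : Pat (mat g) k (l - 1) := by
  have hln : l < n := by omega
  have hkn : k < n := by omega
  set p : Fin n := ⟨l, hln⟩ with hp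
  set kc : Fin n := ⟨k, hkn⟩ with hkc
  have hz : ∀ a : Fin n, l < a.val → mat g a kc = 0 := fun a ha => hP.2 a kc rfl ha
  have hprev : p.rev = p := by
    apply Fin.ext
    rw [Fin.val_rev]
    show n - (l + 1) = l
    omega
  have h0 : mat g p kc = 0 := by
    have hkr : kc.rev ≠ kc := by
      apply Fin.ne_of_val_ne
      rw [Fin.val_rev]
      show n - (k + 1) ≠ k
      omega
    have := col_relation g.2 hkr
    rw [Finset.sum_eq_single p] at this
    · rw [hprev] at this
      rcases mul_eq_zero.mp this with h | h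
      · exact (map_eq_zero σ).mp h
      · exact h
    · intro a _ ha
      have hva := Fin.val_rev a
      by_cases hap : a.val < l
      · have : mat g a.rev kc = 0 := hz _ (by omega)
        show σ (mat g a.rev kc) * mat g a kc = 0
        rw [this, map_zero, zero_mul]
      · have : mat g a kc = 0 := by
          apply hz
          have g1 : a.val ≠ l := fun e => ha (Fin.ext e)
          omega
        show σ (mat g a.rev kc) * mat g a kc = 0
        rw [this, mul_zero]
    · intro h; exact absurd (Finset.mem_univ _) h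
  apply pat_of_zero hP (by omega)
  intro i j hj hi
  have e1 : i = p := Fin.ext hi
  have e2 : j = kc := Fin.ext hj
  rw [e1, e2]
  exact h0

end Cfsg.Agent.Lib.Helper15.UnBN
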