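import Mathlib
import Cfsg.Agent.Lib.Helper15.UnBNH

/-!
helper15: generation of the unitary group `GUJ σ n` by `B` and `N` (the step at the middle in odd
dimension and the induction), and the (B,N)-pair.
-/

set_option autoImplicit false

namespace Cfsg.Agent.Lib.Helper15.UnBN

open Matrix Equiv Cfsg.Agent.Lib.Helper6.GLBN
open Cfsg.Agent.Lib.Helper16.FusSU (adj adj_apply adj_mul adj_one emb emb_apply_mem
  emb_apply_of_not_right emb_apply_of_not_left)

variable {n : ℕ} {F : Type*} [Field F] {σ : F →+* F}

/-- the reduction step at the middle in odd dimension -/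
lemma step_odd (hσ : ∀ x, σ (σ x) = x) {k l : ℕ} (hl : 2 * l = n + 1) (hlk : l + k + 1 ≤ n)
    (g : ↥(GUJ σ n)) (hP : Pat (mat g) k l) :
    ∃ h ∈ BG σ n ⊔ NG σ n, Pat (mat (h * g)) k (l - 1) := by
  have hpn : l - 2 < n := by omega
  have hp'n : l - 1 < n := by omega
  have hkn : k < n := by omega
  set p : Fin n := ⟨l - 2, hpn⟩ with hp
  set p' : Fin n := ⟨l - 1, hp'n⟩ with hp'
  set kc : Fin n := ⟨k, hkn⟩ with hkc
  have hk' : p'.val = p.val + 1 := by simp only [hp, hp']; omega
  have hn : 2 * p.val + 3 = n := by simp only [hp]; omega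
  obtain ⟨h1, h2, h3, h4, h5, h6, h7⟩ := odd_idx hk' hn
  have hvp := Fin.val_rev p
  have hpv : p.val = l - 2 := rfl
  have hp'v : p'.val = l - 1 := rfl
  have hz : ∀ a : Fin n, l < a.val → mat g a kc = 0 := fun a ha => hP.2 a kc rfl ha
  by_cases h0 : mat g p.rev kc = 0
  · refine ⟨1, Subgroup.one_mem _, ?_⟩
    rw [one_mul]
    apply pat_of_zero hP (by omega)
    intro i j hj hi
    have e1 : i = p.rev := Fin.ext (by omega)
    have e2 : j = kc := Fin.ext hj
    rw [e1, e2]
    exact h0
  · have h0' : σ (mat g p.rev kc) ≠ 0 := fun e => h0 ((map_eq_zero σ).mp e)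
    set a : F := σ (mat g p' kc / mat g p.rev kc) with ha
    have hσa : σ a = mat g p' kc / mat g p.rev kc := by rw [ha, hσ]
    set c : F := -(mat g p kc + a * mat g p' kc) / mat g p.rev kc with hc
    have hiso : σ (mat g p.rev kc) * mat g p kc + σ (mat g p' kc) * mat g p' kc +
        σ (mat g p kc) * mat g p.rev kc = 0 := by
      have hkr : kc.rev ≠ kc := by
        apply Fin.ne_of_val_ne
        rw [Fin.val_rev]
        show n - (k + 1) ≠ k
        omega
      have := col_relation g.2 hkr
      rw [sum_eq_three p p' p.rev h3 h4 h5] at this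
      · rw [Fin.rev_rev, h1] at this
        exact this
      · intro b hb1 hb2 hb3
        have hvb := Fin.val_rev b
        by_cases hbp : b.val < p.val
        · have : mat g b.rev kc = 0 := hz _ (by omega)
          show σ (mat g b.rev kc) * mat g b kc = 0
          rw [this, map_zero, zero_mul]
        · have : mat g b kc = 0 := by
            apply hz
            have g1 : b.val ≠ p.val := fun e => hb1 (Fin.ext e)
            have g2 : b.val ≠ p'.val := fun e => hb2 (Fin.ext e)
            have g3 : b.val ≠ p.rev.val := fun e => hb3 (Fin.ext e)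
            omega
          show σ (mat g b.rev kc) * mat g b kc = 0
          rw [this, mul_zero]
    have hrel : c + σ c + a * σ a = 0 := by
      rw [hc, map_div₀, map_neg, map_add, map_mul, hσa, ha, map_div₀]
      field_simp
      linear_combination (-1 : F) * hiso
    set x : ↥(GUJ σ n) := ⟨uO hk' hn a (σ a) c, uO_mem hk' hn hσ hrel⟩ with hx
    set s : ↥(GUJ σ n) := ⟨sG p p.rev, sG_rev_mem p⟩ with hsdef
    have hxB : x ∈ BG σ n := by
      rw [mem_BG]
      exact uO_mem_Bup hk' hn _ _ _
    have hsN : s ∈ NG σ n := SG_subset_NG ⟨p, Or.inr ⟨Or.inr hn, rfl⟩⟩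
    refine ⟨s * x, Subgroup.mul_mem _ (Subgroup.mem_sup_right hsN) (Subgroup.mem_sup_left hxB), ?_⟩
    have hmat : mat (s * x * g) = ((sG p p.rev : GL (Fin n) F) : Matrix (Fin n) (Fin n) F) *
        (emb (io p p') (U3 a (σ a) c) * mat g) := by
      rw [mat_mul, mat_mul, Matrix.mul_assoc]
      rfl
    rw [hmat]
    have hι := (io_strictMono hk' hn).injective
    constructor
    · apply colTri_mul
      · intro i j hj
        unfold sG
        apply monoGL_one_col
        have g3 : j ≠ p := by apply Fin.ne_of_val_ne; omega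
        have g4 : j ≠ p.rev := by apply Fin.ne_of_val_ne; omega
        rw [swap_apply_of_ne_of_ne g3 g4]
      · apply colTri_mul _ hP.1
        intro i j hj
        apply emb_apply_of_not_right
        intro α
        fin_cases α
        · show j ≠ p
          apply Fin.ne_of_val_ne; omega
        · show j ≠ p'
          apply Fin.ne_of_val_ne; omega
        · show j ≠ p.rev
          apply Fin.ne_of_val_ne; omega
    · intro i j hj hi
      have e2 : j = kc := Fin.ext hj
      rw [e2, coe_sG_mul]
      by_cases hi3 : i = p.rev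
      · rw [hi3, swap_apply_right]
        have := emb_mul_apply_mem hι (mat g) (U3 a (σ a) c) 0 kc
        have e0 : io p p' 0 = p := rfl
        rw [e0] at this
        rw [this, Fin.sum_univ_three]
        simp only [io, U3]
        simp
        rw [hc]
        field_simp
        ring
      · have hi0 : i ≠ p := by apply Fin.ne_of_val_ne; omega
        have hi1 : i ≠ p' := by apply Fin.ne_of_val_ne; omega
        rw [swap_apply_of_ne_of_ne hi0 hi3]
        rw [emb_mul_apply_not]
        · apply hz
          have : i.val ≠ l := fun e' => hi3 (Fin.ext (by omega))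
          omega
        · intro α
          fin_cases α
          · exact hi0
          · exact hi1
          · exact hi3

/-- one reduction step, in all cases -/
lemma step_all (hσ : ∀ x, σ (σ x) = x) {k l : ℕ} (hkl : k < l) (hlk : l + k + 1 ≤ n)
    (g : ↥(GUJ σ n)) (hP : Pat (mat g) k l) :
    ∃ h ∈ BG σ n ⊔ NG σ n, Pat (mat (h * g)) k (l - 1) := by
  by_cases c1 : 2 * l + 1 < n
  · exact step_first hσ hkl c1 g hP
  · by_cases c2 : 2 * l + 1 = n
    · exact ⟨1, Subgroup.one_mem _, by rw [one_mul]; exact step_mid hkl c2 g hP⟩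
    · by_cases c3 : 2 * l = n
      · exact step_long hkl c3 g hP
      · by_cases c4 : 2 * l = n + 1
        · exact step_odd hσ c4 hlk g hP
        · exact step_last hσ (by omega) hlk g hP

/-- the induction on the rows of the column `k` -/
lemma gen_col (hσ : ∀ x, σ (σ x) = x) (k : ℕ)
    (ih : ∀ g : ↥(GUJ σ n), ColTri (mat g) (k + 1) → g ∈ BG σ n ⊔ NG σ n) :
    ∀ e l : ℕ, l = k + e → l + k + 1 ≤ n → ∀ g : ↥(GUJ σ n), Pat (mat g) k l →
      g ∈ BG σ n ⊔ NG σ n := by
  intro e
  induction e with
  | zero =>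
    intro l hl _ g hP
    apply ih
    intro i j hj hji
    by_cases hjk : j.val < k
    · exact hP.1 i j hjk hji
    · apply hP.2 i j (by omega)
      rw [Fin.lt_def] at hji
      omega
  | succ e ihe =>
    intro l hl hlk g hP
    obtain ⟨h, hh, hP'⟩ := step_all hσ (by omega) hlk g hP
    have := ihe (l - 1) (by omega) (by omega) (h * g) hP'
    have e' : g = h⁻¹ * (h * g) := by group
    rw [e']
    exact Subgroup.mul_mem _ (Subgroup.inv_mem _ hh) this

/-- the induction on the columns -/
lemma gen_all (hσ : ∀ x, σ (σ x) = x) :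
    ∀ d k : ℕ, n ≤ 2 * k + 1 + 2 * d → ∀ g : ↥(GUJ σ n), ColTri (mat g) k →
      g ∈ BG σ n ⊔ NG σ n := by
  intro d
  induction d with
  | zero =>
    intro k hk g hg
    exact Subgroup.mem_sup_left (mem_BG_of_colTri g (by omega) hg)
  | succ d ihd =>
    intro k hk g hg
    by_cases hk' : n ≤ 2 * k + 1
    · exact Subgroup.mem_sup_left (mem_BG_of_colTri g hk' hg)
    · have ih := ihd (k + 1) (by omega)
      apply gen_col hσ k ih (n - 1 - k - k) (n - 1 - k) (by omega) (by omega) g
      refine ⟨hg, fun i j hj hi => ?_⟩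
      apply rowTri_of_colTri g hg i j
      · rw [Fin.val_rev]; have := i.2; omega
      · rw [Fin.lt_def]; omega

theorem BG_sup_NG (hσ : ∀ x, σ (σ x) = x) : BG σ n ⊔ NG σ n = ⊤ := by
  rw [eq_top_iff]
  intro g _
  apply gen_all hσ n 0 (by omega) g
  intro i j hj
  exact absurd hj (Nat.not_lt_zero _)

/-- the `(B,N)`-pair of the unitary group -/
def unBN (σ : F →+* F) (n : ℕ) (hσ : ∀ x, σ (σ x) = x) (hsk : SkOK σ n) :
    Cfsg.BNPair ↥(GUJ σ n) where
  B := BG σ n
  N := NG σ n
  S := SG σ n
  sup_eq_top := BG_sup_NG hσ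
  conj_mem := fun _ hn _ ht => NG_conj_mem hn ht
  subset := SG_subset_NG
  sq_mem := fun _ hs => SG_sq_mem hs
  inj := fun _ hs _ hs' h => SG_inj hσ hsk hs hs' h
  closure_sup := by
    rw [BG_inf_NG]
    rfl
  mul_mem_union := by
    intro s hs g hg b hb
    obtain ⟨k, hk⟩ := hs
    obtain ⟨k', hk', hd⟩ := exists_simpleData hσ hk
    have hkk' : k ≠ k' := by
      apply Fin.ne_of_val_ne; omega
    exact hd.main hkk' hb hg
  conj_ne := fun _ hs => SG_conj_ne hσ hsk hs

variable (hσ : ∀ x, σ (σ x) = x) (hsk : SkOK σ n)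

theorem unBN_B : (unBN σ n hσ hsk).B = BG σ n := rfl
theorem unBN_N : (unBN σ n hσ hsk).N = NG σ n := rfl
theorem unBN_S : (unBN σ n hσ hsk).S = SG σ n := rfl

end Cfsg.Agent.Lib.Helper15.UnBN
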