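import Mathlib
import Cfsg.Agent.Lib.Helper15.UnBNI
import Cfsg.Agent.Lib.Helper6.BNResA
import Cfsg.Agent.Lib.Helper6.GLStA

/-!
helper15: the (B,N)-pair of the unitary group `GUJ σ n`: the longest element of the Weyl group is
represented by a monomial matrix with the antidiagonal permutation, `B ∩ n₀ B n₀⁻¹` consists of the
diagonal matrices, and the Steinberg function vanishes at the non-identity upper unitriangular
elements, its degree being the order of the unitriangular group.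
-/

set_option autoImplicit false

namespace Cfsg.Agent.Lib.Helper15.UnBN

open Matrix Equiv Cfsg Cfsg.Agent.Lib.Helper3.BN Cfsg.Agent.Lib.Helper6.BNSt
  Cfsg.Agent.Lib.Helper6.GLBN Cfsg.Agent.Lib.Helper6.GLSt
open Cfsg.Agent.Lib.Helper15.SpBN (conj_monoGL_mem_Bup_iff perm_eq_one_of_adj)

variable {n : ℕ} {F : Type*} [Field F] {σ : F →+* F}

instance instFiniteGUJ [Finite F] : Finite ↥(GUJ σ n) := by
  have : Finite (GL (Fin n) F) :=
    Finite.of_injective (fun g : GL (Fin n) F =>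
      (g : Matrix (Fin n) (Fin n) F)) Units.val_injective
  infer_instance

variable (hσ : ∀ x, σ (σ x) = x) (hsk : SkOK σ n)

/-- a monomial representative of an element of `N` whose Weyl group element has all simple
reflections as left descents reverses the order of every simple pair -/
lemma lt_of_descent {s : ↥(GUJ σ n)} (hs : s ∈ (unBN σ n hσ hsk).S) {k k' : Fin n}
    (hd : SimpleData s k k') (hkk' : k ≠ k') {g : ↥(GUJ σ n)} (hn : g ∈ (unBN σ n hσ hsk).N)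
    (hg : ∃ x ∈ C (unBN σ n hσ hsk) (mkW (unBN σ n hσ hsk) g hn),
      s * x ∈ C (unBN σ n hσ hsk) (mkW (unBN σ n hσ hsk) g hn))
    {τ : Perm (Fin n)} {c : Fin n → Fˣ}
    (hτ : (g : GL (Fin n) F) = monoGL τ c) : τ⁻¹ k' < τ⁻¹ k := by
  have hne : τ⁻¹ k ≠ τ⁻¹ k' := fun h => hkk' (τ⁻¹.injective h)
  rcases lt_or_gt_of_ne hne with hlt | hgt
  · exfalso
    obtain ⟨x, hg1, hg2⟩ := hg
    rw [mem_C_mk, mem_dc] at hg1
    obtain ⟨b1, hb1, b2, hb2, rfl⟩ := hg1
    have h1 : s * b1 * g ∈ dc (unBN σ n hσ hsk) (s * g) := hd.pos hb1 hτ hlt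
    have hsn : s * g ∈ (unBN σ n hσ hsk).N :=
      (unBN σ n hσ hsk).N.mul_mem ((unBN σ n hσ hsk).subset hs) hn
    have h2 : s * (b1 * g * b2) ∈ C (unBN σ n hσ hsk) (mkW (unBN σ n hσ hsk) (s * g) hsn) := by
      rw [mem_C_mk]
      have e : s * (b1 * g * b2) = s * b1 * g * b2 := by group
      rw [e]
      exact dc_mul_right (unBN σ n hσ hsk) h1 hb2
    have h3 := eq_of_common (unBN σ n hσ hsk) h2 hg2
    rw [mkW_mul (unBN σ n hσ hsk) ((unBN σ n hσ hsk).subset hs) hn] at h3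
    exact sb_ne_one (unBN σ n hσ hsk) hs (mul_eq_right.mp h3)
  · exact hgt

section longest

variable [Finite F]

lemma exists_descent {s : ↥(GUJ σ n)} (hs : s ∈ (unBN σ n hσ hsk).S) :
    ∃ g ∈ C (unBN σ n hσ hsk) (mkW (unBN σ n hσ hsk)
        (repW (unBN σ n hσ hsk) (w0 (unBN σ n hσ hsk))) (repW_mem _ _)),
      s * g ∈ C (unBN σ n hσ hsk) (mkW (unBN σ n hσ hsk)
        (repW (unBN σ n hσ hsk) (w0 (unBN σ n hσ hsk))) (repW_mem _ _)) := by
  rw [mkW_repW]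
  apply B_lemma (unBN σ n hσ hsk) hs
  exact le_of_lt (w0_left (unBN σ n hσ hsk) _ (sb_mem (unBN σ n hσ hsk) hs))

/-- the permutation of a representative of the longest element is the antidiagonal one -/
theorem repW_w0_eq : ∃ c : Fin n → Fˣ,
    ((repW (unBN σ n hσ hsk) (w0 (unBN σ n hσ hsk)) : ↥(GUJ σ n)) : GL (Fin n) F) =
      monoGL Fin.revPerm c := by
  have hn : repW (unBN σ n hσ hsk) (w0 (unBN σ n hσ hsk)) ∈ NG σ n :=
    repW_mem (unBN σ n hσ hsk) _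
  obtain ⟨τ, c, hτ⟩ := exists_monoGL hn
  refine ⟨c, ?_⟩
  rw [hτ]
  congr 1
  have hcomm := perm_comm_of_mem hτ
  -- the simple pairs are reversed
  have hkey : ∀ a a' : Fin n, a'.val = a.val + 1 → 2 * a.val + 2 ≤ n → τ⁻¹ a' < τ⁻¹ a := by
    intro a a' ha h2
    have hne : a ≠ a' := by apply Fin.ne_of_val_ne; omega
    by_cases c1 : 2 * a.val + 3 < n
    · have hsS : (⟨sS a a', sS_mem ha c1⟩ : ↥(GUJ σ n)) ∈ (unBN σ n hσ hsk).S :=
        ⟨a, Or.inl ⟨a', ha, c1, rfl⟩⟩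
      exact lt_of_descent hσ hsk hsS (simpleData_short hσ ha c1 rfl) hne hn
        (exists_descent hσ hsk hsS) hτ
    · by_cases c2 : 2 * a.val + 3 = n
      · have hsS : (⟨sG a a.rev, sG_rev_mem a⟩ : ↥(GUJ σ n)) ∈ (unBN σ n hσ hsk).S :=
          ⟨a, Or.inr ⟨Or.inr c2, rfl⟩⟩
        exact lt_of_descent hσ hsk hsS (simpleData_odd hσ ha c2 rfl) hne hn
          (exists_descent hσ hsk hsS) hτ
      · have c3 : 2 * a.val + 2 = n := by omega
        have hsS : (⟨sG a a.rev, sG_rev_mem a⟩ : ↥(GUJ σ n)) ∈ (unBN σ n hσ hsk).S :=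
          ⟨a, Or.inr ⟨Or.inl c3, rfl⟩⟩
        obtain ⟨g1, g2, g3⟩ := long_idx c3
        have ha' : a' = a.rev := Fin.ext (by omega)
        subst ha'
        exact lt_of_descent hσ hsk hsS (simpleData_long c3 rfl) g2 hn
          (exists_descent hσ hsk hsS) hτ
  -- all adjacent pairs are reversed
  have hadj : ∀ i i' : Fin n, i'.val = i.val + 1 → τ⁻¹ i' < τ⁻¹ i := by
    intro i i' hi
    by_cases h1 : 2 * i.val + 2 ≤ n
    · exact hkey i i' hi h1
    · have hv1 := Fin.val_rev i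
      have hv2 := Fin.val_rev i'
      have hi2 := i'.2
      have := hkey i'.rev i.rev (by omega) (by omega)
      rw [inv_rev_of_comm hcomm, inv_rev_of_comm hcomm, Fin.rev_lt_rev] at this
      exact this
  -- hence `τ⁻¹ ∘ rev` is increasing on adjacent pairs
  have h1 : τ⁻¹ * Fin.revPerm = 1 := by
    apply perm_eq_one_of_adj
    intro i j hij
    rw [Perm.mul_apply, Perm.mul_apply, Fin.revPerm_apply, Fin.revPerm_apply]
    apply hadj
    rw [Fin.val_rev, Fin.val_rev]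
    have := j.2
    omega
  have h2 : τ⁻¹ = (Fin.revPerm : Perm (Fin n))⁻¹ := eq_inv_of_mul_eq_one_left h1
  exact inv_injective h2

/-- `B ∩ n₀ B n₀⁻¹`, as a subgroup of `B`, consists of the diagonal matrices -/
theorem mem_BStab_w0 (b : (unBN σ n hσ hsk).B) :
    b ∈ BStab (unBN σ n hσ hsk) (repW (unBN σ n hσ hsk) (w0 (unBN σ n hσ hsk))) ↔
      ∀ i j : Fin n, i ≠ j →
        (((b : ↥(GUJ σ n)) : GL (Fin n) F) : Matrix (Fin n) (Fin n) F) i j = 0 := by
  obtain ⟨c, hc⟩ := repW_w0_eq (n := n) (F := F) hσ hsk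
  rw [mem_BStab]
  show _ ∈ BG σ n ↔ _
  rw [mem_BG, coe_conj, hc, conj_monoGL_mem_Bup_iff]
  have hb : ((b : ↥(GUJ σ n)) : GL (Fin n) F) ∈ Bup n F := mem_BG.mp b.2
  constructor
  · intro h i j hij
    rcases lt_or_gt_of_ne hij with hlt | hgt
    · have := h i.rev j.rev (Fin.rev_lt_rev.mpr hlt)
      rw [Fin.revPerm_apply, Fin.revPerm_apply, Fin.rev_rev, Fin.rev_rev] at this
      exact this
    · exact (mem_Bup.mp hb) i j hgt
  · intro h i j hji
    apply h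
    rw [Fin.revPerm_apply, Fin.revPerm_apply]
    intro he
    exact (ne_of_gt hji) (Fin.rev_injective he)

end longest

/-- the upper unitriangular subgroup of the unitary group -/
def UG (σ : F →+* F) (n : ℕ) : Subgroup ↥(GUJ σ n) where
  carrier := {g | (g : GL (Fin n) F) ∈ Bup n F ∧
    ∀ i, ((g : GL (Fin n) F) : Matrix (Fin n) (Fin n) F) i i = 1}
  mul_mem' := by
    rintro a b ⟨ha, ha1⟩ ⟨hb, hb1⟩
    refine ⟨Subgroup.mul_mem _ ha hb, fun i => ?_⟩
    show (((a : GL (Fin n) F) * (b : GL (Fin n) F) : GL (Fin n) F) :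
      Matrix (Fin n) (Fin n) F) i i = 1
    rw [Bup_mul_diag ha hb, ha1, hb1, mul_one]
  one_mem' := ⟨Subgroup.one_mem _, fun i => by simp⟩
  inv_mem' := by
    rintro a ⟨ha, ha1⟩
    refine ⟨Subgroup.inv_mem _ ha, fun i => ?_⟩
    have := Bup_inv_diag ha i
    rw [ha1, mul_one] at this
    exact this

lemma mem_UG {g : ↥(GUJ σ n)} : g ∈ UG σ n ↔ (g : GL (Fin n) F) ∈ Bup n F ∧
    ∀ i, ((g : GL (Fin n) F) : Matrix (Fin n) (Fin n) F) i i = 1 := Iff.rfl

lemma UG_le_BG : UG σ n ≤ BG σ n := fun _ hg => mem_BG.mpr hg.1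

/-- an element of `UG` with vanishing off-diagonal entries is trivial -/
lemma eq_one_of_offdiag {g : ↥(GUJ σ n)} (hg : g ∈ UG σ n)
    (h : ∀ i j : Fin n, i ≠ j →
      ((g : GL (Fin n) F) : Matrix (Fin n) (Fin n) F) i j = 0) : g = 1 := by
  apply Subtype.ext
  apply Units.ext
  ext i j
  show ((g : GL (Fin n) F) : Matrix (Fin n) (Fin n) F) i j =
    (1 : Matrix (Fin n) (Fin n) F) i j
  rw [Matrix.one_apply]
  by_cases hij : i = j
  · subst hij
    rw [if_pos rfl]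
    exact hg.2 i
  · rw [if_neg hij]
    exact h i j hij

section steinberg

variable [Finite F]

/-- the simple reflections, as a finset -/
noncomputable def SfinUn (σ : F →+* F) (n : ℕ) : Finset ↥(GUJ σ n) :=
  (Set.toFinite (SG σ n)).toFinset

theorem coe_SfinUn : ((SfinUn σ n : Finset ↥(GUJ σ n)) : Set ↥(GUJ σ n)) =
    (unBN σ n hσ hsk).S :=
  Set.Finite.coe_toFinset _

/-- the Steinberg function of the unitary group -/
noncomputable def stUn (σ : F →+* F) (n : ℕ) (hσ : ∀ x, σ (σ x) = x)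
    (hsk : SkOK σ n) : ↥(GUJ σ n) → ℂ :=
  stFun (unBN σ n hσ hsk) (SfinUn σ n)

theorem stUn_apply_B (b : (unBN σ n hσ hsk).B) :
    stUn σ n hσ hsk (b : ↥(GUJ σ n)) =
      (Nat.card (MulAction.fixedBy ((unBN σ n hσ hsk).B ⧸
        BStab (unBN σ n hσ hsk) (repW (unBN σ n hσ hsk) (w0 (unBN σ n hσ hsk)))) b) : ℂ) := by
  unfold stUn
  rw [stFun_apply_B (unBN σ n hσ hsk) (SfinUn σ n) (coe_SfinUn hσ hsk) b]

/-- vanishing at the non-identity unitriangular matrices -/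
theorem stUn_unipotent {u : ↥(GUJ σ n)} (hu : u ∈ UG σ n) (hne : u ≠ 1) :
    stUn σ n hσ hsk u = 0 := by
  have huB : u ∈ (unBN σ n hσ hsk).B := UG_le_BG hu
  have h : stUn σ n hσ hsk u = _ := stUn_apply_B hσ hsk ⟨u, huB⟩
  rw [h]
  have hemp : IsEmpty (MulAction.fixedBy ((unBN σ n hσ hsk).B ⧸
      BStab (unBN σ n hσ hsk) (repW (unBN σ n hσ hsk) (w0 (unBN σ n hσ hsk))))
      (⟨u, huB⟩ : (unBN σ n hσ hsk).B)) := by
    constructor
    rintro ⟨x, hx⟩
    obtain ⟨c, rfl⟩ := QuotientGroup.mk_surjective x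
    rw [MulAction.mem_fixedBy] at hx
    have hx' : (((⟨u, huB⟩ : (unBN σ n hσ hsk).B) * c : (unBN σ n hσ hsk).B) :
        (unBN σ n hσ hsk).B ⧸ BStab (unBN σ n hσ hsk)
          (repW (unBN σ n hσ hsk) (w0 (unBN σ n hσ hsk)))) =
        (c : (unBN σ n hσ hsk).B ⧸ _) := hx
    rw [QuotientGroup.eq] at hx'
    have e : ((⟨u, huB⟩ : (unBN σ n hσ hsk).B) * c)⁻¹ * c =
        c⁻¹ * (⟨u, huB⟩ : (unBN σ n hσ hsk).B)⁻¹ * c := by
      group
    rw [e, mem_BStab_w0] at hx'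
    have hcU : (c : ↥(GUJ σ n))⁻¹ * u⁻¹ * (c : ↥(GUJ σ n)) ∈ UG σ n := by
      have hc : ((c : ↥(GUJ σ n)) : GL (Fin n) F) ∈ Bup n F := mem_BG.mp c.2
      have hu' := (UG σ n).inv_mem hu
      refine ⟨?_, fun i => ?_⟩
      · exact Subgroup.mul_mem _ (Subgroup.mul_mem _ (Subgroup.inv_mem _ hc) hu'.1) hc
      · show ((((c : ↥(GUJ σ n)) : GL (Fin n) F)⁻¹ * ((u⁻¹ : ↥(GUJ σ n)) : GL (Fin n) F) *
          ((c : ↥(GUJ σ n)) : GL (Fin n) F) : GL (Fin n) F) :
            Matrix (Fin n) (Fin n) F) i i = 1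
        rw [Bup_mul_diag (Subgroup.mul_mem _ (Subgroup.inv_mem _ hc) hu'.1) hc,
          Bup_mul_diag (Subgroup.inv_mem _ hc) hu'.1, hu'.2 i, mul_one]
        exact Bup_inv_diag hc i
    have hone : (c : ↥(GUJ σ n))⁻¹ * u⁻¹ * (c : ↥(GUJ σ n)) = 1 := eq_one_of_offdiag hcU hx'
    apply hne
    have : u⁻¹ = 1 := by
      have e' : u⁻¹ = (c : ↥(GUJ σ n)) * ((c : ↥(GUJ σ n))⁻¹ * u⁻¹ * (c : ↥(GUJ σ n))) *
          (c : ↥(GUJ σ n))⁻¹ := by group
      rw [e', hone]; group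
    exact inv_eq_one.mp this
  rw [Nat.card_of_isEmpty, Nat.cast_zero]

/-- the map `U → B/T` -/
noncomputable def uniToQuot (u : UG σ n) :
    (unBN σ n hσ hsk).B ⧸ BStab (unBN σ n hσ hsk)
      (repW (unBN σ n hσ hsk) (w0 (unBN σ n hσ hsk))) :=
  QuotientGroup.mk (⟨u.1, UG_le_BG u.2⟩ : (unBN σ n hσ hsk).B)

theorem uniToQuot_bijective : Function.Bijective (uniToQuot hσ hsk (n := n)) := by
  constructor
  · intro u u' h
    unfold uniToQuot at h
    rw [QuotientGroup.eq, mem_BStab_w0] at h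
    have hmem : (u⁻¹ * u' : UG σ n).1 ∈ UG σ n := (u⁻¹ * u').2
    have hone : ((u⁻¹ * u' : UG σ n) : ↥(GUJ σ n)) = 1 := eq_one_of_offdiag hmem h
    have : u⁻¹ * u' = 1 := Subtype.ext hone
    exact inv_mul_eq_one.mp this
  · intro x
    obtain ⟨b, rfl⟩ := QuotientGroup.mk_surjective x
    have hb : ((b : ↥(GUJ σ n)) : GL (Fin n) F) ∈ Bup n F := mem_BG.mp b.2
    have hbS : ((b : ↥(GUJ σ n)) : GL (Fin n) F) ∈ GUJ σ n := (b : ↥(GUJ σ n)).2
    let c : Fin n → Fˣ := fun j => Units.mk0 _ (diag_ne_zero hb j)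
    have hdS : (monoGL 1 c : GL (Fin n) F) ∈ GUJ σ n := by
      rw [monoGL_mem_GUJ_iff]
      refine ⟨fun a => rfl, fun a => ?_⟩
      exact diag_mul_diag_rev hbS hb a
    have hdB : (monoGL 1 c : GL (Fin n) F) ∈ Bup n F := by
      rw [monoGL_mem_Bup_iff]
    set d : ↥(GUJ σ n) := ⟨monoGL 1 c, hdS⟩ with hd
    have huU : (b : ↥(GUJ σ n)) * d⁻¹ ∈ UG σ n := by
      refine ⟨Subgroup.mul_mem _ hb (Subgroup.inv_mem _ hdB), fun i => ?_⟩
      show ((((b : ↥(GUJ σ n)) : GL (Fin n) F) * (monoGL 1 c)⁻¹ : GL (Fin n) F) :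
        Matrix (Fin n) (Fin n) F) i i = 1
      rw [Bup_mul_diag hb (Subgroup.inv_mem _ hdB)]
      have h1 := Bup_inv_diag hdB i
      have h2 : ((monoGL 1 c : GL (Fin n) F) : Matrix (Fin n) (Fin n) F) i i =
          ((b : ↥(GUJ σ n)) : GL (Fin n) F).1 i i := by
        rw [coe_monoGL, mono_apply, Perm.one_apply, if_pos rfl]
        rfl
      rw [h2] at h1
      rw [mul_comm]
      exact h1
    refine ⟨⟨(b : ↥(GUJ σ n)) * d⁻¹, huU⟩, ?_⟩
    unfold uniToQuot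
    rw [QuotientGroup.eq, mem_BStab_w0]
    intro i j hij
    have hcoe : (((⟨(b : ↥(GUJ σ n)) * d⁻¹, UG_le_BG huU⟩ : (unBN σ n hσ hsk).B)⁻¹ * b :
        (unBN σ n hσ hsk).B) : ↥(GUJ σ n)) = d := by
      show ((b : ↥(GUJ σ n)) * d⁻¹)⁻¹ * (b : ↥(GUJ σ n)) = d
      group
    rw [hcoe, hd]
    show ((monoGL 1 c : GL (Fin n) F) : Matrix (Fin n) (Fin n) F) i j = 0
    rw [coe_monoGL, mono_apply, if_neg]
    rw [Perm.one_apply]
    exact hij

/-- the degree -/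
theorem stUn_one : stUn σ n hσ hsk 1 = (Nat.card (UG σ n) : ℂ) := by
  unfold stUn
  rw [stFun_one (unBN σ n hσ hsk) (SfinUn σ n) (coe_SfinUn hσ hsk),
    Nat.card_congr (Equiv.ofBijective _ (uniToQuot_bijective hσ hsk (n := n)))]

end steinberg

end Cfsg.Agent.Lib.Helper15.UnBN
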