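import Mathlib
import Cfsg.Agent.Lib.Helper15.UnBNJ
import Cfsg.Agent.Lib.Helper16.FusSUL
import Cfsg.Agent.Lib.Helper16.FusSUE

/-!
helper15: the special unitary group `UJ σ n` (helper16) inside the general unitary group
`GUJ σ n`: the Steinberg function of `GUJ σ n` restricts to an irreducible character of `UJ σ n`
which is constant on the scalar matrices.
-/

set_option autoImplicit false

namespace Cfsg.Agent.Lib.Helper15.UnBN

open Matrix Equiv Cfsg Cfsg.Agent.Lib.Helper3.BN Cfsg.Agent.Lib.Helper6.BNSt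
  Cfsg.Agent.Lib.Helper6.GLBN
open Cfsg.Agent.Lib.Helper16.FusSU (adj adj_apply adj_mul adj_one UJ mem_UJ ZJ mem_ZJ adj_eq Jm
  Jm_mul_Jm st)

variable {n : ℕ} {K : Type*} [Field K] {σ : K →+* K}

/-- the inclusion of the special unitary group into the general unitary group -/
def toGUJ (σ : K →+* K) (n : ℕ) : ↥(UJ σ n) →* ↥(GUJ σ n) where
  toFun g := ⟨Matrix.SpecialLinearGroup.toGL g.1, mem_UJ.mp g.2⟩
  map_one' := by
    apply Subtype.ext
    apply Units.ext
    rfl
  map_mul' a b := by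
    apply Subtype.ext
    apply Units.ext
    show ((a * b : ↥(UJ σ n)) : SpecialLinearGroup (Fin n) K).1 = _
    rfl

lemma toGUJ_coe (g : ↥(UJ σ n)) :
    (((toGUJ σ n g : ↥(GUJ σ n)) : GL (Fin n) K) : Matrix (Fin n) (Fin n) K) =
      ((g : SpecialLinearGroup (Fin n) K) : Matrix (Fin n) (Fin n) K) := rfl

lemma toGUJ_injective : Function.Injective (toGUJ σ n) := by
  intro a b h
  apply Subtype.ext
  apply Subtype.ext
  have := congrArg (fun g : ↥(GUJ σ n) => ((g : GL (Fin n) K) : Matrix (Fin n) (Fin n) K)) h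
  exact this

/-- the determinant of the adjoint -/
lemma det_adj (σ : K →+* K) (M : Matrix (Fin n) (Fin n) K) : (adj σ M).det = σ M.det := by
  rw [adj_eq, Matrix.det_mul, Matrix.det_mul]
  have h1 : (Jm K n).det * (Jm K n).det = 1 := by
    rw [← Matrix.det_mul, Jm_mul_Jm, Matrix.det_one]
  have h2 : (st σ M).det = σ M.det := by
    unfold st
    rw [Matrix.det_transpose, RingHom.map_det]
    rfl
  rw [h2, mul_right_comm, h1, one_mul]

/-- the determinant of a unitary matrix has norm one -/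
lemma det_mul_det {g : GL (Fin n) K} (hg : g ∈ GUJ σ n) :
    (g : Matrix (Fin n) (Fin n) K).det * σ (g : Matrix (Fin n) (Fin n) K).det = 1 := by
  have := congrArg Matrix.det (mem_GUJ.mp hg)
  rw [Matrix.det_mul, det_adj, Matrix.det_one] at this
  exact this

/-- the image of the special unitary group is normalised by the general unitary group -/
lemma toGUJ_norm (g : ↥(GUJ σ n)) (h : ↥(UJ σ n)) :
    ∃ h' : ↥(UJ σ n), toGUJ σ n h' = g * toGUJ σ n h * g⁻¹ := by
  set M : ↥(GUJ σ n) := g * toGUJ σ n h * g⁻¹ with hM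
  have hdet : ((M : GL (Fin n) K) : Matrix (Fin n) (Fin n) K).det = 1 := by
    have e : (M : GL (Fin n) K) = (g : GL (Fin n) K) * (toGUJ σ n h : GL (Fin n) K) *
        (g : GL (Fin n) K)⁻¹ := rfl
    have h0 : (((g : GL (Fin n) K)⁻¹ : GL (Fin n) K) : Matrix (Fin n) (Fin n) K).det *
        ((g : GL (Fin n) K) : Matrix (Fin n) (Fin n) K).det = 1 := by
      rw [← Matrix.det_mul, ← Units.val_mul, inv_mul_cancel, Units.val_one, Matrix.det_one]
    rw [e, Units.val_mul, Units.val_mul, Matrix.det_mul, Matrix.det_mul, toGUJ_coe, h.1.2,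
      mul_one, mul_comm]
    exact h0
  have hA : (⟨((M : GL (Fin n) K) : Matrix (Fin n) (Fin n) K), hdet⟩ :
      SpecialLinearGroup (Fin n) K) ∈ UJ σ n := mem_UJ.mpr (mem_GUJ.mp M.2)
  refine ⟨⟨_, hA⟩, ?_⟩
  apply Subtype.ext
  apply Units.ext
  rfl

/-- Hilbert 90 for the involution `σ` -/
lemma exists_hilbert (hsk : ∃ c : K, c ≠ 0 ∧ c + σ c = 0) {d : K} (hd : d * σ d = 1) :
    ∃ a : K, a ≠ 0 ∧ d * σ a = a := by
  by_cases h : d = -1
  · obtain ⟨c, hc0, hc⟩ := hsk
    refine ⟨c, hc0, ?_⟩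
    rw [h]
    linear_combination (-1 : K) * hc
  · refine ⟨1 + d, ?_, ?_⟩
    · intro e
      apply h
      linear_combination e
    · rw [map_add, map_one]
      linear_combination hd

/-- the general unitary group is the product of the special unitary group and the torus -/
lemma toGUJ_mul_torus (hσ : ∀ x, σ (σ x) = x) (hsk : ∃ c : K, c ≠ 0 ∧ c + σ c = 0) (hn : 2 ≤ n)
    (g : ↥(GUJ σ n)) :
    ∃ h : ↥(UJ σ n), ∃ t ∈ BG σ n ⊓ NG σ n, g = toGUJ σ n h * t := by
  have hd := det_mul_det g.2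
  obtain ⟨a, ha0, ha⟩ := exists_hilbert hsk hd
  have hσa : σ a ≠ 0 := fun e => ha0 ((map_eq_zero σ).mp e)
  have h0n : 0 < n := by omega
  set i0 : Fin n := ⟨0, h0n⟩ with hi0
  have hne : i0 ≠ i0.rev := by
    apply Fin.ne_of_val_ne
    rw [Fin.val_rev]
    show 0 ≠ n - (0 + 1)
    omega
  set c : Fin n → Kˣ := fun j => if j = i0 then Units.mk0 a ha0 else
    if j = i0.rev then (Units.mk0 (σ a) hσa)⁻¹ else 1 with hc
  have hc0 : c i0 = Units.mk0 a ha0 := by rw [hc]; simp
  have hc1 : c i0.rev = (Units.mk0 (σ a) hσa)⁻¹ := by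
    rw [hc]
    beta_reduce
    rw [if_neg (Ne.symm hne), if_pos rfl]
  have hc2 : ∀ j, j ≠ i0 → j ≠ i0.rev → c j = 1 := by
    intro j h1 h2
    rw [hc]
    beta_reduce
    rw [if_neg h1, if_neg h2]
  have htS : (monoGL 1 c : GL (Fin n) K) ∈ GUJ σ n := by
    rw [monoGL_mem_GUJ_iff]
    refine ⟨fun _ => rfl, fun j => ?_⟩
    by_cases h1 : j = i0
    · rw [h1, hc0, hc1]
      simp only [Units.val_mk0, Units.val_inv_eq_inv_val, map_inv₀, hσ]
      exact mul_inv_cancel₀ ha0
    · by_cases h2 : j = i0.rev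
      · rw [h2, Fin.rev_rev, hc0, hc1]
        simp only [Units.val_mk0, Units.val_inv_eq_inv_val]
        exact inv_mul_cancel₀ hσa
      · have h3 : j.rev ≠ i0 := by
          intro e
          apply h2
          rw [← e, Fin.rev_rev]
        have h4 : j.rev ≠ i0.rev := fun e => h1 (Fin.rev_injective e)
        rw [hc2 j h1 h2, hc2 _ h3 h4]
        simp
  set t : ↥(GUJ σ n) := ⟨monoGL 1 c, htS⟩ with ht
  have htT : t ∈ BG σ n ⊓ NG σ n := by
    rw [BG_inf_NG, mem_TG]
    exact ⟨c, rfl⟩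
  have hdett : ((monoGL 1 c : GL (Fin n) K) : Matrix (Fin n) (Fin n) K).det =
      ((g : GL (Fin n) K) : Matrix (Fin n) (Fin n) K).det := by
    rw [coe_monoGL, ← diagonal_eq_mono, Matrix.det_diagonal,
      Finset.prod_eq_mul i0 i0.rev hne]
    · rw [hc0, hc1]
      simp only [Units.val_mk0, Units.val_inv_eq_inv_val]
      rw [eq_comm, eq_mul_inv_iff_mul_eq₀ hσa]
      exact ha
    · intro j _ hj
      rw [hc2 j hj.1 hj.2, Units.val_one]
    · intro h; exact absurd (Finset.mem_univ _) h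
    · intro h; exact absurd (Finset.mem_univ _) h
  set M : ↥(GUJ σ n) := g * t⁻¹ with hM
  have hdet : ((M : GL (Fin n) K) : Matrix (Fin n) (Fin n) K).det = 1 := by
    have e : (M : GL (Fin n) K) = (g : GL (Fin n) K) * (monoGL 1 c : GL (Fin n) K)⁻¹ := rfl
    have h0 : (((monoGL 1 c : GL (Fin n) K)⁻¹ : GL (Fin n) K) : Matrix (Fin n) (Fin n) K).det *
        ((monoGL 1 c : GL (Fin n) K) : Matrix (Fin n) (Fin n) K).det = 1 := by
      rw [← Matrix.det_mul, ← Units.val_mul, inv_mul_cancel, Units.val_one, Matrix.det_one]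
    rw [e, Units.val_mul, Matrix.det_mul, ← hdett, mul_comm]
    exact h0
  have hA : (⟨((M : GL (Fin n) K) : Matrix (Fin n) (Fin n) K), hdet⟩ :
      SpecialLinearGroup (Fin n) K) ∈ UJ σ n := mem_UJ.mpr (mem_GUJ.mp M.2)
  refine ⟨⟨_, hA⟩, t, htT, ?_⟩
  have e : toGUJ σ n ⟨_, hA⟩ = M := by
    apply Subtype.ext
    apply Units.ext
    rfl
  rw [e, hM]
  group

section steinberg

variable [Finite K] (hσ : ∀ x, σ (σ x) = x) (hsk : ∃ c : K, c ≠ 0 ∧ c + σ c = 0)

instance instFiniteUJ : Finite ↥(UJ σ n) := Finite.of_injective _ (toGUJ_injective (σ := σ))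

/-- the restriction of the Steinberg function to the special unitary group -/
noncomputable def stSU (σ : K →+* K) (n : ℕ) (hσ : ∀ x, σ (σ x) = x)
    (hsk : ∃ c : K, c ≠ 0 ∧ c + σ c = 0) : ↥(UJ σ n) → ℂ :=
  fun h => stUn σ n hσ (skOK_of_skew hsk) (toGUJ σ n h)

theorem isIrrCharacter_stSU (hn : 2 ≤ n) : IsIrrCharacter ↥(UJ σ n) (stSU σ n hσ hsk) := by
  classical
  have : Fintype ↥(GUJ σ n) := Fintype.ofFinite _
  have : Fintype ↥(UJ σ n) := Fintype.ofFinite _
  exact isIrrCharacter_stFun_hom (unBN σ n hσ (skOK_of_skew hsk)) (toGUJ σ n) toGUJ_norm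
    (toGUJ_mul_torus hσ hsk hn) (SfinUn σ n) (coe_SfinUn hσ (skOK_of_skew hsk))

/-- the restricted Steinberg function is constant on the scalar matrices -/
theorem stSU_scalar {z : ↥(UJ σ n)} (hz : z ∈ ZJ σ n) :
    stSU σ n hσ hsk z = stSU σ n hσ hsk 1 := by
  obtain ⟨c, hc⟩ := mem_ZJ.mp hz
  unfold stSU
  rw [map_one]
  apply stFun_central
  · rw [Subgroup.mem_center_iff]
    intro x
    apply Subtype.ext
    apply Units.ext
    show ((x : GL (Fin n) K) : Matrix (Fin n) (Fin n) K) *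
      (((toGUJ σ n z : ↥(GUJ σ n)) : GL (Fin n) K) : Matrix (Fin n) (Fin n) K) =
      (((toGUJ σ n z : ↥(GUJ σ n)) : GL (Fin n) K) : Matrix (Fin n) (Fin n) K) *
        ((x : GL (Fin n) K) : Matrix (Fin n) (Fin n) K)
    rw [toGUJ_coe, hc, Matrix.mul_smul, Matrix.smul_mul, Matrix.mul_one, Matrix.one_mul]
  · show toGUJ σ n z ∈ BG σ n
    rw [mem_BG, mem_Bup]
    intro i j hji
    rw [toGUJ_coe, hc, Matrix.smul_apply, Matrix.one_apply_ne (ne_of_gt hji), smul_zero]

/-- the degree -/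
theorem stSU_one : stSU σ n hσ hsk 1 = (Nat.card (UG σ n) : ℂ) := by
  unfold stSU
  rw [map_one, stUn_one]

/-- vanishing at the non-identity unitriangular elements -/
theorem stSU_unipotent {u : ↥(UJ σ n)}
    (hu : Cfsg.Agent.Lib.Helper18.PSLnAut.IsUni
      ((u : SpecialLinearGroup (Fin n) K) : Matrix (Fin n) (Fin n) K)) (hne : u ≠ 1) :
    stSU σ n hσ hsk u = 0 := by
  unfold stSU
  apply stUn_unipotent
  · rw [mem_UG, mem_Bup]
    exact ⟨fun i j hji => hu.1 i j hji, fun i => hu.2 i⟩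
  · intro e
    apply hne
    apply toGUJ_injective (σ := σ)
    rw [e, map_one]

end steinberg

end Cfsg.Agent.Lib.Helper15.UnBN
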