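import Mathlib
import Cfsg.Agent.Lib.Helper15.UnBNK
import Cfsg.Agent.Lib.Helper16.FusSUG
import Cfsg.Agent.Lib.Helper13.SLSteinberg
import Cfsg.Agent.Lib.Lead.CharMore

/-!
helper15: the Steinberg character of the projective special unitary group `PGJ σ n` (helper16's
model with antidiagonal form), and a general transfer lemma for characters of Steinberg type along
an isomorphism of groups.
-/

set_option autoImplicit false

namespace Cfsg.Agent.Lib.Helper15.UnBN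

open Matrix Equiv Cfsg
open Cfsg.Agent.Lib.Helper16.FusSU (UJ mem_UJ ZJ mem_ZJ PGJ piJ piJ_eq_iff piJ_surjective UbJ
  mem_imJ InvOK card_UbJ)
open Cfsg.Agent.Lib.Helper18.PSLnAut (IsUni unitri mem_unitri)

section transfer

variable {G G' : Type*} [Group G] [Group G']

/-- transfer of a character of Steinberg type along an isomorphism -/
theorem steinberg_transfer [Finite G] (e : G ≃* G') (p : ℕ) [Fact p.Prime] (U : Subgroup G)
    (hU : Nat.card U = p ^ (Nat.card G).factorization p) {χ₁ : G → ℂ}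
    (hirr : IsIrrCharacter G χ₁) (h1 : χ₁ 1 = Nat.card U)
    (h0 : ∀ x ∈ U, x ≠ 1 → χ₁ x = 0) :
    ∃ χ : G' → ℂ, IsIrrCharacter G' χ ∧ ∀ P : Sylow p G', χ 1 = Nat.card P ∧
      ∀ x : G', x ∈ P → x ≠ 1 → χ x = 0 := by
  classical
  have : Finite G' := Finite.of_equiv G e.toEquiv
  have hχ : IsIrrCharacter G' (χ₁ ∘ e.symm) :=
    Cfsg.Agent.CharLib.IsIrrCharacter.comp_mulEquiv hirr e.symm
  refine ⟨χ₁ ∘ e.symm, hχ, ?_⟩
  intro P
  have hcl : IsClassFunction G χ₁ :=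
    Cfsg.Agent.CharLib.IsCharacter.isClassFunction
      (Cfsg.Agent.CharLib.IsIrrCharacter.isCharacter hirr)
  have hsurj : Function.Surjective e.toMonoidHom := e.surjective
  set P₁ : Sylow p G := Sylow.ofCard U hU with hP₁
  set P₀ : Sylow p G' := P₁.mapSurjective hsurj with hP₀
  have hP₀coe : (P₀ : Subgroup G') = U.map e.toMonoidHom := by
    rw [hP₀, Sylow.coe_mapSurjective]
    rfl
  obtain ⟨y, hy⟩ := MulAction.exists_smul_eq G' P₀ P
  have hcardU : Nat.card (U.map e.toMonoidHom) = Nat.card U := by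
    symm
    apply Nat.card_congr
    exact (e.subgroupMap U).toEquiv
  constructor
  · rw [Function.comp_apply, map_one, h1, ← hcardU, ← hP₀coe]
    congr 1
    have e1 := Sylow.card_eq_multiplicity P₀
    have e2 := Sylow.card_eq_multiplicity P
    exact e1.trans e2.symm
  · intro x hx hx1
    have hxP : x ∈ ((y • P₀ : Sylow p G') : Subgroup G') := by rw [hy]; exact hx
    rw [Sylow.coe_subgroup_smul, Subgroup.mem_pointwise_smul_iff_inv_smul_mem, hP₀coe] at hxP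
    obtain ⟨u, hu, hux⟩ := hxP
    have hconj : (MulAut.conj y)⁻¹ • x = y⁻¹ * x * y := by
      rw [MulAut.smul_def, MulAut.conj_inv_apply]
    rw [hconj] at hux
    have hxu : x = y * e u * y⁻¹ := by
      have : e.toMonoidHom u = e u := rfl
      rw [← this, hux]; group
    rw [Function.comp_apply, hxu, map_mul, map_mul, map_inv, MulEquiv.symm_apply_apply,
      hcl u (e.symm y)]
    apply h0 u hu
    intro h
    apply hx1
    rw [hxu, h, map_one]
    group

end transfer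

variable {n : ℕ} {K : Type*} [Field K] [Fintype K] {σ : K →+* K}

/-- the unitriangular subgroup of `GUJ σ n` and its image in `PGJ σ n` have the same order -/
theorem card_UbJ_eq_card_UG (hn : 1 ≤ n) : Nat.card (UbJ σ n) = Nat.card (UG σ n) := by
  symm
  have hdet : ∀ u : UG σ n,
      (((u : ↥(GUJ σ n)) : GL (Fin n) K) : Matrix (Fin n) (Fin n) K).det = 1 := by
    intro u
    have hu := mem_UG.mp u.2
    have : IsUni (((u : ↥(GUJ σ n)) : GL (Fin n) K) : Matrix (Fin n) (Fin n) K) :=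
      ⟨fun i j hji => (Cfsg.Agent.Lib.Helper6.GLBN.mem_Bup.mp hu.1) i j hji, hu.2⟩
    exact this.det
  have hmem : ∀ u : UG σ n, (⟨(((u : ↥(GUJ σ n)) : GL (Fin n) K) : Matrix (Fin n) (Fin n) K),
      hdet u⟩ : SpecialLinearGroup (Fin n) K) ∈ UJ σ n := by
    intro u
    exact mem_UJ.mpr (mem_GUJ.mp (u : ↥(GUJ σ n)).2)
  have huni : ∀ u : UG σ n, (⟨(((u : ↥(GUJ σ n)) : GL (Fin n) K) : Matrix (Fin n) (Fin n) K),
      hdet u⟩ : SpecialLinearGroup (Fin n) K) ∈ unitri n K := by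
    intro u
    have hu := mem_UG.mp u.2
    exact ⟨fun i j hji => (Cfsg.Agent.Lib.Helper6.GLBN.mem_Bup.mp hu.1) i j hji, hu.2⟩
  let ψ : UG σ n → UbJ σ n := fun u =>
    ⟨piJ σ n ⟨_, hmem u⟩, mem_imJ.mpr ⟨_, hmem u, huni u, rfl⟩⟩
  apply Nat.card_congr
  refine Equiv.ofBijective ψ ⟨?_, ?_⟩
  · intro u u' h
    have h' : piJ σ n ⟨_, hmem u⟩ = piJ σ n ⟨_, hmem u'⟩ := congrArg Subtype.val h
    rw [piJ_eq_iff] at h'
    obtain ⟨c, hc⟩ := h'
    have hc' : (((u' : ↥(GUJ σ n)) : GL (Fin n) K) : Matrix (Fin n) (Fin n) K) =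
        c • (((u : ↥(GUJ σ n)) : GL (Fin n) K) : Matrix (Fin n) (Fin n) K) := hc
    have h00 := congrFun (congrFun hc' ⟨0, hn⟩) ⟨0, hn⟩
    rw [Matrix.smul_apply, (mem_UG.mp u.2).2, (mem_UG.mp u'.2).2, smul_eq_mul, mul_one] at h00
    rw [← h00, one_smul] at hc'
    apply Subtype.ext
    apply Subtype.ext
    apply Units.ext
    exact hc'.symm
  · rintro ⟨x, hx⟩
    obtain ⟨g, hg, hgU, rfl⟩ := mem_imJ.mp hx
    have hgU' : IsUni (g : Matrix (Fin n) (Fin n) K) := hgU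
    have hu : toGUJ σ n ⟨g, hg⟩ ∈ UG σ n := by
      rw [mem_UG, Cfsg.Agent.Lib.Helper6.GLBN.mem_Bup]
      exact ⟨fun i j hji => hgU'.1 i j hji, fun i => hgU'.2 i⟩
    refine ⟨⟨toGUJ σ n ⟨g, hg⟩, hu⟩, ?_⟩
    apply Subtype.ext
    rfl

/-- the Steinberg character of the projective special unitary group of the antidiagonal form -/
theorem exists_steinberg_PGJ (hσ : InvOK σ) (hn : 2 ≤ n) :
    ∃ χ₁ : PGJ σ n → ℂ, IsIrrCharacter (PGJ σ n) χ₁ ∧ χ₁ 1 = Nat.card (UbJ σ n) ∧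
      ∀ x ∈ UbJ σ n, x ≠ 1 → χ₁ x = 0 := by
  have hirr := isIrrCharacter_stSU hσ.invol hσ.sk hn (σ := σ)
  obtain ⟨χ₁, hχ₁, hχ₁θ⟩ := Cfsg.Agent.Lib.Helper13.exists_deflate (ZJ σ n) hirr
    (fun z hz => stSU_scalar hσ.invol hσ.sk hz)
  refine ⟨χ₁, hχ₁, ?_, ?_⟩
  · have := hχ₁θ 1
    rw [QuotientGroup.mk_one] at this
    rw [this, stSU_one, card_UbJ_eq_card_UG (by omega)]
  · intro x hx hx1
    obtain ⟨g, hg, hgU, rfl⟩ := mem_imJ.mp hx
    have : piJ σ n ⟨g, hg⟩ = ((⟨g, hg⟩ : ↥(UJ σ n)) : PGJ σ n) := rfl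
    rw [this, hχ₁θ]
    have hgU' : IsUni (((⟨g, hg⟩ : ↥(UJ σ n)) : SpecialLinearGroup (Fin n) K) :
      Matrix (Fin n) (Fin n) K) := hgU
    apply stSU_unipotent hσ.invol hσ.sk hgU'
    intro e
    apply hx1
    rw [e, map_one]

end Cfsg.Agent.Lib.Helper15.UnBN
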