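import Cfsg.Agent.Lib.Helper1.PLenSeries
import Cfsg.Prelude.Def_Transfer

/-!
Leaf L7 of S4711 (helper6's market): a group with a normal subgroup of index prime to `p` which has a
normal `p`-complement has `p`-length at most one.
-/

set_option autoImplicit false

namespace Cfsg.Agent.Lib.Helper15.PLenBlk

open Subgroup Cfsg.Agent.Lib.Helper1.PLen

universe u

/-- A group with a normal `p`-complement has `p`-length at most one. -/
theorem pLengthLE_one_of_hasNormalPComplement {H : Type u} [Group H] [Finite H] (p : ℕ)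
    [Fact p.Prime] (h : Cfsg.HasNormalPComplement p H) : Cfsg.PLengthLE p 1 H := by
  obtain ⟨P, N, hN, hc⟩ := h
  have := hN
  have hNcard : Nat.card ↥N = (P : Subgroup H).index := (hc.index_eq_card).symm
  have h0 : Cfsg.PLengthLE p 0 ↥N := by
    apply pLengthLE_zero_of_coprime p
    rw [hNcard]
    exact ((Nat.Prime.coprime_iff_not_dvd (Fact.out : p.Prime)).mpr P.not_dvd_index).symm
  have h1 : Cfsg.PLengthLE p 1 (H ⧸ N) := by
    apply pLengthLE_one_of_isPGroup p
    obtain ⟨a, ha⟩ := IsPGroup.iff_card.mp P.2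
    apply IsPGroup.of_card (n := a)
    rw [← Subgroup.index_eq_card, hc.symm.index_eq_card, ha]
  have h2 := pLengthLE_of_extension p N h0 h1
  simpa using h2

/-- **Leaf L7 of S4711.** -/
theorem pLengthLE_one_of_normal {G : Type u} [Group G] [Finite G] (p : ℕ) [Fact p.Prime]
    (H : Subgroup G) [H.Normal] (hidx : ¬ p ∣ H.index) (hH : Cfsg.HasNormalPComplement p ↥H) :
    Cfsg.PLengthLE p 1 G := by
  have h1 : Cfsg.PLengthLE p 1 ↥H := pLengthLE_one_of_hasNormalPComplement p hH
  have h0 : Cfsg.PLengthLE p 0 (G ⧸ H) := by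
    apply pLengthLE_zero_of_coprime p
    rw [← Subgroup.index_eq_card]
    exact ((Nat.Prime.coprime_iff_not_dvd (Fact.out : p.Prime)).mpr hidx).symm
  have h2 := pLengthLE_of_extension p H h1 h0
  simpa using h2

end Cfsg.Agent.Lib.Helper15.PLenBlk
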