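import Mathlib
import Cfsg.Agent.Lib.Helper1.PRDefs

/-! S3612 market "PR" (planner helper1): leaf PRTWO — helper15 (twin).
Also contains an independent proof of the pure leaf PRSUM (`sum_eq_zero_of_square_blocks`). -/

set_option autoImplicit false
set_option linter.dupNamespace false

namespace Cfsg.Agent.Lib.Helper15.PRTWO

open MulAction Cfsg.Agent.Lib.Helper1.PR

/-- **PRSUM** (own copy).  A set of at least three non-zero residues that every non-zero square maps
into itself or off itself has sum zero. -/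
theorem sum_eq_zero_of_square_blocks {p : ℕ} [Fact p.Prime] (E : Finset (ZMod p))
    (h0 : (0 : ZMod p) ∉ E)
    (hblk : ∀ u : ZMod p, u ≠ 0 → IsSquare u →
      (∀ y ∈ E, u * y ∈ E) ∨ (∀ y ∈ E, u * y ∉ E))
    (h3 : 3 ≤ E.card) : ∑ y ∈ E, y = 0 := by
  classical
  obtain ⟨x1, hx1, x2, hx2, x3, hx3, h12, h13, h23⟩ := Finset.two_lt_card.1 h3
  have key : ∀ x ∈ E, ∀ y ∈ E, x ≠ y → IsSquare (x * y) → ∑ w ∈ E, w = 0 := by
    intro x hx y hy hxy hsq
    have hx0 : x ≠ 0 := fun h => h0 (h ▸ hx)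
    have hy0 : y ≠ 0 := fun h => h0 (h ▸ hy)
    have hvx : y * x⁻¹ * x = y := by rw [mul_assoc, inv_mul_cancel₀ hx0, mul_one]
    have hv0 : y * x⁻¹ ≠ 0 := mul_ne_zero hy0 (inv_ne_zero hx0)
    have hv1 : y * x⁻¹ ≠ 1 := by
      intro h
      apply hxy
      rw [← hvx, h, one_mul]
    have hvsq : IsSquare (y * x⁻¹) := by
      obtain ⟨r, hr⟩ := hsq
      refine ⟨r * x⁻¹, ?_⟩
      have : y * x⁻¹ = (x * y) * x⁻¹ * x⁻¹ := by
        rw [mul_comm x y, mul_assoc y x, mul_inv_cancel₀ hx0, mul_one]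
      rw [this, hr]
      ring
    have hin : ∀ w ∈ E, y * x⁻¹ * w ∈ E := by
      rcases hblk _ hv0 hvsq with h | h
      · exact h
      · exact absurd (hvx.symm ▸ hy) (h x hx)
    have himg : E.image (fun w => y * x⁻¹ * w) = E := by
      apply Finset.eq_of_subset_of_card_le
      · intro w hw
        obtain ⟨w', hw', rfl⟩ := Finset.mem_image.1 hw
        exact hin w' hw'
      · rw [Finset.card_image_of_injective _ (mul_right_injective₀ hv0)]
    have hsum : ∑ w ∈ E, w = y * x⁻¹ * ∑ w ∈ E, w := by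
      conv_lhs => rw [← himg]
      rw [Finset.sum_image (fun a _ b _ h => mul_right_injective₀ hv0 h), Finset.mul_sum]
    have hz : (1 - y * x⁻¹) * ∑ w ∈ E, w = 0 := by
      rw [sub_mul, one_mul, ← hsum, sub_self]
    rcases mul_eq_zero.1 hz with h | h
    · exact absurd (sub_eq_zero.1 h).symm hv1
    · exact h
  have hx10 : x1 ≠ 0 := fun h => h0 (h ▸ hx1)
  have hx20 : x2 ≠ 0 := fun h => h0 (h ▸ hx2)
  have hx30 : x3 ≠ 0 := fun h => h0 (h ▸ hx3)
  by_cases s12 : IsSquare (x1 * x2)
  · exact key x1 hx1 x2 hx2 h12 s12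
  by_cases s13 : IsSquare (x1 * x3)
  · exact key x1 hx1 x3 hx3 h13 s13
  have c12 := quadraticChar_neg_one_iff_not_isSquare.2 s12
  have c13 := quadraticChar_neg_one_iff_not_isSquare.2 s13
  have c1 := quadraticChar_sq_one hx10
  have s23 : IsSquare (x2 * x3) := by
    rw [← quadraticChar_one_iff_isSquare (mul_ne_zero hx20 hx30)]
    rw [map_mul] at c12 c13 ⊢
    have h : (quadraticChar (ZMod p) x1 * quadraticChar (ZMod p) x2) *
        (quadraticChar (ZMod p) x1 * quadraticChar (ZMod p) x3) = 1 := by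
      rw [c12, c13]; norm_num
    calc quadraticChar (ZMod p) x2 * quadraticChar (ZMod p) x3
        = quadraticChar (ZMod p) x1 ^ 2 * (quadraticChar (ZMod p) x2 * quadraticChar (ZMod p) x3) := by
          rw [c1, one_mul]
      _ = (quadraticChar (ZMod p) x1 * quadraticChar (ZMod p) x2) *
          (quadraticChar (ZMod p) x1 * quadraticChar (ZMod p) x3) := by ring
      _ = 1 := h
  exact key x2 hx2 x3 hx3 h23 s23

/-- **PRTWO**.  A non-trivial block of `G_{e 0}` through `e 1`, whose mirror image is a block of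
`G_{e 1}`, has exactly two points. -/
theorem PRTWO {G Ω : Type*} [Group G] [MulAction G Ω] {p : ℕ} [Fact p.Prime]
    (e : ZMod p ≃ Ω) (hC : Coord G e) (B : Set Ω) (hB : NontrivABlock G (e 0) B)
    (h1 : e 1 ∈ B) (hB' : ABlock G (e 1) (insert (e 0) (B \ {e 1}))) :
    ∀ y ∈ B, ∀ y' ∈ B, y ≠ e 1 → y' ≠ e 1 → y = y' := by
  classical
  intro y hy y' hy' hy1 hy'1
  by_contra hne
  have hp : p.Prime := Fact.out
  obtain ⟨⟨h0B, hblk⟩, -, z, hz0, hzB⟩ := hB
  -- the coordinates of `B`
  have hD : ∀ j : ZMod p, j ∈ Finset.univ.filter (fun j : ZMod p => e j ∈ B) ↔ e j ∈ B := by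
    intro j
    rw [Finset.mem_filter]
    exact ⟨fun h => h.2, fun h => ⟨Finset.mem_univ _, h⟩⟩
  generalize Finset.univ.filter (fun j : ZMod p => e j ∈ B) = D at hD
  have h0D : (0 : ZMod p) ∉ D := fun h => h0B ((hD 0).1 h)
  have h1D : (1 : ZMod p) ∈ D := (hD 1).2 h1
  have hyD : e.symm y ∈ D := (hD _).2 (by rw [Equiv.apply_symm_apply]; exact hy)
  have hy'D : e.symm y' ∈ D := (hD _).2 (by rw [Equiv.apply_symm_apply]; exact hy')
  have hy1' : (1 : ZMod p) ≠ e.symm y := by
    intro h
    apply hy1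
    rw [← e.apply_symm_apply y, ← h]
  have hy'1' : (1 : ZMod p) ≠ e.symm y' := by
    intro h
    apply hy'1
    rw [← e.apply_symm_apply y', ← h]
  have hyy' : e.symm y ≠ e.symm y' := fun h => hne (e.symm.injective h)
  have hd3 : 3 ≤ D.card :=
    Finset.two_lt_card.2 ⟨1, h1D, e.symm y, hyD, e.symm y', hy'D, hy1', hy'1', hyy'⟩
  -- first sum
  have hblk1 : ∀ u : ZMod p, u ≠ 0 → IsSquare u →
      (∀ j ∈ D, u * j ∈ D) ∨ (∀ j ∈ D, u * j ∉ D) := by
    intro u hu hsq
    obtain ⟨n, hn⟩ := hC u 0 hu hsq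
    have hfix : n • e 0 = e 0 := by rw [hn, mul_zero, add_zero]
    rcases hblk n hfix with h | h
    · left
      intro j hj
      have := h _ ((hD j).1 hj)
      rw [hn, add_zero] at this
      exact (hD _).2 this
    · right
      intro j hj hj'
      have := h _ ((hD j).1 hj)
      rw [hn, add_zero] at this
      exact this ((hD _).1 hj')
  have hsum1 : ∑ j ∈ D, j = 0 := sum_eq_zero_of_square_blocks D h0D hblk1 hd3
  -- second set
  have h0D' : (0 : ZMod p) ∉ D.erase 1 := fun h => h0D (Finset.mem_of_mem_erase h)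
  have hcardD' : (insert (0 : ZMod p) (D.erase 1)).card = D.card := by
    rw [Finset.card_insert_of_notMem h0D', Finset.card_erase_of_mem h1D]
    omega
  have hE : ∀ k : ZMod p, k ∈ (insert (0 : ZMod p) (D.erase 1)).image (fun j => j - 1) ↔
      e (k + 1) ∈ insert (e 0) (B \ {e 1}) := by
    intro k
    rw [Finset.mem_image, Set.mem_insert_iff]
    constructor
    · rintro ⟨j, hj, rfl⟩
      rw [sub_add_cancel]
      rcases Finset.mem_insert.1 hj with h | h
      · left; rw [h]
      · right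
        obtain ⟨hj1, hjD⟩ := Finset.mem_erase.1 h
        exact ⟨(hD j).1 hjD, fun h' => hj1 (e.injective h')⟩
    · intro h
      refine ⟨k + 1, ?_, add_sub_cancel_right k 1⟩
      rcases h with h | h
      · rw [e.injective h]
        exact Finset.mem_insert_self _ _
      · apply Finset.mem_insert_of_mem
        exact Finset.mem_erase.2 ⟨fun h' => h.2 (by rw [h']; rfl), (hD _).2 h.1⟩
  have hcardE : ((insert (0 : ZMod p) (D.erase 1)).image (fun j => j - 1)).card = D.card := by
    rw [Finset.card_image_of_injective _ sub_left_injective, hcardD']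
  have hsumE : ∑ k ∈ (insert (0 : ZMod p) (D.erase 1)).image (fun j => j - 1), k
      = ∑ j ∈ D, j - 1 - (D.card : ZMod p) := by
    rw [Finset.sum_image (fun a _ b _ h => sub_left_injective h), Finset.sum_sub_distrib,
      Finset.sum_const, hcardD', Finset.sum_insert h0D', Finset.sum_erase_eq_sub h1D, zero_add,
      nsmul_eq_mul, mul_one]
  generalize (insert (0 : ZMod p) (D.erase 1)).image (fun j => j - 1) = E at hE hcardE hsumE
  have h0E : (0 : ZMod p) ∉ E := by
    rw [hE, zero_add]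
    exact hB'.1
  have hblk2 : ∀ u : ZMod p, u ≠ 0 → IsSquare u →
      (∀ k ∈ E, u * k ∈ E) ∨ (∀ k ∈ E, u * k ∉ E) := by
    intro u hu hsq
    obtain ⟨n, hn⟩ := hC u (1 - u) hu hsq
    have hfix : n • e 1 = e 1 := by rw [hn, mul_one, add_sub_cancel]
    have hcomp : ∀ k : ZMod p, n • e (k + 1) = e (u * k + 1) := by
      intro k
      rw [hn]
      congr 1
      ring
    rcases hB'.2 n hfix with h | h
    · left
      intro k hk
      have := h _ ((hE k).1 hk)
      rw [hcomp] at this
      exact (hE _).2 this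
    · right
      intro k hk hk'
      have := h _ ((hE k).1 hk)
      rw [hcomp] at this
      exact this ((hE _).1 hk')
  have hsum2 : ∑ k ∈ E, k = 0 :=
    sum_eq_zero_of_square_blocks E h0E hblk2 (by rw [hcardE]; exact hd3)
  -- `p ∣ d + 1`
  have hdvd : p ∣ D.card + 1 := by
    rw [← ZMod.natCast_eq_zero_iff]
    rw [hsum2, hsum1] at hsumE
    push_cast
    linear_combination hsumE
  -- but `d + 1 < p`
  have hz0' : e.symm z ≠ 0 := by
    intro h
    apply hz0
    rw [← e.apply_symm_apply z, h]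
  have hzD : e.symm z ∉ D := fun h => hzB (by have := (hD _).1 h; rwa [Equiv.apply_symm_apply] at this)
  have hsub : D ⊆ (Finset.univ.erase (0 : ZMod p)).erase (e.symm z) := by
    intro j hj
    refine Finset.mem_erase.2 ⟨fun h => hzD (h ▸ hj), Finset.mem_erase.2 ⟨fun h => h0D (h ▸ hj), Finset.mem_univ _⟩⟩
  have hle := Finset.card_le_card hsub
  rw [Finset.card_erase_of_mem (Finset.mem_erase.2 ⟨hz0', Finset.mem_univ _⟩),
    Finset.card_erase_of_mem (Finset.mem_univ _), Finset.card_univ, ZMod.card] at hle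
  have := Nat.le_of_dvd (by omega) hdvd
  have := hp.two_le
  omega

end Cfsg.Agent.Lib.Helper15.PRTWO
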