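import Cfsg.Agent.S2392

/-!
# Transitivity properties of `SL_n` on vectors (helper15)
-/

set_option autoImplicit false

namespace Cfsg.Agent.Lib.Helper15.SLTrans

open Matrix Cfsg.Agent.S2392

variable {F : Type*} [Field F]

section basic
variable {k : ℕ}

/-- the action of a transvection -/
theorem EE_mulVec (a b : Fin (k + 1) → F) (h : b ⬝ᵥ a = 0) (u : Fin (k + 1) → F) :
    (EE a b h).1 *ᵥ u = u + (u ⬝ᵥ b) • a := by
  show (1 + vecMulVec a b) *ᵥ u = _
  rw [add_mulVec, one_mulVec, vecMulVec_mulVec, dotProduct_comm, op_smul_eq_smul]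

theorem mulVec_mul (g h : Matrix.SpecialLinearGroup (Fin (k + 1)) F) (u : Fin (k + 1) → F) :
    (g * h).1 *ᵥ u = g.1 *ᵥ (h.1 *ᵥ u) := by
  rw [Matrix.SpecialLinearGroup.coe_mul, mulVec_mulVec]

theorem mulVec_one (u : Fin (k + 1) → F) :
    (1 : Matrix.SpecialLinearGroup (Fin (k + 1)) F).1 *ᵥ u = u := by
  rw [Matrix.SpecialLinearGroup.coe_one, one_mulVec]

theorem inv_mulVec (g : Matrix.SpecialLinearGroup (Fin (k + 1)) F) (u : Fin (k + 1) → F) :
    (g⁻¹).1 *ᵥ (g.1 *ᵥ u) = u := by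
  rw [← mulVec_mul, inv_mul_cancel, mulVec_one]

theorem mulVec_inv (g : Matrix.SpecialLinearGroup (Fin (k + 1)) F) (u : Fin (k + 1) → F) :
    g.1 *ᵥ ((g⁻¹).1 *ᵥ u) = u := by
  rw [← mulVec_mul, mul_inv_cancel, mulVec_one]

end basic

/-- `SL_n`, `n ≥ 2`, is transitive on non-zero vectors -/
theorem exists_mulVec_eq {k : ℕ} {u : Fin (k + 2) → F} (hu : u ≠ 0) :
    ∃ x : Matrix.SpecialLinearGroup (Fin (k + 2)) F, x.1 *ᵥ (Pi.single 0 1) = u := by
  have key := chain (F := F) (k := k)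
    (fun u => ∃ x : Matrix.SpecialLinearGroup (Fin (k + 2)) F, x.1 *ᵥ (Pi.single 0 1) = u) ?_ hu
  · exact key.mpr ⟨1, mulVec_one _⟩
  · rintro u w r hrw ⟨x, hx⟩
    exact ⟨EE r w (by rw [dotProduct_comm]; exact hrw) * x, by rw [mulVec_mul, hx, EE_mulVec]⟩

/-- the stabiliser of the first basis vector in `SL_n`, `n ≥ 3`, is transitive on the vectors
outside the first coordinate axis -/
theorem exists_mulVec_eq_pair {k : ℕ} {u : Fin (k + 3) → F} (hu : ∃ i, i ≠ 0 ∧ u i ≠ 0) :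
    ∃ x : Matrix.SpecialLinearGroup (Fin (k + 3)) F,
      x.1 *ᵥ (Pi.single 0 1) = Pi.single 0 1 ∧ x.1 *ᵥ (Pi.single 1 1) = u := by
  let Gp : (Fin (k + 3) → F) → Prop := fun u =>
    ∃ x : Matrix.SpecialLinearGroup (Fin (k + 3)) F,
      x.1 *ᵥ (Pi.single 0 1) = Pi.single 0 1 ∧ x.1 *ᵥ (Pi.single 1 1) = u
  -- invariance under transvections fixing the first basis vector
  have hinv : ∀ (u r w : Fin (k + 3) → F), w ⬝ᵥ r = 0 → w 0 = 0 → Gp u → Gp (u + (u ⬝ᵥ w) • r) := by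
    rintro u r w hwr hw0 ⟨x, hx0, hx1⟩
    refine ⟨EE r w hwr * x, ?_, ?_⟩
    · rw [mulVec_mul, hx0, EE_mulVec, single_dotProduct, one_mul, hw0, zero_smul, add_zero]
    · rw [mulVec_mul, hx1, EE_mulVec]
  have hu' : (Fin.tail u : Fin (k + 2) → F) ≠ 0 := by
    obtain ⟨i, hi0, hi⟩ := hu
    intro h
    obtain ⟨j, rfl⟩ := Fin.exists_succ_eq.mpr hi0
    exact hi (congrFun h j)
  have hcons : ∀ (c : F) (v w : Fin (k + 2) → F),
      (Fin.cons c v : Fin (k + 3) → F) ⬝ᵥ (Fin.cons 0 w : Fin (k + 3) → F) = v ⬝ᵥ w := by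
    intro c v w
    simp [dotProduct, Fin.sum_univ_succ]
  have key := chain (F := F) (k := k)
    (fun v => Gp (Fin.cons (u 0) v : Fin (k + 3) → F)) ?_ hu'
  · have h1 : (Fin.cons (u 0) (Fin.tail u) : Fin (k + 3) → F) = u := Fin.cons_self_tail u
    rw [h1] at key
    show Gp u
    rw [key]
    -- the base case
    have h2 := hinv (Pi.single 1 1) (u 0 • Pi.single 0 1) (Pi.single 1 1)
      (by rw [dotProduct_smul, single_dotProduct, one_mul]; simp)
      (by simp) ⟨1, mulVec_one _, mulVec_one _⟩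
    have h3 : (Pi.single 1 1 + ((Pi.single 1 1 : Fin (k + 3) → F) ⬝ᵥ Pi.single 1 1) •
        (u 0 • Pi.single 0 1) : Fin (k + 3) → F) =
        (Fin.cons (u 0) (Pi.single 0 1) : Fin (k + 3) → F) := by
      rw [single_dotProduct, one_mul, Pi.single_eq_same, one_smul]
      funext i
      refine Fin.cases ?_ (fun j => ?_) i
      · simp
      · rw [Fin.cons_succ]
        by_cases hj : j = 0
        · subst hj
          have : (Fin.succ (0 : Fin (k + 2)) : Fin (k + 3)) = 1 := rfl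
          simp [this]
        · have h4 : (Fin.succ j : Fin (k + 3)) ≠ 1 := by
            intro h
            apply hj
            exact Fin.succ_injective _ h
          have h5 : (Fin.succ j : Fin (k + 3)) ≠ 0 := Fin.succ_ne_zero j
          simp [h4, h5, hj]
    rw [h3] at h2
    exact h2
  · intro v w r hrw hG
    have h1 := hinv (Fin.cons (u 0) v) (Fin.cons 0 r) (Fin.cons 0 w)
      (by rw [hcons]; rw [dotProduct_comm]; exact hrw) (by simp) hG
    have h2 : ((Fin.cons (u 0) v : Fin (k + 3) → F) +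
        ((Fin.cons (u 0) v : Fin (k + 3) → F) ⬝ᵥ (Fin.cons 0 w : Fin (k + 3) → F)) •
          (Fin.cons 0 r : Fin (k + 3) → F)) = Fin.cons (u 0) (v + (v ⬝ᵥ w) • r) := by
      rw [hcons]
      funext i
      refine Fin.cases ?_ (fun j => ?_) i <;> simp
    rw [h2] at h1
    exact h1

end Cfsg.Agent.Lib.Helper15.SLTrans
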