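import Mathlib
import Cfsg.Prelude.Def_ClassicalGeometry
import Cfsg.Prelude.Def_GeometricClasses
import Cfsg.Agent.Lib.Helper5.SpMax
import Cfsg.Agent.Lib.Helper2.SpSubDefs
import Cfsg.Agent.Lib.Helper2.SpSubBasic
/-!
helper15: S5650 leaf G1 (core): `easy_case` with the leaves N2 (`ratC`) and N3 (`mem_of_rat_point`) as explicit
hypotheses in their exact leaf forms (for the given `M`, `F₀`).
-/

set_option autoImplicit false
open Cfsg Matrix Cfsg.Agent.Lib.Helper5 Cfsg.Agent.Lib.Helper5.SpMax Cfsg.Agent.Lib.Helper2.SpSub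

namespace Cfsg.Agent.Lib.Helper15.SpSubLeaf
variable {F : Type*} [Field F] {m : ℕ}

/-- a vector has a nonzero rational vector orthogonal to it when `[F : F₀] < 2m` -/
theorem exists_rat_orth [Fintype F] (F₀ : Subfield F) (hr : Module.finrank F₀ F < 2 * m)
    (y : Fin m ⊕ Fin m → F) :
    ∃ a : Fin m ⊕ Fin m → F, RatV F₀ a ∧ a ≠ 0 ∧ sympForm m F y a = 0 := by
  let φ : (Fin m ⊕ Fin m → F₀) →ₗ[F₀] F :=
    { toFun := fun u => sympForm m F y (fun i => (u i : F))
      map_add' := by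
        intro u v
        have : (fun i => (((u + v) i : F₀) : F)) = (fun i => (u i : F)) + (fun i => (v i : F)) := by
          funext i
          simp
        rw [this, sympForm_add_right]
      map_smul' := by
        intro c u
        have : (fun i => (((c • u) i : F₀) : F)) = (c : F) • (fun i => (u i : F)) := by
          funext i
          simp
        rw [this, sympForm_smul_right]
        rfl }
  have hninj : ¬ Function.Injective φ := by
    intro hinj
    have h1 := LinearMap.finrank_le_finrank_of_injective hinj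
    rw [Module.finrank_fintype_fun_eq_card, Fintype.card_sum, Fintype.card_fin] at h1
    omega
  rw [← LinearMap.ker_eq_bot, Submodule.eq_bot_iff] at hninj
  push Not at hninj
  obtain ⟨u, hu, hu0⟩ := hninj
  refine ⟨fun i => (u i : F), fun i => (u i).2, ?_, hu⟩
  intro h0
  apply hu0
  funext i
  have := congrFun h0 i
  exact Subtype.ext this

theorem ee_ne_zero' (i : Fin m) : (ee i : Fin m ⊕ Fin m → F) ≠ 0 := by
  intro h
  have := congrFun h (Sum.inl i)
  simp [ee] at this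

/-- (G1), with N2 and N3 as hypotheses -/
theorem easy_case_of [Fintype F] {F₀ : Subfield F} (hm : 3 ≤ m) {M : Subgroup (GL (Fin m ⊕ Fin m) F)}
    (h : Ctx F₀ M)
    (hN2 : ∀ {y : Fin m ⊕ Fin m → F} {c : F}, c ≠ 0 → tvc y c ∈ M →
      ∀ {a : Fin m ⊕ Fin m → F}, RatV F₀ a → a ≠ 0 → sympForm m F y a = 0 →
      ∃ (μ : F) (r : Fin m ⊕ Fin m → F), RatV F₀ r ∧ y = μ • r)
    (hN3 : ∀ {g : GL (Fin m ⊕ Fin m) F}, g ∈ M → ∀ {a a' : Fin m ⊕ Fin m → F}, RatV F₀ a → a ≠ 0 →
      RatV F₀ a' → ∀ {μ : F}, mv g a = μ • a' →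
      g ∈ Cfsg.Geo.subfieldSubgroup F₀ (1 : GL (Fin m ⊕ Fin m) F))
    (hr : Module.finrank F₀ F < 2 * m) {g : GL (Fin m ⊕ Fin m) F} (hg : g ∈ M) :
    g ∈ Cfsg.Geo.subfieldSubgroup F₀ (1 : GL (Fin m ⊕ Fin m) F) := by
  let i0 : Fin m := ⟨0, by omega⟩
  have hT : tvc (mv g (ee i0)) 1 ∈ M := by
    have h1 : tvc (ee i0 : Fin m ⊕ Fin m → F) (1 : F) ∈ M :=
      h.le (tvc_mem_H0 (ratV_ee i0) F₀.one_mem)
    have h2 := conj_tvc (h.le_sp hg) (ee i0 : Fin m ⊕ Fin m → F) (1 : F)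
    unfold mv
    rw [← h2]
    exact M.mul_mem (M.mul_mem hg h1) (M.inv_mem hg)
  obtain ⟨a, ha, ha0, hya⟩ := exists_rat_orth F₀ hr (mv g (ee i0))
  obtain ⟨μ, r, hr', hμr⟩ := hN2 one_ne_zero hT ha ha0 hya
  exact hN3 hg (ratV_ee i0) (ee_ne_zero' i0) hr' hμr

end Cfsg.Agent.Lib.Helper15.SpSubLeaf
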