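import Mathlib
import Cfsg.Prelude.Def_ClassicalGeometry
import Cfsg.Prelude.Def_GeometricClasses
import Cfsg.Agent.Lib.Helper5.SpMax
import Cfsg.Agent.Lib.Helper2.SpSubDefs
import Cfsg.Agent.Lib.Helper2.SpSubBasic
import Cfsg.Agent.Lib.Helper9.SpSubT
/-!
helper15: S5650 leaf N3 (core): `mem_of_rat_point` with the leaves E3 (`nrT`), N1 (`ratA`), N2 (`ratC`) as explicit
hypotheses in their exact leaf forms (for the given `M`, `F₀`); T1 is helper9's landed `exists_H0_map_ee`.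
-/

set_option autoImplicit false
open Cfsg Matrix Cfsg.Agent.Lib.Helper5 Cfsg.Agent.Lib.Helper5.SpMax Cfsg.Agent.Lib.Helper2.SpSub

namespace Cfsg.Agent.Lib.Helper15.SpSubLeaf
variable {F : Type*} [Field F] {m : ℕ}

theorem ee_ne_zero (i : Fin m) : (ee i : Fin m ⊕ Fin m → F) ≠ 0 := by
  intro h
  have := congrFun h (Sum.inl i)
  simp [ee] at this

theorem ee_apply_of_ne (i : Fin m) {u : Fin m ⊕ Fin m} (hu : u ≠ Sum.inl i) :
    (ee i : Fin m ⊕ Fin m → F) u = 0 := by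
  unfold ee
  exact Pi.single_eq_of_ne hu 1

theorem ee_apply_self (i : Fin m) : (ee i : Fin m ⊕ Fin m → F) (Sum.inl i) = 1 := by
  unfold ee
  exact Pi.single_eq_same _ _

theorem ff_apply_inr (i j : Fin m) :
    (ff i : Fin m ⊕ Fin m → F) (Sum.inr j) = if j = i then 1 else 0 := by
  unfold ff
  rw [Pi.single_apply]
  simp only [Sum.inr.injEq]

theorem mv_injective (g : GL (Fin m ⊕ Fin m) F) {x y : Fin m ⊕ Fin m → F}
    (h : mv g x = mv g y) : x = y := by
  have := congrArg (mv g⁻¹) h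
  rwa [mv_inv_mv, mv_inv_mv] at this

/-- conjugating a rational transvection of `H0` by `g ∈ M` stays in `M` -/
theorem tvc_conj_mem {F₀ : Subfield F} {M : Subgroup (GL (Fin m ⊕ Fin m) F)} (h : Ctx F₀ M)
    {g : GL (Fin m ⊕ Fin m) F} (hg : g ∈ M) {b : Fin m ⊕ Fin m → F} (hb : RatV F₀ b) :
    tvc (mv g b) 1 ∈ M := by
  have h1 : tvc b (1 : F) ∈ M := h.le (tvc_mem_H0 hb F₀.one_mem)
  have h2 := conj_tvc (h.le_sp hg) b (1 : F)
  unfold mv
  rw [← h2]
  exact M.mul_mem (M.mul_mem hg h1) (M.inv_mem hg)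

/-- the standard case of (N3): `g e = l • e` for a standard basis vector `e`. -/
theorem mem_of_rat_point_std {F₀ : Subfield F} (hm : 3 ≤ m)
    {M : Subgroup (GL (Fin m ⊕ Fin m) F)} (h : Ctx F₀ M)
    (hE3 : ∀ {a : Fin m ⊕ Fin m → F}, RatV F₀ a → a ≠ 0 → ∀ {c : F}, tvc a c ∈ M → c ∈ F₀)
    (hN1 : ∀ {a w : Fin m ⊕ Fin m → F}, RatV F₀ a → a ≠ 0 → sympForm m F a w = 0 →
      ∀ {ν : F}, Sab a w 1 * tvc a ν ∈ M →
      ∃ (r : Fin m ⊕ Fin m → F) (θ : F), RatV F₀ r ∧ w = r + θ • a)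
    (hN2 : ∀ {y : Fin m ⊕ Fin m → F} {c : F}, c ≠ 0 → tvc y c ∈ M →
      ∀ {a : Fin m ⊕ Fin m → F}, RatV F₀ a → a ≠ 0 → sympForm m F y a = 0 →
      ∃ (μ : F) (r : Fin m ⊕ Fin m → F), RatV F₀ r ∧ y = μ • r)
    {g : GL (Fin m ⊕ Fin m) F} (hg : g ∈ M)
    (i0 : Fin m) {l : F} (hge : mv g (ee i0) = l • ee i0) :
    g ∈ Cfsg.Geo.subfieldSubgroup F₀ (1 : GL (Fin m ⊕ Fin m) F) := by
  have hgsp : g ∈ spGL m F := h.le_sp hg
  have he0 : (ee i0 : Fin m ⊕ Fin m → F) ≠ 0 := ee_ne_zero i0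
  have hl0 : l ≠ 0 := by
    rintro rfl
    rw [zero_smul] at hge
    apply he0
    apply mv_injective g
    rw [hge, mv_zero]
  -- step 1: `l ^ 2 ∈ F₀`
  have hl2 : l ^ 2 ∈ F₀ := by
    have h1 : tvc (ee i0 : Fin m ⊕ Fin m → F) (l ^ 2 * 1) ∈ M := by
      rw [← tvc_smul, ← hge]
      exact tvc_conj_mem h hg (ratV_ee i0)
    have := hE3 (ratV_ee i0) he0 h1
    rwa [mul_one] at this
  -- step 2: rational vectors orthogonal to `e`
  have key : ∀ b : Fin m ⊕ Fin m → F, RatV F₀ b → sympForm m F b (ee i0) = 0 →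
      RatV F₀ (l • mv g b) := by
    intro b hb hbe
    have heb : sympForm m F (ee i0) b = 0 := by rw [sympForm_swap, hbe, neg_zero]
    by_cases hdep : ∃ c : F, b = c • ee i0
    · obtain ⟨c, rfl⟩ := hdep
      have hc : c ∈ F₀ := by
        have := hb (Sum.inl i0)
        rwa [Pi.smul_apply, ee_apply_self, smul_eq_mul, mul_one] at this
      rw [mv_smul, hge, smul_smul, smul_smul]
      apply ratV_smul _ (ratV_ee i0)
      have : l * c * l = l ^ 2 * c := by ring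
      rw [this]
      exact F₀.mul_mem hl2 hc
    · -- orthogonality of the images
      have hegb : sympForm m F (ee i0) (mv g b) = 0 := by
        have h1 := sp_form hgsp (ee i0) b
        rw [hge, sympForm_smul_left, heb] at h1
        rcases mul_eq_zero.mp h1 with h2 | h2
        · exact absurd h2 hl0
        · exact h2
      have hgbe : sympForm m F (mv g b) (ee i0) = 0 := by rw [sympForm_swap, hegb, neg_zero]
      have haw : sympForm m F (ee i0) (l • mv g b) = 0 := by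
        rw [sympForm_smul_right, hegb, mul_zero]
      -- (i)
      have hS : Sab (ee i0) (l • mv g b) 1 * tvc (ee i0) 0 ∈ M := by
        rw [tvc_zero, mul_one, Sab_smul_right hegb, ← Sab_smul_left hegb, ← hge,
          ← conj_Sab hgsp]
        exact M.mul_mem (M.mul_mem hg (h.le (Sab_mem_H0 (ratV_ee i0) hb F₀.one_mem)))
          (M.inv_mem hg)
      -- (ii)
      obtain ⟨r, θ, hr, hrθ⟩ := hN1 (ratV_ee i0) he0 haw hS
      -- (iii)
      obtain ⟨μ, r', hr', hμr'⟩ := hN2 one_ne_zero (tvc_conj_mem h hg hb) (ratV_ee i0) he0 hgbe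
      -- (iv)
      have hu : ∃ u : Fin m ⊕ Fin m, u ≠ Sum.inl i0 ∧ r u ≠ 0 := by
        by_contra hcon
        push Not at hcon
        apply hdep
        have hr1 : r = r (Sum.inl i0) • ee i0 := by
          funext u
          by_cases hu : u = Sum.inl i0
          · subst hu
            rw [Pi.smul_apply, ee_apply_self, smul_eq_mul, mul_one]
          · rw [hcon u hu, Pi.smul_apply, ee_apply_of_ne i0 hu, smul_zero]
        obtain ⟨ρ, hρ⟩ : ∃ ρ : F, r = ρ • ee i0 := ⟨_, hr1⟩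
        refine ⟨l⁻¹ * (ρ + θ) * l⁻¹, ?_⟩
        apply mv_injective g
        rw [mv_smul, hge, smul_smul]
        have h1 : mv g b = l⁻¹ • (l • mv g b) := by rw [smul_smul, inv_mul_cancel₀ hl0, one_smul]
        rw [h1, hrθ, hρ, ← add_smul, smul_smul]
        congr 1
        field_simp
      obtain ⟨u, hu, hru⟩ := hu
      -- (v)
      have h1 : (l • mv g b) u = r u := by
        rw [hrθ, Pi.add_apply, Pi.smul_apply, ee_apply_of_ne i0 hu, smul_zero, add_zero]
      have h2 : (l • mv g b) u = l * μ * r' u := by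
        rw [hμr', Pi.smul_apply, Pi.smul_apply, smul_eq_mul, smul_eq_mul, mul_assoc]
      have hr'u : r' u ≠ 0 := by
        intro h0
        rw [h0, mul_zero] at h2
        rw [h2] at h1
        exact hru h1.symm
      have hlμ : l * μ ∈ F₀ := by
        have : l * μ = r u / r' u := by
          rw [eq_div_iff hr'u, ← h2, h1]
        rw [this]
        exact F₀.div_mem (hr u) (hr' u)
      rw [hμr', smul_smul]
      exact ratV_smul hlμ hr'
  -- step 3: the vector `f`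
  obtain ⟨i1, hi1⟩ : ∃ i1 : Fin m, i1 ≠ i0 := by
    by_cases h0 : i0.val = 0
    · refine ⟨⟨1, by omega⟩, fun hh => ?_⟩
      have := congrArg Fin.val hh
      simp at this
      omega
    · refine ⟨⟨0, by omega⟩, fun hh => ?_⟩
      have := congrArg Fin.val hh
      simp at this
      omega
  have hf : RatV F₀ (l • mv g (ff i0)) := by
    have hρ : RatV F₀ (l • mv g (ee i1)) := key (ee i1) (ratV_ee i1) (B_ee_ee i1 i0)
    have hρ0 : l • mv g (ee i1) ≠ 0 := by
      intro h0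
      rcases smul_eq_zero.mp h0 with h1 | h1
      · exact hl0 h1
      · apply ee_ne_zero (F := F) i1
        apply mv_injective g
        rw [h1, mv_zero]
    have hya : sympForm m F (mv g (ff i0)) (l • mv g (ee i1)) = 0 := by
      rw [sympForm_smul_right, sp_form hgsp, B_ff_ee, if_neg (Ne.symm hi1), mul_zero]
    obtain ⟨μ, r', hr', hμr'⟩ :=
      hN2 one_ne_zero (tvc_conj_mem h hg (ratV_ff i0)) hρ hρ0 hya
    have h1 : μ * l * r' (Sum.inr i0) = 1 := by
      have h2 := sp_form hgsp (ff i0) (ee i0)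
      rw [hμr', hge, sympForm_smul_left, sympForm_smul_right, B_right_ee, B_ff_ee, if_pos rfl] at h2
      rw [← h2]
      ring
    have hr0 : r' (Sum.inr i0) ≠ 0 := by
      intro h0
      rw [h0, mul_zero] at h1
      exact zero_ne_one h1
    have hlμ : l * μ ∈ F₀ := by
      have : l * μ = (r' (Sum.inr i0))⁻¹ := by
        apply eq_inv_of_mul_eq_one_left
        rw [mul_comm l μ]
        exact h1
      rw [this]
      exact F₀.inv_mem (hr' _)
    rw [hμr', smul_smul]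
    exact ratV_smul hlμ hr'
  -- step 4 and 5
  apply mem_sub1_of_maps F₀ (inv_ne_zero hl0) g
  intro x hx
  refine ⟨l • mv g x, ?_, by rw [smul_smul, inv_mul_cancel₀ hl0, one_smul]⟩
  have hx' : RatV F₀ (x - x (Sum.inr i0) • ff i0) := ratV_sub hx (ratV_smul (hx _) (ratV_ff i0))
  have hx'e : sympForm m F (x - x (Sum.inr i0) • ff i0) (ee i0) = 0 := by
    rw [B_right_ee, Pi.sub_apply, Pi.smul_apply, ff_apply_inr, if_pos rfl, smul_eq_mul, mul_one,
      sub_self]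
  have hdec : l • mv g x =
      x (Sum.inr i0) • (l • mv g (ff i0)) + l • mv g (x - x (Sum.inr i0) • ff i0) := by
    rw [mv_sub, mv_smul]
    module
  rw [hdec]
  exact ratV_add (ratV_smul (hx _) hf) (key _ hx' hx'e)

/-- (N3) = (L5), with E3, N1, N2 as hypotheses -/
theorem mem_of_rat_point_of {F₀ : Subfield F} (hm : 3 ≤ m)
    {M : Subgroup (GL (Fin m ⊕ Fin m) F)} (h : Ctx F₀ M)
    (hE3 : ∀ {a : Fin m ⊕ Fin m → F}, RatV F₀ a → a ≠ 0 → ∀ {c : F}, tvc a c ∈ M → c ∈ F₀)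
    (hN1 : ∀ {a w : Fin m ⊕ Fin m → F}, RatV F₀ a → a ≠ 0 → sympForm m F a w = 0 →
      ∀ {ν : F}, Sab a w 1 * tvc a ν ∈ M →
      ∃ (r : Fin m ⊕ Fin m → F) (θ : F), RatV F₀ r ∧ w = r + θ • a)
    (hN2 : ∀ {y : Fin m ⊕ Fin m → F} {c : F}, c ≠ 0 → tvc y c ∈ M →
      ∀ {a : Fin m ⊕ Fin m → F}, RatV F₀ a → a ≠ 0 → sympForm m F y a = 0 →
      ∃ (μ : F) (r : Fin m ⊕ Fin m → F), RatV F₀ r ∧ y = μ • r)
    {g : GL (Fin m ⊕ Fin m) F} (hg : g ∈ M)
    {a a' : Fin m ⊕ Fin m → F} (ha : RatV F₀ a) (ha0 : a ≠ 0) (ha' : RatV F₀ a') {μ : F}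
    (hga : mv g a = μ • a') : g ∈ Cfsg.Geo.subfieldSubgroup F₀ (1 : GL (Fin m ⊕ Fin m) F) := by
  have ha'0 : a' ≠ 0 := by
    rintro rfl
    rw [smul_zero] at hga
    apply ha0
    apply mv_injective g
    rw [hga, mv_zero]
  let i0 : Fin m := ⟨0, by omega⟩
  obtain ⟨h1, hh1, hh1e⟩ := Cfsg.Agent.Lib.Helper9.SpSubLeaf.exists_H0_map_ee F₀ (by omega : 2 ≤ m) i0 ha ha0
  obtain ⟨h2, hh2, hh2e⟩ := Cfsg.Agent.Lib.Helper9.SpSubLeaf.exists_H0_map_ee F₀ (by omega : 2 ≤ m) i0 ha' ha'0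
  have hg' : h2⁻¹ * g * h1 ∈ M := M.mul_mem (M.mul_mem (M.inv_mem (h.le hh2)) hg) (h.le hh1)
  have hge : mv (h2⁻¹ * g * h1) (ee i0) = μ • ee i0 := by
    rw [mv_mul, mv_mul, hh1e, hga, mv_smul, ← hh2e, mv_inv_mv]
  have h3 := mem_of_rat_point_std hm h hE3 hN1 hN2 hg' i0 hge
  have h4 : g = h2 * (h2⁻¹ * g * h1) * h1⁻¹ := by group
  rw [h4]
  exact Subgroup.mul_mem _ (Subgroup.mul_mem _ (Subgroup.mem_inf.mp hh2).1 h3)
    (Subgroup.inv_mem _ (Subgroup.mem_inf.mp hh1).1)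

end Cfsg.Agent.Lib.Helper15.SpSubLeaf
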