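import Mathlib

/-! Helper15 library: classification of nondegenerate Hermitian matrices over a field with
involution having surjective norm and nonzero trace: `Pᴴ G P = 1` for some `P`. -/

set_option autoImplicit false

namespace Cfsg.Agent.Lib.Helper15.HermClass

open Matrix

section form

variable {K : Type*} [Field K] [StarRing K] {n : ℕ}

/-- the sesquilinear form of a matrix (conjugate-linear in the first argument) -/
def sq (G : Matrix (Fin n) (Fin n) K) (x y : Fin n → K) : K := star x ⬝ᵥ (G *ᵥ y)

lemma sq_add_right (G : Matrix (Fin n) (Fin n) K) (x y y' : Fin n → K) :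
    sq G x (y + y') = sq G x y + sq G x y' := by
  unfold sq
  rw [Matrix.mulVec_add, dotProduct_add]

lemma sq_smul_right (G : Matrix (Fin n) (Fin n) K) (c : K) (x y : Fin n → K) :
    sq G x (c • y) = c * sq G x y := by
  unfold sq
  rw [Matrix.mulVec_smul, dotProduct_smul, smul_eq_mul]

lemma sq_add_left (G : Matrix (Fin n) (Fin n) K) (x x' y : Fin n → K) :
    sq G (x + x') y = sq G x y + sq G x' y := by
  unfold sq
  rw [star_add, add_dotProduct]

lemma sq_smul_left (G : Matrix (Fin n) (Fin n) K) (c : K) (x y : Fin n → K) :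
    sq G (c • x) y = star c * sq G x y := by
  unfold sq
  rw [star_smul, smul_dotProduct, smul_eq_mul]

lemma sq_zero_right (G : Matrix (Fin n) (Fin n) K) (x : Fin n → K) : sq G x 0 = 0 := by
  unfold sq
  rw [Matrix.mulVec_zero, dotProduct_zero]

lemma sq_sum_right {κ : Type*} (s : Finset κ) (G : Matrix (Fin n) (Fin n) K) (x : Fin n → K)
    (f : κ → (Fin n → K)) : sq G x (∑ i ∈ s, f i) = ∑ i ∈ s, sq G x (f i) := by
  classical
  induction s using Finset.induction_on with
  | empty => rw [Finset.sum_empty, Finset.sum_empty, sq_zero_right]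
  | insert a s ha ih => rw [Finset.sum_insert ha, Finset.sum_insert ha, sq_add_right, ih]

lemma sq_star (G : Matrix (Fin n) (Fin n) K) (hG : Gᴴ = G) (x y : Fin n → K) :
    star (sq G x y) = sq G y x := by
  unfold sq
  rw [Matrix.star_dotProduct, star_star, Matrix.star_mulVec, hG, ← Matrix.dotProduct_mulVec]

lemma sq_sub_right (G : Matrix (Fin n) (Fin n) K) (x y y' : Fin n → K) :
    sq G x (y - y') = sq G x y - sq G x y' := by
  have h := sq_add_right G x (y - y') y'
  rw [sub_add_cancel] at h
  rw [h, add_sub_cancel_right]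

lemma conj_mul_eq (G P : Matrix (Fin n) (Fin n) K) (i j : Fin n) :
    (Pᴴ * G * P) i j = sq G (fun r => P r i) (fun r => P r j) := by
  unfold sq
  rw [Matrix.mul_assoc, Matrix.mul_apply, dotProduct]
  apply Finset.sum_congr rfl
  intro r _
  rw [Matrix.conjTranspose_apply, Pi.star_apply]
  congr 1

/-- existence of a non-isotropic vector orthogonal to a given orthonormal family -/
lemma exists_next (hT : ∃ d : K, d + star d ≠ 0) (G : Matrix (Fin n) (Fin n) K) (hG : Gᴴ = G)
    (hdet : IsUnit G) {k : ℕ} (hk : k < n) (b : Fin k → (Fin n → K))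
    (hb : ∀ i j, sq G (b i) (b j) = if i = j then 1 else 0) :
    ∃ x : Fin n → K, (∀ i, sq G (b i) x = 0) ∧ sq G x x ≠ 0 := by
  -- a nonzero vector w orthogonal to the family
  let L : (Fin n → K) →ₗ[K] (Fin k → K) :=
    { toFun := fun x i => sq G (b i) x
      map_add' := fun x y => by
        funext i
        exact sq_add_right G (b i) x y
      map_smul' := fun c x => by
        funext i
        exact sq_smul_right G c (b i) x }
  have hLker : LinearMap.ker L ≠ ⊥ := by
    apply LinearMap.ker_ne_bot_of_finrank_lt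
    rw [Module.finrank_fintype_fun_eq_card, Module.finrank_fintype_fun_eq_card, Fintype.card_fin,
      Fintype.card_fin]
    exact hk
  obtain ⟨w, hwL, hw0⟩ := Submodule.exists_mem_ne_zero_of_ne_bot hLker
  have hw : ∀ i, sq G (b i) w = 0 := fun i => congrFun (LinearMap.mem_ker.1 hwL) i
  -- a vector y with sq G y w ≠ 0
  have hGw : G *ᵥ w ≠ 0 := by
    intro h0
    obtain ⟨⟨G, Gi, h1, h2⟩, rfl⟩ := hdet
    have : Gi *ᵥ (G *ᵥ w) = w := by
      rw [Matrix.mulVec_mulVec, h2, Matrix.one_mulVec]
    rw [h0, Matrix.mulVec_zero] at this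
    exact hw0 this.symm
  obtain ⟨y, hy⟩ : ∃ y : Fin n → K, sq G y w ≠ 0 := by
    by_contra hcon
    push Not at hcon
    apply hGw
    funext i
    have := hcon (Pi.single i 1)
    unfold sq at this
    rw [← Pi.single_star, star_one, single_one_dotProduct] at this
    exact this
  -- project y to the orthogonal complement
  obtain ⟨y', hy'def⟩ : ∃ y' : Fin n → K, y' = y - ∑ i, sq G (b i) y • b i := ⟨_, rfl⟩
  have hy'b : ∀ j, sq G (b j) y' = 0 := by
    intro j
    rw [hy'def, sq_sub_right, sq_sum_right]
    have : ∑ i, sq G (b j) (sq G (b i) y • b i) = sq G (b j) y := by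
      rw [Finset.sum_eq_single j]
      · rw [sq_smul_right, hb j j, if_pos rfl, mul_one]
      · intro i _ hij
        rw [sq_smul_right, hb j i, if_neg (Ne.symm hij), mul_zero]
      · intro h
        exact absurd (Finset.mem_univ _) h
    rw [this, sub_self]
  have hy'w : sq G y' w ≠ 0 := by
    have h1 : sq G y' w = star (sq G w y') := (sq_star G hG w y').symm
    rw [h1, hy'def, sq_sub_right, sq_sum_right]
    have : ∑ i, sq G w (sq G (b i) y • b i) = 0 := by
      apply Finset.sum_eq_zero
      intro i _
      rw [sq_smul_right, ← sq_star G hG (b i) w, hw i, star_zero, mul_zero]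
    rw [this, sub_zero, sq_star G hG]
    exact hy
  -- find a non-isotropic vector
  by_cases h1 : sq G w w ≠ 0
  · exact ⟨w, hw, h1⟩
  push Not at h1
  by_cases h2 : sq G y' y' ≠ 0
  · exact ⟨y', hy'b, h2⟩
  push Not at h2
  obtain ⟨d, hd⟩ := hT
  obtain ⟨z, hz⟩ : ∃ z : K, z = sq G y' w := ⟨_, rfl⟩
  have hz0 : z ≠ 0 := by rw [hz]; exact hy'w
  obtain ⟨c, hc⟩ : ∃ c : K, star c = d / z := ⟨star (d / z), star_star _⟩
  refine ⟨w + c • y', ?_, ?_⟩
  · intro i
    rw [sq_add_right, sq_smul_right, hw i, hy'b i, mul_zero, add_zero]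
  · rw [sq_add_right, sq_add_left, sq_add_left, sq_smul_right, sq_smul_right, sq_smul_left,
      sq_smul_left, h1, h2, ← hz, ← sq_star G hG y' w, ← hz]
    have hcc : c = star d / star z := by
      have := congrArg star hc
      rw [star_star, star_div₀] at this
      exact this
    rw [hc, hcc]
    have hsz : star z ≠ 0 := by
      intro h
      apply hz0
      have := congrArg star h
      rwa [star_star, star_zero] at this
    intro h
    apply hd
    have : d + star d = 0 + d / z * z + (star d / star z * star z + star d / star z * (d / z * 0)) := by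
      rw [div_mul_cancel₀ _ hz0, div_mul_cancel₀ _ hsz, mul_zero, mul_zero, add_zero, zero_add]
    rw [this]
    exact h

theorem exists_orthonormal (hT : ∃ d : K, d + star d ≠ 0)
    (hN : ∀ x : K, star x = x → x ≠ 0 → ∃ r : K, star r * r = x)
    (G : Matrix (Fin n) (Fin n) K) (hG : Gᴴ = G) (hdet : IsUnit G) :
    ∀ k, k ≤ n → ∃ b : Fin k → (Fin n → K), ∀ i j, sq G (b i) (b j) = if i = j then 1 else 0 := by
  intro k
  induction k with
  | zero =>
    intro _
    exact ⟨fun i => i.elim0, fun i => i.elim0⟩
  | succ k ih =>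
    intro hk
    obtain ⟨b, hb⟩ := ih (by omega)
    obtain ⟨x, hxb, hxx⟩ := exists_next hT G hG hdet (by omega) b hb
    have hfix : star (sq G x x) = sq G x x := sq_star G hG x x
    obtain ⟨r, hr⟩ := hN _ hfix hxx
    have hr0 : r ≠ 0 := by
      rintro rfl
      rw [mul_zero] at hr
      exact hxx hr.symm
    have hsr0 : star r ≠ 0 := by
      intro h
      apply hr0
      have := congrArg star h
      rwa [star_star, star_zero] at this
    refine ⟨Fin.snoc b (r⁻¹ • x), ?_⟩
    intro i j
    refine Fin.lastCases ?_ (fun i' => ?_) i <;> refine Fin.lastCases ?_ (fun j' => ?_) j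
    · rw [Fin.snoc_last, if_pos rfl, sq_smul_right, sq_smul_left, ← hr, star_inv₀]
      field_simp
    · rw [Fin.snoc_last, Fin.snoc_castSucc, if_neg (Fin.castSucc_lt_last j').ne',
        ← sq_star G hG, sq_smul_right, hxb j', mul_zero, star_zero]
    · rw [Fin.snoc_last, Fin.snoc_castSucc, if_neg (Fin.castSucc_lt_last i').ne,
        sq_smul_right, hxb i', mul_zero]
    · rw [Fin.snoc_castSucc, Fin.snoc_castSucc, hb i' j']
      simp only [Fin.castSucc_inj]

/-- every nondegenerate Hermitian matrix is congruent to the identity -/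
theorem exists_isometry (hT : ∃ d : K, d + star d ≠ 0)
    (hN : ∀ x : K, star x = x → x ≠ 0 → ∃ r : K, star r * r = x)
    (G : Matrix (Fin n) (Fin n) K) (hG : Gᴴ = G) (hdet : IsUnit G) :
    ∃ P : Matrix (Fin n) (Fin n) K, Pᴴ * G * P = 1 := by
  obtain ⟨b, hb⟩ := exists_orthonormal hT hN G hG hdet n le_rfl
  refine ⟨Matrix.of (fun r j => b j r), ?_⟩
  ext i j
  rw [conj_mul_eq, Matrix.one_apply]
  exact hb i j

end form

end Cfsg.Agent.Lib.Helper15.HermClass
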