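import Mathlib
import Cfsg.Agent.S2573

/-! Helper15 library: regular nilpotent matrices (rank `n - 1`): cyclic vectors and the
centralizer as polynomials. -/

set_option autoImplicit false

namespace Cfsg.Agent.Lib.Helper15.RegNil

open Matrix Module

variable {F : Type*} [Field F] {ι : Type*} [Fintype ι] [DecidableEq ι]

/-- polynomial in `Y` with coefficient vector `a` -/
def pol (n : ℕ) (Y : Matrix ι ι F) (a : Fin n → F) : Matrix ι ι F :=
  ∑ k : Fin n, a k • Y ^ (k : ℕ)

lemma pol_mulVec (n : ℕ) (Y : Matrix ι ι F) (a : Fin n → F) (v : ι → F) :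
    pol n Y a *ᵥ v = ∑ k : Fin n, a k • (Y ^ (k : ℕ) *ᵥ v) := by
  unfold pol
  rw [Matrix.sum_mulVec]
  apply Finset.sum_congr rfl
  intro k _
  rw [Matrix.smul_mulVec]

lemma pol_comm (n : ℕ) (Y : Matrix ι ι F) (a : Fin n → F) : pol n Y a * Y = Y * pol n Y a := by
  unfold pol
  rw [Finset.sum_mul, Finset.mul_sum]
  apply Finset.sum_congr rfl
  intro k _
  rw [Matrix.smul_mul, Matrix.mul_smul, ← pow_succ, ← pow_succ']

lemma pol_add (n : ℕ) (Y : Matrix ι ι F) (a b : Fin n → F) :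
    pol n Y (a + b) = pol n Y a + pol n Y b := by
  unfold pol
  rw [← Finset.sum_add_distrib]
  apply Finset.sum_congr rfl
  intro k _
  rw [Pi.add_apply, add_smul]

lemma pol_smul (n : ℕ) (Y : Matrix ι ι F) (c : F) (a : Fin n → F) :
    pol n Y (c • a) = c • pol n Y a := by
  unfold pol
  rw [Finset.smul_sum]
  apply Finset.sum_congr rfl
  intro k _
  rw [Pi.smul_apply, smul_eq_mul, mul_smul]

theorem exists_cyclic {n : ℕ} (hn : Fintype.card ι = n) (hn1 : 1 ≤ n) (Y : Matrix ι ι F)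
    (hr : Y.rank = n - 1) : ∃ v : ι → F, Y ^ (n - 1) *ᵥ v ≠ 0 := by
  by_contra hcon
  push Not at hcon
  set f : End F (ι → F) := Matrix.toLin' Y with hf
  have hfin : finrank F (ι → F) = n := by rw [Module.finrank_fintype_fun_eq_card, hn]
  have hker : finrank F (LinearMap.ker f) = 1 := by
    have h := LinearMap.finrank_range_add_finrank_ker f
    have hr' : finrank F (LinearMap.range f) = n - 1 := by
      rw [hf, Matrix.toLin'_apply']
      exact hr
    rw [hr', hfin] at h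
    omega
  have h1 := Cfsg.Agent.S2573.ker_pow_le f (n - 1)
  rw [hker, mul_one] at h1
  have h2 : LinearMap.ker (f ^ (n - 1)) = ⊤ := by
    rw [eq_top_iff]
    intro x _
    rw [LinearMap.mem_ker, hf, ← Matrix.toLin'_pow, Matrix.toLin'_apply]
    exact hcon x
  rw [h2, finrank_top, hfin] at h1
  omega

theorem cyc_inj {n : ℕ} (Y : Matrix ι ι F) (hnil : Y ^ n = 0) (v : ι → F)
    (hv : Y ^ (n - 1) *ᵥ v ≠ 0) (c : Fin n → F) (hc : pol n Y c *ᵥ v = 0) : c = 0 := by
  rw [pol_mulVec] at hc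
  have key : ∀ j : ℕ, ∀ hj : j < n, (∀ i : Fin n, (i : ℕ) < j → c i = 0) → c ⟨j, hj⟩ = 0 := by
    intro j hj hlt
    have h1 := congrArg (fun x => (Y ^ (n - 1 - j)) *ᵥ x) hc
    simp only [Matrix.mulVec_sum, Matrix.mulVec_smul, Matrix.mulVec_mulVec, ← pow_add,
      Matrix.mulVec_zero] at h1
    rw [Finset.sum_eq_single ⟨j, hj⟩] at h1
    · have : n - 1 - j + j = n - 1 := by omega
      simp only [this] at h1
      rcases smul_eq_zero.mp h1 with h | h
      · exact h
      · exact absurd h hv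
    · intro i _ hne
      have hne' : (i : ℕ) ≠ j := fun h => hne (Fin.ext h)
      rcases lt_or_gt_of_ne hne' with h | h
      · rw [hlt i h, zero_smul]
      · have : Y ^ (n - 1 - j + i) = 0 := by
          have : n - 1 - j + (i : ℕ) = n + (i - j - 1) := by
            have := i.2
            omega
          rw [this, pow_add, hnil, zero_mul]
        rw [this, Matrix.zero_mulVec, smul_zero]
    · intro h
      exact absurd (Finset.mem_univ _) h
  have all : ∀ j : ℕ, ∀ i : Fin n, (i : ℕ) = j → c i = 0 := by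
    intro j
    induction j using Nat.strong_induction_on with
    | _ j ih =>
      intro i hi
      have := key j (hi ▸ i.2) (fun i' hi' => ih _ hi' i' rfl)
      convert this using 2
      exact Fin.ext hi
  funext i
  exact all _ i rfl

/-- the cyclic parametrization as a linear map -/
def cycMap (n : ℕ) (Y : Matrix ι ι F) (v : ι → F) : (Fin n → F) →ₗ[F] (ι → F) where
  toFun a := pol n Y a *ᵥ v
  map_add' a b := by rw [pol_add, Matrix.add_mulVec]
  map_smul' c a := by rw [pol_smul, Matrix.smul_mulVec, RingHom.id_apply]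

theorem cycMap_bijective {n : ℕ} (hn : Fintype.card ι = n) (Y : Matrix ι ι F) (hnil : Y ^ n = 0)
    (v : ι → F) (hv : Y ^ (n - 1) *ᵥ v ≠ 0) : Function.Bijective (cycMap n Y v) := by
  have hinj : Function.Injective (cycMap n Y v) := by
    rw [← LinearMap.ker_eq_bot, LinearMap.ker_eq_bot']
    intro c hc
    exact cyc_inj Y hnil v hv c hc
  have hfr : finrank F (Fin n → F) = finrank F (ι → F) := by
    rw [Module.finrank_fintype_fun_eq_card, Module.finrank_fintype_fun_eq_card, Fintype.card_fin, hn]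
  exact ⟨hinj, (LinearMap.injective_iff_surjective_of_finrank_eq_finrank hfr).1 hinj⟩

theorem eq_pol_of_comm {n : ℕ} (hn : Fintype.card ι = n) (Y : Matrix ι ι F) (hnil : Y ^ n = 0)
    (v : ι → F) (hv : Y ^ (n - 1) *ᵥ v ≠ 0) (M : Matrix ι ι F) (hM : M * Y = Y * M) :
    ∃ a : Fin n → F, M = pol n Y a := by
  obtain ⟨a, ha⟩ := (cycMap_bijective hn Y hnil v hv).2 (M *ᵥ v)
  refine ⟨a, ?_⟩
  have ha' : pol n Y a *ᵥ v = M *ᵥ v := ha
  apply Matrix.toLin'.injective
  apply LinearMap.ext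
  intro x
  obtain ⟨b, hb⟩ := (cycMap_bijective hn Y hnil v hv).2 x
  have hb' : pol n Y b *ᵥ v = x := hb
  have hMb : M * pol n Y b = pol n Y b * M := by
    unfold pol
    rw [Finset.mul_sum, Finset.sum_mul]
    apply Finset.sum_congr rfl
    intro k _
    rw [Matrix.mul_smul, Matrix.smul_mul, (Commute.pow_right hM _).eq]
  have hab : pol n Y a * pol n Y b = pol n Y b * pol n Y a := by
    unfold pol
    rw [Finset.mul_sum, Finset.sum_mul]
    apply Finset.sum_congr rfl
    intro k _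
    rw [Matrix.mul_smul, Matrix.smul_mul]
    congr 1
    exact ((Commute.pow_right (pol_comm n Y a) _).eq)
  rw [Matrix.toLin'_apply, Matrix.toLin'_apply, ← hb', Matrix.mulVec_mulVec, Matrix.mulVec_mulVec,
    hMb, hab, ← Matrix.mulVec_mulVec, ← Matrix.mulVec_mulVec, ha']

theorem pol_injective {n : ℕ} (Y : Matrix ι ι F) (hnil : Y ^ n = 0)
    (v : ι → F) (hv : Y ^ (n - 1) *ᵥ v ≠ 0) : Function.Injective (pol n Y) := by
  intro a b hab
  have h1 : pol n Y (a - b) *ᵥ v = 0 := by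
    have : pol n Y (a - b) = pol n Y a - pol n Y b := by
      have h2 := pol_add n Y (a - b) b
      rw [sub_add_cancel] at h2
      rw [h2, add_sub_cancel_right]
    rw [this, hab, sub_self, Matrix.zero_mulVec]
  exact sub_eq_zero.1 (cyc_inj Y hnil v hv _ h1)

lemma pol_neg (n : ℕ) (Y : Matrix ι ι F) (a : Fin n → F) : pol n Y (-a) = -pol n Y a := by
  have h := pol_smul n Y (-1) a
  rwa [neg_one_smul, neg_one_smul] at h

lemma pol_sub (n : ℕ) (Y : Matrix ι ι F) (a b : Fin n → F) :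
    pol n Y (a - b) = pol n Y a - pol n Y b := by
  rw [sub_eq_add_neg, pol_add, pol_neg, ← sub_eq_add_neg]

lemma pol_succ (n : ℕ) (Y : Matrix ι ι F) (a : Fin (n + 1) → F) :
    pol (n + 1) Y a = a 0 • 1 + Y * pol n Y (fun k => a k.succ) := by
  unfold pol
  rw [Fin.sum_univ_succ, Finset.mul_sum, Fin.val_zero, pow_zero]
  congr 1
  apply Finset.sum_congr rfl
  intro k _
  rw [Matrix.mul_smul, Fin.val_succ, pow_succ']

lemma pol_single {n : ℕ} (hn1 : 0 < n) (Y : Matrix ι ι F) :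
    pol n Y (Pi.single ⟨0, hn1⟩ 1) = 1 := by
  unfold pol
  rw [Finset.sum_eq_single ⟨0, hn1⟩]
  · rw [Pi.single_eq_same, one_smul, pow_zero]
  · intro k _ hk
    rw [Pi.single_eq_of_ne hk, zero_smul]
  · intro h
    exact absurd (Finset.mem_univ _) h

theorem pol_isNilpotent {n : ℕ} (hn1 : 0 < n) (Y : Matrix ι ι F) (hnil : Y ^ n = 0)
    (a : Fin n → F) (h0 : a ⟨0, hn1⟩ = 0) : IsNilpotent (pol n Y a) := by
  obtain ⟨n', rfl⟩ : ∃ n', n = n' + 1 := ⟨n - 1, by omega⟩
  have h0' : a 0 = 0 := h0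
  rw [pol_succ, h0', zero_smul, zero_add]
  exact Commute.isNilpotent_mul_right (pol_comm n' Y _).symm ⟨_, hnil⟩

theorem pol_isUnit {n : ℕ} (hn1 : 0 < n) (Y : Matrix ι ι F) (hnil : Y ^ n = 0)
    (a : Fin n → F) (h0 : a ⟨0, hn1⟩ ≠ 0) : IsUnit (pol n Y a) := by
  obtain ⟨n', rfl⟩ : ∃ n', n = n' + 1 := ⟨n - 1, by omega⟩
  have h0' : a 0 ≠ 0 := h0
  rw [pol_succ]
  have hnilp : IsNilpotent (Y * pol n' Y (fun k => a k.succ)) :=
    Commute.isNilpotent_mul_right (pol_comm n' Y _).symm ⟨_, hnil⟩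
  have hu : IsUnit (a 0 • (1 : Matrix ι ι F)) := by
    have : a 0 • (1 : Matrix ι ι F) = algebraMap F _ (a 0) := by
      rw [Algebra.algebraMap_eq_smul_one]
    rw [this]
    exact (IsUnit.mk0 _ h0').map _
  apply IsNilpotent.isUnit_add_left_of_commute hnilp hu
  exact Commute.smul_right (Commute.one_right _) _

theorem pol_top {n : ℕ} (hn1 : 0 < n) (Y : Matrix ι ι F) (hnil : Y ^ n = 0)
    (a : Fin n → F) (v : ι → F) :
    pol n Y a *ᵥ (Y ^ (n - 1) *ᵥ v) = a ⟨0, hn1⟩ • (Y ^ (n - 1) *ᵥ v) := by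
  obtain ⟨n', rfl⟩ : ∃ n', n = n' + 1 := ⟨n - 1, by omega⟩
  rw [pol_succ, Matrix.add_mulVec, Matrix.smul_mulVec, Matrix.one_mulVec]
  have : Y * pol n' Y (fun k => a k.succ) * Y ^ (n' + 1 - 1) = 0 := by
    rw [Nat.add_sub_cancel, ← pol_comm n' Y _, Matrix.mul_assoc, ← pow_succ', hnil,
      Matrix.mul_zero]
  rw [Matrix.mulVec_mulVec, this, Matrix.zero_mulVec, add_zero]
  rfl

end Cfsg.Agent.Lib.Helper15.RegNil
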