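import Mathlib
import Cfsg.Agent.Lib.Helper15.RegNil

/-! Helper15 library: regular nilpotent matrices II: shift, rank, conjugacy. -/

set_option autoImplicit false

namespace Cfsg.Agent.Lib.Helper15.RegNil

open Matrix Module

variable {F : Type*} [Field F] {ι : Type*} [Fintype ι] [DecidableEq ι]

lemma pol_mul_comm (n : ℕ) (Y : Matrix ι ι F) (a b : Fin n → F) :
    pol n Y a * pol n Y b = pol n Y b * pol n Y a := by
  unfold pol
  rw [Finset.mul_sum, Finset.sum_mul]
  apply Finset.sum_congr rfl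
  intro k _
  rw [Matrix.mul_smul, Matrix.smul_mul]
  congr 1
  exact ((Commute.pow_right (pol_comm n Y a) _).eq)

/-- shifted coefficient vector (multiplication by the variable) -/
def shiftv {n : ℕ} (a : Fin n → F) : Fin n → F :=
  fun k => if h : (k : ℕ) = 0 then 0 else a ⟨(k : ℕ) - 1, by have := k.2; omega⟩

theorem mul_pol {n : ℕ} (Y : Matrix ι ι F) (hnil : Y ^ n = 0) (a : Fin n → F) :
    Y * pol n Y a = pol n Y (shiftv a) := by
  rcases Nat.eq_zero_or_pos n with h0 | h0
  · subst h0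
    unfold pol
    rw [Finset.univ_eq_empty, Finset.sum_empty, Finset.sum_empty, Matrix.mul_zero]
  obtain ⟨n', rfl⟩ : ∃ n', n = n' + 1 := ⟨n - 1, by omega⟩
  rw [pol_succ (n') Y (shiftv a)]
  have h1 : shiftv a 0 = 0 := by
    unfold shiftv
    rw [dif_pos (by rfl)]
  have h2 : (fun k : Fin n' => shiftv a k.succ) = fun k : Fin n' => a k.castSucc := by
    funext k
    unfold shiftv
    rw [dif_neg (by rw [Fin.val_succ]; omega)]
    congr 1
  rw [h1, zero_smul, zero_add, h2]
  have h3 : pol (n' + 1) Y a = pol n' Y (fun k => a k.castSucc) + a (Fin.last n') • Y ^ n' := by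
    unfold pol
    rw [Fin.sum_univ_castSucc]
    rfl
  rw [h3, Matrix.mul_add, Matrix.mul_smul, ← pow_succ', hnil, smul_zero, add_zero]

theorem rank_of_cyclic {n : ℕ} (hn : Fintype.card ι = n) (hn1 : 1 ≤ n) (Y : Matrix ι ι F)
    (hnil : Y ^ n = 0) (v : ι → F) (hv : Y ^ (n - 1) *ᵥ v ≠ 0) : Y.rank = n - 1 := by
  set f : (ι → F) →ₗ[F] (ι → F) := Matrix.toLin' Y with hf
  have hfin : finrank F (ι → F) = n := by rw [Module.finrank_fintype_fun_eq_card, hn]
  have hker : LinearMap.ker f = Submodule.span F {Y ^ (n - 1) *ᵥ v} := by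
    apply le_antisymm
    · intro x hx
      rw [LinearMap.mem_ker, hf, Matrix.toLin'_apply] at hx
      obtain ⟨a, ha⟩ := (cycMap_bijective hn Y hnil v hv).2 x
      have ha' : pol n Y a *ᵥ v = x := ha
      rw [← ha', Matrix.mulVec_mulVec, mul_pol Y hnil] at hx
      have hs := cyc_inj Y hnil v hv _ hx
      have ha0 : ∀ k : Fin n, (k : ℕ) < n - 1 → a k = 0 := by
        intro k hk
        have h1 := congrFun hs ⟨(k : ℕ) + 1, by omega⟩
        unfold shiftv at h1
        rw [dif_neg (by simp)] at h1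
        simpa using h1
      rw [Submodule.mem_span_singleton]
      refine ⟨a ⟨n - 1, by omega⟩, ?_⟩
      rw [← ha', pol_mulVec, Finset.sum_eq_single ⟨n - 1, by omega⟩]
      · intro k _ hk
        have : (k : ℕ) < n - 1 := by
          have h1 := k.2
          have h2 : (k : ℕ) ≠ n - 1 := fun h => hk (Fin.ext h)
          omega
        rw [ha0 k this, zero_smul]
      · intro h
        exact absurd (Finset.mem_univ _) h
    · rw [Submodule.span_singleton_le_iff_mem, LinearMap.mem_ker, hf, Matrix.toLin'_apply,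
        Matrix.mulVec_mulVec, ← pow_succ']
      have : n - 1 + 1 = n := by omega
      rw [this, hnil, Matrix.zero_mulVec]
  have h := LinearMap.finrank_range_add_finrank_ker f
  rw [hker, finrank_span_singleton hv, hfin] at h
  have hr : Y.rank = finrank F (LinearMap.range f) := by
    rw [hf, Matrix.toLin'_apply']
    rfl
  rw [hr]
  omega

theorem exists_conj {n : ℕ} (hn : Fintype.card ι = n) (Y Y' : Matrix ι ι F)
    (hnil : Y ^ n = 0) (hnil' : Y' ^ n = 0) (v v' : ι → F)
    (hv : Y ^ (n - 1) *ᵥ v ≠ 0) (hv' : Y' ^ (n - 1) *ᵥ v' ≠ 0) :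
    ∃ h : Matrix ι ι F, IsUnit h ∧ h * Y = Y' * h := by
  set Φ := LinearEquiv.ofBijective (cycMap n Y v) (cycMap_bijective hn Y hnil v hv) with hΦ
  set Φ' := LinearEquiv.ofBijective (cycMap n Y' v') (cycMap_bijective hn Y' hnil' v' hv') with hΦ'
  set ψ : (ι → F) ≃ₗ[F] (ι → F) := Φ.symm.trans Φ' with hψ
  refine ⟨LinearMap.toMatrix' (ψ : (ι → F) →ₗ[F] (ι → F)), ?_, ?_⟩
  · refine ⟨⟨LinearMap.toMatrix' (ψ : (ι → F) →ₗ[F] (ι → F)),
      LinearMap.toMatrix' (ψ.symm : (ι → F) →ₗ[F] (ι → F)), ?_, ?_⟩, rfl⟩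
    · rw [← LinearMap.toMatrix'_comp, LinearEquiv.comp_coe, LinearEquiv.symm_trans_self,
        LinearEquiv.refl_toLinearMap, LinearMap.toMatrix'_id]
    · rw [← LinearMap.toMatrix'_comp, LinearEquiv.comp_coe, LinearEquiv.self_trans_symm,
        LinearEquiv.refl_toLinearMap, LinearMap.toMatrix'_id]
  · apply Matrix.toLin'.injective
    apply LinearMap.ext
    intro x
    obtain ⟨a, rfl⟩ := Φ.surjective x
    have hΦa : ∀ b, Φ b = pol n Y b *ᵥ v := fun b => rfl
    have hΦ'a : ∀ b, Φ' b = pol n Y' b *ᵥ v' := fun b => rfl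
    have hψa : ∀ b, ψ (Φ b) = Φ' b := by
      intro b
      rw [hψ, LinearEquiv.trans_apply, LinearEquiv.symm_apply_apply]
    rw [Matrix.toLin'_mul, Matrix.toLin'_mul, LinearMap.comp_apply, LinearMap.comp_apply,
      Matrix.toLin'_toMatrix', Matrix.toLin'_apply, Matrix.toLin'_apply, LinearEquiv.coe_coe, hψa,
      hΦa, Matrix.mulVec_mulVec, mul_pol Y hnil, ← hΦa, hψa, hΦ'a, hΦ'a, Matrix.mulVec_mulVec,
      mul_pol Y' hnil']

end Cfsg.Agent.Lib.Helper15.RegNil
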