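import Mathlib

/-! Helper15 library: the twisted involution `X ↦ -X`, coefficients conjugated, on `K[X]`, and
surjectivity of its norm map modulo `X ^ n`. -/

set_option autoImplicit false

namespace Cfsg.Agent.Lib.Helper15.SkewPoly

open Polynomial

variable {K : Type*} [Field K] [StarRing K]

/-- the involution of `K[X]`: conjugate coefficients, `X ↦ -X` -/
noncomputable def sig : K[X] →+* K[X] :=
  Polynomial.eval₂RingHom ((C : K →+* K[X]).comp (starRingEnd K)) (-X)

lemma sig_C (c : K) : sig (C c) = C (star c) := by
  unfold sig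
  rw [Polynomial.coe_eval₂RingHom, Polynomial.eval₂_C]
  rfl

lemma sig_X : sig (X : K[X]) = -X := by
  unfold sig
  rw [Polynomial.coe_eval₂RingHom, Polynomial.eval₂_X]

lemma sig_sig (p : K[X]) : sig (sig p) = p := by
  have h : (sig (K := K)).comp sig = RingHom.id _ := by
    apply Polynomial.ringHom_ext
    · intro a
      rw [RingHom.comp_apply, sig_C, sig_C, star_star, RingHom.id_apply]
    · rw [RingHom.comp_apply, sig_X, map_neg, sig_X, neg_neg, RingHom.id_apply]
  have := congrArg (fun f => f p) h
  simpa using this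

lemma sig_coeff_zero (p : K[X]) : (sig p).coeff 0 = star (p.coeff 0) := by
  have h : (Polynomial.constantCoeff (R := K)).comp sig =
      (starRingEnd K).comp Polynomial.constantCoeff := by
    apply Polynomial.ringHom_ext
    · intro a
      rw [RingHom.comp_apply, sig_C, RingHom.comp_apply, Polynomial.constantCoeff_apply,
        Polynomial.constantCoeff_apply, Polynomial.coeff_C_zero, Polynomial.coeff_C_zero]
      rfl
    · rw [RingHom.comp_apply, sig_X, RingHom.comp_apply]
      simp
  have := congrArg (fun f => f p) h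
  simp only [RingHom.comp_apply, Polynomial.constantCoeff_apply] at this
  exact this

lemma sig_X_pow (j : ℕ) : sig ((X : K[X]) ^ j) = C ((-1) ^ j) * X ^ j := by
  rw [map_pow, sig_X, neg_pow, map_pow, map_neg, map_one]

lemma sig_monomial (k : ℕ) (c : K) : sig (monomial k c) = monomial k ((-1) ^ k * star c) := by
  rw [← Polynomial.C_mul_X_pow_eq_monomial, map_mul, sig_C, sig_X_pow,
    ← Polynomial.C_mul_X_pow_eq_monomial, map_mul]
  ring

/-- norm surjectivity modulo `X ^ (j + 1)` -/
theorem exists_norm (hT : ∃ d : K, d + star d ≠ 0)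
    (hN : ∀ x : K, star x = x → x ≠ 0 → ∃ r : K, star r * r = x)
    (e : K[X]) (he : sig e = e) (h0 : e.coeff 0 ≠ 0) (j : ℕ) :
    ∃ p : K[X], X ^ (j + 1) ∣ sig p * p - e := by
  have he0 : star (e.coeff 0) = e.coeff 0 := by
    rw [← sig_coeff_zero, he]
  induction j with
  | zero =>
    obtain ⟨r, hr⟩ := hN _ he0 h0
    refine ⟨C r, ?_⟩
    rw [zero_add, pow_one, Polynomial.X_dvd_iff, sig_C, ← map_mul, hr]
    simp
  | succ j ih =>
    obtain ⟨p, D', hD⟩ := ih
    obtain ⟨d, hd⟩ := hT
    -- symmetry of D'
    have hsD : sig (sig p * p - e) = sig p * p - e := by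
      rw [map_sub, map_mul, sig_sig, he, mul_comm]
    have hD'sym : D' = C ((-1) ^ (j + 1)) * sig D' := by
      rw [hD, map_mul, sig_X_pow] at hsD
      have hX : (X : K[X]) ^ (j + 1) ≠ 0 := pow_ne_zero _ Polynomial.X_ne_zero
      apply mul_left_cancel₀ hX
      rw [← hsD]
      ring
    set z := D'.coeff 0 with hz
    have hzsym : z = (-1) ^ (j + 1) * star z := by
      have := congrArg (fun f => Polynomial.coeff f 0) hD'sym
      simp only [Polynomial.mul_coeff_zero, Polynomial.coeff_C_zero, sig_coeff_zero] at this
      exact this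
    have hA0 : (sig p * p).coeff 0 = e.coeff 0 := by
      have h1 : sig p * p = e + X ^ (j + 1) * D' := by rw [← hD]; ring
      rw [h1, Polynomial.coeff_add, Polynomial.mul_coeff_zero, Polynomial.coeff_X_pow]
      simp
    set e0 := e.coeff 0 with he0'
    set t := d + star d with ht
    have hst : star t = t := by rw [ht, star_add, star_star, add_comm]
    set w := -z / e0 with hw
    have hwsym : (-1) ^ (j + 1) * star w = w := by
      rw [hw, star_div₀, star_neg, he0]
      rw [mul_div_assoc', mul_neg, ← hzsym]
    set c := w * d / t with hc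
    set c' := (-1) ^ (j + 1) * star c with hc'
    have hcc : c + c' = w := by
      have h1 : star c = star w * star d / t := by rw [hc, star_div₀, star_mul', hst]
      rw [hc', h1, hc,
        show (-1) ^ (j + 1) * (star w * star d / t) = ((-1) ^ (j + 1) * star w) * star d / t by ring,
        hwsym, ← add_div, ← mul_add, ← ht, mul_div_assoc, div_self hd, mul_one]
    refine ⟨p * (1 + C c * X ^ (j + 1)), ?_⟩
    have hsp : sig (p * (1 + C c * X ^ (j + 1))) = sig p * (1 + C c' * X ^ (j + 1)) := by
      rw [map_mul, map_add, map_one, map_mul, sig_C, sig_X_pow, ← mul_assoc, ← map_mul, hc',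
        mul_comm (star c)]
    have key : sig (p * (1 + C c * X ^ (j + 1))) * (p * (1 + C c * X ^ (j + 1))) - e =
        X ^ (j + 1) * (D' + sig p * p * (C (c + c') + C (c' * c) * X ^ (j + 1))) := by
      have hC1 : (C (c + c') : K[X]) = C c + C c' := map_add _ _ _
      have hC2 : (C (c' * c) : K[X]) = C c' * C c := map_mul _ _ _
      rw [hsp, hC1, hC2]
      linear_combination (1 : K[X]) * hD
    rw [key, pow_succ (X : K[X]) (j + 1)]
    apply mul_dvd_mul_left
    rw [Polynomial.X_dvd_iff, Polynomial.coeff_add, Polynomial.mul_coeff_zero, hA0,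
      Polynomial.coeff_add, Polynomial.mul_coeff_zero, Polynomial.coeff_X_pow,
      Polynomial.coeff_C_zero, Polynomial.coeff_C_zero, hcc, ← hz]
    rw [if_neg (by omega), mul_zero, add_zero, hw, mul_div_assoc', mul_comm, mul_div_assoc,
      div_self h0, mul_one, add_neg_cancel]

end Cfsg.Agent.Lib.Helper15.SkewPoly
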