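import Mathlib
import Cfsg.Agent.Lib.Helper15.RegConj
import Cfsg.Agent.Lib.Helper15.SkewPoly
import Cfsg.Agent.Lib.Helper15.HermClass
import Cfsg.Agent.S2578

/-! Helper15 library: skew-Hermitian regular nilpotent matrices, their unitary centralizer and the
generalized Cayley transform; the standard regular unipotent unitary matrix. -/

set_option autoImplicit false
set_option linter.unusedSectionVars false

namespace Cfsg.Agent.Lib.Helper15.SkewNil

open Matrix Polynomial Cfsg.Agent.Lib.Helper15.SkewPoly Cfsg.Agent.Lib.Helper15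

section bridge

variable {K : Type*} [Field K] [StarRing K] {n : ℕ}

/-- polynomial with given coefficient vector -/
noncomputable def toPoly (a : Fin n → K) : K[X] := ∑ k : Fin n, monomial (k : ℕ) (a k)

/-- twisted conjugate of a coefficient vector -/
def bar (a : Fin n → K) : Fin n → K := fun k => (-1) ^ (k : ℕ) * star (a k)

lemma aeval_toPoly (Y : Matrix (Fin n) (Fin n) K) (a : Fin n → K) :
    aeval Y (toPoly a) = RegNil.pol n Y a := by
  unfold toPoly RegNil.pol
  rw [map_sum]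
  apply Finset.sum_congr rfl
  intro k _
  rw [Polynomial.aeval_monomial, Algebra.smul_def]

lemma sig_toPoly (a : Fin n → K) : sig (toPoly a) = toPoly (bar a) := by
  unfold toPoly
  rw [map_sum]
  apply Finset.sum_congr rfl
  intro k _
  rw [sig_monomial]
  rfl

lemma toPoly_coeff_zero (hn : 0 < n) (a : Fin n → K) : (toPoly a).coeff 0 = a ⟨0, hn⟩ := by
  unfold toPoly
  rw [Polynomial.finsetSum_coeff, Finset.sum_eq_single ⟨0, hn⟩]
  · rw [Polynomial.coeff_monomial, if_pos rfl]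
  · intro k _ hk
    rw [Polynomial.coeff_monomial, if_neg]
    intro h
    exact hk (Fin.ext h)
  · intro h
    exact absurd (Finset.mem_univ _) h

lemma conj_aeval (Y : Matrix (Fin n) (Fin n) K) (hY : Yᴴ = -Y) (p : K[X]) :
    (aeval Y p)ᴴ = aeval Y (sig p) := by
  induction p using Polynomial.induction_on' with
  | add p q hp hq => rw [map_add, conjTranspose_add, hp, hq, map_add, map_add]
  | monomial k c =>
    rw [sig_monomial, Polynomial.aeval_monomial, Polynomial.aeval_monomial,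
      Algebra.algebraMap_eq_smul_one, Algebra.algebraMap_eq_smul_one, Matrix.smul_mul,
      Matrix.smul_mul, Matrix.one_mul, conjTranspose_smul, conjTranspose_pow, hY,
      ← neg_one_smul K Y, _root_.smul_pow, smul_smul, mul_comm]

lemma aeval_comm (Y : Matrix (Fin n) (Fin n) K) (p : K[X]) : aeval Y p * Y = Y * aeval Y p := by
  have h1 : aeval Y (p * X) = aeval Y (X * p) := by rw [mul_comm]
  rwa [map_mul, map_mul, aeval_X] at h1

lemma aeval_mulVec_ker (Y : Matrix (Fin n) (Fin n) K) (w : Fin n → K) (hw : Y *ᵥ w = 0)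
    (p : K[X]) : aeval Y p *ᵥ w = p.coeff 0 • w := by
  conv_lhs => rw [← Polynomial.divX_mul_X_add p]
  rw [map_add, map_mul, aeval_X, aeval_C, Matrix.add_mulVec, ← Matrix.mulVec_mulVec, hw,
    Matrix.mulVec_zero, zero_add, Algebra.algebraMap_eq_smul_one, Matrix.smul_mulVec,
    Matrix.one_mulVec]

omit [StarRing K] in
lemma det_smul_one_add_nilpotent (f : K) (N : Matrix (Fin n) (Fin n) K) (hN : IsNilpotent N) :
    (f • (1 : Matrix (Fin n) (Fin n) K) + N).det = f ^ n := by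
  have hM : IsNilpotent (-N) := hN.neg
  have h1 : (-N).charpoly = X ^ n := by
    have h2 := Matrix.isNilpotent_charpoly_sub_pow_of_isNilpotent hM
    rw [Fintype.card_fin] at h2
    exact sub_eq_zero.1 h2.eq_zero
  have h3 := Matrix.eval_charpoly (-N) f
  rw [h1, eval_pow, eval_X, sub_neg_eq_add] at h3
  rw [h3]
  congr 2
  rw [Matrix.smul_one_eq_diagonal]
  rfl

theorem exists_norm_mat (hT : ∃ d : K, d + star d ≠ 0)
    (hN : ∀ x : K, star x = x → x ≠ 0 → ∃ r : K, star r * r = x) (hn : 0 < n)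
    (Y : Matrix (Fin n) (Fin n) K) (hY : Yᴴ = -Y) (hnil : Y ^ n = 0) (v : Fin n → K)
    (hv : Y ^ (n - 1) *ᵥ v ≠ 0) (a : Matrix (Fin n) (Fin n) K) (ha : a * Y = Y * a)
    (hah : aᴴ = a) (hau : IsUnit a) :
    ∃ p : Matrix (Fin n) (Fin n) K, p * Y = Y * p ∧ pᴴ * p = a := by
  have : Nonempty (Fin n) := ⟨⟨0, hn⟩⟩
  obtain ⟨e, he⟩ := RegNil.eq_pol_of_comm (Fintype.card_fin n) Y hnil v hv a ha
  have hsym : bar e = e := by
    apply RegNil.pol_injective Y hnil v hv
    rw [← aeval_toPoly, ← sig_toPoly, ← conj_aeval Y hY, aeval_toPoly, ← he, hah]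
  have he0 : e ⟨0, hn⟩ ≠ 0 := by
    intro h0
    have h1 := RegNil.pol_isNilpotent hn Y hnil e h0
    rw [← he] at h1
    exact hau.not_isNilpotent h1
  obtain ⟨p, hp⟩ := exists_norm hT hN (toPoly e) (by rw [sig_toPoly, hsym])
    (by rwa [toPoly_coeff_zero hn]) (n - 1)
  refine ⟨aeval Y p, aeval_comm Y p, ?_⟩
  rw [conj_aeval Y hY, ← map_mul]
  have h2 : aeval Y (sig p * p - toPoly e) = 0 := by
    obtain ⟨r, hr⟩ := hp
    rw [hr, map_mul, map_pow, aeval_X, Nat.sub_add_cancel hn, hnil, zero_mul]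
  rw [map_sub, sub_eq_zero, aeval_toPoly, ← he] at h2
  exact h2

theorem unitary_comm (hn : 0 < n)
    (Y : Matrix (Fin n) (Fin n) K) (hY : Yᴴ = -Y) (hnil : Y ^ n = 0) (v : Fin n → K)
    (hv : Y ^ (n - 1) *ᵥ v ≠ 0) (c : Matrix (Fin n) (Fin n) K) (hc : c * Y = Y * c)
    (hcu : cᴴ * c = 1) : ∃ f : K, star f * f = 1 ∧ c.det = f ^ n := by
  obtain ⟨e, he⟩ := RegNil.eq_pol_of_comm (Fintype.card_fin n) Y hnil v hv c hc
  obtain ⟨p, hp⟩ : ∃ p, p = toPoly e := ⟨_, rfl⟩
  have hcp : c = aeval Y p := by rw [hp, aeval_toPoly]; exact he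
  obtain ⟨w, hw⟩ : ∃ w, w = Y ^ (n - 1) *ᵥ v := ⟨_, rfl⟩
  have hYw : Y *ᵥ w = 0 := by
    rw [hw, Matrix.mulVec_mulVec, ← pow_succ', Nat.sub_add_cancel hn, hnil, Matrix.zero_mulVec]
  refine ⟨p.coeff 0, ?_, ?_⟩
  · have h1 : cᴴ *ᵥ (c *ᵥ w) = w := by rw [Matrix.mulVec_mulVec, hcu, Matrix.one_mulVec]
    rw [hcp, conj_aeval Y hY, aeval_mulVec_ker Y w hYw, Matrix.mulVec_smul,
      aeval_mulVec_ker Y w hYw, sig_coeff_zero, smul_smul] at h1
    by_contra hne
    apply hv
    have h2 : (p.coeff 0 * star (p.coeff 0) - 1) • w = 0 := by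
      rw [sub_smul, h1, one_smul, sub_self]
    rcases smul_eq_zero.1 h2 with h | h
    · exact absurd (by rw [mul_comm]; exact sub_eq_zero.1 h) hne
    · rw [← hw]; exact h
  · have h3 : c = p.coeff 0 • (1 : Matrix (Fin n) (Fin n) K) + Y * aeval Y p.divX := by
      rw [hcp]
      conv_lhs => rw [← Polynomial.divX_mul_X_add p]
      rw [map_add, map_mul, aeval_X, aeval_C, Algebra.algebraMap_eq_smul_one, aeval_comm, add_comm]
    rw [h3]
    apply det_smul_one_add_nilpotent
    exact Commute.isNilpotent_mul_right (aeval_comm Y _).symm ⟨n, hnil⟩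

end bridge

section cayley

variable {K : Type*} [Field K] [StarRing K] {n : ℕ}

/-- generalized Cayley transform of a skew-Hermitian nilpotent matrix (any characteristic) -/
theorem exists_gcay (hT : ∃ d : K, d + star d ≠ 0) (Y : Matrix (Fin n) (Fin n) K)
    (hY : Yᴴ = -Y) (hnil : IsNilpotent Y) :
    ∃ u : Matrix (Fin n) (Fin n) K, uᴴ * u = 1 ∧
      (∃ W : Matrix (Fin n) (Fin n) K, IsUnit W ∧ W * Y = Y * W ∧ u - 1 = Y * W) ∧
      (∀ c : Matrix (Fin n) (Fin n) K, c * u = u * c ↔ c * Y = Y * c) := by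
  obtain ⟨d, hd⟩ := hT
  obtain ⟨t, ht⟩ : ∃ t, t = d + star d := ⟨_, rfl⟩
  rw [← ht] at hd
  have hBu : IsUnit (1 - star d • Y) := (hnil.smul (star d)).isUnit_one_sub
  obtain ⟨b, hb⟩ := hBu
  have hsb : ((star b : (Matrix (Fin n) (Fin n) K)ˣ) : Matrix (Fin n) (Fin n) K) = 1 + d • Y := by
    rw [Units.coe_star, hb, Matrix.star_eq_conjTranspose, conjTranspose_sub, conjTranspose_one,
      conjTranspose_smul, star_star, hY, smul_neg, sub_neg_eq_add]
  have hYY : Commute Y Y := Commute.refl Y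
  have hcomm : Commute b (star b) := by
    apply Units.ext
    rw [Units.val_mul, Units.val_mul, hsb, hb]
    have h1 : Commute (star d • Y) (d • Y) := (hYY.smul_left _).smul_right _
    have h2 : Commute (star d • Y) (1 + d • Y) := (Commute.one_right _).add_right h1
    exact ((Commute.one_left _).sub_left h2).eq
  have hYb : Commute Y (b : Matrix (Fin n) (Fin n) K) := by
    rw [hb]
    exact (Commute.one_right _).sub_right (hYY.smul_right _)
  have hYbi : Commute Y ((b⁻¹ : (Matrix (Fin n) (Fin n) K)ˣ) : Matrix (Fin n) (Fin n) K) :=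
    hYb.units_inv_right
  obtain ⟨u, hu⟩ : ∃ u : Matrix (Fin n) (Fin n) K,
      u = ((star b * b⁻¹ : (Matrix (Fin n) (Fin n) K)ˣ) : Matrix (Fin n) (Fin n) K) := ⟨_, rfl⟩
  have hu' : u = (1 + d • Y) * ((b⁻¹ : (Matrix (Fin n) (Fin n) K)ˣ) : Matrix (Fin n) (Fin n) K) := by
    rw [hu, Units.val_mul, hsb]
  have hub : u * (1 - star d • Y) = 1 + d • Y := by
    rw [hu', ← hb, Matrix.mul_assoc, Units.inv_mul, Matrix.mul_one]
  have hone : u - 1 = (t • Y) * ((b⁻¹ : (Matrix (Fin n) (Fin n) K)ˣ) : Matrix (Fin n) (Fin n) K) := by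
    have h1 : (1 : Matrix (Fin n) (Fin n) K) =
        (1 - star d • Y) * ((b⁻¹ : (Matrix (Fin n) (Fin n) K)ˣ) : Matrix (Fin n) (Fin n) K) := by
      rw [← hb, Units.mul_inv]
    rw [hu']
    nth_rewrite 2 [h1]
    rw [← Matrix.sub_mul]
    congr 1
    rw [ht, add_smul]
    abel
  have hnilu : IsNilpotent (u - 1) := by
    rw [hone]
    exact Commute.isNilpotent_mul_right (hYbi.smul_left t) (hnil.smul t)
  refine ⟨u, ?_, ⟨t • ((b⁻¹ : (Matrix (Fin n) (Fin n) K)ˣ) : Matrix (Fin n) (Fin n) K), ?_, ?_, ?_⟩, ?_⟩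
  · rw [← Matrix.star_eq_conjTranspose, hu, ← Units.coe_star, ← Units.val_mul, ← Units.val_one]
    congr 1
    rw [star_mul, star_star, star_inv]
    have h1 : b * star b * b⁻¹ = star b := by
      rw [hcomm.eq, mul_assoc, mul_inv_cancel, mul_one]
    rw [mul_assoc, ← mul_assoc b, h1, inv_mul_cancel]
  · rw [Algebra.smul_def]
    exact ((IsUnit.mk0 t hd).map (algebraMap K (Matrix (Fin n) (Fin n) K))).mul (b⁻¹).isUnit
  · rw [Matrix.smul_mul, Matrix.mul_smul, hYbi.eq]
  · rw [hone, Matrix.smul_mul, Matrix.mul_smul]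
  · intro c
    constructor
    · intro hc
      have hcu : Commute c u := hc
      obtain ⟨E, hE⟩ : ∃ E : Matrix (Fin n) (Fin n) K, E = d • 1 + star d • u := ⟨_, rfl⟩
      have hEY : u - 1 = E * Y := by
        rw [hE, Matrix.add_mul, Matrix.smul_mul, Matrix.smul_mul, Matrix.one_mul]
        rw [Matrix.mul_sub, Matrix.mul_one, Matrix.mul_smul] at hub
        have : u = 1 + d • Y + star d • (u * Y) := by rw [← hub, sub_add_cancel]
        nth_rewrite 1 [this]
        abel
      have hE' : E = t • 1 + star d • (u - 1) := by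
        rw [hE, ht, add_smul, smul_sub]
        abel
      have hEu : IsUnit E := by
        rw [hE']
        apply IsNilpotent.isUnit_add_left_of_commute (hnilu.smul (star d))
        · rw [← Algebra.algebraMap_eq_smul_one]
          exact (IsUnit.mk0 t hd).map (algebraMap K (Matrix (Fin n) (Fin n) K))
        · exact Commute.smul_right (Commute.one_right _) _
      obtain ⟨ε, hε⟩ := hEu
      have hcE : Commute c (ε : Matrix (Fin n) (Fin n) K) := by
        rw [hε, hE]
        exact ((Commute.one_right c).smul_right d).add_right (hcu.smul_right _)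
      have hYe : Y = ((ε⁻¹ : (Matrix (Fin n) (Fin n) K)ˣ) : Matrix (Fin n) (Fin n) K) * (u - 1) := by
        rw [hEY, ← hε, ← Matrix.mul_assoc, Units.inv_mul, Matrix.one_mul]
      have : Commute c Y := by
        rw [hYe]
        exact hcE.units_inv_right.mul_right (hcu.sub_right (Commute.one_right c))
      exact this.eq
    · intro hc
      have hcY : Commute c Y := hc
      have hcb : Commute c (b : Matrix (Fin n) (Fin n) K) := by
        rw [hb]
        exact (Commute.one_right c).sub_right (hcY.smul_right _)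
      have : Commute c u := by
        rw [hu']
        exact ((Commute.one_right c).add_right (hcY.smul_right _)).mul_right hcb.units_inv_right
      exact this.eq

end cayley

section skew

variable {K : Type*} [Field K] [StarRing K] {n : ℕ}

/-- anti-diagonal matrix with alternating signs -/
def antiA (n : ℕ) (K : Type*) [Field K] : Matrix (Fin n) (Fin n) K :=
  Matrix.of fun i j => if (i : ℕ) + (j : ℕ) + 1 = n then (-1) ^ (i : ℕ) else 0

omit [StarRing K] in
lemma antiA_mul_self : antiA n K * antiA n K = ((-1 : K) ^ (n - 1)) • (1 : Matrix (Fin n) (Fin n) K) := by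
  ext i k
  rw [Matrix.mul_apply, Matrix.smul_apply, Matrix.one_apply, smul_eq_mul]
  have hi := i.2
  rw [Finset.sum_eq_single (⟨n - 1 - i, by omega⟩ : Fin n)]
  · unfold antiA
    simp only [Matrix.of_apply]
    rw [if_pos (by omega)]
    by_cases hik : i = k
    · subst hik
      rw [if_pos (by omega), if_pos rfl, mul_one, ← pow_add]
      congr 1
      omega
    · rw [if_neg hik, mul_zero, if_neg, mul_zero]
      intro h
      apply hik
      apply Fin.ext
      omega
  · intro j _ hj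
    unfold antiA
    simp only [Matrix.of_apply]
    rw [if_neg, zero_mul]
    intro h
    apply hj
    apply Fin.ext
    simp only
    omega
  · intro h
    exact absurd (Finset.mem_univ _) h

lemma antiA_conjTranspose :
    (antiA n K)ᴴ = ((-1 : K) ^ (n - 1)) • antiA n K := by
  ext i j
  rw [Matrix.conjTranspose_apply, Matrix.smul_apply, smul_eq_mul]
  unfold antiA
  simp only [Matrix.of_apply]
  by_cases h : (i : ℕ) + (j : ℕ) + 1 = n
  · rw [if_pos (by omega), if_pos h, star_pow, star_neg, star_one, ← pow_add]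
    have h1 : n - 1 + (i : ℕ) = (j : ℕ) + 2 * (i : ℕ) := by omega
    rw [h1, pow_add, pow_mul, neg_one_sq, one_pow, mul_one]
  · rw [if_neg (by omega), if_neg h, star_zero, mul_zero]

lemma conjTranspose_shift_mul (c : Matrix (Fin n) (Fin n) K) (r s : Fin n) :
    ((Cfsg.Agent.S2578.shift n K)ᴴ * c) r s =
      if h : (r : ℕ) + 1 < n then c ⟨r + 1, h⟩ s else 0 := by
  rw [Matrix.mul_apply]
  split_ifs with h
  · rw [Finset.sum_eq_single ⟨r + 1, h⟩]
    · simp [Cfsg.Agent.S2578.shift]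
    · intro k _ hk
      have : (k : ℕ) ≠ r + 1 := fun e => hk (Fin.ext e)
      simp [Cfsg.Agent.S2578.shift, this]
    · intro h'
      exact absurd (Finset.mem_univ _) h'
  · apply Finset.sum_eq_zero
    intro k _
    have : (k : ℕ) ≠ r + 1 := by have := k.2; omega
    simp [Cfsg.Agent.S2578.shift, this]

lemma shift_skew :
    (Cfsg.Agent.S2578.shift n K)ᴴ * antiA n K + antiA n K * Cfsg.Agent.S2578.shift n K = 0 := by
  ext r s
  rw [Matrix.add_apply, conjTranspose_shift_mul, Cfsg.Agent.S2578.mul_shift, Matrix.zero_apply]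
  unfold antiA
  simp only [Matrix.of_apply]
  have hr := r.2
  have hs := s.2
  by_cases h : (r : ℕ) + (s : ℕ) + 2 = n
  · rw [dif_pos (by omega), dif_pos (by omega), if_pos (by omega),
      if_pos (by omega)]
    rw [pow_succ]
    ring
  · have h1 : (if h : (r : ℕ) + 1 < n then
        (if ((⟨r + 1, h⟩ : Fin n) : ℕ) + (s : ℕ) + 1 = n then ((-1 : K)) ^ ((⟨r + 1, h⟩ : Fin n) : ℕ) else 0)
        else 0) = 0 := by
      split_ifs with h2 h3
      · exfalso; simp only at h3; omega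
      · rfl
      · rfl
    have h2 : (if h : (s : ℕ) + 1 < n then
        (if (r : ℕ) + ((⟨s + 1, h⟩ : Fin n) : ℕ) + 1 = n then ((-1 : K)) ^ (r : ℕ) else 0)
        else 0) = 0 := by
      split_ifs with h2 h3
      · exfalso; simp only at h3; omega
      · rfl
      · rfl
    rw [h1, h2, add_zero]

theorem exists_skew_regular (hT : ∃ d : K, d + star d ≠ 0)
    (hN : ∀ x : K, star x = x → x ≠ 0 → ∃ r : K, star r * r = x)
    (hS : ∃ τ : K, τ ≠ 0 ∧ star τ = -τ) (hn : 1 ≤ n) :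
    ∃ Y : Matrix (Fin n) (Fin n) K, Yᴴ = -Y ∧ Y ^ n = 0 ∧ Y.rank = n - 1 := by
  obtain ⟨g0, hg0, hg0s⟩ : ∃ g0 : K, g0 ≠ 0 ∧ star g0 = (-1) ^ (n - 1) * g0 := by
    rcases Nat.even_or_odd n with he | ho
    · obtain ⟨τ, hτ, hτs⟩ := hS
      refine ⟨τ, hτ, ?_⟩
      have : Odd (n - 1) := by
        obtain ⟨k, hk⟩ := he
        exact ⟨k - 1, by omega⟩
      rw [this.neg_one_pow, hτs, neg_one_mul]
    · refine ⟨1, one_ne_zero, ?_⟩
      have : Even (n - 1) := by
        obtain ⟨k, hk⟩ := ho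
        exact ⟨k, by omega⟩
      rw [this.neg_one_pow, star_one, one_mul]
  have hsq : ((-1 : K) ^ (n - 1)) * ((-1 : K) ^ (n - 1)) = 1 := by
    rw [← mul_pow, neg_mul_neg, one_mul, one_pow]
  obtain ⟨G, hGdef⟩ : ∃ G : Matrix (Fin n) (Fin n) K, G = g0 • antiA n K := ⟨_, rfl⟩
  have hG : Gᴴ = G := by
    rw [hGdef, conjTranspose_smul, antiA_conjTranspose, smul_smul, hg0s, mul_assoc, mul_comm g0,
      ← mul_assoc, hsq, one_mul]
  have hGu : IsUnit G := by
    rw [Matrix.isUnit_iff_isUnit_det]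
    apply Matrix.isUnit_det_of_right_inverse (B := (g0⁻¹ * (-1) ^ (n - 1)) • antiA n K)
    have h1 : g0 * (g0⁻¹ * (-1) ^ (n - 1)) * (-1) ^ (n - 1) = 1 := by
      rw [← mul_assoc, mul_inv_cancel₀ hg0, one_mul, hsq]
    rw [hGdef, Matrix.smul_mul, Matrix.mul_smul, antiA_mul_self, smul_smul, smul_smul, h1,
      one_smul]
  obtain ⟨P, hP⟩ := HermClass.exists_isometry hT hN G hG hGu
  obtain ⟨Q, hQ⟩ : ∃ Q : Matrix (Fin n) (Fin n) K, Q = Pᴴ * G := ⟨_, rfl⟩
  have hQP : Q * P = 1 := by rw [hQ]; exact hP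
  have hPQ : P * Q = 1 := mul_eq_one_comm.1 hQP
  obtain ⟨S, hS'⟩ : ∃ S : Matrix (Fin n) (Fin n) K, S = Cfsg.Agent.S2578.shift n K := ⟨_, rfl⟩
  have hSG : Sᴴ * G = -(G * S) := by
    rw [hGdef, hS', Matrix.mul_smul, Matrix.smul_mul, ← smul_neg]
    congr 1
    exact eq_neg_of_add_eq_zero_left shift_skew
  refine ⟨Q * S * P, ?_, ?_, ?_⟩
  · rw [conjTranspose_mul, conjTranspose_mul, hQ, conjTranspose_mul, conjTranspose_conjTranspose,
      hG, ← Matrix.mul_assoc, Matrix.mul_assoc Pᴴ, ← Matrix.mul_assoc Sᴴ, hSG]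
    simp only [Matrix.mul_neg, Matrix.neg_mul, Matrix.mul_assoc]
  · have hpow : ∀ k : ℕ, (Q * S * P) ^ k = Q * S ^ k * P := by
      intro k
      induction k with
      | zero => rw [pow_zero, pow_zero, Matrix.mul_one, hQP]
      | succ k ih =>
        rw [pow_succ, ih, pow_succ]
        calc Q * S ^ k * P * (Q * S * P) = Q * S ^ k * (P * Q) * S * P := by
              simp only [Matrix.mul_assoc]
          _ = Q * (S ^ k * S) * P := by rw [hPQ, Matrix.mul_one, Matrix.mul_assoc Q]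
    rw [hpow, hS', Cfsg.Agent.S2578.shift_pow_n, Matrix.mul_zero, Matrix.zero_mul]
  · rw [Matrix.rank_mul_eq_left_of_isUnit_det _ _ (Matrix.isUnit_det_of_left_inverse hQP),
      Matrix.rank_mul_eq_right_of_isUnit_det _ _ (Matrix.isUnit_det_of_right_inverse hQP), hS',
      Cfsg.Agent.S2578.shift_rank hn]

end skew

section main

variable {K : Type*} [Field K] [StarRing K] {n : ℕ}

/-- the standard regular unipotent unitary matrix: all unitary regular unipotents are unitarily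
conjugate to it, and its unitary centralizer has determinants `f ^ n` with `f` of norm one -/
theorem exists_std (hT : ∃ d : K, d + star d ≠ 0)
    (hN : ∀ x : K, star x = x → x ≠ 0 → ∃ r : K, star r * r = x)
    (hS : ∃ τ : K, τ ≠ 0 ∧ star τ = -τ) (hn : 1 ≤ n) :
    ∃ u₀ : Matrix (Fin n) (Fin n) K, u₀ᴴ * u₀ = 1 ∧ (u₀ - 1) ^ n = 0 ∧ (u₀ - 1).rank = n - 1 ∧
      (∀ u : Matrix (Fin n) (Fin n) K, uᴴ * u = 1 → (u - 1) ^ n = 0 → (u - 1).rank = n - 1 →
        ∃ g : Matrix (Fin n) (Fin n) K, gᴴ * g = 1 ∧ g * u₀ = u * g) ∧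
      (∀ c : Matrix (Fin n) (Fin n) K, cᴴ * c = 1 → c * u₀ = u₀ * c →
        ∃ f₀ : K, star f₀ * f₀ = 1 ∧ c.det = f₀ ^ n) := by
  obtain ⟨Y, hY, hnil, hrk⟩ := exists_skew_regular hT hN hS hn
  obtain ⟨v, hv⟩ := RegNil.exists_cyclic (Fintype.card_fin n) hn Y hrk
  obtain ⟨u₀, hu₀, ⟨W, hWu, hWY, hW⟩, hcomm⟩ := exists_gcay hT Y hY ⟨n, hnil⟩
  have hnil₀ : (u₀ - 1) ^ n = 0 := by
    rw [hW, (show Commute Y W from hWY.symm).mul_pow, hnil, Matrix.zero_mul]
  have hrk₀ : (u₀ - 1).rank = n - 1 := by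
    rw [hW, Matrix.rank_mul_eq_left_of_isUnit_det _ _ ((Matrix.isUnit_iff_isUnit_det _).1 hWu), hrk]
  obtain ⟨v₀, hv₀⟩ := RegNil.exists_cyclic (Fintype.card_fin n) hn (u₀ - 1) hrk₀
  refine ⟨u₀, hu₀, hnil₀, hrk₀, ?_, ?_⟩
  · intro u hu hun hur
    obtain ⟨v₁, hv₁⟩ := RegNil.exists_cyclic (Fintype.card_fin n) hn (u - 1) hur
    obtain ⟨h, hhu, hh⟩ := RegNil.exists_conj (Fintype.card_fin n) (u₀ - 1) (u - 1) hnil₀ hun
      v₀ v₁ hv₀ hv₁
    have hh' : h * u₀ = u * h := by
      rw [Matrix.mul_sub, Matrix.sub_mul, Matrix.mul_one, Matrix.one_mul] at hh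
      exact sub_left_injective hh
    have hu₀' : u₀ * u₀ᴴ = 1 := mul_eq_one_comm.1 hu₀
    obtain ⟨a, ha⟩ : ∃ a, a = hᴴ * h := ⟨_, rfl⟩
    have hah : aᴴ = a := by rw [ha, conjTranspose_mul, conjTranspose_conjTranspose]
    have hau : IsUnit a := by
      rw [ha]
      refine IsUnit.mul ?_ hhu
      rw [← Matrix.star_eq_conjTranspose]
      exact hhu.star
    have h1 : u₀ᴴ * a * u₀ = a := by
      have h2 : hᴴ * uᴴ = u₀ᴴ * hᴴ := by
        rw [← conjTranspose_mul, ← conjTranspose_mul, hh']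
      calc u₀ᴴ * a * u₀ = (u₀ᴴ * hᴴ) * (h * u₀) := by rw [ha]; simp only [Matrix.mul_assoc]
        _ = hᴴ * uᴴ * (u * h) := by rw [← h2, hh']
        _ = hᴴ * (uᴴ * u) * h := by simp only [Matrix.mul_assoc]
        _ = a := by rw [hu, Matrix.mul_one, ha]
    have hau₀ : a * u₀ = u₀ * a := by
      calc a * u₀ = (u₀ * u₀ᴴ) * a * u₀ := by rw [hu₀', Matrix.one_mul]
        _ = u₀ * (u₀ᴴ * a * u₀) := by simp only [Matrix.mul_assoc]
        _ = u₀ * a := by rw [h1]
    have haY := (hcomm a).1 hau₀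
    obtain ⟨p, hpY, hpa⟩ := exists_norm_mat hT hN hn Y hY hnil v hv a haY hah hau
    have hpu := (hcomm p).2 hpY
    have hpdet : IsUnit p.det := by
      have h3 : IsUnit (pᴴ * p).det := by rw [hpa]; exact (Matrix.isUnit_iff_isUnit_det _).1 hau
      rw [Matrix.det_mul] at h3
      exact isUnit_of_mul_isUnit_right h3
    have hpp : p * p⁻¹ = 1 := Matrix.mul_nonsing_inv p hpdet
    have hpp' : p⁻¹ * p = 1 := Matrix.nonsing_inv_mul p hpdet
    refine ⟨h * p⁻¹, ?_, ?_⟩
    · rw [conjTranspose_mul, Matrix.mul_assoc, ← Matrix.mul_assoc hᴴ, ← ha, ← hpa,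
        Matrix.mul_assoc pᴴ, hpp, Matrix.mul_one, ← conjTranspose_mul, hpp, conjTranspose_one]
    · have h4 : p⁻¹ * u₀ = u₀ * p⁻¹ := by
        calc p⁻¹ * u₀ = p⁻¹ * u₀ * (p * p⁻¹) := by rw [hpp, Matrix.mul_one]
          _ = p⁻¹ * (u₀ * p) * p⁻¹ := by simp only [Matrix.mul_assoc]
          _ = p⁻¹ * (p * u₀) * p⁻¹ := by rw [hpu]
          _ = (p⁻¹ * p) * u₀ * p⁻¹ := by simp only [Matrix.mul_assoc]
          _ = u₀ * p⁻¹ := by rw [hpp', Matrix.one_mul]
      rw [Matrix.mul_assoc, h4, ← Matrix.mul_assoc, hh', Matrix.mul_assoc]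
  · intro c hcu hc
    exact unitary_comm hn Y hY hnil v hv c ((hcomm c).1 hc) hcu

end main

end Cfsg.Agent.Lib.Helper15.SkewNil
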