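import Mathlib
import Cfsg.Agent.S2643
import Cfsg.Agent.Lib.Helper15.HermClass
import Cfsg.Agent.Lib.Helper14.HermCount

/-! Helper15 library: hermitian forms on subspaces over `F_{q^2}`: orthogonal complements, orthonormal
bases of nondegenerate subspaces, level sets, fixed-point-free isometries. -/

set_option autoImplicit false
set_option linter.unusedSectionVars false

namespace Cfsg.Agent.Lib.Helper15.HermSub

open Module Cfsg.Agent.Lib.Helper14
open scoped Matrix

section basics

variable {F V : Type*} [Field F] [Fintype F] [AddCommGroup V] [Module F V] {q : ℕ}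

/-- a hermitian form for the automorphism `a ↦ a ^ q` -/
structure IsHerm (q : ℕ) (h : V → V → F) : Prop where
  add_left : ∀ x y v, h (x + y) v = h x v + h y v
  smul_left : ∀ (c : F) x v, h (c • x) v = c * h x v
  herm : ∀ v w, h v w = (h w v) ^ q

/-- nondegeneracy on a subspace -/
def NdOn (h : V → V → F) (U : Submodule F V) : Prop := ∀ u ∈ U, u ≠ 0 → ∃ v ∈ U, h u v ≠ 0

namespace IsHerm

variable {h : V → V → F} (hh : IsHerm q h) (hF : Fintype.card F = q ^ 2)
include hh

theorem zero_left (v : V) : h 0 v = 0 := by
  have := hh.smul_left 0 0 v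
  rwa [zero_smul, zero_mul] at this

theorem neg_left (x v : V) : h (-x) v = - h x v := by
  have := hh.smul_left (-1) x v
  rwa [neg_one_smul, neg_one_mul] at this

theorem sub_left (x y v : V) : h (x - y) v = h x v - h y v := by
  rw [sub_eq_add_neg, hh.add_left, hh.neg_left, sub_eq_add_neg]

/-- the linear functional `v ↦ h v w` -/
def toLin (w : V) : V →ₗ[F] F where
  toFun v := h v w
  map_add' x y := hh.add_left x y w
  map_smul' c x := hh.smul_left c x w

theorem toLin_apply (w v : V) : hh.toLin w v = h v w := rfl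

theorem sum_left {ι : Type*} (s : Finset ι) (f : ι → V) (w : V) :
    h (∑ i ∈ s, f i) w = ∑ i ∈ s, h (f i) w := by
  have := map_sum (hh.toLin w) f s
  exact this

include hF

theorem add_right (v x y : V) : h v (x + y) = h v x + h v y := by
  classical
  rw [hh.herm, hh.add_left, herm_add_pow hF, ← hh.herm, ← hh.herm]

theorem smul_right (c : F) (v x : V) : h v (c • x) = c ^ q * h v x := by
  rw [hh.herm, hh.smul_left, mul_pow, ← hh.herm]

theorem zero_right (v : V) : h v 0 = 0 := by
  classical
  have hq := herm_two_le hF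
  rw [hh.herm, hh.zero_left, zero_pow (by omega)]

theorem neg_right (v x : V) : h v (-x) = - h v x := by
  classical
  rw [hh.herm, hh.neg_left, herm_neg_pow hF, ← hh.herm]

theorem sub_right (v x y : V) : h v (x - y) = h v x - h v y := by
  rw [sub_eq_add_neg, hh.add_right hF, hh.neg_right hF, sub_eq_add_neg]

theorem sum_right {ι : Type*} (s : Finset ι) (f : ι → V) (v : V) :
    h v (∑ i ∈ s, f i) = ∑ i ∈ s, h v (f i) := by
  classical
  induction s using Finset.induction_on with
  | empty => rw [Finset.sum_empty, Finset.sum_empty, hh.zero_right hF]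
  | insert a s ha ih => rw [Finset.sum_insert ha, Finset.sum_insert ha, hh.add_right hF, ih]

theorem eq_zero_symm {v w : V} (h0 : h v w = 0) : h w v = 0 := by
  classical
  have hq := herm_two_le hF
  rw [hh.herm, h0, zero_pow (by omega)]

theorem pow_pow (a : F) : (a ^ q) ^ q = a := by
  classical
  rw [← pow_mul, ← sq, herm_pow_card hF]

end IsHerm

/-- the orthogonal complement -/
def perp {h : V → V → F} (hh : IsHerm q h) (U : Submodule F V) : Submodule F V where
  carrier := {v | ∀ u ∈ U, h v u = 0}
  add_mem' := by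
    intro a b ha hb u hu
    rw [hh.add_left, ha u hu, hb u hu, add_zero]
  zero_mem' := fun u _ => hh.zero_left u
  smul_mem' := by
    intro c a ha u hu
    rw [hh.smul_left, ha u hu, mul_zero]

theorem mem_perp {h : V → V → F} (hh : IsHerm q h) (U : Submodule F V) (v : V) :
    v ∈ perp hh U ↔ ∀ u ∈ U, h v u = 0 := Iff.rfl

section dim

variable [FiniteDimensional F V] {h : V → V → F} (hh : IsHerm q h) (hF : Fintype.card F = q ^ 2)
include hF

/-- vanishing against a basis of `U` -/
theorem mem_perp_of_basis {ι : Type*} [Fintype ι] (U : Submodule F V) (b : Basis ι F U) (v : V)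
    (hv : ∀ j, h v (b j) = 0) : v ∈ perp hh U := by
  intro u hu
  have h1 := b.sum_repr ⟨u, hu⟩
  have h2 : u = ∑ j, b.repr ⟨u, hu⟩ j • (b j : V) := by
    have := congrArg Subtype.val h1
    rw [Submodule.coe_sum] at this
    simp only [Submodule.coe_smul] at this
    exact this.symm
  rw [h2, hh.sum_right hF]
  apply Finset.sum_eq_zero
  intro j _
  rw [hh.smul_right hF, hv j, mul_zero]

/-- the dimension of the orthogonal complement inside a nondegenerate subspace -/
theorem finrank_inf_perp (W U : Submodule F V) (hW : NdOn h W) (hUW : U ≤ W) :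
    finrank F ↥(W ⊓ perp hh U) + finrank F U = finrank F W := by
  classical
  set ρ := finrank F U with hρ
  let b : Basis (Fin ρ) F U := Module.finBasis F U
  let Φ : W →ₗ[F] (Fin ρ → F) := LinearMap.pi (fun j => (hh.toLin (b j : V)).comp W.subtype)
  have hΦ : ∀ (w : W) j, Φ w j = h (w : V) (b j : V) := fun w j => rfl
  have hker : LinearMap.ker Φ = Submodule.comap W.subtype (perp hh U) := by
    ext w
    rw [LinearMap.mem_ker, Submodule.mem_comap]
    constructor
    · intro h0
      apply mem_perp_of_basis hh hF U b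
      intro j
      have := congrFun h0 j
      rw [hΦ] at this
      exact this
    · intro hw
      funext j
      rw [hΦ]
      exact hw _ (b j).2
  have hrange : LinearMap.range Φ = ⊤ := by
    by_contra hne
    obtain ⟨f, hf0, hf⟩ := Submodule.exists_le_ker_of_lt_top _ (lt_top_iff_ne_top.2 hne)
    apply hf0
    -- the coefficients of `f`
    have hfc : ∀ y : Fin ρ → F, f y = ∑ j, y j * f (Pi.single j 1) := by
      intro y
      conv_lhs => rw [← Finset.univ_sum_single y]
      rw [map_sum]
      apply Finset.sum_congr rfl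
      intro j _
      have : (Pi.single j (y j) : Fin ρ → F) = y j • Pi.single j 1 := by
        rw [← Pi.single_smul, smul_eq_mul, mul_one]
      rw [this, map_smul, smul_eq_mul]
    set z : V := ∑ j, (f (Pi.single j 1)) ^ q • (b j : V) with hz
    have hzU : z ∈ U := Submodule.sum_mem _ (fun j _ => Submodule.smul_mem _ _ (b j).2)
    have hz0 : ∀ w ∈ W, h w z = 0 := by
      intro w hw
      have h1 : f (Φ ⟨w, hw⟩) = 0 := hf ⟨⟨w, hw⟩, rfl⟩
      rw [hfc] at h1
      rw [hz, hh.sum_right hF, ← h1]
      apply Finset.sum_congr rfl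
      intro j _
      rw [hh.smul_right hF, hh.pow_pow hF, hΦ, mul_comm]
    have hz1 : z = 0 := by
      by_contra hzne
      obtain ⟨v, hv, hzv⟩ := hW z (hUW hzU) hzne
      exact hzv (hh.eq_zero_symm hF (hz0 v hv))
    have hc : ∀ j, f (Pi.single j 1) = 0 := by
      have h2 : (∑ j, (f (Pi.single j 1)) ^ q • b j : U) = 0 := by
        apply Subtype.ext
        rw [Submodule.coe_sum]
        simp only [Submodule.coe_smul]
        exact hz1
      have h3 := Fintype.linearIndependent_iff.1 b.linearIndependent _ h2
      intro j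
      have hq := herm_two_le hF
      exact pow_eq_zero_iff (by omega) |>.1 (h3 j)
    apply LinearMap.ext
    intro y
    rw [hfc, LinearMap.zero_apply]
    apply Finset.sum_eq_zero
    intro j _
    rw [hc j, mul_zero]
  have h1 := LinearMap.finrank_range_add_finrank_ker Φ
  rw [hrange, finrank_top, Module.finrank_fin_fun, hker] at h1
  have h2 : finrank F ↥(Submodule.comap W.subtype (perp hh U)) = finrank F ↥(W ⊓ perp hh U) := by
    have e := Submodule.comapSubtypeEquivOfLe (inf_le_left : W ⊓ perp hh U ≤ W)
    have h3 : Submodule.comap W.subtype (W ⊓ perp hh U) = Submodule.comap W.subtype (perp hh U) := by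
      ext w
      simp only [Submodule.mem_comap, Submodule.mem_inf, Submodule.subtype_apply]
      exact ⟨fun hx => hx.2, fun hx => ⟨w.2, hx⟩⟩
    rw [← h3]
    exact e.finrank_eq
  rw [h2] at h1
  omega

end dim

section orthonormal

variable [FiniteDimensional F V] {h : V → V → F} (hh : IsHerm q h) (hF : Fintype.card F = q ^ 2)
include hh hF

/-- a nondegenerate subspace is isometric to the standard hermitian space -/
theorem exists_orthonormal_equiv (C : Submodule F V) (hC : NdOn h C) :
    ∃ E : (Fin (finrank F C) → F) ≃ₗ[F] C, ∀ a b : Fin (finrank F C) → F,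
      h (E a : V) (E b : V) = Cfsg.hermForm (finrank F C) F q a b := by
  classical
  let _ : StarRing F := Cfsg.Agent.S2643.frobStar hF
  have hstar : ∀ a : F, star a = a ^ q := fun a => rfl
  set n := finrank F C with hn
  let β : Basis (Fin n) F C := Module.finBasis F C
  let G : Matrix (Fin n) (Fin n) F := Matrix.of (fun i j => h (β j : V) (β i : V))
  have hGij : ∀ i j, G i j = h (β j : V) (β i : V) := fun i j => rfl
  let hat : (Fin n → F) → V := fun y => ∑ j, y j • (β j : V)
  have hhatC : ∀ y, hat y ∈ C := fun y =>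
    Submodule.sum_mem _ (fun j _ => Submodule.smul_mem _ _ (β j).2)
  have hsq : ∀ x y : Fin n → F, HermClass.sq G x y = h (hat y) (hat x) := by
    intro x y
    unfold HermClass.sq
    show star x ⬝ᵥ (G *ᵥ y) = h (∑ j, y j • (β j : V)) (∑ i, x i • (β i : V))
    rw [hh.sum_right hF, dotProduct]
    apply Finset.sum_congr rfl
    intro i _
    rw [hh.smul_right hF, Pi.star_apply, hstar, Matrix.mulVec, dotProduct, hh.sum_left]
    congr 1
    apply Finset.sum_congr rfl
    intro j _
    rw [hh.smul_left, hGij, mul_comm]
  have hG : G.conjTranspose = G := by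
    ext i j
    rw [Matrix.conjTranspose_apply, hGij, hGij, hstar, ← hh.herm]
  have hhat0 : ∀ y, hat y = 0 → y = 0 := by
    intro y hy
    have h2 : (∑ j, y j • β j : C) = 0 := by
      apply Subtype.ext
      rw [Submodule.coe_sum]
      simp only [Submodule.coe_smul]
      exact hy
    funext j
    exact Fintype.linearIndependent_iff.1 β.linearIndependent _ h2 j
  have hdet : IsUnit G := by
    rw [Matrix.isUnit_iff_isUnit_det, isUnit_iff_ne_zero]
    intro h0
    obtain ⟨y, hy0, hy⟩ := Matrix.exists_mulVec_eq_zero_iff.2 h0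
    have h1 : hat y ∈ perp hh C := by
      apply mem_perp_of_basis hh hF C β
      intro i
      have := congrFun hy i
      rw [Matrix.mulVec, dotProduct, Pi.zero_apply] at this
      show h (∑ j, y j • (β j : V)) (β i : V) = 0
      rw [hh.sum_left, ← this]
      apply Finset.sum_congr rfl
      intro j _
      rw [hh.smul_left, hGij, mul_comm]
    have h2 : hat y ≠ 0 := fun h3 => hy0 (hhat0 y h3)
    obtain ⟨v, hv, hne⟩ := hC _ (hhatC y) h2
    exact hne (h1 v hv)
  obtain ⟨b, hb⟩ := HermClass.exists_orthonormal (Cfsg.Agent.S2643.frob_T hF)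
    (Cfsg.Agent.S2643.frob_N hF) G hG hdet n le_rfl
  -- the orthonormal vectors
  have horth : ∀ i j, h (hat (b j)) (hat (b i)) = if i = j then 1 else 0 := by
    intro i j
    rw [← hsq]
    exact hb i j
  let E₀ : (Fin n → F) →ₗ[F] C :=
    { toFun := fun a => ⟨∑ i, a i • hat (b i), Submodule.sum_mem _
        (fun i _ => Submodule.smul_mem _ _ (hhatC (b i)))⟩
      map_add' := by
        intro a a'
        apply Subtype.ext
        show ∑ i, (a + a') i • hat (b i) = ∑ i, a i • hat (b i) + ∑ i, a' i • hat (b i)
        rw [← Finset.sum_add_distrib]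
        apply Finset.sum_congr rfl
        intro i _
        rw [Pi.add_apply, add_smul]
      map_smul' := by
        intro c a
        apply Subtype.ext
        show ∑ i, (c • a) i • hat (b i) = c • ∑ i, a i • hat (b i)
        rw [Finset.smul_sum]
        apply Finset.sum_congr rfl
        intro i _
        rw [Pi.smul_apply, smul_eq_mul, mul_smul] }
  have hE₀ : ∀ a, (E₀ a : V) = ∑ i, a i • hat (b i) := fun a => rfl
  have hform : ∀ a a' : Fin n → F, h (E₀ a : V) (E₀ a' : V) = Cfsg.hermForm n F q a a' := by
    intro a a'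
    rw [hE₀, hE₀, hh.sum_left]
    unfold Cfsg.hermForm
    apply Finset.sum_congr rfl
    intro i _
    rw [hh.smul_left, hh.sum_right hF]
    rw [Finset.sum_eq_single i]
    · rw [hh.smul_right hF, horth, if_pos rfl, mul_one]
    · intro j _ hji
      rw [hh.smul_right hF, horth, if_neg hji, mul_zero]
    · intro hi
      exact absurd (Finset.mem_univ i) hi
  have hinj : Function.Injective E₀ := by
    rw [← LinearMap.ker_eq_bot, LinearMap.ker_eq_bot']
    intro a ha
    funext j
    have h1 := hform a (Pi.single j 1)
    rw [ha] at h1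
    unfold Cfsg.hermForm at h1
    rw [Submodule.coe_zero, hh.zero_left, Finset.sum_eq_single j] at h1
    · rw [Pi.single_eq_same, one_pow, mul_one] at h1
      exact h1.symm
    · intro i _ hij
      rw [Pi.single_eq_of_ne hij]
      have hq := herm_two_le hF
      rw [zero_pow (by omega), mul_zero]
    · intro hj
      exact absurd (Finset.mem_univ j) hj
  have hbij : Function.Bijective E₀ := by
    refine ⟨hinj, ?_⟩
    apply (LinearMap.injective_iff_surjective_of_finrank_eq_finrank ?_).1 hinj
    rw [Module.finrank_fin_fun]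
  exact ⟨LinearEquiv.ofBijective E₀ hbij, fun a a' => hform a a'⟩

end orthonormal

section level

/-- a fixed-point-free map of prime period on a finite type -/
theorem dvd_card_of_fpf {S : Type*} [Finite S] (r : ℕ) (hr : r.Prime) (f : S → S)
    (hf : ∀ s, f^[r] s = s) (hfix : ∀ s, f s ≠ s) : r ∣ Nat.card S := by
  classical
  have : Fact r.Prime := ⟨hr⟩
  have : Fintype S := Fintype.ofFinite S
  let g : Function.End S := f
  have hg : ∀ (k : ℕ) (s : S), (g ^ k) s = f^[k] s := by
    intro k
    induction k with
    | zero => intro s; rfl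
    | succ k ih =>
      intro s
      rw [pow_succ', Function.iterate_succ_apply']
      show f ((g ^ k) s) = _
      rw [ih]
  have hgr : g ^ r ^ 1 = 1 := by
    funext s
    rw [pow_one, hg, hf]
    rfl
  have h1 := Equiv.Perm.card_fixedPoints_modEq hgr
  have h2 : Fintype.card (Function.fixedPoints g) = 0 := by
    rw [Fintype.card_eq_zero_iff]
    constructor
    rintro ⟨s, hs⟩
    exact hfix s hs
  rw [h2] at h1
  rw [Nat.card_eq_fintype_card]
  exact (Nat.modEq_zero_iff_dvd).1 h1

variable [FiniteDimensional F V] {h : V → V → F} (hh : IsHerm q h) (hF : Fintype.card F = q ^ 2)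
include hh hF

/-- the number of vectors of norm one of a nondegenerate subspace -/
theorem card_level (C : Submodule F V) (hC : NdOn h C) :
    Nat.card {c : C // h (c : V) (c : V) = 1} = (hermAB q (finrank F C)).2 := by
  classical
  obtain ⟨E, hE⟩ := exists_orthonormal_equiv hh hF C hC
  have h1 : Nat.card {c : C // h (c : V) (c : V) = 1} =
      hermCount F q (finrank F C) 1 := by
    unfold hermCount
    apply Nat.card_congr
    refine (Equiv.subtypeEquiv E.toEquiv ?_).symm
    intro a
    show ∑ i, a i * a i ^ q = 1 ↔ h (E a : V) (E a : V) = 1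
    rw [hE]
    rfl
  rw [h1, hermCount_eq hF, if_neg one_ne_zero, if_pos (one_pow q)]

/-- a fixed-point-free isometry of prime order `r` of a nondegenerate `n`-dimensional subspace:
`r ∣ q ^ n - (-1) ^ n` -/
theorem dvd_of_fpf (C : Submodule F V) (hC : NdOn h C) (x : V →ₗ[F] V) (hxC : ∀ c ∈ C, x c ∈ C)
    (hiso : ∀ a ∈ C, ∀ b ∈ C, h (x a) (x b) = h a b) (r : ℕ) (hr : r.Prime)
    (hxr : ∀ c ∈ C, (x ^ r) c = c) (hfix : ∀ c ∈ C, x c = c → c = 0) (hrq : ¬ r ∣ q) :
    (r : ℤ) ∣ (q : ℤ) ^ (finrank F C) - (-1) ^ (finrank F C) := by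
  classical
  have : Finite V := Module.finite_of_finite F
  have hq := herm_two_le hF
  let f : {c : C // h (c : V) (c : V) = 1} → {c : C // h (c : V) (c : V) = 1} := fun c =>
    ⟨⟨x c.1, hxC _ c.1.2⟩, by
      show h (x c.1) (x c.1) = 1
      rw [hiso _ c.1.2 _ c.1.2]
      exact c.2⟩
  have hfk : ∀ (k : ℕ) (c : {c : C // h (c : V) (c : V) = 1}),
      ((f^[k] c : {c : C // h (c : V) (c : V) = 1}) : V) = (x ^ k) (c : V) := by
    intro k
    induction k with
    | zero => intro c; rfl
    | succ k ih =>
      intro c
      rw [Function.iterate_succ_apply', pow_succ', Module.End.mul_apply, ← ih]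
  have h1 : r ∣ Nat.card {c : C // h (c : V) (c : V) = 1} := by
    apply dvd_card_of_fpf r hr f
    · intro c
      apply Subtype.ext
      apply Subtype.ext
      rw [hfk, hxr _ c.1.2]
    · intro c hc
      have h2 : x (c : V) = (c : V) := congrArg (fun s : {c : C // h (c : V) (c : V) = 1} => (s : V)) hc
      have h3 := hfix _ c.1.2 h2
      have h4 := c.2
      rw [h3, hh.zero_left] at h4
      exact zero_ne_one h4
  rw [card_level hh hF C hC] at h1
  obtain ⟨-, hB⟩ := hermAB_closed hq (finrank F C)
  have h2 : (r : ℤ) ∣ (q : ℤ) * ((hermAB q (finrank F C)).2 : ℤ) :=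
    Dvd.dvd.mul_left (Int.natCast_dvd_natCast.2 h1) _
  rw [hB] at h2
  have h3 : (q : ℤ) ^ (2 * finrank F C) - (-1) ^ finrank F C * (q : ℤ) ^ finrank F C =
      (q : ℤ) ^ finrank F C * ((q : ℤ) ^ finrank F C - (-1) ^ finrank F C) := by ring
  rw [h3] at h2
  have hrp : Prime (r : ℤ) := Nat.prime_iff_prime_int.1 hr
  rcases hrp.dvd_mul.1 h2 with h4 | h4
  · exfalso
    have h5 := hrp.dvd_of_dvd_pow h4
    exact hrq (Int.natCast_dvd_natCast.1 h5)
  · exact h4

end level

end basics

end Cfsg.Agent.Lib.Helper15.HermSub
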