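import Mathlib
import Cfsg.Agent.Lib.Helper20.AschDefs
import Cfsg.Agent.Lib.Helper4.AschA4

/-!
[DSC] (form-aware subfield descent, S5662 / S5663 / S5673), leaf (DSC1) of `notes/AschForm_leaves.lean`.
-/

set_option autoImplicit false
set_option linter.unusedSectionVars false
set_option linter.unusedVariables false

namespace Cfsg.Agent.Lib.Helper15.AFLeaf
open Matrix Cfsg.Geo Cfsg.Agent.Lib.Helper20.Asch
open Cfsg.Agent.Lib.Helper4.AschLeaf (mem_range_sup_scalars)
open scoped Kronecker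

variable {F : Type*} [Field F] [Fintype F] {n : ℕ}

/-- (DSC1) SUBFIELD DESCENT with its real output (proof text of `Helper4.AschLeaf.geo_of_realisable`): if `B N B⁻¹` is written
over `F₀ ≤ F₁` and `N` is absolutely irreducible and normalised by `H`, then `H ≤ subfieldSubgroup F₁ B⁻¹`. -/
theorem le_subfieldSubgroup_of_realisable {H N : Subgroup (GL (Fin n) F)} (hnorm : NormBy H N) (habs : AbsIrr N)
    (F₀ F₁ : Subfield F) (h01 : F₀ ≤ F₁) (B : GL (Fin n) F)
    (hB : ∀ s ∈ matrixSet N, ∀ i j,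
      ((B : Matrix (Fin n) (Fin n) F) * s * ((B⁻¹ : GL (Fin n) F) : Matrix (Fin n) (Fin n) F)) i j ∈ F₀) :
    H ≤ subfieldSubgroup F₁ B⁻¹ := by
  classical
  intro h hh
  -- it suffices to treat `X₀ = B h B⁻¹`
  obtain ⟨X₀, hX₀⟩ : ∃ X₀ : GL (Fin n) F, X₀ = B * h * B⁻¹ := ⟨_, rfl⟩
  suffices hmem : X₀ ∈ (Matrix.GeneralLinearGroup.map (F₁.subtype : F₁ →+* F)).range ⊔ scalars (Fin n) F by
    unfold subfieldSubgroup
    refine ⟨X₀, hmem, ?_⟩
    show B⁻¹ * X₀ * (B⁻¹)⁻¹ = h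
    rw [hX₀]
    group
  -- matrices
  have hBB : ((B⁻¹ : GL (Fin n) F) : Matrix (Fin n) (Fin n) F) * (B : Matrix (Fin n) (Fin n) F) = 1 := by
    rw [← Units.val_mul, inv_mul_cancel, Units.val_one]
  have hBB' : (B : Matrix (Fin n) (Fin n) F) * ((B⁻¹ : GL (Fin n) F) : Matrix (Fin n) (Fin n) F) = 1 := by
    rw [← Units.val_mul, mul_inv_cancel, Units.val_one]
  have hXX : ((X₀⁻¹ : GL (Fin n) F) : Matrix (Fin n) (Fin n) F) * (X₀ : Matrix (Fin n) (Fin n) F) = 1 := by
    rw [← Units.val_mul, inv_mul_cancel, Units.val_one]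
  have hXX' : (X₀ : Matrix (Fin n) (Fin n) F) * ((X₀⁻¹ : GL (Fin n) F) : Matrix (Fin n) (Fin n) F) = 1 := by
    rw [← Units.val_mul, mul_inv_cancel, Units.val_one]
  -- the two families of rational matrices
  have hrat : ∀ x ∈ N, ∀ i j, ((B * x * B⁻¹ : GL (Fin n) F) : Matrix (Fin n) (Fin n) F) i j ∈ F₀ := by
    intro x hx i j
    have := hB _ ⟨x, hx, rfl⟩ i j
    rw [Units.val_mul, Units.val_mul]
    exact this
  have hrel : ∀ x : GL (Fin n) F, X₀ * (B * x * B⁻¹) = (B * (h * x * h⁻¹) * B⁻¹) * X₀ := by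
    intro x
    rw [hX₀]
    group
  -- every solution of the system is a multiple of `X₀`
  have hsol : ∀ X : Matrix (Fin n) (Fin n) F,
      (∀ x ∈ N, X * ((B * x * B⁻¹ : GL (Fin n) F) : Matrix (Fin n) (Fin n) F) =
        ((B * (h * x * h⁻¹) * B⁻¹ : GL (Fin n) F) : Matrix (Fin n) (Fin n) F) * X) →
      ∃ d : F, X = d • (X₀ : Matrix (Fin n) (Fin n) F) := by
    intro X hX
    obtain ⟨T, hT⟩ : ∃ T : Matrix (Fin n) (Fin n) F,
        T = ((B⁻¹ : GL (Fin n) F) : Matrix (Fin n) (Fin n) F) *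
          (((X₀⁻¹ : GL (Fin n) F) : Matrix (Fin n) (Fin n) F) * X) * (B : Matrix (Fin n) (Fin n) F) := ⟨_, rfl⟩
    have hTc : ∀ s ∈ matrixSet N, T * s = s * T := by
      rintro s ⟨x, hx, rfl⟩
      have h1 := hX x hx
      have h2 := congrArg (fun g : GL (Fin n) F => (g : Matrix (Fin n) (Fin n) F)) (hrel x)
      simp only [Units.val_mul] at h1 h2
      -- `X₀⁻¹ (B h x h⁻¹ B⁻¹) = (B x B⁻¹) X₀⁻¹`
      have h3 : ((X₀⁻¹ : GL (Fin n) F) : Matrix (Fin n) (Fin n) F) *
          ((B : Matrix (Fin n) (Fin n) F) * ((h : Matrix (Fin n) (Fin n) F) * (x : Matrix (Fin n) (Fin n) F) *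
            ((h⁻¹ : GL (Fin n) F) : Matrix (Fin n) (Fin n) F)) * ((B⁻¹ : GL (Fin n) F) : Matrix (Fin n) (Fin n) F)) =
          ((B : Matrix (Fin n) (Fin n) F) * (x : Matrix (Fin n) (Fin n) F) *
            ((B⁻¹ : GL (Fin n) F) : Matrix (Fin n) (Fin n) F)) * ((X₀⁻¹ : GL (Fin n) F) : Matrix (Fin n) (Fin n) F) := by
        calc _ = ((X₀⁻¹ : GL (Fin n) F) : Matrix (Fin n) (Fin n) F) *
              (((B : Matrix (Fin n) (Fin n) F) * ((h : Matrix (Fin n) (Fin n) F) * (x : Matrix (Fin n) (Fin n) F) *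
              ((h⁻¹ : GL (Fin n) F) : Matrix (Fin n) (Fin n) F)) * ((B⁻¹ : GL (Fin n) F) : Matrix (Fin n) (Fin n) F)) *
              (X₀ : Matrix (Fin n) (Fin n) F)) * ((X₀⁻¹ : GL (Fin n) F) : Matrix (Fin n) (Fin n) F) := by
                rw [mul_assoc (((X₀⁻¹ : GL (Fin n) F) : Matrix (Fin n) (Fin n) F)) _
                  (((X₀⁻¹ : GL (Fin n) F) : Matrix (Fin n) (Fin n) F)),
                  mul_assoc _ (X₀ : Matrix (Fin n) (Fin n) F), hXX', mul_one]
          _ = _ := by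
                rw [← h2, ← mul_assoc, ← mul_assoc, hXX, one_mul]
      rw [hT]
      calc _ = ((B⁻¹ : GL (Fin n) F) : Matrix (Fin n) (Fin n) F) *
            (((X₀⁻¹ : GL (Fin n) F) : Matrix (Fin n) (Fin n) F) *
              (X * ((B : Matrix (Fin n) (Fin n) F) * (x : Matrix (Fin n) (Fin n) F) *
                ((B⁻¹ : GL (Fin n) F) : Matrix (Fin n) (Fin n) F)))) * (B : Matrix (Fin n) (Fin n) F) := by
              simp only [mul_assoc, hBB, mul_one]
        _ = ((B⁻¹ : GL (Fin n) F) : Matrix (Fin n) (Fin n) F) *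
            ((((B : Matrix (Fin n) (Fin n) F) * (x : Matrix (Fin n) (Fin n) F) *
              ((B⁻¹ : GL (Fin n) F) : Matrix (Fin n) (Fin n) F)) * ((X₀⁻¹ : GL (Fin n) F) : Matrix (Fin n) (Fin n) F)) * X) *
              (B : Matrix (Fin n) (Fin n) F) := by
              rw [h1, ← mul_assoc _ _ X, h3]
        _ = _ := by
              simp only [mul_assoc]
              rw [← mul_assoc _ (B : Matrix (Fin n) (Fin n) F), hBB, one_mul]
    obtain ⟨d, hd⟩ := habs.2 T hTc
    refine ⟨d, ?_⟩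
    have h4 : X = (X₀ : Matrix (Fin n) (Fin n) F) * ((B : Matrix (Fin n) (Fin n) F) * T *
        ((B⁻¹ : GL (Fin n) F) : Matrix (Fin n) (Fin n) F)) := by
      rw [hT]
      simp only [← mul_assoc, hBB', one_mul]
      simp only [mul_assoc, hBB', mul_one]
      rw [← mul_assoc, hXX', one_mul]
    rw [h4, hd, Matrix.mul_smul, Matrix.smul_mul, Matrix.mul_one, hBB', Matrix.mul_smul, Matrix.mul_one]
  -- a non-zero entry
  by_cases hnz : ∃ i₀ j₀, (X₀ : Matrix (Fin n) (Fin n) F) i₀ j₀ ≠ 0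
  swap
  · push Not at hnz
    apply mem_range_sup_scalars F₁ X₀ 1 one_ne_zero
    intro i j
    exact ⟨0, F₁.zero_mem, by rw [hnz i j, mul_zero]⟩
  obtain ⟨i₀, j₀, hc⟩ := hnz
  obtain ⟨c, hcdef⟩ : ∃ c : F, c = (X₀ : Matrix (Fin n) (Fin n) F) i₀ j₀ := ⟨_, rfl⟩
  rw [← hcdef] at hc
  obtain ⟨Y, hY⟩ : ∃ Y : Matrix (Fin n) (Fin n) F, Y = c⁻¹ • (X₀ : Matrix (Fin n) (Fin n) F) := ⟨_, rfl⟩
  have hY1 : Y i₀ j₀ = 1 := by
    rw [hY, Matrix.smul_apply, ← hcdef, smul_eq_mul, inv_mul_cancel₀ hc]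
  -- `Y` is a solution
  have hYsol : ∀ x ∈ N, Y * ((B * x * B⁻¹ : GL (Fin n) F) : Matrix (Fin n) (Fin n) F) =
      ((B * (h * x * h⁻¹) * B⁻¹ : GL (Fin n) F) : Matrix (Fin n) (Fin n) F) * Y := by
    intro x hx
    have h2 := congrArg (fun g : GL (Fin n) F => (g : Matrix (Fin n) (Fin n) F)) (hrel x)
    simp only [Units.val_mul] at h2
    rw [hY, Matrix.smul_mul, Matrix.mul_smul]
    simp only [Units.val_mul]
    rw [h2]
  -- entries of `Y` lie in `F₀`
  have hYrat : ∀ i j, Y i j ∈ F₀ := by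
    intro i j
    by_contra hy
    -- a functional `f : F →ₗ[F₀] F₀` with `f 1 = 0`, `f (Y i j) ≠ 0`
    have hnot : Y i j ∉ (Submodule.span F₀ {(1 : F)} : Submodule F₀ F) := by
      intro hmem
      rw [Submodule.mem_span_singleton] at hmem
      obtain ⟨a, ha⟩ := hmem
      apply hy
      rw [← ha]
      have : a • (1 : F) = (a : F) := by
        rw [Algebra.smul_def, mul_one]
        rfl
      rw [this]
      exact a.2
    obtain ⟨f, hfy, hf1⟩ := Submodule.exists_dual_map_eq_bot_of_notMem hnot inferInstance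
    have hf1' : f 1 = 0 := by
      have : f 1 ∈ (Submodule.span F₀ {(1 : F)}).map f := ⟨1, Submodule.subset_span rfl, rfl⟩
      rw [hf1, Submodule.mem_bot] at this
      exact this
    -- apply `f` entrywise
    obtain ⟨app, happ⟩ : ∃ app : Matrix (Fin n) (Fin n) F → Matrix (Fin n) (Fin n) F,
        app = fun X => Matrix.of fun k l => ((f (X k l) : F₀) : F) := ⟨_, rfl⟩
    have happ_apply : ∀ (X : Matrix (Fin n) (Fin n) F) k l, app X k l = ((f (X k l) : F₀) : F) := by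
      intro X k l
      rw [happ]
      rfl
    obtain ⟨Z, hZ⟩ : ∃ Z : Matrix (Fin n) (Fin n) F, Z = app Y := ⟨_, rfl⟩
    -- multiplication by a rational matrix commutes with `f`
    have hfr : ∀ (R : Matrix (Fin n) (Fin n) F), (∀ k l, R k l ∈ F₀) → ∀ (X : Matrix (Fin n) (Fin n) F) k l,
        app (X * R) k l = (app X * R) k l := by
      intro R hR X k l
      rw [happ_apply, Matrix.mul_apply, Matrix.mul_apply, map_sum, AddSubmonoidClass.coe_finsetSum]
      refine Finset.sum_congr rfl (fun t _ => ?_)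
      rw [happ_apply]
      have e1 : X k t * R t l = (⟨R t l, hR t l⟩ : F₀) • X k t := by
        rw [Algebra.smul_def, mul_comm]
        rfl
      rw [e1, map_smul, smul_eq_mul, Subfield.coe_mul, mul_comm]
    have hfl : ∀ (R : Matrix (Fin n) (Fin n) F), (∀ k l, R k l ∈ F₀) → ∀ (X : Matrix (Fin n) (Fin n) F) k l,
        app (R * X) k l = (R * app X) k l := by
      intro R hR X k l
      rw [happ_apply, Matrix.mul_apply, Matrix.mul_apply, map_sum, AddSubmonoidClass.coe_finsetSum]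
      refine Finset.sum_congr rfl (fun t _ => ?_)
      rw [happ_apply]
      have e1 : R k t * X t l = (⟨R k t, hR k t⟩ : F₀) • X t l := by
        rw [Algebra.smul_def]
        rfl
      rw [e1, map_smul, smul_eq_mul, Subfield.coe_mul]
    have hZsol : ∀ x ∈ N, Z * ((B * x * B⁻¹ : GL (Fin n) F) : Matrix (Fin n) (Fin n) F) =
        ((B * (h * x * h⁻¹) * B⁻¹ : GL (Fin n) F) : Matrix (Fin n) (Fin n) F) * Z := by
      intro x hx
      ext k l
      rw [hZ, ← hfr _ (hrat x hx) Y k l, ← hfl _ (hrat _ (hnorm h hh x hx)) Y k l, hYsol x hx]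
    obtain ⟨d, hd⟩ := hsol Z hZsol
    -- compare at `(i₀, j₀)` and at `(i, j)`
    have hd' : Z = (d * c) • Y := by
      rw [hd, hY, smul_smul, mul_assoc, mul_inv_cancel₀ hc, mul_one]
    have h00 : Z i₀ j₀ = 0 := by
      rw [hZ, happ_apply, hY1, hf1']
      rfl
    have hdc : d * c = 0 := by
      have := congrFun (congrFun hd' i₀) j₀
      rw [h00, Matrix.smul_apply, hY1, smul_eq_mul, mul_one] at this
      exact this.symm
    have hij : Z i j = 0 := by
      rw [hd', hdc, zero_smul]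
      rfl
    apply hfy
    rw [hZ, happ_apply] at hij
    exact_mod_cast hij
  -- conclusion
  apply mem_range_sup_scalars F₁ X₀ c hc
  intro i j
  refine ⟨Y i j, h01 (hYrat i j), ?_⟩
  rw [hY, Matrix.smul_apply, smul_eq_mul, ← mul_assoc, mul_inv_cancel₀ hc, one_mul]


end Cfsg.Agent.Lib.Helper15.AFLeaf
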