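import Mathlib
import Cfsg.Agent.Lib.Helper20.AschDefs

/-!
S5630 (Aschbacher's theorem, planner helper20), block (A23), leaf CL = CLIFFORD's theorem in the refined form:
`X ⊴ Y ≤ GL_n(F)`, `Y` irreducible: `V|_X` is homogeneous, or the homogeneous components form an
`m`-decomposition permuted transitively by `Y`.

Method: `V` as a module over the enveloping algebra `Env X` (Mathlib `Subalgebra.moduleLeft` over the matrix
action), semisimple since the `Y`-translates of a simple submodule span; the isotypic components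
(`Mathlib/RingTheory/SimpleModule/Isotypic.lean`) are the minimal fully invariant submodules, fully invariant means
invariant under `Cen X`, and `Y` permutes them by the twist `N ↦ y N`.
-/

set_option autoImplicit false
set_option linter.unusedSectionVars false
set_option linter.unusedVariables false

namespace Cfsg.Agent.Lib.Helper15.AschLeaf
open Matrix Cfsg.Geo Cfsg.Agent.Lib.Helper20.Asch

variable {F : Type*} [Field F] {n : ℕ}

/-! ### the enveloping algebra and conjugation -/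

lemma mem_Env_of_mem {X : Subgroup (GL (Fin n) F)} {x : GL (Fin n) F} (hx : x ∈ X) :
    (x : Matrix (Fin n) (Fin n) F) ∈ Env X :=
  Algebra.subset_adjoin ⟨x, hx, rfl⟩

lemma gl_inv_mul (g : GL (Fin n) F) :
    ((g⁻¹ : GL (Fin n) F) : Matrix (Fin n) (Fin n) F) * (g : Matrix (Fin n) (Fin n) F) = 1 := by
  rw [← Units.val_mul, inv_mul_cancel, Units.val_one]

lemma gl_mul_inv (g : GL (Fin n) F) :
    (g : Matrix (Fin n) (Fin n) F) * ((g⁻¹ : GL (Fin n) F) : Matrix (Fin n) (Fin n) F) = 1 := by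
  rw [← Units.val_mul, mul_inv_cancel, Units.val_one]

/-- a group normalising `X` normalises `Env X` -/
lemma env_conj_mem {X Y : Subgroup (GL (Fin n) F)} (hnorm : NormBy Y X) {y : GL (Fin n) F}
    (hy : y ∈ Y) {T : Matrix (Fin n) (Fin n) F} (hT : T ∈ Env X) :
    (y : Matrix (Fin n) (Fin n) F) * T * ((y⁻¹ : GL (Fin n) F) : Matrix (Fin n) (Fin n) F) ∈ Env X := by
  unfold Env at hT ⊢
  induction hT using Algebra.adjoin_induction with
  | mem T hT =>
    obtain ⟨x, hx, rfl⟩ := hT
    apply Algebra.subset_adjoin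
    exact ⟨y * x * y⁻¹, hnorm y hy x hx, by simp⟩
  | algebraMap r =>
    rw [Algebra.algebraMap_eq_smul_one, Matrix.mul_smul, mul_one, Matrix.smul_mul, gl_mul_inv]
    exact Subalgebra.smul_mem _ (Subalgebra.one_mem _) r
  | add a b _ _ ha hb =>
    rw [mul_add, add_mul]
    exact Subalgebra.add_mem _ ha hb
  | mul a b _ _ ha hb =>
    have e : (y : Matrix (Fin n) (Fin n) F) * (a * b) *
        ((y⁻¹ : GL (Fin n) F) : Matrix (Fin n) (Fin n) F) =
        ((y : Matrix (Fin n) (Fin n) F) * a * ((y⁻¹ : GL (Fin n) F) : Matrix (Fin n) (Fin n) F)) *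
        ((y : Matrix (Fin n) (Fin n) F) * b * ((y⁻¹ : GL (Fin n) F) : Matrix (Fin n) (Fin n) F)) := by
      calc (y : Matrix (Fin n) (Fin n) F) * (a * b) *
          ((y⁻¹ : GL (Fin n) F) : Matrix (Fin n) (Fin n) F)
          = (y : Matrix (Fin n) (Fin n) F) * a * 1 * b *
            ((y⁻¹ : GL (Fin n) F) : Matrix (Fin n) (Fin n) F) := by
            rw [mul_one]; simp only [mul_assoc]
        _ = _ := by rw [← gl_inv_mul y]; simp only [mul_assoc]
    rw [e]
    exact Subalgebra.mul_mem _ ha hb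

/-- elements of the centraliser algebra commute with the enveloping algebra -/
lemma cen_comm_env {X : Subgroup (GL (Fin n) F)} {T A : Matrix (Fin n) (Fin n) F}
    (hT : T ∈ Cen X) (hA : A ∈ Env X) : A * T = T * A := by
  have h := Algebra.adjoin_le_centralizer_centralizer F (matrixSet X) hA
  rw [Subalgebra.mem_centralizer_iff] at h
  exact (h T hT).symm

/-- conjugates of elements of the centraliser algebra by normalising elements -/
lemma cen_conj_mem {X Y : Subgroup (GL (Fin n) F)} (hnorm : NormBy Y X) {y : GL (Fin n) F}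
    (hy : y ∈ Y) {T : Matrix (Fin n) (Fin n) F} (hT : T ∈ Cen X) :
    ((y⁻¹ : GL (Fin n) F) : Matrix (Fin n) (Fin n) F) * T * (y : Matrix (Fin n) (Fin n) F) ∈ Cen X := by
  rw [mem_Cen] at hT ⊢
  intro x hx
  have hx' : y * x * y⁻¹ ∈ X := hnorm y hy x hx
  have h1 := hT _ hx'
  simp only [Units.val_mul] at h1
  -- x * (y⁻¹ T y) = y⁻¹ (y x y⁻¹) T y
  calc (x : Matrix (Fin n) (Fin n) F) *
        (((y⁻¹ : GL (Fin n) F) : Matrix (Fin n) (Fin n) F) * T * (y : Matrix (Fin n) (Fin n) F))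
      = ((y⁻¹ : GL (Fin n) F) : Matrix (Fin n) (Fin n) F) *
          ((y : Matrix (Fin n) (Fin n) F) * (x : Matrix (Fin n) (Fin n) F) *
            ((y⁻¹ : GL (Fin n) F) : Matrix (Fin n) (Fin n) F) * T) *
          (y : Matrix (Fin n) (Fin n) F) := by
        simp only [← mul_assoc, gl_inv_mul, one_mul]
    _ = ((y⁻¹ : GL (Fin n) F) : Matrix (Fin n) (Fin n) F) *
          (T * ((y : Matrix (Fin n) (Fin n) F) * (x : Matrix (Fin n) (Fin n) F) *
            ((y⁻¹ : GL (Fin n) F) : Matrix (Fin n) (Fin n) F))) *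
          (y : Matrix (Fin n) (Fin n) F) := by rw [h1]
    _ = _ := by
        simp only [mul_assoc, gl_inv_mul, mul_one]


/-! ### invariant subspaces as modules over the enveloping algebra -/

lemma env_mulVec_mem {X : Subgroup (GL (Fin n) F)} {W : Submodule F (Fin n → F)} (hW : XInv X W)
    {T : Matrix (Fin n) (Fin n) F} (hT : T ∈ Env X) {w : Fin n → F} (hw : w ∈ W) : T *ᵥ w ∈ W := by
  unfold Env at hT
  induction hT using Algebra.adjoin_induction generalizing w with
  | mem T hT =>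
    obtain ⟨x, hx, rfl⟩ := hT
    exact hW x hx ⟨w, hw, by simp [Matrix.toLin'_apply]⟩
  | algebraMap r =>
    rw [Algebra.algebraMap_eq_smul_one, Matrix.smul_mulVec, Matrix.one_mulVec]
    exact W.smul_mem r hw
  | add a b _ _ ha hb =>
    rw [Matrix.add_mulVec]
    exact W.add_mem (ha hw) (hb hw)
  | mul a b _ _ ha hb =>
    rw [← Matrix.mulVec_mulVec]
    exact ha (hb hw)

/-- an `X`-invariant subspace as a submodule over the enveloping algebra -/
def toR {X : Subgroup (GL (Fin n) F)} (W : Submodule F (Fin n → F)) (hW : XInv X W) :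
    Submodule ↥(Env X) (Fin n → F) where
  carrier := W
  add_mem' := W.add_mem
  zero_mem' := W.zero_mem
  smul_mem' := fun T w hw => env_mulVec_mem hW T.2 hw

/-- a submodule over the enveloping algebra as a subspace -/
abbrev toF {X : Subgroup (GL (Fin n) F)} (N : Submodule ↥(Env X) (Fin n → F)) :
    Submodule F (Fin n → F) := N.restrictScalars F

lemma mem_toR {X : Subgroup (GL (Fin n) F)} {W : Submodule F (Fin n → F)} (hW : XInv X W)
    (v : Fin n → F) : v ∈ toR W hW ↔ v ∈ W := Iff.rfl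

lemma toF_toR {X : Subgroup (GL (Fin n) F)} (W : Submodule F (Fin n → F)) (hW : XInv X W) :
    toF (toR W hW) = W := by
  ext v; rfl

lemma env_smul_mem {X : Subgroup (GL (Fin n) F)} (N : Submodule ↥(Env X) (Fin n → F))
    {T : Matrix (Fin n) (Fin n) F} (hT : T ∈ Env X) {v : Fin n → F} (hv : v ∈ N) : T *ᵥ v ∈ N :=
  N.smul_mem ⟨T, hT⟩ hv

lemma xInv_toF {X : Subgroup (GL (Fin n) F)} (N : Submodule ↥(Env X) (Fin n → F)) :
    XInv X (toF N) := by
  rintro x hx _ ⟨v, hv, rfl⟩
  rw [Matrix.toLin'_apply]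
  exact env_smul_mem N (mem_Env_of_mem hx) hv

lemma toR_toF {X : Subgroup (GL (Fin n) F)} (N : Submodule ↥(Env X) (Fin n → F)) :
    toR (toF N) (xInv_toF N) = N := by
  ext v; rfl

/-! ### twisting by a normalising element -/

/-- the image of a submodule under a normalising element -/
def twFun {X Y : Subgroup (GL (Fin n) F)} (hnorm : NormBy Y X) (y : GL (Fin n) F) (hy : y ∈ Y)
    (N : Submodule ↥(Env X) (Fin n → F)) : Submodule ↥(Env X) (Fin n → F) where
  carrier := {v | ((y⁻¹ : GL (Fin n) F) : Matrix (Fin n) (Fin n) F) *ᵥ v ∈ N}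
  add_mem' := by
    intro a b ha hb
    simp only [Set.mem_ofPred_eq] at ha hb ⊢
    rw [Matrix.mulVec_add]
    exact N.add_mem ha hb
  zero_mem' := by
    simp only [Set.mem_ofPred_eq]
    rw [Matrix.mulVec_zero]
    exact N.zero_mem
  smul_mem' := by
    intro T v hv
    simp only [Set.mem_ofPred_eq] at hv ⊢
    have hT : ((y⁻¹ : GL (Fin n) F) : Matrix (Fin n) (Fin n) F) * (T : Matrix (Fin n) (Fin n) F) *
        (((y⁻¹)⁻¹ : GL (Fin n) F) : Matrix (Fin n) (Fin n) F) ∈ Env X :=
      env_conj_mem hnorm (Y.inv_mem hy) T.2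
    rw [inv_inv] at hT
    have e : ((y⁻¹ : GL (Fin n) F) : Matrix (Fin n) (Fin n) F) *ᵥ (T • v) =
        (((y⁻¹ : GL (Fin n) F) : Matrix (Fin n) (Fin n) F) * (T : Matrix (Fin n) (Fin n) F) *
          (y : Matrix (Fin n) (Fin n) F)) *ᵥ
          (((y⁻¹ : GL (Fin n) F) : Matrix (Fin n) (Fin n) F) *ᵥ v) := by
      rw [Matrix.mulVec_mulVec, mul_assoc, mul_assoc, gl_mul_inv, mul_one, ← Matrix.mulVec_mulVec]
      rfl
    rw [e]
    exact env_smul_mem N hT hv

lemma mem_twFun {X Y : Subgroup (GL (Fin n) F)} (hnorm : NormBy Y X) (y : GL (Fin n) F) (hy : y ∈ Y)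
    (N : Submodule ↥(Env X) (Fin n → F)) (v : Fin n → F) :
    v ∈ twFun hnorm y hy N ↔ ((y⁻¹ : GL (Fin n) F) : Matrix (Fin n) (Fin n) F) *ᵥ v ∈ N := Iff.rfl

lemma toF_twFun {X Y : Subgroup (GL (Fin n) F)} (hnorm : NormBy Y X) (y : GL (Fin n) F) (hy : y ∈ Y)
    (N : Submodule ↥(Env X) (Fin n → F)) :
    toF (twFun hnorm y hy N) = (toF N).map (Matrix.toLin' (y : Matrix (Fin n) (Fin n) F)) := by
  ext v
  rw [Submodule.restrictScalars_mem, mem_twFun, Submodule.mem_map]
  constructor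
  · intro h
    refine ⟨_, h, ?_⟩
    rw [Matrix.toLin'_apply, Matrix.mulVec_mulVec, gl_mul_inv, Matrix.one_mulVec]
  · rintro ⟨w, hw, rfl⟩
    rw [Matrix.toLin'_apply, Matrix.mulVec_mulVec, gl_inv_mul, Matrix.one_mulVec]
    exact hw

lemma twFun_mono {X Y : Subgroup (GL (Fin n) F)} (hnorm : NormBy Y X) (y : GL (Fin n) F) (hy : y ∈ Y)
    {N N' : Submodule ↥(Env X) (Fin n → F)} (h : N ≤ N') : twFun hnorm y hy N ≤ twFun hnorm y hy N' :=
  fun v hv => h hv

lemma twFun_twFun_inv {X Y : Subgroup (GL (Fin n) F)} (hnorm : NormBy Y X) (y : GL (Fin n) F)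
    (hy : y ∈ Y) (N : Submodule ↥(Env X) (Fin n → F)) :
    twFun hnorm y hy (twFun hnorm y⁻¹ (Y.inv_mem hy) N) = N := by
  ext v
  rw [mem_twFun, mem_twFun, inv_inv, Matrix.mulVec_mulVec, gl_mul_inv, Matrix.one_mulVec]

lemma twFun_inv_twFun {X Y : Subgroup (GL (Fin n) F)} (hnorm : NormBy Y X) (y : GL (Fin n) F)
    (hy : y ∈ Y) (N : Submodule ↥(Env X) (Fin n → F)) :
    twFun hnorm y⁻¹ (Y.inv_mem hy) (twFun hnorm y hy N) = N := by
  ext v
  rw [mem_twFun, mem_twFun, inv_inv, Matrix.mulVec_mulVec, gl_inv_mul, Matrix.one_mulVec]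

lemma twFun_mul {X Y : Subgroup (GL (Fin n) F)} (hnorm : NormBy Y X) (y y' : GL (Fin n) F)
    (hy : y ∈ Y) (hy' : y' ∈ Y) (N : Submodule ↥(Env X) (Fin n → F)) :
    twFun hnorm y hy (twFun hnorm y' hy' N) = twFun hnorm (y * y') (Y.mul_mem hy hy') N := by
  ext v
  rw [mem_twFun, mem_twFun, mem_twFun, _root_.mul_inv_rev, Units.val_mul, Matrix.mulVec_mulVec]

lemma twFun_one {X Y : Subgroup (GL (Fin n) F)} (hnorm : NormBy Y X)
    (N : Submodule ↥(Env X) (Fin n → F)) : twFun hnorm 1 Y.one_mem N = N := by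
  ext v
  rw [mem_twFun, inv_one, Units.val_one, Matrix.one_mulVec]

/-- twisting as an order isomorphism -/
def tw {X Y : Subgroup (GL (Fin n) F)} (hnorm : NormBy Y X) (y : GL (Fin n) F) (hy : y ∈ Y) :
    Submodule ↥(Env X) (Fin n → F) ≃o Submodule ↥(Env X) (Fin n → F) where
  toFun := twFun hnorm y hy
  invFun := twFun hnorm y⁻¹ (Y.inv_mem hy)
  left_inv := twFun_inv_twFun hnorm y hy
  right_inv := twFun_twFun_inv hnorm y hy
  map_rel_iff' := by
    intro N N'
    constructor
    · intro h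
      have := twFun_mono hnorm y⁻¹ (Y.inv_mem hy) h
      simpa only [Equiv.coe_fn_mk, twFun_inv_twFun] using this
    · exact twFun_mono hnorm y hy

lemma tw_apply {X Y : Subgroup (GL (Fin n) F)} (hnorm : NormBy Y X) (y : GL (Fin n) F) (hy : y ∈ Y)
    (N : Submodule ↥(Env X) (Fin n → F)) : tw hnorm y hy N = twFun hnorm y hy N := rfl


/-! ### fully invariant submodules -/

/-- invariance under the centraliser algebra -/
def CenInv {X : Subgroup (GL (Fin n) F)} (N : Submodule ↥(Env X) (Fin n → F)) : Prop :=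
  ∀ T ∈ Cen X, ∀ v ∈ N, T *ᵥ v ∈ N

/-- an element of the centraliser algebra as an endomorphism over the enveloping algebra -/
def cenEnd {X : Subgroup (GL (Fin n) F)} (T : Matrix (Fin n) (Fin n) F) (hT : T ∈ Cen X) :
    Module.End ↥(Env X) (Fin n → F) where
  toFun v := T *ᵥ v
  map_add' := Matrix.mulVec_add T
  map_smul' := by
    intro A v
    simp only [RingHom.id_apply]
    show T *ᵥ ((A : Matrix (Fin n) (Fin n) F) *ᵥ v) = (A : Matrix (Fin n) (Fin n) F) *ᵥ (T *ᵥ v)
    rw [Matrix.mulVec_mulVec, Matrix.mulVec_mulVec, cen_comm_env hT A.2]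

lemma isFullyInvariant_iff {X : Subgroup (GL (Fin n) F)} (N : Submodule ↥(Env X) (Fin n → F)) :
    N.IsFullyInvariant ↔ CenInv N := by
  constructor
  · intro h T hT v hv
    exact h (cenEnd T hT) hv
  · intro h f v hv
    rw [Submodule.mem_comap]
    let fF : (Fin n → F) →ₗ[F] (Fin n → F) := f.restrictScalars F
    have hT : LinearMap.toMatrix' fF ∈ Cen X := by
      rw [mem_Cen]
      intro x hx
      apply Matrix.toLin'.injective
      apply LinearMap.ext
      intro w
      rw [Matrix.toLin'_mul, Matrix.toLin'_mul, Matrix.toLin'_toMatrix', LinearMap.comp_apply,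
        LinearMap.comp_apply, Matrix.toLin'_apply, Matrix.toLin'_apply]
      have := f.map_smul (⟨(x : Matrix (Fin n) (Fin n) F), mem_Env_of_mem hx⟩ : ↥(Env X)) w
      exact this.symm
    have := h _ hT v hv
    rwa [← Matrix.toLin'_apply, Matrix.toLin'_toMatrix'] at this

lemma cenInv_tw {X Y : Subgroup (GL (Fin n) F)} (hnorm : NormBy Y X) (y : GL (Fin n) F) (hy : y ∈ Y)
    {N : Submodule ↥(Env X) (Fin n → F)} (hN : CenInv N) : CenInv (tw hnorm y hy N) := by
  intro T hT v hv
  rw [tw_apply, mem_twFun] at hv ⊢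
  have h1 := hN _ (cen_conj_mem hnorm hy hT) _ hv
  rw [Matrix.mulVec_mulVec, mul_assoc, mul_assoc, gl_mul_inv, mul_one, ← Matrix.mulVec_mulVec] at h1
  exact h1

lemma cenInv_tw_iff {X Y : Subgroup (GL (Fin n) F)} (hnorm : NormBy Y X) (y : GL (Fin n) F)
    (hy : y ∈ Y) {N : Submodule ↥(Env X) (Fin n → F)} : CenInv (tw hnorm y hy N) ↔ CenInv N := by
  constructor
  · intro h
    have := cenInv_tw hnorm y⁻¹ (Y.inv_mem hy) h
    rwa [tw_apply, tw_apply, twFun_inv_twFun] at this
  · exact cenInv_tw hnorm y hy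

/-! ### isotypic components are the minimal fully invariant submodules -/

section iso
variable {R M : Type*} [Ring R] [AddCommGroup M] [Module R M] [IsSemisimpleModule R M]

lemma eq_of_le_of_mem_isotypicComponents {c c' : Submodule R M} (hc : c ∈ isotypicComponents R M)
    (hc' : c' ∈ isotypicComponents R M) (h : c' ≤ c) : c' = c := by
  by_contra hne
  have hind := sSupIndep_isotypicComponents R M hc'
  have hle : c ≤ sSup (isotypicComponents R M \ {c'}) :=
    le_sSup ⟨hc, fun h' => hne (Set.mem_singleton_iff.mp h').symm⟩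
  have hd : Disjoint c' c := hind.mono_right hle
  have : c' = ⊥ := by
    have := hd le_rfl h
    exact le_bot_iff.mp this
  exact (bot_lt_isotypicComponents hc').ne' this

lemma eq_of_fullyInvariant_le {c N : Submodule R M} (hc : c ∈ isotypicComponents R M)
    (hN : N.IsFullyInvariant) (hle : N ≤ c) (hne : N ≠ ⊥) : N = c := by
  obtain ⟨s, hs, rfl⟩ := isFullyInvariant_iff_sSup_isotypicComponents.mp hN
  have hs0 : s.Nonempty := by
    by_contra h0
    rw [Set.not_nonempty_iff_eq_empty] at h0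
    rw [h0, sSup_empty] at hne
    exact hne rfl
  obtain ⟨c', hc'⟩ := hs0
  have h1 : c' ≤ c := (le_sSup hc').trans hle
  have h2 := eq_of_le_of_mem_isotypicComponents hc (hs hc') h1
  exact le_antisymm hle (h2 ▸ le_sSup hc')

lemma mem_isotypicComponents_of_minimal {N : Submodule R M} (hN : N.IsFullyInvariant) (hne : N ≠ ⊥)
    (hmin : ∀ N' : Submodule R M, N'.IsFullyInvariant → N' ≤ N → N' ≠ ⊥ → N' = N) :
    N ∈ isotypicComponents R M := by
  obtain ⟨s, hs, rfl⟩ := isFullyInvariant_iff_sSup_isotypicComponents.mp hN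
  have hs0 : s.Nonempty := by
    by_contra h0
    rw [Set.not_nonempty_iff_eq_empty] at h0
    rw [h0, sSup_empty] at hne
    exact hne rfl
  obtain ⟨c', hc'⟩ := hs0
  have := hmin c' (Submodule.IsFullyInvariant.of_mem_isotypicComponents (hs hc')) (le_sSup hc')
    (bot_lt_isotypicComponents (hs hc')).ne'
  rw [← this]
  exact hs hc'

end iso


lemma twFun_congr {X Y : Subgroup (GL (Fin n) F)} (hnorm : NormBy Y X) {y y' : GL (Fin n) F}
    (h : y = y') (hy : y ∈ Y) (hy' : y' ∈ Y) (N : Submodule ↥(Env X) (Fin n → F)) :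
    twFun hnorm y hy N = twFun hnorm y' hy' N := by
  subst h; rfl

lemma tw_mem_isotypicComponents {X Y : Subgroup (GL (Fin n) F)} (hnorm : NormBy Y X)
    [IsSemisimpleModule ↥(Env X) (Fin n → F)] (y : GL (Fin n) F) (hy : y ∈ Y)
    {c : Submodule ↥(Env X) (Fin n → F)} (hc : c ∈ isotypicComponents ↥(Env X) (Fin n → F)) :
    tw hnorm y hy c ∈ isotypicComponents ↥(Env X) (Fin n → F) := by
  have hcf : CenInv c :=
    (isFullyInvariant_iff c).mp (Submodule.IsFullyInvariant.of_mem_isotypicComponents hc)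
  apply mem_isotypicComponents_of_minimal
  · exact (isFullyInvariant_iff _).mpr (cenInv_tw hnorm y hy hcf)
  · intro h0
    have : c = ⊥ := by
      have := congrArg (tw hnorm y hy).symm h0
      rwa [OrderIso.symm_apply_apply, OrderIso.map_bot] at this
    exact (bot_lt_isotypicComponents hc).ne' this
  · intro N' hN' hle hne
    have h1 : CenInv ((tw hnorm y hy).symm N') := by
      have := (isFullyInvariant_iff N').mp hN'
      have h2 : N' = tw hnorm y hy ((tw hnorm y hy).symm N') := by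
        rw [OrderIso.apply_symm_apply]
      rw [h2] at this
      exact (cenInv_tw_iff hnorm y hy).mp this
    have h3 : (tw hnorm y hy).symm N' ≤ c := by
      rw [OrderIso.symm_apply_le]
      exact hle
    have h4 : (tw hnorm y hy).symm N' ≠ ⊥ := by
      intro h0
      apply hne
      have := congrArg (tw hnorm y hy) h0
      rwa [OrderIso.apply_symm_apply, OrderIso.map_bot] at this
    have h5 := eq_of_fullyInvariant_le hc ((isFullyInvariant_iff _).mpr h1) h3 h4
    rw [← h5, OrderIso.apply_symm_apply]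

lemma toLin'_gl_injective (y : GL (Fin n) F) :
    Function.Injective (Matrix.toLin' (y : Matrix (Fin n) (Fin n) F)) := by
  intro v w h
  have := congrArg (fun u => ((y⁻¹ : GL (Fin n) F) : Matrix (Fin n) (Fin n) F) *ᵥ u) h
  simpa only [Matrix.toLin'_apply, Matrix.mulVec_mulVec, gl_inv_mul, Matrix.one_mulVec] using this

lemma finrank_map_gl (y : GL (Fin n) F) (W : Submodule F (Fin n → F)) :
    Module.finrank F (W.map (Matrix.toLin' (y : Matrix (Fin n) (Fin n) F))) = Module.finrank F W :=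
  (Submodule.equivMapOfInjective _ (toLin'_gl_injective y) W).finrank_eq.symm


lemma toF_bot {X : Subgroup (GL (Fin n) F)} :
    toF (⊥ : Submodule ↥(Env X) (Fin n → F)) = ⊥ := Submodule.restrictScalars_bot _ _ _

lemma toF_top {X : Subgroup (GL (Fin n) F)} :
    toF (⊤ : Submodule ↥(Env X) (Fin n → F)) = ⊤ := Submodule.restrictScalars_top _ _ _

lemma toF_eq_bot_iff {X : Subgroup (GL (Fin n) F)} {N : Submodule ↥(Env X) (Fin n → F)} :
    toF N = ⊥ ↔ N = ⊥ := Submodule.restrictScalars_eq_bot_iff _ _ _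

lemma toF_eq_top_iff {X : Subgroup (GL (Fin n) F)} {N : Submodule ↥(Env X) (Fin n → F)} :
    toF N = ⊤ ↔ N = ⊤ := Submodule.restrictScalars_eq_top_iff _ _ _

lemma toF_iSup {X : Subgroup (GL (Fin n) F)} {ι : Sort*} (N : ι → Submodule ↥(Env X) (Fin n → F)) :
    toF (⨆ i, N i) = ⨆ i, toF (N i) := Submodule.restrictScalars_iSup F N

lemma toF_mono {X : Subgroup (GL (Fin n) F)} {N N' : Submodule ↥(Env X) (Fin n → F)} (h : N ≤ N') :
    toF N ≤ toF N' := Submodule.restrictScalars_mono F h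

lemma toF_disjoint {X : Subgroup (GL (Fin n) F)} {N N' : Submodule ↥(Env X) (Fin n → F)}
    (h : Disjoint N N') : Disjoint (toF N) (toF N') :=
  (Submodule.disjoint_restrictScalars_iff F).mpr h

lemma toF_iSupIndep {X : Subgroup (GL (Fin n) F)} {ι : Type*}
    (N : ι → Submodule ↥(Env X) (Fin n → F)) (h : iSupIndep N) : iSupIndep fun i => toF (N i) := by
  intro i
  have h4 := toF_disjoint (h i)
  rw [toF_iSup] at h4
  have h5 : ∀ j, toF (⨆ (_ : j ≠ i), N j) = ⨆ (_ : j ≠ i), toF (N j) := fun j => toF_iSup _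
  simp only [h5] at h4
  exact h4

/-- the homogeneous case -/
lemma homog_of_top {X : Subgroup (GL (Fin n) F)} [IsSemisimpleModule ↥(Env X) (Fin n → F)]
    (S0 : Submodule ↥(Env X) (Fin n → F)) (hS0 : IsAtom S0) [IsSimpleModule ↥(Env X) S0]
    (htop : isotypicComponent ↥(Env X) (Fin n → F) S0 = ⊤) : Homog X := by
  refine ⟨toF S0, ?_, xInv_toF S0, ?_, ?_⟩
  · intro h
    exact hS0.1 (toF_eq_bot_iff.mp h)
  · intro W hW hWX
    have h1 : toR W hWX ≤ S0 := fun v hv => hW hv
    rcases hS0.le_iff.mp h1 with h | h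
    · left
      rw [← toF_toR W hWX, h, toF_bot]
    · right
      rw [← toF_toR W hWX, h]
  · obtain ⟨U, hU⟩ : ∃ U : Submodule F (Fin n → F),
        U = ⨆ T : Cen X, (toF S0).map (Matrix.toLin' (T : Matrix (Fin n) (Fin n) F)) := ⟨_, rfl⟩
    rw [← hU]
    have hle : ∀ T : Cen X, (toF S0).map (Matrix.toLin' (T : Matrix (Fin n) (Fin n) F)) ≤ U := by
      intro T
      rw [hU]
      exact le_iSup (fun T : Cen X => (toF S0).map (Matrix.toLin' (T : Matrix (Fin n) (Fin n) F))) T
    have hUX : XInv X U := by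
      intro x hx
      rw [hU, Submodule.map_iSup]
      apply iSup_le
      intro T
      have h1 : ((toF S0).map (Matrix.toLin' (T : Matrix (Fin n) (Fin n) F))).map
          (Matrix.toLin' (x : Matrix (Fin n) (Fin n) F)) =
          ((toF S0).map (Matrix.toLin' (x : Matrix (Fin n) (Fin n) F))).map
            (Matrix.toLin' (T : Matrix (Fin n) (Fin n) F)) := by
        rw [← Submodule.map_comp, ← Submodule.map_comp, ← Matrix.toLin'_mul, ← Matrix.toLin'_mul,
          (mem_Cen.mp T.2) x hx]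
      rw [h1, ← hU]
      exact (Submodule.map_mono (xInv_toF S0 x hx)).trans (hle T)
    have hUC : CenInv (toR U hUX) := by
      intro T' hT' v hv
      rw [mem_toR] at hv ⊢
      have h2 : U.map (Matrix.toLin' T') ≤ U := by
        rw [hU, Submodule.map_iSup]
        apply iSup_le
        intro T
        rw [← Submodule.map_comp, ← Matrix.toLin'_mul, ← hU]
        exact hle ⟨T' * T, Subalgebra.mul_mem _ hT' T.2⟩
      exact h2 ⟨v, hv, by rw [Matrix.toLin'_apply]⟩
    have hS0U : S0 ≤ toR U hUX := by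
      intro v hv
      rw [mem_toR]
      apply hle ⟨1, Subalgebra.one_mem _⟩
      refine ⟨v, hv, ?_⟩
      rw [Matrix.toLin'_apply, Matrix.one_mulVec]
    have h3 := isFullyInvariant_iff_le_imp_isotypicComponent_le.mp
      ((isFullyInvariant_iff _).mpr hUC) S0 hS0U
    rw [htop, top_le_iff] at h3
    rw [← toF_toR U hUX, h3, toF_top]

/-- the orbit of a submodule under the normalising group -/
def orb {X Y : Subgroup (GL (Fin n) F)} (hnorm : NormBy Y X) (c0 : Submodule ↥(Env X) (Fin n → F)) :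
    Set (Submodule ↥(Env X) (Fin n → F)) := {c | ∃ y : Y, c = tw hnorm y.1 y.2 c0}

lemma self_mem_orb {X Y : Subgroup (GL (Fin n) F)} (hnorm : NormBy Y X)
    (c0 : Submodule ↥(Env X) (Fin n → F)) : c0 ∈ orb hnorm c0 :=
  ⟨⟨1, Y.one_mem⟩, by rw [tw_apply, twFun_one]⟩

lemma tw_mem_orb {X Y : Subgroup (GL (Fin n) F)} (hnorm : NormBy Y X)
    (c0 : Submodule ↥(Env X) (Fin n → F)) {c : Submodule ↥(Env X) (Fin n → F)} (hc : c ∈ orb hnorm c0)
    (y : GL (Fin n) F) (hy : y ∈ Y) : tw hnorm y hy c ∈ orb hnorm c0 := by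
  obtain ⟨y', rfl⟩ := hc
  exact ⟨⟨y * y'.1, Y.mul_mem hy y'.2⟩, by rw [tw_apply, tw_apply, twFun_mul]; rfl⟩

lemma orb_trans {X Y : Subgroup (GL (Fin n) F)} (hnorm : NormBy Y X)
    (c0 : Submodule ↥(Env X) (Fin n → F)) {c c' : Submodule ↥(Env X) (Fin n → F)}
    (hc : c ∈ orb hnorm c0) (hc' : c' ∈ orb hnorm c0) :
    ∃ y ∈ Y, (toF c).map (Matrix.toLin' (y : Matrix (Fin n) (Fin n) F)) = toF c' := by
  obtain ⟨yi, rfl⟩ := hc
  obtain ⟨yj, rfl⟩ := hc'
  refine ⟨yj.1 * yi.1⁻¹, Y.mul_mem yj.2 (Y.inv_mem yi.2), ?_⟩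
  rw [← toF_twFun hnorm _ (Y.mul_mem yj.2 (Y.inv_mem yi.2)), tw_apply, tw_apply, twFun_mul]
  have : twFun hnorm (yj.1 * yi.1⁻¹ * yi.1) (Y.mul_mem (Y.mul_mem yj.2 (Y.inv_mem yi.2)) yi.2) c0 =
      twFun hnorm yj.1 yj.2 c0 := twFun_congr hnorm (inv_mul_cancel_right _ _) _ _ _
  rw [this]


section main
variable [Fintype F]

/-- the inhomogeneous case -/
lemma decomp_of_orb {X Y : Subgroup (GL (Fin n) F)} (hnorm : NormBy Y X)
    [IsSemisimpleModule ↥(Env X) (Fin n → F)] (c0 : Submodule ↥(Env X) (Fin n → F))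
    (hc0 : c0 ∈ isotypicComponents ↥(Env X) (Fin n → F))
    (hsumc : ⨆ y : Y, tw hnorm y.1 y.2 c0 = ⊤) (hc0top : c0 ≠ ⊤) :
    ∃ (t m : ℕ) (D : Fin t → Submodule F (Fin n → F)), IsMDecomposition m D ∧
      Y ≤ decompositionStabilizer D ∧
      (∀ T : Matrix (Fin n) (Fin n) F, T ∈ Cen X → ∀ i, (D i).map (Matrix.toLin' T) ≤ D i) ∧
      (∀ x ∈ X, ∀ i, (D i).map (Matrix.toLin' (x : Matrix (Fin n) (Fin n) F)) ≤ D i) ∧
      (∀ i j, ∃ y ∈ Y, (D i).map (Matrix.toLin' (y : Matrix (Fin n) (Fin n) F)) = D j) := by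
  classical
  have hOIC : orb hnorm c0 ⊆ isotypicComponents ↥(Env X) (Fin n → F) := by
    rintro _ ⟨y, rfl⟩
    exact tw_mem_isotypicComponents hnorm y.1 y.2 hc0
  have : Finite ↥(orb hnorm c0) := Finite.Set.subset _ hOIC
  obtain ⟨t, ht⟩ : ∃ t, t = Nat.card ↥(orb hnorm c0) := ⟨_, rfl⟩
  have e : ↥(orb hnorm c0) ≃ Fin t := ht ▸ Finite.equivFin ↥(orb hnorm c0)
  refine ⟨t, Module.finrank F (toF c0), fun i => toF (e.symm i).1, ?_, ?_, ?_, ?_, ?_⟩
  · -- decomposition
    refine ⟨?_, ?_, ?_, ?_, ?_⟩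
    · by_contra hlt
      have hlt' : t ≤ 1 := by omega
      have : Subsingleton (Fin t) := Fin.subsingleton_iff_le_one.mpr hlt'
      have hall : ∀ y : Y, tw hnorm y.1 y.2 c0 = c0 := by
        intro y
        have h1 : (⟨tw hnorm y.1 y.2 c0, ⟨y, rfl⟩⟩ : ↥(orb hnorm c0)) =
            ⟨c0, self_mem_orb hnorm c0⟩ :=
          e.injective (Subsingleton.elim _ _)
        exact congrArg Subtype.val h1
      apply hc0top
      rw [← top_le_iff, ← hsumc]
      exact iSup_le fun y => (hall y).le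
    · apply Nat.pos_of_ne_zero
      intro h0
      rw [Submodule.finrank_eq_zero, toF_eq_bot_iff] at h0
      exact (bot_lt_isotypicComponents hc0).ne' h0
    · intro i
      obtain ⟨y, hy⟩ := (e.symm i).2
      show Module.finrank F (toF (e.symm i).1) = _
      rw [hy, tw_apply, toF_twFun, finrank_map_gl]
    · have h1 : iSupIndep (fun i : Fin t => (e.symm i).1) := by
        have h2 := (sSupIndep_iff _).mp (sSupIndep_isotypicComponents ↥(Env X) (Fin n → F))
        have h3 := h2.comp (f := fun i : Fin t =>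
          (⟨(e.symm i).1, hOIC (e.symm i).2⟩ : ↥(isotypicComponents ↥(Env X) (Fin n → F)))) (by
            intro i j hij
            have : (e.symm i).1 = (e.symm j).1 := congrArg (fun z => z.1) hij
            exact e.symm.injective (Subtype.ext this))
        exact h3
      exact toF_iSupIndep _ h1
    · show (⨆ i, toF (e.symm i).1) = ⊤
      rw [← toF_iSup, toF_eq_top_iff, ← top_le_iff, ← hsumc]
      apply iSup_le
      intro y
      have := le_iSup (fun i : Fin t => (e.symm i).1) (e ⟨tw hnorm y.1 y.2 c0, ⟨y, rfl⟩⟩)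
      rw [Equiv.symm_apply_apply] at this
      exact this
  · -- the stabiliser
    intro y hy
    let g : ↥(orb hnorm c0) → ↥(orb hnorm c0) := fun c => ⟨tw hnorm y hy c.1, tw_mem_orb hnorm c0 c.2 y hy⟩
    have hginj : Function.Injective g := by
      intro c c' h
      have : tw hnorm y hy c.1 = tw hnorm y hy c'.1 := congrArg Subtype.val h
      exact Subtype.ext ((tw hnorm y hy).injective this)
    have hgbij : Function.Bijective g := Finite.injective_iff_bijective.mp hginj
    refine ⟨e.symm.trans ((Equiv.ofBijective g hgbij).trans e), fun i => ?_⟩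
    show (toF (e.symm i).1).map _ = toF (e.symm (e (g (e.symm i)))).1
    rw [Equiv.symm_apply_apply, ← toF_twFun hnorm y hy]
    rfl
  · intro T hT i
    have h1 : CenInv (e.symm i).1 := (isFullyInvariant_iff _).mp
      (Submodule.IsFullyInvariant.of_mem_isotypicComponents (hOIC (e.symm i).2))
    rintro _ ⟨v, hv, rfl⟩
    rw [Matrix.toLin'_apply]
    exact h1 T hT v hv
  · intro x hx i
    exact xInv_toF _ x hx
  · intro i j
    exact orb_trans hnorm c0 (e.symm i).2 (e.symm j).2

/-- CL (CLIFFORD, refined form).  `X ⊴ Y`, `Y` irreducible: either `V|_X` is homogeneous, or the homogeneous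
components form an `m`-decomposition permuted transitively by `Y`, each component being invariant under `X` and
under `Cen X`. -/
theorem clifford_aux {X Y : Subgroup (GL (Fin n) F)} (hn : 0 < n) (hirr : Irr Y) (hX : X ≤ Y)
    (hnorm : NormBy Y X) :
    Homog X ∨ ∃ (t m : ℕ) (D : Fin t → Submodule F (Fin n → F)), IsMDecomposition m D ∧
      Y ≤ decompositionStabilizer D ∧
      (∀ T : Matrix (Fin n) (Fin n) F, T ∈ Cen X → ∀ i, (D i).map (Matrix.toLin' T) ≤ D i) ∧
      (∀ x ∈ X, ∀ i, (D i).map (Matrix.toLin' (x : Matrix (Fin n) (Fin n) F)) ≤ D i) ∧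
      (∀ i j, ∃ y ∈ Y, (D i).map (Matrix.toLin' (y : Matrix (Fin n) (Fin n) F)) = D j) := by
  classical
  have : Nonempty (Fin n) := ⟨⟨0, hn⟩⟩
  have : Nontrivial (Fin n → F) := inferInstance
  have : Nontrivial (Submodule ↥(Env X) (Fin n → F)) :=
    (Submodule.nontrivial_iff ↥(Env X)).mpr inferInstance
  obtain ⟨S0, hS0⟩ := IsAtomic.exists_atom (Submodule ↥(Env X) (Fin n → F))
  have : IsSimpleModule ↥(Env X) S0 := isSimpleModule_iff_isAtom.mpr hS0
  -- the translates of `S0` span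
  have hsum : ⨆ y : Y, tw hnorm y.1 y.2 S0 = ⊤ := by
    have hinv : ∀ s ∈ matrixSet Y, (toF (⨆ y : Y, tw hnorm y.1 y.2 S0)).map (Matrix.toLin' s) ≤
        toF (⨆ y : Y, tw hnorm y.1 y.2 S0) := by
      rintro _ ⟨y', hy', rfl⟩
      rw [← toF_twFun hnorm y' hy', ← tw_apply, OrderIso.map_iSup]
      apply toF_mono
      apply iSup_le
      intro y
      rw [tw_apply, tw_apply, twFun_mul]
      exact le_iSup (fun y : Y => tw hnorm y.1 y.2 S0) ⟨y' * y.1, Y.mul_mem hy' y.2⟩
    rcases hirr _ hinv with h | h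
    · exfalso
      rw [toF_eq_bot_iff] at h
      have h1 : S0 ≤ ⨆ y : Y, tw hnorm y.1 y.2 S0 := by
        have := le_iSup (fun y : Y => tw hnorm y.1 y.2 S0) ⟨1, Y.one_mem⟩
        simpa only [tw_apply, twFun_one] using this
      rw [h] at h1
      exact hS0.1 (le_bot_iff.mp h1)
    · exact toF_eq_top_iff.mp h
  have : IsSemisimpleModule ↥(Env X) (Fin n → F) := by
    apply isSemisimpleModule_of_isSemisimpleModule_submodule' (p := fun y : Y => tw hnorm y.1 y.2 S0)
      _ hsum
    intro y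
    have : IsSimpleModule ↥(Env X) (tw hnorm y.1 y.2 S0) :=
      isSimpleModule_iff_isAtom.mpr ((OrderIso.isAtom_iff _ _).mpr hS0)
    infer_instance
  have hc0 : isotypicComponent ↥(Env X) (Fin n → F) S0 ∈ isotypicComponents ↥(Env X) (Fin n → F) :=
    ⟨S0, inferInstance, rfl⟩
  have hS0c0 : S0 ≤ isotypicComponent ↥(Env X) (Fin n → F) S0 := S0.le_isotypicComponent
  have hsumc : ⨆ y : Y, tw hnorm y.1 y.2 (isotypicComponent ↥(Env X) (Fin n → F) S0) = ⊤ := by
    rw [← top_le_iff, ← hsum]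
    exact iSup_mono fun y => (tw hnorm y.1 y.2).monotone hS0c0
  by_cases hc0top : isotypicComponent ↥(Env X) (Fin n → F) S0 = ⊤
  · exact Or.inl (homog_of_top S0 hS0 hc0top)
  · exact Or.inr (decomp_of_orb hnorm _ hc0 hsumc hc0top)

end main

end Cfsg.Agent.Lib.Helper15.AschLeaf

namespace Cfsg.Agent.Lib.Helper15.AschLeaf
open Matrix Cfsg.Geo Cfsg.Agent.Lib.Helper20.Asch

/-- CL (CLIFFORD, refined form), with the exact signature of `notes/S5630_A23_leaves.lean`. -/
theorem clifford {F : Type*} [Field F] [Fintype F] {n : ℕ} {X Y : Subgroup (GL (Fin n) F)}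
    (hn : 0 < n) (hirr : Irr Y) (hX : X ≤ Y) (hnorm : NormBy Y X) :
    Homog X ∨ ∃ (t m : ℕ) (D : Fin t → Submodule F (Fin n → F)), IsMDecomposition m D ∧
      Y ≤ decompositionStabilizer D ∧
      (∀ T : Matrix (Fin n) (Fin n) F, T ∈ Cen X → ∀ i, (D i).map (Matrix.toLin' T) ≤ D i) ∧
      (∀ x ∈ X, ∀ i, (D i).map (Matrix.toLin' (x : Matrix (Fin n) (Fin n) F)) ≤ D i) ∧
      (∀ i j, ∃ y ∈ Y, (D i).map (Matrix.toLin' (y : Matrix (Fin n) (Fin n) F)) = D j) :=
  clifford_aux hn hirr hX hnorm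

end Cfsg.Agent.Lib.Helper15.AschLeaf
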