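import Mathlib
import Cfsg.Agent.Lib.Helper20.AschDefs
import Cfsg.Agent.Lib.Helper18.AschA89Defs
import Cfsg.Agent.Lib.Helper27.AschO4

/-!
S5630, block (A89), sub-market F2 (sub-planner helper18): block (B) = from an invariant Gram matrix to class C8:
`geo_of_alt_gram`, `geo_of_symm_gram`.  Exact signatures of `notes/S5630_A89_F2_leaves.lean`.
(On helper27's `AschO4` toolkit `bf`, `bf_similar`, `symp_of_alt`, `quad_of_symm`.)
-/

set_option autoImplicit false
set_option linter.unusedSectionVars false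
set_option linter.unusedVariables false

namespace Cfsg.Agent.Lib.Helper15.AschLeaf
open Matrix Cfsg.Geo Cfsg.Agent.Lib.Helper20.Asch Cfsg.Agent.Lib.Helper18.AschA89
open Cfsg.Agent.Lib.Helper27.AschO4
open scoped Kronecker

variable {F : Type*} [Field F] [Fintype F] {n : ℕ} {H : Subgroup (GL (Fin n) F)}

/-- `2 ≠ 0` in a finite field of odd order -/
lemma two_ne_zero_of_odd_card (hodd : Odd (Fintype.card F)) : (2 : F) ≠ 0 := by
  intro h2
  obtain ⟨p, hp⟩ := CharP.exists F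
  have hp2 : p ∣ 2 := (CharP.cast_eq_zero_iff F p 2).mp (by exact_mod_cast h2)
  obtain ⟨k, hk, hcard⟩ := FiniteField.card F p
  have hpp : p.Prime := by
    have := hp
    exact CharP.char_is_prime F p
  have hp2' : p = 2 := (Nat.prime_dvd_prime_iff_eq hpp Nat.prime_two).mp hp2
  rw [hcard, hp2'] at hodd
  have : Even (2 ^ (k : ℕ)) := (Nat.even_pow.mpr ⟨even_two, k.ne_zero⟩)
  exact (Nat.not_odd_iff_even.mpr this) hodd

/-- F2-B1 (M): an invertible alternating Gram matrix all of whose `H`-translates are multiples of it puts `H` into the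
similarity group of the symplectic form `f u v := u ⬝ᵥ G *ᵥ v` (`Geo.of_C8s`). -/
theorem geo_of_alt_gram (G : Matrix (Fin n) (Fin n) F) (hdet : IsUnit G.det) (hskew : Gᵀ = -G)
    (halt : ∀ v : Fin n → F, v ⬝ᵥ G *ᵥ v = 0) (hev : Even n) (h4 : 4 ≤ n)
    (hH : ∀ g ∈ H, ∃ c : Fˣ, (g : Matrix (Fin n) (Fin n) F)ᵀ * G * (g : Matrix (Fin n) (Fin n) F) = (c : F) • G) :
    Geo H := by
  have hsymp : IsSymplecticForm (bf G) := symp_of_alt G halt hdet.ne_zero
  refine Geo.of_C8s _ hsymp hev h4 ?_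
  intro g hg
  obtain ⟨c, hc⟩ := hH g hg
  exact ⟨c, fun u v => bf_similar G _ _ hc u v⟩

/-- F2-B2 (M): an invertible symmetric Gram matrix, `|F|` odd: `Q v := v ⬝ᵥ G *ᵥ v` is a non-degenerate quadratic form
(`polar Q u v = 2 * (u ⬝ᵥ G *ᵥ v)`, `2 ≠ 0`) and `H ≤ quadSimilarityGroup Q` (`Geo.of_C8q`). -/
theorem geo_of_symm_gram (G : Matrix (Fin n) (Fin n) F) (hdet : IsUnit G.det) (hsymm : Gᵀ = G)
    (hodd : Odd (Fintype.card F)) (h3 : 3 ≤ n)
    (hH : ∀ g ∈ H, ∃ c : Fˣ, (g : Matrix (Fin n) (Fin n) F)ᵀ * G * (g : Matrix (Fin n) (Fin n) F) = (c : F) • G) :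
    Geo H := by
  have h2 : (2 : F) ≠ 0 := two_ne_zero_of_odd_card hodd
  have hQ := quad_of_symm G hsymm h2 hdet.ne_zero
  refine Geo.of_C8q _ hQ hodd h3 ?_
  intro g hg
  obtain ⟨c, hc⟩ := hH g hg
  exact ⟨c, fun v => bf_similar G _ _ hc v v⟩

end Cfsg.Agent.Lib.Helper15.AschLeaf
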