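import Mathlib
import Cfsg.Agent.Lib.Helper20.AschDefs
import Cfsg.Agent.Lib.Helper18.AschA89Defs

/-!
S5630, block (A89), sub-market F2 (sub-planner helper18): block (T) = transport of the form `J^{⊗ t}` to `F^n` along
`e`, `P`: `gramJ_similarity`, `gramJ_transpose`, `gramJ_det`, `gramJ_alternating`.
Exact signatures of `notes/S5630_A89_F2_leaves.lean`.
-/

set_option autoImplicit false
set_option linter.unusedSectionVars false
set_option linter.unusedVariables false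

namespace Cfsg.Agent.Lib.Helper15.AschLeaf
open Matrix Cfsg.Geo Cfsg.Agent.Lib.Helper20.Asch Cfsg.Agent.Lib.Helper18.AschA89
open scoped Kronecker

variable {F : Type*} [Field F] [Fintype F] {n : ℕ} {H : Subgroup (GL (Fin n) F)}

section tools
variable {κ : Type} [Fintype κ] [DecidableEq κ]

lemma f2_reindex_mul (e : Fin n ≃ κ) (M M' : Matrix κ κ F) :
    Matrix.reindex e.symm e.symm (M * M') =
      Matrix.reindex e.symm e.symm M * Matrix.reindex e.symm e.symm M' := by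
  simp only [Matrix.reindex_apply]
  rw [Matrix.submatrix_mul_equiv]

lemma f2_reindex_transpose (e : Fin n ≃ κ) (M : Matrix κ κ F) :
    (Matrix.reindex e.symm e.symm M)ᵀ = Matrix.reindex e.symm e.symm Mᵀ := by
  simp only [Matrix.reindex_apply]
  rfl

lemma f2_reindex_smul (e : Fin n ≃ κ) (c : F) (M : Matrix κ κ F) :
    Matrix.reindex e.symm e.symm (c • M) = c • Matrix.reindex e.symm e.symm M := by
  simp only [Matrix.reindex_apply]
  rfl

lemma f2_inv_mul (P : GL (Fin n) F) :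
    ((P⁻¹ : GL (Fin n) F) : Matrix (Fin n) (Fin n) F) * (P : Matrix (Fin n) (Fin n) F) = 1 := by
  rw [← Units.val_mul, inv_mul_cancel, Units.val_one]

lemma f2_glReindex_val (e : Fin n ≃ κ) (g₀ : GL κ F) :
    ((glReindex e.symm g₀ : GL (Fin n) F) : Matrix (Fin n) (Fin n) F) =
      Matrix.reindex e.symm e.symm (g₀ : Matrix κ κ F) := rfl

/-- the quadratic expression of a reindexed matrix -/
lemma f2_dot_reindex (e : Fin n ≃ κ) (M : Matrix κ κ F) (u : Fin n → F) :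
    u ⬝ᵥ Matrix.reindex e.symm e.symm M *ᵥ u = (u ∘ e.symm) ⬝ᵥ M *ᵥ (u ∘ e.symm) := by
  simp only [dotProduct, Matrix.mulVec, Matrix.reindex_apply, Matrix.submatrix_apply, Equiv.symm_symm,
    Function.comp_apply]
  rw [← e.symm.sum_comp]
  apply Finset.sum_congr rfl
  intro x _
  rw [Equiv.apply_symm_apply]
  congr 1
  rw [← e.symm.sum_comp]
  apply Finset.sum_congr rfl
  intro y _
  rw [Equiv.apply_symm_apply]

end tools

/-- F2-T1 (M): similarities of `Jt t` in the standard group become similarities of `gramJ e P` in `tensorWreathSubgroup 2 t e P`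
(`g = P * glReindex e.symm g₀ * P⁻¹`; pure matrix algebra with `Matrix.reindex`/`submatrix`, transpose and `P⁻¹ * P = 1`). -/
theorem gramJ_similarity {t : ℕ} (e : Fin n ≃ (Fin t → Fin 2)) (P : GL (Fin n) F)
    (hstd : ∀ g₀ ∈ tensorWreathStandard 2 t F, ∃ c : Fˣ,
      (g₀ : Matrix (Fin t → Fin 2) (Fin t → Fin 2) F)ᵀ * Jt t *
        (g₀ : Matrix (Fin t → Fin 2) (Fin t → Fin 2) F) = (c : F) • Jt t) :
    ∀ g ∈ tensorWreathSubgroup 2 t e P, ∃ c : Fˣ,
      (g : Matrix (Fin n) (Fin n) F)ᵀ * gramJ e P * (g : Matrix (Fin n) (Fin n) F) = (c : F) • gramJ e P := by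
  rintro g ⟨g₁, ⟨g₀, hg₀, rfl⟩, rfl⟩
  obtain ⟨c, hc⟩ := hstd g₀ hg₀
  refine ⟨c, ?_⟩
  have hg : ((MulAut.conj P).toMonoidHom ((glReindex e.symm).toMonoidHom g₀) : GL (Fin n) F).1 =
      (P : Matrix (Fin n) (Fin n) F) * Matrix.reindex e.symm e.symm (g₀ : Matrix _ _ F) *
        ((P⁻¹ : GL (Fin n) F) : Matrix (Fin n) (Fin n) F) := rfl
  rw [hg]
  unfold gramJ
  set Pm := (P : Matrix (Fin n) (Fin n) F) with hPm
  set Pi := ((P⁻¹ : GL (Fin n) F) : Matrix (Fin n) (Fin n) F) with hPi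
  set R := Matrix.reindex e.symm e.symm (g₀ : Matrix (Fin t → Fin 2) (Fin t → Fin 2) F) with hR
  set RJ := Matrix.reindex e.symm e.symm (Jt (F := F) t) with hRJ
  have h1 : Pi * Pm = 1 := f2_inv_mul P
  have h2 : Pmᵀ * Piᵀ = 1 := by rw [← Matrix.transpose_mul, h1, Matrix.transpose_one]
  have h3 : Rᵀ * RJ * R = (c : F) • RJ := by
    rw [hR, hRJ, f2_reindex_transpose, ← f2_reindex_mul, ← f2_reindex_mul, hc, f2_reindex_smul]
  calc (Pm * R * Pi)ᵀ * (Piᵀ * RJ * Pi) * (Pm * R * Pi)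
      = Piᵀ * Rᵀ * (Pmᵀ * Piᵀ) * RJ * (Pi * Pm) * R * Pi := by
        rw [Matrix.transpose_mul, Matrix.transpose_mul]
        simp only [mul_assoc]
    _ = Piᵀ * (Rᵀ * RJ * R) * Pi := by
        rw [h1, h2]
        simp only [mul_one, mul_assoc]
    _ = (c : F) • (Piᵀ * RJ * Pi) := by
        rw [h3, Matrix.mul_smul, Matrix.smul_mul]

/-- F2-T2a (S): transpose of the transported Gram matrix. -/
theorem gramJ_transpose {t : ℕ} (e : Fin n ≃ (Fin t → Fin 2)) (P : GL (Fin n) F) (ε : F)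
    (h : (Jt (F := F) t)ᵀ = ε • Jt t) : (gramJ e P)ᵀ = ε • gramJ e P := by
  unfold gramJ
  rw [Matrix.transpose_mul, Matrix.transpose_mul, Matrix.transpose_transpose, f2_reindex_transpose, h,
    f2_reindex_smul, Matrix.smul_mul, Matrix.mul_smul, mul_assoc]

/-- F2-T2b (S): the transported Gram matrix is invertible (`Matrix.det_mul`, `Matrix.det_reindex_self`, `det_transpose`). -/
theorem gramJ_det {t : ℕ} (e : Fin n ≃ (Fin t → Fin 2)) (P : GL (Fin n) F)
    (h : IsUnit (Jt (F := F) t).det) : IsUnit (gramJ e P).det := by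
  unfold gramJ
  rw [Matrix.det_mul, Matrix.det_mul, Matrix.det_transpose, Matrix.det_reindex_self]
  have hP : IsUnit ((P⁻¹ : GL (Fin n) F) : Matrix (Fin n) (Fin n) F).det := by
    rw [← Matrix.isUnit_iff_isUnit_det]
    exact (P⁻¹).isUnit
  exact (hP.mul h).mul hP

/-- F2-T2c (S-M): the transported form is alternating if `Jt t` is (`v ⬝ᵥ gramJ *ᵥ v = w ⬝ᵥ Jt *ᵥ w` for
`w = (P⁻¹ *ᵥ v) ∘ e.symm`). -/
theorem gramJ_alternating {t : ℕ} (e : Fin n ≃ (Fin t → Fin 2)) (P : GL (Fin n) F)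
    (h : ∀ w : (Fin t → Fin 2) → F, w ⬝ᵥ Jt t *ᵥ w = 0) (v : Fin n → F) :
    v ⬝ᵥ gramJ e P *ᵥ v = 0 := by
  unfold gramJ
  have h1 : v ⬝ᵥ (((P⁻¹ : GL (Fin n) F) : Matrix (Fin n) (Fin n) F)ᵀ *
      Matrix.reindex e.symm e.symm (Jt (F := F) t) *
      ((P⁻¹ : GL (Fin n) F) : Matrix (Fin n) (Fin n) F)) *ᵥ v =
      (((P⁻¹ : GL (Fin n) F) : Matrix (Fin n) (Fin n) F) *ᵥ v) ⬝ᵥ
        Matrix.reindex e.symm e.symm (Jt (F := F) t) *ᵥ
          (((P⁻¹ : GL (Fin n) F) : Matrix (Fin n) (Fin n) F) *ᵥ v) := by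
    rw [← Matrix.mulVec_mulVec, ← Matrix.mulVec_mulVec, Matrix.dotProduct_mulVec, Matrix.vecMul_transpose]
  rw [h1, f2_dot_reindex]
  exact h _

end Cfsg.Agent.Lib.Helper15.AschLeaf
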