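import Mathlib
import Cfsg.Agent.Lib.Helper20.AschA89Main

/-!
[PRF] data for the form-carrying versions of Aschbacher's theorem (S5662 / S5663 / S5673):
`wreath_data` = `Helper20.AschA89Asm.wreath_of_cfam` exporting in addition `Env (Nf i) = conjR e P (slot i M_m(F))`
(same proof text), and `prf_data` = the `core` of the perfect case up to (and excluding) the choice of a geometric class.
-/

set_option autoImplicit false
set_option linter.unusedSectionVars false
set_option linter.unusedVariables false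

namespace Cfsg.Agent.Lib.Helper15.AschPRF
open Matrix Cfsg.Geo Cfsg.Agent.Lib.Helper20.Asch Cfsg.Agent.Lib.Helper18.AschA89
open scoped Kronecker
open Cfsg.Agent.Lib.Helper15.AschLeaf (clifford)
open Cfsg.Agent.Lib.Helper20.AschLeaf (tensor_of_homog mem_tensorWreathStandard_of_perm)
open Cfsg.Agent.Lib.Helper29.AschLeaf (scalar_of_tensor_one)
open Cfsg.Agent.Lib.Helper14.AschLeaf (simple_of_core exists_minNS_le minNS_cj minNS_comm_mod iSup_cj_eq minNS_perfect commute_of_comm_mod cfam_of_conjugates)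
open Cfsg.Agent.Lib.Helper28.AschLeaf (homog_of_cfam isUnits_conjR conjR_kron_eq_sum isUnits_conj env_cj env_cj_inv env_commute irr_units_of_cfam slot_eq_sum mem_tensorWreath_of_perm)
open Cfsg.Agent.Lib.Helper4.AschLeaf (zcen_scalar_of_cfam)
open Cfsg.Agent.Lib.Helper20.AschA89Asm (cfam_exists product_system)

variable {F : Type*} [Field F] [Fintype F] {n : ℕ} {H N : Subgroup (GL (Fin n) F)}

/-- LIN with data: the tensor wreath structure, together with `Env (Nf i) = conjR e P (slot i (M_m(F)))`. -/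
theorem wreath_data (hn : 3 ≤ n) {r : ℕ} {Nf : Fin r → Subgroup (GL (Fin n) F)}
    (hfam : CFam H N r Nf) (habs : AbsIrr N) :
    ∃ (m : ℕ) (e : Fin n ≃ (Fin r → Fin m)) (P : GL (Fin n) F),
      2 ≤ m ∧ H ≤ tensorWreathSubgroup m r e P ∧
      (∀ i, ∀ A : Matrix (Fin m) (Fin m) F, conjR e P (slot m r i A) ∈ Env (Nf i)) ∧
      (∀ i, ∀ T ∈ Env (Nf i), ∃ A : Matrix (Fin m) (Fin m) F, T = conjR e P (slot m r i A)) := by
  have hn0 : 0 < n := by omega
  have hr : 0 < r := by have := hfam.two_le; omega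
  let i₀ : Fin r := ⟨0, hr⟩
  have hirrN : Irr N := habs.1
  obtain ⟨s, k, e₁, P₁, h1, h2⟩ :=
    tensor_of_homog hn0 (homog_of_cfam hn0 hfam hirrN i₀
      (clifford hn0 hirrN (hfam.le i₀) (hfam.normN i₀))) (zcen_scalar_of_cfam hfam habs i₀)
  choose hs hsH hsc using fun i => hfam.trans i₀ i
  let U : Fin s → Fin s → Matrix (Fin n) (Fin n) F := fun a b =>
    conjR e₁ P₁ (Matrix.single a b (1 : F) ⊗ₖ (1 : Matrix (Fin k) (Fin k) F))
  let E : Fin r → Fin s → Fin s → Matrix (Fin n) (Fin n) F := fun i a b =>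
    ((hs i : GL (Fin n) F) : Matrix (Fin n) (Fin n) F) * U a b *
      (((hs i)⁻¹ : GL (Fin n) F) : Matrix (Fin n) (Fin n) F)
  have hU : IsUnits U := isUnits_conjR e₁ P₁
  have hEmem : ∀ i a b, E i a b ∈ Env (Nf i) := by
    intro i a b
    rw [← hsc i]
    exact env_cj (hs i) (Nf i₀) _ (h1 _)
  have hval : ∀ i, ((hs i : GL (Fin n) F) : Matrix (Fin n) (Fin n) F) *
      (((hs i)⁻¹ : GL (Fin n) F) : Matrix (Fin n) (Fin n) F) = 1 := by
    intro i
    rw [← Units.val_mul, mul_inv_cancel, Units.val_one]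
  have hspan : ∀ i, ∀ T ∈ Env (Nf i), ∃ A : Matrix (Fin s) (Fin s) F,
      T = ∑ a, ∑ b, A a b • E i a b := by
    intro i T hT
    rw [← hsc i] at hT
    obtain ⟨A, hA⟩ := h2 _ (env_cj_inv (hs i) (Nf i₀) T hT)
    refine ⟨A, ?_⟩
    have h3 : T = ((hs i : GL (Fin n) F) : Matrix (Fin n) (Fin n) F) *
        ((((hs i)⁻¹ : GL (Fin n) F) : Matrix (Fin n) (Fin n) F) * T *
          ((hs i : GL (Fin n) F) : Matrix (Fin n) (Fin n) F)) *
        (((hs i)⁻¹ : GL (Fin n) F) : Matrix (Fin n) (Fin n) F) := by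
      rw [← mul_assoc, ← mul_assoc, hval i, one_mul, mul_assoc, hval i, mul_one]
    rw [h3, hA, conjR_kron_eq_sum]
    simp only [E, U, Finset.mul_sum, Finset.sum_mul, Matrix.mul_smul, Matrix.smul_mul]
  have hEunits : IsCommUnits E := by
    refine ⟨fun i => isUnits_conj U hU (hs i), ?_⟩
    intro i j hij a b c d
    exact env_commute (hfam.comm i j hij) _ (hEmem i a b) _ (hEmem j c d)
  obtain ⟨e, P, hEP⟩ := product_system hn0 E hEunits (irr_units_of_cfam hfam hirrN E hspan)
  -- Env (Nf i) = slot i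
  have hslot_mem : ∀ i, ∀ A : Matrix (Fin s) (Fin s) F, conjR e P (slot s r i A) ∈ Env (Nf i) := by
    intro i A
    rw [slot_eq_sum, ← Finset.sum_comm]
    have : conjR e P (∑ b, ∑ a, A a b • slot s r i (Matrix.single a b (1 : F))) =
        ∑ b, ∑ a, A a b • E i a b := by
      have hadd : ∀ (ι : Type) (t : Finset ι) (f : ι → Matrix (Fin r → Fin s) (Fin r → Fin s) F),
          conjR e P (∑ x ∈ t, f x) = ∑ x ∈ t, conjR e P (f x) := by
        intro ι t f
        classical
        induction t using Finset.induction_on with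
        | empty =>
          simp only [Finset.sum_empty]
          have := conjR_smul e P (0 : F) (0 : Matrix (Fin r → Fin s) (Fin r → Fin s) F)
          simpa using this
        | insert a t ha ih => rw [Finset.sum_insert ha, Finset.sum_insert ha, conjR_add, ih]
      rw [hadd]
      refine Finset.sum_congr rfl fun b _ => ?_
      rw [hadd]
      refine Finset.sum_congr rfl fun a _ => ?_
      rw [conjR_smul, hEP]
    rw [this]
    refine Subalgebra.sum_mem _ fun b _ => Subalgebra.sum_mem _ fun a _ => ?_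
    exact Subalgebra.smul_mem _ (hEmem i a b) _
  have hslot_of : ∀ i, ∀ T ∈ Env (Nf i), ∃ A : Matrix (Fin s) (Fin s) F,
      T = conjR e P (slot s r i A) := by
    intro i T hT
    obtain ⟨A, hA⟩ := hspan i T hT
    refine ⟨A, ?_⟩
    rw [hA, slot_eq_sum]
    have hadd : ∀ (ι : Type) (t : Finset ι) (f : ι → Matrix (Fin r → Fin s) (Fin r → Fin s) F),
        conjR e P (∑ x ∈ t, f x) = ∑ x ∈ t, conjR e P (f x) := by
      intro ι t f
      classical
      induction t using Finset.induction_on with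
      | empty =>
        simp only [Finset.sum_empty]
        have := conjR_smul e P (0 : F) (0 : Matrix (Fin r → Fin s) (Fin r → Fin s) F)
        simpa using this
      | insert a t ha ih => rw [Finset.sum_insert ha, Finset.sum_insert ha, conjR_add, ih]
    rw [hadd]
    refine Finset.sum_congr rfl fun a _ => ?_
    rw [hadd]
    refine Finset.sum_congr rfl fun b _ => ?_
    rw [conjR_smul, hEP]
  -- s ≥ 2
  have hs2 : 2 ≤ s := by
    by_contra hlt
    have hs01 : s = 0 ∨ s = 1 := by omega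
    rcases hs01 with h0 | h1'
    · subst h0
      have hcard := Fintype.card_congr e₁
      simp at hcard
      omega
    · subst h1'
      exact hfam.ns i₀ (scalar_of_tensor_one e₁ P₁ h2)
  refine ⟨s, e, P, hs2, ?_, hslot_mem, hslot_of⟩
  intro h hh
  obtain ⟨σ, hσ⟩ := hfam.perm h hh
  apply mem_tensorWreath_of_perm e P h σ
    (fun g₀ hg₀ => mem_tensorWreathStandard_of_perm hr g₀ σ hg₀)
  intro i A
  have h4 := env_cj h (Nf i) _ (hslot_mem i A)
  rw [hσ i] at h4
  exact hslot_of (σ i) _ h4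


/-- SIMP, for an arbitrary conclusion `C` (proof text of `Helper14.AschLeaf.simple_of_core`) -/
theorem simple_of_core' {C : Prop} (hns : ¬ N ≤ scalars (Fin n) F)
    (hcore : ∀ K : Subgroup (GL (Fin n) F), K ≤ N → NormBy N K → ¬ K ≤ scalars (Fin n) F → K ≠ N → C) :
    C ∨ IsSimpleGroup (N ⧸ (scalars (Fin n) F).subgroupOf N) := by
  classical
  by_cases hG : C
  · exact Or.inl hG
  right
  have hall : ∀ K : Subgroup (GL (Fin n) F), K ≤ N → NormBy N K → K ≤ scalars (Fin n) F ∨ K = N := by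
    intro K hK hKn
    by_contra hcon
    push Not at hcon
    exact hG (hcore K hK hKn hcon.1 hcon.2)
  have hnt : Nontrivial (N ⧸ (scalars (Fin n) F).subgroupOf N) := by
    by_contra hcon
    rw [not_nontrivial_iff_subsingleton] at hcon
    have h1 := QuotientGroup.subgroup_eq_top_of_subsingleton _ hcon
    rw [Subgroup.subgroupOf_eq_top] at h1
    exact hns h1
  refine { toNontrivial := hnt, eq_bot_or_eq_top_of_normal := ?_ }
  intro Kb hKb
  obtain ⟨K', hK'def⟩ : ∃ K' : Subgroup N,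
      K' = Kb.comap (QuotientGroup.mk' ((scalars (Fin n) F).subgroupOf N)) := ⟨_, rfl⟩
  have hK'mem : ∀ x : N, x ∈ K' ↔
      (QuotientGroup.mk x : N ⧸ (scalars (Fin n) F).subgroupOf N) ∈ Kb := by
    intro x
    rw [hK'def]
    rfl
  have hK'n : K'.Normal := by
    rw [hK'def]
    exact Subgroup.Normal.comap hKb _
  obtain ⟨K, hKdef⟩ : ∃ K : Subgroup (GL (Fin n) F), K = K'.map N.subtype := ⟨_, rfl⟩
  have hKN : K ≤ N := by rw [hKdef]; exact Subgroup.map_subtype_le K'
  have hKmem : ∀ x : N, (x : GL (Fin n) F) ∈ K ↔ x ∈ K' := by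
    intro x
    rw [hKdef]
    constructor
    · rintro ⟨x'', hx'', hxx⟩
      have : x'' = x := Subtype.ext hxx
      rwa [this] at hx''
    · intro hx
      exact ⟨x, hx, rfl⟩
  have hKnorm : NormBy N K := by
    intro y hy x hx
    have hxN : x ∈ N := hKN hx
    have h1 : (⟨x, hxN⟩ : N) ∈ K' := (hKmem ⟨x, hxN⟩).1 hx
    have h2 := hK'n.conj_mem ⟨x, hxN⟩ h1 ⟨y, hy⟩
    exact (hKmem _).2 h2
  rcases hall K hKN hKnorm with h1 | h1
  · left
    rw [eq_bot_iff]
    intro q hq
    obtain ⟨x', rfl⟩ := QuotientGroup.mk_surjective q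
    have hx' : x' ∈ K' := (hK'mem x').2 hq
    have h2 : (x' : GL (Fin n) F) ∈ scalars (Fin n) F := h1 ((hKmem x').2 hx')
    rw [Subgroup.mem_bot, QuotientGroup.eq_one_iff]
    exact h2
  · right
    rw [eq_top_iff]
    intro q _
    obtain ⟨x', rfl⟩ := QuotientGroup.mk_surjective q
    have h2 : (x' : GL (Fin n) F) ∈ K := h1 ▸ x'.2
    exact (hK'mem x').1 ((hKmem x').1 h2)


/-- the data of the perfect case: a proper non-scalar `N`-normal subgroup `K` of `N` yields a commuting family `Nf` with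
`N = ∏ Nf i`, permuted transitively by `H`, and a tensor-power basis `(e, P)` with `Env (Nf i) = slot i`. -/
theorem prf_data (hn : 3 ≤ n) (habs : AbsIrr N) (hnorm : NormBy H N)
    (hns : ¬ N ≤ scalars (Fin n) F)
    (hmin : ∀ M : Subgroup (GL (Fin n) F), M ≤ N → NormBy H M → M = N ∨ M ≤ scalars (Fin n) F)
    (hperf : ⁅N, N⁆ = N) (K : Subgroup (GL (Fin n) F)) (hK : K ≤ N) (hKn : NormBy N K)
    (hKs : ¬ K ≤ scalars (Fin n) F) (hKN : K ≠ N) :
    ∃ (r : ℕ) (Nf : Fin r → Subgroup (GL (Fin n) F)) (m : ℕ) (e : Fin n ≃ (Fin r → Fin m)) (P : GL (Fin n) F),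
      CFam H N r Nf ∧ 2 ≤ m ∧ H ≤ tensorWreathSubgroup m r e P ∧
      (∀ i, ∀ A : Matrix (Fin m) (Fin m) F, conjR e P (slot m r i A) ∈ Env (Nf i)) ∧
      (∀ i, ∀ T ∈ Env (Nf i), ∃ A : Matrix (Fin m) (Fin m) F, T = conjR e P (slot m r i A)) := by
  obtain ⟨M, hMK, hM⟩ := exists_minNS_le K hK hKn hKs
  have hMN : M ≠ N := by
    rintro rfl
    exact hKN (le_antisymm hK hMK)
  obtain ⟨r, Nf, hfam⟩ := cfam_exists hnorm hns hmin hperf hM hMN
  obtain ⟨m, e, P, hm, hH, h1, h2⟩ := wreath_data hn hfam habs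
  exact ⟨r, Nf, m, e, P, hfam, hm, hH, h1, h2⟩

/-- the perfect case, generic shape: if every configuration `prf_data` is excluded (`hcore`), `N` is simple modulo scalars -/
theorem simple_of_prf_data (hn : 3 ≤ n) (habs : AbsIrr N) (hnorm : NormBy H N)
    (hns : ¬ N ≤ scalars (Fin n) F)
    (hmin : ∀ M : Subgroup (GL (Fin n) F), M ≤ N → NormBy H M → M = N ∨ M ≤ scalars (Fin n) F)
    (hperf : ⁅N, N⁆ = N) {C : Prop}
    (hcore : ∀ (r : ℕ) (Nf : Fin r → Subgroup (GL (Fin n) F)) (m : ℕ) (e : Fin n ≃ (Fin r → Fin m))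
      (P : GL (Fin n) F), CFam H N r Nf → 2 ≤ m → H ≤ tensorWreathSubgroup m r e P →
      (∀ i, ∀ A : Matrix (Fin m) (Fin m) F, conjR e P (slot m r i A) ∈ Env (Nf i)) →
      (∀ i, ∀ T ∈ Env (Nf i), ∃ A : Matrix (Fin m) (Fin m) F, T = conjR e P (slot m r i A)) → C) :
    C ∨ IsSimpleGroup (N ⧸ (scalars (Fin n) F).subgroupOf N) :=
  simple_of_core' hns fun K hK hKn hKs hKN => by
    obtain ⟨r, Nf, m, e, P, hfam, hm, hH, h1, h2⟩ :=
      prf_data hn habs hnorm hns hmin hperf K hK hKn hKs hKN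
    exact hcore r Nf m e P hfam hm hH h1 h2

end Cfsg.Agent.Lib.Helper15.AschPRF
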