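import Mathlib
import Cfsg.Agent.Lib.Helper20.AschDefs
import Cfsg.Agent.Lib.Helper24.AschA7Defs

/-!
S5630 (Aschbacher, helper20), block (A7) (sub-planner helper24): block NT = finite fields and arithmetic
(NT1 .. NT5), exact signatures of `notes/S5630_A7_leaves.lean`.
-/

set_option autoImplicit false
set_option linter.unusedSectionVars false
set_option linter.unusedVariables false

namespace Cfsg.Agent.Lib.Helper15.AschA7Leaf
open Matrix Cfsg.Geo Cfsg.Agent.Lib.Helper20.Asch Cfsg.Agent.Lib.Helper24.AschA7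
open scoped Kronecker commutatorElement

variable {F : Type*} [Field F] [Fintype F] {n : ℕ} {H N : Subgroup (GL (Fin n) F)}

/-- in a field with `p ^ e` elements not every element is fixed by `x ↦ x ^ (p ^ d)`, `0 < d < e` -/
theorem exists_pow_ne {p e d : ℕ} (hp : p.Prime) (hcard : Fintype.card F = p ^ e) (hd0 : 0 < d)
    (hde : d < e) : ∃ x : F, x ^ (p ^ d) ≠ x := by
  classical
  by_contra hcon
  push Not at hcon
  obtain ⟨g, hg⟩ := IsCyclic.exists_generator (α := Fˣ)
  have hord : orderOf g = p ^ e - 1 := by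
    rw [orderOf_eq_card_of_forall_mem_zpowers hg, Nat.card_eq_fintype_card, Fintype.card_units, hcard]
  have h1 : g ^ (p ^ d - 1) = 1 := by
    have h2 : ((g : F)) ^ (p ^ d) = g := hcon g
    have hpd : 1 ≤ p ^ d := Nat.one_le_pow _ _ hp.pos
    have h3 : (g : F) ^ (p ^ d - 1) * g = 1 * g := by
      rw [← pow_succ, Nat.sub_add_cancel hpd, one_mul, h2]
    have h4 : (g : F) ^ (p ^ d - 1) = 1 := mul_right_cancel₀ g.ne_zero h3
    apply Units.ext
    rw [Units.val_pow_eq_pow_val, h4, Units.val_one]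
  have h5 := orderOf_dvd_of_pow_eq_one h1
  rw [hord] at h5
  have h6 : p ^ d < p ^ e := Nat.pow_lt_pow_right hp.one_lt hde
  have h7 : 2 ≤ p ^ d := by
    calc 2 ≤ p := hp.two_le
      _ = p ^ 1 := (pow_one p).symm
      _ ≤ p ^ d := Nat.pow_le_pow_right hp.pos hd0
  have h8 := Nat.le_of_dvd (by omega) h5
  omega

/-- NT1.  `F₀ = {x | x ^ (p ^ d) = x}` (fixed field of a power of Frobenius): it has at most `p ^ d < |F|` elements and
contains every `c` with `c ^ z = 1` (`z ∣ p ^ d - 1`). -/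
theorem exists_proper_subfield {p e d z : ℕ} (hp : p.Prime) (hchar : CharP F p) (hcard : Fintype.card F = p ^ e)
    (hd0 : 0 < d) (hde : d < e) (hz : z ∣ p ^ d - 1) :
    ∃ F₀ : Subfield F, F₀ ≠ ⊤ ∧ ∀ c : F, c ^ z = 1 → c ∈ F₀ := by
  have : Fact p.Prime := ⟨hp⟩
  have := hchar
  refine ⟨(iterateFrobenius F p d).eqLocusField (RingHom.id F), ?_, ?_⟩
  · intro htop
    obtain ⟨x, hx⟩ := exists_pow_ne hp hcard hd0 hde
    have : x ∈ (iterateFrobenius F p d).eqLocusField (RingHom.id F) := by rw [htop]; trivial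
    apply hx
    have h2 : iterateFrobenius F p d x = RingHom.id F x := this
    rwa [iterateFrobenius_def, RingHom.id_apply] at h2
  · intro c hc
    show iterateFrobenius F p d c = RingHom.id F c
    rw [iterateFrobenius_def, RingHom.id_apply]
    obtain ⟨k, hk⟩ := hz
    have hpd : 1 ≤ p ^ d := Nat.one_le_pow _ _ hp.pos
    have h1 : c ^ (p ^ d - 1) = 1 := by rw [hk, pow_mul, hc, one_pow]
    calc c ^ (p ^ d) = c ^ (p ^ d - 1 + 1) := by rw [Nat.sub_add_cancel hpd]
      _ = c := by rw [pow_succ, h1, one_mul]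

/-- NT2.  `σ = Frobenius ^ k`. -/
theorem exists_half_frobenius {p k : ℕ} (hp : p.Prime) (hchar : CharP F p) (hk : 0 < k)
    (hcard : Fintype.card F = p ^ (2 * k)) :
    ∃ σ : F ≃+* F, σ ≠ RingEquiv.refl F ∧ (∀ a : F, σ (σ a) = a) ∧ ∀ a : F, σ a = a ^ (p ^ k) := by
  have : Fact p.Prime := ⟨hp⟩
  have := hchar
  have hinj : Function.Injective (iterateFrobenius F p k) := (iterateFrobenius F p k).injective
  have hbij : Function.Bijective (iterateFrobenius F p k) :=
    ⟨hinj, Finite.injective_iff_surjective.mp hinj⟩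
  have hσ : ∀ a : F, RingEquiv.ofBijective (iterateFrobenius F p k) hbij a = a ^ (p ^ k) := by
    intro a
    rw [RingEquiv.ofBijective_apply, iterateFrobenius_def]
  refine ⟨RingEquiv.ofBijective (iterateFrobenius F p k) hbij, ?_, ?_, hσ⟩
  · intro h
    obtain ⟨x, hx⟩ := exists_pow_ne (F := F) hp hcard hk (by omega : k < 2 * k)
    apply hx
    rw [← hσ x, h, RingEquiv.refl_apply]
  · intro a
    rw [hσ, hσ, ← pow_mul, ← pow_add, ← two_mul, ← hcard, FiniteField.pow_card]

/-- NT3.  `p^(2k) - 1 = (p^k - 1)(p^k + 1)`; for `z = 4`: `p` is odd and 4 divides exactly one of two consecutive even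
numbers. -/
theorem dvd_pow_add_one {p k z : ℕ} (hp : p.Prime) (hz : z.Prime ∨ z = 4) (h1 : z ∣ p ^ (2 * k) - 1)
    (h2 : ¬ z ∣ p ^ k - 1) : z ∣ p ^ k + 1 := by
  obtain ⟨a, ha⟩ : ∃ a, a = p ^ k := ⟨_, rfl⟩
  have ha1 : 1 ≤ a := by rw [ha]; exact Nat.one_le_pow _ _ hp.pos
  have hsq : p ^ (2 * k) = a * a := by rw [ha, two_mul, pow_add]
  rw [hsq] at h1
  rw [← ha] at h2 ⊢
  have hfac : a * a - 1 = (a - 1) * (a + 1) := by
    obtain ⟨b, rfl⟩ : ∃ b, a = b + 1 := ⟨a - 1, by omega⟩
    rw [Nat.add_sub_cancel]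
    have : (b + 1) * (b + 1) = b * (b + 1 + 1) + 1 := by ring
    rw [this, Nat.add_sub_cancel]
  rcases hz with hz | hz
  · rw [hfac] at h1
    rcases (Nat.Prime.dvd_mul hz).mp h1 with h | h
    · exact absurd h h2
    · exact h
  · subst hz
    have hm := Nat.mul_mod a a 4
    have hlt : a % 4 < 4 := Nat.mod_lt _ (by norm_num)
    have haa : 1 ≤ a * a := Nat.mul_pos ha1 ha1
    have h3 : (a * a) % 4 = 1 := by omega
    have h4 : a % 4 ≠ 1 := by
      intro h
      apply h2
      omega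
    have h5 : a % 4 = 3 := by
      interval_cases hr : a % 4
      · simp at hm; omega
      · exact absurd rfl h4
      · simp at hm; omega
      · rfl
    omega

/-- NT4.  `p` is odd; if `e ≥ 3` then `d = 2` contradicts minimality (`4 ∣ p² - 1`). -/
theorem e_eq_one_of_four {p e : ℕ} (h : IsMinimalFieldFor 4 p e F) (hodd : Odd e) : e = 1 := by
  obtain ⟨hp, hchar, hcard, hdvd, hmin⟩ := h
  by_contra hne
  obtain ⟨m, hm⟩ := hodd
  have he3 : 3 ≤ e := by omega
  have hpodd : p % 2 = 1 := by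
    rcases hp.eq_two_or_odd with h2 | h2
    · exfalso
      subst h2
      have h1 : 2 ^ e = 2 * 2 ^ (e - 1) := by
        rw [← pow_succ']
        congr 1
        omega
      have h3 : 1 ≤ 2 ^ (e - 1) := Nat.one_le_pow _ _ (by norm_num)
      omega
    · exact h2
  apply hmin 2 (by norm_num) (by omega)
  have hm4 := Nat.mul_mod p p 4
  have hlt : p % 4 < 4 := Nat.mod_lt _ (by norm_num)
  have h5 : (p * p) % 4 = 1 := by
    have h6 : p % 4 = 1 ∨ p % 4 = 3 := by omega
    rcases h6 with h6 | h6 <;> rw [h6] at hm4 <;> simpa using hm4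
  have h7 : 1 ≤ p * p := Nat.mul_pos hp.pos hp.pos
  rw [pow_two]
  omega

/-- NT5. -/
theorem four_le_of_sq {n m : ℕ} (h : n * n = 2 ^ (2 * m)) (hn : 3 ≤ n) : 4 ≤ n := by
  by_contra hlt
  have h3 : n = 3 := by omega
  subst h3
  rcases Nat.eq_zero_or_pos m with h0 | h0
  · subst h0
    norm_num at h
  · have h1 : 2 ^ (2 * m) = 2 * 2 ^ (2 * m - 1) := by
      rw [← pow_succ']
      congr 1
      omega
    omega

end Cfsg.Agent.Lib.Helper15.AschA7Leaf
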