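import Mathlib
import Cfsg.Prelude.Def_GeometricClasses
import Cfsg.Agent.Lib.Helper20.AschDefs
import Cfsg.Agent.Lib.Helper7.AschForms
import Cfsg.Agent.Lib.Helper15.AschA7NT
import Cfsg.Agent.Lib.Helper15.AschFormDefs

/-!
S5663 (Aschbacher's theorem for `GU_n(q)`): unitary definitions.
`GeoU q H` (`H` lies in a member of `InUnitaryClass n F q`), constructors `GeoU.of_*`, the Frobenius `σ a = a ^ q` as a ring
hom (`exists_sigma`), and `hermForm n F q` as an `RForm σ 1`.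
-/

set_option autoImplicit false
set_option linter.unusedSectionVars false
set_option linter.unusedVariables false

namespace Cfsg.Agent.Lib.Helper15.AschU
open Matrix Cfsg.Geo Cfsg.Agent.Lib.Helper20.Asch Cfsg.Agent.Lib.Helper7.AschLeaf
open Cfsg.Agent.Lib.Helper15.AschForm

variable {F : Type*} [Field F] [Fintype F] {n : ℕ}

/-- `H` lies in a member of one of the geometric classes of `GU_n(q)` -/
def GeoU (q : ℕ) (H : Subgroup (GL (Fin n) F)) : Prop :=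
  ∃ M : Subgroup (GL (Fin n) F), InUnitaryClass n F q M ∧ H ≤ M

/-- `|F| = q²`: the involution `a ↦ a ^ q` -/
theorem exists_sigma {q : ℕ} (hF : Fintype.card F = q ^ 2) :
    ∃ σ : F ≃+* F, σ ≠ RingEquiv.refl F ∧ (∀ a : F, σ (σ a) = a) ∧ ∀ a : F, σ a = a ^ q := by
  obtain ⟨p, hchar⟩ := CharP.exists F
  have hp : p.Prime := by
    have := CharP.char_is_prime_or_zero F p
    rcases this with h | h
    · exact h
    · exfalso
      subst h
      have : CharZero F := CharP.charP_to_charZero F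
      exact not_finite F
  have : Fact p.Prime := ⟨hp⟩
  obtain ⟨e, he, hcard⟩ : ∃ e : ℕ, 0 < e ∧ Fintype.card F = p ^ e := by
    obtain ⟨e, he⟩ := FiniteField.card F p
    exact ⟨e, e.2, he.2⟩
  have hq : q ∣ p ^ e := by
    rw [← hcard, hF]
    exact dvd_pow_self q (by norm_num)
  obtain ⟨k, _, rfl⟩ := (Nat.dvd_prime_pow hp).mp hq
  have hek : e = 2 * k := by
    have h1 : p ^ e = p ^ (k * 2) := by rw [← hcard, hF, pow_mul]
    have := Nat.pow_right_injective hp.two_le h1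
    omega
  subst hek
  exact Cfsg.Agent.Lib.Helper15.AschA7Leaf.exists_half_frobenius hp hchar (by omega) hcard

/-- `hermForm` is a `1`-hermitian `σ`-sesquilinear form -/
theorem hermForm_rform {q : ℕ} (σ : F ≃+* F) (hinv : ∀ a : F, σ (σ a) = a) (hσ : ∀ a : F, σ a = a ^ q) :
    RForm (σ : F →+* F) 1 (hermForm n F q) := by
  classical
  have hσ' : ∀ a : F, (σ : F →+* F) a = a ^ q := hσ
  refine ⟨?_, ?_, ?_, ?_, ?_, ?_, ?_⟩
  · intro x y v
    simp only [hermForm, Pi.add_apply, add_mul, Finset.sum_add_distrib]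
  · intro c x v
    simp only [hermForm, Pi.smul_apply, smul_eq_mul, Finset.mul_sum, mul_assoc]
  · intro v x y
    simp only [hermForm, Pi.add_apply, ← hσ', map_add, mul_add, Finset.sum_add_distrib]
  · intro c v x
    simp only [hermForm, Pi.smul_apply, smul_eq_mul, ← hσ', map_mul, Finset.mul_sum]
    apply Finset.sum_congr rfl
    intro i _
    ring
  · exact hinv
  · intro u v
    simp only [hermForm, one_mul, map_sum, map_mul]
    apply Finset.sum_congr rfl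
    intro i _
    rw [← hσ', ← hσ' (v i)]
    have : (σ : F →+* F) ((σ : F →+* F) (v i)) = v i := hinv (v i)
    rw [this, mul_comm]
  · have hq0 : q ≠ 0 := by
      intro h0
      have := hσ 0
      rw [map_zero, h0, pow_zero] at this
      exact zero_ne_one this
    intro v hv
    obtain ⟨i, hi⟩ : ∃ i, v i ≠ 0 := by
      by_contra h
      push Not at h
      exact hv (funext h)
    refine ⟨⟨Pi.single i 1, ?_⟩, ⟨Pi.single i 1, ?_⟩⟩
    · simp only [hermForm]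
      rw [Finset.sum_eq_single i]
      · simp only [Pi.single_eq_same, one_mul]
        exact pow_ne_zero _ hi
      · intro j _ hj
        simp [hj]
      · intro h; exact absurd (Finset.mem_univ i) h
    · simp only [hermForm]
      rw [Finset.sum_eq_single i]
      · simp only [Pi.single_eq_same, one_pow, mul_one]
        exact hi
      · intro j _ hj
        simp [hj, hq0]
      · intro h; exact absurd (Finset.mem_univ i) h


/-! ### constructors of `GeoU` (one per clause of `InUnitaryClass`) -/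

section ctor
variable {q : ℕ} {H : Subgroup (GL (Fin n) F)}

lemma GeoU.of_ts (W : Submodule F (Fin n → F)) (h0 : W ≠ ⊥)
    (hts : IsTotallySingularFor (hermForm n F q) W)
    (hH : H ≤ subspaceStabilizer W ⊓ Cfsg.GU n F q) : GeoU q H :=
  ⟨_, Or.inl (Or.inl ⟨W, h0, hts, rfl⟩), hH⟩

lemma GeoU.of_nd (W : Submodule F (Fin n → F)) (h0 : W ≠ ⊥)
    (hnd : IsNondegenerateOn (hermForm n F q) W) (hdim : 2 * Module.finrank F W < n)
    (hH : H ≤ subspaceStabilizer W ⊓ Cfsg.GU n F q) : GeoU q H :=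
  ⟨_, Or.inl (Or.inr (Or.inl ⟨W, h0, hnd, hdim, rfl⟩)), hH⟩

lemma GeoU.of_decomp {t k : ℕ} (D : Fin t → Submodule F (Fin n → F))
    (hD : IsNondegenerateMDecomposition (hermForm n F q) k D)
    (hH : H ≤ decompositionStabilizer D ⊓ Cfsg.GU n F q) : GeoU q H :=
  ⟨_, Or.inl (Or.inr (Or.inr (Or.inl ⟨t, k, D, hD, rfl⟩))), hH⟩

lemma GeoU.of_tspair (k : ℕ) (D : Fin 2 → Submodule F (Fin n → F)) (hk : 2 * k = n)
    (hD : IsMDecomposition k D) (hts : ∀ i, IsTotallySingularFor (hermForm n F q) (D i))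
    (hH : H ≤ decompositionStabilizer D ⊓ Cfsg.GU n F q) : GeoU q H :=
  ⟨_, Or.inl (Or.inr (Or.inr (Or.inr (Or.inl ⟨k, D, hk, hD, hts, rfl⟩)))), hH⟩

lemma GeoU.of_sub_odd (F₀ : Subfield F) (r : ℕ) (P : GL (Fin n) F) (hr : r.Prime) (hodd : Odd r)
    (hcard : Fintype.card F = Nat.card F₀ ^ r)
    (hrat : IsFormRationalStructure (hermForm n F q) F₀ 1 P)
    (hH : H ≤ subfieldSubgroup F₀ P ⊓ Cfsg.GU n F q) : GeoU q H :=
  ⟨_, Or.inl (Or.inr (Or.inr (Or.inr (Or.inr (Or.inl ⟨F₀, r, P, hr, hodd, hcard, hrat, rfl⟩))))), hH⟩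

lemma GeoU.of_sub_orth (F₀ : Subfield F) (P : GL (Fin n) F) (hq : Odd q)
    (hcard : Fintype.card F = Nat.card F₀ ^ 2)
    (hrat : IsFormRationalStructure (hermForm n F q) F₀ 1 P)
    (hH : H ≤ subfieldSubgroup F₀ P ⊓ Cfsg.GU n F q) : GeoU q H :=
  ⟨_, Or.inl (Or.inr (Or.inr (Or.inr (Or.inr (Or.inr (Or.inl ⟨F₀, P, hq, hcard, hrat, rfl⟩)))))), hH⟩

lemma GeoU.of_sub_symp (F₀ : Subfield F) (P : GL (Fin n) F) (ζ : F) (hn : Even n)
    (hcard : Fintype.card F = Nat.card F₀ ^ 2) (hζ0 : ζ ≠ 0) (hζ : ζ + ζ ^ q = 0)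
    (hrat : IsFormRationalStructure (hermForm n F q) F₀ ζ P)
    (halt : ∀ u : Fin n → F, (∀ i, u i ∈ F₀) →
      hermForm n F q ((P : Matrix (Fin n) (Fin n) F) *ᵥ u) ((P : Matrix (Fin n) (Fin n) F) *ᵥ u) = 0)
    (hH : H ≤ subfieldSubgroup F₀ P ⊓ Cfsg.GU n F q) : GeoU q H :=
  ⟨_, Or.inl (Or.inr (Or.inr (Or.inr (Or.inr (Or.inr (Or.inr (Or.inl
    ⟨F₀, P, ζ, hn, hcard, hζ0, hζ, hrat, halt, rfl⟩))))))), hH⟩

lemma GeoU.of_C6 (r : ℕ) (R : Subgroup (GL (Fin n) F)) (p e k : ℕ) (hst : IsSymplecticTypeGroup r R)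
    (habs : ActsAbsolutelyIrreducibly (matrixSet R)) (hsim : R ≤ similarityGroup (hermForm n F q))
    (hrp : r ≠ p) (hmin : IsMinimalFieldFor (Nat.card (Subgroup.center R)) p e F)
    (hcase : (Odd r ∧ Nat.card (Subgroup.center R) = r ∧ 1 ≤ k ∧ Nat.card R = r ^ (1 + 2 * k)) ∨
      (r = 2 ∧ e = 2 ∧ Nat.card (Subgroup.center R) = 4 ∧ Nat.card R = 2 ^ (2 + 2 * k)))
    (hH : H ≤ subgroupNormalizer R ⊓ Cfsg.GU n F q) : GeoU q H :=
  ⟨_, Or.inl (Or.inr (Or.inr (Or.inr (Or.inr (Or.inr (Or.inr (Or.inr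
    ⟨r, R, p, e, k, hst, habs, hsim, hrp, hmin, hcase, rfl⟩))))))), hH⟩

lemma GeoU.of_C3 (r : ℕ) (K : Subalgebra F (Matrix (Fin n) (Fin n) F)) (hr : r.Prime) (hodd : Odd r)
    (hK : IsFieldSubalgebra r K) (hadj : IsAdjointClosedFor (hermForm n F q) K)
    (hH : H ≤ subalgebraNormalizer K ⊓ Cfsg.GU n F q) : GeoU q H :=
  ⟨_, Or.inr (Or.inl ⟨r, K, hr, hodd, hK, hadj, rfl⟩), hH⟩

lemma GeoU.of_C4 (n₁ n₂ : ℕ) (e : Fin n ≃ Fin n₁ × Fin n₂) (P : GL (Fin n) F)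
    (f₁ : (Fin n₁ → F) → (Fin n₁ → F) → F) (f₂ : (Fin n₂ → F) → (Fin n₂ → F) → F)
    (h1 : 2 ≤ n₁) (h2 : n₁ < n₂) (hf₁ : IsUnitaryFormPow q f₁) (hf₂ : IsUnitaryFormPow q f₂)
    (hT : IsTensorFormStructure (fun x : F => x ^ q) (hermForm n F q) f₁ f₂ e P)
    (hH : H ≤ tensorProductSubgroup n₁ n₂ e P ⊓ Cfsg.GU n F q) : GeoU q H :=
  ⟨_, Or.inr (Or.inr (Or.inl ⟨n₁, n₂, e, P, f₁, f₂, h1, h2, hf₁, hf₂, hT, rfl⟩)), hH⟩

lemma GeoU.of_C7 (k t : ℕ) (e : Fin n ≃ (Fin t → Fin k)) (P : GL (Fin n) F)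
    (f₁ : (Fin k → F) → (Fin k → F) → F) (hk : 3 ≤ k) (ht : 2 ≤ t) (hex : ¬ (q = 2 ∧ k = 3))
    (hf₁ : IsUnitaryFormPow q f₁)
    (hT : IsTensorPowerFormStructure (fun x : F => x ^ q) (hermForm n F q) f₁ e P)
    (hH : H ≤ tensorWreathSubgroup k t e P ⊓ Cfsg.GU n F q) : GeoU q H :=
  ⟨_, Or.inr (Or.inr (Or.inr ⟨k, t, e, P, f₁, hk, ht, hex, hf₁, hT, rfl⟩)), hH⟩

end ctor

end Cfsg.Agent.Lib.Helper15.AschU
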