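import Mathlib
import Cfsg.Prelude.Def_GeometricClasses
import Cfsg.Agent.Lib.Helper20.AschDefs
import Cfsg.Agent.Lib.Helper20.FCDefs
import Cfsg.Agent.Lib.Helper15.AschUDefs
import Cfsg.Agent.Lib.Helper15.AschFormMat

/-!
S5663 (Aschbacher's theorem for `GU_n(q)`): the context `UCtx q H` (`|F| = q²`, `3 ≤ n`, `H ≤ GU_n(q)`) and its first
consequences: the involution `σ`, `hermForm` as a prelude `IsUnitaryForm σ`, as an `RForm σ 1`, as helper20's `RSForm σ`;
`H` consists of isometries (`FC.Isoms`, `FixJ σ 1`).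
-/

set_option autoImplicit false
set_option linter.unusedSectionVars false
set_option linter.unusedVariables false

namespace Cfsg.Agent.Lib.Helper15.AschU
open Matrix Cfsg.Geo Cfsg.Agent.Lib.Helper20.Asch Cfsg.Agent.Lib.Helper7.AschLeaf
open Cfsg.Agent.Lib.Helper15.AschForm Cfsg.Agent.Lib.Helper20.FC

variable {F : Type*} [Field F] [Fintype F] {n q : ℕ}

/-- the context of S5663 -/
structure UCtx (q : ℕ) (H : Subgroup (GL (Fin n) F)) : Prop where
  card : Fintype.card F = q ^ 2
  three_le : 3 ≤ n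
  le : H ≤ Cfsg.GU n F q

/-- the Frobenius data of the field with `q²` elements -/
structure IsFrob (q : ℕ) (σ : F ≃+* F) : Prop where
  ne_refl : σ ≠ RingEquiv.refl F
  invol : ∀ a : F, σ (σ a) = a
  pow : ∀ a : F, σ a = a ^ q

theorem exists_isFrob (hF : Fintype.card F = q ^ 2) : ∃ σ : F ≃+* F, IsFrob q σ := by
  obtain ⟨σ, h1, h2, h3⟩ := exists_sigma hF
  exact ⟨σ, h1, h2, h3⟩

lemma UCtx.exists_isFrob {H : Subgroup (GL (Fin n) F)} (h : UCtx q H) : ∃ σ : F ≃+* F, IsFrob q σ :=
  Cfsg.Agent.Lib.Helper15.AschU.exists_isFrob h.card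

lemma IsFrob.q_ne_zero {σ : F ≃+* F} (hσ : IsFrob q σ) : q ≠ 0 := by
  intro h0
  have := hσ.pow 0
  rw [map_zero, h0, pow_zero] at this
  exact zero_ne_one this

lemma IsFrob.rform {σ : F ≃+* F} (hσ : IsFrob q σ) :
    RForm (σ : F →+* F) 1 (hermForm n F q) :=
  hermForm_rform σ hσ.invol hσ.pow

/-- `hermForm` is a prelude unitary form for `σ` -/
lemma IsFrob.unitary {σ : F ≃+* F} (hσ : IsFrob q σ) : IsUnitaryForm σ (hermForm n F q) where
  ne_refl := hσ.ne_refl
  involutive := hσ.invol
  add_left := (hσ.rform (n := n)).add_left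
  smul_left := (hσ.rform (n := n)).smul_left
  herm := fun v w => by
    have := (hσ.rform (n := n)).herm w v
    rw [one_mul] at this
    exact this
  nondegenerate := (hσ.rform (n := n)).nondeg

lemma IsFrob.rsform {σ : F ≃+* F} (hσ : IsFrob q σ) : RSForm (σ : F →+* F) (hermForm n F q) :=
  rs_of_unitary hσ.unitary

/-- a prelude `IsUnitaryFormPow` from a hermitian Gram matrix -/
lemma IsFrob.unitaryPow_sform {σ : F ≃+* F} (hσ : IsFrob q σ) {m : ℕ} (G : Matrix (Fin m) (Fin m) F)
    (hG : (G.map σ)ᵀ = G) (hdet : G.det ≠ 0) : IsUnitaryFormPow q (sform (σ : F →+* F) G) := by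
  classical
  have hσ' : ∀ a : F, (σ : F →+* F) a = a ^ q := hσ.pow
  refine ⟨?_, ?_, ?_, ?_⟩
  · intro x y v
    simp only [sform, add_dotProduct]
  · intro c x v
    simp only [sform, smul_dotProduct, smul_eq_mul]
  · intro v w
    rw [← hσ']
    simp only [sform, dotProduct, mulVec, vmap, map_sum, map_mul]
    simp_rw [Finset.mul_sum]
    rw [Finset.sum_comm]
    apply Finset.sum_congr rfl
    intro i _
    apply Finset.sum_congr rfl
    intro j _
    have h1 : (σ : F →+* F) ((σ : F →+* F) (v j)) = v j := hσ.invol (v j)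
    have h2 : (σ : F →+* F) (G i j) = G j i := by
      have := congrFun (congrFun hG j) i
      simpa using this
    rw [h1, h2]
    ring
  · intro v hv
    have hGu : IsUnit G.det := isUnit_iff_ne_zero.mpr hdet
    constructor
    · -- ∃ x, sform x v ≠ 0 : x ⬝ᵥ G *ᵥ σ v ≠ 0
      by_contra hall
      push Not at hall
      have h0 : G *ᵥ vmap (σ : F →+* F) v = 0 := by
        funext i
        have := hall (Pi.single i 1)
        simpa [sform] using this
      have h1 : vmap (σ : F →+* F) v = 0 := by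
        have := congrArg (fun w => G⁻¹ *ᵥ w) h0
        simpa [Matrix.mulVec_mulVec, Matrix.nonsing_inv_mul _ hGu] using this
      apply hv
      funext i
      have := congrFun h1 i
      simp only [vmap, Pi.zero_apply] at this
      exact (map_eq_zero (σ : F →+* F)).mp this
    · by_contra hall
      push Not at hall
      have h0 : v ᵥ* G = 0 := by
        funext j
        have := hall (Pi.single j 1)
        have hs : vmap (σ : F →+* F) (Pi.single j (1 : F)) = Pi.single j 1 := by
          funext i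
          by_cases hij : i = j
          · subst hij; simp [vmap]
          · simp [vmap, hij]
        simp only [sform, hs] at this
        rw [Matrix.dotProduct_mulVec] at this
        simpa using this
      apply hv
      have := congrArg (fun w => w ᵥ* G⁻¹) h0
      simpa [Matrix.vecMul_vecMul, Matrix.mul_nonsing_inv _ hGu] using this

/-- `H ≤ GU` consists of isometries -/
lemma UCtx.isoms {H : Subgroup (GL (Fin n) F)} (h : UCtx q H) : Isoms H (hermForm n F q) :=
  fun y hy u v => h.le hy u v

lemma UCtx.isoms_of_le {H N : Subgroup (GL (Fin n) F)} (h : UCtx q H) (hN : N ≤ H) :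
    Isoms N (hermForm n F q) :=
  fun y hy u v => h.le (hN hy) u v

/-- `H ≤ GU` in matrix form: `xᵀ * σ(x) = 1`-type identity, `FixJ σ 1 H` -/
lemma UCtx.fixJ {H : Subgroup (GL (Fin n) F)} (h : UCtx q H) {σ : F ≃+* F} (hσ : IsFrob q σ) :
    FixJ (σ : F →+* F) (1 : Matrix (Fin n) (Fin n) F) H := by
  have := fixJ_of_le_Isom (hσ.rform (n := n)) (X := H) h.le
  rwa [gramF_hermForm hσ.q_ne_zero] at this

lemma UCtx.mono {H K : Subgroup (GL (Fin n) F)} (h : UCtx q H) (hK : K ≤ H) : UCtx q K :=
  ⟨h.card, h.three_le, hK.trans h.le⟩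

lemma GeoU.mono {H K : Subgroup (GL (Fin n) F)} (h : GeoU q H) (hK : K ≤ H) : GeoU q K := by
  obtain ⟨M, hM, hle⟩ := h
  exact ⟨M, hM, hK.trans hle⟩

end Cfsg.Agent.Lib.Helper15.AschU
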