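import Cfsg.Agent.Lib.Helper15.SemisimpleConj

set_option autoImplicit false

namespace Cfsg.Agent.Lib.Helper15.NilpotentConj

open Module Cfsg.Agent.Lib.Helper15.SemisimpleConj

universe u

variable {F : Type*} [Field F]

section kappa

variable {V V' : Type*} [AddCommGroup V] [Module F V] [AddCommGroup V'] [Module F V']

/-- kernel dimension of powers -/
noncomputable def kap (T : End F V) (k : ℕ) : ℕ := finrank F (LinearMap.ker (T ^ k))

lemma pow_intertwine (e : V →ₗ[F] V') (T : End F V) (T' : End F V')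
    (h : ∀ v, e (T v) = T' (e v)) (k : ℕ) (v : V) : e ((T ^ k) v) = (T' ^ k) (e v) := by
  induction k generalizing v with
  | zero => simp
  | succ k ih => rw [pow_succ, End.mul_apply, ih, h, pow_succ, End.mul_apply]

lemma kap_conj {T : End F V} {T' : End F V'} (h : Conj T T') (k : ℕ) : kap T k = kap T' k := by
  obtain ⟨e, he⟩ := h
  unfold kap
  have hmap : (LinearMap.ker (T ^ k)).map (e : V →ₗ[F] V') = LinearMap.ker (T' ^ k) := by
    ext x
    rw [Submodule.mem_map, LinearMap.mem_ker]
    constructor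
    · rintro ⟨v, hv, rfl⟩
      rw [LinearMap.mem_ker] at hv
      have := pow_intertwine (e : V →ₗ[F] V') T T' he k v
      rw [hv, map_zero] at this
      exact this.symm
    · intro hx
      refine ⟨e.symm x, ?_, by simp⟩
      rw [LinearMap.mem_ker]
      apply e.injective
      have := pow_intertwine (e : V →ₗ[F] V') T T' he k (e.symm x)
      rw [LinearEquiv.coe_coe, e.apply_symm_apply, hx] at this
      rw [this, map_zero]
  rw [← hmap, LinearEquiv.finrank_map_eq]

/-- product of submodules as a product type -/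
def prodSubEquiv {A B : Type*} [AddCommGroup A] [Module F A] [AddCommGroup B] [Module F B]
    (p : Submodule F A) (q : Submodule F B) : (p.prod q) ≃ₗ[F] (p × q) where
  toFun x := (⟨x.1.1, x.2.1⟩, ⟨x.1.2, x.2.2⟩)
  invFun y := ⟨(y.1.1, y.2.1), ⟨y.1.2, y.2.2⟩⟩
  map_add' _ _ := rfl
  map_smul' _ _ := rfl
  left_inv _ := rfl
  right_inv _ := rfl

lemma prodMap_pow {A B : Type*} [AddCommGroup A] [Module F A] [AddCommGroup B] [Module F B]
    (S₁ : End F A) (S₂ : End F B) (k : ℕ) : (S₁.prodMap S₂) ^ k = (S₁ ^ k).prodMap (S₂ ^ k) := by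
  induction k with
  | zero => simp
  | succ k ih => rw [pow_succ, ih, LinearMap.prodMap_mul, ← pow_succ, ← pow_succ]

lemma kap_prodMap {A B : Type*} [AddCommGroup A] [Module F A] [AddCommGroup B] [Module F B]
    [FiniteDimensional F A] [FiniteDimensional F B]
    (S₁ : End F A) (S₂ : End F B) (k : ℕ) : kap (S₁.prodMap S₂) k = kap S₁ k + kap S₂ k := by
  unfold kap
  rw [prodMap_pow, LinearMap.ker_prodMap, (prodSubEquiv _ _).finrank_eq, Module.finrank_prod]

lemma pow_eq_zero_iff_kap [FiniteDimensional F V] (T : End F V) (k : ℕ) :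
    T ^ k = 0 ↔ kap T k = finrank F V := by
  unfold kap
  constructor
  · intro h
    rw [h, LinearMap.ker_zero, finrank_top]
  · intro h
    have : LinearMap.ker (T ^ k) = ⊤ := Submodule.eq_top_of_finrank_eq h
    exact LinearMap.ker_eq_top.1 this

end kappa

section model

variable (F)
variable {ι : Type*} (e : ι → ℕ)

/-- the standard nilpotent shift with blocks of sizes `e i` -/
def Jmod : End F ((Σ i, Fin (e i)) → F) where
  toFun f x := if h : x.2.1 + 1 < e x.1 then f ⟨x.1, ⟨x.2.1 + 1, h⟩⟩ else 0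
  map_add' f g := by
    ext x
    simp only [Pi.add_apply]
    split_ifs <;> simp
  map_smul' c f := by
    ext x
    simp only [Pi.smul_apply, RingHom.id_apply, smul_eq_mul]
    split_ifs <;> simp

lemma Jmod_apply (f : (Σ i, Fin (e i)) → F) (x : Σ i, Fin (e i)) :
    Jmod F e f x = if h : x.2.1 + 1 < e x.1 then f ⟨x.1, ⟨x.2.1 + 1, h⟩⟩ else 0 := rfl

lemma Jmod_pow_apply (k : ℕ) (f : (Σ i, Fin (e i)) → F) (x : Σ i, Fin (e i)) :
    ((Jmod F e) ^ k) f x = if h : x.2.1 + k < e x.1 then f ⟨x.1, ⟨x.2.1 + k, h⟩⟩ else 0 := by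
  induction k generalizing f with
  | zero =>
    obtain ⟨i, j, hj⟩ := x
    simp [hj]
  | succ k ih =>
    rw [pow_succ, End.mul_apply, ih]
    obtain ⟨i, j, hj⟩ := x
    simp only [Jmod_apply]
    by_cases h1 : j + (k + 1) < e i
    · have h2 : j + k < e i := by omega
      have h3 : j + k + 1 < e i := by omega
      rw [dif_pos h2, dif_pos h3, dif_pos h1]
      rfl
    · by_cases h2 : j + k < e i
      · have h3 : ¬ j + k + 1 < e i := by omega
        rw [dif_pos h2, dif_neg h3, dif_neg h1]
      · rw [dif_neg h2, dif_neg h1]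

lemma mem_ker_Jmod_pow (k : ℕ) (f : (Σ i, Fin (e i)) → F) :
    f ∈ LinearMap.ker ((Jmod F e) ^ k) ↔ ∀ x : Σ i, Fin (e i), k ≤ x.2.1 → f x = 0 := by
  rw [LinearMap.mem_ker]
  constructor
  · intro h x hx
    obtain ⟨i, j, hj⟩ := x
    have h1 := congrFun h ⟨i, ⟨j - k, by omega⟩⟩
    rw [Jmod_pow_apply] at h1
    simp only at hx
    have h2 : j - k + k < e i := by omega
    rw [dif_pos h2] at h1
    have h3 : j - k + k = j := by omega
    simp only [h3] at h1
    exact h1
  · intro h
    ext x
    rw [Jmod_pow_apply]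
    split_ifs with h1
    · exact h _ (by simp)
    · rfl

variable [Fintype ι]

lemma card_lt (k : ℕ) :
    Fintype.card {x : Σ i, Fin (e i) // x.2.1 < k} = ∑ i, min (e i) k := by
  classical
  rw [Fintype.card_subtype, Finset.card_filter, Fintype.sum_sigma]
  apply Finset.sum_congr rfl
  intro i _
  simp only
  rw [Fin.sum_univ_eq_sum_range (fun j => if j < k then 1 else 0) (e i), Finset.sum_boole]
  simp only [Nat.cast_id]
  have : (Finset.range (e i)).filter (fun j => j < k) = Finset.range (min (e i) k) := by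
    ext j
    simp only [Finset.mem_filter, Finset.mem_range]
    omega
  rw [this, Finset.card_range]

lemma kap_Jmod (k : ℕ) : kap (Jmod F e) k = ∑ i, min (e i) k := by
  classical
  unfold kap
  let P : (Σ i, Fin (e i)) → Prop := fun x => k ≤ x.2.1
  let ρ : ((Σ i, Fin (e i)) → F) →ₗ[F] ({x // P x} → F) :=
    LinearMap.funLeft F F (Subtype.val : {x // P x} → (Σ i, Fin (e i)))
  have hker : LinearMap.ker ρ = LinearMap.ker ((Jmod F e) ^ k) := by
    ext f
    rw [mem_ker_Jmod_pow, LinearMap.mem_ker]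
    constructor
    · intro h x hx
      exact congrFun h ⟨x, hx⟩
    · intro h
      ext ⟨x, hx⟩
      exact h x hx
  have hsurj : Function.Surjective ρ :=
    LinearMap.funLeft_surjective_of_injective F F _ Subtype.val_injective
  have hrange : LinearMap.range ρ = ⊤ := LinearMap.range_eq_top.2 hsurj
  have h1 := LinearMap.finrank_range_add_finrank_ker ρ
  rw [hrange, finrank_top, hker, Module.finrank_fintype_fun_eq_card,
    Module.finrank_fintype_fun_eq_card] at h1
  have h2 : Fintype.card {x : Σ i, Fin (e i) // ¬ P x} =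
      Fintype.card (Σ i, Fin (e i)) - Fintype.card {x // P x} := Fintype.card_subtype_compl P
  have h3 : Fintype.card {x : Σ i, Fin (e i) // ¬ P x} = ∑ i, min (e i) k := by
    rw [← card_lt e k]
    apply Fintype.card_congr
    apply Equiv.subtypeEquivRight
    intro x
    simp only [P, not_le]
  omega

end model

section split

variable {V : Type u} [AddCommGroup V] [Module F V] [FiniteDimensional F V]

/-- a nilpotent endomorphism of exact index `m+1` splits off a cyclic block of size `m+1` -/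
theorem exists_cyclic_split (T : End F V) (m : ℕ) (hm : T ^ (m + 1) = 0) (hm' : T ^ m ≠ 0) :
    ∃ (Z W : Submodule F V) (hZ : Z ∈ T.invtSubmodule) (_ : W ∈ T.invtSubmodule),
      IsCompl Z W ∧ Conj (T.restrict hZ) (Jmod F (fun _ : Unit => m + 1)) := by
  classical
  have hzero : ∀ k, m + 1 ≤ k → T ^ k = 0 := fun k hk => pow_eq_zero_of_le hk hm
  obtain ⟨v, hv⟩ : ∃ v, (T ^ m) v ≠ 0 := by
    by_contra h
    push Not at h
    exact hm' (LinearMap.ext h)
  obtain ⟨φ, hφ⟩ := Module.Projective.exists_dual_ne_zero F hv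
  let σ := (Σ _ : Unit, Fin (m + 1))
  let ψ : (σ → F) →ₗ[F] V := Fintype.linearCombination F (fun x : σ => (T ^ (m - x.2.1)) v)
  let Φ : V →ₗ[F] (σ → F) := LinearMap.pi (fun x : σ => φ ∘ₗ (T ^ x.2.1))
  have hψ : ∀ c, ψ c = ∑ x : σ, c x • (T ^ (m - x.2.1)) v := fun c =>
    Fintype.linearCombination_apply F _ c
  have hΦ : ∀ w (x : σ), Φ w x = φ ((T ^ x.2.1) w) := fun w x => rfl
  -- key injectivity
  have hinj : ∀ c, Φ (ψ c) = 0 → c = 0 := by
    intro c hc
    by_contra hne
    obtain ⟨x, hx⟩ : ∃ x, c x ≠ 0 := by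
      by_contra h
      push Not at h
      exact hne (funext h)
    obtain ⟨x₀, hx₀, hmax⟩ := Finset.exists_max_image (Finset.univ.filter (fun x : σ => c x ≠ 0))
      (fun x => x.2.1) ⟨x, by simp [hx]⟩
    simp only [Finset.mem_filter, Finset.mem_univ, true_and] at hx₀ hmax
    have h1 := congrFun hc x₀
    rw [hΦ, hψ, map_sum, map_sum] at h1
    rw [Finset.sum_eq_single x₀] at h1
    · rw [map_smul, map_smul, ← End.mul_apply, ← pow_add] at h1
      have hle : x₀.2.1 ≤ m := by have := x₀.2.2; omega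
      have h2 : x₀.2.1 + (m - x₀.2.1) = m := by omega
      rw [h2] at h1
      simp only [Pi.zero_apply, smul_eq_mul, mul_eq_zero] at h1
      rcases h1 with h1 | h1
      · exact hx₀ h1
      · exact hφ h1
    · intro y _ hy
      rw [map_smul, map_smul, ← End.mul_apply, ← pow_add]
      by_cases hcy : c y = 0
      · rw [hcy, zero_smul]
      · have hyle := hmax y hcy
        have hylt : y.2.1 < x₀.2.1 := by
          rcases Nat.lt_or_ge y.2.1 x₀.2.1 with h | h
          · exact h
          · exfalso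
            apply hy
            obtain ⟨⟨⟩, y2⟩ := y
            obtain ⟨⟨⟩, x2⟩ := x₀
            simp only at h hyle
            have : y2 = x2 := Fin.ext (by omega)
            rw [this]
        have hx₀le : x₀.2.1 ≤ m := by have := x₀.2.2; omega
        rw [hzero _ (by omega : m + 1 ≤ x₀.2.1 + (m - y.2.1))]
        simp
    · intro h
      exact absurd (Finset.mem_univ _) h
  have hinj' : Function.Injective (Φ ∘ₗ ψ) := by
    rw [← LinearMap.ker_eq_bot, LinearMap.ker_eq_bot']
    intro c hc
    exact hinj c hc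
  have hsurj : Function.Surjective (Φ ∘ₗ ψ) := LinearMap.injective_iff_surjective.1 hinj'
  have hψinj : Function.Injective ψ := fun a b hab => hinj' (by
    show Φ (ψ a) = Φ (ψ b)
    rw [hab])
  -- intertwining
  have hJ : ∀ c, T (ψ c) = ψ (Jmod F (fun _ : Unit => m + 1) c) := by
    intro c
    rw [hψ, hψ, map_sum, Fintype.sum_sigma, Fintype.sum_sigma]
    simp only [Finset.univ_unique, Finset.sum_singleton]
    rw [Fin.sum_univ_succ, Fin.sum_univ_castSucc (n := m)]
    have e1 : T (c ⟨default, 0⟩ • (T ^ (m - ((0 : Fin (m + 1)) : ℕ))) v) = 0 := by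
      rw [map_smul, ← End.mul_apply, ← pow_succ']
      simp only [Fin.val_zero, Nat.sub_zero]
      rw [hm]
      simp
    have e2 : Jmod F (fun _ : Unit => m + 1) c ⟨default, Fin.last m⟩ = 0 := by
      rw [Jmod_apply]
      simp
    rw [e1, e2, zero_add, zero_smul, add_zero]
    apply Finset.sum_congr rfl
    intro j _
    rw [map_smul, ← End.mul_apply, ← pow_succ', Jmod_apply]
    have h1 : ((Fin.castSucc j : Fin (m + 1)) : ℕ) + 1 < m + 1 := by
      simp only [Fin.val_castSucc]; omega
    rw [dif_pos h1]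
    have h2 : m - ((Fin.succ j : Fin (m + 1)) : ℕ) + 1 = m - ((Fin.castSucc j : Fin (m + 1)) : ℕ) := by
      simp only [Fin.val_succ, Fin.val_castSucc]; omega
    rw [h2]
    rfl
  refine ⟨LinearMap.range ψ, LinearMap.ker Φ, ?_, ?_, ?_, ?_⟩
  · rw [End.mem_invtSubmodule]
    rintro _ ⟨c, rfl⟩
    rw [Submodule.mem_comap, hJ]
    exact ⟨_, rfl⟩
  · rw [End.mem_invtSubmodule]
    intro w hw
    rw [Submodule.mem_comap, LinearMap.mem_ker]
    rw [LinearMap.mem_ker] at hw
    ext x
    rw [hΦ, ← End.mul_apply, ← pow_succ]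
    by_cases hx : x.2.1 + 1 < m + 1
    · have := congrFun hw ⟨x.1, ⟨x.2.1 + 1, hx⟩⟩
      rw [hΦ] at this
      exact this
    · rw [hzero _ (by omega)]
      simp
  · constructor
    · rw [Submodule.disjoint_def]
      rintro x ⟨c, rfl⟩ hx
      rw [LinearMap.mem_ker] at hx
      rw [hinj c hx, map_zero]
    · rw [codisjoint_iff, eq_top_iff]
      intro x _
      obtain ⟨c, hc⟩ := hsurj (Φ x)
      rw [Submodule.mem_sup]
      refine ⟨ψ c, ⟨c, rfl⟩, x - ψ c, ?_, by abel⟩
      rw [LinearMap.mem_ker, map_sub, ← hc]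
      simp
  · apply Conj.symm
    refine ⟨LinearEquiv.ofInjective ψ hψinj, fun c => ?_⟩
    apply Subtype.ext
    rw [LinearEquiv.ofInjective_apply]
    show ψ _ = T (ψ c)
    rw [hJ]

omit [FiniteDimensional F V] in
lemma exists_index (T : End F V) [Nontrivial V] (hT : IsNilpotent T) :
    ∃ m, T ^ (m + 1) = 0 ∧ T ^ m ≠ 0 := by
  classical
  obtain ⟨k, hk⟩ := hT
  have hex : ∃ k, T ^ k = 0 := ⟨k, hk⟩
  have h0 : Nat.find hex ≠ 0 := by
    intro h
    have := Nat.find_spec hex
    rw [h, pow_zero] at this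
    obtain ⟨x, hx⟩ := exists_ne (0 : V)
    apply hx
    have := LinearMap.congr_fun this x
    simpa using this
  obtain ⟨m, hm⟩ := Nat.exists_eq_succ_of_ne_zero h0
  refine ⟨m, ?_, ?_⟩
  · have := Nat.find_spec hex
    rw [hm] at this
    exact this
  · exact Nat.find_min hex (by omega : m < Nat.find hex)

omit [FiniteDimensional F V] in
lemma restrict_pow (T : End F V) (W : Submodule F V) (hW : W ∈ T.invtSubmodule) (k : ℕ)
    (h : T ^ k = 0) : (T.restrict hW) ^ k = 0 := by
  apply LinearMap.ext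
  intro w
  apply Subtype.ext
  have := pow_intertwine W.subtype (T.restrict hW) T (fun _ => rfl) k w
  rw [h] at this
  simpa using this

/-- peeling off a top cyclic block, with bookkeeping -/
theorem peel (T : End F V) (m : ℕ) (hm : T ^ (m + 1) = 0) (hm' : T ^ m ≠ 0) :
    ∃ (Z W : Submodule F V) (hZ : Z ∈ T.invtSubmodule) (hW : W ∈ T.invtSubmodule),
      Conj ((T.restrict hZ).prodMap (T.restrict hW)) T ∧
      Conj (T.restrict hZ) (Jmod F (fun _ : Unit => m + 1)) ∧
      finrank F W + (m + 1) = finrank F V ∧ (T.restrict hW) ^ (m + 1) = 0 ∧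
      ∀ k, kap T k = min (m + 1) k + kap (T.restrict hW) k := by
  obtain ⟨Z, W, hZ, hW, hc, hconj⟩ := exists_cyclic_split T m hm hm'
  refine ⟨Z, W, hZ, hW, conj_prodMap_of_isCompl T Z W hZ hW hc, hconj, ?_,
    restrict_pow T W hW _ hm, ?_⟩
  · obtain ⟨e, _⟩ := hconj
    have h1 : finrank F Z = m + 1 := by
      rw [e.finrank_eq, Module.finrank_fintype_fun_eq_card, Fintype.card_sigma]
      simp
    have h2 := Submodule.finrank_add_eq_of_isCompl hc
    omega
  · intro k
    rw [← kap_conj (conj_prodMap_of_isCompl T Z W hZ hW hc) k, kap_prodMap, kap_conj hconj,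
      kap_Jmod]
    simp

/-- every nilpotent endomorphism has a Jordan type -/
theorem exists_type : ∀ (n : ℕ) (V : Type u) [AddCommGroup V] [Module F V]
    [FiniteDimensional F V] (T : End F V), finrank F V = n → IsNilpotent T →
    ∃ μ : Multiset ℕ, (∀ a ∈ μ, 1 ≤ a) ∧ μ.sum = n ∧
      ∀ k, kap T k = (μ.map (fun a => min a k)).sum := by
  intro n
  induction n using Nat.strong_induction_on with
  | _ n ih =>
    intro V _ _ _ T hn hT
    rcases Nat.eq_zero_or_pos n with rfl | hpos
    · refine ⟨0, by simp, by simp, fun k => ?_⟩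
      unfold kap
      have := Submodule.finrank_le (LinearMap.ker (T ^ k))
      simp only [Multiset.map_zero, Multiset.sum_zero]
      omega
    · have : Nontrivial V := Module.nontrivial_of_finrank_pos (R := F) (by omega)
      obtain ⟨m, hm, hm'⟩ := exists_index T hT
      obtain ⟨Z, W, hZ, hW, _, _, hfr, hnil, hk⟩ := peel T m hm hm'
      obtain ⟨μ, hμ1, hμ2, hμ3⟩ := ih (finrank F W) (by omega) W (T.restrict hW) rfl
        ⟨m + 1, hnil⟩
      refine ⟨(m + 1) ::ₘ μ, ?_, ?_, ?_⟩
      · intro a ha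
        rw [Multiset.mem_cons] at ha
        rcases ha with rfl | ha
        · omega
        · exact hμ1 a ha
      · rw [Multiset.sum_cons, hμ2]
        omega
      · intro k
        rw [hk k, hμ3 k, Multiset.map_cons, Multiset.sum_cons]

/-- nilpotent endomorphisms with the same kernel dimensions are conjugate -/
theorem conj_of_kap_eq : ∀ (n : ℕ) (V V' : Type u) [AddCommGroup V] [Module F V]
    [FiniteDimensional F V] [AddCommGroup V'] [Module F V'] [FiniteDimensional F V']
    (T : End F V) (T' : End F V'), finrank F V = n → finrank F V' = n → IsNilpotent T →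
    IsNilpotent T' → (∀ k, kap T k = kap T' k) → Conj T T' := by
  intro n
  induction n using Nat.strong_induction_on with
  | _ n ih =>
    intro V V' _ _ _ _ _ _ T T' hn hn' hT hT' hk
    rcases Nat.eq_zero_or_pos n with rfl | hpos
    · have : Subsingleton V' := Module.finrank_zero_iff.1 hn'
      exact ⟨LinearEquiv.ofFinrankEq V V' (by omega), fun v => Subsingleton.elim _ _⟩
    · have : Nontrivial V := Module.nontrivial_of_finrank_pos (R := F) (by omega)
      obtain ⟨m, hm, hm'⟩ := exists_index T hT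
      have hm2 : T' ^ (m + 1) = 0 := by
        rw [pow_eq_zero_iff_kap, ← hk, hn', ← hn, ← pow_eq_zero_iff_kap]
        exact hm
      have hm2' : T' ^ m ≠ 0 := by
        intro h
        apply hm'
        rw [pow_eq_zero_iff_kap, hk, hn, ← hn', ← pow_eq_zero_iff_kap]
        exact h
      obtain ⟨Z, W, hZ, hW, hc, hcz, hfr, hnil, hkW⟩ := peel T m hm hm'
      obtain ⟨Z', W', hZ', hW', hc', hcz', hfr', hnil', hkW'⟩ := peel T' m hm2 hm2'
      have hWW' : Conj (T.restrict hW) (T'.restrict hW') := by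
        apply ih (finrank F W) (by omega) W W' _ _ rfl (by omega) ⟨m + 1, hnil⟩ ⟨m + 1, hnil'⟩
        intro k
        have h1 := hkW k
        have h2 := hkW' k
        have h3 := hk k
        omega
      exact hc.symm.trans ((Conj.prodMap (hcz.trans hcz'.symm) hWW').trans hc')

end split

section multiset

/-- the kernel-dimension function of a Jordan type -/
def kapm (μ : Multiset ℕ) (k : ℕ) : ℕ := (μ.map (fun a => min a k)).sum

lemma kapm_succ (μ : Multiset ℕ) (k : ℕ) :
    kapm μ (k + 1) = kapm μ k + Multiset.card (μ.filter (fun a => k + 1 ≤ a)) := by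
  unfold kapm
  induction μ using Multiset.induction_on with
  | empty => simp
  | cons a μ ih =>
    rw [Multiset.map_cons, Multiset.sum_cons, Multiset.map_cons, Multiset.sum_cons, ih]
    by_cases h : k + 1 ≤ a
    · have e1 : Multiset.filter (fun a => k + 1 ≤ a) (a ::ₘ μ) =
          a ::ₘ Multiset.filter (fun a => k + 1 ≤ a) μ := Multiset.filter_cons_of_pos _ h
      rw [e1, Multiset.card_cons]
      have h1 : min a (k + 1) = k + 1 := by omega
      have h2 : min a k = k := by omega
      omega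
    · have e1 : Multiset.filter (fun a => k + 1 ≤ a) (a ::ₘ μ) =
          Multiset.filter (fun a => k + 1 ≤ a) μ := Multiset.filter_cons_of_neg _ h
      rw [e1]
      have h1 : min a (k + 1) = a := by omega
      have h2 : min a k = a := by omega
      omega

lemma card_filter_ge (μ : Multiset ℕ) (k : ℕ) :
    Multiset.card (μ.filter (fun a => k ≤ a)) =
      Multiset.card (μ.filter (fun a => k + 1 ≤ a)) + μ.count k := by
  induction μ using Multiset.induction_on with
  | empty => simp
  | cons a μ ih =>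
    rw [Multiset.count_cons]
    by_cases h : k + 1 ≤ a
    · have h' : k ≤ a := by omega
      have hne : ¬ k = a := by omega
      have e1 : Multiset.filter (fun a => k + 1 ≤ a) (a ::ₘ μ) =
          a ::ₘ Multiset.filter (fun a => k + 1 ≤ a) μ := Multiset.filter_cons_of_pos _ h
      have e2 : Multiset.filter (fun a => k ≤ a) (a ::ₘ μ) =
          a ::ₘ Multiset.filter (fun a => k ≤ a) μ := Multiset.filter_cons_of_pos _ h'
      rw [e1, e2, Multiset.card_cons, Multiset.card_cons, ih, if_neg hne]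
      omega
    · have e1 : Multiset.filter (fun a => k + 1 ≤ a) (a ::ₘ μ) =
          Multiset.filter (fun a => k + 1 ≤ a) μ := Multiset.filter_cons_of_neg _ h
      rw [e1]
      by_cases h' : k ≤ a
      · have he : k = a := by omega
        have e2 : Multiset.filter (fun a => k ≤ a) (a ::ₘ μ) =
            a ::ₘ Multiset.filter (fun a => k ≤ a) μ := Multiset.filter_cons_of_pos _ h'
        rw [e2, Multiset.card_cons, ih, if_pos he]
        omega
      · have hne : ¬ k = a := by omega
        have e2 : Multiset.filter (fun a => k ≤ a) (a ::ₘ μ) =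
            Multiset.filter (fun a => k ≤ a) μ := Multiset.filter_cons_of_neg _ h'
        rw [e2, ih, if_neg hne]
        omega

/-- the kernel-dimension function determines the Jordan type -/
theorem type_unique (μ ν : Multiset ℕ) (hμ : ∀ a ∈ μ, 1 ≤ a) (hν : ∀ a ∈ ν, 1 ≤ a)
    (h : ∀ k, kapm μ k = kapm ν k) : μ = ν := by
  have hc : ∀ k, Multiset.card (μ.filter (fun a => k + 1 ≤ a)) =
      Multiset.card (ν.filter (fun a => k + 1 ≤ a)) := by
    intro k
    have h1 := kapm_succ μ k
    have h2 := kapm_succ ν k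
    have h3 := h k
    have h4 := h (k + 1)
    omega
  ext a
  rcases Nat.eq_zero_or_pos a with rfl | ha
  · rw [Multiset.count_eq_zero_of_notMem, Multiset.count_eq_zero_of_notMem]
    · intro h0
      have := hν 0 h0
      omega
    · intro h0
      have := hμ 0 h0
      omega
  · obtain ⟨k, rfl⟩ : ∃ k, a = k + 1 := ⟨a - 1, by omega⟩
    have h1 := card_filter_ge μ (k + 1)
    have h2 := card_filter_ge ν (k + 1)
    have h3 := hc k
    have h4 := hc (k + 1)
    omega

lemma kapm_one (μ : Multiset ℕ) (hμ : ∀ a ∈ μ, 1 ≤ a) : kapm μ 1 = Multiset.card μ := by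
  unfold kapm
  induction μ using Multiset.induction_on with
  | empty => simp
  | cons a μ ih =>
    rw [Multiset.map_cons, Multiset.sum_cons, Multiset.card_cons,
      ih (fun b hb => hμ b (Multiset.mem_cons_of_mem hb))]
    have := hμ a (Multiset.mem_cons_self a μ)
    have h1 : min a 1 = 1 := by omega
    omega

lemma kapm_le (μ : Multiset ℕ) (k : ℕ) : kapm μ k ≤ μ.sum := by
  unfold kapm
  induction μ using Multiset.induction_on with
  | empty => simp
  | cons a μ ih =>
    rw [Multiset.map_cons, Multiset.sum_cons, Multiset.sum_cons]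
    have : min a k ≤ a := min_le_left _ _
    omega

lemma kapm_eq_sum_iff (μ : Multiset ℕ) (k : ℕ) : kapm μ k = μ.sum ↔ ∀ a ∈ μ, a ≤ k := by
  induction μ using Multiset.induction_on with
  | empty => simp [kapm]
  | cons a μ ih =>
    have h1 : kapm (a ::ₘ μ) k = min a k + kapm μ k := by
      unfold kapm
      rw [Multiset.map_cons, Multiset.sum_cons]
    rw [h1, Multiset.sum_cons]
    have h2 := kapm_le μ k
    constructor
    · intro h b hb
      rw [Multiset.mem_cons] at hb
      have h3 : min a k ≤ a := min_le_left _ _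
      rcases hb with rfl | hb
      · omega
      · exact ih.1 (by omega) b hb
    · intro h
      have h3 := h a (Multiset.mem_cons_self a μ)
      have h4 := ih.2 (fun b hb => h b (Multiset.mem_cons_of_mem hb))
      have h5 : min a k = a := by omega
      omega

lemma eq_replicate_of_card_eq_sum (μ : Multiset ℕ) (hμ : ∀ a ∈ μ, 1 ≤ a)
    (h : Multiset.card μ = μ.sum) : μ = Multiset.replicate (Multiset.card μ) 1 := by
  rw [Multiset.eq_replicate_card]
  have h1 : kapm μ 1 = μ.sum := by rw [kapm_one μ hμ, h]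
  intro b hb
  have := (kapm_eq_sum_iff μ 1).1 h1 b hb
  have := hμ b hb
  omega

end multiset

section matrix

variable {n : ℕ}

/-- kernel dimensions of the powers of a matrix -/
noncomputable def mkap (A : Matrix (Fin n) (Fin n) F) (k : ℕ) : ℕ := kap (Matrix.toLin' A) k

lemma pow_eq_zero_iff_mkap (A : Matrix (Fin n) (Fin n) F) (k : ℕ) : A ^ k = 0 ↔ mkap A k = n := by
  unfold mkap
  have h := pow_eq_zero_iff_kap (Matrix.toLin' A) k
  rw [Module.finrank_fin_fun] at h
  rw [← h, ← Matrix.toLin'_pow]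
  constructor
  · intro h1
    rw [h1, map_zero]
  · intro h1
    exact Matrix.toLin'.injective (by rw [h1, map_zero])

lemma isNilpotent_toLin' (A : Matrix (Fin n) (Fin n) F) (hA : IsNilpotent A) :
    IsNilpotent (Matrix.toLin' A) := by
  obtain ⟨k, hk⟩ := hA
  exact ⟨k, by rw [← Matrix.toLin'_pow, hk, map_zero]⟩

/-- every endomorphism of an `n`-dimensional space is conjugate to a matrix -/
theorem exists_matrix_conj (V : Type*) [AddCommGroup V] [Module F V] [FiniteDimensional F V]
    (T : End F V) (h : finrank F V = n) :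
    ∃ A : Matrix (Fin n) (Fin n) F, Conj T (Matrix.toLin' A) := by
  classical
  let b : Basis (Fin n) F V := Module.finBasisOfFinrankEq F V h
  refine ⟨LinearMap.toMatrix b b T, b.equivFun, fun v => ?_⟩
  rw [Matrix.toLin'_apply, Basis.equivFun_apply, Basis.equivFun_apply,
    LinearMap.toMatrix_mulVec_repr]

theorem mkap_eq_of_conj (A B : Matrix (Fin n) (Fin n) F) (M : GL (Fin n) F)
    (h : (M : Matrix (Fin n) (Fin n) F) * A = B * (M : Matrix (Fin n) (Fin n) F)) (k : ℕ) :
    mkap A k = mkap B k := by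
  unfold mkap
  apply kap_conj
  have h1 : (M⁻¹ : GL (Fin n) F).val * M.val = 1 := by
    rw [← Units.val_mul, inv_mul_cancel, Units.val_one]
  have h2 : M.val * (M⁻¹ : GL (Fin n) F).val = 1 := by
    rw [← Units.val_mul, mul_inv_cancel, Units.val_one]
  refine ⟨Matrix.toLin'OfInv h1 h2, fun v => ?_⟩
  show Matrix.toLin' M.val (Matrix.toLin' A v) = Matrix.toLin' B (Matrix.toLin' M.val v)
  rw [← Matrix.toLin'_mul_apply, ← Matrix.toLin'_mul_apply, h]

/-- nilpotent matrices with the same kernel dimensions are conjugate -/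
theorem matrix_conj_of_mkap_eq (A B : Matrix (Fin n) (Fin n) F) (hA : IsNilpotent A)
    (hB : IsNilpotent B) (h : ∀ k, mkap A k = mkap B k) :
    ∃ M : GL (Fin n) F, (M : Matrix (Fin n) (Fin n) F) * A = B * (M : Matrix (Fin n) (Fin n) F) := by
  obtain ⟨e, he⟩ := conj_of_kap_eq n (Fin n → F) (Fin n → F) (Matrix.toLin' A) (Matrix.toLin' B)
    (Module.finrank_fin_fun F) (Module.finrank_fin_fun F) (isNilpotent_toLin' A hA)
    (isNilpotent_toLin' B hB) h
  let Q : End F (Fin n → F) := (e : (Fin n → F) →ₗ[F] (Fin n → F))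
  let Q' : End F (Fin n → F) := (e.symm : (Fin n → F) →ₗ[F] (Fin n → F))
  have hQQ' : Q * Q' = 1 := by
    apply LinearMap.ext; intro v; exact e.apply_symm_apply v
  have hQ'Q : Q' * Q = 1 := by
    apply LinearMap.ext; intro v; exact e.symm_apply_apply v
  have hQT : Q * Matrix.toLin' A = Matrix.toLin' B * Q := by
    apply LinearMap.ext
    intro v
    exact he v
  refine ⟨⟨LinearMap.toMatrixAlgEquiv' Q, LinearMap.toMatrixAlgEquiv' Q', ?_, ?_⟩, ?_⟩
  · rw [← map_mul, hQQ', map_one]
  · rw [← map_mul, hQ'Q, map_one]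
  · show LinearMap.toMatrixAlgEquiv' Q * A = B * LinearMap.toMatrixAlgEquiv' Q
    have h1 : A = LinearMap.toMatrixAlgEquiv' (Matrix.toLin' A) :=
      (LinearMap.toMatrix'_toLin' A).symm
    have h2 : B = LinearMap.toMatrixAlgEquiv' (Matrix.toLin' B) :=
      (LinearMap.toMatrix'_toLin' B).symm
    rw [h1, h2, ← map_mul, ← map_mul, hQT]

/-- every nilpotent matrix has a Jordan type -/
theorem exists_type_matrix (A : Matrix (Fin n) (Fin n) F) (hA : IsNilpotent A) :
    ∃ μ : Multiset ℕ, (∀ a ∈ μ, 1 ≤ a) ∧ μ.sum = n ∧ ∀ k, mkap A k = kapm μ k :=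
  exists_type n (Fin n → F) (Matrix.toLin' A) (Module.finrank_fin_fun F) (isNilpotent_toLin' A hA)

/-- every Jordan type is realised by a nilpotent matrix -/
theorem exists_matrix_of_type (μ : Multiset ℕ) (hμ : μ.sum = n) :
    ∃ A : Matrix (Fin n) (Fin n) F, IsNilpotent A ∧ ∀ k, mkap A k = kapm μ k := by
  classical
  let e : μ.ToType → ℕ := fun x => (x : ℕ)
  have hfr : finrank F ((Σ x : μ.ToType, Fin (e x)) → F) = n := by
    rw [Module.finrank_fintype_fun_eq_card, Fintype.card_sigma]
    simp only [Fintype.card_fin, e]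
    rw [← hμ, Multiset.sum_eq_sum_coe]
  obtain ⟨A, hA⟩ := exists_matrix_conj _ (Jmod F e) hfr
  have hk : ∀ k, mkap A k = kapm μ k := by
    intro k
    unfold mkap
    rw [← kap_conj hA k, kap_Jmod]
    unfold kapm
    rw [← Multiset.map_univ μ (fun a => min a k)]
    rfl
  refine ⟨A, ⟨n, ?_⟩, hk⟩
  rw [pow_eq_zero_iff_mkap, hk, ← hμ]
  rw [kapm_eq_sum_iff]
  intro a ha
  exact Multiset.le_sum_of_mem ha

end matrix

section group

variable {n : ℕ}

theorem exists_gl_of_type (μ : Multiset ℕ) (hμ : μ.sum = n) :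
    ∃ g : GL (Fin n) F, IsNilpotent ((g : Matrix (Fin n) (Fin n) F) - 1) ∧
      ∀ k, mkap ((g : Matrix (Fin n) (Fin n) F) - 1) k = kapm μ k := by
  obtain ⟨A, hA, hk⟩ := exists_matrix_of_type (F := F) μ hμ
  have hu : IsUnit (1 + A) := hA.isUnit_one_add
  refine ⟨hu.unit, ?_, ?_⟩
  · rw [IsUnit.unit_spec, add_sub_cancel_left]
    exact hA
  · rw [IsUnit.unit_spec, add_sub_cancel_left]
    exact hk

lemma conj_sub_one (g h c : GL (Fin n) F) (hc : c * g * c⁻¹ = h) :
    (c : Matrix (Fin n) (Fin n) F) * ((g : Matrix (Fin n) (Fin n) F) - 1) =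
      ((h : Matrix (Fin n) (Fin n) F) - 1) * (c : Matrix (Fin n) (Fin n) F) := by
  have h1 : c * g = h * c := by rw [← hc]; group
  have h2 : (c : Matrix (Fin n) (Fin n) F) * (g : Matrix (Fin n) (Fin n) F) =
      (h : Matrix (Fin n) (Fin n) F) * (c : Matrix (Fin n) (Fin n) F) := by
    rw [← Units.val_mul, h1, Units.val_mul]
  rw [mul_sub, sub_mul, h2, mul_one, one_mul]

lemma isConj_of_sub_one (g h M : GL (Fin n) F)
    (hM : (M : Matrix (Fin n) (Fin n) F) * ((g : Matrix (Fin n) (Fin n) F) - 1) =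
      ((h : Matrix (Fin n) (Fin n) F) - 1) * (M : Matrix (Fin n) (Fin n) F)) : IsConj g h := by
  rw [isConj_iff]
  refine ⟨M, ?_⟩
  rw [mul_inv_eq_iff_eq_mul]
  apply Units.ext
  rw [Units.val_mul, Units.val_mul]
  rw [mul_sub, sub_mul, mul_one, one_mul] at hM
  exact sub_left_injective hM

/-- the general count of unipotent classes by Jordan type -/
theorem card_classes (R : GL (Fin n) F → Prop) (Q : Nat.Partition n → Prop)
    (hRQ : ∀ (g : GL (Fin n) F) (μ : Nat.Partition n),
      IsNilpotent ((g : Matrix (Fin n) (Fin n) F) - 1) →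
      (∀ k, mkap ((g : Matrix (Fin n) (Fin n) F) - 1) k = kapm μ.parts k) → (R g ↔ Q μ)) :
    Nat.card {C : ConjClasses (GL (Fin n) F) // ∃ g : GL (Fin n) F,
      (IsNilpotent ((g : Matrix (Fin n) (Fin n) F) - 1) ∧ R g) ∧ ConjClasses.mk g = C} =
      Nat.card {μ : Nat.Partition n // Q μ} := by
  choose G hG1 hG2 using fun μ : Nat.Partition n => exists_gl_of_type (F := F) μ.parts μ.parts_sum
  let Ψ : {μ : Nat.Partition n // Q μ} → {C : ConjClasses (GL (Fin n) F) // ∃ g : GL (Fin n) F,
      (IsNilpotent ((g : Matrix (Fin n) (Fin n) F) - 1) ∧ R g) ∧ ConjClasses.mk g = C} :=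
    fun μ => ⟨ConjClasses.mk (G μ.1), G μ.1,
      ⟨hG1 μ.1, (hRQ (G μ.1) μ.1 (hG1 μ.1) (hG2 μ.1)).2 μ.2⟩, rfl⟩
  have hΨ : Function.Bijective Ψ := by
    constructor
    · rintro ⟨μ, hμ⟩ ⟨ν, hν⟩ h
      have h1 : ConjClasses.mk (G μ) = ConjClasses.mk (G ν) := congrArg Subtype.val h
      rw [ConjClasses.mk_eq_mk_iff_isConj, isConj_iff] at h1
      obtain ⟨c, hc⟩ := h1
      have h2 := mkap_eq_of_conj _ _ c (conj_sub_one (G μ) (G ν) c hc)
      have h3 : μ.parts = ν.parts := by
        apply type_unique _ _ (fun a ha => μ.parts_pos ha) (fun a ha => ν.parts_pos ha)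
        intro k
        rw [← hG2 μ k, ← hG2 ν k, h2 k]
      apply Subtype.ext
      exact Nat.Partition.ext h3
    · rintro ⟨C, g, ⟨hnil, hR⟩, rfl⟩
      obtain ⟨μ', hpos, hsum, hk⟩ := exists_type_matrix _ hnil
      let μ : Nat.Partition n := ⟨μ', fun {i} hi => hpos i hi, hsum⟩
      have hQ : Q μ := (hRQ g μ hnil hk).1 hR
      refine ⟨⟨μ, hQ⟩, ?_⟩
      apply Subtype.ext
      show ConjClasses.mk (G μ) = ConjClasses.mk g
      rw [ConjClasses.mk_eq_mk_iff_isConj]
      obtain ⟨M, hM⟩ := matrix_conj_of_mkap_eq _ _ hnil (hG1 μ) (fun k => by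
        rw [hk k, hG2 μ k])
      exact (isConj_of_sub_one g (G μ) M hM).symm
  exact (Nat.card_congr (Equiv.ofBijective Ψ hΨ)).symm

end group

section charp

open Polynomial

variable {n : ℕ} (p : ℕ) [Fact p.Prime] [CharP F p]

lemma sub_one_pow_char_pow (A : Matrix (Fin n) (Fin n) F) (k : ℕ) :
    (A - 1) ^ (p ^ k) = A ^ (p ^ k) - 1 := by
  have h1 : ((X : F[X]) - C 1) ^ (p ^ k) = X ^ (p ^ k) - C 1 := by
    rw [sub_pow_char_pow, ← C_pow, one_pow]
  have h2 := congrArg (aeval A) h1
  simpa using h2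

theorem unip_iff (g : GL (Fin n) F) :
    (∃ k : ℕ, orderOf g = p ^ k) ↔ IsNilpotent ((g : Matrix (Fin n) (Fin n) F) - 1) := by
  constructor
  · rintro ⟨k, hk⟩
    refine ⟨p ^ k, ?_⟩
    rw [sub_one_pow_char_pow, ← Units.val_pow_eq_pow_val, ← hk, pow_orderOf_eq_one, Units.val_one,
      sub_self]
  · rintro ⟨j, hj⟩
    have hp : 1 < p := (Fact.out : p.Prime).one_lt
    have hle : j ≤ p ^ j := (Nat.lt_pow_self hp).le
    have h1 : ((g : Matrix (Fin n) (Fin n) F) - 1) ^ (p ^ j) = 0 := pow_eq_zero_of_le hle hj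
    rw [sub_one_pow_char_pow, sub_eq_zero, ← Units.val_pow_eq_pow_val] at h1
    have h2 : g ^ (p ^ j) = 1 := Units.ext h1
    have h3 : orderOf g ∣ p ^ j := orderOf_dvd_of_pow_eq_one h2
    obtain ⟨i, _, hi⟩ := (Nat.dvd_prime_pow (Fact.out : p.Prime)).1 h3
    exact ⟨i, hi⟩

theorem order_p_iff (g : GL (Fin n) F) :
    orderOf g = p ↔ ((g : Matrix (Fin n) (Fin n) F) - 1 ≠ 0 ∧
      ((g : Matrix (Fin n) (Fin n) F) - 1) ^ p = 0) := by
  have hpow : ((g : Matrix (Fin n) (Fin n) F) - 1) ^ p = 0 ↔ g ^ p = 1 := by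
    have := sub_one_pow_char_pow p (g : Matrix (Fin n) (Fin n) F) 1
    rw [pow_one] at this
    rw [this, sub_eq_zero, ← Units.val_pow_eq_pow_val]
    constructor
    · intro h; exact Units.ext h
    · intro h; rw [h, Units.val_one]
  have hne : (g : Matrix (Fin n) (Fin n) F) - 1 ≠ 0 ↔ g ≠ 1 := by
    rw [Ne, sub_eq_zero, Ne]
    constructor
    · intro h h'; apply h; rw [h', Units.val_one]
    · intro h h'; apply h; exact Units.ext h'
  rw [hpow, hne]
  constructor
  · intro h
    refine ⟨?_, ?_⟩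
    · intro h1
      rw [h1, orderOf_one] at h
      exact (Fact.out : p.Prime).one_lt.ne h
    · rw [← h, pow_orderOf_eq_one]
  · rintro ⟨h1, h2⟩
    exact orderOf_eq_prime h2 h1

end charp

end Cfsg.Agent.Lib.Helper15.NilpotentConj
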