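import Mathlib
import Cfsg.Agent.Lib.Helper15.NilpotentConj

set_option autoImplicit false

namespace Cfsg.Agent.Lib.Helper15.UniDecomp

open Module Polynomial Cfsg.Agent.Lib.Helper15.SemisimpleConj Cfsg.Agent.Lib.Helper15.NilpotentConj

universe u

variable {F : Type u} [Field F]

/-- in characteristic `p` the norm polynomial is a power of `X - 1` -/
lemma geom_sum_eq_pow (p : ℕ) [Fact p.Prime] [CharP F p] :
    (∑ i ∈ Finset.range p, (X : F[X]) ^ i) = (X - 1) ^ (p - 1) := by
  have hp := (Fact.out : p.Prime).pos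
  have h1 : (X - 1 : F[X]) * ∑ i ∈ Finset.range p, (X : F[X]) ^ i =
      (X - 1) * (X - 1) ^ (p - 1) := by
    rw [mul_geom_sum, ← pow_succ', Nat.sub_add_cancel hp, sub_pow_char, one_pow]
  have h2 : (X - 1 : F[X]) ≠ 0 := by
    have := X_sub_C_ne_zero (1 : F)
    rwa [map_one] at this
  exact mul_left_cancel₀ h2 h1

/-- the top power of `T - 1` is the norm operator -/
lemma sub_one_pow_eq_sum {V : Type*} [AddCommGroup V] [Module F V] (p : ℕ) [Fact p.Prime]
    [CharP F p] (T : End F V) : (T - 1) ^ (p - 1) = ∑ i ∈ Finset.range p, T ^ i := by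
  have := congrArg (aeval T) (geom_sum_eq_pow (F := F) p)
  rw [map_sum, map_pow, map_sub, aeval_X, map_one] at this
  rw [← this]
  apply Finset.sum_congr rfl
  intro i _
  rw [map_pow, aeval_X]

variable {V : Type u} [AddCommGroup V] [Module F V] [FiniteDimensional F V]

/-- the Jordan type of an invariant direct summand is a sub-multiset of the Jordan type -/
theorem type_le_of_isCompl (M : End F V) (hM : IsNilpotent M) (μ : Multiset ℕ)
    (hμ : ∀ b ∈ μ, 1 ≤ b) (hk : ∀ s, kap M s = kapm μ s) (W W' : Submodule F V)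
    (hW : W ∈ M.invtSubmodule) (hW' : W' ∈ M.invtSubmodule) (hc : IsCompl W W') :
    ∃ ν : Multiset ℕ, ν ≤ μ ∧ ν.sum = finrank F W ∧ (∀ b ∈ ν, 1 ≤ b) ∧
      ∀ s, kap (M.restrict hW) s = kapm ν s := by
  obtain ⟨k, hk0⟩ := hM
  obtain ⟨ν, hν1, hν2, hν3⟩ := exists_type (finrank F W) W (M.restrict hW) rfl
    ⟨k, restrict_pow M W hW k hk0⟩
  obtain ⟨ν', hν'1, hν'2, hν'3⟩ := exists_type (finrank F W') W' (M.restrict hW') rfl
    ⟨k, restrict_pow M W' hW' k hk0⟩
  have hconj := conj_prodMap_of_isCompl M W W' hW hW' hc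
  have heq : μ = ν + ν' := by
    apply type_unique μ (ν + ν') hμ
    · intro b hb
      rcases Multiset.mem_add.1 hb with h | h
      · exact hν1 b h
      · exact hν'1 b h
    · intro s
      rw [← hk, ← kap_conj hconj s, kap_prodMap, hν3, hν'3]
      unfold kapm
      rw [Multiset.map_add, Multiset.sum_add]
  refine ⟨ν, ?_, hν2, hν1, hν3⟩
  rw [heq]
  exact Multiset.le_add_right ν ν'

/-- a unipotent element of order `p` with fewer than `a` blocks of size `p` cannot move a summand
of dimension `a` of an invariant decomposition -/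
theorem fixes_summand (p : ℕ) [Fact p.Prime] [CharP F p] (T : End F V) (hTp : T ^ p = 1)
    (μ : Multiset ℕ) (hμ : ∀ b ∈ μ, 0 < b ∧ b ≤ p) (hk : ∀ s, kap (T - 1) s = kapm μ s)
    {t : ℕ} (D : Fin t → Submodule F V) (a : ℕ) (ha : 1 ≤ a) (hfr : ∀ i, finrank F (D i) = a)
    (hind : iSupIndep D) (σ : Equiv.Perm (Fin t)) (hσ : ∀ j, (D j).map T = D (σ j))
    (hcount : μ.count p < a) (j : Fin t) : σ j = j := by
  classical
  have hp := (Fact.out : p.Prime)
  by_contra hne
  -- powers
  have hpow : ∀ i : ℕ, ∀ k, (D k).map (T ^ i) = D ((σ ^ i) k) := by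
    intro i
    induction i with
    | zero =>
      intro k
      rw [pow_zero, pow_zero, Module.End.one_eq_id, Submodule.map_id]
      rfl
    | succ i ih =>
      intro k
      rw [pow_succ', Module.End.mul_eq_comp, Submodule.map_comp, ih, hσ, pow_succ',
        Equiv.Perm.mul_apply]
  have hDne : ∀ k, D k ≠ ⊥ := by
    intro k hk0
    have := hfr k
    rw [hk0, finrank_bot] at this
    omega
  have hDinj : Function.Injective D := hind.injective hDne
  have hσp : (σ ^ p) j = j := by
    apply hDinj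
    rw [← hpow, hTp, Module.End.one_eq_id, Submodule.map_id]
  have hmove : ∀ i, 0 < i → i < p → (σ ^ i) j ≠ j := by
    intro i hi0 hip hfix
    have h1 : Function.IsPeriodicPt σ i j := by
      show (⇑σ)^[i] j = j
      rw [Equiv.Perm.iterate_eq_pow]
      exact hfix
    have h2 : Function.IsPeriodicPt σ p j := by
      show (⇑σ)^[p] j = j
      rw [Equiv.Perm.iterate_eq_pow]
      exact hσp
    have h3 := h1.gcd h2
    have h4 : Nat.gcd i p = 1 := by
      rw [Nat.gcd_comm]
      exact (Nat.Prime.coprime_iff_not_dvd hp).2 (Nat.not_dvd_of_pos_of_lt hi0 hip)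
    rw [h4] at h3
    exact hne h3
  -- the norm operator is injective on `D j`
  have hinj : Disjoint (LinearMap.ker ((T - 1) ^ (p - 1))) (D j) := by
    rw [Submodule.disjoint_def]
    intro v hv hvD
    rw [LinearMap.mem_ker, sub_one_pow_eq_sum p T, LinearMap.sum_apply,
      Finset.range_eq_Ico, Finset.sum_eq_sum_Ico_succ_bot hp.pos, pow_zero,
      Module.End.one_apply] at hv
    have h1 : ∑ i ∈ Finset.Ico (0 + 1) p, (T ^ i) v ∈ ⨆ (k) (_ : k ≠ j), D k := by
      apply Submodule.sum_mem
      intro i hi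
      rw [Finset.mem_Ico] at hi
      have h2 : (T ^ i) v ∈ D ((σ ^ i) j) := by
        rw [← hpow]
        exact Submodule.mem_map_of_mem hvD
      exact (le_iSup₂ (f := fun k (_ : k ≠ j) => D k) ((σ ^ i) j)
        (hmove i (by omega) hi.2)) h2
    have h3 : v ∈ ⨆ (k) (_ : k ≠ j), D k := by
      have : v = -∑ i ∈ Finset.Ico (0 + 1) p, (T ^ i) v := eq_neg_of_add_eq_zero_left hv
      rw [this]
      exact Submodule.neg_mem _ h1
    have := (hind j)
    rw [Submodule.disjoint_def] at this
    exact this v hvD h3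
  -- dimension count
  have h1 := Submodule.finrank_sup_add_finrank_inf_eq (LinearMap.ker ((T - 1) ^ (p - 1))) (D j)
  rw [disjoint_iff.1 hinj, finrank_bot, add_zero, hfr] at h1
  have h2 := Submodule.finrank_le (LinearMap.ker ((T - 1) ^ (p - 1)) ⊔ D j)
  have h3 : kap (T - 1) (p - 1) + a ≤ finrank F V := by
    unfold kap
    omega
  have h4 : kap (T - 1) p = finrank F V := by
    rw [← pow_eq_zero_iff_kap]
    have h5 : (T - 1) ^ p = T ^ p - 1 := by
      have := congrArg (aeval T) (sub_pow_char (X : F[X]) 1 (p := p))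
      rw [map_pow, map_sub, aeval_X, map_one, map_sub, map_pow, aeval_X, one_pow, map_one] at this
      exact this
    rw [h5, hTp, sub_self]
  have h6 := kapm_succ μ (p - 1)
  rw [Nat.sub_add_cancel hp.pos] at h6
  have h7 : Multiset.card (μ.filter (fun b => p ≤ b)) = μ.count p := by
    rw [Multiset.count_eq_card_filter_eq]
    congr 1
    apply Multiset.filter_congr
    intro b hb
    have := (hμ b hb).2
    constructor
    · intro h; omega
    · intro h; omega
  rw [hk] at h3 h4
  omega

end Cfsg.Agent.Lib.Helper15.UniDecomp
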