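import Mathlib
import Cfsg.Agent.Lib.Helper15.NilpotentConj
import Cfsg.Agent.Lib.Helper15.SkewNil

/-! Helper15 library: every unipotent Jordan type is realised by a unitary matrix. -/

set_option autoImplicit false

namespace Cfsg.Agent.Lib.Helper15.UnitaryType

open Matrix Module Cfsg.Agent.Lib.Helper15.NilpotentConj Cfsg.Agent.Lib.Helper15.SemisimpleConj
  Cfsg.Agent.Lib.Helper15

section blocks

variable {K : Type*} [Field K] {a b : ℕ}

/-- block diagonal matrix on `Fin (a + b)` -/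
def bd (A : Matrix (Fin a) (Fin a) K) (B : Matrix (Fin b) (Fin b) K) :
    Matrix (Fin (a + b)) (Fin (a + b)) K :=
  Matrix.reindex finSumFinEquiv finSumFinEquiv (Matrix.fromBlocks A 0 0 B)

lemma bd_mul (A A' : Matrix (Fin a) (Fin a) K) (B B' : Matrix (Fin b) (Fin b) K) :
    bd A B * bd A' B' = bd (A * A') (B * B') := by
  unfold bd
  rw [Matrix.reindex_apply, Matrix.reindex_apply, Matrix.reindex_apply, Matrix.submatrix_mul_equiv,
    Matrix.fromBlocks_multiply]
  simp

lemma bd_one : bd (1 : Matrix (Fin a) (Fin a) K) (1 : Matrix (Fin b) (Fin b) K) = 1 := by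
  unfold bd
  rw [Matrix.fromBlocks_one, Matrix.reindex_apply, Matrix.submatrix_one_equiv]

lemma bd_sub (A A' : Matrix (Fin a) (Fin a) K) (B B' : Matrix (Fin b) (Fin b) K) :
    bd A B - bd A' B' = bd (A - A') (B - B') := by
  unfold bd
  rw [Matrix.reindex_apply, Matrix.reindex_apply, Matrix.reindex_apply]
  ext i j
  simp only [Matrix.sub_apply, Matrix.submatrix_apply]
  rcases finSumFinEquiv.symm i with i' | i' <;> rcases finSumFinEquiv.symm j with j' | j' <;> simp

lemma bd_conjTranspose [StarRing K] (A : Matrix (Fin a) (Fin a) K) (B : Matrix (Fin b) (Fin b) K) :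
    (bd A B)ᴴ = bd Aᴴ Bᴴ := by
  unfold bd
  rw [Matrix.reindex_apply, Matrix.reindex_apply, Matrix.conjTranspose_submatrix,
    Matrix.fromBlocks_conjTranspose]
  simp

lemma bd_pow (A : Matrix (Fin a) (Fin a) K) (B : Matrix (Fin b) (Fin b) K) (k : ℕ) :
    (bd A B) ^ k = bd (A ^ k) (B ^ k) := by
  induction k with
  | zero => rw [pow_zero, pow_zero, pow_zero, bd_one]
  | succ k ih => rw [pow_succ, ih, bd_mul, ← pow_succ, ← pow_succ]

lemma bd_zero : bd (0 : Matrix (Fin a) (Fin a) K) (0 : Matrix (Fin b) (Fin b) K) = 0 := by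
  unfold bd
  rw [Matrix.fromBlocks_zero, Matrix.reindex_apply, Matrix.submatrix_zero]
  rfl

/-- the splitting of `Fin (a + b) → K` -/
def splitEquiv (K : Type*) [Field K] (a b : ℕ) :
    (Fin (a + b) → K) ≃ₗ[K] (Fin a → K) × (Fin b → K) :=
  (LinearEquiv.funCongrLeft K K finSumFinEquiv).trans
    (LinearEquiv.sumArrowLequivProdArrow (Fin a) (Fin b) K K)

lemma conj_bd (A : Matrix (Fin a) (Fin a) K) (B : Matrix (Fin b) (Fin b) K) :
    Conj (Matrix.toLin' (bd A B)) ((Matrix.toLin' A).prodMap (Matrix.toLin' B)) := by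
  refine ⟨splitEquiv K a b, fun v => ?_⟩
  unfold bd splitEquiv
  rw [Matrix.toLin'_apply, Matrix.reindex_apply, Matrix.submatrix_mulVec_equiv,
    Matrix.fromBlocks_mulVec]
  apply Prod.ext
  · funext i
    simp [LinearEquiv.funCongrLeft, LinearEquiv.sumArrowLequivProdArrow, Matrix.toLin'_apply]
    rfl
  · funext i
    simp [LinearEquiv.funCongrLeft, LinearEquiv.sumArrowLequivProdArrow, Matrix.toLin'_apply]
    rfl

lemma mkap_bd (A : Matrix (Fin a) (Fin a) K) (B : Matrix (Fin b) (Fin b) K) (k : ℕ) :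
    mkap (bd A B) k = mkap A k + mkap B k := by
  unfold mkap
  rw [kap_conj (conj_bd A B) k, kap_prodMap]

end blocks

section main

variable {K : Type*} [Field K] [StarRing K]

omit [StarRing K] in
lemma mkap_regular {a : ℕ} (N : Matrix (Fin a) (Fin a) K) (hnil : N ^ a = 0)
    (hr : N.rank = a - 1) (ha : 1 ≤ a) (k : ℕ) : mkap N k = min a k := by
  obtain ⟨μ, hpos, hsum, hk⟩ := exists_type_matrix N ⟨a, hnil⟩
  have h1 : mkap N 1 = 1 := by
    unfold mkap kap
    rw [pow_one]
    have h := LinearMap.finrank_range_add_finrank_ker (Matrix.toLin' N)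
    have hr' : finrank K (LinearMap.range (Matrix.toLin' N)) = a - 1 := by
      rw [Matrix.toLin'_apply']
      exact hr
    rw [hr', Module.finrank_fin_fun] at h
    omega
  have hcard : Multiset.card μ = 1 := by rw [← kapm_one μ hpos, ← hk 1, h1]
  obtain ⟨x, rfl⟩ := Multiset.card_eq_one.1 hcard
  rw [Multiset.sum_singleton] at hsum
  rw [hk k, hsum]
  unfold kapm
  simp

/-- every Jordan type is realised by a unitary unipotent matrix -/
theorem exists_unitary_of_type (hT : ∃ d : K, d + star d ≠ 0)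
    (hN : ∀ x : K, star x = x → x ≠ 0 → ∃ r : K, star r * r = x)
    (hS : ∃ τ : K, τ ≠ 0 ∧ star τ = -τ) (μ : Multiset ℕ) :
    (∀ a ∈ μ, 1 ≤ a) → ∀ n, μ.sum = n → ∃ g : Matrix (Fin n) (Fin n) K,
      gᴴ * g = 1 ∧ IsNilpotent (g - 1) ∧ ∀ k, mkap (g - 1) k = kapm μ k := by
  induction μ using Multiset.induction_on with
  | empty =>
    intro _ n hn
    rw [Multiset.sum_zero] at hn
    subst hn
    refine ⟨1, by rw [conjTranspose_one, Matrix.one_mul], ⟨1, by rw [sub_self, pow_one]⟩, fun k => ?_⟩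
    have h1 : ((1 : Matrix (Fin 0) (Fin 0) K) - 1) ^ k = 0 := Subsingleton.elim _ _
    rw [(pow_eq_zero_iff_mkap _ k).1 h1]
    unfold kapm
    simp
  | cons a μ ih =>
    intro hpos n hn
    rw [Multiset.sum_cons] at hn
    subst hn
    obtain ⟨g', hg'u, hg'n, hg'k⟩ :=
      ih (fun x hx => hpos x (Multiset.mem_cons_of_mem hx)) μ.sum rfl
    have ha : 1 ≤ a := hpos a (Multiset.mem_cons_self a μ)
    obtain ⟨u₀, hu₀, hnil₀, hrk₀, _, _⟩ := SkewNil.exists_std hT hN hS ha
    refine ⟨bd u₀ g', ?_, ?_, ?_⟩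
    · rw [bd_conjTranspose, bd_mul, hu₀, hg'u, bd_one]
    · rw [← bd_one, bd_sub]
      obtain ⟨j, hj⟩ := hg'n
      refine ⟨max a j, ?_⟩
      rw [bd_pow, pow_eq_zero_of_le (le_max_left _ _) hnil₀,
        pow_eq_zero_of_le (le_max_right _ _) hj, bd_zero]
    · intro k
      rw [← bd_one, bd_sub, mkap_bd, mkap_regular _ hnil₀ hrk₀ ha, hg'k]
      unfold kapm
      rw [Multiset.map_cons, Multiset.sum_cons]

end main

end Cfsg.Agent.Lib.Helper15.UnitaryType
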