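import Cfsg.Agent.Lib.Helper15.SemisimpleCount

set_option autoImplicit false

namespace Cfsg.Agent.Lib.Helper15.PrimeOrderClasses

open Polynomial

section comb

/-- tuples with bounded sum -/
theorem card_bounded_tuples (t k : ℕ) :
    Nat.card {a : Fin t → ℕ // ∑ j, a j ≤ k} = (k + t).choose t := by
  classical
  have e : {a : Fin t → ℕ // ∑ j, a j ≤ k} ≃ {P : Option (Fin t) → ℕ // ∑ o, P o = k} := by
    refine ⟨fun a => ⟨fun o => Option.casesOn o (k - ∑ j, a.1 j) a.1, ?_⟩,
      fun P => ⟨fun j => P.1 (some j), ?_⟩, ?_, ?_⟩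
    · rw [Fintype.sum_option]
      have := a.2
      simp only
      omega
    · have := P.2
      rw [Fintype.sum_option] at this
      show ∑ j, P.1 (some j) ≤ k
      omega
    · intro a
      rfl
    · intro P
      apply Subtype.ext
      funext o
      cases o with
      | none =>
        have := P.2
        rw [Fintype.sum_option] at this
        simp only
        omega
      | some j => rfl
  rw [Nat.card_congr e, Nat.card_congr (Sym.equivNatSumOfFintype (Option (Fin t)) k).symm,
    Nat.card_eq_fintype_card, Sym.card_sym_eq_choose, Fintype.card_option, Fintype.card_fin]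
  have : t + 1 + k - 1 = k + t := by omega
  rw [this, Nat.choose_symm_add]

theorem card_nonzero_bounded_tuples (t k : ℕ) :
    Nat.card {a : Fin t → ℕ // ∑ j, a j ≤ k ∧ a ≠ 0} = (k + t).choose t - 1 := by
  classical
  rw [← card_bounded_tuples t k]
  have h0 : (∑ j : Fin t, (0 : Fin t → ℕ) j) ≤ k := by simp
  have e : {a : Fin t → ℕ // ∑ j, a j ≤ k} ≃ Option {a : Fin t → ℕ // ∑ j, a j ≤ k ∧ a ≠ 0} := by
    refine ⟨fun a => if h : a.1 = 0 then none else some ⟨a.1, a.2, h⟩,
      fun o => Option.casesOn o ⟨0, h0⟩ (fun a => ⟨a.1, a.2.1⟩), ?_, ?_⟩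
    · intro a
      by_cases h : a.1 = 0
      · simp only [dif_pos h]
        apply Subtype.ext
        exact h.symm
      · simp only [dif_neg h]
    · intro o
      cases o with
      | none => simp
      | some a => simp [a.2.2]
  have hfin : Finite {a : Fin t → ℕ // ∑ j, a j ≤ k} := by
    apply Nat.finite_of_card_ne_zero
    rw [card_bounded_tuples]
    exact (Nat.choose_pos (by omega)).ne'
  have : Finite {a : Fin t → ℕ // ∑ j, a j ≤ k ∧ a ≠ 0} :=
    Finite.of_injective (fun a => (⟨a.1, a.2.1⟩ : {a : Fin t → ℕ // ∑ j, a j ≤ k}))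
      (fun a b h => Subtype.ext (congrArg (fun x : {a : Fin t → ℕ // ∑ j, a j ≤ k} => x.1) h))
  rw [Nat.card_congr e, Finite.card_option]
  omega

end comb

section ufd

variable {F : Type*} [Field F]

lemma exp_le_of_prod_dvd {ι : Type*} [Fintype ι] [DecidableEq ι] (h : ι → F[X])
    (hirr : ∀ i, Irreducible (h i)) (hcop : ∀ i j, i ≠ j → IsCoprime (h i) (h j))
    (a b : ι → ℕ) (hdvd : ∏ i, h i ^ a i ∣ ∏ i, h i ^ b i) (j : ι) : a j ≤ b j := by
  have h1 : h j ^ a j ∣ ∏ i, h i ^ b i :=
    (Finset.dvd_prod_of_mem (fun i => h i ^ a i) (Finset.mem_univ j)).trans hdvd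
  rw [← Finset.mul_prod_erase Finset.univ _ (Finset.mem_univ j)] at h1
  have h2 : IsCoprime (h j ^ a j) (∏ i ∈ Finset.univ.erase j, h i ^ b i) := by
    apply IsCoprime.pow_left
    apply IsCoprime.prod_right
    intro i hi
    apply IsCoprime.pow_right
    exact hcop j i (Finset.ne_of_mem_erase hi).symm
  have h3 := h2.dvd_of_dvd_mul_right h1
  exact (pow_dvd_pow_iff (hirr j).ne_zero (hirr j).not_isUnit).1 h3

lemma exp_unique {ι : Type*} [Fintype ι] [DecidableEq ι] (h : ι → F[X])
    (hirr : ∀ i, Irreducible (h i)) (hcop : ∀ i j, i ≠ j → IsCoprime (h i) (h j))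
    (a b : ι → ℕ) (heq : ∏ i, h i ^ a i = ∏ i, h i ^ b i) : a = b := by
  funext j
  exact le_antisymm (exp_le_of_prod_dvd h hirr hcop a b (by rw [heq]) j)
    (exp_le_of_prod_dvd h hirr hcop b a (by rw [heq]) j)

end ufd

section fam

variable {F : Type*} [Field F]

lemma family_coprime {ι : Type*} [Fintype ι] [DecidableEq ι] (h : ι → F[X])
    (hmon : ∀ o, (h o).Monic) (hirr : ∀ o, Irreducible (h o)) (hsq : Squarefree (∏ o, h o)) :
    ∀ o o', o ≠ o' → IsCoprime (h o) (h o') := by
  intro o o' hne
  rw [(hirr o).coprime_iff_not_dvd]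
  intro hd
  have heq : h o = h o' :=
    Polynomial.eq_of_monic_of_associated (hmon o) (hmon o') ((hirr o).associated_of_dvd (hirr o') hd)
  have h1 : h o * h o ∣ ∏ o, h o := by
    rw [← Finset.mul_prod_erase Finset.univ _ (Finset.mem_univ o)]
    apply mul_dvd_mul_left
    nth_rewrite 1 [heq]
    exact Finset.dvd_prod_of_mem _ (Finset.mem_erase.2 ⟨hne.symm, Finset.mem_univ _⟩)
  exact (hirr o).not_isUnit (hsq _ h1)

open Module Cfsg.Agent.Lib.Helper15.SemisimpleConj

universe u

/-- characteristic polynomial of an endomorphism killed by a squarefree product of monic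
irreducibles -/
theorem charpoly_of_family {ι : Type*} [Fintype ι] [DecidableEq ι] (h : ι → F[X])
    (hmon : ∀ o, (h o).Monic) (hirr : ∀ o, Irreducible (h o)) (hsq : Squarefree (∏ o, h o)) :
    ∀ (n : ℕ) (V : Type u) [AddCommGroup V] [Module F V] [FiniteDimensional F V] (T : End F V),
      finrank F V = n → aeval T (∏ o, h o) = 0 → ∃ e : ι → ℕ, T.charpoly = ∏ o, h o ^ e o := by
  intro n
  induction n using Nat.strong_induction_on with
  | _ n ih =>
    intro V _ _ _ T hn hT
    rcases Nat.eq_zero_or_pos n with h0 | hpos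
    · refine ⟨0, ?_⟩
      have h1 : T.charpoly = 1 := by
        apply Polynomial.eq_one_of_monic_natDegree_zero (LinearMap.charpoly_monic T)
        rw [LinearMap.charpoly_natDegree, hn, h0]
      rw [h1]; simp
    · have hnt : Nontrivial V := by
        rw [← finrank_pos_iff (R := F)]; omega
      obtain ⟨ℓ, U, hℓ, hU, hirrℓ, hc⟩ := exists_split _ hsq T hT
      have hconj := conj_prodMap_of_isCompl T ℓ U hℓ hU hc
      have hcpT : T.charpoly = (T.restrict hℓ).charpoly * (T.restrict hU).charpoly := by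
        rw [← hconj.charpoly_eq, LinearMap.charpoly_prodMap]
      have h1 : minpoly F (T.restrict hℓ) ∣ ∏ o, h o :=
        minpoly.dvd F _ (aeval_restrict_eq_zero T ℓ hℓ _ hT)
      have h2 := minpoly_irreducible_of_irrAct _ hirrℓ
      obtain ⟨o₀, -, ho₀⟩ := (h2.prime).exists_mem_finset_dvd h1
      have hmin : minpoly F (T.restrict hℓ) = h o₀ :=
        Polynomial.eq_of_monic_of_associated
          (minpoly.monic (Algebra.IsIntegral.isIntegral (R := F) _)) (hmon o₀)
          (h2.associated_of_dvd (hirr o₀) ho₀)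
      have hcℓ : (T.restrict hℓ).charpoly = h o₀ := by
        rw [charpoly_eq_minpoly_of_irrAct _ hirrℓ, hmin]
      have hfℓ : 0 < finrank F ℓ := by
        haveI := hirrℓ.1
        exact finrank_pos
      have hsum := Submodule.finrank_add_eq_of_isCompl hc
      have hlt : finrank F U < n := by omega
      obtain ⟨e', he'⟩ := ih (finrank F U) hlt U (T.restrict hU) rfl
        (aeval_restrict_eq_zero T U hU _ hT)
      refine ⟨fun o => e' o + (if o = o₀ then 1 else 0), ?_⟩
      rw [hcpT, hcℓ, he']
      simp only [pow_add, Finset.prod_mul_distrib, pow_ite, pow_one, pow_zero,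
        Finset.prod_ite_eq', Finset.mem_univ, if_true]
      rw [mul_comm]

end fam

section cyc

variable {F : Type*} [Field F] [Fintype F]

open UniqueFactorizationMonoid

theorem exists_factor_family {p q : ℕ} [hp : Fact p.Prime] [CharP F p] (hF : Fintype.card F = q)
    (r i t : ℕ) (hr : r.Prime) (hrp : r ≠ p) (hi : i = orderOf (q : ZMod r))
    (ht : t * i = r - 1) :
    ∃ h : Option (Fin t) → F[X], (∀ o, (h o).Monic) ∧ (∀ o, Irreducible (h o)) ∧
      h none = X - 1 ∧ (∀ j, (h (some j)).natDegree = i) ∧ (∏ o, h o = X ^ r - 1) := by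
  classical
  obtain ⟨k, -, hk⟩ := FiniteField.card F p
  have hcop : p.Coprime r := (Nat.coprime_primes hp.out hr).2 (Ne.symm hrp)
  have hord : orderOf (ZMod.unitOfCoprime (p ^ (k : ℕ)) (hcop.pow_left k)) = i := by
    rw [hi, ← hF, hk, ← orderOf_units, ZMod.coe_unitOfCoprime]
  have hi0 : 0 < i := by
    rw [← hord]
    exact orderOf_pos _
  set Φ : F[X] := cyclotomic r F with hΦ
  have hΦ0 : Φ ≠ 0 := cyclotomic_ne_zero r F
  set s := (normalizedFactors Φ).toFinset with hs
  have hcard : s.card = t := by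
    rw [hs, normalizedFactors_cyclotomic_card hk hcop, hord, Nat.totient_prime hr, ← ht,
      Nat.mul_div_cancel _ hi0]
  have hrF : (r : F) ≠ 0 := by
    rw [Ne, CharP.cast_eq_zero_iff F p]
    intro hd
    exact hrp ((Nat.prime_dvd_prime_iff_eq hp.out hr).1 hd).symm
  have : NeZero (r : F) := ⟨hrF⟩
  have hsqf : Squarefree Φ := (separable_cyclotomic r F).squarefree
  have hnodup : (normalizedFactors Φ).Nodup :=
    (squarefree_iff_nodup_normalizedFactors hΦ0).1 hsqf
  have hmem : ∀ f ∈ s, f.Monic ∧ Irreducible f ∧ f ∣ Φ := by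
    intro f hf
    rw [hs, Multiset.mem_toFinset] at hf
    refine ⟨?_, irreducible_of_normalized_factor f hf, dvd_of_mem_normalizedFactors hf⟩
    have h1 := normalize_normalized_factor f hf
    have h2 : f ≠ 0 := (irreducible_of_normalized_factor f hf).ne_zero
    rw [← h1]
    exact Polynomial.monic_normalize h2
  have hprod : ∏ f ∈ s, f = Φ := by
    have h1 : ∏ f ∈ s, f = (normalizedFactors Φ).prod := by
      rw [Finset.prod_eq_multiset_prod, hs, Multiset.toFinset_val, Multiset.dedup_eq_self.2 hnodup,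
        Multiset.map_id']
    have hmon : (∏ f ∈ s, f).Monic := monic_prod_of_monic s (fun f => f) (fun f hf => (hmem f hf).1)
    have h2 : Associated (normalizedFactors Φ).prod Φ := prod_normalizedFactors hΦ0
    rw [← h1] at h2
    exact Polynomial.eq_of_monic_of_associated hmon (cyclotomic.monic r F) h2
  let e : s ≃ Fin t := Finset.equivFinOfCardEq hcard
  let h : Option (Fin t) → F[X] := fun o => Option.casesOn o (X - 1) (fun j => (e.symm j).1)
  refine ⟨h, ?_, ?_, rfl, ?_, ?_⟩
  · intro o
    cases o with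
    | none => exact monic_X_sub_C 1
    | some j => exact (hmem _ (e.symm j).2).1
  · intro o
    cases o with
    | none => exact irreducible_X_sub_C 1
    | some j => exact (hmem _ (e.symm j).2).2.1
  · intro j
    have h1 := hmem _ (e.symm j).2
    show ((e.symm j).1).natDegree = i
    rw [natDegree_of_dvd_cyclotomic_of_irreducible hk hcop h1.2.2 h1.2.1, hord]
  · rw [Fintype.prod_option]
    show (X - 1) * ∏ j, ((e.symm j).1 : F[X]) = X ^ r - 1
    have h1 : ∏ j, ((e.symm j).1 : F[X]) = ∏ x : s, (x.1 : F[X]) :=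
      Equiv.prod_comp e.symm (fun x : s => (x.1 : F[X]))
    rw [h1, Finset.prod_coe_sort s (fun f => f), hprod, mul_comm]
    haveI : Fact r.Prime := ⟨hr⟩
    exact cyclotomic_prime_mul_X_sub_one F r

end cyc

end Cfsg.Agent.Lib.Helper15.PrimeOrderClasses
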