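import Cfsg.Agent.Lib.Helper15.SemisimpleConj

set_option autoImplicit false

namespace Cfsg.Agent.Lib.Helper15.SemisimpleCount

open Polynomial Module

universe u

variable {F : Type u} [Field F] [Fintype F]

/-- multiplication by the root on `F[X]/(f)` -/
theorem base_case (f : F[X]) (hmon : f.Monic) (hirr : Irreducible f) (h0 : f.coeff 0 ≠ 0) :
    ∃ (V : Type u) (_ : AddCommGroup V) (_ : Module F V) (_ : FiniteDimensional F V)
      (T : End F V), T.charpoly = f ∧ ∃ N : ℕ, (N : F) ≠ 0 ∧ T ^ N = 1 := by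
  classical
  have : Fact (Irreducible f) := ⟨hirr⟩
  have hf0 : f ≠ 0 := hmon.ne_zero
  let K := AdjoinRoot f
  have hfd : FiniteDimensional F K := (AdjoinRoot.powerBasis hf0).finite
  have : Finite K := Module.finite_of_finite F
  have : Fintype K := Fintype.ofFinite K
  set ρ : K := AdjoinRoot.root f with hρ
  set T : End F K := Algebra.lmul F K ρ with hT
  have hmin : minpoly F T = f := by
    have h1 : minpoly F T = minpoly F ρ :=
      minpoly.algHom_eq (Algebra.lmul F K) (Algebra.lmul_injective) ρ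
    rw [h1, AdjoinRoot.minpoly_root hf0, hmon.leadingCoeff, inv_one, C_1, mul_one]
  have hcp : T.charpoly = f := by
    have h1 : T.charpoly = minpoly F T := by
      apply Polynomial.eq_of_monic_of_dvd_of_natDegree_le
        (minpoly.monic (Algebra.IsIntegral.isIntegral (R := F) T)) (LinearMap.charpoly_monic T)
        (LinearMap.minpoly_dvd_charpoly T)
      rw [LinearMap.charpoly_natDegree, hmin, (AdjoinRoot.powerBasis hf0).finrank,
        AdjoinRoot.powerBasis_dim]
    exact h1.trans hmin
  have hρ0 : ρ ≠ 0 := by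
    intro h
    have h1 : f ∣ X := by
      rw [← AdjoinRoot.mk_eq_zero]; exact h
    obtain ⟨c, hc⟩ := h1
    have h2 : f.coeff 0 * c.coeff 0 = 0 := by
      have := congrArg (fun g : F[X] => g.coeff 0) hc
      simp only [coeff_X_zero, mul_coeff_zero] at this
      exact this.symm
    have h3 : c.coeff 0 = 0 := by
      rcases mul_eq_zero.1 h2 with h | h
      · exact absurd h h0
      · exact h
    obtain ⟨c', hc'⟩ := X_dvd_iff.2 h3
    have h4 : (X : F[X]) * 1 = X * (f * c') := by
      rw [mul_one]; conv_lhs => rw [hc, hc']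
      ring
    have h5 := mul_left_cancel₀ X_ne_zero h4
    exact hirr.not_isUnit (IsUnit.of_mul_eq_one c' h5.symm)
  refine ⟨K, inferInstance, inferInstance, hfd, T, hcp, Fintype.card K - 1, ?_, ?_⟩
  · intro h
    have h1 : ((Fintype.card K - 1 : ℕ) : K) = 0 := by
      have := congrArg (algebraMap F K) h
      simpa using this
    have hpos : 1 ≤ Fintype.card K := Fintype.card_pos
    rw [Nat.cast_sub hpos, Nat.cast_card_eq_zero, Nat.cast_one, zero_sub, neg_eq_zero] at h1
    exact one_ne_zero h1
  · rw [hT, ← map_pow, FiniteField.pow_card_sub_one_eq_one ρ hρ0, map_one]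

/-- every monic polynomial with nonzero constant term is the characteristic polynomial of an
endomorphism of order prime to the characteristic -/
theorem exists_of_charpoly : ∀ (d : ℕ) (χ : F[X]), χ.Monic → χ.natDegree = d → χ.coeff 0 ≠ 0 →
    ∃ (V : Type u) (_ : AddCommGroup V) (_ : Module F V) (_ : FiniteDimensional F V)
      (T : End F V), T.charpoly = χ ∧ ∃ N : ℕ, (N : F) ≠ 0 ∧ T ^ N = 1 := by
  intro d
  induction d using Nat.strong_induction_on with
  | _ d ih =>
    intro χ hmon hdeg h0
    rcases Nat.eq_zero_or_pos d with rfl | hpos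
    · have h1 : χ = 1 := Polynomial.eq_one_of_monic_natDegree_zero hmon hdeg
      refine ⟨PUnit.{u+1}, inferInstance, inferInstance, inferInstance, 1, ?_, 1, ?_, ?_⟩
      · rw [h1]
        apply Polynomial.eq_one_of_monic_natDegree_zero (LinearMap.charpoly_monic _)
        rw [LinearMap.charpoly_natDegree, finrank_zero_of_subsingleton]
      · rw [Nat.cast_one]; exact one_ne_zero
      · rw [pow_one]
    · obtain ⟨g, hgirr, hgdvd⟩ := exists_irreducible_of_natDegree_pos (f := χ) (by omega)
      set f := g * C g.leadingCoeff⁻¹ with hf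
      have hfmon : f.Monic := monic_mul_leadingCoeff_inv hgirr.ne_zero
      have hfirr : Irreducible f := irreducible_mul_leadingCoeff_inv.mpr hgirr
      have hfdvd : f ∣ χ := by
        obtain ⟨c, hc⟩ := hgdvd
        refine ⟨C g.leadingCoeff * c, ?_⟩
        rw [hf, hc]
        have : C g.leadingCoeff⁻¹ * C g.leadingCoeff = (1 : F[X]) := by
          rw [← C_mul, inv_mul_cancel₀ (leadingCoeff_ne_zero.2 hgirr.ne_zero), C_1]
        calc g * c = g * (C g.leadingCoeff⁻¹ * C g.leadingCoeff) * c := by rw [this, mul_one]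
          _ = g * C g.leadingCoeff⁻¹ * (C g.leadingCoeff * c) := by ring
      obtain ⟨χ', hχ'⟩ := hfdvd
      have hχ'mon : χ'.Monic := by
        rw [hχ'] at hmon
        exact hfmon.of_mul_monic_left hmon
      have hc0 : f.coeff 0 * χ'.coeff 0 ≠ 0 := by
        rw [← mul_coeff_zero, ← hχ']; exact h0
      have hf0 : f.coeff 0 ≠ 0 := left_ne_zero_of_mul hc0
      have hχ'0 : χ'.coeff 0 ≠ 0 := right_ne_zero_of_mul hc0
      have hfdeg : 0 < f.natDegree := hfirr.natDegree_pos
      have hdeg' : χ'.natDegree < d := by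
        have := congrArg natDegree hχ'
        rw [hfmon.natDegree_mul hχ'mon, hdeg] at this
        omega
      obtain ⟨V₁, i1, i2, i3, T₁, hT₁, N₁, hN₁, hTN₁⟩ := base_case f hfmon hfirr hf0
      obtain ⟨V₂, j1, j2, j3, T₂, hT₂, N₂, hN₂, hTN₂⟩ := ih χ'.natDegree hdeg' χ' hχ'mon rfl hχ'0
      refine ⟨V₁ × V₂, inferInstance, inferInstance, inferInstance, T₁.prodMap T₂, ?_,
        N₁ * N₂, ?_, ?_⟩
      · rw [LinearMap.charpoly_prodMap, hT₁, hT₂, hχ']
      · rw [Nat.cast_mul]; exact mul_ne_zero hN₁ hN₂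
      · have e1 : T₁.prodMap T₂ = LinearMap.prodMapRingHom F V₁ V₂ (T₁, T₂) := rfl
        rw [e1, ← map_pow, Prod.pow_mk, pow_mul, hTN₁, one_pow, mul_comm, pow_mul, hTN₂, one_pow]
        rfl

/-- matrix version -/
theorem exists_matrix_of_charpoly (n : ℕ) (χ : F[X]) (hmon : χ.Monic) (hdeg : χ.natDegree = n)
    (h0 : χ.coeff 0 ≠ 0) :
    ∃ M : Matrix (Fin n) (Fin n) F, M.charpoly = χ ∧ ∃ N : ℕ, (N : F) ≠ 0 ∧ M ^ N = 1 := by
  classical
  obtain ⟨V, i1, i2, i3, T, hT, N, hN, hTN⟩ := exists_of_charpoly n χ hmon hdeg h0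
  have hfr : finrank F V = n := by
    rw [← LinearMap.charpoly_natDegree T, hT, hdeg]
  let b : Basis (Fin n) F V := Module.finBasisOfFinrankEq F V hfr
  refine ⟨LinearMap.toMatrixAlgEquiv b T, ?_, N, hN, ?_⟩
  · have : LinearMap.toMatrixAlgEquiv b T = LinearMap.toMatrix b b T := rfl
    rw [this, LinearMap.charpoly_toMatrix, hT]
  · rw [← map_pow, hTN, map_one]

section poly

omit [Fintype F] in
/-- monic polynomials of the same degree with the same low coefficients are equal -/
lemma eq_of_coeff (n : ℕ) (P Q : F[X]) (hP : P.Monic) (hQ : Q.Monic) (hPn : P.natDegree = n)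
    (hQn : Q.natDegree = n) (h : ∀ i : Fin n, P.coeff i = Q.coeff i) : P = Q := by
  ext k
  rcases lt_trichotomy k n with hk | hk | hk
  · exact h ⟨k, hk⟩
  · have h1 := hP.coeff_natDegree
    have h2 := hQ.coeff_natDegree
    rw [hPn, ← hk] at h1
    rw [hQn, ← hk] at h2
    rw [h1, h2]
  · rw [coeff_eq_zero_of_natDegree_lt (by omega), coeff_eq_zero_of_natDegree_lt (by omega)]

omit [Fintype F] in
/-- a monic polynomial with prescribed low coefficients -/
lemma exists_poly (n : ℕ) (v : Fin n → F) :
    ∃ P : F[X], P.Monic ∧ P.natDegree = n ∧ ∀ i : Fin n, P.coeff i = v i := by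
  let w := (degreeLTEquiv F n).symm v
  let P := (monicEquivDegreeLT n).symm w
  refine ⟨P.1, P.2.1, P.2.2, fun i => ?_⟩
  have h1 : P.1 = X ^ n + w.1 := rfl
  have h2 : w.1.coeff i = v i := by
    have := congrFun ((degreeLTEquiv F n).apply_symm_apply v) i
    exact this
  rw [h1, coeff_add, coeff_X_pow, if_neg (by omega), zero_add, h2]

/-- counting vectors with a nonzero coordinate -/
lemma card_ne (n : ℕ) (i₀ : Fin n) :
    Nat.card {v : Fin n → F // v i₀ ≠ 0} = (Fintype.card F - 1) * Fintype.card F ^ (n - 1) := by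
  classical
  rw [Nat.card_eq_fintype_card, Fintype.card_subtype]
  have h1 : (Finset.univ.filter (fun v : Fin n → F => v i₀ ≠ 0)) =
      Fintype.piFinset (fun i => if i = i₀ then (Finset.univ.erase (0 : F)) else Finset.univ) := by
    ext v
    simp only [Finset.mem_filter, Finset.mem_univ, true_and, Fintype.mem_piFinset]
    constructor
    · intro hv i
      by_cases hi : i = i₀
      · rw [if_pos hi, hi]; simp [hv]
      · rw [if_neg hi]; simp
    · intro hv
      have := hv i₀
      rw [if_pos rfl] at this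
      simpa using this
  rw [h1, Fintype.card_piFinset, ← Finset.mul_prod_erase Finset.univ _ (Finset.mem_univ i₀),
    if_pos rfl, Finset.card_erase_of_mem (Finset.mem_univ _), Finset.card_univ]
  congr 1
  rw [Finset.prod_congr rfl (fun i hi => by rw [if_neg (Finset.ne_of_mem_erase hi)]),
    Finset.prod_const, Finset.card_univ, Finset.card_erase_of_mem (Finset.mem_univ _),
    Finset.card_univ, Fintype.card_fin]

/-- counting vectors with a prescribed coordinate -/
lemma card_eq (n : ℕ) (i₀ : Fin n) (a : F) :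
    Nat.card {v : Fin n → F // v i₀ = a} = Fintype.card F ^ (n - 1) := by
  classical
  rw [Nat.card_eq_fintype_card, Fintype.card_subtype]
  have h1 : (Finset.univ.filter (fun v : Fin n → F => v i₀ = a)) =
      Fintype.piFinset (fun i => if i = i₀ then ({a} : Finset F) else Finset.univ) := by
    ext v
    simp only [Finset.mem_filter, Finset.mem_univ, true_and, Fintype.mem_piFinset]
    constructor
    · intro hv i
      by_cases hi : i = i₀
      · rw [if_pos hi, hi]; simp [hv]
      · rw [if_neg hi]; simp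
    · intro hv
      have := hv i₀
      rw [if_pos rfl] at this
      simpa using this
  rw [h1, Fintype.card_piFinset, ← Finset.mul_prod_erase Finset.univ _ (Finset.mem_univ i₀),
    if_pos rfl, Finset.card_singleton, one_mul]
  rw [Finset.prod_congr rfl (fun i hi => by rw [if_neg (Finset.ne_of_mem_erase hi)]),
    Finset.prod_const, Finset.card_univ, Finset.card_erase_of_mem (Finset.mem_univ _),
    Finset.card_univ, Fintype.card_fin]

end poly

section glconj

open Cfsg.Agent.Lib.Helper15.SemisimpleConj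

/-- matrices of order prime to the characteristic with equal characteristic polynomials are
conjugate under `GL_n` -/
theorem matrix_conj (n : ℕ) (A B : Matrix (Fin n) (Fin n) F) (N : ℕ) (hN : (N : F) ≠ 0)
    (hA : A ^ N = 1) (hB : B ^ N = 1) (hc : A.charpoly = B.charpoly) :
    ∃ M : GL (Fin n) F, (M : Matrix (Fin n) (Fin n) F) * A = B * (M : Matrix (Fin n) (Fin n) F) := by
  classical
  set P : F[X] := X ^ N - C 1 with hPdef
  have hP : Squarefree P := (separable_X_pow_sub_C (1 : F) hN one_ne_zero).squarefree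
  set T : End F (Fin n → F) := Matrix.toLinAlgEquiv' A with hTdef
  set T' : End F (Fin n → F) := Matrix.toLinAlgEquiv' B with hT'def
  have hT : aeval T P = 0 := by
    rw [hPdef, map_sub, map_pow, aeval_X, aeval_C, hTdef, ← map_pow, hA, map_one, map_one, sub_self]
  have hT' : aeval T' P = 0 := by
    rw [hPdef, map_sub, map_pow, aeval_X, aeval_C, hT'def, ← map_pow, hB, map_one, map_one,
      sub_self]
  have hcp : T.charpoly = T'.charpoly := by
    rw [hTdef, hT'def]
    have e1 : ∀ A : Matrix (Fin n) (Fin n) F,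
        (Matrix.toLinAlgEquiv' A : End F (Fin n → F)) = Matrix.toLin' A := fun A => rfl
    rw [e1, e1, Matrix.charpoly_toLin', Matrix.charpoly_toLin', hc]
  obtain ⟨e, he⟩ := conj_of_charpoly_eq P hP n (Fin n → F) (Fin n → F) T T'
    (Module.finrank_fin_fun F) hT hT' hcp
  let Q : End F (Fin n → F) := (e : (Fin n → F) →ₗ[F] (Fin n → F))
  let Q' : End F (Fin n → F) := (e.symm : (Fin n → F) →ₗ[F] (Fin n → F))
  have hQQ' : Q * Q' = 1 := by
    apply LinearMap.ext; intro v; exact e.apply_symm_apply v
  have hQ'Q : Q' * Q = 1 := by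
    apply LinearMap.ext; intro v; exact e.symm_apply_apply v
  have hQT : Q * T = T' * Q := by
    apply LinearMap.ext
    intro v
    exact he v
  refine ⟨⟨LinearMap.toMatrixAlgEquiv' Q, LinearMap.toMatrixAlgEquiv' Q', ?_, ?_⟩, ?_⟩
  · rw [← map_mul, hQQ', map_one]
  · rw [← map_mul, hQ'Q, map_one]
  · show LinearMap.toMatrixAlgEquiv' Q * A = B * LinearMap.toMatrixAlgEquiv' Q
    have h1 : A = LinearMap.toMatrixAlgEquiv' T := by
      rw [hTdef]; exact (LinearMap.toMatrixAlgEquiv'_toLinAlgEquiv' _).symm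
    have h2 : B = LinearMap.toMatrixAlgEquiv' T' := by
      rw [hT'def]; exact (LinearMap.toMatrixAlgEquiv'_toLinAlgEquiv' _).symm
    rw [h1, h2, ← map_mul, ← map_mul, hQT]

variable (p : ℕ) [Fact p.Prime] [CharP F p]

omit [Fintype F] in
lemma cast_ne_zero_of_coprime (N : ℕ) (hN : N.Coprime p) : (N : F) ≠ 0 := by
  rw [Ne, CharP.cast_eq_zero_iff F p]
  exact (Nat.Prime.coprime_iff_not_dvd (Fact.out : p.Prime)).1 hN.symm

theorem gl_conj (n : ℕ) (g h : GL (Fin n) F) (hg : (orderOf g).Coprime p)
    (hh : (orderOf h).Coprime p)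
    (hc : (g : Matrix (Fin n) (Fin n) F).charpoly = (h : Matrix (Fin n) (Fin n) F).charpoly) :
    IsConj g h := by
  have hN : ((orderOf g * orderOf h : ℕ) : F) ≠ 0 :=
    cast_ne_zero_of_coprime p _ (Nat.Coprime.mul_left hg hh)
  have hgN : (g : Matrix (Fin n) (Fin n) F) ^ (orderOf g * orderOf h) = 1 := by
    rw [← Units.val_pow_eq_pow_val, pow_mul, pow_orderOf_eq_one, one_pow, Units.val_one]
  have hhN : (h : Matrix (Fin n) (Fin n) F) ^ (orderOf g * orderOf h) = 1 := by
    rw [← Units.val_pow_eq_pow_val, mul_comm, pow_mul, pow_orderOf_eq_one, one_pow, Units.val_one]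
  obtain ⟨M, hM⟩ := matrix_conj n _ _ _ hN hgN hhN hc
  rw [isConj_iff]
  refine ⟨M, ?_⟩
  rw [mul_inv_eq_iff_eq_mul]
  apply Units.ext
  rw [Units.val_mul, Units.val_mul]
  exact hM

end glconj

end Cfsg.Agent.Lib.Helper15.SemisimpleCount
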