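import Mathlib
import Cfsg.Agent.Lib.Helper15.AdjoinInv

/-! Helper15 library: matrices conjugate under `GL` and both unitary are conjugate under a unitary
matrix (finite field with involution). -/

set_option autoImplicit false

namespace Cfsg.Agent.Lib.Helper15.UnitaryConj

open Matrix Cfsg.Agent.Lib.Helper15.AdjoinInv

variable {K : Type*} [Field K] [Finite K] [StarRing K] {n : ℕ}

omit [Finite K] [StarRing K] in
lemma commute_of_mem_adjoin (a A : Matrix (Fin n) (Fin n) K) (hA : a * A = A * a)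
    (p : Matrix (Fin n) (Fin n) K)
    (hp : p ∈ Algebra.adjoin K ({a} : Set (Matrix (Fin n) (Fin n) K))) : p * A = A * p := by
  induction hp using Algebra.adjoin_induction with
  | mem y hy =>
    rw [Set.mem_singleton_iff] at hy
    rw [hy]
    exact hA
  | algebraMap r =>
    exact (Algebra.commutes r A)
  | add x y _ _ hx hy =>
    rw [Matrix.add_mul, Matrix.mul_add, hx, hy]
  | mul x y _ _ hx hy =>
    rw [Matrix.mul_assoc, hy, ← Matrix.mul_assoc, hx, Matrix.mul_assoc]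

/-- Hermitian invertible matrices are norms from their own commutative algebra -/
theorem exists_sqrt (τ : K) (hτ : τ - star τ ≠ 0) (a : Matrix (Fin n) (Fin n) K) (hah : aᴴ = a)
    (hau : IsUnit a) :
    ∃ p ∈ Algebra.adjoin K ({a} : Set (Matrix (Fin n) (Fin n) K)), pᴴ * p = a := by
  have h11 : (1 : Matrix (Fin n) (Fin n) K) * 1 = 1 := Matrix.one_mul 1
  have hsh : ∀ x : Matrix (Fin n) (Fin n) K, sh 1 1 x = xᴴ := by
    intro x
    unfold sh
    rw [Matrix.one_mul, Matrix.mul_one]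
  obtain ⟨_, hnorm⟩ := adjoin_h90_norm a 1 1 h11 h11
    (by rw [hsh, hah]; exact Algebra.subset_adjoin (Set.mem_singleton a))
    (by rw [hsh, hsh, conjTranspose_conjTranspose]) τ hτ
  obtain ⟨p, hp, hpa⟩ := hnorm a (Algebra.subset_adjoin (Set.mem_singleton a)) hau
    (by rw [hsh, hah])
  rw [hsh] at hpa
  exact ⟨p, hp, hpa⟩

theorem unitary_conj_of_conj (τ : K) (hτ : τ - star τ ≠ 0)
    (A B h : Matrix (Fin n) (Fin n) K) (hA : Aᴴ * A = 1) (hB : Bᴴ * B = 1) (hh : IsUnit h)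
    (hAB : h * A = B * h) :
    ∃ g : Matrix (Fin n) (Fin n) K, gᴴ * g = 1 ∧ g * A = B * g := by
  have hA' : A * Aᴴ = 1 := mul_eq_one_comm.1 hA
  obtain ⟨a, ha⟩ : ∃ a, a = hᴴ * h := ⟨_, rfl⟩
  have hah : aᴴ = a := by rw [ha, conjTranspose_mul, conjTranspose_conjTranspose]
  have hau : IsUnit a := by
    rw [ha]
    refine IsUnit.mul ?_ hh
    rw [← Matrix.star_eq_conjTranspose]
    exact hh.star
  have h1 : Aᴴ * a * A = a := by
    have h2 : hᴴ * Bᴴ = Aᴴ * hᴴ := by
      rw [← conjTranspose_mul, ← conjTranspose_mul, hAB]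
    calc Aᴴ * a * A = (Aᴴ * hᴴ) * (h * A) := by rw [ha]; simp only [Matrix.mul_assoc]
      _ = hᴴ * Bᴴ * (B * h) := by rw [← h2, hAB]
      _ = hᴴ * (Bᴴ * B) * h := by simp only [Matrix.mul_assoc]
      _ = a := by rw [hB, Matrix.mul_one, ha]
  have haA : a * A = A * a := by
    calc a * A = (A * Aᴴ) * a * A := by rw [hA', Matrix.one_mul]
      _ = A * (Aᴴ * a * A) := by simp only [Matrix.mul_assoc]
      _ = A * a := by rw [h1]
  obtain ⟨p, hp, hpa⟩ := exists_sqrt τ hτ a hah hau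
  have hpA : p * A = A * p := commute_of_mem_adjoin a A haA p hp
  have hpdet : IsUnit p.det := by
    have h3 : IsUnit (pᴴ * p).det := by rw [hpa]; exact (Matrix.isUnit_iff_isUnit_det _).1 hau
    rw [Matrix.det_mul] at h3
    exact isUnit_of_mul_isUnit_right h3
  have hpp : p * p⁻¹ = 1 := Matrix.mul_nonsing_inv p hpdet
  have hpp' : p⁻¹ * p = 1 := Matrix.nonsing_inv_mul p hpdet
  refine ⟨h * p⁻¹, ?_, ?_⟩
  · rw [conjTranspose_mul, Matrix.mul_assoc, ← Matrix.mul_assoc hᴴ, ← ha, ← hpa,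
      Matrix.mul_assoc pᴴ, hpp, Matrix.mul_one, ← conjTranspose_mul, hpp, conjTranspose_one]
  · have h4 : p⁻¹ * A = A * p⁻¹ := by
      calc p⁻¹ * A = p⁻¹ * A * (p * p⁻¹) := by rw [hpp, Matrix.mul_one]
        _ = p⁻¹ * (A * p) * p⁻¹ := by simp only [Matrix.mul_assoc]
        _ = p⁻¹ * (p * A) * p⁻¹ := by rw [hpA]
        _ = (p⁻¹ * p) * A * p⁻¹ := by simp only [Matrix.mul_assoc]
        _ = A * p⁻¹ := by rw [hpp', Matrix.one_mul]
    rw [Matrix.mul_assoc, h4, ← Matrix.mul_assoc, hAB, Matrix.mul_assoc]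

end Cfsg.Agent.Lib.Helper15.UnitaryConj
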