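import Mathlib
import Cfsg.Agent.Lib.Helper15.UnitaryConj
import Cfsg.Agent.Lib.Helper15.HermClass

/-! Helper15 library: a matrix preserving some nondegenerate sesquilinear form (not necessarily
Hermitian) over a finite field with involution is conjugate to a unitary matrix. -/

set_option autoImplicit false

namespace Cfsg.Agent.Lib.Helper15.UnitaryForm

open Matrix Cfsg.Agent.Lib.Helper15.AdjoinInv Cfsg.Agent.Lib.Helper15

variable {K : Type*} [Field K] [Finite K] [StarRing K] {n : ℕ}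

/-- an invertible matrix preserved by `A` can be replaced by a Hermitian one -/
theorem exists_hermitian_form (τ : K) (hτ : τ - star τ ≠ 0)
    (A Ai h hi : Matrix (Fin n) (Fin n) K) (hA1 : A * Ai = 1) (hA2 : Ai * A = 1)
    (h1 : hi * h = 1) (h2 : h * hi = 1) (hform : Aᴴ * h * A = h) :
    ∃ h' : Matrix (Fin n) (Fin n) K, IsUnit h' ∧ h'ᴴ = h' ∧ Aᴴ * h' * A = h' := by
  obtain ⟨s, hs⟩ : ∃ s, s = hi * hᴴ := ⟨_, rfl⟩
  obtain ⟨t, ht⟩ : ∃ t, t = hiᴴ * h := ⟨_, rfl⟩
  have hhs : h * s = hᴴ := by rw [hs, ← Matrix.mul_assoc, h2, Matrix.one_mul]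
  have hst : s * t = 1 := by
    rw [hs, ht, Matrix.mul_assoc, ← Matrix.mul_assoc hᴴ, ← conjTranspose_mul, h1, conjTranspose_one,
      Matrix.one_mul, h1]
  have hts : t * s = 1 := mul_eq_one_comm.1 hst
  -- commutation with A
  have hform' : Aᴴ * hᴴ * A = hᴴ := by
    have := congrArg conjTranspose hform
    rw [conjTranspose_mul, conjTranspose_mul, conjTranspose_conjTranspose, ← Matrix.mul_assoc] at this
    exact this
  have e1 : Aᴴ * h = h * Ai := by
    calc Aᴴ * h = Aᴴ * h * (A * Ai) := by rw [hA1, Matrix.mul_one]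
      _ = (Aᴴ * h * A) * Ai := by simp only [Matrix.mul_assoc]
      _ = h * Ai := by rw [hform]
  have e2 : Aᴴ * hᴴ = hᴴ * Ai := by
    calc Aᴴ * hᴴ = Aᴴ * hᴴ * (A * Ai) := by rw [hA1, Matrix.mul_one]
      _ = (Aᴴ * hᴴ * A) * Ai := by simp only [Matrix.mul_assoc]
      _ = hᴴ * Ai := by rw [hform']
  have e3 : hi * Aᴴ = Ai * hi := by
    calc hi * Aᴴ = hi * Aᴴ * (h * hi) := by rw [h2, Matrix.mul_one]
      _ = hi * (Aᴴ * h) * hi := by simp only [Matrix.mul_assoc]
      _ = (hi * h) * Ai * hi := by rw [e1]; simp only [Matrix.mul_assoc]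
      _ = Ai * hi := by rw [h1, Matrix.one_mul]
  have hsAi : s * Ai = Ai * s := by
    rw [hs, Matrix.mul_assoc, ← e2, ← Matrix.mul_assoc, e3, Matrix.mul_assoc]
  have hsA : s * A = A * s := by
    calc s * A = (A * Ai) * s * A := by rw [hA1, Matrix.one_mul]
      _ = A * (Ai * s) * A := by simp only [Matrix.mul_assoc]
      _ = A * (s * Ai) * A := by rw [hsAi]
      _ = A * s * (Ai * A) := by simp only [Matrix.mul_assoc]
      _ = A * s := by rw [hA2, Matrix.mul_one]
  -- the twisted adjoint of s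
  have hsh_s : sh h hi s = t := by
    unfold sh
    rw [hs, conjTranspose_mul, conjTranspose_conjTranspose, ← Matrix.mul_assoc, h1, Matrix.one_mul, ht]
  have hsh_t : sh h hi t = s := by
    unfold sh
    rw [ht, conjTranspose_mul, conjTranspose_conjTranspose, Matrix.mul_assoc, Matrix.mul_assoc, h1,
      Matrix.mul_one, hs]
  have hsmem : s ∈ Algebra.adjoin K ({s} : Set (Matrix (Fin n) (Fin n) K)) :=
    Algebra.subset_adjoin (Set.mem_singleton s)
  have hsu : IsUnit s := IsUnit.of_mul_eq_one t hst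
  have htmem : t ∈ Algebra.adjoin K ({s} : Set (Matrix (Fin n) (Fin n) K)) := by
    obtain ⟨b, hb, hb1, hb2⟩ := exists_inv_mem _ s hsmem hsu
    have : b = t := by
      calc b = (t * s) * b := by rw [hts, Matrix.one_mul]
        _ = t * (s * b) := by rw [Matrix.mul_assoc]
        _ = t := by rw [hb1, Matrix.mul_one]
    rw [← this]
    exact hb
  obtain ⟨hH90, _⟩ := adjoin_h90_norm s h hi h1 h2 (by rw [hsh_s]; exact htmem)
    (by rw [hsh_s, hsh_t]) τ hτ
  obtain ⟨x, hxmem, hxu, hx⟩ := hH90 s hsmem (by rw [hsh_s, hst])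
  have hxA : x * A = A * x := UnitaryConj.commute_of_mem_adjoin s A hsA x hxmem
  have hshx_mem := sh_mem s h hi h1 h2 (by rw [hsh_s]; exact htmem) x hxmem
  have hcomm : s * sh h hi x = sh h hi x * s :=
    (UnitaryConj.commute_of_mem_adjoin s s rfl _ hshx_mem).symm
  refine ⟨h * x, (IsUnit.of_mul_eq_one hi h2).mul hxu, ?_, ?_⟩
  · -- Hermitian
    calc (h * x)ᴴ = xᴴ * hᴴ := conjTranspose_mul _ _
      _ = xᴴ * (h * s) := by rw [hhs]
      _ = (h * hi) * xᴴ * h * s := by rw [h2, Matrix.one_mul, Matrix.mul_assoc]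
      _ = h * (sh h hi x * s) := by unfold sh; simp only [Matrix.mul_assoc]
      _ = h * x := by rw [← hcomm, hx]
  · calc Aᴴ * (h * x) * A = Aᴴ * h * (x * A) := by simp only [Matrix.mul_assoc]
      _ = (Aᴴ * h * A) * x := by rw [hxA]; simp only [Matrix.mul_assoc]
      _ = h * x := by rw [hform]

/-- a matrix preserving a nondegenerate sesquilinear form is conjugate to a unitary matrix -/
theorem exists_unitary_conj (hT : ∃ d : K, d + star d ≠ 0)
    (hN : ∀ x : K, star x = x → x ≠ 0 → ∃ r : K, star r * r = x)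
    (τ : K) (hτ : τ - star τ ≠ 0)
    (A Ai h hi : Matrix (Fin n) (Fin n) K) (hA1 : A * Ai = 1) (hA2 : Ai * A = 1)
    (h1 : hi * h = 1) (h2 : h * hi = 1) (hform : Aᴴ * h * A = h) :
    ∃ Q P : Matrix (Fin n) (Fin n) K, Q * P = 1 ∧ P * Q = 1 ∧
      (Q * A * P)ᴴ * (Q * A * P) = 1 := by
  obtain ⟨h', hu, hherm, hinv⟩ := exists_hermitian_form τ hτ A Ai h hi hA1 hA2 h1 h2 hform
  obtain ⟨P, hP⟩ := HermClass.exists_isometry hT hN h' hherm hu
  obtain ⟨Q, hQ⟩ : ∃ Q, Q = Pᴴ * h' := ⟨_, rfl⟩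
  have hQP : Q * P = 1 := by rw [hQ]; exact hP
  have hPQ : P * Q = 1 := mul_eq_one_comm.1 hQP
  refine ⟨Q, P, hQP, hPQ, ?_⟩
  have hQQ : Qᴴ * Q = h' := by
    have h3 : Qᴴ = h' * P := by
      rw [hQ, conjTranspose_mul, conjTranspose_conjTranspose, hherm]
    rw [h3, Matrix.mul_assoc, hPQ, Matrix.mul_one]
  calc (Q * A * P)ᴴ * (Q * A * P) = Pᴴ * (Aᴴ * (Qᴴ * Q) * A) * P := by
        rw [conjTranspose_mul, conjTranspose_mul]
        simp only [Matrix.mul_assoc]
    _ = Pᴴ * h' * P := by rw [hQQ, hinv]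
    _ = 1 := hP

end Cfsg.Agent.Lib.Helper15.UnitaryForm
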