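import Mathlib
import Cfsg.Agent.S0775
import Cfsg.Agent.Lib.Helper14.SympCount
import Cfsg.Agent.Lib.Helper15.SympChar2
import Cfsg.Agent.Lib.Helper15.SpReal
import Cfsg.Agent.Lib.Helper15.PrimeOrderClasses
import Cfsg.Agent.S2645
import Cfsg.Agent.S2671

set_option autoImplicit false

namespace Cfsg.Agent.Lib.Helper15.PolarPairs

open Module Cfsg.Agent.Lib.Helper5 Cfsg.Agent.Lib.Helper14 Cfsg.Agent.Lib.Helper15
open scoped Matrix

section pairs

variable {F : Type*} [Field F] {d : ℕ}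

/-- a pair of complementary totally isotropic subspaces -/
def IsPolarPair (U W : Submodule F (Fin d ⊕ Fin d → F)) : Prop :=
  IsCompl U W ∧ (∀ u ∈ U, ∀ v ∈ U, Cfsg.sympForm d F u v = 0) ∧
    (∀ u ∈ W, ∀ v ∈ W, Cfsg.sympForm d F u v = 0)

theorem IsPolarPair.symm {U W : Submodule F (Fin d ⊕ Fin d → F)} (h : IsPolarPair U W) :
    IsPolarPair W U := ⟨h.1.symm, h.2.2, h.2.1⟩

/-- the form is nondegenerate -/
theorem eq_zero_of_forall (w : Fin d ⊕ Fin d → F) (h : ∀ v, Cfsg.sympForm d F w v = 0) : w = 0 := by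
  apply (sympBilin_nondegenerate d (F := F)).1
  intro v
  rw [sympBilin_apply]
  exact h v

/-- a vector of `W` perpendicular to `U` vanishes -/
theorem IsPolarPair.radical {U W : Submodule F (Fin d ⊕ Fin d → F)} (h : IsPolarPair U W)
    (w : Fin d ⊕ Fin d → F) (hw : w ∈ W) (hU : ∀ u ∈ U, Cfsg.sympForm d F w u = 0) : w = 0 := by
  apply eq_zero_of_forall
  intro v
  have hv : v ∈ U ⊔ W := by rw [h.1.sup_eq_top]; exact Submodule.mem_top
  obtain ⟨u, hu, w', hw', rfl⟩ := Submodule.mem_sup.1 hv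
  rw [sympForm_add_right, hU u hu, h.2.2 w hw w' hw', add_zero]

/-- the form vanishes on the span of a set on which it vanishes -/
theorem span_ti (s : Set (Fin d ⊕ Fin d → F)) (h : ∀ x ∈ s, ∀ y ∈ s, Cfsg.sympForm d F x y = 0) :
    ∀ u ∈ Submodule.span F s, ∀ v ∈ Submodule.span F s, Cfsg.sympForm d F u v = 0 := by
  intro u hu v hv
  induction hu using Submodule.span_induction with
  | mem x hx =>
    induction hv using Submodule.span_induction with
    | mem y hy => exact h x hx y hy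
    | zero => rw [← sympBilin_apply, map_zero]
    | add a b _ _ ha hb => rw [sympForm_add_right, ha, hb, add_zero]
    | smul c a _ ha => rw [sympForm_smul_right, ha, mul_zero]
  | zero => rw [← sympBilin_apply, map_zero, LinearMap.zero_apply]
  | add a b _ _ ha hb => rw [sympForm_add_left, ha, hb, add_zero]
  | smul c a _ ha => rw [sympForm_smul_left, ha, mul_zero]

/-- a vector perpendicular to a spanning family is perpendicular to the span -/
theorem perp_span (s : Set (Fin d ⊕ Fin d → F)) (w : Fin d ⊕ Fin d → F)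
    (h : ∀ x ∈ s, Cfsg.sympForm d F w x = 0) : ∀ u ∈ Submodule.span F s, Cfsg.sympForm d F w u = 0 := by
  intro u hu
  induction hu using Submodule.span_induction with
  | mem x hx => exact h x hx
  | zero => rw [← sympBilin_apply, map_zero]
  | add a b _ _ ha hb => rw [sympForm_add_right, ha, hb, add_zero]
  | smul c a _ ha => rw [sympForm_smul_right, ha, mul_zero]

/-- both members of a polar pair have dimension `d` -/
theorem IsPolarPair.finrank_eq {U W : Submodule F (Fin d ⊕ Fin d → F)} (h : IsPolarPair U W) :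
    finrank F U = d ∧ finrank F W = d := by
  have key : ∀ {U W : Submodule F (Fin d ⊕ Fin d → F)}, IsPolarPair U W →
      finrank F W ≤ finrank F U := by
    intro U W h
    let Φ : W →ₗ[F] Module.Dual F U := (sympBilin d (F := F)).domRestrict₁₂ W U
    have hΦ : ∀ (w : W) (u : U), Φ w u = Cfsg.sympForm d F w.1 u.1 := by
      intro w u
      show sympBilin d (F := F) w.1 u.1 = _
      rw [sympBilin_apply]
    have hinj : Function.Injective Φ := by
      rw [← LinearMap.ker_eq_bot, LinearMap.ker_eq_bot']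
      intro w hw
      apply Subtype.ext
      apply h.radical w.1 w.2
      intro u hu
      have := congrArg (fun φ : Module.Dual F U => φ ⟨u, hu⟩) hw
      simp only [LinearMap.zero_apply] at this
      rw [hΦ] at this
      exact this
    have := LinearMap.finrank_le_finrank_of_injective hinj
    rwa [Subspace.dual_finrank_eq] at this
  have h1 := key h
  have h2 := key h.symm
  have h3 := Submodule.finrank_add_eq_of_isCompl h.1
  rw [Module.finrank_fintype_fun_eq_card, Fintype.card_sum, Fintype.card_fin] at h3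
  constructor <;> omega

/-- the dual family in `W` of a basis of `U` -/
theorem IsPolarPair.exists_dual {U W : Submodule F (Fin d ⊕ Fin d → F)} (h : IsPolarPair U W)
    (e : Fin d → (Fin d ⊕ Fin d → F)) (hspan : Submodule.span F (Set.range e) = U) :
    ∃ f : Fin d → (Fin d ⊕ Fin d → F), (∀ i, f i ∈ W) ∧
      ∀ i j, Cfsg.sympForm d F (f i) (e j) = if i = j then 1 else 0 := by
  classical
  let Ψ : W →ₗ[F] (Fin d → F) :=
    { toFun := fun w j => Cfsg.sympForm d F w.1 (e j)
      map_add' := by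
        intro a b
        funext j
        show Cfsg.sympForm d F (a.1 + b.1) (e j) = _
        rw [sympForm_add_left]
        rfl
      map_smul' := by
        intro c a
        funext j
        show Cfsg.sympForm d F (c • a.1) (e j) = _
        rw [sympForm_smul_left]
        rfl }
  have hΨ : ∀ (w : W) j, Ψ w j = Cfsg.sympForm d F w.1 (e j) := fun w j => rfl
  have hinj : Function.Injective Ψ := by
    rw [← LinearMap.ker_eq_bot, LinearMap.ker_eq_bot']
    intro w hw
    apply Subtype.ext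
    apply h.radical w.1 w.2
    rw [← hspan]
    apply perp_span
    rintro _ ⟨j, rfl⟩
    have := congrFun hw j
    rw [hΨ] at this
    exact this
  have hsurj : Function.Surjective Ψ := by
    apply (LinearMap.injective_iff_surjective_of_finrank_eq_finrank _).1 hinj
    rw [h.finrank_eq.2, Module.finrank_fintype_fun_eq_card, Fintype.card_fin]
  choose f hf using fun i : Fin d => hsurj (Pi.single i 1)
  refine ⟨fun i => (f i).1, fun i => (f i).2, fun i j => ?_⟩
  have := congrFun (hf i) j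
  rw [hΨ] at this
  rw [this, Pi.single_apply]
  by_cases hij : i = j
  · rw [if_pos hij, if_pos hij.symm]
  · rw [if_neg hij, if_neg (Ne.symm hij)]


/-- the members of a hyperbolic system are linearly independent -/
theorem hyp_li {k : ℕ} {e f : Fin k → (Fin d ⊕ Fin d → F)} (h : HypSys F d k e f) :
    LinearIndependent F e ∧ LinearIndependent F f := by
  classical
  constructor
  · rw [Fintype.linearIndependent_iff]
    intro g hg j
    have h1 : Cfsg.sympForm d F (f j) (∑ i, g i • e i) = 0 := by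
      rw [hg, ← sympBilin_apply, map_zero]
    rw [sympForm_sum_right] at h1
    simp only [sympForm_smul_right, h.fe] at h1
    rw [Finset.sum_eq_single j] at h1
    · simpa using h1
    · intro i _ hij
      rw [if_neg (Ne.symm hij), mul_zero]
    · intro hj
      exact absurd (Finset.mem_univ j) hj
  · rw [Fintype.linearIndependent_iff]
    intro g hg j
    have h1 : Cfsg.sympForm d F (e j) (∑ i, g i • f i) = 0 := by
      rw [hg, ← sympBilin_apply, map_zero]
    rw [sympForm_sum_right] at h1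
    simp only [sympForm_smul_right, h.ef] at h1
    rw [Finset.sum_eq_single j] at h1
    · simpa using h1
    · intro i _ hij
      rw [if_neg (Ne.symm hij), mul_zero]
    · intro hj
      exact absurd (Finset.mem_univ j) hj

/-- a full hyperbolic system spans a polar pair -/
theorem hyp_pair {e f : Fin d → (Fin d ⊕ Fin d → F)} (h : HypSys F d d e f) :
    IsPolarPair (Submodule.span F (Set.range e)) (Submodule.span F (Set.range f)) := by
  classical
  obtain ⟨hle, hlf⟩ := hyp_li h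
  have htiE : ∀ u ∈ Submodule.span F (Set.range e), ∀ v ∈ Submodule.span F (Set.range e),
      Cfsg.sympForm d F u v = 0 := by
    apply span_ti
    rintro _ ⟨i, rfl⟩ _ ⟨j, rfl⟩
    exact h.ee i j
  have htiF : ∀ u ∈ Submodule.span F (Set.range f), ∀ v ∈ Submodule.span F (Set.range f),
      Cfsg.sympForm d F u v = 0 := by
    apply span_ti
    rintro _ ⟨i, rfl⟩ _ ⟨j, rfl⟩
    exact h.ff i j
  have hdisj : Submodule.span F (Set.range e) ⊓ Submodule.span F (Set.range f) = ⊥ := by
    rw [eq_bot_iff]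
    rintro v ⟨hv1, hv2⟩
    rw [Submodule.mem_bot]
    obtain ⟨g, rfl⟩ := (Submodule.mem_span_range_iff_exists_fun F).1 hv1
    have hg : ∀ j, g j = 0 := by
      intro j
      have h1 : Cfsg.sympForm d F (f j) (∑ i, g i • e i) = 0 :=
        htiF _ (Submodule.subset_span ⟨j, rfl⟩) _ hv2
      rw [sympForm_sum_right] at h1
      simp only [sympForm_smul_right, h.fe] at h1
      rw [Finset.sum_eq_single j] at h1
      · simpa using h1
      · intro i _ hij
        rw [if_neg (Ne.symm hij), mul_zero]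
      · intro hj
        exact absurd (Finset.mem_univ j) hj
    simp [hg]
  refine ⟨⟨disjoint_iff.2 hdisj, codisjoint_iff.2 ?_⟩, htiE, htiF⟩
  apply Submodule.eq_top_of_finrank_eq
  have h1 := Submodule.finrank_sup_add_finrank_inf_eq (Submodule.span F (Set.range e))
    (Submodule.span F (Set.range f))
  rw [hdisj, finrank_bot, add_zero, finrank_span_eq_card hle, finrank_span_eq_card hlf,
    Fintype.card_fin] at h1
  rw [h1, Module.finrank_fintype_fun_eq_card, Fintype.card_sum, Fintype.card_fin]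

end pairs

section count

variable {F : Type*} [Field F] [Fintype F] {d : ℕ}

open Cfsg.Agent.S0775

/-- the number of ordered polar pairs times `|GL_d(q)|` is `|Sp_{2d}(q)|` -/
theorem card_pairs_mul :
    Nat.card {P : Submodule F (Fin d ⊕ Fin d → F) × Submodule F (Fin d ⊕ Fin d → F) //
      IsCompl P.1 P.2 ∧ (∀ u ∈ P.1, ∀ v ∈ P.1, Cfsg.sympForm d F u v = 0) ∧
        (∀ u ∈ P.2, ∀ v ∈ P.2, Cfsg.sympForm d F u v = 0)} *
      (∏ i : Fin d, (Fintype.card F ^ d - Fintype.card F ^ (i : ℕ))) =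
    Nat.card (Matrix.symplecticGroup (Fin d) F) := by
  classical
  rw [card_symplectic_eq_card_hypSys]
  show Nat.card {P : Submodule F (Fin d ⊕ Fin d → F) × Submodule F (Fin d ⊕ Fin d → F) //
      IsPolarPair P.1 P.2} * _ = _
  have : Fintype {P : Submodule F (Fin d ⊕ Fin d → F) × Submodule F (Fin d ⊕ Fin d → F) //
      IsPolarPair P.1 P.2} := Fintype.ofFinite _
  have : Finite (Tup F d d) := by
    unfold Tup
    infer_instance
  let Φ : {p : (Fin d → (Fin d ⊕ Fin d → F)) × (Fin d → (Fin d ⊕ Fin d → F)) //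
        HypSys F d d p.1 p.2} →
      {x : {P : Submodule F (Fin d ⊕ Fin d → F) × Submodule F (Fin d ⊕ Fin d → F) //
        IsPolarPair P.1 P.2} × Tup F d d //
        TI d x.2 ∧ Submodule.span F (Set.range x.2) = x.1.1.1} :=
    fun p => ⟨(⟨(Submodule.span F (Set.range p.1.1), Submodule.span F (Set.range p.1.2)),
      hyp_pair p.2⟩, p.1.1), ⟨(hyp_li p.2).1, p.2.ee⟩, rfl⟩
  have hbij : Function.Bijective Φ := by
    constructor
    · rintro ⟨⟨e, f⟩, h⟩ ⟨⟨e', f'⟩, h'⟩ heq
      have h1 := congrArg Subtype.val heq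
      have h2 : e = e' := congrArg Prod.snd h1
      have h3 : Submodule.span F (Set.range f) = Submodule.span F (Set.range f') :=
        congrArg (fun x : {P : Submodule F (Fin d ⊕ Fin d → F) ×
          Submodule F (Fin d ⊕ Fin d → F) // IsPolarPair P.1 P.2} × Tup F d d => x.1.1.2) h1
      subst h2
      have h4 : f = f' := by
        funext i
        have hP := hyp_pair h
        rw [← sub_eq_zero]
        apply hP.radical (f i - f' i)
        · apply Submodule.sub_mem
          · exact Submodule.subset_span ⟨i, rfl⟩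
          · rw [h3]
            exact Submodule.subset_span ⟨i, rfl⟩
        · apply perp_span
          rintro _ ⟨j, rfl⟩
          rw [sub_eq_add_neg, sympForm_add_left, sympForm_neg_left, h.fe, h'.fe, add_neg_cancel]
      subst h4
      rfl
    · rintro ⟨⟨⟨⟨U, W⟩, hP⟩, y⟩, hy, hspan⟩
      obtain ⟨f, hfW, hfe⟩ := hP.exists_dual y hspan
      have hH : HypSys F d d y f :=
        ⟨hy.2, fun i j => hP.2.2 _ (hfW i) _ (hfW j), hfe⟩
      have hspanf : Submodule.span F (Set.range f) = W := by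
        apply Submodule.eq_of_le_of_finrank_eq
        · rw [Submodule.span_le]
          rintro _ ⟨i, rfl⟩
          exact hfW i
        · rw [finrank_span_eq_card (hyp_li hH).2, Fintype.card_fin, hP.finrank_eq.2]
      refine ⟨⟨(y, f), hH⟩, ?_⟩
      apply Subtype.ext
      apply Prod.ext
      · apply Subtype.ext
        apply Prod.ext
        · exact hspan
        · exact hspanf
      · rfl
  rw [Nat.card_congr (Equiv.ofBijective Φ hbij),
    Nat.card_congr (Equiv.subtypeProdEquivSigmaSubtype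
      (fun (P : {P : Submodule F (Fin d ⊕ Fin d → F) × Submodule F (Fin d ⊕ Fin d → F) //
        IsPolarPair P.1 P.2}) (y : Tup F d d) =>
        TI d y ∧ Submodule.span F (Set.range y) = P.1.1)),
    Nat.card_sigma]
  have h1 : ∀ P : {P : Submodule F (Fin d ⊕ Fin d → F) × Submodule F (Fin d ⊕ Fin d → F) //
      IsPolarPair P.1 P.2},
      Nat.card {y : Tup F d d // TI d y ∧ Submodule.span F (Set.range y) = P.1.1} =
        ∏ i : Fin d, (Fintype.card F ^ d - Fintype.card F ^ (i : ℕ)) := by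
    intro P
    exact card_bases P.1.1 d P.2.finrank_eq.1 P.2.2.1
  rw [Finset.sum_congr rfl (fun P _ => h1 P), Finset.sum_const, Finset.card_univ, smul_eq_mul,
    Nat.card_eq_fintype_card]


/-- `|GL_d(q)|` as a power of `q` times a product -/
theorem gl_prod (q d : ℕ) (_hq : 1 ≤ q) :
    ∏ i : Fin d, (q ^ d - q ^ (i : ℕ)) =
      q ^ (∑ i ∈ Finset.range d, i) * ∏ i ∈ Finset.range d, (q ^ (i + 1) - 1) := by
  rw [Fin.prod_univ_eq_prod_range (fun i => q ^ d - q ^ i) d]
  have h1 : ∀ i ∈ Finset.range d, q ^ d - q ^ i = q ^ i * (q ^ (d - 1 - i + 1) - 1) := by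
    intro i hi
    rw [Finset.mem_range] at hi
    have e : d - 1 - i + 1 = d - i := by omega
    rw [e, Nat.mul_sub, mul_one, ← pow_add]
    congr 2
    omega
  rw [Finset.prod_congr rfl h1, Finset.prod_mul_distrib, Finset.prod_pow_eq_pow_sum,
    Finset.prod_range_reflect (fun j => q ^ (j + 1) - 1) d]

theorem sq_sub_one_nat (a : ℕ) (ha : 1 ≤ a) : a ^ 2 - 1 = (a - 1) * (a + 1) := by
  obtain ⟨b, rfl⟩ : ∃ b, a = b + 1 := ⟨a - 1, by omega⟩
  rw [Nat.add_sub_cancel]
  apply Nat.sub_eq_of_eq_add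
  ring

/-- the number of ordered polar pairs is `q^(d(d+1)/2) ∏ (q^i + 1)` -/
theorem card_pairs_formula :
    Nat.card {P : Submodule F (Fin d ⊕ Fin d → F) × Submodule F (Fin d ⊕ Fin d → F) //
      IsCompl P.1 P.2 ∧ (∀ u ∈ P.1, ∀ v ∈ P.1, Cfsg.sympForm d F u v = 0) ∧
        (∀ u ∈ P.2, ∀ v ∈ P.2, Cfsg.sympForm d F u v = 0)} *
        Fintype.card F ^ (∑ i ∈ Finset.range d, i) =
      Fintype.card F ^ (d ^ 2) * ∏ i ∈ Finset.range d, (Fintype.card F ^ (i + 1) + 1) := by
  classical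
  have h1 := card_pairs_mul (F := F) (d := d)
  rw [card_symplectic d] at h1
  obtain ⟨N, hN⟩ : ∃ N, N = Nat.card {P : Submodule F (Fin d ⊕ Fin d → F) ×
      Submodule F (Fin d ⊕ Fin d → F) // IsCompl P.1 P.2 ∧
      (∀ u ∈ P.1, ∀ v ∈ P.1, Cfsg.sympForm d F u v = 0) ∧
      (∀ u ∈ P.2, ∀ v ∈ P.2, Cfsg.sympForm d F u v = 0)} := ⟨_, rfl⟩
  rw [← hN] at h1 ⊢
  obtain ⟨q, hqdef⟩ : ∃ q, q = Fintype.card F := ⟨_, rfl⟩
  rw [← hqdef] at h1 ⊢
  have hq2 : 2 ≤ q := by
    rw [hqdef]
    exact Fintype.one_lt_card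
  have hq1 : 1 ≤ q := by omega
  rw [gl_prod q d hq1] at h1
  have h2 : ∀ i ∈ Finset.range d, q ^ (2 * (i + 1)) - 1 = (q ^ (i + 1) - 1) * (q ^ (i + 1) + 1) := by
    intro i _
    rw [mul_comm 2, pow_mul]
    exact sq_sub_one_nat _ (Nat.one_le_pow _ _ hq1)
  rw [Finset.prod_congr rfl h2, Finset.prod_mul_distrib] at h1
  have hpos : 0 < ∏ i ∈ Finset.range d, (q ^ (i + 1) - 1) := by
    apply Finset.prod_pos
    intro i _
    have : 2 ≤ q ^ (i + 1) := by
      calc 2 ≤ q := hq2
        _ = q ^ 1 := (pow_one q).symm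
        _ ≤ q ^ (i + 1) := Nat.pow_le_pow_right hq1 (by omega)
    omega
  apply Nat.eq_of_mul_eq_mul_right hpos
  calc N * q ^ (∑ i ∈ Finset.range d, i) * ∏ i ∈ Finset.range d, (q ^ (i + 1) - 1)
      = N * (q ^ (∑ i ∈ Finset.range d, i) * ∏ i ∈ Finset.range d, (q ^ (i + 1) - 1)) := by
        ring
    _ = q ^ (d ^ 2) * ((∏ i ∈ Finset.range d, (q ^ (i + 1) - 1)) *
          ∏ i ∈ Finset.range d, (q ^ (i + 1) + 1)) := h1
    _ = q ^ (d ^ 2) * (∏ i ∈ Finset.range d, (q ^ (i + 1) + 1)) *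
          ∏ i ∈ Finset.range d, (q ^ (i + 1) - 1) := by ring

/-- a prime not dividing `q` that divides the number of ordered polar pairs divides some
`q^i + 1` with `1 ≤ i ≤ d` -/
theorem exists_dvd_of_dvd_pairs (r : ℕ) (hr : r.Prime) (hq : ¬ r ∣ Fintype.card F)
    (hdvd : r ∣ Nat.card {P : Submodule F (Fin d ⊕ Fin d → F) × Submodule F (Fin d ⊕ Fin d → F) //
      IsCompl P.1 P.2 ∧ (∀ u ∈ P.1, ∀ v ∈ P.1, Cfsg.sympForm d F u v = 0) ∧
        (∀ u ∈ P.2, ∀ v ∈ P.2, Cfsg.sympForm d F u v = 0)}) :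
    ∃ i, i < d ∧ r ∣ Fintype.card F ^ (i + 1) + 1 := by
  classical
  have h3 := card_pairs_formula (F := F) (d := d)
  have h4 : r ∣ Fintype.card F ^ (d ^ 2) *
      ∏ i ∈ Finset.range d, (Fintype.card F ^ (i + 1) + 1) := by
    rw [← h3]
    exact Dvd.dvd.mul_right hdvd _
  rcases (Nat.Prime.dvd_mul hr).1 h4 with h5 | h5
  · exact absurd (hr.dvd_of_dvd_pow h5) hq
  · obtain ⟨i, hi, hdi⟩ := (Prime.dvd_finsetProd_iff hr.prime _).1 h5
    exact ⟨i, Finset.mem_range.1 hi, hdi⟩

/-- for odd `q` the number of ordered polar pairs is even -/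
theorem even_card_pairs (hd : 1 ≤ d) (hodd : Odd (Fintype.card F)) :
    2 ∣ Nat.card {P : Submodule F (Fin d ⊕ Fin d → F) × Submodule F (Fin d ⊕ Fin d → F) //
      IsCompl P.1 P.2 ∧ (∀ u ∈ P.1, ∀ v ∈ P.1, Cfsg.sympForm d F u v = 0) ∧
        (∀ u ∈ P.2, ∀ v ∈ P.2, Cfsg.sympForm d F u v = 0)} := by
  have h3 := card_pairs_formula (F := F) (d := d)
  have h4 : 2 ∣ Fintype.card F ^ (d ^ 2) *
      ∏ i ∈ Finset.range d, (Fintype.card F ^ (i + 1) + 1) := by
    apply Dvd.dvd.mul_left
    apply Dvd.dvd.trans _ (Finset.dvd_prod_of_mem _ (Finset.mem_range.2 hd))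
    rw [zero_add, pow_one]
    exact (hodd.add_one).two_dvd
  rw [← h3] at h4
  have hc : Nat.Coprime 2 (Fintype.card F ^ (∑ i ∈ Finset.range d, i)) := by
    apply Nat.Coprime.pow_right
    exact Nat.coprime_two_left.2 hodd
  exact hc.dvd_of_dvd_mul_right h4

end count

section fix

open Polynomial

variable {F : Type*} [Field F] {d : ℕ}

/-- an isometry stabilising a polar pair and acting trivially on one member is trivial -/
theorem eq_one_of_fix_half {U W : Submodule F (Fin d ⊕ Fin d → F)} (hP : IsPolarPair U W)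
    (T : End F (Fin d ⊕ Fin d → F))
    (hinv : ∀ u v, Cfsg.sympForm d F (T u) (T v) = Cfsg.sympForm d F u v)
    (hU : ∀ u ∈ U, T u ∈ U) (hW : ∀ w ∈ W, T w = w) : T = 1 := by
  have hTU : ∀ u ∈ U, T u = u := by
    intro u hu
    rw [← sub_eq_zero]
    apply eq_zero_of_forall
    intro v
    have hv : v ∈ U ⊔ W := by rw [hP.1.sup_eq_top]; exact Submodule.mem_top
    obtain ⟨u', hu', w, hw, rfl⟩ := Submodule.mem_sup.1 hv
    rw [sympForm_add_right, hP.2.1 _ (Submodule.sub_mem _ (hU u hu) hu) _ hu', zero_add,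
      sub_eq_add_neg, sympForm_add_left, sympForm_neg_left]
    have h1 := hinv u w
    rw [hW w hw] at h1
    rw [h1, add_neg_cancel]
  apply LinearMap.ext
  intro v
  have hv : v ∈ U ⊔ W := by rw [hP.1.sup_eq_top]; exact Submodule.mem_top
  obtain ⟨u, hu, w, hw, rfl⟩ := Submodule.mem_sup.1 hv
  rw [map_add, hTU u hu, hW w hw, Module.End.one_apply]

/-- a unipotent endomorphism of order prime to the characteristic is trivial -/
theorem eq_one_of_charpoly_dvd {X' : Type*} [AddCommGroup X'] [Module F X'] [FiniteDimensional F X']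
    (S : End F X') (r : ℕ) (hr0 : (r : F) ≠ 0) (hSr : S ^ r = 1) (m : ℕ)
    (hdvd : S.charpoly ∣ (X - 1 : F[X]) ^ m) : S = 1 := by
  have h1 : aeval S ((X - 1 : F[X]) ^ m) = 0 := by
    obtain ⟨k, hk⟩ := hdvd
    rw [hk, map_mul, LinearMap.aeval_self_charpoly, zero_mul]
  obtain ⟨Ψ, hΨ⟩ : ∃ Ψ : F[X], Ψ = ∑ i ∈ Finset.range r, X ^ i := ⟨_, rfl⟩
  have hΨ1 : Ψ * (X - 1) = X ^ r - 1 := by
    rw [hΨ]
    exact geom_sum_mul X r
  have hΨeval : Ψ.eval 1 = (r : F) := by
    rw [hΨ, eval_finsetSum]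
    simp
  have hcop : IsCoprime (X - 1 : F[X]) Ψ := by
    have hirr : Irreducible (X - 1 : F[X]) := by
      rw [← C_1]
      exact irreducible_X_sub_C 1
    rw [hirr.coprime_iff_not_dvd]
    intro hd
    rw [← C_1, dvd_iff_isRoot, IsRoot.def, hΨeval] at hd
    exact hr0 hd
  obtain ⟨a, b, hab⟩ := hcop.pow_left (m := m)
  have h2 : (X - 1 : F[X]) = a * (X - 1) ^ m * (X - 1) + b * (X ^ r - 1) := by
    rw [← hΨ1]
    calc (X - 1 : F[X]) = (a * (X - 1) ^ m + b * Ψ) * (X - 1) := by rw [hab, one_mul]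
      _ = _ := by ring
  have h3 := congrArg (aeval S) h2
  rw [map_add, map_mul, map_mul, h1, mul_zero, zero_mul, zero_add, map_mul, map_sub, map_sub,
    map_pow, aeval_X, map_one, hSr, sub_self, mul_zero] at h3
  exact sub_eq_zero.1 h3

/-- an isometry of order `r` whose characteristic polynomial has a simple irreducible factor
besides `X - 1` stabilises no polar pair -/
theorem eq_one_of_stabilises (B : Matrix (Fin d ⊕ Fin d) (Fin d ⊕ Fin d) F)
    (hB : B ∈ Matrix.symplecticGroup (Fin d) F) (r : ℕ) (hr0 : (r : F) ≠ 0) (hBr : B ^ r = 1)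
    (h : F[X]) (hirr : Irreducible h) (m : ℕ) (hcp : B.charpoly = h * (X - 1) ^ m)
    (U W : Submodule F (Fin d ⊕ Fin d → F)) (hP : IsPolarPair U W)
    (hU : U.map (Matrix.toLin' B) ≤ U) (hW : W.map (Matrix.toLin' B) ≤ W) : B = 1 := by
  classical
  obtain ⟨T, hT⟩ : ∃ T : End F (Fin d ⊕ Fin d → F), T = Matrix.toLin' B := ⟨_, rfl⟩
  rw [← hT] at hU hW
  have hinv : ∀ u v, Cfsg.sympForm d F (T u) (T v) = Cfsg.sympForm d F u v := by
    intro u v
    rw [hT, Matrix.toLin'_apply, Matrix.toLin'_apply]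
    exact sympForm_invariant d ⟨B, hB⟩ u v
  have hTr : T ^ r = 1 := by
    rw [hT, ← Matrix.toLin'_pow, hBr, Matrix.toLin'_one]
    rfl
  have hU' : ∀ u ∈ U, T u ∈ U := fun u hu => hU (Submodule.mem_map_of_mem hu)
  have hW' : ∀ w ∈ W, T w ∈ W := fun w hw => hW (Submodule.mem_map_of_mem hw)
  obtain ⟨TU, hTU⟩ : ∃ TU : End F U, TU = T.restrict hU' := ⟨_, rfl⟩
  obtain ⟨TW, hTW⟩ : ∃ TW : End F W, TW = T.restrict hW' := ⟨_, rfl⟩
  have hTUr : TU ^ r = 1 := by
    rw [hTU, Module.End.pow_restrict, LinearMap.ext_iff]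
    intro u
    apply Subtype.ext
    rw [LinearMap.coe_restrict_apply, hTr]
    rfl
  have hTWr : TW ^ r = 1 := by
    rw [hTW, Module.End.pow_restrict, LinearMap.ext_iff]
    intro u
    apply Subtype.ext
    rw [LinearMap.coe_restrict_apply, hTr]
    rfl
  have hconj : (Submodule.prodEquivOfIsCompl U W hP.1).conj (TU.prodMap TW) = T := by
    apply LinearMap.ext
    intro v
    rw [LinearEquiv.conj_apply, LinearMap.comp_apply, LinearMap.comp_apply]
    obtain ⟨⟨u, w⟩, rfl⟩ := (Submodule.prodEquivOfIsCompl U W hP.1).surjective v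
    rw [LinearEquiv.coe_coe, LinearEquiv.coe_coe, LinearEquiv.symm_apply_apply,
      LinearMap.prodMap_apply, Submodule.coe_prodEquivOfIsCompl', Submodule.coe_prodEquivOfIsCompl',
      map_add, hTU, hTW]
    rfl
  have hcharT : T.charpoly = TU.charpoly * TW.charpoly := by
    rw [← hconj, LinearEquiv.charpoly_conj, LinearMap.charpoly_prodMap]
  have hcp' : TU.charpoly * TW.charpoly = h * (X - 1) ^ m := by
    rw [← hcharT, hT, Matrix.charpoly_toLin', hcp]
  have hT1 : T = 1 := by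
    have hdvd : h ∣ TU.charpoly * TW.charpoly := ⟨_, hcp'⟩
    rcases hirr.prime.dvd_or_dvd hdvd with ⟨k, hk⟩ | ⟨k, hk⟩
    · have h1 : TW.charpoly ∣ (X - 1 : F[X]) ^ m := by
        refine ⟨k, ?_⟩
        apply mul_left_cancel₀ hirr.ne_zero
        rw [← hcp', hk]
        ring
      have h2 := eq_one_of_charpoly_dvd TW r hr0 hTWr m h1
      apply eq_one_of_fix_half hP T hinv hU'
      intro w hw
      have := congrArg (fun X : End F W => (X ⟨w, hw⟩ : Fin d ⊕ Fin d → F)) h2
      simp only [Module.End.one_apply] at this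
      rw [hTW, LinearMap.coe_restrict_apply] at this
      exact this
    · have h1 : TU.charpoly ∣ (X - 1 : F[X]) ^ m := by
        refine ⟨k, ?_⟩
        apply mul_left_cancel₀ hirr.ne_zero
        rw [← hcp', hk]
        ring
      have h2 := eq_one_of_charpoly_dvd TU r hr0 hTUr m h1
      apply eq_one_of_fix_half hP.symm T hinv hW'
      intro w hw
      have := congrArg (fun X : End F U => (X ⟨w, hw⟩ : Fin d ⊕ Fin d → F)) h2
      simp only [Module.End.one_apply] at this
      rw [hTU, LinearMap.coe_restrict_apply] at this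
      exact this
  apply Matrix.toLin'.injective
  rw [← hT, hT1, Matrix.toLin'_one]
  rfl

end fix

section real

open Polynomial Cfsg.Agent.Lib.Helper15.PrimeOrderClasses Cfsg.Agent.Lib.Helper15.SpReal
  Cfsg.Agent.S2645

universe u

variable {F : Type u} [Field F] [Fintype F]

/-- a self-reciprocal irreducible factor of `X^r - 1` when `ord_r(q)` is even -/
theorem exists_selfdual_factor {p q : ℕ} [hp : Fact p.Prime] [CharP F p]
    (hF : Fintype.card F = q) (r i : ℕ) (hr : r.Prime) (hr2 : r ≠ 2) (hrp : r ≠ p)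
    (hi : i = orderOf (q : ZMod r)) (hev : Even i) :
    ∃ h₀ : F[X], h₀.Monic ∧ Irreducible h₀ ∧ h₀.natDegree = i ∧ h₀ ∣ X ^ r - 1 ∧
      IsCoprime (X - 1 : F[X]) h₀ ∧ ¬ h₀ ∣ X ^ 2 - 1 ∧ StarPoly.star (RingHom.id F) h₀ = h₀ := by
  classical
  have hr1 : Fact r.Prime := ⟨hr⟩
  have hrodd : Odd r := hr.odd_of_ne_two hr2
  obtain ⟨k, -, hk⟩ := FiniteField.card F p
  have hqr : ¬ r ∣ q := by
    rw [← hF, hk]
    intro hd
    exact hrp ((Nat.prime_dvd_prime_iff_eq hr hp.out).1 (hr.dvd_of_dvd_pow hd))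
  have hq0 : ((q : ℕ) : ZMod r) ≠ 0 := by
    rw [Ne, ZMod.natCast_eq_zero_iff]
    exact hqr
  have hidvd : i ∣ r - 1 := by
    rw [hi]
    exact orderOf_dvd_of_pow_eq_one (ZMod.pow_card_sub_one_eq_one hq0)
  have hr1' : 0 < r - 1 := by
    have := hr.two_le
    omega
  have hi0 : 0 < i := Nat.pos_of_dvd_of_pos hidvd hr1'
  obtain ⟨t, ht⟩ : ∃ t, t * i = r - 1 := ⟨(r - 1) / i, Nat.div_mul_cancel hidvd⟩
  have ht0 : 0 < t := by
    rcases Nat.eq_zero_or_pos t with h0 | h0
    · rw [h0, zero_mul] at ht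
      omega
    · exact h0
  obtain ⟨h, hmon, hirr, hnone, hdeg, hprod⟩ := exists_factor_family hF r i t hr hrp hi ht
  have hrF : (r : F) ≠ 0 := by
    rw [Ne, CharP.cast_eq_zero_iff F p]
    intro hd
    exact hrp ((Nat.prime_dvd_prime_iff_eq hp.out hr).1 hd).symm
  have hsq : Squarefree (∏ o, h o) := by
    rw [hprod]
    have := (separable_X_pow_sub_C (1 : F) hrF one_ne_zero).squarefree
    rwa [map_one] at this
  have hcop := family_coprime h hmon hirr hsq
  obtain ⟨h₀, hh₀⟩ : ∃ h₀ : F[X], h₀ = h (some ⟨0, ht0⟩) := ⟨_, rfl⟩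
  have hmon₀ : h₀.Monic := by rw [hh₀]; exact hmon _
  have hirr₀ : Irreducible h₀ := by rw [hh₀]; exact hirr _
  have hdeg₀ : h₀.natDegree = i := by rw [hh₀]; exact hdeg _
  have hdvd₀ : h₀ ∣ X ^ r - 1 := by
    rw [hh₀, ← hprod]
    exact Finset.dvd_prod_of_mem h (Finset.mem_univ _)
  have hcop₀ : IsCoprime (X - 1 : F[X]) h₀ := by
    rw [hh₀, ← hnone]
    exact hcop none (some ⟨0, ht0⟩) (Option.some_ne_none _).symm
  have hne₀ : h₀ ≠ X - 1 := by
    intro h1
    rw [h1] at hcop₀ hirr₀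
    exact hirr₀.not_isUnit (isCoprime_self.1 hcop₀)
  have hndvd : ¬ h₀ ∣ X ^ 2 - 1 := by
    intro hd
    obtain ⟨k', hk'⟩ := hrodd
    have h1 : (X ^ 2 - 1 : F[X]) ∣ X ^ r - X := by
      have h2 : (X ^ r - X : F[X]) = X * ((X ^ 2) ^ k' - 1 ^ k') := by
        rw [hk', one_pow]; ring
      rw [h2]
      exact Dvd.dvd.mul_left (sub_dvd_pow_sub_pow (X ^ 2) 1 k') X
    have h3 : h₀ ∣ X - 1 := by
      have h4 : (X - 1 : F[X]) = (X ^ r - 1) - (X ^ r - X) := by ring
      rw [h4]
      exact dvd_sub hdvd₀ (hd.trans h1)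
    exact hirr₀.not_isUnit (hcop₀.symm.isUnit_of_dvd' (dvd_refl _) h3)
  have hstar : StarPoly.star (RingHom.id F) h₀ = h₀ := by
    have h1 := StarPoly.star_eq_self_iff p 0 (RingHom.id F)
      (fun c => by rw [pow_zero, pow_one]; rfl) (fun c => rfl) r hr h₀ hmon₀ hirr₀ hdvd₀ hne₀
    rw [h1, Nat.card_eq_fintype_card, hF, pow_zero]
    exact (arith_even r q i hr hr2 hi hi0).2 hev
  exact ⟨h₀, hmon₀, hirr₀, hdeg₀, hdvd₀, hcop₀, hndvd, hstar⟩

/-- a symplectic matrix of order `r` whose characteristic polynomial is a simple irreducible factor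
times a power of `X - 1`, when `r ∣ q^(i+1) + 1` with `i < d` -/
theorem exists_simple_factor_matrix {p q : ℕ} [hp : Fact p.Prime] [CharP F p]
    (hF : Fintype.card F = q) (d : ℕ) (r : ℕ) (hr : r.Prime) (hr2 : r ≠ 2) (hrp : r ≠ p)
    (i : ℕ) (hi : i < d) (hdvd : r ∣ q ^ (i + 1) + 1) :
    ∃ B : Matrix (Fin d ⊕ Fin d) (Fin d ⊕ Fin d) F, B ∈ Matrix.symplecticGroup (Fin d) F ∧
      B ^ r = 1 ∧ ∃ (h : F[X]) (m : ℕ), Irreducible h ∧ IsCoprime (X - 1 : F[X]) h ∧
        B.charpoly = h * (X - 1) ^ m := by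
  classical
  have hr1 : Fact r.Prime := ⟨hr⟩
  obtain ⟨c, hc⟩ : ∃ c, c = orderOf (q : ZMod r) := ⟨_, rfl⟩
  have hm1 : ((q : ℕ) : ZMod r) ^ (i + 1) = -1 := by
    have : ((q ^ (i + 1) + 1 : ℕ) : ZMod r) = 0 := (ZMod.natCast_eq_zero_iff _ _).2 hdvd
    push_cast at this
    exact eq_neg_of_add_eq_zero_left this
  have hcdvd : c ∣ 2 * (i + 1) := by
    rw [hc]
    apply orderOf_dvd_of_pow_eq_one
    rw [mul_comm, pow_mul, hm1]
    norm_num
  have hc0 : 0 < c := Nat.pos_of_dvd_of_pos hcdvd (by omega)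
  have hev : Even c := by
    apply (arith_even r q c hr hr2 hc hc0).1
    refine ⟨i + 1, ?_⟩
    push_cast
    rw [hm1]
    norm_num
  obtain ⟨c', hc'⟩ := hev
  have hcle : c ≤ 2 * (i + 1) := Nat.le_of_dvd (by omega) hcdvd
  obtain ⟨h₀, hmon₀, hirr₀, hdeg₀, hdvd₀, hcop₀, hndvd, hstar⟩ :=
    exists_selfdual_factor hF r c hr hr2 hrp hc ⟨c', hc'⟩
  have hQ1 := sympReal_selfdual p r h₀ hmon₀ hirr₀ hstar hdvd₀ hndvd
  obtain ⟨k, hk⟩ : ∃ k, k = d - c' := ⟨_, rfl⟩
  have hQ2 := sympReal_hyperbolic (F := F) r k 1 1 (one_mul 1) (one_pow r)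
  rw [Matrix.charpoly_one, Fintype.card_fin, StarPoly.star_pow, StarPoly.star_X_sub_one,
    ← pow_add] at hQ2
  have hQ := hQ1.mul hQ2
  have hX1 : (X - 1 : F[X]).Monic := by
    rw [← C_1]
    exact monic_X_sub_C 1
  have hdegf : (h₀ * (X - 1) ^ (k + k)).natDegree = d + d := by
    rw [hmon₀.natDegree_mul (hX1.pow _), hdeg₀, hX1.natDegree_pow, ← C_1, natDegree_X_sub_C]
    omega
  obtain ⟨B, hB, hBcp, hBr⟩ := exists_symplectic hQ d hdegf
  exact ⟨B, hB, hBr, h₀, k + k, hirr₀, hcop₀, hBcp⟩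

end real

end Cfsg.Agent.Lib.Helper15.PolarPairs
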