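import Mathlib
import Cfsg.Agent.Lib.Helper14.Unitary

/-!
# Totally isotropic lines of the Hermitian form `hermForm n F q` over a field with `q ^ 2` elements

Counting via trace fibres and double counting: `card_lines_four`, `card_lines_five`,
`lines_through_eq`, `lines_total`.
-/

set_option autoImplicit false
set_option linter.unusedSectionVars false

namespace Cfsg.Agent.Lib.Helper15.HermLines

open Cfsg Cfsg.Agent.Lib.Helper14 Finset Module
open scoped Classical

variable {F : Type*} [Field F] [Fintype F] {q n : ℕ}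

theorem double_count' {α β : Type*} (s : Finset α) (t : Finset β) (r : α → β → Prop)
    [DecidableRel r] (a b : ℕ)
    (h1 : ∀ x ∈ s, (t.filter (fun y => r x y)).card = a)
    (h2 : ∀ y ∈ t, (s.filter (fun x => r x y)).card = b) : s.card * a = t.card * b := by
  have h := Finset.sum_card_bipartiteAbove_eq_sum_card_bipartiteBelow (s := s) (t := t) r
  unfold Finset.bipartiteAbove Finset.bipartiteBelow at h
  rw [Finset.sum_congr rfl (fun x hx => h1 x hx), Finset.sum_congr rfl (fun y hy => h2 y hy)] at h
  simpa [Finset.sum_const, smul_eq_mul] using h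

theorem ncard_submodule' {V : Type*} [AddCommGroup V] [Module F V] [Finite V] (W : Submodule F V) :
    (W : Set V).ncard = Fintype.card F ^ finrank F W := by
  rw [← Nat.card_coe_set_eq, ← Nat.card_eq_fintype_card]
  exact Module.natCard_eq_pow_finrank (K := F) (V := W)

/-- the fixed field has `q` elements -/
theorem card_fixed (hF : Fintype.card F = q ^ 2) :
    (univ.filter (fun c : F => c ^ q = c)).card = q := by
  have hq := herm_two_le hF
  have h : univ.filter (fun c : F => c ^ q = c) = insert 0 (fixStar F q) := by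
    ext c
    rw [mem_insert, mem_fixStar]
    simp only [mem_filter, mem_univ, true_and]
    constructor
    · intro hc
      by_cases h0 : c = 0
      · left; exact h0
      · right; exact ⟨h0, hc⟩
    · rintro (rfl | ⟨_, hc⟩)
      · exact zero_pow (by omega)
      · exact hc
  rw [h, card_insert_of_notMem, fixStar_card hF]
  · omega
  · rw [mem_fixStar]; simp

theorem trace_mem (hF : Fintype.card F = q ^ 2) (b : F) : (b + b ^ q) ^ q = b + b ^ q := by
  rw [herm_add_pow hF, ← pow_mul, ← pow_two, herm_pow_card hF, add_comm]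

theorem traceFiber_le (hF : Fintype.card F = q ^ 2) (t : F) :
    (univ.filter (fun b : F => b + b ^ q = t)).card ≤ q := by
  have hq := herm_two_le hF
  set p : Polynomial F := Polynomial.X ^ q + (Polynomial.X - Polynomial.C t) with hp
  have hdeg : p.natDegree = q := by
    rw [hp, Polynomial.natDegree_add_eq_left_of_natDegree_lt]
    · exact Polynomial.natDegree_X_pow q
    · rw [Polynomial.natDegree_X_sub_C, Polynomial.natDegree_X_pow]; omega
  have hp0 : p ≠ 0 := by
    intro h
    rw [h, Polynomial.natDegree_zero] at hdeg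
    omega
  have hsub : univ.filter (fun b : F => b + b ^ q = t) ⊆ p.roots.toFinset := by
    intro b hb
    simp only [mem_filter, mem_univ, true_and] at hb
    rw [Multiset.mem_toFinset, Polynomial.mem_roots hp0, Polynomial.IsRoot, hp]
    simp only [Polynomial.eval_add, Polynomial.eval_pow, Polynomial.eval_X, Polynomial.eval_sub,
      Polynomial.eval_C]
    rw [← hb]; ring
  calc _ ≤ p.roots.toFinset.card := card_le_card hsub
    _ ≤ Multiset.card p.roots := Multiset.toFinset_card_le _
    _ ≤ p.natDegree := Polynomial.card_roots' p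
    _ = q := hdeg

theorem sum_traceFiber (hF : Fintype.card F = q ^ 2) :
    ∑ t ∈ univ.filter (fun c : F => c ^ q = c), (univ.filter (fun b : F => b + b ^ q = t)).card
      = q ^ 2 := by
  rw [← hF, ← card_univ]
  symm
  apply Finset.card_eq_sum_card_fiberwise
  intro b _
  simp only [mem_coe, mem_filter, mem_univ, true_and]
  exact trace_mem hF b

theorem traceFiber_eq (hF : Fintype.card F = q ^ 2) (t : F) (ht : t ^ q = t) :
    (univ.filter (fun b : F => b + b ^ q = t)).card = q := by
  apply le_antisymm (traceFiber_le hF t)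
  by_contra hlt
  push Not at hlt
  have hmem : t ∈ univ.filter (fun c : F => c ^ q = c) := by simp [ht]
  have h1 : ∑ d ∈ univ.filter (fun c : F => c ^ q = c),
      (univ.filter (fun b : F => b + b ^ q = d)).card
        < ∑ d ∈ univ.filter (fun c : F => c ^ q = c), q :=
    Finset.sum_lt_sum (fun d _ => traceFiber_le hF d) ⟨t, hmem, hlt⟩
  rw [sum_traceFiber hF, Finset.sum_const, card_fixed hF, smul_eq_mul] at h1
  nlinarith

theorem traceFiber_scaled (hF : Fintype.card F = q ^ 2) (c t : F) (hc : c ≠ 0) (ht : t ^ q = t) :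
    (univ.filter (fun a : F => a * c + (a * c) ^ q = t)).card = q := by
  refine Eq.trans ?_ (traceFiber_eq hF t ht)
  apply Finset.card_bij (fun a _ => a * c)
  · intro a ha
    simp only [mem_filter, mem_univ, true_and] at ha ⊢
    exact ha
  · intro a _ b _ hab
    exact mul_right_cancel₀ hc hab
  · intro b hb
    simp only [mem_filter, mem_univ, true_and] at hb
    refine ⟨b / c, ?_, ?_⟩
    · simp only [mem_filter, mem_univ, true_and]
      rw [div_mul_cancel₀ _ hc]; exact hb
    · exact div_mul_cancel₀ _ hc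

/-- `w ↦ H(w, u)` as a linear functional -/
def phiH (q : ℕ) (u : Fin n → F) : (Fin n → F) →ₗ[F] F where
  toFun w := Cfsg.hermForm n F q w u
  map_add' x y := hermForm_add_left x y u
  map_smul' c w := by simp [hermForm_smul_left]

@[simp] lemma phiH_apply (u w : Fin n → F) : phiH q u w = Cfsg.hermForm n F q w u := rfl

lemma phiH_surj (hF : Fintype.card F = q ^ 2) (u : Fin n → F) (hu : u ≠ 0) :
    Function.Surjective (phiH q u) := by
  have hq := herm_two_le hF
  obtain ⟨i, hi⟩ : ∃ i, u i ≠ 0 := by
    by_contra h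
    push Not at h
    exact hu (funext h)
  have h1 : Cfsg.hermForm n F q (Pi.single i 1) u = u i ^ q := by
    unfold Cfsg.hermForm
    rw [Finset.sum_eq_single i]
    · rw [Pi.single_eq_same, one_mul]
    · intro j _ hj
      rw [Pi.single_eq_of_ne hj, zero_mul]
    · intro h; exact absurd (mem_univ _) h
  have h2 : u i ^ q ≠ 0 := pow_ne_zero _ hi
  intro c
  refine ⟨(c / u i ^ q) • Pi.single i 1, ?_⟩
  rw [map_smul, phiH_apply, h1, smul_eq_mul, div_mul_cancel₀ _ h2]

lemma finrank_ker_phiH (hF : Fintype.card F = q ^ 2) (u : Fin n → F) (hu : u ≠ 0) :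
    finrank F (LinearMap.ker (phiH q u)) + 1 = n := by
  have h := LinearMap.finrank_range_add_finrank_ker (phiH q u)
  rw [LinearMap.range_eq_top.mpr (phiH_surj hF u hu), finrank_top, finrank_self] at h
  simp only [finrank_pi_fintype, finrank_self, Finset.sum_const, Finset.card_univ,
    Fintype.card_fin, smul_eq_mul, mul_one] at h
  omega

/-- number of `w` with `H(w,u) = 0` -/
lemma card_perp (hF : Fintype.card F = q ^ 2) (u : Fin n → F) (hu : u ≠ 0) :
    (univ.filter (fun w : Fin n → F => Cfsg.hermForm n F q w u = 0)).card * q ^ 2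
      = (q ^ 2) ^ n := by
  have h1 : ((univ.filter (fun w : Fin n → F => Cfsg.hermForm n F q w u = 0) : Finset _) :
      Set (Fin n → F)) = (LinearMap.ker (phiH q u) : Set (Fin n → F)) := by
    ext w
    simp
  rw [← Set.ncard_coe_finset, h1, ncard_submodule', hF, ← pow_succ, finrank_ker_phiH hF u hu]

lemma card_nonperp (hF : Fintype.card F = q ^ 2) (u : Fin n → F) (hu : u ≠ 0) :
    (univ.filter (fun w : Fin n → F => Cfsg.hermForm n F q w u ≠ 0)).card * q ^ 2
      + (q ^ 2) ^ n = (q ^ 2) ^ n * q ^ 2 := by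
  have h := Finset.card_filter_add_card_filter_not (s := (univ : Finset (Fin n → F)))
    (fun w : Fin n → F => Cfsg.hermForm n F q w u = 0)
  rw [card_univ, Fintype.card_pi_const, hF] at h
  have hP := card_perp hF u hu
  calc (univ.filter (fun w : Fin n → F => Cfsg.hermForm n F q w u ≠ 0)).card * q ^ 2
      + (q ^ 2) ^ n
      = (univ.filter (fun w : Fin n → F => Cfsg.hermForm n F q w u ≠ 0)).card * q ^ 2
        + (univ.filter (fun w : Fin n → F => Cfsg.hermForm n F q w u = 0)).card * q ^ 2 := by
        rw [hP]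
    _ = ((univ.filter (fun w : Fin n → F => Cfsg.hermForm n F q w u = 0)).card
        + (univ.filter (fun w : Fin n → F => ¬ Cfsg.hermForm n F q w u = 0)).card) * q ^ 2 := by
        ring
    _ = (q ^ 2) ^ n * q ^ 2 := by rw [h]

/-- expansion of `H(t - a u, t - a u)` for isotropic `u` -/
lemma herm_sub_smul_self (hF : Fintype.card F = q ^ 2) (u t : Fin n → F)
    (hu : Cfsg.hermForm n F q u u = 0) (a : F) :
    Cfsg.hermForm n F q (t - a • u) (t - a • u) =
      Cfsg.hermForm n F q t t
        - (a * Cfsg.hermForm n F q u t + (a * Cfsg.hermForm n F q u t) ^ q) := by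
  have hsub : ∀ x y z : Fin n → F, Cfsg.hermForm n F q x (y - z) =
      Cfsg.hermForm n F q x y - Cfsg.hermForm n F q x z := by
    intro x y z
    have := hermForm_add_right hF x (y - z) z
    rw [sub_add_cancel] at this
    rw [this]; ring
  rw [hermForm_sub_left, hsub, hsub, hermForm_smul_left, hermForm_smul_left, hermForm_smul_right,
    hermForm_smul_right, hu, mul_pow, hermForm_conj hF u t]
  ring

lemma smul_inj_of_ne_zero (u : Fin n → F) (hu0 : u ≠ 0) {a b : F} (h : a • u = b • u) : a = b := by
  by_contra hne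
  apply hu0
  have h3 : (a - b) • u = 0 := by rw [sub_smul, h, sub_self]
  exact (smul_eq_zero.mp h3).resolve_left (sub_ne_zero.mpr hne)

/-- isotropic vectors not perpendicular to the isotropic vector `u` -/
theorem card_S (hF : Fintype.card F = q ^ 2) (u : Fin n → F) (hu0 : u ≠ 0)
    (hu : Cfsg.hermForm n F q u u = 0) :
    (univ.filter (fun w : Fin n → F =>
        Cfsg.hermForm n F q w u ≠ 0 ∧ Cfsg.hermForm n F q w w = 0)).card * q ^ 2
      = (univ.filter (fun w : Fin n → F => Cfsg.hermForm n F q w u ≠ 0)).card * q := by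
  apply double_count' _ _ (fun s t => ∃ a : F, t = s + a • u)
  · intro s hs
    simp only [mem_filter, mem_univ, true_and] at hs
    have : (univ.filter (fun w : Fin n → F => Cfsg.hermForm n F q w u ≠ 0)).filter
        (fun t => ∃ a : F, t = s + a • u) = univ.image (fun a : F => s + a • u) := by
      ext t
      simp only [mem_filter, mem_image, mem_univ, true_and]
      constructor
      · rintro ⟨_, a, rfl⟩; exact ⟨a, rfl⟩
      · rintro ⟨a, rfl⟩
        refine ⟨?_, a, rfl⟩
        rw [hermForm_add_left, hermForm_smul_left, hu, mul_zero, add_zero]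
        exact hs.1
    rw [this, card_image_of_injective, card_univ, hF]
    intro a b hab
    exact smul_inj_of_ne_zero u hu0 (add_left_cancel hab)
  · intro t ht
    simp only [mem_filter, mem_univ, true_and] at ht
    have hc : Cfsg.hermForm n F q u t ≠ 0 := fun h => ht (hermForm_eq_zero_symm hF u t h)
    have : (univ.filter (fun w : Fin n → F =>
        Cfsg.hermForm n F q w u ≠ 0 ∧ Cfsg.hermForm n F q w w = 0)).filter
        (fun s => ∃ a : F, t = s + a • u) =
        (univ.filter (fun a : F => a * Cfsg.hermForm n F q u t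
          + (a * Cfsg.hermForm n F q u t) ^ q = Cfsg.hermForm n F q t t)).image
          (fun a : F => t - a • u) := by
      ext s
      simp only [mem_filter, mem_image, mem_univ, true_and]
      constructor
      · rintro ⟨⟨_, hs2⟩, a, rfl⟩
        refine ⟨a, ?_, by rw [add_sub_cancel_right]⟩
        have h := herm_sub_smul_self hF u (s + a • u) hu a
        rw [add_sub_cancel_right, hs2] at h
        exact (sub_eq_zero.mp h.symm).symm
      · rintro ⟨a, ha, rfl⟩
        refine ⟨⟨?_, ?_⟩, a, by rw [sub_add_cancel]⟩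
        · rw [hermForm_sub_left, hermForm_smul_left, hu, mul_zero, sub_zero]
          exact ht
        · rw [herm_sub_smul_self hF u t hu a, ha, sub_self]
    rw [this, card_image_of_injective]
    · exact traceFiber_scaled hF _ _ hc (hermForm_self_pow hF t)
    · intro a b hab
      have h2 : a • u = b • u := by
        have := sub_right_injective hab
        exact this
      exact smul_inj_of_ne_zero u hu0 h2

/-- totally isotropic subspaces for the Hermitian form -/
def TIH (q : ℕ) (W : Submodule F (Fin n → F)) : Prop :=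
  ∀ u ∈ W, ∀ v ∈ W, Cfsg.hermForm n F q u v = 0

lemma tih_span_pair (hF : Fintype.card F = q ^ 2) (v w : Fin n → F)
    (hv : Cfsg.hermForm n F q v v = 0) (hw : Cfsg.hermForm n F q w w = 0)
    (h : Cfsg.hermForm n F q w v = 0) : TIH q (Submodule.span F {v, w}) := by
  intro u hu u' hu'
  obtain ⟨a, b, rfl⟩ := Submodule.mem_span_pair.mp hu
  obtain ⟨c, d, rfl⟩ := Submodule.mem_span_pair.mp hu'
  have h' : Cfsg.hermForm n F q v w = 0 := hermForm_eq_zero_symm hF w v h
  simp only [hermForm_add_left, hermForm_add_right hF, hermForm_smul_left, hermForm_smul_right,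
    hv, hw, h, h', mul_zero, add_zero]

lemma finrank_span_pair' (v w : Fin n → F) (hv : v ≠ 0) (hw : w ∉ Submodule.span F {v}) :
    finrank F (Submodule.span F {v, w}) = 2 := by
  have hli : LinearIndependent F ![v, w] := by
    rw [LinearIndependent.pair_iff' hv]
    intro a ha
    exact hw (Submodule.mem_span_singleton.mpr ⟨a, ha⟩)
  have := finrank_span_eq_card hli
  have hr : Set.range ![v, w] = {v, w} := by
    ext z
    simp [eq_comm, or_comm]
  rw [hr] at this
  simpa using this

theorem lines_through (hF : Fintype.card F = q ^ 2) (v : Fin n → F) (hv : v ≠ 0)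
    (hvv : Cfsg.hermForm n F q v v = 0) :
    Nat.card {W : Submodule F (Fin n → F) // finrank F W = 2 ∧ v ∈ W ∧ TIH q W} *
        ((q ^ 2) ^ 2 - q ^ 2) + q ^ 2 =
      (univ.filter (fun w : Fin n → F =>
        Cfsg.hermForm n F q w v = 0 ∧ Cfsg.hermForm n F q w w = 0)).card := by
  have : Fintype (Submodule F (Fin n → F)) := Fintype.ofFinite _
  set s : Finset (Submodule F (Fin n → F)) :=
    Finset.univ.filter (fun W => finrank F W = 2 ∧ v ∈ W ∧ TIH q W) with hs
  set t : Finset (Fin n → F) :=
    Finset.univ.filter (fun w => (Cfsg.hermForm n F q w v = 0 ∧ Cfsg.hermForm n F q w w = 0)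
      ∧ w ∉ Submodule.span F {v}) with ht
  set c : Finset (Fin n → F) := univ.filter (fun w : Fin n → F =>
        Cfsg.hermForm n F q w v = 0 ∧ Cfsg.hermForm n F q w w = 0) with hc
  have hcs : Nat.card {W : Submodule F (Fin n → F) // finrank F W = 2 ∧ v ∈ W ∧ TIH q W} =
      s.card := by
    rw [Nat.card_eq_fintype_card, Fintype.card_subtype]
  have hspan1 : (Submodule.span F {v} : Set (Fin n → F)).ncard = q ^ 2 := by
    rw [ncard_submodule', finrank_span_singleton hv, pow_one, hF]
  have hsub : (Submodule.span F {v} : Set (Fin n → F)) ⊆ (c : Set (Fin n → F)) := by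
    intro w hw
    obtain ⟨a, rfl⟩ := Submodule.mem_span_singleton.mp hw
    simp only [hc, coe_filter, mem_univ, true_and, Set.mem_ofPred_eq]
    rw [hermForm_smul_left, hermForm_smul_left, hermForm_smul_right, hvv]
    simp
  have hct : t.card + q ^ 2 = c.card := by
    have : (t : Set (Fin n → F)) = (c : Set (Fin n → F)) \ (Submodule.span F {v}) := by
      ext w
      simp [ht, hc]
    rw [← Set.ncard_coe_finset, this, ← hspan1, Set.ncard_sdiff_add_ncard_of_subset hsub,
      Set.ncard_coe_finset]
  have h1 : ∀ W ∈ s, (t.filter (fun w => w ∈ W)).card = (q ^ 2) ^ 2 - q ^ 2 := by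
    intro W hW
    simp only [hs, Finset.mem_filter, Finset.mem_univ, true_and] at hW
    obtain ⟨hW2, hvW, hTI⟩ := hW
    have hle : Submodule.span F {v} ≤ W := by
      rwa [Submodule.span_singleton_le_iff_mem]
    have : ((t.filter (fun w => w ∈ W) : Finset _) : Set (Fin n → F)) =
        (W : Set (Fin n → F)) \ (Submodule.span F {v}) := by
      ext w
      simp only [ht, Finset.coe_filter, Finset.mem_filter, Finset.mem_univ, true_and,
        Set.mem_ofPred_eq, Set.mem_sdiff, SetLike.mem_coe]
      constructor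
      · rintro ⟨⟨_, h2⟩, h3⟩
        exact ⟨h3, h2⟩
      · rintro ⟨h3, h2⟩
        exact ⟨⟨⟨hTI w h3 v hvW, hTI w h3 w h3⟩, h2⟩, h3⟩
    rw [← Set.ncard_coe_finset, this, Set.ncard_sdiff hle, hspan1, ncard_submodule', hW2, hF]
  have h2 : ∀ w ∈ t, (s.filter (fun W => w ∈ W)).card = 1 := by
    intro w hw
    simp only [ht, Finset.mem_filter, Finset.mem_univ, true_and] at hw
    obtain ⟨⟨hvw, hww⟩, hwv⟩ := hw
    rw [Finset.card_eq_one]
    refine ⟨Submodule.span F {v, w}, ?_⟩
    ext W
    simp only [hs, Finset.mem_filter, Finset.mem_univ, true_and, Finset.mem_singleton]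
    constructor
    · rintro ⟨⟨hW2, hvW, hTI⟩, hwW⟩
      have hle : Submodule.span F {v, w} ≤ W := by
        rw [Submodule.span_le]
        rintro z (rfl | rfl)
        · exact hvW
        · exact hwW
      have hfin : finrank F (Submodule.span F {v, w}) = finrank F W := by
        rw [finrank_span_pair' v w hv hwv, hW2]
      exact (Submodule.eq_of_le_of_finrank_eq hle hfin).symm
    · rintro rfl
      refine ⟨⟨finrank_span_pair' v w hv hwv, Submodule.subset_span (by simp), ?_⟩,
        Submodule.subset_span (by simp)⟩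
      exact tih_span_pair hF v w hvv hww hvw
  rw [hcs, ← hct]
  have := double_count' s t (fun W w => w ∈ W) _ _ h1 h2
  rw [this, mul_one]

theorem lines_total (hF : Fintype.card F = q ^ 2) (L : ℕ)
    (hL : ∀ v : Fin n → F, v ≠ 0 → Cfsg.hermForm n F q v v = 0 →
      Nat.card {W : Submodule F (Fin n → F) // finrank F W = 2 ∧ v ∈ W ∧ TIH q W} = L) :
    Nat.card {W : Submodule F (Fin n → F) // finrank F W = 2 ∧ TIH q W} *
        ((q ^ 2) ^ 2 - 1) = (hermCount F q n 0 - 1) * L := by
  have : Fintype (Submodule F (Fin n → F)) := Fintype.ofFinite _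
  set s : Finset (Submodule F (Fin n → F)) :=
    Finset.univ.filter (fun W => finrank F W = 2 ∧ TIH q W) with hs
  set t : Finset (Fin n → F) :=
    Finset.univ.filter (fun v => Cfsg.hermForm n F q v v = 0 ∧ v ≠ 0) with ht
  have hcs : Nat.card {W : Submodule F (Fin n → F) // finrank F W = 2 ∧ TIH q W} =
      s.card := by
    rw [Nat.card_eq_fintype_card, Fintype.card_subtype]
  have hct : t.card = hermCount F q n 0 - 1 := by
    unfold hermCount
    rw [Nat.card_eq_fintype_card, Fintype.card_subtype, ht, ← Finset.filter_filter,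
      Finset.filter_ne', Finset.card_erase_of_mem]
    · rfl
    · simp only [mem_filter, mem_univ, true_and]
      exact hermForm_zero_left 0
  have h1 : ∀ W ∈ s, (t.filter (fun v => v ∈ W)).card = (q ^ 2) ^ 2 - 1 := by
    intro W hW
    simp only [hs, Finset.mem_filter, Finset.mem_univ, true_and] at hW
    obtain ⟨hW2, hTI⟩ := hW
    have : ((t.filter (fun v => v ∈ W) : Finset _) : Set (Fin n → F)) =
        (W : Set (Fin n → F)) \ {0} := by
      ext w
      simp only [ht, Finset.coe_filter, Finset.mem_filter, Finset.mem_univ, true_and,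
        Set.mem_ofPred_eq, Set.mem_sdiff, SetLike.mem_coe, Set.mem_singleton_iff]
      constructor
      · rintro ⟨⟨_, h2⟩, h3⟩
        exact ⟨h3, h2⟩
      · rintro ⟨h3, h2⟩
        exact ⟨⟨hTI w h3 w h3, h2⟩, h3⟩
    rw [← Set.ncard_coe_finset, this, Set.ncard_sdiff_singleton_of_mem (by simp), ncard_submodule',
      hW2, hF]
  have h2 : ∀ v ∈ t, (s.filter (fun W => v ∈ W)).card = L := by
    intro v hv
    simp only [ht, Finset.mem_filter, Finset.mem_univ, true_and] at hv
    rw [← hL v hv.2 hv.1, Nat.card_eq_fintype_card, Fintype.card_subtype, hs, Finset.filter_filter]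
    congr 1
    ext W
    simp only [Finset.mem_filter, Finset.mem_univ, true_and]
    tauto
  rw [hcs, ← hct]
  exact double_count' s t (fun W v => v ∈ W) _ _ h1 h2

lemma hermCount_split (u : Fin n → F) :
    hermCount F q n 0 =
      (univ.filter (fun w : Fin n → F =>
        Cfsg.hermForm n F q w u = 0 ∧ Cfsg.hermForm n F q w w = 0)).card +
      (univ.filter (fun w : Fin n → F =>
        Cfsg.hermForm n F q w u ≠ 0 ∧ Cfsg.hermForm n F q w w = 0)).card := by
  have h0 : hermCount F q n 0 =
      (univ.filter (fun w : Fin n → F => Cfsg.hermForm n F q w w = 0)).card := by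
    unfold hermCount
    rw [Nat.card_eq_fintype_card, Fintype.card_subtype]
    rfl
  rw [h0, ← Finset.card_filter_add_card_filter_not
    (s := univ.filter (fun w : Fin n → F => Cfsg.hermForm n F q w w = 0))
    (fun w : Fin n → F => Cfsg.hermForm n F q w u = 0), Finset.filter_filter, Finset.filter_filter]
  congr 2
  · ext w; simp only [mem_filter, mem_univ, true_and]; tauto
  · ext w; simp only [mem_filter, mem_univ, true_and]; tauto

/-- the key equation for the number of t.i. lines through an isotropic vector -/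
theorem lines_through_eq (hF : Fintype.card F = q ^ 2) (v : Fin n → F) (hv : v ≠ 0)
    (hvv : Cfsg.hermForm n F q v v = 0) :
    (Nat.card {W : Submodule F (Fin n → F) // finrank F W = 2 ∧ v ∈ W ∧ TIH q W} *
        ((q ^ 2) ^ 2 - q ^ 2) + q ^ 2) * q ^ 3 + (q ^ 2) ^ n * q ^ 2 =
      hermCount F q n 0 * q ^ 3 + (q ^ 2) ^ n := by
  rw [lines_through hF v hv hvv, hermCount_split v]
  have hS := card_S hF v hv hvv
  have hT := card_nonperp hF v hv
  nlinarith [hS, hT]

theorem lines_through_four (hF : Fintype.card F = q ^ 2) (v : Fin 4 → F) (hv : v ≠ 0)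
    (hvv : Cfsg.hermForm 4 F q v v = 0) :
    Nat.card {W : Submodule F (Fin 4 → F) // finrank F W = 2 ∧ v ∈ W ∧ TIH q W} = q + 1 := by
  have hq := herm_two_le hF
  have E1 := lines_through_eq hF v hv hvv
  have E2 := (hermAB_closed hq 4).1
  have hA := hermCount_eq hF 4 (0 : F)
  rw [if_pos rfl] at hA
  rw [← hA] at E2
  set L := Nat.card {W : Submodule F (Fin 4 → F) // finrank F W = 2 ∧ v ∈ W ∧ TIH q W}
  have hle : q ^ 2 ≤ (q ^ 2) ^ 2 := by nlinarith [Nat.pos_of_ne_zero (show q ≠ 0 by omega)]
  zify [hle] at E1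
  have hq' : (2 : ℤ) ≤ (q : ℤ) := by exact_mod_cast hq
  have hne : (q : ℤ) * (q : ℤ) ^ 3 * (((q : ℤ) ^ 2) ^ 2 - (q : ℤ) ^ 2) ≠ 0 := by
    have h1 : (0 : ℤ) < (q : ℤ) := by linarith
    have h2 : (0 : ℤ) < ((q : ℤ) ^ 2) ^ 2 - (q : ℤ) ^ 2 := by nlinarith [pow_pos h1 2]
    positivity
  have : (L : ℤ) = ((q + 1 : ℕ) : ℤ) := by
    apply mul_left_cancel₀ hne
    push_cast
    linear_combination (q : ℤ) * E1 + (q : ℤ) ^ 3 * E2
  exact_mod_cast this

theorem lines_through_five (hF : Fintype.card F = q ^ 2) (v : Fin 5 → F) (hv : v ≠ 0)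
    (hvv : Cfsg.hermForm 5 F q v v = 0) :
    Nat.card {W : Submodule F (Fin 5 → F) // finrank F W = 2 ∧ v ∈ W ∧ TIH q W} = q ^ 3 + 1 := by
  have hq := herm_two_le hF
  have E1 := lines_through_eq hF v hv hvv
  have E2 := (hermAB_closed hq 5).1
  have hA := hermCount_eq hF 5 (0 : F)
  rw [if_pos rfl] at hA
  rw [← hA] at E2
  set L := Nat.card {W : Submodule F (Fin 5 → F) // finrank F W = 2 ∧ v ∈ W ∧ TIH q W}
  have hle : q ^ 2 ≤ (q ^ 2) ^ 2 := by nlinarith [Nat.pos_of_ne_zero (show q ≠ 0 by omega)]
  zify [hle] at E1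
  have hq' : (2 : ℤ) ≤ (q : ℤ) := by exact_mod_cast hq
  have hne : (q : ℤ) * (q : ℤ) ^ 3 * (((q : ℤ) ^ 2) ^ 2 - (q : ℤ) ^ 2) ≠ 0 := by
    have h1 : (0 : ℤ) < (q : ℤ) := by linarith
    have h2 : (0 : ℤ) < ((q : ℤ) ^ 2) ^ 2 - (q : ℤ) ^ 2 := by nlinarith [pow_pos h1 2]
    positivity
  have : (L : ℤ) = ((q ^ 3 + 1 : ℕ) : ℤ) := by
    apply mul_left_cancel₀ hne
    push_cast
    linear_combination (q : ℤ) * E1 + (q : ℤ) ^ 3 * E2
  exact_mod_cast this

lemma one_le_hermCount_zero : 1 ≤ hermCount F q n 0 := by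
  unfold hermCount
  have : Nonempty {v : Fin n → F // ∑ i, v i * v i ^ q = 0} := ⟨⟨0, by simp⟩⟩
  exact Nat.card_pos

theorem card_lines_four (hF : Fintype.card F = q ^ 2) :
    Nat.card {W : Submodule F (Fin 4 → F) // finrank F W = 2 ∧ TIH q W}
      = (q + 1) * (q ^ 3 + 1) := by
  have hq := herm_two_le hF
  have E1 := lines_total hF (q + 1) (fun v hv hvv => lines_through_four hF v hv hvv)
  have E2 := (hermAB_closed hq 4).1
  have hA := hermCount_eq hF 4 (0 : F)
  rw [if_pos rfl] at hA
  rw [← hA] at E2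
  have hA1 : 1 ≤ hermCount F q 4 0 := one_le_hermCount_zero
  set N := Nat.card {W : Submodule F (Fin 4 → F) // finrank F W = 2 ∧ TIH q W}
  have hle : 1 ≤ (q ^ 2) ^ 2 := Nat.one_le_pow _ _ (by positivity)
  zify [hle, hA1] at E1
  have hq' : (2 : ℤ) ≤ (q : ℤ) := by exact_mod_cast hq
  have hne : (q : ℤ) * (((q : ℤ) ^ 2) ^ 2 - 1) ≠ 0 := by
    have h1 : (0 : ℤ) < (q : ℤ) := by linarith
    have h2 : (0 : ℤ) < ((q : ℤ) ^ 2) ^ 2 - 1 := by nlinarith [pow_pos h1 2, pow_pos h1 4]
    positivity
  have : (N : ℤ) = (((q + 1) * (q ^ 3 + 1) : ℕ) : ℤ) := by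
    apply mul_left_cancel₀ hne
    push_cast
    linear_combination (q : ℤ) * E1 + ((q : ℤ) + 1) * E2
  exact_mod_cast this

theorem card_lines_five (hF : Fintype.card F = q ^ 2) :
    Nat.card {W : Submodule F (Fin 5 → F) // finrank F W = 2 ∧ TIH q W}
      = (q ^ 3 + 1) * (q ^ 5 + 1) := by
  have hq := herm_two_le hF
  have E1 := lines_total hF (q ^ 3 + 1) (fun v hv hvv => lines_through_five hF v hv hvv)
  have E2 := (hermAB_closed hq 5).1
  have hA := hermCount_eq hF 5 (0 : F)
  rw [if_pos rfl] at hA
  rw [← hA] at E2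
  have hA1 : 1 ≤ hermCount F q 5 0 := one_le_hermCount_zero
  set N := Nat.card {W : Submodule F (Fin 5 → F) // finrank F W = 2 ∧ TIH q W}
  have hle : 1 ≤ (q ^ 2) ^ 2 := Nat.one_le_pow _ _ (by positivity)
  zify [hle, hA1] at E1
  have hq' : (2 : ℤ) ≤ (q : ℤ) := by exact_mod_cast hq
  have hne : (q : ℤ) * (((q : ℤ) ^ 2) ^ 2 - 1) ≠ 0 := by
    have h1 : (0 : ℤ) < (q : ℤ) := by linarith
    have h2 : (0 : ℤ) < ((q : ℤ) ^ 2) ^ 2 - 1 := by nlinarith [pow_pos h1 2, pow_pos h1 4]
    positivity
  have : (N : ℤ) = (((q ^ 3 + 1) * (q ^ 5 + 1) : ℕ) : ℤ) := by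
    apply mul_left_cancel₀ hne
    push_cast
    linear_combination (q : ℤ) * E1 + ((q : ℤ) ^ 3 + 1) * E2
  exact_mod_cast this

end Cfsg.Agent.Lib.Helper15.HermLines
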