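import Mathlib
import Cfsg.Agent.Lib.Helper15.UnitaryType
import Cfsg.Agent.Lib.Helper15.SemisimpleCount
import Cfsg.Agent.Lib.Helper15.StarPoly
import Cfsg.Agent.S2588
import Cfsg.Agent.S2587
import Cfsg.Agent.S2671
import Cfsg.Agent.S2643
import Cfsg.Agent.Lib.Helper15.UnitaryConj

set_option autoImplicit false

namespace Cfsg.Agent.Lib.Helper15.UnitaryCent

open Polynomial Matrix Cfsg.Agent.Lib.Helper15.UnitaryType

section blocks

variable {K : Type*} [Field K] {a b : ℕ}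

lemma bd_add (A A' : Matrix (Fin a) (Fin a) K) (B B' : Matrix (Fin b) (Fin b) K) :
    bd A B + bd A' B' = bd (A + A') (B + B') := by
  unfold bd
  rw [Matrix.reindex_apply, Matrix.reindex_apply, Matrix.reindex_apply]
  ext i j
  simp only [Matrix.add_apply, Matrix.submatrix_apply]
  rcases finSumFinEquiv.symm i with i' | i' <;> rcases finSumFinEquiv.symm j with j' | j' <;> simp

lemma bd_smul (c : K) (A : Matrix (Fin a) (Fin a) K) (B : Matrix (Fin b) (Fin b) K) :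
    c • bd A B = bd (c • A) (c • B) := by
  unfold bd
  rw [Matrix.reindex_apply, Matrix.reindex_apply]
  ext i j
  simp only [Matrix.smul_apply, Matrix.submatrix_apply]
  rcases finSumFinEquiv.symm i with i' | i' <;> rcases finSumFinEquiv.symm j with j' | j' <;> simp

lemma bd_aeval (A : Matrix (Fin a) (Fin a) K) (B : Matrix (Fin b) (Fin b) K) (P : K[X]) :
    aeval (bd A B) P = bd (aeval A P) (aeval B P) := by
  induction P using Polynomial.induction_on' with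
  | add p q hp hq => rw [map_add, map_add, map_add, hp, hq, bd_add]
  | monomial n c =>
    rw [aeval_monomial, aeval_monomial, aeval_monomial, bd_pow, Algebra.algebraMap_eq_smul_one,
      Algebra.algebraMap_eq_smul_one, Algebra.algebraMap_eq_smul_one, smul_mul_assoc, one_mul,
      smul_mul_assoc, one_mul, smul_mul_assoc, one_mul, bd_smul]

lemma bd_charpoly (A : Matrix (Fin a) (Fin a) K) (B : Matrix (Fin b) (Fin b) K) :
    (bd A B).charpoly = A.charpoly * B.charpoly := by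
  unfold bd
  rw [Matrix.charpoly_reindex, Matrix.charpoly_fromBlocks_zero₁₂]

lemma bd_det (A : Matrix (Fin a) (Fin a) K) (B : Matrix (Fin b) (Fin b) K) :
    (bd A B).det = A.det * B.det := by
  unfold bd
  rw [Matrix.det_reindex_self, Matrix.det_fromBlocks_zero₁₂]

end blocks

section star

variable {K : Type*} [Field K] [StarRing K] {n : ℕ}

lemma conjTranspose_aeval (B : Matrix (Fin n) (Fin n) K) (P : K[X]) :
    (aeval B P)ᴴ = aeval Bᴴ (P.map (starRingEnd K)) := by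
  induction P using Polynomial.induction_on' with
  | add p q hp hq => rw [map_add, Matrix.conjTranspose_add, hp, hq, Polynomial.map_add, map_add]
  | monomial k c =>
    rw [aeval_monomial, Polynomial.map_monomial, aeval_monomial, Matrix.conjTranspose_mul,
      Matrix.conjTranspose_pow, Algebra.algebraMap_eq_smul_one, Algebra.algebraMap_eq_smul_one,
      Matrix.conjTranspose_smul, Matrix.conjTranspose_one, smul_mul_assoc, one_mul,
      mul_smul_comm, mul_one]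
    rfl

/-- a unitary element of the centraliser from a polynomial in a unitary matrix of finite order -/
theorem unitary_of_poly (B : Matrix (Fin n) (Fin n) K) (hB : Bᴴ * B = 1) (N : ℕ)
    (hBN : B ^ (N + 1) = 1) (P : K[X]) (hdet : (aeval B P).det ≠ 0) :
    ∃ x : Matrix (Fin n) (Fin n) K, xᴴ * x = 1 ∧ x * B = B * x ∧
      x.det = (aeval B P).det * (star (aeval B P).det)⁻¹ := by
  obtain ⟨y, hy⟩ : ∃ y, y = aeval B P := ⟨_, rfl⟩
  rw [← hy] at hdet ⊢
  have hBH : Bᴴ = B ^ N := by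
    have h1 : Bᴴ * B * B ^ N = B ^ N := by rw [hB, Matrix.one_mul]
    rw [Matrix.mul_assoc, ← pow_succ', hBN, Matrix.mul_one] at h1
    exact h1
  have hyH : yᴴ = aeval B ((P.map (starRingEnd K)).comp (X ^ N)) := by
    rw [hy, conjTranspose_aeval, hBH, aeval_comp, map_pow, aeval_X]
  have hcomm : y * yᴴ = yᴴ * y := by
    rw [hyH, hy, ← map_mul, ← map_mul, mul_comm]
  have hyB : y * B = B * y := by
    rw [hy]
    have h1 : B = aeval B (X : K[X]) := (aeval_X B).symm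
    nth_rewrite 2 [h1]
    nth_rewrite 3 [h1]
    rw [← map_mul, ← map_mul, mul_comm]
  have hyHB : yᴴ * B = B * yᴴ := by
    rw [hyH]
    have h1 : B = aeval B (X : K[X]) := (aeval_X B).symm
    nth_rewrite 2 [h1]
    nth_rewrite 3 [h1]
    rw [← map_mul, ← map_mul, mul_comm]
  have hdetH : (yᴴ).det ≠ 0 := by
    rw [Matrix.det_conjTranspose]
    exact star_ne_zero.2 hdet
  have hyi : y * y⁻¹ = 1 := Matrix.mul_nonsing_inv y (Ne.isUnit hdet)
  have hyi' : y⁻¹ * y = 1 := Matrix.nonsing_inv_mul y (Ne.isUnit hdet)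
  have hyHi : yᴴ * (yᴴ)⁻¹ = 1 := Matrix.mul_nonsing_inv _ (Ne.isUnit hdetH)
  have hyHi' : (yᴴ)⁻¹ * yᴴ = 1 := Matrix.nonsing_inv_mul _ (Ne.isUnit hdetH)
  refine ⟨y * (yᴴ)⁻¹, ?_, ?_, ?_⟩
  · rw [Matrix.conjTranspose_mul, Matrix.conjTranspose_nonsing_inv,
      Matrix.conjTranspose_conjTranspose]
    calc y⁻¹ * yᴴ * (y * (yᴴ)⁻¹) = y⁻¹ * (yᴴ * y) * (yᴴ)⁻¹ := by
          simp only [Matrix.mul_assoc]
      _ = y⁻¹ * (y * yᴴ) * (yᴴ)⁻¹ := by rw [hcomm]
      _ = (y⁻¹ * y) * (yᴴ * (yᴴ)⁻¹) := by simp only [Matrix.mul_assoc]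
      _ = 1 := by rw [hyi', hyHi, Matrix.one_mul]
  · have h2 : (yᴴ)⁻¹ * B = B * (yᴴ)⁻¹ := by
      calc (yᴴ)⁻¹ * B = (yᴴ)⁻¹ * B * (yᴴ * (yᴴ)⁻¹) := by rw [hyHi, Matrix.mul_one]
        _ = (yᴴ)⁻¹ * (B * yᴴ) * (yᴴ)⁻¹ := by simp only [Matrix.mul_assoc]
        _ = (yᴴ)⁻¹ * (yᴴ * B) * (yᴴ)⁻¹ := by rw [hyHB]
        _ = ((yᴴ)⁻¹ * yᴴ) * B * (yᴴ)⁻¹ := by simp only [Matrix.mul_assoc]
        _ = B * (yᴴ)⁻¹ := by rw [hyHi', Matrix.one_mul]
    rw [Matrix.mul_assoc, h2, ← Matrix.mul_assoc, hyB, Matrix.mul_assoc]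
  · rw [Matrix.det_mul, Matrix.det_nonsing_inv, Matrix.det_conjTranspose, Ring.inverse_eq_inv']

end star


section model

variable {K : Type*} [Field K] [Fintype K]

open Cfsg.Agent.Lib.Helper15.SemisimpleCount Cfsg.Agent.Lib.Helper14

/-- the regular representation of the root field of an irreducible polynomial: a matrix with
characteristic polynomial `h`, of order prime to `p`, together with a polynomial in it of
prescribed determinant -/
theorem exists_field_model (p : ℕ) [Fact p.Prime] [CharP K p] (h : K[X]) (hm : h.Monic)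
    (hirr : Irreducible h) (h0 : h.coeff 0 ≠ 0) (μ : K) :
    ∃ (d : ℕ) (A : Matrix (Fin d) (Fin d) K) (P : K[X]), A.charpoly = h ∧
      (∃ N : ℕ, (N : K) ≠ 0 ∧ A ^ N = 1) ∧ (aeval A P).det = μ := by
  classical
  have : Fact (Irreducible h) := ⟨hirr⟩
  have : Module.Finite K (AdjoinRoot h) := (AdjoinRoot.powerBasis hirr.ne_zero).finite
  have : Finite (AdjoinRoot h) := Module.finite_of_finite K
  let _ : Fintype (AdjoinRoot h) := Fintype.ofFinite _
  have : CharP (AdjoinRoot h) p :=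
    charP_of_injective_algebraMap (algebraMap K (AdjoinRoot h)).injective p
  obtain ⟨ζ, hζ⟩ : ∃ ζ : AdjoinRoot h, ζ = AdjoinRoot.root h := ⟨_, rfl⟩
  have hζ0 : aeval ζ h = 0 := by
    rw [hζ, AdjoinRoot.aeval_eq, AdjoinRoot.mk_self]
  have hζne : ζ ≠ 0 := by
    intro hz
    apply h0
    rw [coeff_zero_eq_eval_zero]
    have h1 : aeval (algebraMap K (AdjoinRoot h) 0) h = 0 := by
      rw [map_zero]
      rw [hz] at hζ0
      exact hζ0
    rw [aeval_algebraMap_apply_eq_algebraMap_eval] at h1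
    exact (map_eq_zero_iff _ (algebraMap K (AdjoinRoot h)).injective).1 h1
  let b := Module.finBasis K (AdjoinRoot h)
  obtain ⟨κ, hκ⟩ := FiniteField.norm_surjective K (AdjoinRoot h) μ
  obtain ⟨P, hP⟩ := AdjoinRoot.mk_surjective κ
  refine ⟨_, Algebra.leftMulMatrix b ζ, P, ?_, ?_, ?_⟩
  · have h1 : (Algebra.leftMulMatrix (AdjoinRoot.powerBasis hirr.ne_zero).basis ζ).charpoly =
        minpoly K ζ := by
      have := charpoly_leftMulMatrix (AdjoinRoot.powerBasis hirr.ne_zero)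
      rw [AdjoinRoot.powerBasis_gen, ← hζ] at this
      exact this
    rw [Algebra.leftMulMatrix_apply, LinearMap.charpoly_toMatrix] at h1
    rw [Algebra.leftMulMatrix_apply, LinearMap.charpoly_toMatrix, h1, hζ,
      AdjoinRoot.minpoly_root hirr.ne_zero, hm.leadingCoeff, inv_one, C_1, mul_one]
  · obtain ⟨k, -, hk⟩ := FiniteField.card (AdjoinRoot h) p
    refine ⟨Fintype.card (AdjoinRoot h) - 1, ?_, ?_⟩
    · intro hN
      have h1 : Fintype.card (AdjoinRoot h) - 1 + 1 = Fintype.card (AdjoinRoot h) :=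
        Nat.sub_add_cancel Fintype.card_pos
      have h2 : ((Fintype.card (AdjoinRoot h) - 1 + 1 : ℕ) : K) = 0 := by
        rw [h1, hk, Nat.cast_pow, CharP.cast_eq_zero, zero_pow k.ne_zero]
      rw [Nat.cast_add, hN, zero_add, Nat.cast_one] at h2
      exact one_ne_zero h2
    · rw [← map_pow, FiniteField.pow_card_sub_one_eq_one ζ hζne, map_one]
  · have h1 : aeval (Algebra.leftMulMatrix b ζ) P = Algebra.leftMulMatrix b (aeval ζ P) :=
      (Polynomial.aeval_algHom_apply (Algebra.leftMulMatrix b) ζ P)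
    rw [h1, hζ, AdjoinRoot.aeval_eq, hP, ← Algebra.norm_eq_matrix_det b κ, hκ]

/-- a unitary matrix with prescribed self-reciprocal characteristic polynomial, of order prime
to `p` -/
theorem exists_unitary_of_charpoly {p q : ℕ} [Fact p.Prime] [CharP K p]
    (hK : Fintype.card K = q ^ 2) (σ : K →+* K) (hσ : ∀ c, σ c = c ^ q) (n : ℕ) (f : K[X])
    (hm : f.Monic) (hdeg : f.natDegree = n) (h0 : f.coeff 0 ≠ 0)
    (hstar : StarPoly.star σ f = f) :
    ∃ g : Matrix (Fin n) (Fin n) K, IsUni K q n g ∧ g.charpoly = f ∧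
      ∃ N : ℕ, (N : K) ≠ 0 ∧ g ^ N = 1 := by
  classical
  obtain ⟨A, hA, N, hN, hAN⟩ := exists_matrix_of_charpoly n f hm hdeg h0
  have hN0 : N ≠ 0 := by
    intro hz
    rw [hz, Nat.cast_zero] at hN
    exact hN rfl
  obtain ⟨N', hN'⟩ : ∃ N', N = N' + 1 := ⟨N - 1, by omega⟩
  obtain ⟨gA, hgA⟩ : ∃ gA : GL (Fin n) K, (gA : Matrix (Fin n) (Fin n) K) = A :=
    ⟨⟨A, A ^ N', by rw [← pow_succ', ← hN', hAN], by rw [← pow_succ, ← hN', hAN]⟩, rfl⟩
  have hAu : IsUnit A := by rw [← hgA]; exact gA.isUnit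
  have hcs := S2671.charpoly_star σ A hAu
  rw [hA, hstar] at hcs
  have hAstar : (((A.map σ).transpose)⁻¹) ^ N = 1 := by
    have h1 : (A.map σ) ^ N = 1 := by
      have : A.map σ = σ.mapMatrix A := rfl
      rw [this, ← map_pow, hAN, map_one]
    rw [Matrix.inv_pow', ← Matrix.transpose_pow, h1, Matrix.transpose_one, inv_one]
  obtain ⟨c, hc⟩ := matrix_conj n A _ N hN hAN hAstar (by rw [hA, hcs])
  have hmap : A.map (fun x : K => x ^ q) = A.map σ := by
    ext i j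
    rw [Matrix.map_apply, Matrix.map_apply, hσ]
  have hconj : IsConj ((gA : GL (Fin n) K) : Matrix (Fin n) (Fin n) K)
      ((((gA : Matrix (Fin n) (Fin n) K)).map (fun x : K => x ^ q)).transpose)⁻¹ := by
    rw [hgA, hmap]
    exact ⟨c, hc⟩
  obtain ⟨B, hB⟩ := (S2588.main hK gA).2 hconj
  obtain ⟨u, hu⟩ := isConj_iff.1 hB
  refine ⟨((B : GL (Fin n) K) : Matrix (Fin n) (Fin n) K), (mem_GU_iff B.1).1 B.2, ?_, N, hN, ?_⟩
  · rw [← hu, Units.val_mul, Units.val_mul, Matrix.coe_units_inv, Matrix.charpoly_units_conj,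
      hgA, hA]
  · rw [← Units.val_pow_eq_pow_val, ← hu, conj_pow, Units.val_mul, Units.val_mul,
      Units.val_pow_eq_pow_val, hgA, hAN, Matrix.mul_one, ← Units.val_mul, mul_inv_cancel,
      Units.val_one]

end model


section block

variable {K : Type*} [Field K]

lemma intertwine_aeval' {n : ℕ} (w A B : Matrix (Fin n) (Fin n) K) (h : w * A = B * w)
    (P : K[X]) : w * aeval A P = aeval B P * w := by
  have hpow : ∀ k : ℕ, w * A ^ k = B ^ k * w := by
    intro k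
    induction k with
    | zero => rw [pow_zero, pow_zero, Matrix.mul_one, Matrix.one_mul]
    | succ k ih => rw [pow_succ, ← Matrix.mul_assoc, ih, Matrix.mul_assoc, h, ← Matrix.mul_assoc,
        ← pow_succ]
  induction P using Polynomial.induction_on' with
  | add p q hp hq => rw [map_add, map_add, Matrix.mul_add, hp, hq, Matrix.add_mul]
  | monomial k c =>
    simp only [aeval_monomial, Algebra.algebraMap_eq_smul_one, smul_mul_assoc, one_mul,
      Matrix.mul_smul, hpow]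

variable [Fintype K]

open Cfsg.Agent.Lib.Helper15.SemisimpleCount Cfsg.Agent.Lib.Helper14

/-- Hilbert 90 for the quadratic extension `K / K₀` -/
lemma exists_hilbert90 {q : ℕ} (hK : Fintype.card K = q ^ 2) (σ : K →+* K)
    (hσ : ∀ c, σ c = c ^ q) (lam : K) (hlam : lam ^ q * lam = 1) :
    ∃ μ : K, μ ≠ 0 ∧ μ * (μ ^ q)⁻¹ = lam := by
  have hl0 : lam ≠ 0 := by
    intro h0
    rw [h0, mul_zero] at hlam
    exact zero_ne_one hlam
  by_cases h1 : lam = -1
  · obtain ⟨τ, hτ0, hτ⟩ := S2643.frob_S hK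
    refine ⟨τ, hτ0, ?_⟩
    rw [hτ, h1, inv_neg, mul_neg, mul_inv_cancel₀ hτ0]
  · have hμ0 : 1 + lam ≠ 0 := by
      intro h2
      apply h1
      exact eq_neg_of_add_eq_zero_right h2
    refine ⟨1 + lam, hμ0, ?_⟩
    have h3 : (1 + lam) ^ q = 1 + lam ^ q := by
      rw [← hσ, map_add, map_one, hσ]
    have h4 : lam ^ q = lam⁻¹ := eq_inv_of_mul_eq_one_left hlam
    rw [h3, h4]
    have h5 : 1 + lam⁻¹ ≠ 0 := by
      intro h6
      apply hμ0
      have : lam * (1 + lam⁻¹) = 0 := by rw [h6, mul_zero]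
      rw [mul_add, mul_one, mul_inv_cancel₀ hl0] at this
      rw [add_comm]
      exact this
    rw [mul_inv_eq_iff_eq_mul₀ h5, mul_add, mul_one, mul_inv_cancel₀ hl0, add_comm]

/-- a unitary block with multiplicity-free characteristic polynomial `h₁ * k₂` together with a
unitary element of its centraliser of prescribed determinant -/
theorem exists_block {p q : ℕ} [Fact p.Prime] [CharP K p] (hK : Fintype.card K = q ^ 2)
    (σ : K →+* K) (hσ : ∀ c, σ c = c ^ q) (h₁ k₂ : K[X]) (hm₁ : h₁.Monic)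
    (hirr : Irreducible h₁) (h0₁ : h₁.coeff 0 ≠ 0) (hm₂ : k₂.Monic) (h0₂ : k₂.coeff 0 ≠ 0)
    (hcop : IsCoprime h₁ k₂) (hstar : StarPoly.star σ (h₁ * k₂) = h₁ * k₂) (lam : K)
    (hlam : lam ^ q * lam = 1) :
    ∃ (d : ℕ) (g c : Matrix (Fin d) (Fin d) K), IsUni K q d g ∧ g.charpoly = h₁ * k₂ ∧
      (∃ N : ℕ, (N : K) ≠ 0 ∧ g ^ N = 1) ∧ IsUni K q d c ∧ c * g = g * c ∧ c.det = lam := by
  classical
  let _ : StarRing K := S2643.frobStar hK
  have key : ∀ (m : ℕ) (M : Matrix (Fin m) (Fin m) K), IsUni K q m M ↔ Mᴴ * M = 1 :=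
    fun m M => S2643.isUni_iff hK M
  obtain ⟨μ, hμ0, hμ⟩ := exists_hilbert90 hK σ hσ lam hlam
  obtain ⟨d₁, A₁, P₁, hA₁, ⟨N₁, hN₁, hA₁N⟩, hdet₁⟩ := exists_field_model p h₁ hm₁ hirr h0₁ μ
  obtain ⟨A₂, hA₂, N₂, hN₂, hA₂N⟩ := exists_matrix_of_charpoly k₂.natDegree k₂ hm₂ rfl h0₂
  obtain ⟨a, b, hab⟩ := hcop
  obtain ⟨P, hP⟩ : ∃ P : K[X], P = P₁ * (b * k₂) + a * h₁ := ⟨_, rfl⟩
  have hA₁h : aeval A₁ h₁ = 0 := by
    have := Matrix.aeval_self_charpoly A₁
    rw [hA₁] at this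
    exact this
  have hA₂k : aeval A₂ k₂ = 0 := by
    have := Matrix.aeval_self_charpoly A₂
    rw [hA₂] at this
    exact this
  have hP₁ : aeval A₁ P = aeval A₁ P₁ := by
    have h1 : b * k₂ = 1 - a * h₁ := by rw [← hab]; ring
    rw [hP, h1]
    simp only [map_add, map_mul, map_sub, map_one, hA₁h, mul_zero, sub_zero, mul_one, add_zero]
  have hP₂ : aeval A₂ P = 1 := by
    have h1 : a * h₁ = 1 - b * k₂ := by rw [← hab]; ring
    rw [hP, h1]
    simp only [map_add, map_mul, map_sub, map_one, hA₂k, mul_zero, sub_zero, zero_add]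
  obtain ⟨A, hAdef⟩ : ∃ A, A = UnitaryType.bd A₁ A₂ := ⟨_, rfl⟩
  have hAcp : A.charpoly = h₁ * k₂ := by rw [hAdef, bd_charpoly, hA₁, hA₂]
  have hAN : A ^ (N₁ * N₂) = 1 := by
    rw [hAdef, UnitaryType.bd_pow, pow_mul, hA₁N, one_pow, mul_comm, pow_mul, hA₂N, one_pow,
      UnitaryType.bd_one]
  have hAP : (aeval A P).det = μ := by
    rw [hAdef, bd_aeval, bd_det, hP₁, hP₂, hdet₁, Matrix.det_one, mul_one]
  have hdeg : (h₁ * k₂).natDegree = d₁ + k₂.natDegree := by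
    rw [← hAcp, Matrix.charpoly_natDegree_eq_dim, Fintype.card_fin]
  have h0 : (h₁ * k₂).coeff 0 ≠ 0 := by
    rw [mul_coeff_zero]
    exact mul_ne_zero h0₁ h0₂
  obtain ⟨B, hBu, hBcp, N', hN', hBN'⟩ := exists_unitary_of_charpoly hK σ hσ _ (h₁ * k₂)
    (hm₁.mul hm₂) hdeg h0 hstar
  have hMK : ((N₁ * N₂ * N' : ℕ) : K) ≠ 0 := by
    rw [Nat.cast_mul, Nat.cast_mul]
    exact mul_ne_zero (mul_ne_zero hN₁ hN₂) hN'
  have hAM : A ^ (N₁ * N₂ * N') = 1 := by rw [pow_mul, hAN, one_pow]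
  have hBM : B ^ (N₁ * N₂ * N') = 1 := by rw [mul_comm, pow_mul, hBN', one_pow]
  obtain ⟨w, hw⟩ := matrix_conj _ A B (N₁ * N₂ * N') hMK hAM hBM (by rw [hAcp, hBcp])
  have hM0 : N₁ * N₂ * N' ≠ 0 := by
    intro hz
    rw [hz, Nat.cast_zero] at hMK
    exact hMK rfl
  obtain ⟨M', hM'⟩ : ∃ M', N₁ * N₂ * N' = M' + 1 := ⟨N₁ * N₂ * N' - 1, by omega⟩
  have hBP : (aeval B P).det = μ := by
    have h1 := intertwine_aeval' w.val A B hw P
    have h2 := congrArg Matrix.det h1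
    rw [Matrix.det_mul, Matrix.det_mul, hAP, mul_comm] at h2
    have hwdet : w.val.det ≠ 0 := by
      have := (Matrix.isUnit_iff_isUnit_det _).1 w.isUnit
      exact this.ne_zero
    exact (mul_right_cancel₀ hwdet h2).symm
  have hBH : Bᴴ * B = 1 := (key _ B).1 hBu
  rw [hM'] at hBM
  obtain ⟨x, hx1, hx2, hx3⟩ := unitary_of_poly B hBH M' hBM P (by rw [hBP]; exact hμ0)
  refine ⟨_, B, x, hBu, hBcp, ⟨N₁ * N₂ * N', hMK, by rw [hM']; exact hBM⟩, (key _ x).2 hx1,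
    hx2, ?_⟩
  rw [hx3, hBP]
  exact hμ

end block


section cent

variable {K : Type*} [Field K] [Fintype K]

open Cfsg.Agent.Lib.Helper15.SemisimpleCount Cfsg.Agent.Lib.Helper14

omit [Fintype K] in
lemma coeff_zero_ne_zero_of_star' (σ : K →+* K) {f : K[X]} (hf : f ≠ 0)
    (hstar : StarPoly.star σ f = f) : f.coeff 0 ≠ 0 := by
  intro hc
  have : StarPoly.star σ f = 0 := by
    unfold StarPoly.star
    rw [coeff_map, hc, map_zero, _root_.inv_zero, C_0, zero_mul]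
  rw [hstar] at this
  exact hf this

/-- the characteristic polynomial of a unitary matrix is self-reciprocal (twisted) -/
lemma charpoly_unitary {q : ℕ} (hK : Fintype.card K = q ^ 2) (σ : K →+* K)
    (hσ : ∀ c, σ c = c ^ q) {n : ℕ} (G : Matrix (Fin n) (Fin n) K) (hG : IsUni K q n G) :
    StarPoly.star σ G.charpoly = G.charpoly := by
  classical
  let _ : StarRing K := S2643.frobStar hK
  have hGH : Gᴴ * G = 1 := (S2643.isUni_iff hK G).1 hG
  have hGu : IsUnit G := ⟨⟨G, Gᴴ, mul_eq_one_comm.1 hGH, hGH⟩, rfl⟩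
  have h1 : (G.map σ).transpose = Gᴴ := by
    ext i j
    rw [Matrix.transpose_apply, Matrix.map_apply, Matrix.conjTranspose_apply, hσ]
    rfl
  have h2 : ((G.map σ).transpose)⁻¹ = G := by
    rw [h1]
    exact Matrix.inv_eq_right_inv hGH
  have h3 := S2671.charpoly_star σ G hGu
  rw [h2] at h3
  exact h3.symm

/-- the determinant is surjective from the unitary centraliser of a semisimple unitary matrix
onto the norm-one group -/
theorem exists_cent_det {p q : ℕ} [Fact p.Prime] [CharP K p] (hK : Fintype.card K = q ^ 2)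
    (σ : K →+* K) (hσ : ∀ c, σ c = c ^ q) (n : ℕ) (hn : 0 < n)
    (G : Matrix (Fin n) (Fin n) K) (hG : IsUni K q n G) (N : ℕ) (hN : (N : K) ≠ 0)
    (hGN : G ^ N = 1) (lam : K) (hlam : lam ^ q * lam = 1) :
    ∃ c : Matrix (Fin n) (Fin n) K, IsUni K q n c ∧ c * G = G * c ∧ c.det = lam := by
  classical
  have hσσ : ∀ c, σ (σ c) = c := by
    intro c
    rw [hσ, hσ, ← pow_mul, ← sq, ← hK, FiniteField.pow_card]
  obtain ⟨f, hf⟩ : ∃ f, f = G.charpoly := ⟨_, rfl⟩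
  have hfm : f.Monic := by rw [hf]; exact Matrix.charpoly_monic G
  have hfdeg : f.natDegree = n := by
    rw [hf, Matrix.charpoly_natDegree_eq_dim, Fintype.card_fin]
  have hfs : StarPoly.star σ f = f := by rw [hf]; exact charpoly_unitary hK σ hσ G hG
  have hfc0 : f.coeff 0 ≠ 0 := coeff_zero_ne_zero_of_star' σ hfm.ne_zero hfs
  have hnu : ¬ IsUnit f := by
    intro hu
    have := natDegree_eq_zero_of_isUnit hu
    omega
  obtain ⟨h₀, hh₀irr, hh₀dvd⟩ := WfDvdMonoid.exists_irreducible_factor hnu hfm.ne_zero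
  have hu : IsUnit (C (h₀.leadingCoeff)⁻¹) := by
    rw [isUnit_C]
    exact (inv_ne_zero (leadingCoeff_ne_zero.2 hh₀irr.ne_zero)).isUnit
  obtain ⟨h₁, hh⟩ : ∃ h : K[X], h = h₀ * C (h₀.leadingCoeff)⁻¹ := ⟨_, rfl⟩
  have hm₁ : h₁.Monic := by rw [hh]; exact monic_mul_leadingCoeff_inv hh₀irr.ne_zero
  have hirr : Irreducible h₁ := by rw [hh]; exact (irreducible_mul_isUnit hu).2 hh₀irr
  have hdvd : h₁ ∣ f := by rw [hh]; exact (IsUnit.mul_right_dvd hu).2 hh₀dvd
  have hhc0 : h₁.coeff 0 ≠ 0 := by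
    obtain ⟨g, hg⟩ := hdvd
    intro hz
    apply hfc0
    rw [hg, mul_coeff_zero, hz, zero_mul]
  -- the multiplicity-free self-reciprocal block `k = h₁ * k₂`
  obtain ⟨k₂, hm₂, h0₂, hcop, hks, hkdvd⟩ : ∃ k₂ : K[X], k₂.Monic ∧ k₂.coeff 0 ≠ 0 ∧
      IsCoprime h₁ k₂ ∧ StarPoly.star σ (h₁ * k₂) = h₁ * k₂ ∧ h₁ * k₂ ∣ f := by
    by_cases hs : StarPoly.star σ h₁ = h₁
    · refine ⟨1, monic_one, ?_, isCoprime_one_right, ?_, ?_⟩
      · rw [coeff_one_zero]; exact one_ne_zero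
      · rw [mul_one]; exact hs
      · rw [mul_one]; exact hdvd
    · have hsm : (StarPoly.star σ h₁).Monic := StarPoly.monic_star _ h₁ hhc0
      have hsirr : Irreducible (StarPoly.star σ h₁) :=
        StarPoly.irreducible_star _ hσσ h₁ hm₁ hhc0 hirr
      have hsdvd : StarPoly.star σ h₁ ∣ f := by
        have := map_dvd (StarPoly.starHom σ) hdvd
        have h2 : StarPoly.starHom σ f = f := hfs
        rw [h2] at this
        exact this
      have hcop : IsCoprime h₁ (StarPoly.star σ h₁) := by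
        rw [hirr.coprime_iff_not_dvd]
        intro h1
        apply hs
        exact (eq_of_monic_of_associated hm₁ hsm (hirr.associated_of_dvd hsirr h1)).symm
      refine ⟨StarPoly.star σ h₁, hsm, StarPoly.coeff_zero_star_ne_zero σ h₁ hhc0, hcop, ?_,
        hcop.mul_dvd hdvd hsdvd⟩
      rw [StarPoly.star_mul, StarPoly.star_star _ hσσ h₁ hm₁ hhc0, mul_comm]
  obtain ⟨f₂, hf₂⟩ := hkdvd
  have hkm : (h₁ * k₂).Monic := hm₁.mul hm₂
  have hf₂m : f₂.Monic := hkm.of_mul_monic_left (hf₂ ▸ hfm)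
  have hf₂s : StarPoly.star σ f₂ = f₂ := by
    have h1 := hfs
    rw [hf₂, StarPoly.star_mul, hks] at h1
    exact mul_left_cancel₀ hkm.ne_zero h1
  have hf₂c0 : f₂.coeff 0 ≠ 0 := coeff_zero_ne_zero_of_star' σ hf₂m.ne_zero hf₂s
  obtain ⟨d, g₁, c₁, hg₁u, hg₁cp, ⟨N₁, hN₁, hg₁N⟩, hc₁u, hc₁g, hc₁det⟩ :=
    exists_block hK σ hσ h₁ k₂ hm₁ hirr hhc0 hm₂ h0₂ hcop hks lam hlam
  obtain ⟨e, he⟩ : ∃ e, f₂.natDegree = e := ⟨_, rfl⟩
  obtain ⟨g₂, hg₂u, hg₂cp, N₂, hN₂, hg₂N⟩ :=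
    exists_unitary_of_charpoly hK σ hσ e f₂ hf₂m he hf₂c0 hf₂s
  have hdk : (h₁ * k₂).natDegree = d := by
    rw [← hg₁cp, Matrix.charpoly_natDegree_eq_dim, Fintype.card_fin]
  have hnde : n = d + e := by
    rw [← hfdeg, hf₂, hkm.natDegree_mul hf₂m, hdk, he]
  subst hnde
  let _ : StarRing K := S2643.frobStar hK
  have key : ∀ (m : ℕ) (M : Matrix (Fin m) (Fin m) K), IsUni K q m M ↔ Mᴴ * M = 1 :=
    fun m M => S2643.isUni_iff hK M
  obtain ⟨g₀, hg₀⟩ : ∃ g₀, g₀ = UnitaryType.bd g₁ g₂ := ⟨_, rfl⟩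
  obtain ⟨c₀, hc₀⟩ : ∃ c₀, c₀ = UnitaryType.bd c₁ (1 : Matrix (Fin e) (Fin e) K) := ⟨_, rfl⟩
  have hg₀u : g₀ᴴ * g₀ = 1 := by
    rw [hg₀, UnitaryType.bd_conjTranspose, UnitaryType.bd_mul, (key _ g₁).1 hg₁u,
      (key _ g₂).1 hg₂u, UnitaryType.bd_one]
  have hc₀u : c₀ᴴ * c₀ = 1 := by
    rw [hc₀, UnitaryType.bd_conjTranspose, UnitaryType.bd_mul, (key _ c₁).1 hc₁u,
      Matrix.conjTranspose_one, Matrix.one_mul, UnitaryType.bd_one]
  have hc₀g : c₀ * g₀ = g₀ * c₀ := by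
    rw [hc₀, hg₀, UnitaryType.bd_mul, UnitaryType.bd_mul, hc₁g, Matrix.one_mul, Matrix.mul_one]
  have hc₀det : c₀.det = lam := by
    rw [hc₀, bd_det, hc₁det, Matrix.det_one, mul_one]
  have hg₀cp : g₀.charpoly = G.charpoly := by
    rw [hg₀, bd_charpoly, hg₁cp, hg₂cp, ← hf, hf₂]
  have hMK : ((N * (N₁ * N₂) : ℕ) : K) ≠ 0 := by
    rw [Nat.cast_mul, Nat.cast_mul]
    exact mul_ne_zero hN (mul_ne_zero hN₁ hN₂)
  have hGM : G ^ (N * (N₁ * N₂)) = 1 := by rw [pow_mul, hGN, one_pow]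
  have hg₀M : g₀ ^ (N * (N₁ * N₂)) = 1 := by
    rw [mul_comm, pow_mul, hg₀, UnitaryType.bd_pow, pow_mul, hg₁N, one_pow, mul_comm N₁ N₂,
      pow_mul, hg₂N, one_pow, UnitaryType.bd_one, one_pow]
  obtain ⟨w, hw⟩ := matrix_conj _ G g₀ _ hMK hGM hg₀M hg₀cp.symm
  obtain ⟨τ, hτ⟩ := S2643.exists_not_fixed hK
  have hτ' : τ - star τ ≠ 0 := sub_ne_zero.2 (Ne.symm hτ)
  have hGu : Gᴴ * G = 1 := (key _ G).1 hG
  obtain ⟨v, hvu, hvG⟩ := UnitaryConj.unitary_conj_of_conj τ hτ' G g₀ w.val hGu hg₀u w.isUnit hw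
  have hvu' : v * vᴴ = 1 := mul_eq_one_comm.1 hvu
  have hvHu : IsUni K q _ vᴴ := by
    rw [key, Matrix.conjTranspose_conjTranspose]
    exact hvu'
  refine ⟨vᴴ * c₀ * v, ?_, ?_, ?_⟩
  · exact (hvHu.mul ((key _ c₀).2 hc₀u)).mul ((key _ v).2 hvu)
  · have h1 : vᴴ * g₀ = G * vᴴ := by
      calc vᴴ * g₀ = vᴴ * g₀ * (v * vᴴ) := by rw [hvu', Matrix.mul_one]
        _ = vᴴ * (g₀ * v) * vᴴ := by simp only [Matrix.mul_assoc]
        _ = vᴴ * (v * G) * vᴴ := by rw [hvG]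
        _ = (vᴴ * v) * G * vᴴ := by simp only [Matrix.mul_assoc]
        _ = G * vᴴ := by rw [hvu, Matrix.one_mul]
    calc vᴴ * c₀ * v * G = vᴴ * c₀ * (v * G) := by rw [Matrix.mul_assoc]
      _ = vᴴ * c₀ * (g₀ * v) := by rw [hvG]
      _ = vᴴ * (c₀ * g₀) * v := by simp only [Matrix.mul_assoc]
      _ = vᴴ * (g₀ * c₀) * v := by rw [hc₀g]
      _ = (vᴴ * g₀) * c₀ * v := by simp only [Matrix.mul_assoc]
      _ = G * (vᴴ * c₀ * v) := by rw [h1]; simp only [Matrix.mul_assoc]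
  · rw [Matrix.det_mul, Matrix.det_mul, hc₀det, mul_comm, ← mul_assoc, ← Matrix.det_mul, hvu',
      Matrix.det_one, one_mul]

end cent

end Cfsg.Agent.Lib.Helper15.UnitaryCent
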