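import Mathlib
import Cfsg.Agent.Lib.Helper18.UDenseDefs

/-!
S5655 (SU_n C2), k = 1, dense case, leaf K1a (`dichotomyT`): the dichotomy of
`Cfsg.Agent.Lib.Helper15.MonoLeaf.dichotomy` with the full torus replaced by a subgroup `Θ` of the units,
`4 ≤ card Θ`.  Form-free.
-/

set_option autoImplicit false

namespace Cfsg.Agent.Lib.Helper15.UDenseLeaf
open Matrix Cfsg.Agent.Lib.Helper11.Mono Cfsg.Agent.Lib.Helper15.MonoLeaf Cfsg.Agent.Lib.Helper18.UDense

variable {F : Type*} [Field F] [Fintype F] {ι : Type} [Fintype ι] [DecidableEq ι]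

theorem dichotomyT (Θ : Subgroup Fˣ) (hΘ : 4 ≤ Nat.card Θ) (L : Subgroup (GL ι F)) (hT : HasTorus Θ L)
    (hW : WorldW L) (B : GL ι F) (hB : B ∈ L) (hnm : ¬ IsMono (B : Matrix ι ι F))
    (j c c' : ι) (hcc : c ≠ c') (h1 : (B : Matrix ι ι F) c j = 0) (h2 : (B : Matrix ι ι F) c' j = 0)
    (m : ι) (hm : (B : Matrix ι ι F) c m ≠ 0) :
    Nat.card Θ = 4 ∧ ∀ a, a ≠ c → a ≠ c' → (B : Matrix ι ι F) a m = 0 := by
  classical
  have : Fintype ↥Θ := Fintype.ofFinite _
  -- the torus elements permute the frame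
  have hperm : ∀ ε : ↥Θ, ∃ k' : ι, ∃ l : F, ∀ i,
      ((tcc c c' (ε : Fˣ) i : Fˣ) : F) * (B : Matrix ι ι F) i m = l * (B : Matrix ι ι F) i k' := by
    intro ε
    have hmem : dg (tcc c c' (ε : Fˣ)) ∈ L := hT c c' hcc (ε : Fˣ) ε.2
    have hfix : ((dg (tcc c c' (ε : Fˣ)) : GL ι F) : Matrix ι ι F) *ᵥ Matrix.col (B : Matrix ι ι F) j =
        (1 : F) • Matrix.col (B : Matrix ι ι F) j := by
      rw [dg_mulVec, one_smul]
      ext i
      by_cases hic : i = c
      · subst hic
        simp [h1]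
      · by_cases hic' : i = c'
        · subst hic'
          simp [h2]
        · simp [tcc_off hic hic']
    obtain ⟨k', l, hk⟩ := perm_frame L hW B _ hB hmem j 1 hfix m
    rw [dg_mulVec] at hk
    refine ⟨k', l, fun i => ?_⟩
    have := congrFun hk i
    simpa using this
  choose k lam hk using hperm
  have hkc : ∀ ε : ↥Θ, ((ε : Fˣ) : F) * ((B : Matrix ι ι F) c m) = lam ε * (B : Matrix ι ι F) c (k ε) := by
    intro ε
    have := hk ε c
    rwa [tcc_same] at this
  have hkc' : ∀ ε : ↥Θ, ((((ε : Fˣ))⁻¹ : Fˣ) : F) * ((B : Matrix ι ι F) c' m) =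
      lam ε * (B : Matrix ι ι F) c' (k ε) := by
    intro ε
    have := hk ε c'
    rwa [tcc_other hcc] at this
  have hka : ∀ (ε : ↥Θ) (a : ι), a ≠ c → a ≠ c' →
      (B : Matrix ι ι F) a m = lam ε * (B : Matrix ι ι F) a (k ε) := by
    intro ε a hac hac'
    have := hk ε a
    rwa [tcc_off hac hac', Units.val_one, one_mul] at this
  have hlam : ∀ ε : ↥Θ, lam ε ≠ 0 := by
    intro ε h0
    have := hkc ε
    rw [h0, zero_mul] at this
    exact (mul_ne_zero (ε : Fˣ).ne_zero hm) this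
  -- first coordinate relation on a fibre
  have hfib : ∀ ε₁ ε₂ : ↥Θ, k ε₁ = k ε₂ →
      ((ε₁ : Fˣ) : F) * lam ε₂ = ((ε₂ : Fˣ) : F) * lam ε₁ := by
    intro ε₁ ε₂ h12
    have e1 := hkc ε₁
    have e2 := hkc ε₂
    rw [h12] at e1
    have : ((((ε₁ : Fˣ)) : F) * lam ε₂) * ((B : Matrix ι ι F) c m) =
        ((((ε₂ : Fˣ)) : F) * lam ε₁) * ((B : Matrix ι ι F) c m) := by
      calc ((((ε₁ : Fˣ)) : F) * lam ε₂) * ((B : Matrix ι ι F) c m)
          = lam ε₂ * ((((ε₁ : Fˣ)) : F) * ((B : Matrix ι ι F) c m)) := by ring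
        _ = lam ε₂ * (lam ε₁ * (B : Matrix ι ι F) c (k ε₂)) := by rw [e1]
        _ = lam ε₁ * (lam ε₂ * (B : Matrix ι ι F) c (k ε₂)) := by ring
        _ = lam ε₁ * ((((ε₂ : Fˣ)) : F) * ((B : Matrix ι ι F) c m)) := by rw [e2]
        _ = ((((ε₂ : Fˣ)) : F) * lam ε₁) * ((B : Matrix ι ι F) c m) := by ring
    exact mul_right_cancel₀ hm this
  -- columns in the image of `k` are scalar multiples of the twisted column
  have hcol : ∀ ε : ↥Θ, Matrix.col (B : Matrix ι ι F) (k ε) =
      (lam ε)⁻¹ • (fun i => ((tcc c c' (ε : Fˣ) i : Fˣ) : F) * (B : Matrix ι ι F) i m) := by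
    intro ε
    ext i
    rw [Pi.smul_apply, smul_eq_mul, hk ε i, ← mul_assoc, inv_mul_cancel₀ (hlam ε), one_mul]
    rfl
  have hcardΘ : Nat.card Θ = (Finset.univ : Finset ↥Θ).card := by
    rw [Finset.card_univ, Nat.card_eq_fintype_card]
  by_cases hA : ∃ a, a ≠ c ∧ a ≠ c' ∧ (B : Matrix ι ι F) a m ≠ 0
  · -- case A: `k` is injective and its image lies in a space spanned by three vectors
    exfalso
    obtain ⟨a, hac, hac', ham⟩ := hA
    have hinj : Function.Injective k := by
      intro ε₁ ε₂ h12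
      have f1 := hka ε₁ a hac hac'
      have f2 := hka ε₂ a hac hac'
      rw [h12] at f1
      have hy : (B : Matrix ι ι F) a (k ε₂) ≠ 0 := by
        intro h0
        rw [h0, mul_zero] at f2
        exact ham f2
      have hl : lam ε₁ = lam ε₂ := mul_right_cancel₀ hy (f1.symm.trans f2)
      have := hfib ε₁ ε₂ h12
      rw [hl] at this
      exact Subtype.ext (Units.ext (mul_right_cancel₀ (hlam ε₂) this))
    have hspan : ∀ ε : ↥Θ, Matrix.col (B : Matrix ι ι F) (k ε) ∈ Submodule.span F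
        (({Matrix.col (B : Matrix ι ι F) m, Pi.single c (1 : F), Pi.single c' (1 : F)} :
          Finset (ι → F)) : Set (ι → F)) := by
      intro ε
      rw [hcol ε]
      apply Submodule.smul_mem
      have hdec : (fun i => ((tcc c c' (ε : Fˣ) i : Fˣ) : F) * (B : Matrix ι ι F) i m) =
          Matrix.col (B : Matrix ι ι F) m +
            (((((ε : Fˣ)) : F) - 1) * ((B : Matrix ι ι F) c m)) • (Pi.single c (1 : F) : ι → F) +
            ((((((ε : Fˣ))⁻¹ : Fˣ) : F) - 1) * ((B : Matrix ι ι F) c' m)) •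
              (Pi.single c' (1 : F) : ι → F) := by
        ext i
        by_cases hic : i = c
        · subst hic
          simp [tcc_same, hcc]
          ring
        · by_cases hic' : i = c'
          · subst hic'
            simp [tcc_other hcc, hic]
            ring
          · simp [tcc_off hic hic', hic, hic']
      rw [hdec]
      refine Submodule.add_mem _ (Submodule.add_mem _ ?_ ?_) ?_
      · exact Submodule.subset_span (by simp)
      · exact Submodule.smul_mem _ _ (Submodule.subset_span (by simp))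
      · exact Submodule.smul_mem _ _ (Submodule.subset_span (by simp))
    have hcard := card_image_le_of_span B k _ hspan
    rw [Finset.card_image_of_injective _ hinj] at hcard
    have h3 := Finset.card_le_three (a := Matrix.col (B : Matrix ι ι F) m)
      (b := (Pi.single c (1 : F) : ι → F)) (c := (Pi.single c' (1 : F) : ι → F))
    omega
  · -- case B: column `m` is supported on `{c, c'}`
    push Not at hA
    refine ⟨?_, hA⟩
    have hb0 : ((B : Matrix ι ι F) c' m) ≠ 0 := by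
      intro h0
      apply hnm
      apply hW B hB
      refine ⟨m, c, fun x hx => ?_⟩
      by_cases hx' : x = c'
      · subst hx'
        exact h0
      · exact hA x hx hx'
    have hsq : ∀ ε₁ ε₂ : ↥Θ, k ε₁ = k ε₂ → (ε₁ : Fˣ) = (ε₂ : Fˣ) ∨ (ε₁ : Fˣ) = -(ε₂ : Fˣ) := by
      intro ε₁ ε₂ h12
      have r1 := hfib ε₁ ε₂ h12
      have g1 := hkc' ε₁
      have g2 := hkc' ε₂
      rw [h12] at g1
      have r2 : (((((ε₁ : Fˣ))⁻¹ : Fˣ)) : F) * lam ε₂ = (((((ε₂ : Fˣ))⁻¹ : Fˣ)) : F) * lam ε₁ := by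
        have : ((((((ε₁ : Fˣ))⁻¹ : Fˣ)) : F) * lam ε₂) * ((B : Matrix ι ι F) c' m) =
            ((((((ε₂ : Fˣ))⁻¹ : Fˣ)) : F) * lam ε₁) * ((B : Matrix ι ι F) c' m) := by
          calc ((((((ε₁ : Fˣ))⁻¹ : Fˣ)) : F) * lam ε₂) * ((B : Matrix ι ι F) c' m)
              = lam ε₂ * ((((((ε₁ : Fˣ))⁻¹ : Fˣ)) : F) * ((B : Matrix ι ι F) c' m)) := by ring
            _ = lam ε₂ * (lam ε₁ * (B : Matrix ι ι F) c' (k ε₂)) := by rw [g1]
            _ = lam ε₁ * (lam ε₂ * (B : Matrix ι ι F) c' (k ε₂)) := by ring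
            _ = lam ε₁ * ((((((ε₂ : Fˣ))⁻¹ : Fˣ)) : F) * ((B : Matrix ι ι F) c' m)) := by rw [g2]
            _ = ((((((ε₂ : Fˣ))⁻¹ : Fˣ)) : F) * lam ε₁) * ((B : Matrix ι ι F) c' m) := by ring
        exact mul_right_cancel₀ hb0 this
      have h1ne := (ε₁ : Fˣ).ne_zero
      have h2ne := (ε₂ : Fˣ).ne_zero
      have hl1 := hlam ε₁
      have hl2 := hlam ε₂
      rw [Units.val_inv_eq_inv_val, Units.val_inv_eq_inv_val] at r2
      have r2' : (((ε₂ : Fˣ)) : F) * lam ε₂ = (((ε₁ : Fˣ)) : F) * lam ε₁ := by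
        calc (((ε₂ : Fˣ)) : F) * lam ε₂
            = (((((ε₁ : Fˣ)) : F))⁻¹ * lam ε₂) * ((((ε₁ : Fˣ)) : F) * (((ε₂ : Fˣ)) : F)) := by field_simp
          _ = (((((ε₂ : Fˣ)) : F))⁻¹ * lam ε₁) * ((((ε₁ : Fˣ)) : F) * (((ε₂ : Fˣ)) : F)) := by rw [r2]
          _ = (((ε₁ : Fˣ)) : F) * lam ε₁ := by field_simp
      have hsq' : (((ε₁ : Fˣ)) : F) * (((ε₁ : Fˣ)) : F) = (((ε₂ : Fˣ)) : F) * (((ε₂ : Fˣ)) : F) := by
        have e3 : (((ε₁ : Fˣ)) : F) * (((ε₁ : Fˣ)) : F) * lam ε₂ =
            (((ε₂ : Fˣ)) : F) * (((ε₂ : Fˣ)) : F) * lam ε₂ := by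
          linear_combination (((ε₁ : Fˣ)) : F) * r1 - (((ε₂ : Fˣ)) : F) * r2'
        exact mul_right_cancel₀ hl2 e3
      have hfac : ((((ε₁ : Fˣ)) : F) - (((ε₂ : Fˣ)) : F)) * ((((ε₁ : Fˣ)) : F) + (((ε₂ : Fˣ)) : F)) = 0 := by
        linear_combination hsq'
      rcases mul_eq_zero.mp hfac with h | h
      · left
        exact Units.ext (sub_eq_zero.mp h)
      · right
        apply Units.ext
        rw [Units.val_neg]
        exact eq_neg_of_add_eq_zero_left h
    have hspan : ∀ ε : ↥Θ, Matrix.col (B : Matrix ι ι F) (k ε) ∈ Submodule.span F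
        (({Pi.single c (1 : F), Pi.single c' (1 : F)} : Finset (ι → F)) : Set (ι → F)) := by
      intro ε
      rw [hcol ε]
      apply Submodule.smul_mem
      have hdec : (fun i => ((tcc c c' (ε : Fˣ) i : Fˣ) : F) * (B : Matrix ι ι F) i m) =
          ((((ε : Fˣ)) : F) * ((B : Matrix ι ι F) c m)) • (Pi.single c (1 : F) : ι → F) +
            ((((((ε : Fˣ))⁻¹ : Fˣ)) : F) * ((B : Matrix ι ι F) c' m)) •
              (Pi.single c' (1 : F) : ι → F) := by
        ext i
        by_cases hic : i = c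
        · rw [hic]
          simp [tcc_same, hcc]
        · by_cases hic' : i = c'
          · rw [hic']
            simp [tcc_other hcc, hcc.symm]
          · simp [tcc_off hic hic', hic, hic', hA i hic hic']
      rw [hdec]
      refine Submodule.add_mem _ ?_ ?_
      · exact Submodule.smul_mem _ _ (Submodule.subset_span (by simp))
      · exact Submodule.smul_mem _ _ (Submodule.subset_span (by simp))
    have hcard := card_image_le_of_span B k _ hspan
    have h2 := Finset.card_le_two (a := (Pi.single c (1 : F) : ι → F))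
      (b := (Pi.single c' (1 : F) : ι → F))
    have hfibre : (Finset.univ : Finset ↥Θ).card ≤ 2 * (Finset.univ.image k).card := by
      apply Finset.card_le_mul_card_image
      intro b hb
      obtain ⟨ε₀, _, rfl⟩ := Finset.mem_image.mp hb
      calc (Finset.univ.filter fun x => k x = k ε₀).card
          ≤ ((Finset.univ.filter fun x : ↥Θ => (x : Fˣ) = (ε₀ : Fˣ) ∨ (x : Fˣ) = -(ε₀ : Fˣ))).card := by
            apply Finset.card_le_card
            intro x hx
            rw [Finset.mem_filter] at hx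
            rw [Finset.mem_filter]
            exact ⟨Finset.mem_univ _, hsq x ε₀ hx.2⟩
        _ ≤ (({(ε₀ : Fˣ), -(ε₀ : Fˣ)} : Finset Fˣ)).card := by
            apply Finset.card_le_card_of_injOn (fun x : ↥Θ => (x : Fˣ))
            · intro x hx
              have hx' := (Finset.mem_filter.mp (Finset.mem_coe.mp hx)).2
              rcases hx' with h | h
              · simp [h]
              · simp [h]
            · intro x _ y _ hxy
              exact Subtype.ext hxy
        _ ≤ 2 := Finset.card_le_two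
    omega

end Cfsg.Agent.Lib.Helper15.UDenseLeaf
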