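import Mathlib
import Cfsg.Agent.Lib.Helper18.UDenseDefs
import Cfsg.Agent.Lib.Helper15.UDenseK1a

/-!
S5655 (SU_n C2), k = 1, dense case, leaf K1 (`colDense_of_worldW`): world (W) gives property (D).
Assembly from `dichotomyT` exactly as `Cfsg.Agent.Lib.Helper11.Mono.dense_of_worldW`.  Form-free.
-/

set_option autoImplicit false

namespace Cfsg.Agent.Lib.Helper15.UDenseLeaf
open Matrix Cfsg.Agent.Lib.Helper11.Mono Cfsg.Agent.Lib.Helper15.MonoLeaf Cfsg.Agent.Lib.Helper18.UDense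

variable {F : Type*} [Field F] [Fintype F] {ι : Type} [Fintype ι] [DecidableEq ι]

omit [Fintype F] in
/-- a row of an invertible matrix is non-zero -/
lemma exists_row_ne_zero_k1 (B : GL ι F) (c : ι) : ∃ m, (B : Matrix ι ι F) c m ≠ 0 := by
  by_contra h
  push Not at h
  have h1 : ((B * B⁻¹ : GL ι F) : Matrix ι ι F) c c = 1 := by
    rw [mul_inv_cancel, Units.val_one, Matrix.one_apply_eq]
  rw [Units.val_mul, Matrix.mul_apply] at h1
  rw [Finset.sum_eq_zero (fun m _ => by rw [h m, zero_mul])] at h1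
  exact zero_ne_one h1

omit [Fintype F] in
/-- three distinct indices outside `{c, c'}` -/
lemma exists_three_ne_k1 (h5 : 5 ≤ Fintype.card ι) (c c' : ι) :
    ∃ c₁ c₂ c₃ : ι, c₁ ≠ c₂ ∧ c₁ ≠ c₃ ∧ c₂ ≠ c₃ ∧ c₁ ≠ c ∧ c₁ ≠ c' ∧ c₂ ≠ c ∧ c₂ ≠ c' ∧
      c₃ ≠ c ∧ c₃ ≠ c' := by
  classical
  have hcard : 2 < ((Finset.univ : Finset ι) \ {c, c'}).card := by
    have h1 := Finset.card_sdiff_add_card_inter (Finset.univ : Finset ι) {c, c'}
    have h2 : ((Finset.univ : Finset ι) ∩ {c, c'}).card ≤ 2 :=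
      le_trans (Finset.card_le_card Finset.inter_subset_right) Finset.card_le_two
    rw [Finset.card_univ] at h1
    omega
  obtain ⟨a, ha, b, hb, d, hd, hab, had, hbd⟩ := Finset.two_lt_card.mp hcard
  simp only [Finset.mem_sdiff, Finset.mem_univ, Finset.mem_insert, Finset.mem_singleton,
    true_and, not_or] at ha hb hd
  exact ⟨a, b, d, hab, had, hbd, ha.1, ha.2, hb.1, hb.2, hd.1, hd.2⟩

/-- K1: world (W) gives property (D). -/
theorem colDense_of_worldW (h5 : 5 ≤ Fintype.card ι) (Θ : Subgroup Fˣ) (hΘ : 4 ≤ Nat.card Θ)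
    (L : Subgroup (GL ι F)) (hT : HasTorus Θ L) (hW : WorldW L) : ColDense L := by
  intro B hB hnm j c c' hcc h1 h2
  obtain ⟨m, hm⟩ := exists_row_ne_zero_k1 B c
  obtain ⟨-, hsupp⟩ := dichotomyT Θ hΘ L hT hW B hB hnm j c c' hcc h1 h2 m hm
  obtain ⟨c₁, c₂, c₃, h12, h13, h23, h1c, h1c', h2c, h2c', h3c, h3c'⟩ := exists_three_ne_k1 h5 c c'
  obtain ⟨m', hm'⟩ := exists_row_ne_zero_k1 B c₁
  obtain ⟨-, hs2⟩ := dichotomyT Θ hΘ L hT hW B hB hnm m c₁ c₂ h12 (hsupp c₁ h1c h1c')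
    (hsupp c₂ h2c h2c') m' hm'
  obtain ⟨-, hs3⟩ := dichotomyT Θ hΘ L hT hW B hB hnm m c₁ c₃ h13 (hsupp c₁ h1c h1c')
    (hsupp c₃ h3c h3c') m' hm'
  apply hnm
  apply hW B hB
  refine ⟨m', c₁, fun k hk => ?_⟩
  by_cases hk2 : k = c₂
  · subst hk2
    exact hs3 k hk h23
  · exact hs2 k hk hk2

end Cfsg.Agent.Lib.Helper15.UDenseLeaf
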