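import Mathlib
import Cfsg.Prelude.Def_Classical
import Cfsg.Agent.Lib.Helper14.OrthPlus
import Cfsg.Agent.Lib.Helper25.MaxTSPlus
import Cfsg.Agent.S0750

set_option autoImplicit false

/-!
# Counting totally singular frames in the hyperbolic quadratic space
-/

namespace Cfsg.Agent.Lib.Helper15.PlusFrames

open Cfsg.Agent.Lib.Helper14 Cfsg.Agent.Lib.Helper25.MaxTS QuadraticMap

section general
variable {F : Type*} [Field F] [Fintype F] [DecidableEq F] {ι : Type*} [Fintype ι]
variable {Q : (ι → F) → F} {B : (ι → F) → (ι → F) → F} {k : ℕ}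

omit [DecidableEq F] [Fintype ι] in
/-- vectors orthogonal to the `e` half of a hyperbolic system with a prescribed value of `Q` -/
theorem card_perp_e (hQ : IsQF Q B) {e f : Fin k → (ι → F)} (h : HypQ Q B k e f) (c : F) :
    Nat.card {v : ι → F // (∀ i, B v (e i) = 0) ∧ Q v = c} =
      Nat.card {w : ι → F // PerpQ B e f w ∧ Q w = c} * Fintype.card F ^ k := by
  classical
  have key : ∀ v : ι → F, (∀ i, B v (e i) = 0) →
      Q (v - qcomb e f (qcoordA B f v) (qcoordB B e v)) = Q v := by
    intro v hv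
    have h1 := q_add_qcomb hQ h _ (perpQ_sub_qcomb hQ h v) (qcoordA B f v) (qcoordB B e v)
    rw [sub_add_cancel] at h1
    rw [h1]
    have : ∑ i, qcoordA B f v i * qcoordB B e v i = 0 := by
      apply Finset.sum_eq_zero
      intro i _
      simp only [qcoordB, hv i, mul_zero]
    rw [this, add_zero]
  have e1 : {v : ι → F // (∀ i, B v (e i) = 0) ∧ Q v = c} ≃
      {w : ι → F // PerpQ B e f w ∧ Q w = c} × (Fin k → F) :=
    { toFun := fun v => (⟨v.1 - qcomb e f (qcoordA B f v.1) (qcoordB B e v.1),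
          perpQ_sub_qcomb hQ h v.1, by rw [key v.1 v.2.1]; exact v.2.2⟩, qcoordA B f v.1)
      invFun := fun p => ⟨p.1.1 + qcomb e f p.2 0, by
          intro i
          rw [hQ.b_add, (p.1.2.1 i).1, zero_add, b_qcomb_e hQ h]
          rfl, by
          rw [q_add_qcomb hQ h _ p.1.2.1, p.1.2.2]
          simp⟩
      left_inv := fun v => by
        apply Subtype.ext
        have hb : qcoordB B e v.1 = 0 := by
          funext i
          exact v.2.1 i
        simp only [hb]
        simp
      right_inv := fun p => by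
        obtain ⟨⟨w, hw, hc⟩, a⟩ := p
        apply Prod.ext
        · apply Subtype.ext
          simp only [qcoordA_add_qcomb hQ h w hw, qcoordB_add_qcomb hQ h w hw, add_sub_cancel_right]
        · exact qcoordA_add_qcomb hQ h w hw a 0 }
  rw [Nat.card_congr e1, Nat.card_prod, Nat.card_eq_fintype_card (α := Fin k → F),
    Fintype.card_fun, Fintype.card_fin]

/-- fibrewise counting with constant fibre size -/
theorem card_pairs_const {α β : Type*} [Finite α] [Finite β] (P : α → Prop) (R : α → β → Prop)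
    (c : ℕ) (h : ∀ a, P a → Nat.card {b // R a b} = c) :
    Nat.card {p : β × α // P p.2 ∧ R p.2 p.1} = Nat.card {a // P a} * c := by
  classical
  have := Fintype.ofFinite α
  have e1 : {p : β × α // P p.2 ∧ R p.2 p.1} ≃ Σ a : {a // P a}, {b // R a.1 b} :=
    { toFun := fun p => ⟨⟨p.1.2, p.2.1⟩, ⟨p.1.1, p.2.2⟩⟩
      invFun := fun x => ⟨(x.2.1, x.1.1), x.1.2, x.2.2⟩
      left_inv := fun p => rfl
      right_inv := fun x => rfl }
  rw [Nat.card_congr e1, Nat.card_sigma]
  rw [Finset.sum_congr rfl (fun a _ => h a.1 a.2), Finset.sum_const, smul_eq_mul,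
    Finset.card_univ, Nat.card_eq_fintype_card]

/-- removing a subset -/
theorem card_and_not {α : Type*} [Finite α] (A S : α → Prop) (hSA : ∀ a, S a → A a) :
    Nat.card {a // A a ∧ ¬ S a} + Nat.card {a // S a} = Nat.card {a // A a} := by
  classical
  have := Fintype.ofFinite α
  simp only [Nat.card_eq_fintype_card, Fintype.card_subtype]
  have h1 : (Finset.univ.filter (fun a => S a)) = (Finset.univ.filter A).filter (fun a => S a) := by
    ext a
    simp only [Finset.mem_filter, Finset.mem_univ, true_and]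
    exact ⟨fun h => ⟨hSA a h, h⟩, fun h => h.2⟩
  have h2 : (Finset.univ.filter (fun a => A a ∧ ¬ S a)) =
      (Finset.univ.filter A).filter (fun a => ¬ S a) := by
    ext a
    simp only [Finset.mem_filter, Finset.mem_univ, true_and]
  rw [h1, h2, add_comm]
  exact Finset.card_filter_add_card_filter_not (s := Finset.univ.filter A) (fun a => S a)

end general

section plus
variable {F : Type*} [Field F] {m : ℕ}

/-- totally singular frames -/
def TSF (m : ℕ) (F : Type*) [Field F] (k : ℕ) (v : Fin k → (Fin m ⊕ Fin m → F)) : Prop :=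
  LinearIndependent F v ∧ (∀ i, Cfsg.quadFormPlus m F (v i) = 0) ∧
    ∀ i j, plusPolar m F (v i) (v j) = 0

theorem plusPolar_eq (u v : Fin m ⊕ Fin m → F) :
    plusPolar m F u v = polar (plusQ m (F := F)) u v := by
  rw [polar_plusQ]
  rfl

theorem exists_partner {k : ℕ} (hk : k ≤ m) (v : Fin k → (Fin m ⊕ Fin m → F))
    (hv : TSF m F k v) :
    ∃ f, HypQ (Cfsg.quadFormPlus m F) (plusPolar m F) k v f := by
  classical
  have hstd := plus_std_hypQ (F := F) (m := m)
  let e0 : Fin k → (Fin m ⊕ Fin m → F) := fun i => Pi.single (Sum.inl (Fin.castLE hk i)) 1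
  let f0 : Fin k → (Fin m ⊕ Fin m → F) := fun i => Pi.single (Sum.inr (Fin.castLE hk i)) 1
  have hli : LinearIndependent F e0 := by
    have h1 := (Pi.basisFun F (Fin m ⊕ Fin m)).linearIndependent
    have h2 := h1.comp (fun i : Fin k => (Sum.inl (Fin.castLE hk i) : Fin m ⊕ Fin m))
      (fun a b hab => Fin.castLE_injective hk (Sum.inl_injective hab))
    convert h2 using 1
    funext i
    simp [e0, Pi.basisFun_apply]
  obtain ⟨g, hgQ, hg⟩ := Cfsg.Agent.S0750.S0750aux.witt_tuple (plusQ m (F := F))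
    (plusQ_nondegenerate m) k e0 v hli hv.1
    (fun a => by rw [plusQ_apply, plusQ_apply, hv.2.1 a]; exact hstd.qe _)
    (fun a b => by rw [← plusPolar_eq, ← plusPolar_eq, hv.2.2 a b]; exact hstd.ee _ _)
  have hgB : ∀ x y, plusPolar m F (g x) (g y) = plusPolar m F x y := by
    intro x y
    rw [plusPolar_eq, plusPolar_eq]
    exact Cfsg.Agent.S0750.S0750aux.polar_of_isom _ (fun x y => map_add g x y) hgQ x y
  have hgQ' : ∀ x, Cfsg.quadFormPlus m F (g x) = Cfsg.quadFormPlus m F x := by
    intro x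
    rw [← plusQ_apply, ← plusQ_apply]
    exact hgQ x
  refine ⟨fun i => g (f0 i), hv.2.1, fun i => ?_, hv.2.2, fun i j => ?_, fun i j => ?_⟩
  · rw [hgQ']
    exact hstd.qf _
  · rw [hgB]
    exact hstd.ff _ _
  · rw [← hg i, hgB]
    have := hstd.ef (Fin.castLE hk i) (Fin.castLE hk j)
    rw [this]
    by_cases hij : i = j
    · subst hij; simp
    · rw [if_neg hij, if_neg]
      intro h
      exact hij (Fin.castLE_injective hk h)

end plus

section count
variable {F : Type*} [Field F] [Fintype F] [DecidableEq F]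

theorem plus_arith_c (q k j N : ℕ) (hq : 0 < q)
    (h : (q ^ (k + j + 1) - 1) * q ^ (k + j + 1 - 1) =
      N * q ^ k + q ^ (2 * j + 2) * ((q ^ k - 1) * q ^ (k - 1))) :
    N = (q ^ (j + 1) - 1) * q ^ j := by
  have h1 : ∀ n, 1 ≤ q ^ n := fun n => Nat.one_le_pow _ _ hq
  have hqz : (q : ℤ) ≠ 0 := by exact_mod_cast hq.ne'
  have e1 : k + j + 1 - 1 = k + j := by omega
  rw [e1] at h
  rcases Nat.eq_zero_or_pos k with rfl | hk
  · simp only [pow_zero, Nat.sub_self, zero_mul, mul_zero, add_zero, mul_one, zero_add] at h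
    rw [← h]
  · obtain ⟨k', rfl⟩ : ∃ k', k = k' + 1 := ⟨k - 1, by omega⟩
    have e2 : k' + 1 - 1 = k' := by omega
    rw [e2] at h
    zify [h1 (k' + 1 + j + 1), h1 (k' + 1), h1 (j + 1)] at h ⊢
    have h3 : (N : ℤ) * (q : ℤ) ^ (k' + 1) =
        (((q : ℤ) ^ (j + 1) - 1) * (q : ℤ) ^ j) * (q : ℤ) ^ (k' + 1) := by
      have : (N : ℤ) * (q : ℤ) ^ (k' + 1) =
          ((q : ℤ) ^ (k' + 1 + j + 1) - 1) * (q : ℤ) ^ (k' + 1 + j) -
          (q : ℤ) ^ (2 * j + 2) * (((q : ℤ) ^ (k' + 1) - 1) * (q : ℤ) ^ k') := by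
        linear_combination -h
      rw [this]
      ring
    exact mul_right_cancel₀ (pow_ne_zero _ hqz) h3

theorem plus_card_perp_c {k j : ℕ} {e f : Fin k → (Fin (k + j + 1) ⊕ Fin (k + j + 1) → F)}
    (h : HypQ (Cfsg.quadFormPlus (k + j + 1) F) (plusPolar (k + j + 1) F) k e f) (c : F)
    (hc : c ≠ 0) :
    Nat.card {w : Fin (k + j + 1) ⊕ Fin (k + j + 1) → F //
      PerpQ (plusPolar (k + j + 1) F) e f w ∧ Cfsg.quadFormPlus (k + j + 1) F w = c} =
      (Fintype.card F ^ (j + 1) - 1) * Fintype.card F ^ j := by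
  have hq : 0 < Fintype.card F := Fintype.card_pos
  have h1 := card_q_eq isQF_plus h c
  have h0 : Nat.card {v : Fin (k + j + 1) ⊕ Fin (k + j + 1) → F //
      Cfsg.quadFormPlus (k + j + 1) F v = c} =
      (Fintype.card F ^ (k + j + 1) - 1) * Fintype.card F ^ (k + j + 1 - 1) := by
    have := natCard_plus (F := F) (k + j + 1) c
    rw [if_neg hc, zero_add] at this
    exact this
  rw [h0, plus_card_perp h] at h1
  apply plus_arith_c (Fintype.card F) k j _ hq
  rw [h1]
  congr 1
  rw [← pow_two, ← pow_add]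

/-- vectors orthogonal to a totally singular frame with a prescribed value of the form -/
theorem card_ts_perp {k j : ℕ} (v : Fin k → (Fin (k + j + 1) ⊕ Fin (k + j + 1) → F))
    (hv : TSF (k + j + 1) F k v) (c : F) :
    Nat.card {u : Fin (k + j + 1) ⊕ Fin (k + j + 1) → F //
      (∀ i, plusPolar (k + j + 1) F u (v i) = 0) ∧ Cfsg.quadFormPlus (k + j + 1) F u = c} =
      (if c = 0 then Fintype.card F ^ (j + 1) + (Fintype.card F ^ (j + 1) - 1) * Fintype.card F ^ j
        else (Fintype.card F ^ (j + 1) - 1) * Fintype.card F ^ j) * Fintype.card F ^ k := by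
  obtain ⟨f, hf⟩ := exists_partner (by omega) v hv
  rw [card_perp_e isQF_plus hf c]
  congr 1
  by_cases hc : c = 0
  · subst hc
    rw [if_pos rfl]
    exact plus_card_perp_zero hf
  · rw [if_neg hc]
    exact plus_card_perp_c hf c hc

/-- splitting off the first vector -/
def consE (α : Type*) (k : ℕ) : (Fin (k + 1) → α) ≃ α × (Fin k → α) where
  toFun v := (v 0, Fin.tail v)
  invFun p := Fin.cons p.1 p.2
  left_inv v := Fin.cons_self_tail v
  right_inv p := by
    obtain ⟨a, b⟩ := p
    simp only [Fin.cons_zero, Fin.tail_cons]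

theorem consE_apply (α : Type*) (k : ℕ) (v : Fin (k + 1) → α) :
    consE α k v = (v 0, Fin.tail v) := rfl

omit [Fintype F] [DecidableEq F] in
theorem span_perp {m k : ℕ} (v : Fin k → (Fin m ⊕ Fin m → F)) (hv : TSF m F k v)
    (u : Fin m ⊕ Fin m → F) (hu : u ∈ Submodule.span F (Set.range v)) :
    (∀ i, plusPolar m F u (v i) = 0) ∧ Cfsg.quadFormPlus m F u = 0 := by
  obtain ⟨a, rfl⟩ := (Submodule.mem_span_range_iff_exists_fun F).1 hu
  have hQ := isQF_plus (F := F) (m := m)
  constructor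
  · intro i
    rw [hQ.b_sum_left]
    apply Finset.sum_eq_zero
    intro j _
    rw [hQ.b_smul, hv.2.2, mul_zero]
  · rw [hQ.q_sum_orth]
    · apply Finset.sum_eq_zero
      intro j _
      rw [hQ.q_smul, hv.2.1, mul_zero]
    · intro i _ j _ _
      rw [hQ.b_smul, hQ.b_smul_right, hv.2.2, mul_zero, mul_zero]

omit [Fintype F] [DecidableEq F] in
theorem tsf_cons_iff {m k : ℕ} (u : Fin m ⊕ Fin m → F) (v : Fin k → (Fin m ⊕ Fin m → F)) :
    TSF m F (k + 1) (Fin.cons u v) ↔ TSF m F k v ∧
      (((∀ i, plusPolar m F u (v i) = 0) ∧ Cfsg.quadFormPlus m F u = 0) ∧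
        u ∉ Submodule.span F (Set.range v)) := by
  have hQ := isQF_plus (F := F) (m := m)
  unfold TSF
  rw [linearIndependent_finCons]
  constructor
  · rintro ⟨⟨h1, h2⟩, h3, h4⟩
    refine ⟨⟨h1, fun i => ?_, fun i j => ?_⟩, ⟨fun i => ?_, ?_⟩, h2⟩
    · have := h3 i.succ
      rwa [Fin.cons_succ] at this
    · have := h4 i.succ j.succ
      rwa [Fin.cons_succ, Fin.cons_succ] at this
    · have := h4 0 i.succ
      rwa [Fin.cons_succ, Fin.cons_zero] at this
    · have := h3 0
      rwa [Fin.cons_zero] at this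
  · rintro ⟨⟨h1, h3, h4⟩, ⟨h5, h6⟩, h2⟩
    refine ⟨⟨h1, h2⟩, fun i => ?_, fun i j => ?_⟩
    · refine Fin.cases ?_ (fun i' => ?_) i
      · rw [Fin.cons_zero]; exact h6
      · rw [Fin.cons_succ]; exact h3 i'
    · refine Fin.cases ?_ (fun i' => ?_) i <;> refine Fin.cases ?_ (fun j' => ?_) j
      · rw [Fin.cons_zero, hQ.b_self, h6, mul_zero]
      · rw [Fin.cons_zero, Fin.cons_succ]; exact h5 j'
      · rw [Fin.cons_zero, Fin.cons_succ, hQ.b_symm]; exact h5 i'
      · rw [Fin.cons_succ, Fin.cons_succ]; exact h4 i' j'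

/-- the recursion for the number of totally singular frames -/
theorem card_tsf_succ (k j : ℕ) :
    Nat.card {v : Fin (k + 1) → (Fin (k + j + 1) ⊕ Fin (k + j + 1) → F) //
        TSF (k + j + 1) F (k + 1) v} =
      Nat.card {v : Fin k → (Fin (k + j + 1) ⊕ Fin (k + j + 1) → F) // TSF (k + j + 1) F k v} *
        (Fintype.card F ^ k * ((Fintype.card F ^ (j + 1) - 1) * (Fintype.card F ^ j + 1))) := by
  classical
  have e1 : {v : Fin (k + 1) → (Fin (k + j + 1) ⊕ Fin (k + j + 1) → F) //
        TSF (k + j + 1) F (k + 1) v} ≃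
      {p : (Fin (k + j + 1) ⊕ Fin (k + j + 1) → F) ×
          (Fin k → (Fin (k + j + 1) ⊕ Fin (k + j + 1) → F)) //
        TSF (k + j + 1) F k p.2 ∧
          (((∀ i, plusPolar (k + j + 1) F p.1 (p.2 i) = 0) ∧
            Cfsg.quadFormPlus (k + j + 1) F p.1 = 0) ∧
            p.1 ∉ Submodule.span F (Set.range p.2))} :=
    Equiv.subtypeEquiv (consE _ k) (fun v => by
      rw [← tsf_cons_iff, consE_apply]
      simp only [Fin.cons_self_tail])
  rw [Nat.card_congr e1]
  apply card_pairs_const (fun v => TSF (k + j + 1) F k v)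
    (fun v u => ((∀ i, plusPolar (k + j + 1) F u (v i) = 0) ∧
            Cfsg.quadFormPlus (k + j + 1) F u = 0) ∧ u ∉ Submodule.span F (Set.range v))
  intro v hv
  have h1 := card_and_not (fun u => (∀ i, plusPolar (k + j + 1) F u (v i) = 0) ∧
      Cfsg.quadFormPlus (k + j + 1) F u = 0) (fun u => u ∈ Submodule.span F (Set.range v))
      (fun u hu => span_perp v hv u hu)
  rw [card_ts_perp v hv 0, if_pos rfl] at h1
  have h2 : Nat.card {u // u ∈ Submodule.span F (Set.range v)} = Fintype.card F ^ k := by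
    have := Module.natCard_eq_pow_finrank (K := F) (V := Submodule.span F (Set.range v))
    rw [finrank_span_eq_card hv.1, Fintype.card_fin, Nat.card_eq_fintype_card (α := F)] at this
    exact this
  rw [h2] at h1
  have hq1 : 1 ≤ Fintype.card F ^ (j + 1) := Nat.one_le_pow _ _ Fintype.card_pos
  obtain ⟨X, hX⟩ : ∃ X, Fintype.card F ^ (j + 1) = X + 1 := ⟨_, (Nat.sub_add_cancel hq1).symm⟩
  rw [hX] at h1 ⊢
  simp only [Nat.add_sub_cancel] at h1 ⊢
  have h3 : (X + 1 + X * Fintype.card F ^ j) * Fintype.card F ^ k =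
      Fintype.card F ^ k * (X * (Fintype.card F ^ j + 1)) + Fintype.card F ^ k := by ring
  rw [h3] at h1
  exact Nat.add_right_cancel h1

/-- the number of totally singular `k`-frames of the hyperbolic space of dimension `2m` -/
theorem card_tsf (m : ℕ) : ∀ k, k ≤ m →
    Nat.card {v : Fin k → (Fin m ⊕ Fin m → F) // TSF m F k v} =
      ∏ i ∈ Finset.range k, (Fintype.card F ^ i *
        ((Fintype.card F ^ (m - i) - 1) * (Fintype.card F ^ (m - i - 1) + 1)))
  | 0, _ => by
      rw [Finset.prod_range_zero, Nat.card_eq_one_iff_unique]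
      refine ⟨⟨?_⟩, ⟨⟨fun i => i.elim0, linearIndependent_empty_type, fun i => i.elim0,
        fun i => i.elim0⟩⟩⟩
      rintro ⟨a, _⟩ ⟨b, _⟩
      apply Subtype.ext
      funext i
      exact i.elim0
  | k + 1, hk => by
      have ih := card_tsf m k (by omega)
      obtain ⟨j, rfl⟩ : ∃ j, m = k + j + 1 := ⟨m - k - 1, by omega⟩
      rw [card_tsf_succ k j, ih, Finset.prod_range_succ]
      have e1 : k + j + 1 - k = j + 1 := by omega
      have e2 : j + 1 - 1 = j := by omega
      rw [e1, e2]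

/-- totally singular frames together with an orthogonal vector of norm `c ≠ 0` -/
theorem card_tsf_one (k j : ℕ) (c : F) (hc : c ≠ 0) :
    Nat.card {p : (Fin (k + j + 1) ⊕ Fin (k + j + 1) → F) ×
          (Fin k → (Fin (k + j + 1) ⊕ Fin (k + j + 1) → F)) //
        TSF (k + j + 1) F k p.2 ∧
          ((∀ i, plusPolar (k + j + 1) F p.1 (p.2 i) = 0) ∧
            Cfsg.quadFormPlus (k + j + 1) F p.1 = c)} =
      Nat.card {v : Fin k → (Fin (k + j + 1) ⊕ Fin (k + j + 1) → F) // TSF (k + j + 1) F k v} *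
        ((Fintype.card F ^ (j + 1) - 1) * Fintype.card F ^ j * Fintype.card F ^ k) := by
  apply card_pairs_const (fun v => TSF (k + j + 1) F k v)
    (fun v u => ((∀ i, plusPolar (k + j + 1) F u (v i) = 0) ∧
            Cfsg.quadFormPlus (k + j + 1) F u = c))
  intro v hv
  rw [card_ts_perp v hv c, if_neg hc]

end count

end Cfsg.Agent.Lib.Helper15.PlusFrames
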