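import Mathlib

set_option autoImplicit false
set_option linter.unusedSectionVars false

namespace Cfsg.Agent.Lib.Helper15.OrbitBound

open Matrix

variable {F : Type*} [Field F] [Fintype F] {L : Type*} [Field L] {ι : Type*} [Fintype ι] [DecidableEq ι]

section char

variable (ψ : AddChar F L)

/-- orthogonality of the characters `v ↦ ψ (u ⬝ᵥ v)` -/
theorem sum_char (hψ : ψ.IsPrimitive) {u : ι → F} (hu : u ≠ 0) :
    ∑ v : ι → F, ψ (u ⬝ᵥ v) = 0 := by
  let f : (ι → F) →+ F :=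
    { toFun := fun v => u ⬝ᵥ v
      map_zero' := dotProduct_zero u
      map_add' := fun v w => dotProduct_add u v w }
  let φ : AddChar (ι → F) L := ψ.compAddMonoidHom f
  have hφ : φ ≠ 1 := by
    obtain ⟨i, hi⟩ : ∃ i, u i ≠ 0 := by
      by_contra h
      push Not at h
      exact hu (funext h)
    obtain ⟨t, ht⟩ := AddChar.ne_one_iff.mp (hψ hi)
    rw [AddChar.ne_one_iff]
    refine ⟨Pi.single i t, ?_⟩
    have : f (Pi.single i t) = u i * t := by
      show u ⬝ᵥ Pi.single i t = u i * t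
      rw [dotProduct_single]
    show ψ (f (Pi.single i t)) ≠ 1
    rw [this]
    exact ht
  exact AddChar.sum_eq_zero_of_ne_one hφ

theorem sum_char' (hψ : ψ.IsPrimitive) {v : ι → F} (hv : v ≠ 0) :
    ∑ u : ι → F, ψ (u ⬝ᵥ v) = 0 := by
  rw [← sum_char ψ hψ hv]
  exact Finset.sum_congr rfl (fun u _ => by rw [dotProduct_comm])

end char

variable {R : Type*} [Ring R] [Algebra L R]
variable (ψ : AddChar F L) (x : (ι → F) → R)

/-- the unnormalised isotypic sums -/
noncomputable def Sm (u : ι → F) : R := ∑ v : ι → F, ψ (-(u ⬝ᵥ v)) • x v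

/-- the isotypic idempotents of an elementary abelian group acting in an algebra -/
noncomputable def Pr (u : ι → F) : R :=
  ((Fintype.card (ι → F) : L)⁻¹) • Sm ψ x u

variable (hψ : ψ.IsPrimitive) (hcard : (Fintype.card (ι → F) : L) ≠ 0)
  (hxa : ∀ v w, x (v + w) = x v * x w)

include hxa in
theorem x_mul_Sm (w u : ι → F) : x w * Sm ψ x u = ψ (u ⬝ᵥ w) • Sm ψ x u := by
  rw [Sm, Finset.mul_sum, Finset.smul_sum]
  rw [← Equiv.sum_comp (Equiv.addLeft w)
    (fun v => ψ (u ⬝ᵥ w) • ψ (-(u ⬝ᵥ v)) • x v)]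
  apply Finset.sum_congr rfl
  intro v _
  rw [mul_smul_comm, ← hxa, Equiv.coe_addLeft, smul_smul, ← AddChar.map_add_eq_mul]
  congr 2
  rw [dotProduct_add]
  ring

include hxa in
theorem x_mul_Pr (w u : ι → F) : x w * Pr ψ x u = ψ (u ⬝ᵥ w) • Pr ψ x u := by
  rw [Pr, mul_smul_comm, x_mul_Sm ψ x hxa, smul_comm]

include hψ hcard hxa in
theorem Pr_mul_Pr [DecidableEq (ι → F)] (u u' : ι → F) :
    Pr ψ x u * Pr ψ x u' = if u = u' then Pr ψ x u' else 0 := by
  nth_rw 1 [Pr]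
  rw [Sm, smul_mul_assoc, Finset.sum_mul]
  have h1 : ∀ v ∈ (Finset.univ : Finset (ι → F)), (ψ (-(u ⬝ᵥ v)) • x v) * Pr ψ x u' =
      ψ ((u' - u) ⬝ᵥ v) • Pr ψ x u' := by
    intro v _
    rw [smul_mul_assoc, x_mul_Pr ψ x hxa, smul_smul, ← AddChar.map_add_eq_mul]
    congr 2
    rw [sub_dotProduct]
    ring
  rw [Finset.sum_congr rfl h1, ← Finset.sum_smul]
  split_ifs with h
  · subst h
    simp only [sub_self, zero_dotProduct, AddChar.map_zero_eq_one, Finset.sum_const,
      Finset.card_univ, nsmul_eq_mul, mul_one]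
    rw [smul_smul, inv_mul_cancel₀ hcard, one_smul]
  · rw [sum_char ψ hψ (sub_ne_zero.mpr (Ne.symm h)), zero_smul, smul_zero]

include hψ hcard in
theorem x_eq_sum (w : ι → F) : x w = ∑ u : ι → F, ψ (u ⬝ᵥ w) • Pr ψ x u := by
  classical
  simp only [Pr, Sm]
  have h1 : ∀ u ∈ (Finset.univ : Finset (ι → F)),
      ψ (u ⬝ᵥ w) • ((Fintype.card (ι → F) : L)⁻¹) • ∑ v : ι → F, ψ (-(u ⬝ᵥ v)) • x v =
      ((Fintype.card (ι → F) : L)⁻¹) • ∑ v : ι → F, ψ (u ⬝ᵥ (w - v)) • x v := by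
    intro u _
    rw [smul_comm, Finset.smul_sum]
    congr 1
    apply Finset.sum_congr rfl
    intro v _
    rw [smul_smul, ← AddChar.map_add_eq_mul]
    congr 2
    rw [dotProduct_sub]
    ring
  rw [Finset.sum_congr rfl h1, ← Finset.smul_sum, Finset.sum_comm]
  have h2 : ∀ v ∈ (Finset.univ : Finset (ι → F)), ∑ u : ι → F, ψ (u ⬝ᵥ (w - v)) • x v =
      (if v = w then (Fintype.card (ι → F) : L) else 0) • x v := by
    intro v _
    rw [← Finset.sum_smul]
    congr 1
    split_ifs with h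
    · subst h
      simp
    · exact sum_char' ψ hψ (sub_ne_zero.mpr (Ne.symm h))
  rw [Finset.sum_congr rfl h2]
  simp only [ite_smul, zero_smul, Finset.sum_ite_eq', Finset.mem_univ, if_true]
  rw [smul_smul, inv_mul_cancel₀ hcard, one_smul]

include hψ hcard in
theorem exists_of_ne_one (hx0 : x 0 = 1) {w : ι → F} (h : x w ≠ 1) :
    ∃ u, Pr ψ x u ≠ 0 ∧ u ⬝ᵥ w ≠ 0 := by
  by_contra hcon
  push Not at hcon
  apply h
  rw [x_eq_sum ψ x hψ hcard w, ← hx0, x_eq_sum ψ x hψ hcard 0]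
  apply Finset.sum_congr rfl
  intro u _
  by_cases hu : Pr ψ x u = 0
  · rw [hu, smul_zero, smul_zero]
  · rw [hcon u hu, dotProduct_zero]

theorem Pr_conj {g : R} {N : (ι → F) ≃ (ι → F)} (hg : ∀ v, g * x v = x (N v) * g)
    {u u' : ι → F} (hd : ∀ v, u ⬝ᵥ v = u' ⬝ᵥ N v) : g * Pr ψ x u = Pr ψ x u' * g := by
  rw [Pr, Pr, Sm, Sm, mul_smul_comm, smul_mul_assoc, Finset.mul_sum, Finset.sum_mul]
  congr 1
  rw [← Equiv.sum_comp N (fun v => (ψ (-(u' ⬝ᵥ v)) • x v) * g)]
  apply Finset.sum_congr rfl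
  intro v _
  rw [mul_smul_comm, smul_mul_assoc, hg, hd]

theorem Pr_ne_zero_of_conj {g : R} (hunit : IsUnit g) {N : (ι → F) ≃ (ι → F)}
    (hg : ∀ v, g * x v = x (N v) * g)
    {u u' : ι → F} (hd : ∀ v, u ⬝ᵥ v = u' ⬝ᵥ N v) (hu : Pr ψ x u ≠ 0) : Pr ψ x u' ≠ 0 := by
  intro h
  apply hu
  have := Pr_conj ψ x hg hd
  rw [h, zero_mul] at this
  exact (hunit.mul_right_eq_zero).mp this

/-- a family of non-zero orthogonal idempotent matrices of size `d` has at most `d` members -/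
theorem card_le_of_orthogonal {d : ℕ} {κ : Type*} [Fintype κ] [DecidableEq κ]
    (E : κ → Matrix (Fin d) (Fin d) L)
    (hE : ∀ a b, E a * E b = if a = b then E b else 0) (hne : ∀ a, E a ≠ 0) :
    Fintype.card κ ≤ d := by
  have hcol : ∀ a, ∃ j, E a *ᵥ (Pi.single j 1) ≠ 0 := by
    intro a
    by_contra h
    push Not at h
    apply hne a
    ext i j
    have := congrFun (h j) i
    simpa using this
  choose j hj using hcol
  let y : κ → (Fin d → L) := fun a => E a *ᵥ (Pi.single (j a) 1)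
  have hli : LinearIndependent L y := by
    rw [Fintype.linearIndependent_iff]
    intro c hc a
    have h1 : E a *ᵥ (∑ b, c b • y b) = 0 := by rw [hc, mulVec_zero]
    rw [mulVec_sum, Finset.sum_eq_single a] at h1
    · rw [mulVec_smul] at h1
      have h2 : E a *ᵥ y a = y a := by
        show E a *ᵥ (E a *ᵥ _) = _
        rw [mulVec_mulVec, hE, if_pos rfl]
      rw [h2] at h1
      exact (smul_eq_zero.mp h1).resolve_right (hj a)
    · intro b _ hb
      have h2 : E a *ᵥ y b = 0 := by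
        show E a *ᵥ (E b *ᵥ _) = _
        rw [mulVec_mulVec, hE, if_neg (Ne.symm hb), zero_mulVec]
      rw [mulVec_smul, h2, smul_zero]
    · intro h; exact absurd (Finset.mem_univ a) h
  have := hli.fintype_card_le_finrank
  rwa [Module.finrank_fin_fun] at this

end Cfsg.Agent.Lib.Helper15.OrbitBound
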