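import Mathlib

/-! Helper15 library: a perfect subgroup of index at most 4 is the commutator subgroup; central
quotients of images of perfect groups under homomorphisms with central kernel. -/

set_option autoImplicit false

namespace Cfsg.Agent.Lib.Helper15.PerfectIndex

open Equiv
open scoped commutatorElement

set_option maxRecDepth 100000 in
theorem aux1 : ∀ a b : Perm (Fin 4), Perm.sign a = 1 → Perm.sign b = 1 →
    ((a * b * a⁻¹ * b⁻¹) * (a * b * a⁻¹ * b⁻¹) = 1) := by decide

set_option maxRecDepth 100000 in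
theorem aux2 : ∀ a b : Perm (Fin 4), Perm.sign a = 1 → a * a = 1 → Perm.sign b = 1 → b * b = 1 →
    a * b = b * a := by decide

set_option maxRecDepth 100000 in
theorem aux3 : ∀ a b : Perm (Fin 4), Perm.sign a = 1 → a * a = 1 → Perm.sign b = 1 → b * b = 1 →
    (a * b) * (a * b) = 1 := by decide

/-- the Klein four-group inside `S₄` -/
def V4 : Subgroup (Perm (Fin 4)) where
  carrier := {g | Perm.sign g = 1 ∧ g * g = 1}
  mul_mem' := by
    rintro a b ⟨ha1, ha2⟩ ⟨hb1, hb2⟩
    exact ⟨by rw [map_mul, ha1, hb1, one_mul], aux3 a b ha1 ha2 hb1 hb2⟩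
  one_mem' := ⟨map_one _, one_mul 1⟩
  inv_mem' := by
    rintro a ⟨ha1, ha2⟩
    have : a⁻¹ = a := inv_eq_of_mul_eq_one_left ha2
    simp only [Set.mem_ofPred_eq, this]
    exact ⟨ha1, ha2⟩

theorem sign_commutator (a b : Perm (Fin 4)) : Perm.sign ⁅a, b⁆ = 1 := by
  rw [commutatorElement_def, map_mul, map_mul, map_mul, map_inv, map_inv]
  rw [mul_comm (Perm.sign a) (Perm.sign b), mul_assoc, mul_assoc, ← mul_assoc (Perm.sign a),
    mul_inv_cancel, one_mul, mul_inv_cancel]

theorem isSolvable_perm_fin_four : Group.IsSolvable (Perm (Fin 4)) := by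
  rw [Group.isSolvable_def]
  refine ⟨3, ?_⟩
  have h1 : derivedSeries (Perm (Fin 4)) 1 ≤ alternatingGroup (Fin 4) := by
    rw [derivedSeries_succ, derivedSeries_zero, Subgroup.commutator_le]
    intro a _ b _
    rw [Equiv.Perm.mem_alternatingGroup]
    exact sign_commutator a b
  have h2 : derivedSeries (Perm (Fin 4)) 2 ≤ V4 := by
    rw [derivedSeries_succ]
    refine (Subgroup.commutator_mono h1 h1).trans ?_
    rw [Subgroup.commutator_le]
    intro a ha b hb
    rw [Equiv.Perm.mem_alternatingGroup] at ha hb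
    exact ⟨sign_commutator a b, aux1 a b ha hb⟩
  rw [derivedSeries_succ, eq_bot_iff]
  refine (Subgroup.commutator_mono h2 h2).trans ?_
  rw [Subgroup.commutator_le]
  intro a ha b hb
  rw [Subgroup.mem_bot, commutatorElement_eq_one_iff_mul_comm]
  exact aux2 a b ha.1 ha.2 hb.1 hb.2

theorem isSolvable_perm_of_card_le_four (X : Type*) [Finite X] (hX : Nat.card X ≤ 4) :
    Group.IsSolvable (Perm X) := by
  classical
  have : Fintype X := Fintype.ofFinite X
  have hle : Fintype.card X ≤ Fintype.card (Fin 4) := by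
    rw [Fintype.card_fin, ← Nat.card_eq_fintype_card]; exact hX
  obtain ⟨ι⟩ := Function.Embedding.nonempty_of_card_le hle
  have := isSolvable_perm_fin_four
  exact Group.isSolvable_of_isSolvable_injective (Equiv.Perm.viaEmbeddingHom_injective ι)

section main
variable {O : Type*} [Group O]

/-- A perfect subgroup of index at most 4 is normal. -/
theorem normal_of_perfect_of_index_le_four (N : Subgroup O) (hperf : ⁅N, N⁆ = N)
    (h0 : N.index ≠ 0) (h4 : N.index ≤ 4) : N.Normal := by
  have : N.FiniteIndex := ⟨h0⟩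
  have hfin : Finite (O ⧸ N) := Subgroup.finite_quotient_of_finiteIndex
  have hsol : Group.IsSolvable (Perm (O ⧸ N)) := isSolvable_perm_of_card_le_four _ h4
  obtain ⟨α, hα⟩ : ∃ α : O →* Perm (O ⧸ N), α = MulAction.toPermHom O (O ⧸ N) := ⟨_, rfl⟩
  have hmap : ⁅N.map α, N.map α⁆ = N.map α := by
    rw [← Subgroup.map_commutator, hperf]
  have hbot : N.map α = ⊥ := by
    by_contra hne
    have := Group.IsSolvable.commutator_lt_of_ne_bot hne
    rw [hmap] at this
    exact lt_irrefl _ this
  have hker : N ≤ α.ker := by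
    intro x hx
    rw [MonoidHom.mem_ker]
    have : α x ∈ N.map α := Subgroup.mem_map_of_mem α hx
    rw [hbot, Subgroup.mem_bot] at this
    exact this
  have hcore : N.normalCore = α.ker := by rw [hα]; exact Subgroup.normalCore_eq_ker N
  have : N = N.normalCore := le_antisymm (hcore ▸ hker) (Subgroup.normalCore_le N)
  rw [this]
  exact Subgroup.normalCore_normal N

/-- a group with at most 4 elements is commutative -/
theorem comm_of_card_le_four {Q : Type*} [Group Q] [Finite Q] (h : Nat.card Q ≤ 4) (a b : Q) :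
    a * b = b * a := by
  have hpos : 0 < Nat.card Q := Nat.card_pos
  have hcases : Nat.card Q = 1 ∨ Nat.card Q = 2 ∨ Nat.card Q = 3 ∨ Nat.card Q = 4 := by omega
  rcases hcases with h1 | h2 | h3 | h4
  · have : Subsingleton Q := (Nat.card_eq_one_iff_unique.mp h1).1
    exact Subsingleton.elim _ _
  · have : Fact (Nat.Prime 2) := ⟨Nat.prime_two⟩
    have := isCyclic_of_prime_card h2
    exact (IsCyclic.commGroup (α := Q)).mul_comm a b
  · have : Fact (Nat.Prime 3) := ⟨Nat.prime_three⟩
    have := isCyclic_of_prime_card h3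
    exact (IsCyclic.commGroup (α := Q)).mul_comm a b
  · have : Fact (Nat.Prime 2) := ⟨Nat.prime_two⟩
    exact (IsPGroup.isMulCommutative_of_card_eq_prime_sq (p := 2) (by rw [h4]; norm_num)).is_comm.comm a b

/-- A perfect subgroup of index at most 4 is the commutator subgroup. -/
theorem commutator_eq_of_perfect_of_index_le_four (N : Subgroup O) (hperf : ⁅N, N⁆ = N)
    (h0 : N.index ≠ 0) (h4 : N.index ≤ 4) : commutator O = N := by
  have hN : N.Normal := normal_of_perfect_of_index_le_four N hperf h0 h4
  have : N.FiniteIndex := ⟨h0⟩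
  have hfin : Finite (O ⧸ N) := Subgroup.finite_quotient_of_finiteIndex
  apply le_antisymm
  · rw [commutator_def, Subgroup.commutator_le]
    intro a _ b _
    rw [← QuotientGroup.eq_one_iff, commutatorElement_def, QuotientGroup.mk_mul, QuotientGroup.mk_mul,
      QuotientGroup.mk_mul, QuotientGroup.mk_inv, QuotientGroup.mk_inv]
    have hc := comm_of_card_le_four (Q := O ⧸ N) h4 (a : O ⧸ N) (b : O ⧸ N)
    rw [hc, mul_assoc, mul_assoc, ← mul_assoc (a : O ⧸ N), mul_inv_cancel, one_mul, mul_inv_cancel]
  · rw [commutator_def]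
    calc N = ⁅N, N⁆ := hperf.symm
      _ ≤ ⁅(⊤ : Subgroup O), ⊤⁆ := Subgroup.commutator_mono le_top le_top

end main

section center
variable {G H : Type*} [Group G] [Group H]

/-- For a perfect group `G` and a surjective hom `φ : G → H` with central kernel, the preimage of the
centre of `H` is the centre of `G`. -/
theorem ker_mk_comp_eq_center (hperf : commutator G = ⊤) (φ : G →* H)
    (hφ : Function.Surjective φ) (hker : φ.ker ≤ Subgroup.center G) :
    ((QuotientGroup.mk' (Subgroup.center H)).comp φ).ker = Subgroup.center G := by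
  ext g
  rw [MonoidHom.mem_ker, MonoidHom.comp_apply, QuotientGroup.mk'_apply, QuotientGroup.eq_one_iff]
  constructor
  · intro hg
    -- the map x ↦ ⁅g, x⁆ is a hom into the centre
    have hcomm : ∀ x : G, ⁅g, x⁆ ∈ Subgroup.center G := by
      intro x
      apply hker
      rw [MonoidHom.mem_ker, commutatorElement_def, map_mul, map_mul, map_mul, map_inv, map_inv]
      rw [Subgroup.mem_center_iff] at hg
      rw [← hg (φ x), mul_assoc, mul_assoc, ← mul_assoc (φ g), mul_inv_cancel, one_mul, mul_inv_cancel]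
    have hmul : ∀ x y : G, ⁅g, x * y⁆ = ⁅g, x⁆ * ⁅g, y⁆ := by
      intro x y
      have hy := hcomm y
      rw [Subgroup.mem_center_iff] at hy
      have e : ⁅g, x * y⁆ = ⁅g, x⁆ * (x * ⁅g, y⁆ * x⁻¹) := by
        rw [commutatorElement_def, commutatorElement_def, commutatorElement_def]
        group
      rw [e, hy x, mul_assoc, mul_inv_cancel, mul_one]
    obtain ⟨θ, hθdef⟩ : ∃ θ : G →* Subgroup.center G, ∀ x, (θ x : G) = ⁅g, x⁆ :=
      ⟨MonoidHom.mk' (fun x => ⟨⁅g, x⁆, hcomm x⟩) (fun x y => Subtype.ext (hmul x y)), fun _ => rfl⟩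
    have hθ : commutator G ≤ θ.ker := by
      rw [commutator_def, Subgroup.commutator_le]
      intro a _ b _
      rw [MonoidHom.mem_ker, map_commutatorElement, commutatorElement_eq_one_iff_mul_comm]
      apply Subtype.ext
      have hb := (θ b).2
      rw [Subgroup.mem_center_iff] at hb
      exact hb (θ a)
    rw [hperf] at hθ
    rw [Subgroup.mem_center_iff]
    intro x
    have hx : θ x = 1 := by
      have : x ∈ θ.ker := hθ (Subgroup.mem_top x)
      exact this
    have hx' : ⁅g, x⁆ = 1 := by rw [← hθdef, hx]; rfl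
    rw [commutatorElement_eq_one_iff_mul_comm] at hx'
    exact hx'.symm
  · intro hg
    rw [Subgroup.mem_center_iff] at hg ⊢
    intro y
    obtain ⟨x, rfl⟩ := hφ y
    rw [← map_mul, ← map_mul, hg x]

/-- central quotients agree -/
noncomputable def centerQuotientEquiv (hperf : commutator G = ⊤) (φ : G →* H)
    (hφ : Function.Surjective φ) (hker : φ.ker ≤ Subgroup.center G) :
    G ⧸ Subgroup.center G ≃* H ⧸ Subgroup.center H :=
  (QuotientGroup.quotientMulEquivOfEq (ker_mk_comp_eq_center hperf φ hφ hker).symm).trans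
    (QuotientGroup.quotientKerEquivOfSurjective ((QuotientGroup.mk' (Subgroup.center H)).comp φ)
      ((QuotientGroup.mk'_surjective _).comp hφ))

end center

end Cfsg.Agent.Lib.Helper15.PerfectIndex
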