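import Mathlib
import Cfsg.Agent.Lib.Helper11.LSDefs

/-!
# S2333 leaf Q1: the isometry group of a non-defective quadratic form of dimension at most one
over a finite field of characteristic two is trivial.
-/

set_option autoImplicit false

open QuadraticMap Module Cfsg.Agent.Lib.Helper11.LS

universe u

variable {F : Type*} [Field F] {V : Type u} [AddCommGroup V] [Module F V]

namespace Cfsg.Agent.Lib.Helper15.LSLeaf

theorem card_isoGroup_le_one [Fintype F] [CharP F 2] [Finite V] (Q : QuadraticForm F V)
    (hQ : Nondef Q) (h : finrank F V ≤ 1) : Nat.card (isoGroup Q) ≤ 1 := by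
  have : Module.Finite F V := Module.Finite.of_finite
  obtain ⟨z, hz⟩ := finrank_le_one_iff.mp h
  have key : ∀ g ∈ isoGroup Q, g = 1 := by
    intro g hg
    by_cases hz0 : z = 0
    · ext x
      obtain ⟨c, rfl⟩ := hz x
      simp [hz0]
    · have hQz : Q z ≠ 0 := by
        intro h0
        apply hz0
        apply hQ z _ h0
        intro w
        obtain ⟨c, rfl⟩ := hz w
        rw [polar_smul_right, polar_self]
        have h2 : (2 : F) = 0 := CharTwo.two_eq_zero
        simp [h2]
      obtain ⟨a, ha⟩ := hz (g z)
      have h1 : Q (g z) = Q z := hg z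
      rw [← ha, QuadraticMap.map_smul] at h1
      have h2 : a * a = 1 := by
        have : (a * a) * Q z = 1 * Q z := by simpa using h1
        exact mul_right_cancel₀ hQz this
      have h3 : a = 1 := by
        rcases mul_self_eq_one_iff.mp h2 with h | h
        · exact h
        · rw [h, CharTwo.neg_eq]
      ext x
      obtain ⟨c, rfl⟩ := hz x
      rw [map_smul, ← ha, h3, one_smul]
      rfl
  have hs : Subsingleton (isoGroup Q) :=
    ⟨fun a b => Subtype.ext ((key a a.2).trans (key b b.2).symm)⟩
  exact Finite.card_le_one_iff_subsingleton.mpr hs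

end Cfsg.Agent.Lib.Helper15.LSLeaf
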