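import Mathlib

set_option autoImplicit false

namespace Cfsg.Agent.Lib.Helper15

open Matrix Module

/-- The Gram matrix of a bilinear pairing `u ⬝ᵥ G₀ *ᵥ v` in an arbitrary basis has determinant
`d * d * det G₀` with `d ≠ 0`. -/
theorem gram_det {F : Type*} [Field F] {ι κ : Type*} [Fintype ι] [DecidableEq ι] [Fintype κ] [DecidableEq κ]
    (f : (κ → F) → (κ → F) → F) (G₀ : Matrix κ κ F) (hG : ∀ u v, f u v = u ⬝ᵥ G₀ *ᵥ v)
    (b : Basis ι F (κ → F)) :
    ∃ d : F, d ≠ 0 ∧ (Matrix.of (fun i j : ι => f (b i) (b j))).det = d * d * G₀.det := by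
  classical
  set e : ι ≃ κ := b.indexEquiv (Pi.basisFun F κ) with he
  set b' : Basis κ F (κ → F) := b.reindex e with hb'
  set P : Matrix κ κ F := (Pi.basisFun F κ).toMatrix b' with hP
  have hPentry : ∀ k j, P k j = b (e.symm j) k := by
    intro k j
    simp [hP, Basis.toMatrix_apply, hb']
  have hsub : (Matrix.of (fun i j : ι => f (b i) (b j))).submatrix e.symm e.symm = Pᵀ * G₀ * P := by
    ext i j
    simp only [Matrix.submatrix_apply, Matrix.of_apply, hG]
    rw [Matrix.mul_apply]
    simp only [Matrix.mul_apply, Matrix.transpose_apply, hPentry, dotProduct, Matrix.mulVec]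
    simp only [Finset.mul_sum, Finset.sum_mul]
    rw [Finset.sum_comm]
    refine Finset.sum_congr rfl fun x _ => Finset.sum_congr rfl fun y _ => ?_
    ring
  have hdet : (Matrix.of (fun i j : ι => f (b i) (b j))).det = P.det * P.det * G₀.det := by
    rw [← Matrix.det_submatrix_equiv_self e.symm, hsub, Matrix.det_mul, Matrix.det_mul, Matrix.det_transpose]
    ring
  refine ⟨P.det, ?_, hdet⟩
  have h1 : P * b'.toMatrix (Pi.basisFun F κ) = 1 := Basis.toMatrix_mul_toMatrix_flip _ _
  have h2 := congrArg Matrix.det h1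
  rw [Matrix.det_mul, Matrix.det_one] at h2
  intro h0
  rw [h0, zero_mul] at h2
  exact zero_ne_one h2

theorem isSquare_mul_sq_iff {F : Type*} [Field F] (d x : F) (hd : d ≠ 0) :
    IsSquare (d * d * x) ↔ IsSquare x := by
  constructor
  · rintro ⟨r, hr⟩
    refine ⟨r / d, ?_⟩
    field_simp
    linear_combination hr
  · rintro ⟨r, rfl⟩
    exact ⟨d * r, by ring⟩

/-- `(-1)^m` is a square in a finite field of odd order `q` iff `m (q-1)/2` is even. -/
theorem isSquare_neg_one_pow_iff {F : Type*} [Field F] [Fintype F] {q : ℕ} (hF : Fintype.card F = q)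
    (hq : Odd q) (m : ℕ) : IsSquare ((-1 : F) ^ m) ↔ Even (m * (q - 1) / 2) := by
  obtain ⟨k, hk⟩ := hq
  have hq1 : q - 1 = 2 * k := by omega
  have hdiv : m * (q - 1) / 2 = m * k := by
    rw [hq1, ← mul_assoc, mul_comm m 2, mul_assoc, Nat.mul_div_cancel_left _ (by norm_num)]
  rw [hdiv]
  rcases Nat.even_or_odd m with hm | hm
  · rw [hm.neg_one_pow]
    exact ⟨fun _ => hm.mul_right k, fun _ => ⟨1, by ring⟩⟩
  · rw [hm.neg_one_pow, FiniteField.isSquare_neg_one_iff, hF, Nat.even_mul]
    constructor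
    · intro h
      right
      rw [Nat.even_iff]
      omega
    · rintro (h | h)
      · exact absurd h (Nat.not_even_iff_odd.mpr hm)
      · rw [Nat.even_iff] at h
        omega

end Cfsg.Agent.Lib.Helper15
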