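import Cfsg.Agent.Lib.Helper15.QuadSim
import Cfsg.Agent.Lib.Helper15.Gram

/-! Helper15 library: orthogonal normal form of quadratic forms over finite fields of odd
characteristic, and classification by the discriminant. -/

set_option autoImplicit false

namespace Cfsg.Agent.Lib.Helper15

open Module QuadraticMap

variable {F V : Type*} [Field F] [AddCommGroup V] [Module F V]




/-- The part of `W` orthogonal to `x`. -/
def perpOne (Q : QuadraticForm F V) (W : Submodule F V) (x : V) : Submodule F V :=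
  W ⊓ LinearMap.ker (polarBilin Q x)

theorem mem_perpOne (Q : QuadraticForm F V) (W : Submodule F V) (x v : V) :
    v ∈ perpOne Q W x ↔ v ∈ W ∧ polar Q x v = 0 := by
  simp [perpOne, LinearMap.mem_ker, polarBilin_apply_apply]

theorem perpOne_le (Q : QuadraticForm F V) (W : Submodule F V) (x : V) : perpOne Q W x ≤ W :=
  inf_le_left

theorem perpOne_nd (Q : QuadraticForm F V) (W : Submodule F V) (hW : NdOn Q W) {x : V}
    (hxW : x ∈ W) (hxx : polar Q x x ≠ 0) : NdOn Q (perpOne Q W x) := by
  intro w hw hall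
  rw [mem_perpOne] at hw
  obtain ⟨hwW, hwx⟩ := hw
  apply hW w hwW
  intro v hv
  obtain ⟨v', hv'mem, hv'⟩ : ∃ v' ∈ perpOne Q W x, v = v' + (polar Q x v / polar Q x x) • x := by
    refine ⟨v - (polar Q x v / polar Q x x) • x, ?_, by abel⟩
    rw [mem_perpOne]
    refine ⟨W.sub_mem hv (W.smul_mem _ hxW), ?_⟩
    rw [polar_sub_right, polar_smul_right, smul_eq_mul, div_mul_cancel₀ _ hxx, sub_self]
  rw [hv', polar_add_right, hall v' hv'mem, polar_smul_right, polar_comm Q w x, hwx]
  simp

theorem perpOne_finrank [FiniteDimensional F V] (Q : QuadraticForm F V) (W : Submodule F V) {x : V}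
    (hxW : x ∈ W) (hxx : polar Q x x ≠ 0) : finrank F (perpOne Q W x) + 1 = finrank F W := by
  let φ : W →ₗ[F] F := (polarBilin Q x).comp W.subtype
  have hker : LinearMap.ker φ = Submodule.comap W.subtype (perpOne Q W x) := by
    ext w
    simp [φ, mem_perpOne, polarBilin_apply_apply]
  have hrange : LinearMap.range φ = ⊤ := by
    rw [eq_top_iff]
    rintro a -
    refine ⟨(a / polar Q x x) • ⟨x, hxW⟩, ?_⟩
    have : φ ⟨x, hxW⟩ = polar Q x x := by
      simp only [φ, LinearMap.comp_apply, Submodule.subtype_apply, polarBilin_apply_apply]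
    rw [map_smul, this, smul_eq_mul, div_mul_cancel₀ _ hxx]
  have h1 := LinearMap.finrank_range_add_finrank_ker φ
  rw [hrange, finrank_top, finrank_self, hker,
    (Submodule.comapSubtypeEquivOfLe (perpOne_le Q W x)).finrank_eq] at h1
  omega

/-- A nondegenerate quadratic space of dimension at least two over a finite field represents `1`. -/
theorem exists_represents_one [Finite F] [FiniteDimensional F V] (Q : QuadraticForm F V)
    (W : Submodule F V) (hW : NdOn Q W) (h2 : 2 ≤ finrank F W) : ∃ x ∈ W, Q x = 1 := by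
  let Q' : QuadraticForm F (W × F) :=
    (Q.comp W.subtype).prod ((-1 : F) • (QuadraticMap.sq (R := F) (A := F)))
  have h3 : 3 ≤ finrank F (W × F) := by
    rw [finrank_prod, finrank_self]; omega
  obtain ⟨⟨w, t⟩, hne, hq⟩ := exists_singular_of_three_le Q' h3
  have hq' : Q w.1 + -(t * t) = 0 := by
    simpa [Q'] using hq
  by_cases ht : t = 0
  · rw [ht] at hq'
    have hw0 : w.1 ≠ 0 := by
      intro hw
      apply hne
      rw [ht]
      exact Prod.ext (Subtype.ext hw) rfl
    have hQw : Q w.1 = 0 := by simpa using hq'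
    obtain ⟨f, hfW, hf, hef⟩ := exists_hyp_partner Q W hW w.2 hw0 hQw
    refine ⟨w.1 + f, W.add_mem w.2 hfW, ?_⟩
    have : Q (w.1 + f) = Q w.1 + Q f + polar Q w.1 f := by rw [polar]; ring
    rw [this, hQw, hf, hef]; ring
  · refine ⟨t⁻¹ • w.1, W.smul_mem _ w.2, ?_⟩
    rw [QuadraticMap.map_smul, smul_eq_mul]
    have : Q w.1 = t * t := by linear_combination hq'
    rw [this]
    field_simp

/-- Orthogonal normal form `⟨1, …, 1, a⟩` over a finite field of odd characteristic. -/
theorem orth_family [Finite F] [FiniteDimensional F V] (h2 : (2 : F) ≠ 0) (Q : QuadraticForm F V) :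
    ∀ (n : ℕ) (W : Submodule F V), NdOn Q W → finrank F W = n + 1 →
      ∃ v : Fin (n + 1) → V, (∀ i, v i ∈ W) ∧ (∀ i j, i ≠ j → polar Q (v i) (v j) = 0) ∧
        (∀ i, i ≠ Fin.last n → Q (v i) = 1) ∧ Q (v (Fin.last n)) ≠ 0 := by
  intro n
  induction n with
  | zero =>
    intro W hW hdim
    have hne : W ≠ ⊥ := by
      intro h
      rw [h, finrank_bot] at hdim
      omega
    obtain ⟨x, hxW, hx0⟩ := Submodule.exists_mem_ne_zero_of_ne_bot hne
    refine ⟨fun _ => x, fun _ => hxW, ?_, ?_, ?_⟩
    · intro i j hij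
      exact absurd (Fin.ext (by have := i.2; have := j.2; omega)) hij
    · intro i hi
      exact absurd (Fin.ext (by have := i.2; simp)) hi
    · intro hQx
      apply hx0
      apply hW x hxW
      intro w' hw'
      have hx0' : (⟨x, hxW⟩ : W) ≠ 0 := fun h => hx0 (congrArg Subtype.val h)
      obtain ⟨c, hc⟩ := (finrank_eq_one_iff_of_nonzero' (⟨x, hxW⟩ : W) hx0').mp (by omega) ⟨w', hw'⟩
      have hc' : c • x = w' := congrArg Subtype.val hc
      rw [← hc', polar_smul_right, polar_self, hQx]
      simp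
  | succ n ih =>
    intro W hW hdim
    obtain ⟨x, hxW, hQx⟩ := exists_represents_one Q W hW (by omega)
    have hxx : polar Q x x ≠ 0 := by
      rw [polar_self, hQx]
      simpa using h2
    have hnd := perpOne_nd Q W hW hxW hxx
    have hfr := perpOne_finrank Q W hxW hxx
    obtain ⟨v, hvW, horth, hone, hlast⟩ := ih (perpOne Q W x) hnd (by omega)
    have hv' : ∀ i, v i ∈ W ∧ polar Q x (v i) = 0 := fun i => (mem_perpOne Q W x _).mp (hvW i)
    refine ⟨Fin.cons x v, ?_, ?_, ?_, ?_⟩
    · intro i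
      refine Fin.cases ?_ (fun i => ?_) i
      · simpa using hxW
      · simpa using (hv' i).1
    · intro i j
      refine Fin.cases ?_ (fun i => ?_) i <;> refine Fin.cases ?_ (fun j => ?_) j
      · intro h; exact absurd rfl h
      · intro _; simpa using (hv' j).2
      · intro _
        simp only [Fin.cons_succ, Fin.cons_zero]
        rw [polar_comm]; exact (hv' i).2
      · intro hij
        simp only [Fin.cons_succ]
        exact horth i j (fun h => hij (by rw [h]))
    · intro i
      refine Fin.cases ?_ (fun i => ?_) i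
      · intro _; simpa using hQx
      · intro hi
        simp only [Fin.cons_succ]
        apply hone i
        intro h
        apply hi
        rw [h, Fin.succ_last]
    · have : Fin.last (n + 1) = Fin.succ (Fin.last n) := (Fin.succ_last n).symm
      rw [this, Fin.cons_succ]
      exact hlast

/-- the polar form in standard coordinates -/
theorem polar_eq_gram {n : ℕ} (Q : QuadraticForm F (Fin n → F)) (u v : Fin n → F) :
    polar Q u v = u ⬝ᵥ (Matrix.of (fun i j : Fin n => polar Q (Pi.single i 1) (Pi.single j 1))).mulVec v := by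
  have h1 : Matrix.of (fun i j : Fin n => polar Q (Pi.single i 1) (Pi.single j 1))
      = LinearMap.toMatrix₂' F (polarBilin Q) := by
    ext i j
    rw [LinearMap.toMatrix₂'_apply, polarBilin_apply_apply, Matrix.of_apply]
  rw [h1, ← Matrix.toLinearMap₂'_apply', Matrix.toLinearMap₂'_toMatrix', polarBilin_apply_apply]

/-- an orthogonal family of anisotropic vectors is linearly independent (char ≠ 2) -/
theorem orth_linearIndependent (h2 : (2 : F) ≠ 0) (Q : QuadraticForm F V) {ι : Type*} [Fintype ι]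
    (v : ι → V) (horth : ∀ i j, i ≠ j → polar Q (v i) (v j) = 0) (hne : ∀ i, Q (v i) ≠ 0) :
    LinearIndependent F v := by
  classical
  rw [Fintype.linearIndependent_iff]
  intro g hg j
  have := congrArg (fun w => polarBilin Q (v j) w) hg
  simp only [map_sum, map_smul, polarBilin_apply_apply, map_zero, smul_eq_mul] at this
  rw [Finset.sum_eq_single j] at this
  · rw [polar_self] at this
    have h3 : g j * (2 * Q (v j)) = 0 := by simpa using this
    rcases mul_eq_zero.mp h3 with h | h
    · exact h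
    · exact absurd h (mul_ne_zero h2 (hne j))
  · intro i _ hij
    rw [horth j i (Ne.symm hij), mul_zero]
  · intro h; exact absurd (Finset.mem_univ j) h

/-- the Gram determinant of an orthogonal family `⟨1,…,1,a⟩` -/
theorem orth_gram_det (Q : QuadraticForm F V) {n : ℕ} (v : Fin (n + 1) → V)
    (horth : ∀ i j, i ≠ j → polar Q (v i) (v j) = 0) (hone : ∀ i, i ≠ Fin.last n → Q (v i) = 1) :
    (Matrix.of (fun i j : Fin (n + 1) => polar Q (v i) (v j))).det = 2 ^ (n + 1) * Q (v (Fin.last n)) := by
  have : Matrix.of (fun i j : Fin (n + 1) => polar Q (v i) (v j))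
      = Matrix.diagonal (fun i => 2 * Q (v i)) := by
    ext i j
    by_cases hij : i = j
    · subst hij
      rw [Matrix.of_apply, Matrix.diagonal_apply_eq, polar_self]
      simp
    · rw [Matrix.of_apply, Matrix.diagonal_apply_ne _ hij, horth i j hij]
  rw [this, Matrix.det_diagonal, Fin.prod_univ_castSucc]
  have h1 : ∀ i : Fin n, 2 * Q (v (Fin.castSucc i)) = 2 := by
    intro i
    rw [hone _ (Fin.castSucc_lt_last i).ne, mul_one]
  simp only [h1, Finset.prod_const, Finset.card_univ, Fintype.card_fin]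
  ring

theorem disc_of_isometric {n : ℕ} (Q₁ Q₂ : QuadraticForm F (Fin n → F))
    (g : (Fin n → F) ≃ₗ[F] (Fin n → F)) (hg : ∀ v, Q₂ (g v) = Q₁ v) :
    IsSquare ((Matrix.of (fun i j : Fin n => polar Q₁ (Pi.single i 1) (Pi.single j 1))).det *
      (Matrix.of (fun i j : Fin n => polar Q₂ (Pi.single i 1) (Pi.single j 1))).det) := by
  have hpol : ∀ u v, polar Q₂ (g u) (g v) = polar Q₁ u v := by
    intro u v
    simp only [polar, ← map_add, hg]
  obtain ⟨d, -, hd⟩ := gram_det (fun u v => polar Q₂ u v) _ (polar_eq_gram Q₂)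
    ((Pi.basisFun F (Fin n)).map g)
  have : (Matrix.of fun i j : Fin n => polar Q₂ (((Pi.basisFun F (Fin n)).map g) i) (((Pi.basisFun F (Fin n)).map g) j))
      = Matrix.of (fun i j : Fin n => polar Q₁ (Pi.single i 1) (Pi.single j 1)) := by
    ext i j
    simp only [Matrix.of_apply, Basis.map_apply, Pi.basisFun_apply, hpol]
  rw [this] at hd
  rw [hd]
  exact ⟨d * (Matrix.of (fun i j : Fin n => polar Q₂ (Pi.single i 1) (Pi.single j 1))).det, by ring⟩

theorem isometric_of_disc [Finite F] (h2 : (2 : F) ≠ 0) {n : ℕ} (Q₁ Q₂ : QuadraticForm F (Fin n → F))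
    (h₁ : (polarBilin Q₁).Nondegenerate) (h₂ : (polarBilin Q₂).Nondegenerate)
    (hsq : IsSquare ((Matrix.of (fun i j : Fin n => polar Q₁ (Pi.single i 1) (Pi.single j 1))).det *
      (Matrix.of (fun i j : Fin n => polar Q₂ (Pi.single i 1) (Pi.single j 1))).det)) :
    ∃ g : (Fin n → F) ≃ₗ[F] (Fin n → F), ∀ v, Q₂ (g v) = Q₁ v := by
  cases n with
  | zero =>
    refine ⟨LinearEquiv.refl _ _, fun v => ?_⟩
    have : v = 0 := Subsingleton.elim _ _
    rw [this, LinearEquiv.refl_apply, QuadraticMap.map_zero, QuadraticMap.map_zero]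
  | succ m =>
    have hfr : finrank F (⊤ : Submodule F (Fin (m + 1) → F)) = m + 1 := by
      rw [finrank_top, Module.finrank_fin_fun]
    obtain ⟨v₁, -, horth₁, hone₁, hlast₁⟩ := orth_family h2 Q₁ m ⊤ (ndOn_top Q₁ h₁) hfr
    obtain ⟨v₂, -, horth₂, hone₂, hlast₂⟩ := orth_family h2 Q₂ m ⊤ (ndOn_top Q₂ h₂) hfr
    have hne₁ : ∀ i, Q₁ (v₁ i) ≠ 0 := by
      intro i
      by_cases hi : i = Fin.last m
      · rw [hi]; exact hlast₁
      · rw [hone₁ i hi]; exact one_ne_zero
    have hne₂ : ∀ i, Q₂ (v₂ i) ≠ 0 := by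
      intro i
      by_cases hi : i = Fin.last m
      · rw [hi]; exact hlast₂
      · rw [hone₂ i hi]; exact one_ne_zero
    have hcard : Fintype.card (Fin (m + 1)) = finrank F (Fin (m + 1) → F) := by
      rw [Module.finrank_fin_fun, Fintype.card_fin]
    let b₁ := basisOfLinearIndependentOfCardEqFinrank' v₁ (orth_linearIndependent h2 Q₁ v₁ horth₁ hne₁) hcard
    let b₂ := basisOfLinearIndependentOfCardEqFinrank' v₂ (orth_linearIndependent h2 Q₂ v₂ horth₂ hne₂) hcard
    have hb₁ : ⇑b₁ = v₁ := coe_basisOfLinearIndependentOfCardEqFinrank' _ _ _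
    have hb₂ : ⇑b₂ = v₂ := coe_basisOfLinearIndependentOfCardEqFinrank' _ _ _
    obtain ⟨d₁, hd₁0, hd₁⟩ := gram_det (fun u v => polar Q₁ u v) _ (polar_eq_gram Q₁) b₁
    obtain ⟨d₂, hd₂0, hd₂⟩ := gram_det (fun u v => polar Q₂ u v) _ (polar_eq_gram Q₂) b₂
    simp only [hb₁] at hd₁
    simp only [hb₂] at hd₂
    rw [orth_gram_det Q₁ v₁ horth₁ hone₁] at hd₁
    rw [orth_gram_det Q₂ v₂ horth₂ hone₂] at hd₂
    obtain ⟨r, hr⟩ := hsq
    set a₁ := Q₁ (v₁ (Fin.last m)) with ha₁
    set a₂ := Q₂ (v₂ (Fin.last m)) with ha₂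
    have hpow : (2 : F) ^ (m + 1) ≠ 0 := pow_ne_zero _ h2
    -- a₂ = a₁ * s ^ 2
    obtain ⟨s, hs⟩ : ∃ s : F, a₂ = a₁ * s ^ 2 := by
      refine ⟨d₁ * d₂ * r / (2 ^ (m + 1) * a₁), ?_⟩
      field_simp
      have : (2 : F) ^ (m + 1) * a₁ * (2 ^ (m + 1) * a₂) = (d₁ * d₂ * r) ^ 2 := by
        rw [hd₁, hd₂]
        linear_combination (d₁ * d₁ * d₂ * d₂) * hr
      linear_combination this
    have hs0 : s ≠ 0 := by
      rintro rfl
      apply hlast₂
      rw [hs]; ring
    -- rescaled family
    let w : Fin (m + 1) → (Fin (m + 1) → F) := fun i => if i = Fin.last m then s⁻¹ • v₂ i else v₂ i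
    have hwQ : ∀ i, Q₂ (w i) = Q₁ (v₁ i) := by
      intro i
      by_cases hi : i = Fin.last m
      · simp only [w, hi, if_true, QuadraticMap.map_smul, smul_eq_mul]
        rw [← ha₂, ← ha₁, hs]
        field_simp
      · simp only [w, hi, if_false]
        rw [hone₂ i hi, hone₁ i hi]
    have hworth : ∀ i j, i ≠ j → polar Q₂ (w i) (w j) = 0 := by
      intro i j hij
      simp only [w]
      split_ifs <;> simp [polar_smul_left, polar_smul_right, horth₂ i j hij]
    have hwne : ∀ i, Q₂ (w i) ≠ 0 := fun i => by rw [hwQ]; exact hne₁ i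
    let b₂' := basisOfLinearIndependentOfCardEqFinrank' w (orth_linearIndependent h2 Q₂ w hworth hwne) hcard
    have hb₂' : ⇑b₂' = w := coe_basisOfLinearIndependentOfCardEqFinrank' _ _ _
    refine ⟨b₁.equiv b₂' (Equiv.refl _), ?_⟩
    have : Q₂.comp (b₁.equiv b₂' (Equiv.refl _)).toLinearMap = Q₁ := by
      apply quad_ext_basis b₁
      · intro i
        rw [comp_apply, LinearEquiv.coe_coe, Basis.equiv_apply, Equiv.refl_apply, hb₂', hb₁, hwQ]
      · intro i j hij
        have e1 : polar (Q₂.comp (b₁.equiv b₂' (Equiv.refl _)).toLinearMap) (b₁ i) (b₁ j)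
            = polar Q₂ (w i) (w j) := by
          simp only [polar, comp_apply, LinearEquiv.coe_coe, map_add, Basis.equiv_apply,
            Equiv.refl_apply, hb₂']
        rw [e1, hworth i j hij, hb₁, horth₁ i j hij]
    intro v
    have := DFunLike.congr_fun this v
    simpa using this

end Cfsg.Agent.Lib.Helper15
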