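import Mathlib
import Cfsg.Agent.Lib.Helper15.HermSub
import Cfsg.Agent.Lib.Helper12.ElusL

/-!
# Commuting isometries of a hermitian space (helper15)

`pair_main`: on a nondegenerate hermitian space of dimension `m ≥ 4` over `F_{q²}` (char `p`), if a
nontrivial isometry `u` with `u ^ p = 1` commutes with a nontrivial isometry `x` of prime order
`r ∤ q (q + 1)`, then `r ∣ q ^ i - (-1) ^ i` for some `2 ≤ i ≤ m - 2`.
-/

set_option autoImplicit false

namespace Cfsg.Agent.Lib.Helper15.HermPair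

open Module Cfsg.Agent.Lib.Helper14 Cfsg.Agent.Lib.Helper15.HermSub Cfsg.Agent.Lib.Helper12.Elus

section lin

variable {F V : Type*} [Field F] [AddCommGroup V] [Module F V]

theorem fix_sup_mov [FiniteDimensional F V] (x : V →ₗ[F] V) (r : ℕ) [Fact r.Prime]
    (hx : x ^ r = 1) (hr0 : (r : F) ≠ 0) : fixE x ⊔ movR x = ⊤ := by
  apply Submodule.eq_top_of_finrank_eq
  have h1 := Submodule.finrank_sup_add_finrank_inf_eq (fixE x) (movR x)
  rw [fix_inf_mov x r hx hr0, finrank_bot, add_zero, finrank_fix_add_mov] at h1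
  exact h1

theorem mov_inv_of_comm (x u : V →ₗ[F] V) (hxu : ∀ v, x (u v) = u (x v)) :
    ∀ v ∈ movR x, u v ∈ movR x := by
  rintro _ ⟨w, rfl⟩
  refine ⟨u w, ?_⟩
  simp only [LinearMap.sub_apply, Module.End.one_apply, map_sub, hxu]

theorem fix_inv_of_comm (x u : V →ₗ[F] V) (hxu : ∀ v, x (u v) = u (x v)) :
    ∀ v ∈ fixE x, u v ∈ fixE x := by
  intro v hv
  rw [mem_fixE] at hv ⊢
  rw [hxu, hv]

theorem exists_preimage (x : V →ₗ[F] V) (r : ℕ) (hr : 0 < r) (hx : x ^ r = 1)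
    (U : Submodule F V) (hU : ∀ v ∈ U, x v ∈ U) (b : V) (hb : b ∈ U) : ∃ b' ∈ U, x b' = b := by
  refine ⟨(x ^ (r - 1)) b, ?_, ?_⟩
  · have : ∀ k : ℕ, (x ^ k) b ∈ U := by
      intro k
      induction k with
      | zero => simpa using hb
      | succ k ih => rw [pow_succ', Module.End.mul_apply]; exact hU _ ih
    exact this _
  · rw [← Module.End.mul_apply, ← pow_succ', Nat.sub_add_cancel hr, hx, Module.End.one_apply]

open Polynomial in
theorem sub_one_pow_char' (p : ℕ) [Fact p.Prime] [CharP F p] (T : V →ₗ[F] V) :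
    (T - 1) ^ p = T ^ p - 1 := by
  have := congrArg (aeval T) (sub_pow_char (X : F[X]) 1 (p := p))
  rw [map_pow, map_sub, aeval_X, map_one, map_sub, map_pow, aeval_X, one_pow, map_one] at this
  exact this

theorem eq_self_of_finrank_le_one [FiniteDimensional F V] (p : ℕ) [hp : Fact p.Prime] [CharP F p]
    (u : V →ₗ[F] V) (hu : u ^ p = 1) (U : Submodule F V) (hU : ∀ v ∈ U, u v ∈ U)
    (hdim : finrank F U ≤ 1) : ∀ a ∈ U, u a = a := by
  intro a ha
  by_cases ha0 : a = 0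
  · rw [ha0, map_zero]
  have hex : ∃ c : F, c • a = u a := by
    obtain ⟨v, hv⟩ := finrank_le_one_iff.1 hdim
    obtain ⟨c1, hc1⟩ := hv ⟨a, ha⟩
    obtain ⟨c2, hc2⟩ := hv ⟨u a, hU a ha⟩
    have hc1' : c1 • (v : V) = a := by
      have := congrArg Subtype.val hc1
      simpa using this
    have hc2' : c2 • (v : V) = u a := by
      have := congrArg Subtype.val hc2
      simpa using this
    have hc10 : c1 ≠ 0 := by
      rintro rfl
      rw [zero_smul] at hc1'
      exact ha0 hc1'.symm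
    refine ⟨c2 * c1⁻¹, ?_⟩
    calc (c2 * c1⁻¹) • a = (c2 * c1⁻¹) • (c1 • (v : V)) := by rw [hc1']
      _ = c2 • (v : V) := by rw [smul_smul, mul_assoc, inv_mul_cancel₀ hc10, mul_one]
      _ = u a := hc2'
  obtain ⟨c, hc⟩ := hex
  have hk : ∀ k : ℕ, (u ^ k) a = c ^ k • a := by
    intro k
    induction k with
    | zero => simp
    | succ k ih => rw [pow_succ', Module.End.mul_apply, ih, map_smul, ← hc, smul_smul, pow_succ]
  have h1 := hk p
  rw [hu, Module.End.one_apply] at h1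
  have h2 : c ^ p = 1 := by
    have h3 : (c ^ p - 1) • a = 0 := by rw [sub_smul, one_smul, ← h1, sub_self]
    rcases smul_eq_zero.1 h3 with h | h
    · exact sub_eq_zero.1 h
    · exact absurd h ha0
  have h3 : (c - 1) ^ p = 0 := by rw [sub_pow_char, one_pow, h2, sub_self]
  have h4 : c = 1 := sub_eq_zero.1 ((pow_eq_zero_iff hp.out.ne_zero).1 h3)
  rw [← hc, h4, one_smul]

end lin

section herm

variable {F V : Type*} [Field F] [Fintype F] [AddCommGroup V] [Module F V] [FiniteDimensional F V]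
  {q : ℕ} {h : V → V → F} (hh : IsHerm q h) (hF : Fintype.card F = q ^ 2)
include hh hF

omit [FiniteDimensional F V] in
theorem fix_perp_mov (x : V →ₗ[F] V) (hiso : ∀ a b, h (x a) (x b) = h a b) (a : V)
    (ha : x a = a) (w : V) : h a ((x - 1) w) = 0 := by
  rw [LinearMap.sub_apply, Module.End.one_apply, hh.sub_right hF, ← hiso a w, ha, sub_self]

theorem ndOn_mov (x : V →ₗ[F] V) (hiso : ∀ a b, h (x a) (x b) = h a b) (r : ℕ) [Fact r.Prime]
    (hx : x ^ r = 1) (hr0 : (r : F) ≠ 0) (hnd : NdOn h ⊤) : NdOn h (movR x) := by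
  intro v hv hv0
  obtain ⟨w, -, hw⟩ := hnd v Submodule.mem_top hv0
  have hw' : w ∈ fixE x ⊔ movR x := by rw [fix_sup_mov x r hx hr0]; exact Submodule.mem_top
  obtain ⟨w0, hw0, w1, hw1, rfl⟩ := Submodule.mem_sup.1 hw'
  refine ⟨w1, hw1, ?_⟩
  rw [hh.add_right hF] at hw
  have h0 : h v w0 = 0 := by
    apply hh.eq_zero_symm hF
    obtain ⟨z, rfl⟩ := hv
    exact fix_perp_mov hh hF x hiso w0 ((mem_fixE x w0).1 hw0) z
  rwa [h0, zero_add] at hw

omit [FiniteDimensional F V] hF in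
theorem perp_invariant (x : V →ₗ[F] V) (hiso : ∀ a b, h (x a) (x b) = h a b) (r : ℕ)
    (hr : 0 < r) (hx : x ^ r = 1) (U : Submodule F V) (hU : ∀ v ∈ U, x v ∈ U) :
    ∀ c ∈ perp hh U, x c ∈ perp hh U := by
  intro c hc b hb
  obtain ⟨b', hb', rfl⟩ := exists_preimage x r hr hx U hU b hb
  rw [hiso]
  exact hc b' hb'

theorem fpf_dvd (r : ℕ) [hr : Fact r.Prime] (hr0 : (r : F) ≠ 0)
    (hrq : ¬ r ∣ q) (hrq1 : ¬ (r : ℤ) ∣ (q : ℤ) + 1) (x : V →ₗ[F] V)
    (hxiso : ∀ a b, h (x a) (x b) = h a b) (hx : x ^ r = 1)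
    (C : Submodule F V) (hCx : ∀ c ∈ C, x c ∈ C) (hCm : C ≤ movR x) (hC : NdOn h C)
    (hC0 : C ≠ ⊥) :
    2 ≤ finrank F C ∧ (r : ℤ) ∣ (q : ℤ) ^ (finrank F C) - (-1) ^ (finrank F C) := by
  have h1 := dvd_of_fpf hh hF C hC x hCx (fun a _ b _ => hxiso a b) r hr.out
    (fun c _ => by rw [hx, Module.End.one_apply])
    (fun c hc hxc => by
      have h2 : c ∈ fixE x ⊓ movR x := ⟨(mem_fixE x c).2 hxc, hCm hc⟩
      rw [fix_inf_mov x r hx hr0] at h2
      exact (Submodule.mem_bot F).1 h2) hrq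
  refine ⟨?_, h1⟩
  have h2 : 1 ≤ finrank F C := Submodule.one_le_finrank_iff.2 hC0
  by_contra h3
  have h4 : finrank F C = 1 := by omega
  rw [h4, pow_one, pow_one, sub_neg_eq_add] at h1
  exact hrq1 h1

/-- the main linear-algebra statement -/
theorem pair_main (p : ℕ) [hp : Fact p.Prime] [CharP F p] (r : ℕ) [hr : Fact r.Prime]
    (hr0 : (r : F) ≠ 0) (hrq : ¬ r ∣ q) (hrq1 : ¬ (r : ℤ) ∣ (q : ℤ) + 1)
    (hnd : NdOn h ⊤) (x u : V →ₗ[F] V) (hxu : ∀ v, x (u v) = u (x v))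
    (hxiso : ∀ a b, h (x a) (x b) = h a b) (huiso : ∀ a b, h (u a) (u b) = h a b)
    (hx : x ^ r = 1) (hu : u ^ p = 1) (hx1 : x ≠ 1) (hu1 : u ≠ 1) (hm : 4 ≤ finrank F V) :
    ∃ i, 2 ≤ i ∧ i + 2 ≤ finrank F V ∧ (r : ℤ) ∣ (q : ℤ) ^ i - (-1) ^ i := by
  classical
  have hV1nd : NdOn h (movR x) := ndOn_mov hh hF x hxiso r hx hr0 hnd
  have hV1x : ∀ c ∈ movR x, x c ∈ movR x := movR_invariant x
  have hV1ne : movR x ≠ ⊥ := by
    intro h0
    apply hx1
    ext v
    have h1 : (x - 1) v ∈ movR x := ⟨v, rfl⟩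
    rw [h0, Submodule.mem_bot, LinearMap.sub_apply, sub_eq_zero] at h1
    rw [h1]
  obtain ⟨h2V1, hdV1⟩ := fpf_dvd hh hF r hr0 hrq hrq1 x hxiso hx (movR x) hV1x le_rfl hV1nd hV1ne
  have hdim := finrank_fix_add_mov x
  by_cases hcase : finrank F (movR x) + 2 ≤ finrank F V
  · exact ⟨finrank F (movR x), h2V1, hcase, hdV1⟩
  have hV0dim : finrank F (fixE x) ≤ 1 := by omega
  have huV0 : ∀ a ∈ fixE x, u a = a :=
    eq_self_of_finrank_le_one p u hu (fixE x) (fix_inv_of_comm x u hxu) hV0dim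
  have hNapp : ∀ v, (u - 1) v = u v - v := fun v => by
    rw [LinearMap.sub_apply, Module.End.one_apply]
  have hNp : (u - 1) ^ p = 0 := by rw [sub_one_pow_char', hu, sub_self]
  have hN0 : u - 1 ≠ 0 := fun h0 => hu1 (sub_eq_zero.1 h0)
  have hNx : ∀ v, x ((u - 1) v) = (u - 1) (x v) := by
    intro v
    rw [hNapp, hNapp, map_sub, hxu]
  have hNV0 : ∀ a ∈ fixE x, (u - 1) a = 0 := by
    intro a ha
    rw [hNapp, huV0 a ha, sub_self]
  have hNV1 : ∀ v ∈ movR x, (u - 1) v ∈ movR x := mov_inv_of_comm x (u - 1) hNx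
  have hsplit : ∀ v : V, ∃ v0 ∈ fixE x, ∃ v1 ∈ movR x, v0 + v1 = v := by
    intro v
    have hv : v ∈ fixE x ⊔ movR x := by rw [fix_sup_mov x r hx hr0]; trivial
    exact Submodule.mem_sup.1 hv
  have hNV : ∀ v, (u - 1) v ∈ movR x := by
    intro v
    obtain ⟨v0, hv0, v1, hv1, rfl⟩ := hsplit v
    rw [map_add, hNV0 v0 hv0, zero_add]
    exact hNV1 v1 hv1
  have hKI : ∀ a w, u a = a → h a ((u - 1) w) = 0 := by
    intro a w hua
    rw [hNapp, hh.sub_right hF, ← huiso a w, hua, sub_self]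
  have hRV1 : movR x ⊓ fixE u ⊓ movR u ≤ movR x := fun v hv => hv.1.1
  have hRiso : ∀ a ∈ movR x ⊓ fixE u ⊓ movR u, ∀ b ∈ movR x ⊓ fixE u ⊓ movR u, h a b = 0 := by
    intro a ha b hb
    obtain ⟨w, rfl⟩ := hb.2
    exact hKI a w ((mem_fixE u a).1 ha.1.2)
  have hRne : movR x ⊓ fixE u ⊓ movR u ≠ ⊥ := by
    obtain ⟨v, hv⟩ : ∃ v, (u - 1) v ≠ 0 := by
      by_contra hcon
      push Not at hcon
      exact hN0 (LinearMap.ext hcon)
    have hex : ∃ k, ((u - 1) ^ (k + 1) : V →ₗ[F] V) v = 0 :=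
      ⟨p, by rw [pow_succ, hNp, zero_mul, LinearMap.zero_apply]⟩
    obtain ⟨k, hk, hmin⟩ : ∃ k, ((u - 1) ^ (k + 1) : V →ₗ[F] V) v = 0 ∧
        ∀ j < k, ((u - 1) ^ (j + 1) : V →ₗ[F] V) v ≠ 0 :=
      ⟨Nat.find hex, Nat.find_spec hex, fun j hj => Nat.find_min hex hj⟩
    have hk0 : k ≠ 0 := by
      intro h0
      rw [h0, zero_add, pow_one] at hk
      exact hv hk
    obtain ⟨j, rfl⟩ : ∃ j, k = j + 1 := ⟨k - 1, by omega⟩
    have hjn := hmin j (by omega)
    intro hbot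
    apply hjn
    have hmem : ((u - 1) ^ (j + 1) : V →ₗ[F] V) v ∈ movR x ⊓ fixE u ⊓ movR u := by
      refine ⟨⟨?_, ?_⟩, ?_⟩
      · rw [pow_succ', Module.End.mul_apply]
        exact hNV _
      · show ((u - 1) ^ (j + 1) : V →ₗ[F] V) v ∈ LinearMap.ker (u - 1)
        rw [LinearMap.mem_ker, ← Module.End.mul_apply, ← pow_succ']
        exact hk
      · rw [pow_succ', Module.End.mul_apply]
        exact ⟨_, rfl⟩
    rw [hbot] at hmem
    exact (Submodule.mem_bot F).1 hmem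
  have hRx : ∀ c ∈ movR x ⊓ fixE u ⊓ movR u, x c ∈ movR x ⊓ fixE u ⊓ movR u := by
    intro c hc
    refine ⟨⟨hV1x c hc.1.1, ?_⟩, ?_⟩
    · have h1 := (mem_fixE u c).1 hc.1.2
      exact (mem_fixE u (x c)).2 (by rw [← hxu, h1])
    · obtain ⟨w, rfl⟩ := hc.2
      exact ⟨x w, (hNx w).symm⟩
  have hWdim := finrank_inf_perp hh hF (movR x) (movR x ⊓ fixE u ⊓ movR u) hV1nd hRV1
  have hRW : movR x ⊓ fixE u ⊓ movR u ≤ movR x ⊓ perp hh (movR x ⊓ fixE u ⊓ movR u) :=
    fun v hv => ⟨hRV1 hv, fun b hb => hRiso v hv b hb⟩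
  have hRpos : 1 ≤ finrank F ↥(movR x ⊓ fixE u ⊓ movR u) := Submodule.one_le_finrank_iff.2 hRne
  obtain ⟨W', hcompl, hW'x⟩ := exists_invariant_compl x r hr0 1 one_ne_zero
    (by rw [hx, one_smul]) (movR x ⊓ fixE u ⊓ movR u) hRx
  -- name the pieces
  generalize hRdef : movR x ⊓ fixE u ⊓ movR u = R at *
  by_cases hcase2 : 2 * finrank F R < finrank F (movR x)
  · -- first case: a nondegenerate piece of dimension `n₁ - 2ρ`
    have hCR : W' ⊓ (movR x ⊓ perp hh R) ⊓ R = ⊥ := by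
      rw [eq_bot_iff]
      intro v hv
      have h1 : v ∈ R ⊓ W' := ⟨hv.2, hv.1.1⟩
      rw [hcompl.inf_eq_bot] at h1
      exact h1
    have hCsup : R ⊔ W' ⊓ (movR x ⊓ perp hh R) = movR x ⊓ perp hh R := by
      rw [← sup_inf_assoc_of_le W' hRW, hcompl.sup_eq_top, top_inf_eq]
    have hCdim : finrank F ↥(W' ⊓ (movR x ⊓ perp hh R)) + finrank F R =
        finrank F ↥(movR x ⊓ perp hh R) := by
      have h1 := Submodule.finrank_sup_add_finrank_inf_eq R (W' ⊓ (movR x ⊓ perp hh R))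
      rw [hCsup, inf_comm R, hCR, finrank_bot, add_zero] at h1
      omega
    have hWperp : movR x ⊓ perp hh (movR x ⊓ perp hh R) = R := by
      symm
      apply Submodule.eq_of_le_of_finrank_eq
      · intro v hv
        exact ⟨(hRW hv).1, fun w hw => hh.eq_zero_symm hF (hw.2 v hv)⟩
      · have h1 := finrank_inf_perp hh hF (movR x) (movR x ⊓ perp hh R) hV1nd inf_le_left
        omega
    have hCnd : NdOn h (W' ⊓ (movR x ⊓ perp hh R)) := by
      intro c hc hc0
      by_contra hcon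
      push Not at hcon
      have hcW : c ∈ perp hh (movR x ⊓ perp hh R) := by
        intro w hw
        rw [← hCsup] at hw
        obtain ⟨a, ha, b, hb, rfl⟩ := Submodule.mem_sup.1 hw
        rw [hh.add_right hF, hcon b hb, add_zero]
        exact hc.2.2 a ha
      have h1 : c ∈ W' ⊓ (movR x ⊓ perp hh R) ⊓ R :=
        ⟨hc, by rw [← hWperp]; exact ⟨hc.2.1, hcW⟩⟩
      rw [hCR] at h1
      exact hc0 ((Submodule.mem_bot F).1 h1)
    have hCx : ∀ c ∈ W' ⊓ (movR x ⊓ perp hh R), x c ∈ W' ⊓ (movR x ⊓ perp hh R) :=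
      fun c hc => ⟨hW'x c hc.1, hV1x c hc.2.1,
        perp_invariant hh x hxiso r hr.out.pos hx R hRx c hc.2.2⟩
    have hC0 : W' ⊓ (movR x ⊓ perp hh R) ≠ ⊥ := by
      intro h0
      rw [h0, finrank_bot] at hCdim
      omega
    obtain ⟨h2C, hdC⟩ := fpf_dvd hh hF r hr0 hrq hrq1 x hxiso hx _ hCx
      (fun c hc => hc.2.1) hCnd hC0
    exact ⟨_, h2C, by omega, hdC⟩
  · -- second case: `R` is a maximal totally isotropic subspace of `movR x`
    have hRK1 : R ≤ movR x ⊓ fixE u := by rw [← hRdef]; exact inf_le_left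
    have hRI : R ≤ movR u := by rw [← hRdef]; exact inf_le_right
    have hRle : finrank F R ≤ finrank F ↥(movR x ⊓ perp hh R) := Submodule.finrank_mono hRW
    have h2ρ : 2 * finrank F R = finrank F (movR x) := by omega
    have hmapI : (movR x).map (u - 1) = movR u := by
      apply le_antisymm (map_sub_one_le_movR u (movR x))
      rintro _ ⟨w, rfl⟩
      obtain ⟨w0, hw0, w1, hw1, rfl⟩ := hsplit w
      refine ⟨w1, hw1, ?_⟩
      rw [map_add, hNV0 w0 hw0, zero_add]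
    have hrn : finrank F (movR x) = finrank F ↥(movR x ⊓ fixE u) + finrank F (movR u) := by
      have h1 := finrank_eq_fix_add_map u (movR x)
      rwa [hmapI] at h1
    have hK1R : R = movR x ⊓ fixE u := by
      apply Submodule.eq_of_le_of_finrank_eq hRK1
      have h1 := Submodule.finrank_mono hRK1
      have h2 := Submodule.finrank_mono hRI
      omega
    have hIR : R = movR u := by
      apply Submodule.eq_of_le_of_finrank_eq hRI
      have h1 := Submodule.finrank_mono hRK1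
      have h2 := Submodule.finrank_mono hRI
      omega
    have hNR : ∀ v, (u - 1) v ∈ R := by
      intro v
      rw [hIR]
      exact ⟨v, rfl⟩
    have hNN : ∀ v w, h ((u - 1) v) ((u - 1) w) = 0 := fun v w => hRiso _ (hNR v) _ (hNR w)
    have hskew : ∀ v w, h ((u - 1) v) w = - h v ((u - 1) w) := by
      intro v w
      have h1 := huiso v w
      have hv : u v = v + (u - 1) v := by rw [hNapp]; abel
      have hw : u w = w + (u - 1) w := by rw [hNapp]; abel
      rw [hv, hw, hh.add_left, hh.add_right hF, hh.add_right hF, hNN v w, add_zero] at h1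
      linear_combination h1
    obtain ⟨τ, hτ0, hτ⟩ := Cfsg.Agent.S2643.frob_S hF
    have hh' : IsHerm q (fun v w => h v (τ • (u - 1) w)) := by
      refine ⟨fun a b w => hh.add_left a b _, fun c a w => hh.smul_left c a _, fun v w => ?_⟩
      show h v (τ • (u - 1) w) = (h w (τ • (u - 1) v)) ^ q
      rw [hh.smul_right hF, hh.smul_right hF, mul_pow, hh.pow_pow hF, ← hh.herm, hskew, hτ]
      ring
    have hCR : W' ⊓ movR x ⊓ R = ⊥ := by
      rw [eq_bot_iff]
      intro v hv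
      have h1 : v ∈ R ⊓ W' := ⟨hv.2, hv.1.1⟩
      rw [hcompl.inf_eq_bot] at h1
      exact h1
    have hCsup : R ⊔ W' ⊓ movR x = movR x := by
      rw [← sup_inf_assoc_of_le W' hRV1, hcompl.sup_eq_top, top_inf_eq]
    have hCdim : finrank F ↥(W' ⊓ movR x) + finrank F R = finrank F (movR x) := by
      have h1 := Submodule.finrank_sup_add_finrank_inf_eq R (W' ⊓ movR x)
      rw [hCsup, inf_comm R, hCR, finrank_bot, add_zero] at h1
      omega
    have hWR : movR x ⊓ perp hh R = R := by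
      symm
      apply Submodule.eq_of_le_of_finrank_eq hRW
      omega
    have hτq0 : τ ^ q ≠ 0 := pow_ne_zero _ hτ0
    have hCnd : NdOn (fun v w => h v (τ • (u - 1) w)) (W' ⊓ movR x) := by
      intro c hc hc0
      by_contra hcon
      push Not at hcon
      have hcR : c ∈ perp hh R := by
        intro b hb
        rw [hIR, ← hmapI] at hb
        obtain ⟨w1, hw1, rfl⟩ := hb
        rw [← hCsup] at hw1
        obtain ⟨a, ha, c', hc', rfl⟩ := Submodule.mem_sup.1 hw1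
        have ha0 : (u - 1) a = 0 := by
          rw [hNapp, (mem_fixE u a).1 (hRK1 ha).2, sub_self]
        rw [map_add, ha0, zero_add]
        have h2 : h c (τ • (u - 1) c') = 0 := hcon c' hc'
        rw [hh.smul_right hF] at h2
        rcases mul_eq_zero.1 h2 with h3 | h3
        · exact absurd h3 hτq0
        · exact h3
      have h1 : c ∈ W' ⊓ movR x ⊓ R := ⟨hc, by rw [← hWR]; exact ⟨hc.2, hcR⟩⟩
      rw [hCR] at h1
      exact hc0 ((Submodule.mem_bot F).1 h1)
    have hCx : ∀ c ∈ W' ⊓ movR x, x c ∈ W' ⊓ movR x :=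
      fun c hc => ⟨hW'x c hc.1, hV1x c hc.2⟩
    have hC0 : W' ⊓ movR x ≠ ⊥ := by
      intro h0
      rw [h0, finrank_bot] at hCdim
      omega
    have hxiso' : ∀ a b, (fun v w => h v (τ • (u - 1) w)) (x a) (x b) =
        (fun v w => h v (τ • (u - 1) w)) a b := by
      intro a b
      show h (x a) (τ • (u - 1) (x b)) = h a (τ • (u - 1) b)
      rw [← hNx b, ← map_smul, hxiso]
    obtain ⟨h2C, hdC⟩ := fpf_dvd hh' hF r hr0 hrq hrq1 x hxiso' hx _ hCx
      (fun c hc => hc.2) hCnd hC0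
    exact ⟨_, h2C, by omega, hdC⟩

end herm

end Cfsg.Agent.Lib.Helper15.HermPair
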