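import Mathlib

namespace Cfsg.Agent.Lib.Helper15.SylowLarge

open Polynomial

section arith

variable {r : ℕ} [hr : Fact r.Prime] {q : ℕ}

omit hr in
lemma q_pos (hrq : ¬ r ∣ q) : 0 < q :=
  Nat.pos_of_ne_zero (by rintro rfl; exact hrq (dvd_zero r))

/-- `r ∣ q ^ i - 1` iff `d ∣ i`. -/
lemma dvd_pow_sub_one_iff (hrq : ¬ r ∣ q) (i : ℕ) :
    r ∣ q ^ i - 1 ↔ orderOf (q : ZMod r) ∣ i := by
  rw [orderOf_dvd_iff_pow_eq_one]
  have hq1 : 1 ≤ q ^ i := Nat.one_le_pow _ _ (q_pos hrq)
  rw [← ZMod.natCast_eq_zero_iff, Nat.cast_sub hq1, Nat.cast_pow, Nat.cast_one, sub_eq_zero]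

lemma d_pos (hrq : ¬ r ∣ q) : 0 < orderOf (q : ZMod r) := by
  rw [orderOf_pos_iff, isOfFinOrder_iff_pow_eq_one]
  refine ⟨r - 1, ?_, ?_⟩
  · have := hr.out.two_le
    omega
  · apply ZMod.pow_card_sub_one_eq_one
    rwa [Ne, ZMod.natCast_eq_zero_iff]

lemma d_dvd (hrq : ¬ r ∣ q) : orderOf (q : ZMod r) ∣ r - 1 := by
  rw [orderOf_dvd_iff_pow_eq_one]
  apply ZMod.pow_card_sub_one_eq_one
  rwa [Ne, ZMod.natCast_eq_zero_iff]

/-- the `r`-part of `Φ_d(q)` is the `r`-part of `q ^ d - 1`. -/
lemma val_cyclo (hq : 2 ≤ q) (hrq : ¬ r ∣ q) :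
    padicValNat r ((cyclotomic (orderOf (q : ZMod r)) ℤ).eval (q : ℤ)).natAbs =
      padicValNat r (q ^ orderOf (q : ZMod r) - 1) := by
  set d := orderOf (q : ZMod r) with hd
  have hd0 : 0 < d := d_pos hrq
  have hprod := prod_cyclotomic_eq_X_pow_sub_one hd0 ℤ
  rw [← Nat.insert_self_properDivisors hd0.ne', Finset.prod_insert Nat.self_notMem_properDivisors]
    at hprod
  have hev := congrArg (Polynomial.eval (q : ℤ)) hprod
  rw [eval_mul, eval_prod] at hev
  simp only [eval_sub, eval_pow, eval_X, eval_one] at hev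
  have hq1 : 1 ≤ q ^ d := Nat.one_le_pow _ _ (q_pos hrq)
  have hne : q ^ d - 1 ≠ 0 := by
    have : 2 ^ d ≤ q ^ d := Nat.pow_le_pow_left hq d
    have : 2 ≤ 2 ^ d := by
      calc 2 = 2 ^ 1 := by norm_num
        _ ≤ 2 ^ d := Nat.pow_le_pow_right (by norm_num) hd0
    omega
  have hnat : ((cyclotomic d ℤ).eval (q : ℤ)).natAbs *
      (∏ e ∈ d.properDivisors, (cyclotomic e ℤ).eval (q : ℤ)).natAbs = q ^ d - 1 := by
    rw [← Int.natAbs_mul, hev]
    have : ((q : ℤ) ^ d - 1) = ((q ^ d - 1 : ℕ) : ℤ) := by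
      rw [Nat.cast_sub hq1]; push_cast; ring
    rw [this, Int.natAbs_natCast]
  have hA : ((cyclotomic d ℤ).eval (q : ℤ)).natAbs ≠ 0 := by
    intro h; rw [h, zero_mul] at hnat; exact hne hnat.symm
  have hB : (∏ e ∈ d.properDivisors, (cyclotomic e ℤ).eval (q : ℤ)).natAbs ≠ 0 := by
    intro h; rw [h, mul_zero] at hnat; exact hne hnat.symm
  rw [← hnat, padicValNat.mul hA hB]
  have hR : ¬ r ∣ (∏ e ∈ d.properDivisors, (cyclotomic e ℤ).eval (q : ℤ)).natAbs := by
    intro hdvd
    rw [← Int.natCast_dvd] at hdvd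
    have hrp : Prime (r : ℤ) := Nat.prime_iff_prime_int.mp hr.out
    obtain ⟨e, he, hre⟩ := (Prime.dvd_finsetProd_iff hrp _).mp hdvd
    rw [Nat.mem_properDivisors] at he
    have h1 : (cyclotomic e ℤ).eval (q : ℤ) ∣ (q : ℤ) ^ e - 1 := by
      have := Polynomial.eval_dvd (x := (q : ℤ)) (cyclotomic.dvd_X_pow_sub_one e ℤ)
      simpa using this
    have h2 : (r : ℤ) ∣ ((q ^ e - 1 : ℕ) : ℤ) := by
      have hqe : 1 ≤ q ^ e := Nat.one_le_pow _ _ (q_pos hrq)
      rw [Nat.cast_sub hqe]; push_cast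
      exact hre.trans h1
    rw [Int.natCast_dvd_natCast, dvd_pow_sub_one_iff hrq] at h2
    have he0 : 0 < e := by
      rcases Nat.eq_zero_or_pos e with h | h
      · subst h; have := he.1; rw [zero_dvd_iff] at this; omega
      · exact h
    have := Nat.le_of_dvd he0 h2
    omega
  rw [padicValNat.eq_zero_of_not_dvd hR, add_zero]

/-- for `1 ≤ i < r`, the `r`-part of `q ^ i - 1`. -/
lemma val_pow (hq : 2 ≤ q) (hrq : ¬ r ∣ q) {i : ℕ} (hi : 0 < i) (hir : i < r) :
    padicValNat r (q ^ i - 1) =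
      if orderOf (q : ZMod r) ∣ i then padicValNat r (q ^ orderOf (q : ZMod r) - 1) else 0 := by
  set d := orderOf (q : ZMod r) with hd
  split_ifs with h
  · obtain ⟨j, rfl⟩ := h
    have hd0 : 0 < d := d_pos hrq
    have hj0 : 0 < j := by
      rcases Nat.eq_zero_or_pos j with h | h
      · subst h; omega
      · exact h
    rcases Nat.lt_or_ge 1 j with hj | hj
    · have hr3 : Odd r := by
        rcases hr.out.eq_two_or_odd' with h2 | h2
        · exfalso
          have : 2 ≤ d * j := by nlinarith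
          omega
        · exact h2
      have hqd : 1 < q ^ d := by
        calc 1 < 2 := by norm_num
          _ = 2 ^ 1 := by norm_num
          _ ≤ 2 ^ d := Nat.pow_le_pow_right (by norm_num) hd0
          _ ≤ q ^ d := Nat.pow_le_pow_left hq d
      have h1 := padicValNat.pow_sub_pow (p := r) hr3 (x := q ^ d) (y := 1) hqd
        ((dvd_pow_sub_one_iff hrq d).mpr dvd_rfl)
        (fun hh => hrq (hr.out.dvd_of_dvd_pow hh)) (n := j) hj0.ne'
      rw [one_pow, ← pow_mul] at h1
      rw [h1]
      have : ¬ r ∣ j := by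
        intro hrj
        have := Nat.le_of_dvd hj0 hrj
        have : j ≤ d * j := Nat.le_mul_of_pos_left j hd0
        omega
      rw [padicValNat.eq_zero_of_not_dvd this, add_zero]
    · have : j = 1 := by omega
      subst this
      rw [mul_one]
  · apply padicValNat.eq_zero_of_not_dvd
    rwa [dvd_pow_sub_one_iff hrq]

/-- the `r`-part of `|GL_n(q)|` for `n < r`. -/
lemma val_GL (hq : 2 ≤ q) (hrq : ¬ r ∣ q) {n : ℕ} (hn : n < r) :
    (∏ i : Fin n, (q ^ n - q ^ (i : ℕ))).factorization r =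
      (n / orderOf (q : ZMod r)) * padicValNat r (q ^ orderOf (q : ZMod r) - 1) := by
  set d := orderOf (q : ZMod r) with hd
  have hq0 : 0 < q := q_pos hrq
  rw [Fin.prod_univ_eq_prod_range (fun i => q ^ n - q ^ i) n]
  have hterm : ∀ i ∈ Finset.range n, q ^ n - q ^ i = q ^ i * (q ^ (n - i) - 1) := by
    intro i hi
    rw [Finset.mem_range] at hi
    rw [Nat.mul_sub, mul_one, ← pow_add]
    congr 2; omega
  rw [Finset.prod_congr rfl hterm]
  have hne : ∀ i ∈ Finset.range n, q ^ i * (q ^ (n - i) - 1) ≠ 0 := by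
    intro i hi
    rw [Finset.mem_range] at hi
    apply mul_ne_zero (pow_ne_zero _ hq0.ne')
    have : 2 ^ (n - i) ≤ q ^ (n - i) := Nat.pow_le_pow_left hq _
    have : 2 ^ 1 ≤ 2 ^ (n - i) := Nat.pow_le_pow_right (by norm_num) (by omega)
    omega
  rw [Nat.factorization_prod hne, Finsupp.finsetSum_apply]
  have hterm2 : ∀ i ∈ Finset.range n, (q ^ i * (q ^ (n - i) - 1)).factorization r =
      if d ∣ (n - i) then padicValNat r (q ^ d - 1) else 0 := by
    intro i hi
    have hne' := hne i hi
    rw [Finset.mem_range] at hi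
    rw [Nat.factorization_mul (left_ne_zero_of_mul hne') (right_ne_zero_of_mul hne'),
      Finsupp.add_apply, Nat.factorization_pow, Finsupp.smul_apply,
      Nat.factorization_eq_zero_of_not_dvd hrq, smul_zero, zero_add,
      Nat.factorization_def _ hr.out, val_pow hq hrq (by omega) (by omega)]
  rw [Finset.sum_congr rfl hterm2, Finset.sum_ite, Finset.sum_const_zero, add_zero,
    Finset.sum_const, smul_eq_mul]
  congr 1
  rw [← Nat.Ioc_filter_dvd_card_eq_div n d]
  apply Finset.card_bij (fun i _ => n - i)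
  · intro i hi
    rw [Finset.mem_filter, Finset.mem_range] at hi
    rw [Finset.mem_filter, Finset.mem_Ioc]
    exact ⟨⟨by omega, by omega⟩, hi.2⟩
  · intro i hi j hj hij
    rw [Finset.mem_filter, Finset.mem_range] at hi hj
    omega
  · intro j hj
    rw [Finset.mem_filter, Finset.mem_Ioc] at hj
    refine ⟨n - j, ?_, by omega⟩
    rw [Finset.mem_filter, Finset.mem_range]
    refine ⟨by omega, ?_⟩
    have : n - (n - j) = j := by omega
    rw [this]; exact hj.2

end arith

section general

/-- a cyclic group has `ZMod m` embedded for every `m` dividing its order. -/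
lemma exists_zmod_hom {G : Type*} [Group G] [Finite G] [IsCyclic G] (m : ℕ)
    (hm : m ∣ Nat.card G) : ∃ f : Multiplicative (ZMod m) →* G, Function.Injective f := by
  obtain ⟨g, hg⟩ := IsCyclic.exists_ofOrder_eq_natCard (α := G)
  have hN : 0 < Nat.card G := Nat.card_pos
  obtain ⟨c, hc⟩ := hm
  have hc0 : c ≠ 0 := by rintro rfl; rw [mul_zero] at hc; omega
  have hm0 : m ≠ 0 := by rintro rfl; rw [zero_mul] at hc; omega
  have hx : orderOf (g ^ c) = m := by
    rw [orderOf_pow_of_dvd hc0 (by rw [hg, hc]; exact dvd_mul_left c m), hg, hc,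
      Nat.mul_div_cancel _ (Nat.pos_of_ne_zero hc0)]
  have hcard : Nat.card (Subgroup.zpowers (g ^ c)) = m := by rw [Nat.card_zpowers, hx]
  subst hcard
  exact ⟨(Subgroup.zpowers (g ^ c)).subtype.comp (zmodCyclicMulEquiv inferInstance).toMonoidHom,
    (Subgroup.subtype_injective _).comp (MulEquiv.injective _)⟩

/-- an embedded group of the right order is isomorphic to every Sylow subgroup. -/
lemma sylow_equiv_of_embedding {G T : Type*} [Group G] [Finite G] [Group T] (r : ℕ)
    [Fact r.Prime] (f : T →* G) (hf : Function.Injective f)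
    (hT : Nat.card T = r ^ (Nat.card G).factorization r) (P : Sylow r G) :
    Nonempty (↥(P : Subgroup G) ≃* T) := by
  have hcard : Nat.card f.range = r ^ (Nat.card G).factorization r := by
    rw [← hT]; exact Nat.card_congr (MonoidHom.ofInjective hf).symm.toEquiv
  let Q : Sylow r G := Sylow.ofCard f.range hcard
  obtain ⟨g, hg⟩ := MulAction.exists_smul_eq G Q P
  have e1 : ↥(Q : Subgroup G) ≃* ↥((g • Q : Sylow r G) : Subgroup G) := Sylow.equivSMul Q g
  rw [hg] at e1
  have e2 : ↥(Q : Subgroup G) ≃* T := (MonoidHom.ofInjective hf).symm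
  exact ⟨e1.symm.trans e2⟩

end general

section torus

variable {F : Type*} [Field F] [Fintype F]

/-- the torus `(K^×)^a` acting on `K^a × F^b`. -/
lemma exists_torus_hom (K : Type*) [Field K] [Algebra F K] [Module.Finite F K] (a b n : ℕ)
    (hn : a * Module.finrank F K + b = n) :
    ∃ f : (Fin a → Kˣ) →* GL (Fin n) F, Function.Injective f := by
  classical
  let V := (Fin a → K) × (Fin b → F)
  have hV : Module.finrank F V = n := by
    rw [Module.finrank_prod, Module.finrank_pi_fintype, Module.finrank_fin_fun, ← hn]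
    simp
  let bas : Module.Basis (Fin n) F V := Module.finBasisOfFinrankEq F V hV
  let e : GL (Fin n) F ≃* LinearMap.GeneralLinearGroup F V := Matrix.GeneralLinearGroup.toLin' bas
  let Ψ : (Fin a → K) →* Module.End F V :=
    (LinearMap.prodMapRingHom F (Fin a → K) (Fin b → F)).toMonoidHom.comp
      (MonoidHom.prod (Algebra.lmul F (Fin a → K)).toRingHom.toMonoidHom 1)
  have hΨ : Function.Injective Ψ := by
    intro u u' h
    have := congrArg (fun φ : Module.End F V => (φ ((1 : Fin a → K), (0 : Fin b → F))).1) h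
    change u * 1 = u' * 1 at this
    simpa using this
  refine ⟨e.symm.toMonoidHom.comp ((Units.map Ψ).comp MulEquiv.piUnits.symm.toMonoidHom), ?_⟩
  exact (e.symm.injective.comp (Units.map_injective hΨ)).comp MulEquiv.piUnits.symm.injective

end torus

section GLmain

variable {F : Type*} [Field F] [Fintype F]

lemma pi_hom_injective {ι : Type*} {A B : Type*} [Monoid A] [Monoid B] (f : A →* B)
    (hf : Function.Injective f) :
    Function.Injective (MonoidHom.pi (fun i : ι => f.comp (Pi.evalMonoidHom (fun _ : ι => A) i))) := by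
  intro x y h
  funext i
  exact hf (congrFun h i)

lemma card_torus (a m : ℕ) [NeZero m] :
    Nat.card (Fin a → Multiplicative (ZMod m)) = m ^ a := by
  rw [Nat.card_fun, Nat.card_fin]
  congr 1
  exact (Nat.card_congr Multiplicative.toAdd).trans (Nat.card_zmod m)

theorem gl_main {q : ℕ} (hq : Fintype.card F = q) (n : ℕ)
    (r : ℕ) [hr : Fact r.Prime] (hrn : n < r) (hrq : ¬ r ∣ q) (P : Sylow r (GL (Fin n) F)) :
    Nonempty (↥(P : Subgroup (GL (Fin n) F)) ≃*
      (Fin (n / orderOf (q : ZMod r)) →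
        Multiplicative (ZMod (r ^ padicValNat r ((Polynomial.cyclotomic (orderOf (q : ZMod r)) ℤ).eval (q : ℤ)).natAbs)))) := by
  classical
  have hq2 : 2 ≤ q := by rw [← hq]; exact Fintype.one_lt_card
  rw [val_cyclo hq2 hrq]
  set d := orderOf (q : ZMod r) with hd
  have hd0 : 0 < d := d_pos hrq
  have : NeZero d := ⟨hd0.ne'⟩
  obtain ⟨p, hp⟩ := CharP.exists F
  have : Fact p.Prime := ⟨CharP.char_is_prime F p⟩
  let K := FiniteField.Extension F p d
  have hfr : Module.finrank F K = d := FiniteField.finrank_extension F p d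
  have hKcard : Nat.card K = q ^ d := by
    rw [FiniteField.natCard_extension, Nat.card_eq_fintype_card, hq]
  have : Fintype K := Fintype.ofFinite K
  have hKu : Nat.card Kˣ = q ^ d - 1 := by
    rw [Nat.card_units, hKcard]
  set v := padicValNat r (q ^ d - 1) with hv
  have hm : r ^ v ∣ Nat.card Kˣ := by rw [hKu]; exact pow_padicValNat_dvd
  obtain ⟨ι, hι⟩ := exists_zmod_hom (G := Kˣ) (r ^ v) hm
  obtain ⟨τ, hτ⟩ := exists_torus_hom (F := F) K (n / d) (n % d) n
    (by rw [hfr, mul_comm]; exact Nat.div_add_mod n d)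
  have : NeZero (r ^ v) := ⟨pow_ne_zero _ hr.out.ne_zero⟩
  refine sylow_equiv_of_embedding r
    (τ.comp (MonoidHom.pi (fun i => ι.comp (Pi.evalMonoidHom _ i))))
    (hτ.comp (pi_hom_injective ι hι)) ?_ P
  rw [card_torus, Matrix.card_GL_field, hq, val_GL hq2 hrq hrn, ← pow_mul, mul_comm]

end GLmain

section SLmain

variable {F : Type*} [Field F] [Fintype F]

open Matrix

/-- `|SL_n(F)| * (q - 1) = |GL_n(F)|` for `n ≥ 1`. -/
theorem card_SL_mul (n : ℕ) (hn : 1 ≤ n) :
    Nat.card (SpecialLinearGroup (Fin n) F) * (Fintype.card F - 1) = Nat.card (GL (Fin n) F) := by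
  have : Nonempty (Fin n) := ⟨⟨0, hn⟩⟩
  let d : GL (Fin n) F →* Fˣ := Matrix.GeneralLinearGroup.det
  have hsurj : Function.Surjective d := Matrix.GeneralLinearGroup.det_surjective
  have hker : Nat.card d.ker = Nat.card (SpecialLinearGroup (Fin n) F) := by
    refine (Nat.card_congr (Equiv.ofBijective
      (fun A : SpecialLinearGroup (Fin n) F => (⟨SpecialLinearGroup.toGL A, ?_⟩ : d.ker)) ⟨?_, ?_⟩)).symm
    · rw [MonoidHom.mem_ker]
      exact SpecialLinearGroup.coeToGL_det A
    · intro A B h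
      exact SpecialLinearGroup.toGL_injective (congrArg Subtype.val h)
    · rintro ⟨g, hg⟩
      rw [MonoidHom.mem_ker] at hg
      have hdet : (g : Matrix (Fin n) (Fin n) F).det = 1 := by
        have := congrArg Units.val hg
        rwa [Matrix.GeneralLinearGroup.val_det_apply] at this
      refine ⟨⟨(g : Matrix (Fin n) (Fin n) F), hdet⟩, ?_⟩
      apply Subtype.ext
      apply Units.ext
      rfl
  have h1 := Subgroup.card_mul_index d.ker
  rw [Subgroup.index_ker, hker] at h1
  rw [← h1]
  congr 1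
  have : d.range = ⊤ := MonoidHom.range_eq_top.mpr hsurj
  rw [this, Nat.card_congr (Subgroup.topEquiv (G := Fˣ)).toEquiv, Nat.card_units, Nat.card_eq_fintype_card]

lemma card_filter_Icc (n d : ℕ) (hn : 1 ≤ n) :
    ((Finset.Icc 2 n).filter (fun i => d ∣ i)).card + (if d ∣ 1 then 1 else 0) = n / d := by
  rw [← Nat.Ioc_filter_dvd_card_eq_div n d]
  have h : Finset.Ioc 0 n = insert 1 (Finset.Icc 2 n) := by
    ext x
    simp only [Finset.mem_Ioc, Finset.mem_insert, Finset.mem_Icc]
    omega
  rw [h, Finset.filter_insert]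
  split_ifs with h1
  · rw [Finset.card_insert_of_notMem]
    simp
  · rw [add_zero]

lemma val_SL {q : ℕ} (hq : Fintype.card F = q) {r : ℕ} [hr : Fact r.Prime] (hrq : ¬ r ∣ q)
    {n : ℕ} (hn1 : 1 ≤ n) (hn : n < r) :
    (Nat.card (SpecialLinearGroup (Fin n) F)).factorization r =
      ((Finset.Icc 2 n).filter (fun i => orderOf (q : ZMod r) ∣ i)).card *
        padicValNat r (q ^ orderOf (q : ZMod r) - 1) := by
  have hq2 : 2 ≤ q := by rw [← hq]; exact Fintype.one_lt_card
  have h1 := card_SL_mul (F := F) n hn1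
  have h2 : (Nat.card (SpecialLinearGroup (Fin n) F) * (Fintype.card F - 1)).factorization r =
      (Nat.card (GL (Fin n) F)).factorization r := by rw [h1]
  have hq1 : q - 1 ≠ 0 := by omega
  rw [Nat.factorization_mul Nat.card_pos.ne' (by rw [hq]; exact hq1), Finsupp.add_apply,
    Matrix.card_GL_field, hq, val_GL hq2 hrq hn, ← card_filter_Icc n _ hn1, add_mul,
    Nat.factorization_def _ hr.out, Nat.factorization_def _ hr.out] at h2
  have h3 := val_pow hq2 hrq (i := 1) one_pos (by have := hr.out.two_le; omega)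
  rw [pow_one] at h3
  rw [h3] at h2
  rw [Nat.factorization_def _ hr.out]
  by_cases h : orderOf (q : ZMod r) ∣ 1
  · rw [if_pos h, if_pos h, one_mul] at h2; omega
  · rw [if_neg h, if_neg h, zero_mul] at h2; omega

omit [Fintype F] in
/-- diagonal embedding of `A ^ a` into `SL_{a+1}`. -/
lemma exists_diag_hom {A : Type*} [Group A] (ι : A →* Fˣ) (hι : Function.Injective ι) (a n : ℕ)
    (h : a + 1 = n) :
    ∃ f : (Fin a → A) →* SpecialLinearGroup (Fin n) F, Function.Injective f := by
  classical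
  subst h
  let D : (Fin a → A) → (Fin (a + 1) → F) := fun x =>
    Fin.cons (((∏ i, ι (x i))⁻¹ : Fˣ) : F) (fun i => ((ι (x i) : Fˣ) : F))
  have hD0 : ∀ x, D x 0 = (((∏ i, ι (x i))⁻¹ : Fˣ) : F) := fun x => rfl
  have hDs : ∀ x (i : Fin a), D x i.succ = ((ι (x i) : Fˣ) : F) := fun x i => rfl
  have hDmul : ∀ x y, D (x * y) = D x * D y := by
    intro x y
    funext j
    refine Fin.cases ?_ (fun i => ?_) j
    · rw [Pi.mul_apply, hD0, hD0, hD0, ← Units.val_mul, ← mul_inv, ← Finset.prod_mul_distrib]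
      simp
    · rw [Pi.mul_apply, hDs, hDs, hDs, ← Units.val_mul, ← map_mul]
      rfl
  have hdet : ∀ x, (Matrix.diagonal (D x)).det = 1 := by
    intro x
    rw [Matrix.det_diagonal, Fin.prod_univ_succ, hD0]
    simp only [hDs]
    rw [← Units.coe_prod, ← Units.val_mul, inv_mul_cancel, Units.val_one]
  refine ⟨MonoidHom.mk' (fun x => ⟨Matrix.diagonal (D x), hdet x⟩) ?_, ?_⟩
  · intro x y
    apply Subtype.ext
    show Matrix.diagonal (D (x * y)) = Matrix.diagonal (D x) * Matrix.diagonal (D y)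
    rw [Matrix.diagonal_mul_diagonal, hDmul]
    rfl
  · intro x y hxy
    have h1 : Matrix.diagonal (D x) = Matrix.diagonal (D y) := congrArg Subtype.val hxy
    have h2 : D x = D y := Matrix.diagonal_injective h1
    funext i
    apply hι
    apply Units.ext
    have := congrFun h2 i.succ
    rwa [hDs, hDs] at this

omit [Fintype F] in
/-- a hom to `GL_n` with trivial determinant lands in `SL_n`. -/
lemma exists_sl_hom_of_gl {T : Type*} [Group T] {n : ℕ} (φ : T →* GL (Fin n) F)
    (hφ : Function.Injective φ) (hdet : ∀ t, Matrix.GeneralLinearGroup.det (φ t) = 1) :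
    ∃ f : T →* SpecialLinearGroup (Fin n) F, Function.Injective f := by
  have hdet' : ∀ t, ((φ t : GL (Fin n) F) : Matrix (Fin n) (Fin n) F).det = 1 := by
    intro t
    have := congrArg Units.val (hdet t)
    rwa [Matrix.GeneralLinearGroup.val_det_apply] at this
  refine ⟨MonoidHom.mk' (fun t => ⟨((φ t : GL (Fin n) F) : Matrix (Fin n) (Fin n) F), hdet' t⟩) ?_, ?_⟩
  · intro x y
    apply Subtype.ext
    show ((φ (x * y) : GL (Fin n) F) : Matrix (Fin n) (Fin n) F) = _
    rw [map_mul]
    rfl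
  · intro x y hxy
    apply hφ
    apply Units.ext
    exact congrArg Subtype.val hxy

theorem sl_main {q : ℕ} (hq : Fintype.card F = q) (n : ℕ)
    (r : ℕ) [hr : Fact r.Prime] (hrn : n < r) (hrq : ¬ r ∣ q)
    (P : Sylow r (SpecialLinearGroup (Fin n) F)) :
    Nonempty (↥(P : Subgroup (SpecialLinearGroup (Fin n) F)) ≃*
      (Fin ((Finset.Icc 2 n).filter (fun i => orderOf (q : ZMod r) ∣ i)).card →
        Multiplicative (ZMod (r ^ padicValNat r ((Polynomial.cyclotomic (orderOf (q : ZMod r)) ℤ).eval (q : ℤ)).natAbs)))) := by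
  classical
  have hq2 : 2 ≤ q := by rw [← hq]; exact Fintype.one_lt_card
  rw [val_cyclo hq2 hrq]
  set d := orderOf (q : ZMod r) with hd
  have hd0 : 0 < d := d_pos hrq
  set v := padicValNat r (q ^ d - 1) with hv
  have : NeZero (r ^ v) := ⟨pow_ne_zero _ hr.out.ne_zero⟩
  set a := ((Finset.Icc 2 n).filter (fun i => d ∣ i)).card with ha
  rcases Nat.eq_zero_or_pos n with hn0 | hn1
  · -- `n = 0`
    subst hn0
    have ha0 : a = 0 := by rw [ha]; simp
    rw [ha0]
    have h1 : Subsingleton (SpecialLinearGroup (Fin 0) F) :=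
      ⟨fun x y => Subtype.ext (Subsingleton.elim _ _)⟩
    have h2 : Unique ↥(P : Subgroup (SpecialLinearGroup (Fin 0) F)) := @Unique.mk' _ ⟨1⟩ _
    exact ⟨MulEquiv.ofUnique⟩
  have hval := val_SL (F := F) hq hrq hn1 hrn
  rw [← hd, ← hv, ← ha] at hval
  have hcard : Nat.card (Fin a → Multiplicative (ZMod (r ^ v))) =
      r ^ (Nat.card (SpecialLinearGroup (Fin n) F)).factorization r := by
    rw [card_torus, hval, ← pow_mul, mul_comm]
  have hacard := card_filter_Icc n d hn1
  rw [← ha] at hacard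
  by_cases hd1 : d ∣ 1
  · -- `d = 1`, diagonal torus
    rw [if_pos hd1] at hacard
    have hd1' : d = 1 := Nat.dvd_one.mp hd1
    rw [hd1', Nat.div_one] at hacard
    have hm : r ^ v ∣ Nat.card Fˣ := by
      rw [Nat.card_units, Nat.card_eq_fintype_card, hq, hv, hd1', pow_one]
      exact pow_padicValNat_dvd
    obtain ⟨ι, hι⟩ := exists_zmod_hom (G := Fˣ) (r ^ v) hm
    obtain ⟨f, hf⟩ := exists_diag_hom (F := F) ι hι a n hacard
    exact sylow_equiv_of_embedding r f hf hcard P
  · -- `d ≥ 2`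
    rw [if_neg hd1, add_zero] at hacard
    have : NeZero d := ⟨hd0.ne'⟩
    obtain ⟨p, hp⟩ := CharP.exists F
    have : Fact p.Prime := ⟨CharP.char_is_prime F p⟩
    let K := FiniteField.Extension F p d
    have hfr : Module.finrank F K = d := FiniteField.finrank_extension F p d
    have hKcard : Nat.card K = q ^ d := by
      rw [FiniteField.natCard_extension, Nat.card_eq_fintype_card, hq]
    have : Fintype K := Fintype.ofFinite K
    have hKu : Nat.card Kˣ = q ^ d - 1 := by
      rw [Nat.card_units, hKcard]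
    have hm : r ^ v ∣ Nat.card Kˣ := by rw [hKu]; exact pow_padicValNat_dvd
    obtain ⟨ι, hι⟩ := exists_zmod_hom (G := Kˣ) (r ^ v) hm
    obtain ⟨τ, hτ⟩ := exists_torus_hom (F := F) K a (n % d) n
      (by rw [hfr, hacard, mul_comm]; exact Nat.div_add_mod n d)
    set φ := τ.comp (MonoidHom.pi (fun i => ι.comp (Pi.evalMonoidHom _ i))) with hφ
    have hφinj : Function.Injective φ := hτ.comp (pi_hom_injective ι hι)
    have hdet : ∀ t, Matrix.GeneralLinearGroup.det (φ t) = 1 := by
      intro t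
      rw [← orderOf_eq_one_iff]
      have h1 : orderOf (Matrix.GeneralLinearGroup.det (φ t)) ∣ orderOf t := by
        have := orderOf_map_dvd (Matrix.GeneralLinearGroup.det.comp φ) t
        exact this
      have h2 : orderOf t ∣ r ^ (a * v) := by
        have := orderOf_dvd_natCard t
        rwa [card_torus, ← pow_mul, mul_comm] at this
      have h3 : orderOf (Matrix.GeneralLinearGroup.det (φ t)) ∣ q - 1 := by
        have := orderOf_dvd_natCard (Matrix.GeneralLinearGroup.det (φ t))
        rwa [Nat.card_units, Nat.card_eq_fintype_card, hq] at this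
      have hr1 : ¬ r ∣ q - 1 := by
        have := (dvd_pow_sub_one_iff hrq 1).not.mpr hd1
        rwa [pow_one] at this
      have hcop : Nat.Coprime (r ^ (a * v)) (q - 1) :=
        Nat.Coprime.pow_left _ ((Nat.Prime.coprime_iff_not_dvd hr.out).mpr hr1)
      exact Nat.eq_one_of_dvd_coprimes hcop (h1.trans h2) h3
    obtain ⟨f, hf⟩ := exists_sl_hom_of_gl φ hφinj hdet
    exact sylow_equiv_of_embedding r f hf hcard P

end SLmain

end Cfsg.Agent.Lib.Helper15.SylowLarge
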