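import Mathlib
import Cfsg.Agent.Lib.Helper12.SpG
import Cfsg.Agent.S2364

/-! Helper15 library: an element of odd prime order `r` of a symplectic group whose block
dimension is the whole dimension has no nontrivial `p`-elements in its centralizer. -/

set_option autoImplicit false
set_option linter.unusedSectionVars false

namespace Cfsg.Agent.Lib.Helper15.SpCentral

open Module Polynomial Cfsg.Agent.Lib.Helper12.Elus Cfsg.Agent.Lib.Helper12.Sp

section main

variable {F V : Type*} [Field F] [Fintype F] [AddCommGroup V] [Module F V] [FiniteDimensional F V]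
  {p : ℕ} [Fact p.Prime] [CharP F p]

omit [Fintype F] [FiniteDimensional F V] [Fact p.Prime] [CharP F p] in
theorem commute_aeval (A C : V →ₗ[F] V) (hAC : Commute A C) (P : F[X]) :
    Commute A (aeval C P) := by
  induction P using Polynomial.induction_on' with
  | add p q hp hq =>
    rw [map_add]
    exact hp.add_right hq
  | monomial n a =>
    rw [← C_mul_X_pow_eq_monomial, map_mul, aeval_C, map_pow, aeval_X]
    exact (Algebra.commute_algebraMap_right a A).mul_right (hAC.pow_right n)

/-- a `p`-element has a nonzero fixed vector on every nonzero invariant subspace -/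
theorem fix_ne_bot (A : V →ₗ[F] V) (hA : A ^ p = 1) (W : Submodule F V)
    (hW : ∀ w ∈ W, A w ∈ W) (hW0 : W ≠ ⊥) : W ⊓ fixE A ≠ ⊥ := by
  have : Finite V := Module.finite_of_finite F
  have hp := (Fact.out : p.Prime)
  have h1 := Cfsg.Agent.S2364.mod_lemma A hA W hW
  rw [Cfsg.Agent.S2364.card_sub, Cfsg.Agent.S2364.card_sub] at h1
  intro h0
  have h0' : W ⊓ LinearMap.ker (A - 1) = ⊥ := h0
  rw [h0', finrank_bot, pow_zero] at h1
  have hpos : 0 < finrank F W := by
    rw [Nat.pos_iff_ne_zero]
    intro h
    exact hW0 (Submodule.finrank_eq_zero.1 h)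
  obtain ⟨k, -, hk⟩ := FiniteField.card F p
  have h2 : p ∣ Fintype.card F ^ finrank F W := by
    rw [hk]
    exact dvd_pow (dvd_pow_self p k.pos.ne') hpos.ne'
  have h3 : Fintype.card F ^ finrank F W ≡ 0 [MOD p] := (Nat.modEq_zero_iff_dvd).2 h2
  have h4 : 1 ≡ 0 [MOD p] := h1.symm.trans h3
  have h5 : p ∣ 1 := (Nat.modEq_zero_iff_dvd).1 h4
  exact hp.one_lt.ne' (Nat.dvd_one.1 h5)

/-- the centralizer of an element of odd prime order `r ≠ p` whose block dimension is at least
the dimension contains no nontrivial `p`-element -/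
theorem centralizer_p_trivial (B : LinearMap.BilinForm F V) (halt : ∀ v, B v v = 0)
    (hnd : ∀ x, (∀ y, B x y = 0) → x = 0) (r : ℕ) [Fact r.Prime] (hr2 : r ≠ 2) (hrp : r ≠ p)
    (A C : V →ₗ[F] V) (hAC : Commute A C) (hA : A ^ p = 1) (hC : C ^ r = 1) (hC1 : C ≠ 1)
    (hiso : ∀ u v, B (C u) (C v) = B u v) (n : ℕ) (hdim : finrank F V = 2 * n) (hn : 2 ≤ n)
    (hbig : 2 * n ≤ blockDim (Fintype.card F) r) : A = 1 := by
  classical
  have : Finite V := Module.finite_of_finite F
  have hr := (Fact.out : r.Prime)
  have hr0 : (r : F) ≠ 0 := by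
    rw [Ne, CharP.cast_eq_zero_iff F p]
    intro hd
    exact hrp ((Nat.prime_dvd_prime_iff_eq Fact.out hr).1 hd).symm
  have hCA : ∀ v, C (A v) = A (C v) := fun v => by
    have := congrArg (fun f : Module.End F V => f v) hAC.eq
    exact this.symm
  -- `C` is fixed-point-free
  have hndtop : NdOn B ⊤ := by
    intro u _ hu0
    by_contra hcon
    push Not at hcon
    exact hu0 (hnd u (fun y => hcon y Submodule.mem_top))
  have hmovnd : NdOn B (movR C) := by
    have := ndOn_inf_mov B C halt hiso r hC hr0 ⊤ (fun v _ => Submodule.mem_top) hndtop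
    rwa [top_inf_eq] at this
  have hmovinv : ∀ u ∈ movR C, C u ∈ movR C := by
    rintro _ ⟨u, rfl⟩
    exact ⟨C u, by simp [map_sub]⟩
  have hmov0 : movR C ≠ ⊥ := by
    intro h0
    apply hC1
    have h1 : LinearMap.range (C - 1) = ⊥ := h0
    rw [LinearMap.range_eq_bot] at h1
    exact sub_eq_zero.1 h1
  have hchain := (exists_nd_chain B C r halt hiso hrp hr2 hC (finrank F (movR C)) (movR C) rfl
    hmovinv le_rfl hmovnd).1
  have hmovpos : 0 < finrank F (movR C) := by
    rw [Nat.pos_iff_ne_zero]
    intro h
    exact hmov0 (Submodule.finrank_eq_zero.1 h)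
  have hmovle : finrank F (movR C) ≤ 2 * n := hdim ▸ Submodule.finrank_le _
  have hble : blockDim (Fintype.card F) r ≤ finrank F (movR C) := Nat.le_of_dvd hmovpos hchain
  have hmovtop : movR C = ⊤ := by
    apply Submodule.eq_top_of_finrank_eq
    omega
  have hbeq : blockDim (Fintype.card F) r = 2 * n := by omega
  set k := orderOf (Fintype.card F : ZMod r) with hk
  by_cases hev : Even k
  · -- the linear argument suffices
    have hb : blockDim (Fintype.card F) r = k := by
      rw [blockDim, if_pos hev]
    exact Cfsg.Agent.S2364.lin_main (Ne.symm hrp) A C hAC hA hC hC1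
      (by rw [hdim, ← hk]; omega) (by rw [hdim, ← hk]; omega)
  · have hodd : Odd k := Nat.not_even_iff_odd.1 hev
    have hb : blockDim (Fintype.card F) r = 2 * k := by
      rw [blockDim, if_neg hev]
    have hkn : k = n := by omega
    by_contra hA1
    -- the fixed space of `A`
    have hUinv : ∀ u ∈ fixE A, C u ∈ fixE A := by
      intro u hu
      rw [mem_fixE] at hu ⊢
      rw [← hCA, hu]
    have hU0 : fixE A ≠ ⊥ := by
      have := fix_ne_bot A hA ⊤ (fun _ _ => Submodule.mem_top) (by
        intro h
        have h1 : finrank F (⊤ : Submodule F V) = 0 := by rw [h, finrank_bot]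
        rw [finrank_top, hdim] at h1
        omega)
      rwa [top_inf_eq] at this
    have hUtop : fixE A ≠ ⊤ := by
      intro h
      apply hA1
      have h1 : LinearMap.ker (A - 1) = ⊤ := h
      exact sub_eq_zero.1 (LinearMap.ker_eq_top.1 h1)
    have hdvd : ∀ X : Submodule F V, (∀ u ∈ X, C u ∈ X) → k ∣ finrank F X := by
      intro X hX
      exact orderOf_dvd_finrank_of_le_movR C r hC hr0 X hX (by rw [hmovtop]; exact le_top)
    have hkpos : 0 < k := by omega
    have hdimk : ∀ X : Submodule F V, (∀ u ∈ X, C u ∈ X) → X ≠ ⊥ → X ≠ ⊤ → finrank F X = k := by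
      intro X hX hX0 hXtop
      obtain ⟨c, hc⟩ := hdvd X hX
      have h1 : 0 < finrank F X := by
        rw [Nat.pos_iff_ne_zero]
        intro h
        exact hX0 (Submodule.finrank_eq_zero.1 h)
      have h2 : finrank F X < 2 * k := by
        have h3 := Submodule.finrank_lt hXtop
        rw [hdim] at h3
        omega
      have hc1 : c = 1 := by
        rcases Nat.lt_or_ge c 2 with h | h
        · rcases Nat.eq_zero_or_pos c with h0 | h0
          · subst h0; omega
          · omega
        · have : k * 2 ≤ k * c := Nat.mul_le_mul_left k h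
          omega
      rw [hc, hc1, mul_one]
    have hUdim := hdimk (fixE A) hUinv hU0 hUtop
    -- the range of `A - 1`
    have hRinv : ∀ u ∈ movR A, C u ∈ movR A := by
      rintro _ ⟨u, rfl⟩
      refine ⟨C u, ?_⟩
      simp only [LinearMap.sub_apply, Module.End.one_apply, map_sub, hCA]
    have hRA : ∀ u ∈ movR A, A u ∈ movR A := by
      rintro _ ⟨u, rfl⟩
      exact ⟨A u, by simp [map_sub]⟩
    have hRdim : finrank F (movR A) = k := by
      have h1 := LinearMap.finrank_range_add_finrank_ker (A - 1)
      have h2 : finrank F (LinearMap.ker (A - 1)) = k := hUdim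
      have h3 : finrank F (LinearMap.range (A - 1)) = finrank F (movR A) := rfl
      omega
    have hR0 : movR A ≠ ⊥ := by
      intro h
      rw [h, finrank_bot] at hRdim
      omega
    have hRU : movR A ≤ fixE A := by
      have h1 := fix_ne_bot A hA (movR A) hRA hR0
      have h2 : ∀ u ∈ movR A ⊓ fixE A, C u ∈ movR A ⊓ fixE A :=
        fun u hu => ⟨hRinv u hu.1, hUinv u hu.2⟩
      have h3 : movR A ⊓ fixE A ≠ ⊤ := by
        intro h
        apply hUtop
        rw [eq_top_iff, ← h]
        exact inf_le_right
      have h4 := hdimk _ h2 h1 h3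
      have h5 : movR A ⊓ fixE A = movR A :=
        Submodule.eq_of_le_of_finrank_eq inf_le_left (by rw [h4, hRdim])
      rw [← h5]
      exact inf_le_right
    -- the minimal polynomial on the fixed space of `A`
    obtain ⟨W, hWU, hWinv, hWdim, ⟨h, hm, hdeg, hWh⟩, -⟩ := exists_iso_or_nd B C r halt hiso hrp hC
      hr0 (fixE A) hUinv (by rw [hmovtop]; exact le_top) hU0
    have hWeq : W = fixE A := Submodule.eq_of_le_of_finrank_eq hWU (by rw [hWdim, hUdim])
    have hcomm : ∀ (P : F[X]) v, (A - 1) (aeval C P v) = aeval C P ((A - 1) v) := by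
      intro P v
      have h1 : Commute (A - 1) (aeval C P) := by
        apply Commute.sub_left
        · exact commute_aeval A C hAC P
        · exact Commute.one_left _
      have := congrArg (fun f : Module.End F V => f v) h1.eq
      exact this
    have hsq : ∀ v, aeval C h (aeval C h v) = 0 := by
      intro v
      apply hWh
      rw [hWeq, fixE, LinearMap.mem_ker, hcomm]
      apply hWh
      rw [hWeq]
      exact hRU ⟨v, rfl⟩
    have hsq' : aeval C (h ^ 2) = 0 := by
      apply LinearMap.ext
      intro v
      rw [pow_two, map_mul, Module.End.mul_apply, hsq]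
      rfl
    have hXr : aeval C (X ^ r - 1 : F[X]) = 0 := by
      rw [map_sub, map_pow, aeval_X, hC, map_one, sub_self]
    have hsqf : Squarefree (X ^ r - 1 : F[X]) := by
      have := (separable_X_pow_sub_C (1 : F) hr0 one_ne_zero).squarefree
      rwa [map_one] at this
    have hmin1 : minpoly F C ∣ X ^ r - 1 := minpoly.dvd F C hXr
    have hmin2 : minpoly F C ∣ h ^ 2 := minpoly.dvd F C hsq'
    have hmin3 : minpoly F C ∣ h :=
      ((hsqf.squarefree_of_dvd hmin1).dvd_pow_iff_dvd two_ne_zero).1 hmin2
    have hh0 : aeval C h = 0 := by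
      obtain ⟨g, hg⟩ := hmin3
      rw [hg, map_mul, minpoly.aeval, zero_mul]
    obtain ⟨U', -, -, hU'nd, hU'dim⟩ := polar B C r halt hiso hr2 hC hr0 ⊤
      (fun _ _ => Submodule.mem_top) (by rw [hmovtop]) hndtop (by
        intro h
        have h1 : finrank F (⊤ : Submodule F V) = 0 := by rw [h, finrank_bot]
        rw [finrank_top, hdim] at h1
        omega) h hm hdeg (by omega) (fun u _ => by rw [hh0]; rfl)
    have heven := even_finrank_of_ndOn B halt U' hU'nd
    rw [hU'dim] at heven
    exact hev heven

end main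

end Cfsg.Agent.Lib.Helper15.SpCentral
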