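import Mathlib
import Cfsg.Agent.Lib.Helper15.HermPair
import Cfsg.Agent.Lib.Helper15.QuadOrth
import Cfsg.Agent.Lib.Helper15.SpCentral
import Cfsg.Agent.Lib.Helper12.SpA
import Cfsg.Agent.Lib.Helper25.GraphSplit4

/-!
# Isometries of quadratic spaces in odd characteristic (helper15)

Semisimple and unipotent isometries of a quadratic space: the commutator space of a semisimple
isometry is nondegenerate, nondegenerate invariant subspaces without fixed points have even dimension,
square-zero unipotent isometries have even rank, structure of commuting involutions.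
-/

set_option autoImplicit false

namespace Cfsg.Agent.Lib.Helper15.OrthSemi

open Module QuadraticMap Cfsg.Agent.Lib.Helper15 Cfsg.Agent.Lib.Helper15.HermPair
  Cfsg.Agent.Lib.Helper12.Elus

section basic

variable {F V : Type*} [Field F] [AddCommGroup V] [Module F V] (Q : QuadraticForm F V)

theorem polar_iso (x : V →ₗ[F] V) (hx : ∀ v, Q (x v) = Q v) (v w : V) :
    polar Q (x v) (x w) = polar Q v w := by
  unfold polar
  rw [← map_add, hx, hx, hx]

theorem fix_perp_mov (x : V →ₗ[F] V) (hx : ∀ v, Q (x v) = Q v) (a : V) (ha : x a = a) (w : V) :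
    polar Q a ((x - 1) w) = 0 := by
  rw [LinearMap.sub_apply, Module.End.one_apply, polar_sub_right, ← polar_iso Q x hx a w, ha,
    sub_self]

theorem mov_perp_fix (x : V →ₗ[F] V) (hx : ∀ v, Q (x v) = Q v) (a : V) (ha : x a = a) (w : V) :
    polar Q ((x - 1) w) a = 0 := by
  rw [polar_comm]
  exact fix_perp_mov Q x hx a ha w

/-- a summand of an orthogonal decomposition of a nondegenerate subspace is nondegenerate -/
theorem ndOn_left_of_orth (A C W : Submodule F V) (hAC : A ⊔ C = W)
    (horth : ∀ a ∈ A, ∀ c ∈ C, polar Q a c = 0) (hW : NdOn Q W) : NdOn Q A := by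
  intro a ha hall
  apply hW a (hAC ▸ (le_sup_left : A ≤ A ⊔ C) ha)
  intro w hw
  rw [← hAC] at hw
  obtain ⟨a', ha', c, hc, rfl⟩ := Submodule.mem_sup.1 hw
  rw [polar_add_right, hall a' ha', horth a ha c hc, add_zero]

theorem ndOn_right_of_orth (A C W : Submodule F V) (hAC : A ⊔ C = W)
    (horth : ∀ a ∈ A, ∀ c ∈ C, polar Q a c = 0) (hW : NdOn Q W) : NdOn Q C := by
  apply ndOn_left_of_orth Q C A W (by rw [sup_comm]; exact hAC) _ hW
  intro c hc a ha
  rw [polar_comm]
  exact horth a ha c hc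

theorem ndOn_mov [FiniteDimensional F V] (hQ : NdOn Q ⊤) (x : V →ₗ[F] V)
    (hx : ∀ v, Q (x v) = Q v) (r : ℕ) [Fact r.Prime] (hxr : x ^ r = 1) (hr0 : (r : F) ≠ 0) :
    NdOn Q (movR x) := by
  apply ndOn_right_of_orth Q (fixE x) (movR x) ⊤ (fix_sup_mov x r hxr hr0) _ hQ
  rintro a ha _ ⟨w, rfl⟩
  exact fix_perp_mov Q x hx a ((mem_fixE x a).1 ha) w

theorem ndOn_fix [FiniteDimensional F V] (hQ : NdOn Q ⊤) (x : V →ₗ[F] V)
    (hx : ∀ v, Q (x v) = Q v) (r : ℕ) [Fact r.Prime] (hxr : x ^ r = 1) (hr0 : (r : F) ≠ 0) :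
    NdOn Q (fixE x) := by
  apply ndOn_left_of_orth Q (fixE x) (movR x) ⊤ (fix_sup_mov x r hxr hr0) _ hQ
  rintro a ha _ ⟨w, rfl⟩
  exact fix_perp_mov Q x hx a ((mem_fixE x a).1 ha) w

theorem pow_mem_of_invariant (x : V →ₗ[F] V) (U : Submodule F V) (hU : ∀ v ∈ U, x v ∈ U)
    (k : ℕ) : ∀ v ∈ U, (x ^ k) v ∈ U := by
  induction k with
  | zero => intro v hv; simpa using hv
  | succ k ih =>
    intro v hv
    rw [pow_succ', Module.End.mul_apply]
    exact hU _ (ih v hv)

/-- nondegenerate invariant subspaces of the commutator space of an isometry of odd prime order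
have even dimension -/
theorem even_finrank_of_fpf [FiniteDimensional F V] (x : V →ₗ[F] V)
    (hx : ∀ v, Q (x v) = Q v) (r : ℕ) [hr : Fact r.Prime] (hr2 : r ≠ 2) (hxr : x ^ r = 1)
    (hr0 : (r : F) ≠ 0) (U : Submodule F V) (hUx : ∀ v ∈ U, x v ∈ U) (hUm : U ≤ movR x)
    (hU : NdOn Q U) : Even (finrank F U) := by
  have hrpos : 0 < r := hr.out.pos
  have hxx : ∀ v, x ((x ^ (r - 1)) v) = v := by
    intro v
    rw [← Module.End.mul_apply, ← pow_succ', Nat.sub_add_cancel hrpos, hxr, Module.End.one_apply]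
  have halt : ∀ v, (LinearMap.BilinForm.compLeft (polarBilin Q) (x - x ^ (r - 1))) v v = 0 := by
    intro v
    rw [LinearMap.BilinForm.compLeft_apply, polarBilin_apply_apply, LinearMap.sub_apply,
      polar_sub_left]
    have h1 : polar Q ((x ^ (r - 1)) v) v = polar Q v (x v) := by
      rw [← polar_iso Q x hx ((x ^ (r - 1)) v) v, hxx]
    rw [h1, polar_comm, sub_self]
  apply Cfsg.Agent.Lib.Helper12.Sp.even_finrank_of_ndOn _ halt U
  intro u hu hu0
  have hyu : (x - x ^ (r - 1)) u ∈ U := by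
    rw [LinearMap.sub_apply]
    exact U.sub_mem (hUx u hu) (pow_mem_of_invariant x U hUx _ u hu)
  have hyu0 : (x - x ^ (r - 1)) u ≠ 0 := by
    intro h0
    rw [LinearMap.sub_apply, sub_eq_zero] at h0
    -- `x (x u) = u`
    have h1 : x (x u) = u := by rw [h0, hxx]
    have hodd : Odd r := hr.out.odd_of_ne_two hr2
    obtain ⟨j, hj⟩ := hodd
    have h2 : ∀ i : ℕ, (x ^ (2 * i)) u = u := by
      intro i
      induction i with
      | zero => simp
      | succ i ih =>
        rw [mul_add, mul_one, pow_add, Module.End.mul_apply, pow_two, Module.End.mul_apply, h1, ih]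
    have h3 : x u = u := by
      have h4 : (x ^ (r + 1)) u = x u := by
        rw [pow_succ', Module.End.mul_apply, hxr, Module.End.one_apply]
      rw [← h4, show r + 1 = 2 * (j + 1) by omega]
      exact h2 (j + 1)
    have h5 : u ∈ fixE x ⊓ movR x := ⟨(mem_fixE x u).2 h3, hUm hu⟩
    rw [fix_inf_mov x r hxr hr0] at h5
    exact hu0 ((Submodule.mem_bot F).1 h5)
  by_contra hcon
  push Not at hcon
  apply hyu0
  apply hU _ hyu
  intro w hw
  have := hcon w hw
  rwa [LinearMap.BilinForm.compLeft_apply, polarBilin_apply_apply] at this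

end basic

section parity

variable {F V : Type*} [Field F] [AddCommGroup V] [Module F V] (Q : QuadraticForm F V)

theorem polar_expand (u : V →ₗ[F] V) (hu : ∀ v, Q (u v) = Q v) (v w : V) :
    polar Q v ((u - 1) w) + polar Q ((u - 1) v) w + polar Q ((u - 1) v) ((u - 1) w) = 0 := by
  have h1 := polar_iso Q u hu v w
  have hv : u v = v + (u - 1) v := by rw [LinearMap.sub_apply, Module.End.one_apply]; abel
  have hw : u w = w + (u - 1) w := by rw [LinearMap.sub_apply, Module.End.one_apply]; abel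
  rw [hv, hw, polar_add_left, polar_add_right, polar_add_right] at h1
  linear_combination h1

/-- a square-zero unipotent isometry of a nondegenerate quadratic space (char ≠ 2) has even rank -/
theorem even_rank_of_sq_zero [FiniteDimensional F V] (h2 : (2 : F) ≠ 0) (hQ : NdOn Q ⊤)
    (u : V →ₗ[F] V) (hu : ∀ v, Q (u v) = Q v) (hN : ∀ v, (u - 1) ((u - 1) v) = 0) :
    Even (finrank F (LinearMap.range (u - 1))) := by
  have hNN : ∀ v w, polar Q ((u - 1) v) ((u - 1) w) = 0 := by
    intro v w
    have h1 := polar_expand Q u hu v ((u - 1) w)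
    rw [hN w, polar_zero_right, polar_zero_right, zero_add, add_zero] at h1
    exact h1
  have hskew : ∀ v w, polar Q ((u - 1) v) w = - polar Q v ((u - 1) w) := by
    intro v w
    have h1 := polar_expand Q u hu v w
    rw [hNN, add_zero] at h1
    linear_combination h1
  have halt : ∀ v, (LinearMap.BilinForm.compLeft (polarBilin Q) (u - 1)) v v = 0 := by
    intro v
    rw [LinearMap.BilinForm.compLeft_apply, polarBilin_apply_apply]
    have h1 := hskew v v
    rw [polar_comm Q v] at h1
    have h3 : (2 : F) * polar Q ((u - 1) v) v = 0 := by linear_combination h1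
    exact (mul_eq_zero.1 h3).resolve_left h2
  obtain ⟨C, hC⟩ := Submodule.exists_isCompl (LinearMap.ker (u - 1))
  have hdimC : finrank F C = finrank F (LinearMap.range (u - 1)) := by
    have h1 := Submodule.finrank_add_eq_of_isCompl hC
    have h3 := LinearMap.finrank_range_add_finrank_ker (u - 1)
    omega
  rw [← hdimC]
  apply Cfsg.Agent.Lib.Helper12.Sp.even_finrank_of_ndOn _ halt C
  intro c hc hc0
  have hNc : (u - 1) c ≠ 0 := by
    intro h0
    have h1 : c ∈ LinearMap.ker (u - 1) ⊓ C := ⟨LinearMap.mem_ker.2 h0, hc⟩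
    rw [hC.inf_eq_bot] at h1
    exact hc0 ((Submodule.mem_bot F).1 h1)
  by_contra hcon
  push Not at hcon
  apply hNc
  apply hQ _ Submodule.mem_top
  intro w _
  have hw : w ∈ LinearMap.ker (u - 1) ⊔ C := by rw [hC.sup_eq_top]; trivial
  obtain ⟨a, ha, b, hb, rfl⟩ := Submodule.mem_sup.1 hw
  rw [polar_add_right, hskew c a, LinearMap.mem_ker.1 ha, polar_zero_right, neg_zero, zero_add]
  have h1 := hcon b hb
  rwa [LinearMap.BilinForm.compLeft_apply, polarBilin_apply_apply] at h1

/-- the restriction of a quadratic form to a subspace -/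
noncomputable def resQ (W : Submodule F V) : QuadraticForm F W := Q.comp W.subtype

theorem resQ_apply (W : Submodule F V) (w : W) : resQ Q W w = Q (w : V) := rfl

theorem polar_resQ (W : Submodule F V) (w w' : W) :
    polar (resQ Q W) w w' = polar Q (w : V) (w' : V) := rfl

theorem ndOn_top_resQ (W : Submodule F V) (hW : NdOn Q W) : NdOn (resQ Q W) ⊤ := by
  intro w _ hall
  apply Subtype.ext
  apply hW w w.2
  intro w' hw'
  exact hall ⟨w', hw'⟩ Submodule.mem_top

theorem nondegenerate_resQ (W : Submodule F V) (hW : NdOn Q W) :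
    (polarBilin (resQ Q W)).Nondegenerate := by
  have key : ∀ w : W, (∀ w', polar (resQ Q W) w w' = 0) → w = 0 := fun w hw =>
    ndOn_top_resQ Q W hW w Submodule.mem_top (fun w' _ => hw w')
  constructor
  · intro x hx
    exact key x (fun y => by have := hx y; rwa [polarBilin_apply_apply] at this)
  · intro y hy
    exact key y (fun x => by have := hy x; rwa [polarBilin_apply_apply, polar_comm] at this)

/-- the restricted version of `even_rank_of_sq_zero` -/
theorem even_rank_of_sq_zero_on [FiniteDimensional F V] (h2 : (2 : F) ≠ 0) (W : Submodule F V)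
    (hW : NdOn Q W) (u : V →ₗ[F] V) (hu : ∀ v, Q (u v) = Q v) (hWu : ∀ v ∈ W, u v ∈ W)
    (hN : ∀ v ∈ W, (u - 1) ((u - 1) v) = 0) : Even (finrank F (W.map (u - 1))) := by
  have hcoe : ∀ w : W, (((u.restrict hWu - 1) w : W) : V) = (u - 1) (w : V) := by
    intro w
    rw [LinearMap.sub_apply, LinearMap.sub_apply, Module.End.one_apply, Module.End.one_apply,
      Submodule.coe_sub, LinearMap.coe_restrict_apply]
  have h1 := even_rank_of_sq_zero (resQ Q W) h2 (ndOn_top_resQ Q W hW) (u.restrict hWu)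
    (fun w => by rw [resQ_apply, LinearMap.coe_restrict_apply, hu, resQ_apply])
    (fun w => by
      apply Subtype.ext
      rw [hcoe, hcoe, hN _ w.2]
      rfl)
  have h3 : (LinearMap.range (u.restrict hWu - 1)).map W.subtype = W.map (u - 1) := by
    ext v
    constructor
    · rintro ⟨_, ⟨w, rfl⟩, rfl⟩
      exact ⟨w, w.2, (hcoe w).symm⟩
    · rintro ⟨w, hw, rfl⟩
      exact ⟨_, ⟨⟨w, hw⟩, rfl⟩, hcoe ⟨w, hw⟩⟩
  rw [← h3, Submodule.finrank_map_subtype_eq]
  exact h1

end parity

section unip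

variable {F V : Type*} [Field F] [Fintype F] [AddCommGroup V] [Module F V] [FiniteDimensional F V]
  {p : ℕ} [Fact p.Prime] [CharP F p] (Q : QuadraticForm F V)

/-- `u - 1` strictly decreases nonzero invariant subspaces of a `p`-element -/
theorem finrank_map_lt (u : V →ₗ[F] V) (hup : u ^ p = 1) (U : Submodule F V)
    (hU : ∀ v ∈ U, u v ∈ U) (hU0 : U ≠ ⊥) : finrank F (U.map (u - 1)) < finrank F U := by
  have h1 := finrank_eq_fix_add_map u U
  have h3 : 1 ≤ finrank F ↥(U ⊓ fixE u) :=
    Submodule.one_le_finrank_iff.2 (Cfsg.Agent.Lib.Helper15.SpCentral.fix_ne_bot u hup U hU hU0)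
  omega

/-- a `p`-element of the orthogonal group of a nondegenerate plane is trivial (`p` odd) -/
theorem eq_self_of_finrank_two (h2 : (2 : F) ≠ 0) (u : V →ₗ[F] V) (hu : ∀ v, Q (u v) = Q v)
    (hup : u ^ p = 1) (P : Submodule F V) (hP : NdOn Q P) (hPu : ∀ v ∈ P, u v ∈ P)
    (hdim : finrank F P = 2) : ∀ v ∈ P, u v = v := by
  have hP0 : P ≠ ⊥ := by
    intro h
    rw [h, finrank_bot] at hdim
    omega
  have hfix := Cfsg.Agent.Lib.Helper15.SpCentral.fix_ne_bot u hup P hPu hP0
  obtain ⟨a, haPf, ha0⟩ := Submodule.exists_mem_ne_zero_of_ne_bot hfix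
  have haP : a ∈ P := haPf.1
  have hua : u a = a := (mem_fixE u a).1 haPf.2
  by_cases haa : polar Q a a = 0
  · obtain ⟨w, hwP, haw⟩ : ∃ w ∈ P, polar Q a w ≠ 0 := by
      by_contra hcon
      push Not at hcon
      exact ha0 (hP a haP hcon)
    have hker : ∀ d ∈ P, polar Q a d = 0 → ∃ c : F, d = c • a := by
      let φ : P →ₗ[F] F := (polarBilin Q a).comp P.subtype
      have hφ : ∀ d : P, φ d = polar Q a (d : V) := fun d => rfl
      have hrange : LinearMap.range φ = ⊤ := by
        rw [eq_top_iff]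
        rintro b -
        refine ⟨(b / polar Q a w) • ⟨w, hwP⟩, ?_⟩
        rw [map_smul, hφ, smul_eq_mul, div_mul_cancel₀ _ haw]
      have h1 := LinearMap.finrank_range_add_finrank_ker φ
      rw [hrange, finrank_top, finrank_self, hdim] at h1
      have hk1 : finrank F (LinearMap.ker φ) = 1 := by omega
      have ha_mem : (⟨a, haP⟩ : P) ∈ LinearMap.ker φ := by
        rw [LinearMap.mem_ker, hφ]
        exact haa
      have hnz : (⟨⟨a, haP⟩, ha_mem⟩ : LinearMap.ker φ) ≠ 0 := by
        intro h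
        apply ha0
        have := congrArg (fun z : LinearMap.ker φ => ((z : P) : V)) h
        simpa using this
      intro d hd hd0
      have hd_mem : (⟨d, hd⟩ : P) ∈ LinearMap.ker φ := by
        rw [LinearMap.mem_ker, hφ]
        exact hd0
      obtain ⟨c, hc⟩ := (finrank_eq_one_iff_of_nonzero' _ hnz).1 hk1 ⟨⟨d, hd⟩, hd_mem⟩
      refine ⟨c, ?_⟩
      have := congrArg (fun z : LinearMap.ker φ => ((z : P) : V)) hc
      simpa using this.symm
    have hQa : Q a = 0 := by
      have h3 : polar Q a a = 2 * Q a := by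
        rw [polar_self]
        simp
      rw [haa] at h3
      exact (mul_eq_zero.1 h3.symm).resolve_left h2
    have huw : u w = w := by
      obtain ⟨c, hc⟩ := hker (u w - w) (P.sub_mem (hPu w hwP) hwP) (by
        rw [polar_sub_right, ← polar_iso Q u hu a w, hua, sub_self])
      have h3 : u w = w + c • a := by rw [← hc]; abel
      have h4 := hu w
      rw [h3, QuadraticMap.map_add (⇑Q), QuadraticMap.map_smul, hQa, polar_smul_right,
        polar_comm Q w a] at h4
      have h5 : c * polar Q a w = 0 := by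
        simp only [smul_eq_mul, mul_zero, add_zero] at h4
        linear_combination h4
      have hc0 : c = 0 := (mul_eq_zero.1 h5).resolve_right haw
      rw [h3, hc0, zero_smul, add_zero]
    intro v hv
    obtain ⟨c, hc⟩ := hker (v - (polar Q a v / polar Q a w) • w)
      (P.sub_mem hv (P.smul_mem _ hwP)) (by
        rw [polar_sub_right, polar_smul_right, smul_eq_mul, div_mul_cancel₀ _ haw, sub_self])
    have hv' : v = (polar Q a v / polar Q a w) • w + c • a := by rw [← hc]; abel
    rw [hv', map_add, map_smul, map_smul, huw, hua]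
  · have hdim' := perpOne_finrank Q P haP haa
    have hinv : ∀ b ∈ perpOne Q P a, u b ∈ perpOne Q P a := by
      intro b hb
      rw [mem_perpOne] at hb ⊢
      refine ⟨hPu b hb.1, ?_⟩
      have h1 := polar_iso Q u hu a b
      rw [hua] at h1
      rw [h1, hb.2]
    have h1 := eq_self_of_finrank_le_one p u hup (perpOne Q P a) hinv (by omega)
    intro v hv
    have hv' : v - (polar Q a v / polar Q a a) • a ∈ perpOne Q P a := by
      rw [mem_perpOne]
      refine ⟨P.sub_mem hv (P.smul_mem _ haP), ?_⟩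
      rw [polar_sub_right, polar_smul_right, smul_eq_mul, div_mul_cancel₀ _ haa, sub_self]
    have h3 := h1 _ hv'
    rw [map_sub, map_smul, hua] at h3
    exact sub_left_injective h3

end unip

section pairs

variable {F V : Type*} [Field F] [Fintype F] [AddCommGroup V] [Module F V] [FiniteDimensional F V]
  {p : ℕ} [Fact p.Prime] [CharP F p] (Q : QuadraticForm F V)

/-- the possible dimensions of nondegenerate invariant subspaces of the commutator space -/
theorem dim_cases (e d k : ℕ) (hk : 0 < k) (hed : e ∣ d) (hev : Even d) (hd : d ≤ 2 * k)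
    (he : e = 2 * k ∨ (e = k ∧ Odd k)) : d = 0 ∨ d = 2 * k := by
  obtain ⟨c, rfl⟩ := hed
  rcases he with rfl | ⟨rfl, hodd⟩
  · have hc : c ≤ 1 := by
      by_contra h
      have : 2 * k * 2 ≤ 2 * k * c := Nat.mul_le_mul_left _ (by omega)
      omega
    interval_cases c
    · left; rfl
    · right; ring
  · have hc : c ≤ 2 := by
      by_contra h
      have : e * 3 ≤ e * c := Nat.mul_le_mul_left _ (by omega)
      omega
    interval_cases c
    · left; rfl
    · exfalso
      rw [mul_one] at hev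
      exact (Nat.not_even_iff_odd.2 hodd) hev
    · right; ring

/-- a `p`-element commuting with a semisimple isometry `x` of prime order whose commutator space
consists of one block (or two dual blocks of odd dimension) is trivial on that space -/
theorem eq_self_on_mov (h2 : (2 : F) ≠ 0) (hQ : NdOn Q ⊤) (x u : V →ₗ[F] V)
    (hxu : ∀ v, x (u v) = u (x v)) (hx : ∀ v, Q (x v) = Q v) (hu : ∀ v, Q (u v) = Q v)
    (r : ℕ) [Fact r.Prime] (hxr : x ^ r = 1) (hr0 : (r : F) ≠ 0) (hup : u ^ p = 1) (k : ℕ)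
    (hdim : finrank F (movR x) = 2 * k)
    (he : orderOf (Fintype.card F : ZMod r) = 2 * k ∨
      (orderOf (Fintype.card F : ZMod r) = k ∧ Odd k)) :
    ∀ w ∈ movR x, u w = w := by
  have hWu : ∀ v ∈ movR x, u v ∈ movR x := mov_inv_of_comm x u hxu
  have hNx : ∀ v, x ((u - 1) v) = (u - 1) (x v) := by
    intro v
    rw [LinearMap.sub_apply, LinearMap.sub_apply, Module.End.one_apply, Module.End.one_apply,
      map_sub, hxu]
  have hmapx : ∀ U : Submodule F V, (∀ v ∈ U, x v ∈ U) → ∀ v ∈ U.map (u - 1), x v ∈ U.map (u - 1) := by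
    rintro U hU _ ⟨w, hw, rfl⟩
    exact ⟨x w, hU w hw, (hNx w).symm⟩
  have hIW : (movR x).map (u - 1) ≤ movR x := map_sub_one_le u (movR x) hWu
  have hIx := hmapx (movR x) (movR_invariant x)
  have hIu : ∀ v ∈ (movR x).map (u - 1), u v ∈ (movR x).map (u - 1) :=
    map_sub_one_invariant u (movR x) hWu
  have hI2W : ((movR x).map (u - 1)).map (u - 1) ≤ (movR x).map (u - 1) :=
    map_sub_one_le u _ hIu
  have hI2x := hmapx _ hIx
  have hd1 := orderOf_dvd_finrank_of_le_movR x r hxr hr0 _ hIx hIW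
  have hd2 := orderOf_dvd_finrank_of_le_movR x r hxr hr0 _ hI2x (hI2W.trans hIW)
  suffices hI : (movR x).map (u - 1) = ⊥ by
    intro w hw
    have h1 : (u - 1) w ∈ (movR x).map (u - 1) := ⟨w, hw, rfl⟩
    rw [hI, Submodule.mem_bot, LinearMap.sub_apply, Module.End.one_apply, sub_eq_zero] at h1
    exact h1
  by_contra hI0
  have hW0 : movR x ≠ ⊥ := by
    intro h0
    apply hI0
    rw [h0, Submodule.map_bot]
  have hlt := finrank_map_lt u hup (movR x) hWu hW0
  have hlt2 := finrank_map_lt u hup _ hIu hI0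
  have hpos : 1 ≤ finrank F ↥((movR x).map (u - 1)) := Submodule.one_le_finrank_iff.2 hI0
  rcases he with he | ⟨he, hodd⟩
  · rw [he] at hd1
    have := Nat.le_of_dvd (by omega) hd1
    omega
  · rw [he] at hd1 hd2
    have hIk : finrank F ↥((movR x).map (u - 1)) = k := by
      obtain ⟨c, hc⟩ := hd1
      have hc1 : c = 1 := by
        have hc0 : c ≠ 0 := by
          rintro rfl
          omega
        have hc2 : c < 2 := by
          by_contra h
          have : k * 2 ≤ k * c := Nat.mul_le_mul_left _ (by omega)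
          omega
        omega
      rw [hc, hc1, mul_one]
    have hI20 : ((movR x).map (u - 1)).map (u - 1) = ⊥ := by
      rw [← Submodule.finrank_eq_zero]
      obtain ⟨c, hc⟩ := hd2
      have hc0 : c = 0 := by
        by_contra h
        have : k * 1 ≤ k * c := Nat.mul_le_mul_left _ (by omega)
        omega
      rw [hc, hc0, mul_zero]
    have hsq : ∀ v ∈ movR x, (u - 1) ((u - 1) v) = 0 := by
      intro v hv
      have h1 : (u - 1) ((u - 1) v) ∈ ((movR x).map (u - 1)).map (u - 1) :=
        ⟨(u - 1) v, ⟨v, hv, rfl⟩, rfl⟩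
      rw [hI20] at h1
      exact (Submodule.mem_bot F).1 h1
    have hev := even_rank_of_sq_zero_on Q h2 (movR x) (ndOn_mov Q hQ x hx r hxr hr0) u hu hWu hsq
    rw [hIk] at hev
    exact (Nat.not_even_iff_odd.2 hodd) hev

end pairs

section invol

variable {F V : Type*} [Field F] [AddCommGroup V] [Module F V] (Q : QuadraticForm F V)

theorem mem_ker_sub_id (t : V →ₗ[F] V) (v : V) :
    v ∈ LinearMap.ker (t - LinearMap.id) ↔ t v = v := by
  rw [LinearMap.mem_ker, LinearMap.sub_apply, LinearMap.id_apply, sub_eq_zero]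

theorem mem_ker_add_id (t : V →ₗ[F] V) (v : V) :
    v ∈ LinearMap.ker (t + LinearMap.id) ↔ t v = -v := by
  rw [LinearMap.mem_ker, LinearMap.add_apply, LinearMap.id_apply, add_eq_zero_iff_eq_neg]

/-- splitting an invariant subspace along an involution -/
theorem invol_split (h2 : (2 : F) ≠ 0) (t : V →ₗ[F] V) (htt : ∀ v, t (t v) = v)
    (U : Submodule F V) (hU : ∀ v ∈ U, t v ∈ U) :
    (U ⊓ LinearMap.ker (t - LinearMap.id)) ⊔ (U ⊓ LinearMap.ker (t + LinearMap.id)) = U := by
  apply le_antisymm (sup_le inf_le_left inf_le_left)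
  intro v hv
  have e : v = (2 : F)⁻¹ • (v + t v) + (2 : F)⁻¹ • (v - t v) := by
    rw [← smul_add]
    have : v + t v + (v - t v) = (2 : F) • v := by rw [two_smul]; abel
    rw [this, smul_smul, inv_mul_cancel₀ h2, one_smul]
  rw [e]
  apply Submodule.add_mem_sup
  · refine ⟨U.smul_mem _ (U.add_mem hv (hU v hv)), ?_⟩
    rw [SetLike.mem_coe, mem_ker_sub_id, map_smul, map_add, htt, add_comm]
  · refine ⟨U.smul_mem _ (U.sub_mem hv (hU v hv)), ?_⟩
    rw [SetLike.mem_coe, mem_ker_add_id, map_smul, map_sub, htt, ← smul_neg, neg_sub]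

theorem invol_orth (h2 : (2 : F) ≠ 0) (t : V →ₗ[F] V) (ht : ∀ v, Q (t v) = Q v) (a b : V)
    (ha : t a = a) (hb : t b = -b) : polar Q a b = 0 := by
  have h1 := polar_iso Q t ht a b
  rw [ha, hb, polar_neg_right] at h1
  have h3 : (2 : F) * polar Q a b = 0 := by linear_combination -h1
  exact (mul_eq_zero.1 h3).resolve_left h2

theorem invol_inf_eq_bot (h2 : (2 : F) ≠ 0) (t : V →ₗ[F] V) (U : Submodule F V) :
    (U ⊓ LinearMap.ker (t - LinearMap.id)) ⊓ (U ⊓ LinearMap.ker (t + LinearMap.id)) = ⊥ := by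
  rw [eq_bot_iff]
  rintro v ⟨⟨-, hv1⟩, ⟨-, hv2⟩⟩
  rw [SetLike.mem_coe, mem_ker_sub_id] at hv1
  rw [SetLike.mem_coe, mem_ker_add_id, hv1] at hv2
  have h3 : (2 : F) • v = 0 := by
    rw [two_smul]
    nth_rewrite 1 [hv2]
    exact neg_add_cancel v
  exact (Submodule.mem_bot F).2 ((smul_eq_zero.1 h3).resolve_left h2)

theorem invol_finrank [FiniteDimensional F V] (h2 : (2 : F) ≠ 0) (t : V →ₗ[F] V)
    (htt : ∀ v, t (t v) = v) (U : Submodule F V) (hU : ∀ v ∈ U, t v ∈ U) :
    finrank F ↥(U ⊓ LinearMap.ker (t - LinearMap.id)) +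
      finrank F ↥(U ⊓ LinearMap.ker (t + LinearMap.id)) = finrank F U := by
  have h1 := Submodule.finrank_sup_add_finrank_inf_eq (U ⊓ LinearMap.ker (t - LinearMap.id))
    (U ⊓ LinearMap.ker (t + LinearMap.id))
  rw [invol_split h2 t htt U hU, invol_inf_eq_bot h2 t U, finrank_bot, add_zero] at h1
  exact h1.symm

end invol

section involstr

variable {F V : Type*} [Field F] [Fintype F] [AddCommGroup V] [Module F V] [FiniteDimensional F V]
  {p : ℕ} [Fact p.Prime] [CharP F p] (Q : QuadraticForm F V)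

open Cfsg.Agent.Lib.Helper25.GraphSplit in
/-- an involution of determinant one commuting with `x` (semisimple, one block of codimension 3)
and with a nontrivial `p`-element is `-1` on `[V, x]` and `1` on `C_V(x)` -/
theorem invol_structure (h2 : (2 : F) ≠ 0) (hQ : NdOn Q ⊤) (x u t : V →ₗ[F] V)
    (hxu : ∀ v, x (u v) = u (x v)) (hxt : ∀ v, x (t v) = t (x v)) (hut : ∀ v, u (t v) = t (u v))
    (hx : ∀ v, Q (x v) = Q v) (hu : ∀ v, Q (u v) = Q v) (ht : ∀ v, Q (t v) = Q v)
    (r : ℕ) [Fact r.Prime] (hr2 : r ≠ 2) (hxr : x ^ r = 1) (hr0 : (r : F) ≠ 0)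
    (hup : u ^ p = 1) (hu1 : u ≠ 1) (htt : ∀ v, t (t v) = v) (hdet : LinearMap.det t = 1)
    (k : ℕ) (hk : 0 < k) (hdimV : finrank F V = 2 * k + 3) (hdim : finrank F (movR x) = 2 * k)
    (he : orderOf (Fintype.card F : ZMod r) = 2 * k ∨
      (orderOf (Fintype.card F : ZMod r) = k ∧ Odd k))
    (huW : ∀ w ∈ movR x, u w = w) :
    (∀ v, t v = v) ∨ ((∀ w ∈ movR x, t w = -w) ∧ ∀ a ∈ fixE x, t a = a) := by
  have hWnd := ndOn_mov Q hQ x hx r hxr hr0
  have hV3nd := ndOn_fix Q hQ x hx r hxr hr0
  have hWt : ∀ v ∈ movR x, t v ∈ movR x := mov_inv_of_comm x t hxt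
  have hV3t : ∀ v ∈ fixE x, t v ∈ fixE x := fix_inv_of_comm x t hxt
  have hEpx : ∀ v ∈ LinearMap.ker (t - LinearMap.id), x v ∈ LinearMap.ker (t - LinearMap.id) := by
    intro v hv
    rw [mem_ker_sub_id] at hv ⊢
    rw [← hxt, hv]
  have hEmx : ∀ v ∈ LinearMap.ker (t + LinearMap.id), x v ∈ LinearMap.ker (t + LinearMap.id) := by
    intro v hv
    rw [mem_ker_add_id] at hv ⊢
    rw [← hxt, hv, map_neg]
  have hEpu : ∀ v ∈ LinearMap.ker (t - LinearMap.id), u v ∈ LinearMap.ker (t - LinearMap.id) := by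
    intro v hv
    rw [mem_ker_sub_id] at hv ⊢
    rw [← hut, hv]
  have hEmu : ∀ v ∈ LinearMap.ker (t + LinearMap.id), u v ∈ LinearMap.ker (t + LinearMap.id) := by
    intro v hv
    rw [mem_ker_add_id] at hv ⊢
    rw [← hut, hv, map_neg]
  have horthW : ∀ a ∈ movR x ⊓ LinearMap.ker (t - LinearMap.id),
      ∀ c ∈ movR x ⊓ LinearMap.ker (t + LinearMap.id), polar Q a c = 0 := fun a ha c hc =>
    invol_orth Q h2 t ht a c ((mem_ker_sub_id t a).1 ha.2) ((mem_ker_add_id t c).1 hc.2)
  have horthV : ∀ a ∈ fixE x ⊓ LinearMap.ker (t - LinearMap.id),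
      ∀ c ∈ fixE x ⊓ LinearMap.ker (t + LinearMap.id), polar Q a c = 0 := fun a ha c hc =>
    invol_orth Q h2 t ht a c ((mem_ker_sub_id t a).1 ha.2) ((mem_ker_add_id t c).1 hc.2)
  have hWpnd := ndOn_left_of_orth Q _ _ _ (invol_split h2 t htt (movR x) hWt) horthW hWnd
  have hWmnd := ndOn_right_of_orth Q _ _ _ (invol_split h2 t htt (movR x) hWt) horthW hWnd
  have hVpnd := ndOn_left_of_orth Q _ _ _ (invol_split h2 t htt (fixE x) hV3t) horthV hV3nd
  have hVmnd := ndOn_right_of_orth Q _ _ _ (invol_split h2 t htt (fixE x) hV3t) horthV hV3nd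
  have hsumW := invol_finrank h2 t htt (movR x) hWt
  have hsumV := invol_finrank h2 t htt (fixE x) hV3t
  have hfixdim : finrank F (fixE x) = 3 := by
    have := finrank_fix_add_mov x
    omega
  rw [hdim] at hsumW
  rw [hfixdim] at hsumV
  -- dimensions of the pieces of `[V, x]`
  have hWp : finrank F ↥(movR x ⊓ LinearMap.ker (t - LinearMap.id)) = 0 ∨
      finrank F ↥(movR x ⊓ LinearMap.ker (t - LinearMap.id)) = 2 * k := by
    apply dim_cases _ _ k hk _ _ (by omega) he
    · exact orderOf_dvd_finrank_of_le_movR x r hxr hr0 _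
        (fun v hv => ⟨movR_invariant x v hv.1, hEpx v hv.2⟩) inf_le_left
    · exact even_finrank_of_fpf Q x hx r hr2 hxr hr0 _
        (fun v hv => ⟨movR_invariant x v hv.1, hEpx v hv.2⟩) inf_le_left hWpnd
  -- the `-1` eigenspace
  have hEm : finrank F (LinearMap.ker (t + LinearMap.id)) =
      finrank F ↥(fixE x ⊓ LinearMap.ker (t + LinearMap.id)) +
        finrank F ↥(movR x ⊓ LinearMap.ker (t + LinearMap.id)) := by
    have h1 := Cfsg.Agent.Lib.Helper12.Sp.inv_split x r hxr hr0
      (LinearMap.ker (t + LinearMap.id)) hEmx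
    have h3 := Submodule.finrank_sup_add_finrank_inf_eq
      (LinearMap.ker (t + LinearMap.id) ⊓ fixE x) (LinearMap.ker (t + LinearMap.id) ⊓ movR x)
    have h4 : (LinearMap.ker (t + LinearMap.id) ⊓ fixE x) ⊓
        (LinearMap.ker (t + LinearMap.id) ⊓ movR x) = ⊥ := by
      rw [eq_bot_iff, ← fix_inf_mov x r hxr hr0]
      exact inf_le_inf inf_le_right inf_le_right
    rw [h1, h4, finrank_bot, add_zero] at h3
    rw [h3, inf_comm (LinearMap.ker (t + LinearMap.id)) (fixE x),
      inf_comm (LinearMap.ker (t + LinearMap.id)) (movR x)]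
  have hEmeven : Even (finrank F (LinearMap.ker (t + LinearMap.id))) := by
    have h1 := det_invol h2 t htt
    rw [hdet] at h1
    have hne : (-1 : F) ≠ 1 := by
      intro h
      apply h2
      linear_combination -h
    exact (neg_one_pow_eq_one_iff_even hne).1 h1.symm
  -- the `-1` eigenspace inside `C_V(x)` has dimension `0` or `2`
  have hu_split : ∀ U₁ U₂ : Submodule F V, U₁ ⊔ U₂ = ⊤ → (∀ v ∈ U₁, u v = v) →
      (∀ v ∈ U₂, u v = v) → u = 1 := by
    intro U₁ U₂ hsup h1 h3
    ext v
    have hv : v ∈ U₁ ⊔ U₂ := by rw [hsup]; trivial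
    obtain ⟨a, ha, b, hb, rfl⟩ := Submodule.mem_sup.1 hv
    rw [map_add, h1 a ha, h3 b hb, Module.End.one_apply]
  have hVm_cases : finrank F ↥(fixE x ⊓ LinearMap.ker (t + LinearMap.id)) = 0 := by
    by_contra hne
    -- then the two pieces of `C_V(x)` have dimensions `1, 2` in some order or `0, 3`
    have hVpu : ∀ v ∈ fixE x ⊓ LinearMap.ker (t - LinearMap.id),
        u v ∈ fixE x ⊓ LinearMap.ker (t - LinearMap.id) :=
      fun v hv => ⟨fix_inv_of_comm x u hxu v hv.1, hEpu v hv.2⟩
    have hVmu : ∀ v ∈ fixE x ⊓ LinearMap.ker (t + LinearMap.id),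
        u v ∈ fixE x ⊓ LinearMap.ker (t + LinearMap.id) :=
      fun v hv => ⟨fix_inv_of_comm x u hxu v hv.1, hEmu v hv.2⟩
    have hWm : finrank F ↥(movR x ⊓ LinearMap.ker (t + LinearMap.id)) = 0 ∨
        finrank F ↥(movR x ⊓ LinearMap.ker (t + LinearMap.id)) = 2 * k := by
      rcases hWp with h | h <;> omega
    have hVm2 : finrank F ↥(fixE x ⊓ LinearMap.ker (t + LinearMap.id)) = 2 := by
      rw [hEm] at hEmeven
      have hle : finrank F ↥(fixE x ⊓ LinearMap.ker (t + LinearMap.id)) ≤ 3 := by omega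
      rcases hWm with h | h
      · rw [h, add_zero] at hEmeven
        obtain ⟨c, hc⟩ := hEmeven
        omega
      · rw [h] at hEmeven
        have hev2 : Even (finrank F ↥(fixE x ⊓ LinearMap.ker (t + LinearMap.id))) := by
          rcases hEmeven with ⟨c, hc⟩
          exact ⟨c - k, by omega⟩
        obtain ⟨c, hc⟩ := hev2
        omega
    have hVp1 : finrank F ↥(fixE x ⊓ LinearMap.ker (t - LinearMap.id)) = 1 := by omega
    have h1 := eq_self_of_finrank_two Q h2 u hu hup _ hVmnd hVmu hVm2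
    have h3 := eq_self_of_finrank_le_one p u hup _ hVpu (by omega)
    have h4 : ∀ v ∈ fixE x, u v = v := by
      intro v hv
      rw [← invol_split h2 t htt (fixE x) hV3t] at hv
      obtain ⟨a, ha, b, hb, rfl⟩ := Submodule.mem_sup.1 hv
      rw [map_add, h3 a ha, h1 b hb]
    exact hu1 (hu_split (fixE x) (movR x) (fix_sup_mov x r hxr hr0) h4 huW)
  have hVm_bot : fixE x ⊓ LinearMap.ker (t + LinearMap.id) = ⊥ :=
    Submodule.finrank_eq_zero.1 hVm_cases
  have htV3 : ∀ a ∈ fixE x, t a = a := by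
    intro a ha
    have h1 := invol_split h2 t htt (fixE x) hV3t
    rw [hVm_bot, sup_bot_eq] at h1
    rw [← h1] at ha
    exact (mem_ker_sub_id t a).1 ha.2
  rcases hWp with h | h
  · -- `t = -1` on `[V, x]`
    right
    refine ⟨?_, htV3⟩
    intro w hw
    have h1 := invol_split h2 t htt (movR x) hWt
    rw [Submodule.finrank_eq_zero.1 h, bot_sup_eq] at h1
    rw [← h1] at hw
    exact (mem_ker_add_id t w).1 hw.2
  · -- `t = 1`
    left
    have hWm0 : finrank F ↥(movR x ⊓ LinearMap.ker (t + LinearMap.id)) = 0 := by omega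
    have htW : ∀ w ∈ movR x, t w = w := by
      intro w hw
      have h1 := invol_split h2 t htt (movR x) hWt
      rw [Submodule.finrank_eq_zero.1 hWm0, sup_bot_eq] at h1
      rw [← h1] at hw
      exact (mem_ker_sub_id t w).1 hw.2
    intro v
    have hv : v ∈ fixE x ⊔ movR x := by rw [fix_sup_mov x r hxr hr0]; trivial
    obtain ⟨a, ha, b, hb, rfl⟩ := Submodule.mem_sup.1 hv
    rw [map_add, htV3 a ha, htW b hb]

end involstr

end Cfsg.Agent.Lib.Helper15.OrthSemi
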