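import Mathlib

/-!
helper15: CORE13 / `dickson_bridge` sub-leaf DB-OB `exists_orth_basis` of notes/S5679_DB_subleaves.lean (helper29),
exact signature: a 3-dimensional subspace of `κ → F` with non-degenerate dot product has an orthogonal basis of
non-isotropic vectors.
-/

set_option autoImplicit false

namespace Cfsg.Agent.Lib.Helper15.FrDBLeaf
open Matrix Module

section
variable {κ : Type} [Fintype κ] {F : Type*} [Field F]

/-- the dot product restricted to a subspace, as a bilinear form -/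
def dotB (U : Submodule F (κ → F)) : LinearMap.BilinForm F U :=
  LinearMap.mk₂ F (fun u v : U => (u : κ → F) ⬝ᵥ (v : κ → F))
    (fun u u' v => by simp [add_dotProduct])
    (fun c u v => by simp [smul_dotProduct])
    (fun u v v' => by simp [dotProduct_add])
    (fun c u v => by simp [dotProduct_smul])

lemma dotB_apply (U : Submodule F (κ → F)) (u v : U) :
    dotB U u v = (u : κ → F) ⬝ᵥ (v : κ → F) := rfl

end

/-- DB-OB. -/
theorem exists_orth_basis {κ : Type} [Fintype κ] [DecidableEq κ] {F : Type*} [Field F] (h2 : (2 : F) ≠ 0)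
    (U : Submodule F (κ → F)) (h3 : finrank F U = 3)
    (hnd : ∀ u ∈ U, (∀ v ∈ U, u ⬝ᵥ v = 0) → u = 0) :
    ∃ u1 u2 u3 : κ → F, u1 ∈ U ∧ u2 ∈ U ∧ u3 ∈ U ∧ u1 ⬝ᵥ u1 ≠ 0 ∧ u2 ⬝ᵥ u2 ≠ 0 ∧ u3 ⬝ᵥ u3 ≠ 0 ∧
      u1 ⬝ᵥ u2 = 0 ∧ u1 ⬝ᵥ u3 = 0 ∧ u2 ⬝ᵥ u3 = 0 ∧
      ∀ x ∈ U, ∃ a b c : F, x = a • u1 + b • u2 + c • u3 := by
  have : Invertible (2 : F) := invertibleOfNonzero h2
  have hsymm : LinearMap.IsSymm (dotB U) := by
    refine ⟨fun u v => ?_⟩
    simp only [dotB_apply, RingHom.id_apply]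
    exact dotProduct_comm _ _
  obtain ⟨v, hv⟩ := LinearMap.BilinForm.exists_orthogonal_basis hsymm
  have hsep : (dotB U).SeparatingLeft := by
    intro u hu
    have := hnd u u.2 (fun w hw => hu ⟨w, hw⟩)
    exact Subtype.ext this
  have hne := fun i => hv.not_isOrtho_basis_self_of_separatingLeft hsep i
  -- reindex to `Fin 3`
  have hcard : finrank F U = 3 := h3
  let w : Basis (Fin 3) F U := v.reindex (finCongr hcard)
  have hw : ∀ i j : Fin 3, i ≠ j → dotB U (w i) (w j) = 0 := by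
    intro i j hij
    simp only [w, Basis.reindex_apply]
    apply hv
    intro h
    exact hij ((finCongr hcard).symm.injective h)
  have hwne : ∀ i : Fin 3, dotB U (w i) (w i) ≠ 0 := by
    intro i
    simp only [w, Basis.reindex_apply]
    exact hne _
  refine ⟨w 0, w 1, w 2, (w 0).2, (w 1).2, (w 2).2, hwne 0, hwne 1, hwne 2,
    hw 0 1 (by decide), hw 0 2 (by decide), hw 1 2 (by decide), ?_⟩
  intro x hx
  refine ⟨w.repr ⟨x, hx⟩ 0, w.repr ⟨x, hx⟩ 1, w.repr ⟨x, hx⟩ 2, ?_⟩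
  have := w.sum_repr ⟨x, hx⟩
  rw [Fin.sum_univ_three] at this
  have h' := congrArg (Subtype.val) this
  simp only [Submodule.coe_add, Submodule.coe_smul] at h'
  exact h'.symm

end Cfsg.Agent.Lib.Helper15.FrDBLeaf
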