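import Mathlib

/-!
helper15: CORE13 / `dickson_bridge` sub-leaf DB-SQ `sq_mem_closure_pairs` of notes/S5679_DB_subleaves.lean (helper29),
exact signature: the square of an element of `closure S` is an even word in `S`.
-/

set_option autoImplicit false

namespace Cfsg.Agent.Lib.Helper15.FrDBLeaf
open Matrix Module

section
variable {G : Type*} [Group G] (S : Set G)

/-- the set of pairs -/
def pairSet : Set G := {g : G | ∃ a ∈ S, ∃ b ∈ S, g = a * b}

lemma pair_mem {a b : G} (ha : a ∈ S) (hb : b ∈ S) : a * b ∈ Subgroup.closure (pairSet S) :=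
  Subgroup.subset_closure ⟨a, ha, b, hb, rfl⟩

/-- `a⁻¹ y a ∈ X⁺` for `a ∈ S`, `y ∈ X⁺` -/
lemma conj_mem_pairs {a : G} (ha : a ∈ S) {y : G} (hy : y ∈ Subgroup.closure (pairSet S)) :
    a⁻¹ * y * a ∈ Subgroup.closure (pairSet S) := by
  induction hy using Subgroup.closure_induction with
  | mem y hy =>
    obtain ⟨b, hb, c, hc, rfl⟩ := hy
    have h1 : a⁻¹ * (b * c) * a = (a * a)⁻¹ * (a * b) * (c * a) := by group
    rw [h1]
    exact Subgroup.mul_mem _ (Subgroup.mul_mem _ (Subgroup.inv_mem _ (pair_mem S ha ha))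
      (pair_mem S ha hb)) (pair_mem S hc ha)
  | one =>
    have : a⁻¹ * 1 * a = 1 := by group
    rw [this]
    exact Subgroup.one_mem _
  | mul y z _ _ ihy ihz =>
    have : a⁻¹ * (y * z) * a = (a⁻¹ * y * a) * (a⁻¹ * z * a) := by group
    rw [this]
    exact Subgroup.mul_mem _ ihy ihz
  | inv y _ ih =>
    have : a⁻¹ * y⁻¹ * a = (a⁻¹ * y * a)⁻¹ := by group
    rw [this]
    exact Subgroup.inv_mem _ ih

/-- the parity predicate: even, or odd (`x a` even for all `a ∈ S`) -/
lemma parity_of_mem {x : G} (hx : x ∈ Subgroup.closure S) :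
    x ∈ Subgroup.closure (pairSet S) ∨ ∀ a ∈ S, x * a ∈ Subgroup.closure (pairSet S) := by
  rcases S.eq_empty_or_nonempty with hS | ⟨a₀, ha₀⟩
  · left
    rw [hS, Subgroup.closure_empty, Subgroup.mem_bot] at hx
    rw [hx]
    exact Subgroup.one_mem _
  -- `a⁻¹ x ∈ X⁺` if `x a ∈ X⁺`
  have key : ∀ {x a : G}, a ∈ S → x * a ∈ Subgroup.closure (pairSet S) →
      a⁻¹ * x ∈ Subgroup.closure (pairSet S) := by
    intro x a ha h
    have h1 : a⁻¹ * x = (a⁻¹ * (x * a) * a) * (a * a)⁻¹ := by group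
    rw [h1]
    exact Subgroup.mul_mem _ (conj_mem_pairs S ha h) (Subgroup.inv_mem _ (pair_mem S ha ha))
  induction hx using Subgroup.closure_induction with
  | mem x hx => exact Or.inr fun a ha => pair_mem S hx ha
  | one => exact Or.inl (Subgroup.one_mem _)
  | mul x y _ _ ihx ihy =>
    rcases ihx with hxe | hxo
    · rcases ihy with hye | hyo
      · exact Or.inl (Subgroup.mul_mem _ hxe hye)
      · right
        intro a ha
        rw [mul_assoc]
        exact Subgroup.mul_mem _ hxe (hyo a ha)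
    · rcases ihy with hye | hyo
      · right
        intro a ha
        have h1 : x * y * a = (x * a) * (a⁻¹ * y * a) := by group
        rw [h1]
        exact Subgroup.mul_mem _ (hxo a ha) (conj_mem_pairs S ha hye)
      · left
        have h1 : x * y = (x * a₀) * (a₀⁻¹ * y) := by group
        rw [h1]
        exact Subgroup.mul_mem _ (hxo a₀ ha₀) (key ha₀ (hyo a₀ ha₀))
  | inv x _ ih =>
    rcases ih with hxe | hxo
    · exact Or.inl (Subgroup.inv_mem _ hxe)
    · right
      intro a ha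
      have h1 : x⁻¹ * a = (a⁻¹ * x)⁻¹ := by group
      rw [h1]
      exact Subgroup.inv_mem _ (key ha (hxo a ha))

end

/-- DB-SQ. -/
theorem sq_mem_closure_pairs {G : Type*} [Group G] (S : Set G) {x : G} (hx : x ∈ Subgroup.closure S) :
    x * x ∈ Subgroup.closure {g : G | ∃ a ∈ S, ∃ b ∈ S, g = a * b} := by
  change x * x ∈ Subgroup.closure (pairSet S)
  rcases parity_of_mem S hx with he | ho
  · exact Subgroup.mul_mem _ he he
  · rcases S.eq_empty_or_nonempty with hS | ⟨a₀, ha₀⟩
    · rw [hS, Subgroup.closure_empty, Subgroup.mem_bot] at hx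
      rw [hx, mul_one]
      exact Subgroup.one_mem _
    · have h1 : x * x = (x * a₀) * ((a₀⁻¹ * (x * a₀) * a₀) * (a₀ * a₀)⁻¹) := by group
      rw [h1]
      exact Subgroup.mul_mem _ (ho a₀ ha₀) (Subgroup.mul_mem _ (conj_mem_pairs S ha₀ (ho a₀ ha₀))
        (Subgroup.inv_mem _ (pair_mem S ha₀ ha₀)))

end Cfsg.Agent.Lib.Helper15.FrDBLeaf
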