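import Mathlib
import Cfsg.Agent.Lib.Helper15.Fr2S2

/-!
S5696 part 2 (helper29's market, `notes/S5696_part2_leaves.lean`): leaf S4 `exists_nonmono`.
`g = r_a r_{e_5}` with `a` the indicator vector of four coordinates (norms `4c`, `c`) lies in `Ω`, and its column `i₁` is
`e_{i₁} - a / 2`, with two non-zero entries.
-/

set_option autoImplicit false
set_option linter.unusedSectionVars false
set_option linter.unusedVariables false

namespace Cfsg.Agent.Lib.Helper15.Fr2Leaf
open Matrix Cfsg.Agent.Lib.Helper11.Mono Cfsg.Agent.Lib.Helper15.MonoLeaf Cfsg.Agent.Lib.Helper2.MonoLeaf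
  Cfsg.Agent.Lib.Helper29.Fr Cfsg.Agent.Lib.Helper29.FrStd
open Cfsg.Agent.Lib.Helper25.CD Cfsg.Agent.Lib.Helper25.Spin

variable {F : Type*} [Field F] [Fintype F] {ι : Type} [Fintype ι] [DecidableEq ι]

/-- the indicator vector of a finite set -/
def indVec (S : Finset ι) : ι → F := fun i => if i ∈ S then 1 else 0

lemma sum_indVec_mul (S : Finset ι) (x : ι → F) : ∑ i, (indVec S : ι → F) i * x i = ∑ i ∈ S, x i := by
  simp only [indVec, ite_mul, one_mul, zero_mul]
  rw [Finset.sum_ite_mem, Finset.univ_inter]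

lemma stdQ_indVec (c : F) (S : Finset ι) : stdQ ι F c (indVec S) = c * (S.card : F) := by
  rw [stdQ_apply, sum_indVec_mul]
  congr 1
  have h : ∀ i ∈ S, (indVec S : ι → F) i = 1 := fun i hi => if_pos hi
  rw [Finset.sum_congr rfl h, Finset.sum_const, nsmul_eq_mul, mul_one]

/-- S4 -/
theorem exists_nonmono (h2 : (2 : F) ≠ 0) {c : F} (hc : c ≠ 0) (h5 : 5 ≤ Fintype.card ι) :
    ∃ g ∈ Cfsg.Geo.omegaGL ⇑(stdQ ι F c), ¬ IsMono (g : Matrix ι ι F) := by
  obtain ⟨f⟩ : Nonempty (Fin 5 ↪ ι) :=
    Function.Embedding.nonempty_of_card_le (by rw [Fintype.card_fin]; exact h5)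
  -- the four coordinates of `a` and the fifth one
  set S : Finset ι := (Finset.univ : Finset (Fin 4)).map (Fin.castSuccEmb.trans f) with hS
  have hScard : S.card = 4 := by rw [hS, Finset.card_map, Finset.card_univ, Fintype.card_fin]
  have hmem : ∀ k : Fin 4, f k.castSucc ∈ S := by
    intro k
    rw [hS, Finset.mem_map]
    exact ⟨k, Finset.mem_univ _, rfl⟩
  have h5S : f 4 ∉ S := by
    rw [hS, Finset.mem_map]
    rintro ⟨k, -, hk⟩
    have := f.injective hk
    have h' := congrArg Fin.val this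
    simp at h'
    omega
  have h01 : f 0 ≠ f 1 := fun h => by simpa using f.injective h
  have h0S : f 0 ∈ S := hmem 0
  have h1S : f 1 ∈ S := hmem 1
  have h04 : f 0 ≠ f 4 := fun h => h5S (h ▸ h0S)
  have h4 : (4 : F) ≠ 0 := by
    have : (4 : F) = 2 * 2 := by norm_num
    rw [this]; exact mul_ne_zero h2 h2
  have hQa : stdQ ι F c (indVec S) = c * 4 := by
    rw [stdQ_indVec, hScard]; norm_num
  have hQa0 : stdQ ι F c (indVec S) ≠ 0 := by rw [hQa]; exact mul_ne_zero hc h4
  have hvs : ∀ v ∈ [indVec S, (Pi.single (f 4) (1 : F) : ι → F)], stdQ ι F c v ≠ 0 := by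
    intro v hv
    simp only [List.mem_cons, List.not_mem_nil, or_false] at hv
    rcases hv with rfl | rfl
    · exact hQa0
    · rw [stdQ_single]; exact hc
  refine ⟨(wordG (stdQ ι F c) [indVec S, Pi.single (f 4) 1] : GL ι F), ?_, ?_⟩
  · apply (Cfsg.Agent.Lib.Helper25.Fam.mem_omegaGL_iff (stdQ ι F c)).2
    refine ⟨_, (mem_omega_iff (stdQ ι F c) h2 (stdQ_nondeg' h2 hc) hvs).2 ⟨⟨1, rfl⟩, ?_⟩, rfl⟩
    rw [normProd_cons, normProd_cons, normProd_nil, hQa, stdQ_single, mul_one]
    exact ⟨2 * c, by ring⟩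
  · -- column `f 0`
    intro hmono
    obtain ⟨i, hi⟩ := hmono (f 0)
    have hcol : ∀ k, ((wordG (stdQ ι F c) [indVec S, Pi.single (f 4) 1] : GL ι F) : Matrix ι ι F) k (f 0)
        = (Pi.single (f 0) (1 : F) : ι → F) k - 2⁻¹ * (indVec S : ι → F) k := by
      intro k
      have h1 : ((wordG (stdQ ι F c) [indVec S, Pi.single (f 4) 1] : GL ι F) : Matrix ι ι F) *ᵥ
          (Pi.single (f 0) (1 : F)) = wordProd (stdQ ι F c) [indVec S, Pi.single (f 4) 1]
            (Pi.single (f 0) (1 : F)) := by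
        rw [← toOG_apply, toOG_wordG]
      have h2' := congrFun h1 k
      rw [Matrix.mulVec_single_one] at h2'
      rw [show ((wordG (stdQ ι F c) [indVec S, Pi.single (f 4) 1] : GL ι F) : Matrix ι ι F) k (f 0)
        = (((wordG (stdQ ι F c) [indVec S, Pi.single (f 4) 1] : GL ι F) : Matrix ι ι F)).col (f 0) k from rfl,
        h2']
      rw [wordProd_cons, wordProd_cons, wordProd_nil, mul_one, LinearEquiv.mul_apply, reflE_single hc]
      have h3 : (fun i => if i = f 4 then -(Pi.single (f 0) (1 : F) : ι → F) i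
          else (Pi.single (f 0) (1 : F) : ι → F) i) = (Pi.single (f 0) (1 : F) : ι → F) := by
        ext j
        by_cases hj : j = f 4
        · subst hj
          rw [if_pos rfl, Pi.single_eq_of_ne (Ne.symm h04), neg_zero]
        · rw [if_neg hj]
      rw [h3, reflE_apply, hQa, polar_stdQ, sum_indVec_mul]
      have h4' : ∑ i ∈ S, (Pi.single (f 0) (1 : F) : ι → F) i = 1 := by
        rw [Finset.sum_eq_single (f 0)]
        · simp
        · intro j _ hj; simp [hj]
        · intro h; exact absurd h0S h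
      rw [h4']
      simp only [Pi.sub_apply, Pi.smul_apply, smul_eq_mul]
      field_simp
      ring
    have hk0 := hcol (f 0)
    have hk1 := hcol (f 1)
    simp only [indVec, if_pos h0S, if_pos h1S, Pi.single_eq_same, Pi.single_eq_of_ne (Ne.symm h01),
      mul_one] at hk0 hk1
    have hne0 : ((wordG (stdQ ι F c) [indVec S, Pi.single (f 4) 1] : GL ι F) : Matrix ι ι F) (f 0) (f 0)
        ≠ 0 := by
      rw [hk0]
      have h' : (1 : F) - 2⁻¹ = 2⁻¹ := by
        field_simp
        norm_num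
      rw [h']
      exact inv_ne_zero h2
    have hne1 : ((wordG (stdQ ι F c) [indVec S, Pi.single (f 4) 1] : GL ι F) : Matrix ι ι F) (f 1) (f 0)
        ≠ 0 := by
      rw [hk1, zero_sub, neg_ne_zero]
      exact inv_ne_zero h2
    by_cases hi0 : i = f 0
    · exact hne1 (hi (f 1) (by rw [hi0]; exact Ne.symm h01))
    · exact hne0 (hi (f 0) (Ne.symm hi0))

end Cfsg.Agent.Lib.Helper15.Fr2Leaf
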