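import Mathlib
import Cfsg.Agent.Lib.Helper11.Om2Tools

/-! S2146 market "OM2" (planner helper11): leaf GA `exists_sing_cond` — helper15. -/

set_option autoImplicit false

open Cfsg.Agent.Lib.Helper11.Om2 MulAction
open scoped Pointwise

namespace Cfsg.Agent.Lib.Helper15.Om2Leaf

variable {F V G : Type*} [Field F] [AddCommGroup V] [Module F V] [Group G] [DistribMulAction G V]
  (S : Setting F V G)

/-- A subspace on which `B` vanishes identically has at most `2^m` elements. -/
theorem card_le_of_totally_isotropic [Finite V] {m : ℕ} (hV : Nat.card V = 2 ^ (2 * m))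
    (U : Submodule F V) (hU : ∀ a ∈ U, ∀ a' ∈ U, S.B a a' = 0) : Nat.card U ≤ 2 ^ m := by
  have hle : U ≤ S.B.orthogonal U := by
    intro a' ha'
    rw [S.mem_orthogonal]
    intro a ha
    exact hU a ha a' ha'
  have h1 : Nat.card U ≤ Nat.card (S.B.orthogonal U) :=
    Nat.card_le_card_of_injective (Submodule.inclusion hle) (Submodule.inclusion_injective hle)
  have h2 := S.card_mul_card_orthogonal U
  rw [hV] at h2
  have h3 : Nat.card U * Nat.card U ≤ 2 ^ (2 * m) := by
    calc Nat.card U * Nat.card U ≤ Nat.card U * Nat.card (S.B.orthogonal U) :=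
          Nat.mul_le_mul_left _ h1
      _ = 2 ^ (2 * m) := h2
  have h4 : (2 : ℕ) ^ (2 * m) = 2 ^ m * 2 ^ m := by rw [← pow_add]; congr 1; omega
  rw [h4] at h3
  exact Nat.mul_self_le_mul_self_iff.mp h3

/-- The common perp of `r` vectors has at least `2^(2m-r)` elements. -/
theorem card_perp_range_ge [Finite V] {m : ℕ} (hV : Nat.card V = 2 ^ (2 * m)) {r : ℕ} (hr : r ≤ 2 * m)
    (v : Fin r → V) :
    2 ^ (2 * m - r) ≤ Nat.card (S.B.orthogonal (Submodule.span F (Set.range v))) := by
  have : Finite F := S.finite_F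
  have : Module.Finite F V := Module.Finite.of_finite
  set W := Submodule.span F (Set.range v) with hW
  have h1 := S.card_mul_card_orthogonal W
  rw [hV, S.card_submodule_eq_two_pow W] at h1
  have hj : Module.finrank F W ≤ r := by
    have := finrank_range_le_card (R := F) v
    simpa [Set.finrank, hW] using this
  have hpos : 0 < Nat.card (S.B.orthogonal W) := Nat.card_pos
  -- `2^j * c = 2^(2m)`, `j ≤ r`
  have h2 : (2 : ℕ) ^ (2 * m) = 2 ^ (Module.finrank F W) * 2 ^ (2 * m - Module.finrank F W) := by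
    rw [← pow_add]; congr 1; omega
  rw [h2] at h1
  have h3 : Nat.card (S.B.orthogonal W) = 2 ^ (2 * m - Module.finrank F W) :=
    Nat.eq_of_mul_eq_mul_left (pow_pos (by norm_num) _) h1
  rw [h3]
  exact Nat.pow_le_pow_right (by norm_num) (by omega)

/-- GA (affine quadric): fewer than `m` linear conditions that have a solution `y0` have a singular solution. -/
theorem exists_sing_cond [Finite V] {m : ℕ} (hV : Nat.card V = 2 ^ (2 * m)) {r : ℕ} (hr : r < m)
    (v : Fin r → V) (y0 : V) : ∃ y, S.Q y = 0 ∧ ∀ i, S.B y (v i) = S.B y0 (v i) := by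
  by_contra hcon
  set W := Submodule.span F (Set.range v) with hW
  set U := S.B.orthogonal W with hUdef
  have hperp : ∀ a ∈ U, ∀ i, S.B a (v i) = 0 := by
    intro a ha i
    rw [S.B_symm]
    exact (S.mem_orthogonal.1 ha) (v i) (Submodule.subset_span ⟨i, rfl⟩)
  have hone : ∀ a ∈ U, S.Q (y0 + a) = 1 := by
    intro a ha
    rcases S.h01 (S.Q (y0 + a)) with h | h
    · exfalso
      apply hcon
      refine ⟨y0 + a, h, fun i => ?_⟩
      rw [S.Badd_left, hperp a ha i, add_zero]
    · exact h
  have hB : ∀ a ∈ U, ∀ a' ∈ U, S.B a a' = 0 := by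
    intro a ha a' ha'
    have h1 := hone (a + a') (U.add_mem ha ha')
    have h2 := hone a ha
    have h3 := hone a' ha'
    have h4 := hone 0 U.zero_mem
    rw [add_zero] at h4
    have e1 : S.Q (y0 + (a + a')) = S.Q (y0 + a) + S.Q a' + S.B (y0 + a) a' := by
      rw [← add_assoc, S.Q_add]
    have e2 : S.B (y0 + a) a' = S.B y0 a' + S.B a a' := S.Badd_left _ _ _
    have e3 : S.Q (y0 + a') = S.Q y0 + S.Q a' + S.B y0 a' := S.Q_add _ _
    linear_combination h1 - h2 - h3 + h4 - e1 - e2 + e3
  have hle := card_le_of_totally_isotropic S hV U hB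
  have hge : 2 ^ (2 * m - r) ≤ Nat.card U := card_perp_range_ge S hV (by omega : r ≤ 2 * m) v
  have hlt : 2 ^ m < 2 ^ (2 * m - r) := Nat.pow_lt_pow_right (by norm_num) (by omega)
  omega

end Cfsg.Agent.Lib.Helper15.Om2Leaf
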