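import Mathlib
import Cfsg.Agent.Lib.Helper11.Om2Tools
import Cfsg.Agent.Lib.Helper15.Om2GA

/-! S2146 market "OM2" (planner helper11): leaves GB `exists_sing_perp_ne` and GD `exists_sing_of_card` — helper15. -/

set_option autoImplicit false

open Cfsg.Agent.Lib.Helper11.Om2 MulAction
open scoped Pointwise

namespace Cfsg.Agent.Lib.Helper15.Om2Leaf

variable {F V G : Type*} [Field F] [AddCommGroup V] [Module F V] [Group G] [DistribMulAction G V]
  (S : Setting F V G)

/-- A subspace all of whose elements occur in a list has at most `length` elements. -/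
theorem card_le_length_of_subset_list [Finite V] (U : Submodule F V) (l : List V)
    (h : ∀ w ∈ U, w ∈ l) : Nat.card U ≤ l.length := by
  classical
  have h1 : ((U : Set V)) ⊆ (↑l.toFinset : Set V) := by
    intro w hw
    simpa using h w hw
  have h2 : Set.ncard (U : Set V) ≤ Set.ncard (↑l.toFinset : Set V) :=
    Set.ncard_le_ncard h1 (Finset.finite_toSet _)
  rw [Set.ncard_coe_finset] at h2
  have h3 : Nat.card U = Set.ncard (U : Set V) := (Nat.card_coe_set_eq (U : Set V))
  rw [h3]
  exact h2.trans l.toFinset_card_le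

/-- A subspace with more elements than a list has an element outside the list. -/
theorem exists_not_mem_list [Finite V] (U : Submodule F V) (l : List V)
    (h : l.length < Nat.card U) : ∃ w ∈ U, w ∉ l := by
  by_contra hcon
  have : ∀ w ∈ U, w ∈ l := by
    intro w hw
    by_contra hn
    exact hcon ⟨w, hw, hn⟩
  have := card_le_length_of_subset_list U l this
  omega

/-- GB: two vectors have a common perpendicular singular point different from both. -/
theorem exists_sing_perp_ne [Finite V] {m : ℕ} (hV : Nat.card V = 2 ^ (2 * m)) (hm : 4 ≤ m)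
    (z p : V) : ∃ u, u ≠ 0 ∧ S.Q u = 0 ∧ S.B u z = 0 ∧ S.B u p = 0 ∧ u ≠ z ∧ u ≠ p := by
  set W : Submodule F V := Submodule.span F {z, p} with hW
  have hzW : z ∈ W := Submodule.subset_span (by simp)
  have hpW : p ∈ W := Submodule.subset_span (by simp)
  have hWl : ∀ w ∈ W, w ∈ [0, z, p, z + p] := by
    intro w hw
    rw [hW, Submodule.mem_span_pair] at hw
    obtain ⟨a, b, rfl⟩ := hw
    rcases S.h01 a with ha | ha <;> rcases S.h01 b with hb | hb <;> simp [ha, hb]
  have hcW : Nat.card W ≤ 4 := card_le_length_of_subset_list W _ hWl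
  have hmul := S.card_mul_card_orthogonal W
  rw [hV] at hmul
  have h64 : (2 : ℕ) ^ 8 ≤ 2 ^ (2 * m) := Nat.pow_le_pow_right (by norm_num) (by omega)
  have hperp : 4 < Nat.card (S.B.orthogonal W) := by
    by_contra hle
    have hle' : Nat.card (S.B.orthogonal W) ≤ 4 := by omega
    have : Nat.card W * Nat.card (S.B.orthogonal W) ≤ 4 * 4 := Nat.mul_le_mul hcW hle'
    rw [hmul] at this
    norm_num at h64
    omega
  obtain ⟨t, htU, htl⟩ := exists_not_mem_list (S.B.orthogonal W) [0, z, p, z + p] (by simpa using hperp)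
  have htW : t ∉ W := fun h => htl (hWl t h)
  -- `y0 ∈ W^⊥` with `B y0 t = 1`
  have hy0 : ∃ y0 ∈ S.B.orthogonal W, S.B y0 t ≠ 0 := by
    by_contra hcon
    apply htW
    rw [← S.orthogonal_orthogonal_eq W, S.mem_orthogonal]
    intro u hu
    by_contra hne
    exact hcon ⟨u, hu, hne⟩
  obtain ⟨y0, hy0U, hy0t⟩ := hy0
  have hy0t1 : S.B y0 t = 1 := S.eq_one_of_ne_zero hy0t
  have hy0z : S.B y0 z = 0 := by
    rw [S.B_symm]; exact (S.mem_orthogonal.1 hy0U) z hzW
  have hy0p : S.B y0 p = 0 := by
    rw [S.B_symm]; exact (S.mem_orthogonal.1 hy0U) p hpW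
  have htz : S.B z t = 0 := (S.mem_orthogonal.1 htU) z hzW
  have htp : S.B p t = 0 := (S.mem_orthogonal.1 htU) p hpW
  obtain ⟨y, hyQ, hy⟩ := exists_sing_cond S hV (by omega : 3 < m) ![z, p, t] y0
  have h0 : S.B y z = 0 := by
    have := hy 0
    simpa [hy0z] using this
  have h1 : S.B y p = 0 := by
    have := hy 1
    simpa [hy0p] using this
  have h2 : S.B y t = 1 := by
    have := hy 2
    simpa [hy0t1] using this
  refine ⟨y, ?_, hyQ, h0, h1, ?_, ?_⟩
  · rintro rfl
    rw [S.Bzero_left] at h2
    exact zero_ne_one h2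
  · rintro rfl
    rw [htz] at h2
    exact zero_ne_one h2
  · rintro rfl
    rw [htp] at h2
    exact zero_ne_one h2

/-- GD: a subspace `x ∈ U ⊆ x^⊥` with at least 16 elements contains a singular vector other than `0, x`. -/
theorem exists_sing_of_card [Finite V] {x : V} (hx : S.Q x = 0) (U : Submodule F V) (hxU : x ∈ U)
    (hU : ∀ u ∈ U, S.B x u = 0) (hcard : 16 ≤ Nat.card U) :
    ∃ u ∈ U, u ≠ 0 ∧ u ≠ x ∧ S.Q u = 0 := by
  by_contra hcon
  have hone : ∀ u ∈ U, u ≠ 0 → u ≠ x → S.Q u = 1 := by
    intro u hu h0 hx'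
    rcases S.h01 (S.Q u) with h | h
    · exact absurd ⟨u, hu, h0, hx', h⟩ hcon
    · exact h
  obtain ⟨u, huU, hul⟩ := exists_not_mem_list U [0, x] (by simp; omega)
  obtain ⟨v, hvU, hvl⟩ := exists_not_mem_list U [0, x, u, u + x] (by simp; omega)
  obtain ⟨w, hwU, hwl⟩ := exists_not_mem_list U [0, x, u, u + x, v, v + x, u + v, u + v + x]
    (by simp; omega)
  simp only [List.mem_cons, List.not_mem_nil, or_false, not_or] at hul hvl hwl
  obtain ⟨hu0, hux⟩ := hul
  obtain ⟨hv0, hvx, hvu, hvux⟩ := hvl
  obtain ⟨hw0, hwx, hwu, hwux, hwv, hwvx, hwuv, hwuvx⟩ := hwl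
  -- auxiliary: `a + b = c ↔ a = c + b` in characteristic 2
  have key : ∀ a b c : V, a + b = c → a = c + b := by
    intro a b c h
    rw [← h, S.vadd_cancel_right]
  have hQu := hone u huU hu0 hux
  have hQv := hone v hvU hv0 hvx
  have hQw := hone w hwU hw0 hwx
  have hQuv : S.Q (u + v) = 1 := by
    apply hone _ (U.add_mem huU hvU)
    · intro h
      exact hvu ((S.vadd_eq_zero_iff.1 h).symm)
    · intro h
      apply hvux
      have := key u v x h
      rw [add_comm] at this
      have h2 : v = u + x := by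
        have h3 := key v u x (by rw [add_comm]; exact h)
        rw [add_comm] at h3
        exact h3
      exact h2
  have hQuw : S.Q (u + w) = 1 := by
    apply hone _ (U.add_mem huU hwU)
    · intro h
      exact hwu ((S.vadd_eq_zero_iff.1 h).symm)
    · intro h
      apply hwux
      have h3 := key w u x (by rw [add_comm]; exact h)
      rw [add_comm] at h3
      exact h3
  have hQvw : S.Q (v + w) = 1 := by
    apply hone _ (U.add_mem hvU hwU)
    · intro h
      exact hwv ((S.vadd_eq_zero_iff.1 h).symm)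
    · intro h
      apply hwvx
      have h3 := key w v x (by rw [add_comm]; exact h)
      rw [add_comm] at h3
      exact h3
  have hQuvw : S.Q (u + v + w) = 1 := by
    apply hone _ (U.add_mem (U.add_mem huU hvU) hwU)
    · intro h
      exact hwuv ((S.vadd_eq_zero_iff.1 h).symm)
    · intro h
      apply hwuvx
      have h3 := key w (u + v) x (by rw [add_comm]; exact h)
      rw [add_comm] at h3
      exact h3
  have e2 := S.Q_add u w
  have e3 := S.Q_add v w
  have e4 := S.Q_add (u + v) w
  have e5 := S.Badd_left u v w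
  have hfin : (1 : F) = 0 := by
    linear_combination (-1) * hQuvw + e4 + e5 - e2 - e3 + hQuv + hQuw + hQvw - hQu - hQv - hQw
  exact one_ne_zero hfin

end Cfsg.Agent.Lib.Helper15.Om2Leaf
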