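import Mathlib
import Cfsg.Agent.Lib.Helper11.Om2Tools

/-! S2146 market "OM2" (planner helper11): leaves GC `card_type_zero`, `card_type_one` — helper15. -/

set_option autoImplicit false

open Cfsg.Agent.Lib.Helper11.Om2 MulAction
open scoped Pointwise

namespace Cfsg.Agent.Lib.Helper15.Om2Leaf

variable {F V G : Type*} [Field F] [AddCommGroup V] [Module F V] [Group G] [DistribMulAction G V]
  (S : Setting F V G)

/-- splitting a filter by a second predicate -/
theorem card_filter_and_add {α : Type*} [Fintype α] (p q : α → Prop) [DecidablePred p] [DecidablePred q] :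
    (Finset.univ.filter fun a => p a ∧ q a).card + (Finset.univ.filter fun a => p a ∧ ¬ q a).card =
      (Finset.univ.filter p).card := by
  rw [← Finset.filter_filter, ← Finset.filter_filter]
  exact Finset.card_filter_add_card_filter_not _

/-- The numbers of singular / nonsingular vectors in `x^⊥` (as filter cardinalities). -/
theorem card_perp_sing_core [Fintype V] [DecidableEq V] [DecidableEq F] {m : ℕ}
    (hV : Nat.card V = 2 ^ (2 * m))
    (hs : Nat.card {v : V // S.Q v = 0} = 2 ^ (2 * m - 1) + 2 ^ (m - 1)) (hm : 2 ≤ m) {x : V}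
    (hx0 : x ≠ 0) (hx : S.Q x = 0) :
    (Finset.univ.filter fun w : V => S.B x w = 0 ∧ S.Q w = 0).card = 2 ^ (2 * m - 2) + 2 ^ (m - 1) ∧
    (Finset.univ.filter fun w : V => S.B x w = 0 ∧ ¬ S.Q w = 0).card = 2 ^ (2 * m - 2) - 2 ^ (m - 1) := by
  have conv : ∀ (P : V → Prop) [DecidablePred P],
      Nat.card {w : V // P w} = (Finset.univ.filter P).card := by
    intro P _
    rw [Nat.card_eq_fintype_card, Fintype.card_subtype]
  -- (i)
  have h1 : 2 * (Finset.univ.filter fun w : V => S.B x w = 0).card = 2 ^ (2 * m) := by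
    have := S.two_mul_card_perp hx0
    rw [hV, conv] at this
    exact this
  -- (ii)
  have h2 : (Finset.univ.filter fun w : V => S.B x w = 0).card +
      (Finset.univ.filter fun w : V => ¬ S.B x w = 0).card = 2 ^ (2 * m) := by
    have := Finset.card_filter_add_card_filter_not (s := (Finset.univ : Finset V))
      (fun w : V => S.B x w = 0)
    rw [this, Finset.card_univ, ← Nat.card_eq_fintype_card, hV]
  -- (iii), (iv)
  have h3 := card_filter_and_add (fun w : V => S.B x w = 0) (fun w : V => S.Q w = 0)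
  have h4 := card_filter_and_add (fun w : V => ¬ S.B x w = 0) (fun w : V => S.Q w = 0)
  -- (vi)
  have h6 := card_filter_and_add (fun w : V => S.Q w = 0) (fun w : V => S.B x w = 0)
  have h6' : (Finset.univ.filter fun w : V => S.Q w = 0).card = 2 ^ (2 * m - 1) + 2 ^ (m - 1) := by
    rw [← conv]; exact hs
  have c1 : (Finset.univ.filter fun w : V => S.Q w = 0 ∧ S.B x w = 0) =
      (Finset.univ.filter fun w : V => S.B x w = 0 ∧ S.Q w = 0) :=
    Finset.filter_congr (fun w _ => and_comm)
  have c2 : (Finset.univ.filter fun w : V => S.Q w = 0 ∧ ¬ S.B x w = 0) =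
      (Finset.univ.filter fun w : V => ¬ S.B x w = 0 ∧ S.Q w = 0) :=
    Finset.filter_congr (fun w _ => and_comm)
  rw [c1, c2, h6'] at h6
  -- (v): the bijection `w ↦ w + x`
  have h5 : (Finset.univ.filter fun w : V => ¬ S.B x w = 0 ∧ S.Q w = 0).card =
      (Finset.univ.filter fun w : V => ¬ S.B x w = 0 ∧ ¬ S.Q w = 0).card := by
    apply Finset.card_bij' (fun w _ => w + x) (fun w _ => w + x)
    · intro w hw
      simp only [Finset.mem_filter, Finset.mem_univ, true_and] at hw ⊢
      obtain ⟨hb, hq⟩ := hw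
      refine ⟨?_, ?_⟩
      · rw [S.B_add_self_right]; exact hb
      · rw [S.Q_add, hq, hx, zero_add, zero_add, S.B_symm]; exact hb
    · intro w hw
      simp only [Finset.mem_filter, Finset.mem_univ, true_and] at hw ⊢
      obtain ⟨hb, hq⟩ := hw
      refine ⟨?_, ?_⟩
      · rw [S.B_add_self_right]; exact hb
      · rw [S.Q_add, S.eq_one_of_ne_zero hq, hx, add_zero, S.B_symm, S.eq_one_of_ne_zero hb,
          S.one_add_one]
    · intro w _
      exact S.vadd_cancel_right w x
    · intro w _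
      exact S.vadd_cancel_right w x
  -- arithmetic
  have p1 : (2 : ℕ) ^ (2 * m) = 4 * 2 ^ (2 * m - 2) := by
    have : 2 * m = (2 * m - 2) + 2 := by omega
    conv_lhs => rw [this]
    rw [pow_add]; ring
  have p2 : (2 : ℕ) ^ (2 * m - 1) = 2 * 2 ^ (2 * m - 2) := by
    have : 2 * m - 1 = (2 * m - 2) + 1 := by omega
    rw [this, pow_succ]; ring
  rw [p1] at h1 h2
  rw [p2] at h6
  constructor <;> omega

/-- GC0: number of singular vectors of `x^⊥` other than `0, x`. -/
theorem card_type_zero [Finite V] {m : ℕ} (hV : Nat.card V = 2 ^ (2 * m))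
    (hs : Nat.card {v : V // S.Q v = 0} = 2 ^ (2 * m - 1) + 2 ^ (m - 1)) (hm : 2 ≤ m) {x : V}
    (hx0 : x ≠ 0) (hx : S.Q x = 0) :
    Nat.card {w : V // S.B x w = 0 ∧ w ≠ 0 ∧ w ≠ x ∧ S.Q w = 0}
      = 2 ^ (2 * m - 2) + 2 ^ (m - 1) - 2 := by
  classical
  have : Fintype V := Fintype.ofFinite V
  obtain ⟨hA0, _⟩ := card_perp_sing_core S hV hs hm hx0 hx
  rw [Nat.card_eq_fintype_card, Fintype.card_subtype]
  have hE : (Finset.univ.filter fun w : V => S.B x w = 0 ∧ w ≠ 0 ∧ w ≠ x ∧ S.Q w = 0) =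
      ((Finset.univ.filter fun w : V => S.B x w = 0 ∧ S.Q w = 0).erase 0).erase x := by
    ext w
    simp only [Finset.mem_filter, Finset.mem_univ, true_and, Finset.mem_erase, ne_eq]
    tauto
  have hmem0 : (0 : V) ∈ Finset.univ.filter fun w : V => S.B x w = 0 ∧ S.Q w = 0 := by
    simp [S.Bzero_right, S.Q_zero]
  have hmemx : x ∈ (Finset.univ.filter fun w : V => S.B x w = 0 ∧ S.Q w = 0).erase 0 := by
    simp [S.alt, hx, hx0]
  rw [hE, Finset.card_erase_of_mem hmemx, Finset.card_erase_of_mem hmem0, hA0]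
  omega

/-- GC1: number of nonsingular vectors of `x^⊥`. -/
theorem card_type_one [Finite V] {m : ℕ} (hV : Nat.card V = 2 ^ (2 * m))
    (hs : Nat.card {v : V // S.Q v = 0} = 2 ^ (2 * m - 1) + 2 ^ (m - 1)) (hm : 2 ≤ m) {x : V}
    (hx0 : x ≠ 0) (hx : S.Q x = 0) :
    Nat.card {w : V // S.B x w = 0 ∧ w ≠ 0 ∧ w ≠ x ∧ S.Q w = 1}
      = 2 ^ (2 * m - 2) - 2 ^ (m - 1) := by
  classical
  have : Fintype V := Fintype.ofFinite V
  obtain ⟨_, hA1⟩ := card_perp_sing_core S hV hs hm hx0 hx
  rw [Nat.card_eq_fintype_card, Fintype.card_subtype]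
  have hE : (Finset.univ.filter fun w : V => S.B x w = 0 ∧ w ≠ 0 ∧ w ≠ x ∧ S.Q w = 1) =
      (Finset.univ.filter fun w : V => S.B x w = 0 ∧ ¬ S.Q w = 0) := by
    ext w
    simp only [Finset.mem_filter, Finset.mem_univ, true_and, ne_eq]
    constructor
    · rintro ⟨hb, _, _, hq⟩
      exact ⟨hb, by rw [hq]; exact one_ne_zero⟩
    · rintro ⟨hb, hq⟩
      refine ⟨hb, ?_, ?_, S.eq_one_of_ne_zero hq⟩
      · rintro rfl
        exact hq S.Q_zero
      · rintro rfl
        exact hq hx
  rw [hE, hA1]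

end Cfsg.Agent.Lib.Helper15.Om2Leaf
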