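/-
helper15: counting tools for helper11's S2144 market "OM3": the coset trick
(`Q` takes every value exactly once on `z + <x>` for singular `x` and `z ∉ x^⊥`), the flip, and the
existence of singular vectors in `x^⊥ ∖ <x>` and `<x, w>^⊥ ∖ <x, w>`.
-/
import Mathlib
import Cfsg.Agent.Lib.Helper11.Om3Tools

set_option autoImplicit false

open Cfsg.Agent.Lib.Helper11.Om3 MulAction
open scoped Pointwise

namespace Cfsg.Agent.Lib.Helper15.Om3Count

variable {F V G : Type*} [Field F] [AddCommGroup V] [Module F V] [Group G] [DistribMulAction G V]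
  (S : Setting F V G)

/-- `Q (z + a • x) = Q z + a * B z x` for singular `x` -/
theorem Q_add_smul {x : V} (hx : S.Q x = 0) (z : V) (a : F) :
    S.Q (z + a • x) = S.Q z + a * S.B z x := by
  rw [S.Q_add, S.Q_smul, hx, S.Bsmul_right]; ring

/-- **the flip**: `x1` singular, `B y0 x1 ≠ 0`: there is a singular `u` with the same products as `y0`
against `x1^⊥`. -/
theorem flip {x1 y0 : V} (hx1 : S.Q x1 = 0) (h : S.B y0 x1 ≠ 0) :
    ∃ u, S.Q u = 0 ∧ ∀ v, S.B x1 v = 0 → S.B u v = S.B y0 v := by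
  refine ⟨y0 + (-(S.Q y0) * (S.B y0 x1)⁻¹) • x1, ?_, fun v hv => ?_⟩
  · rw [Q_add_smul S hx1]
    field_simp
    ring
  · rw [S.Badd_left, S.Bsmul_left, hv, mul_zero, add_zero]

/-- the coset trick (filter form): for singular `x` and a predicate `P` invariant under `z ↦ z + a • x`,
exactly one third of the `z` with `P z`, `B x z ≠ 0` have `Q z = c`. -/
theorem coset_count [Fintype V] [DecidableEq V] [DecidableEq F] {x : V} (hx : S.Q x = 0)
    (P : V → Prop) [DecidablePred P] (hP : ∀ (z : V) (a : F), P z → P (z + a • x)) (c : F) :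
    3 * (Finset.univ.filter fun z : V => P z ∧ ¬ S.B x z = 0 ∧ S.Q z = c).card =
      (Finset.univ.filter fun z : V => P z ∧ ¬ S.B x z = 0).card := by
  have : Finite F := S.finite_F
  have : Fintype F := Fintype.ofFinite F
  have hF : (Finset.univ : Finset F).card = 3 := by
    rw [Finset.card_univ, ← Nat.card_eq_fintype_card, S.natCard_F]
  have hxx := S.B_self_of_sing hx
  rw [mul_comm, ← hF, ← Finset.card_product]
  apply Finset.card_bij' (fun p _ => p.1 + p.2 • x)
    (fun z _ => (z + (-((S.Q z - c) * (S.B z x)⁻¹)) • x, (S.Q z - c) * (S.B z x)⁻¹))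
  · rintro ⟨s, a⟩ hp
    simp only [Finset.mem_product, Finset.mem_filter, Finset.mem_univ, true_and, and_true] at hp ⊢
    obtain ⟨hPs, hb, hq⟩ := hp
    refine ⟨hP s a hPs, ?_⟩
    rw [S.Badd_right, S.Bsmul_right, hxx, mul_zero, add_zero]
    exact hb
  · intro z hz
    simp only [Finset.mem_product, Finset.mem_filter, Finset.mem_univ, true_and, and_true] at hz ⊢
    obtain ⟨hPz, hb⟩ := hz
    have hb' : S.B z x ≠ 0 := by rw [S.B_symm]; exact hb
    refine ⟨hP z _ hPz, ?_, ?_⟩
    · rw [S.Badd_right, S.Bsmul_right, hxx, mul_zero, add_zero]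
      exact hb
    · rw [Q_add_smul S hx]
      field_simp
      ring
  · rintro ⟨s, a⟩ hp
    simp only [Finset.mem_product, Finset.mem_filter, Finset.mem_univ, true_and, and_true] at hp
    obtain ⟨_, hb, hq⟩ := hp
    have hb' : S.B s x ≠ 0 := by rw [S.B_symm]; exact hb
    have h1 : S.Q (s + a • x) = c + a * S.B s x := by rw [Q_add_smul S hx, hq]
    have h2 : S.B (s + a • x) x = S.B s x := by
      rw [S.Badd_left, S.Bsmul_left, hxx, mul_zero, add_zero]
    have h3 : (S.Q (s + a • x) - c) * (S.B (s + a • x) x)⁻¹ = a := by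
      rw [h1, h2]
      field_simp
      ring
    simp only
    rw [h3]
    refine Prod.ext ?_ rfl
    simp only
    module
  · intro z _
    simp only
    module

omit [AddCommGroup V] [Module F V] [DistribMulAction G V] in
/-- conversion between `Nat.card` of a subtype and a filter -/
theorem natCard_eq_filter [Fintype V] (P : V → Prop) [DecidablePred P] :
    Nat.card {w : V // P w} = (Finset.univ.filter P).card := by
  rw [Nat.card_eq_fintype_card, Fintype.card_subtype]

/-- splitting a filter by a second predicate -/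
theorem card_filter_and_add {α : Type*} [Fintype α] (p q : α → Prop) [DecidablePred p]
    [DecidablePred q] :
    (Finset.univ.filter fun a => p a ∧ q a).card + (Finset.univ.filter fun a => p a ∧ ¬ q a).card =
      (Finset.univ.filter p).card := by
  rw [← Finset.filter_filter, ← Finset.filter_filter]
  exact Finset.card_filter_add_card_filter_not _

/-- `3^(2m+1) = 9 · 3^(2m-1)` -/
theorem pow_split {m : ℕ} (hm : 1 ≤ m) : (3 : ℕ) ^ (2 * m + 1) = 9 * 3 ^ (2 * m - 1) := by
  have : 2 * m + 1 = (2 * m - 1) + 2 := by omega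
  rw [this, pow_add]; ring

/-- `3^(2m) = 3 · 3^(2m-1)` -/
theorem pow_split' {m : ℕ} (hm : 1 ≤ m) : (3 : ℕ) ^ (2 * m) = 3 * 3 ^ (2 * m - 1) := by
  have : 2 * m = (2 * m - 1) + 1 := by omega
  conv_lhs => rw [this]
  rw [pow_succ]; ring

/-- the number of vectors of `x^⊥` (filter form) -/
theorem card_perp_filter [Fintype V] [DecidableEq V] [DecidableEq F] {m : ℕ}
    (hV : Nat.card V = 3 ^ (2 * m + 1)) (hm : 1 ≤ m) {x : V} (hx0 : x ≠ 0) :
    (Finset.univ.filter fun w : V => S.B x w = 0).card = 3 * 3 ^ (2 * m - 1) := by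
  have := S.three_mul_card_perp hx0
  rw [hV, natCard_eq_filter, pow_split hm] at this
  omega

/-- every `Q`-class has exactly `2 · 3^(2m-1)` members outside `x^⊥` (`x` singular) -/
theorem card_class_split [Fintype V] [DecidableEq V] [DecidableEq F] {m : ℕ}
    (hV : Nat.card V = 3 ^ (2 * m + 1)) (hm : 1 ≤ m) {x : V} (hx0 : x ≠ 0) (hx : S.Q x = 0)
    (c : F) :
    (Finset.univ.filter fun w : V => S.Q w = c).card =
      (Finset.univ.filter fun w : V => S.B x w = 0 ∧ S.Q w = c).card + 2 * 3 ^ (2 * m - 1) := by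
  have h1 := card_perp_filter S hV hm hx0
  have h2 : (Finset.univ.filter fun w : V => S.B x w = 0).card +
      (Finset.univ.filter fun w : V => ¬ S.B x w = 0).card = 9 * 3 ^ (2 * m - 1) := by
    have := Finset.card_filter_add_card_filter_not (s := (Finset.univ : Finset V))
      (fun w : V => S.B x w = 0)
    rw [this, Finset.card_univ, ← Nat.card_eq_fintype_card, hV, pow_split hm]
  have hc := coset_count S hx (fun _ => True) (fun _ _ _ => trivial) c
  have e1 : (Finset.univ.filter fun z : V => True ∧ ¬ S.B x z = 0 ∧ S.Q z = c) =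
      (Finset.univ.filter fun z : V => ¬ S.B x z = 0 ∧ S.Q z = c) :=
    Finset.filter_congr (fun w _ => by rw [true_and])
  have e2 : (Finset.univ.filter fun z : V => True ∧ ¬ S.B x z = 0) =
      (Finset.univ.filter fun z : V => ¬ S.B x z = 0) :=
    Finset.filter_congr (fun w _ => by rw [true_and])
  rw [e1, e2] at hc
  have h6 := card_filter_and_add (fun w : V => S.Q w = c) (fun w : V => S.B x w = 0)
  have c1 : (Finset.univ.filter fun w : V => S.Q w = c ∧ S.B x w = 0) =
      (Finset.univ.filter fun w : V => S.B x w = 0 ∧ S.Q w = c) :=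
    Finset.filter_congr (fun w _ => and_comm)
  have c2 : (Finset.univ.filter fun w : V => S.Q w = c ∧ ¬ S.B x w = 0) =
      (Finset.univ.filter fun w : V => ¬ S.B x w = 0 ∧ S.Q w = c) :=
    Finset.filter_congr (fun w _ => and_comm)
  rw [c1, c2] at h6
  omega

/-- GC0 (filter form): `x^⊥` has `3^(2m-1)` singular vectors -/
theorem card_perp_sing_filter [Fintype V] [DecidableEq V] [DecidableEq F] {m : ℕ}
    (hV : Nat.card V = 3 ^ (2 * m + 1))
    (hs : Nat.card {v : V // S.Q v = 0} = 3 ^ (2 * m)) (hm : 1 ≤ m) {x : V}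
    (hx0 : x ≠ 0) (hx : S.Q x = 0) :
    (Finset.univ.filter fun w : V => S.B x w = 0 ∧ S.Q w = 0).card = 3 ^ (2 * m - 1) := by
  have h := card_class_split S hV hm hx0 hx 0
  rw [← natCard_eq_filter, hs, pow_split' hm] at h
  omega

/-- the line `<x>` as a finset -/
noncomputable def lineFinset [Fintype F] [DecidableEq V] (x : V) : Finset V :=
  Finset.univ.image fun a : F => a • x

theorem mem_lineFinset [Fintype F] [DecidableEq V] {x z : V} :
    z ∈ lineFinset (F := F) x ↔ ∃ a : F, z = a • x := by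
  simp only [lineFinset, Finset.mem_image, Finset.mem_univ, true_and]
  exact ⟨fun ⟨a, h⟩ => ⟨a, h.symm⟩, fun ⟨a, h⟩ => ⟨a, h.symm⟩⟩

/-- the plane `<x, w>` as a finset -/
noncomputable def planeFinset [Fintype F] [DecidableEq V] (x w : V) : Finset V :=
  Finset.univ.image fun p : F × F => p.1 • x + p.2 • w

theorem mem_planeFinset [Fintype F] [DecidableEq V] {x w z : V} :
    z ∈ planeFinset (F := F) x w ↔ ∃ a b : F, z = a • x + b • w := by
  simp only [planeFinset, Finset.mem_image, Finset.mem_univ, true_and, Prod.exists]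
  exact ⟨fun ⟨a, b, h⟩ => ⟨a, b, h.symm⟩, fun ⟨a, b, h⟩ => ⟨a, b, h.symm⟩⟩

/-- **N1'**: a singular vector of `x^⊥` outside `<x>` -/
theorem exists_sing_perp_not_span [Finite V] {m : ℕ} (hV : Nat.card V = 3 ^ (2 * m + 1))
    (hs : Nat.card {v : V // S.Q v = 0} = 3 ^ (2 * m)) (hm : 2 ≤ m) {x : V}
    (hx0 : x ≠ 0) (hx : S.Q x = 0) :
    ∃ s, S.Q s = 0 ∧ S.B x s = 0 ∧ ¬ ∃ a : F, s = a • x := by
  classical
  have : Fintype V := Fintype.ofFinite V
  have : Finite F := S.finite_F
  have : Fintype F := Fintype.ofFinite F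
  have hF : Fintype.card F = 3 := by rw [← Nat.card_eq_fintype_card, S.natCard_F]
  have h1 := card_perp_sing_filter S hV hs (by omega) hx0 hx
  have h2 : (lineFinset (F := F) x).card ≤ 3 := by
    calc (lineFinset (F := F) x).card ≤ (Finset.univ : Finset F).card := Finset.card_image_le
      _ = 3 := by rw [Finset.card_univ, hF]
  have h3 : (3 : ℕ) < 3 ^ (2 * m - 1) := by
    calc (3 : ℕ) = 3 ^ 1 := by norm_num
      _ < 3 ^ (2 * m - 1) := Nat.pow_lt_pow_right (by norm_num) (by omega)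
  have h4 : (lineFinset (F := F) x).card <
      (Finset.univ.filter fun w : V => S.B x w = 0 ∧ S.Q w = 0).card := by omega
  obtain ⟨s, hs1, hs2⟩ := Finset.exists_mem_notMem_of_card_lt_card h4
  simp only [Finset.mem_filter, Finset.mem_univ, true_and] at hs1
  exact ⟨s, hs1.2, hs1.1, fun h => hs2 (mem_lineFinset.mpr h)⟩

/-- `3^(2m-1) = 3 · 3^(2m-2)` -/
theorem pow_split'' {m : ℕ} (hm : 1 ≤ m) : (3 : ℕ) ^ (2 * m - 1) = 3 * 3 ^ (2 * m - 2) := by
  have : 2 * m - 1 = (2 * m - 2) + 1 := by omega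
  rw [this, pow_succ]; ring

/-- **N2** (count): `x^⊥ ∩ w^⊥` has at least `3^(2m-2)` singular vectors (`x`, `w` singular, `x ⊥ w`) -/
theorem card_perp_perp_sing_ge [Fintype V] [DecidableEq V] [DecidableEq F] {m : ℕ}
    (hV : Nat.card V = 3 ^ (2 * m + 1))
    (hs : Nat.card {v : V // S.Q v = 0} = 3 ^ (2 * m)) (hm : 1 ≤ m) {x w : V}
    (hx0 : x ≠ 0) (hx : S.Q x = 0) (hw : S.Q w = 0) (hxw : S.B x w = 0) :
    3 ^ (2 * m - 2) ≤
      (Finset.univ.filter fun z : V => (S.B x z = 0 ∧ S.Q z = 0) ∧ S.B w z = 0).card := by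
  have h1 := card_perp_sing_filter S hV hs hm hx0 hx
  have h0 := card_perp_filter S hV hm hx0
  rw [pow_split'' hm] at h1 h0
  have hc := coset_count S hw (fun z => S.B x z = 0) (fun z a hz => by
    rw [S.Badd_right, S.Bsmul_right, hxw, mul_zero, add_zero]; exact hz) 0
  have h2 := card_filter_and_add (fun z : V => S.B x z = 0) (fun z : V => S.B w z = 0)
  have h3 := card_filter_and_add (fun z : V => S.B x z = 0 ∧ S.Q z = 0) (fun z : V => S.B w z = 0)
  have e1 : (Finset.univ.filter fun z : V => (S.B x z = 0 ∧ S.Q z = 0) ∧ ¬ S.B w z = 0) =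
      (Finset.univ.filter fun z : V => S.B x z = 0 ∧ ¬ S.B w z = 0 ∧ S.Q z = 0) :=
    Finset.filter_congr (fun z _ => by tauto)
  rw [e1] at h3
  -- `|x^⊥| ≤ 3 |x^⊥ ∩ w^⊥|`
  have h4 := S.card_perp_inf (LinearMap.ker (S.B x)) w
  have e2 : Nat.card ↥(LinearMap.ker (S.B x)) = (Finset.univ.filter fun z : V => S.B x z = 0).card := by
    rw [← natCard_eq_filter]
    exact Nat.card_congr (Equiv.subtypeEquivRight (fun z => LinearMap.mem_ker))
  have e3 : Nat.card {u : V // u ∈ LinearMap.ker (S.B x) ∧ S.B w u = 0} =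
      (Finset.univ.filter fun z : V => S.B x z = 0 ∧ S.B w z = 0).card := by
    rw [← natCard_eq_filter]
    exact Nat.card_congr (Equiv.subtypeEquivRight (fun z => by rw [LinearMap.mem_ker]))
  rw [e2, e3] at h4
  omega

/-- **N2**: a singular vector of `<x, w>^⊥` outside `<x, w>` (`x`, `w` singular, `x ⊥ w`, `m ≥ 3`) -/
theorem exists_sing_perp_perp_not_span [Finite V] {m : ℕ} (hV : Nat.card V = 3 ^ (2 * m + 1))
    (hs : Nat.card {v : V // S.Q v = 0} = 3 ^ (2 * m)) (hm : 3 ≤ m) {x w : V}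
    (hx0 : x ≠ 0) (hx : S.Q x = 0) (hw : S.Q w = 0) (hxw : S.B x w = 0) :
    ∃ z, S.Q z = 0 ∧ S.B x z = 0 ∧ S.B w z = 0 ∧ ¬ ∃ a b : F, z = a • x + b • w := by
  classical
  have : Fintype V := Fintype.ofFinite V
  have : Finite F := S.finite_F
  have : Fintype F := Fintype.ofFinite F
  have hF : Fintype.card F = 3 := by rw [← Nat.card_eq_fintype_card, S.natCard_F]
  have h1 := card_perp_perp_sing_ge S hV hs (by omega) hx0 hx hw hxw
  have h2 : (planeFinset (F := F) x w).card ≤ 9 := by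
    calc (planeFinset (F := F) x w).card ≤ (Finset.univ : Finset (F × F)).card :=
          Finset.card_image_le
      _ = 9 := by rw [Finset.card_univ, Fintype.card_prod, hF]
  have h3 : (9 : ℕ) < 3 ^ (2 * m - 2) := by
    calc (9 : ℕ) = 3 ^ 2 := by norm_num
      _ < 3 ^ (2 * m - 2) := Nat.pow_lt_pow_right (by norm_num) (by omega)
  have h4 : (planeFinset (F := F) x w).card <
      (Finset.univ.filter fun z : V => (S.B x z = 0 ∧ S.Q z = 0) ∧ S.B w z = 0).card := by omega
  obtain ⟨z, hz1, hz2⟩ := Finset.exists_mem_notMem_of_card_lt_card h4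
  simp only [Finset.mem_filter, Finset.mem_univ, true_and] at hz1
  exact ⟨z, hz1.1.2, hz1.1.1, hz1.2, fun h => hz2 (mem_planeFinset.mpr h)⟩

/-- double perp of a pair: `(<x, w>^⊥)^⊥ = <x, w>` -/
theorem mem_plane_of_perp [Finite V] {x w u : V}
    (h : ∀ z, S.B x z = 0 → S.B w z = 0 → S.B z u = 0) : ∃ a b : F, u = a • x + b • w := by
  have h1 : u ∈ S.B.orthogonal (S.B.orthogonal (Submodule.span F {x, w})) := by
    rw [S.mem_orthogonal]
    intro z hz
    rw [S.mem_orthogonal] at hz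
    exact h z (hz x (Submodule.subset_span (by simp))) (hz w (Submodule.subset_span (by simp)))
  rw [S.orthogonal_orthogonal_eq, Submodule.mem_span_pair] at h1
  obtain ⟨a, b, hab⟩ := h1
  exact ⟨a, b, hab.symm⟩

/-- **E**: for `w ∈ x^⊥ ∖ <x>` there is a singular `y ∈ x^⊥` with `B y w ≠ 0` -/
theorem exists_sing_perp_B_ne [Finite V] {m : ℕ} (hV : Nat.card V = 3 ^ (2 * m + 1))
    (hs : Nat.card {v : V // S.Q v = 0} = 3 ^ (2 * m)) (hm : 2 ≤ m) {x w : V}
    (hx0 : x ≠ 0) (hx : S.Q x = 0) (hwx : ¬ ∃ a : F, w = a • x) :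
    ∃ y, S.Q y = 0 ∧ S.B x y = 0 ∧ S.B y w ≠ 0 := by
  obtain ⟨s, hs0, hxs, hsx⟩ := exists_sing_perp_not_span S hV hs hm hx0 hx
  by_cases hsw : S.B s w = 0
  swap
  · exact ⟨s, hs0, hxs, hsw⟩
  -- `b ⊥ x` with `B b s ≠ 0`, `a0 ⊥ x` with `B a0 w ≠ 0`
  obtain ⟨b, hxb, hbs⟩ : ∃ b, S.B x b = 0 ∧ S.B b s ≠ 0 := by
    by_contra hcon
    push Not at hcon
    exact hsx (S.mem_span_of_perp hcon)
  obtain ⟨a0, hxa0, ha0w⟩ : ∃ a0, S.B x a0 = 0 ∧ S.B a0 w ≠ 0 := by
    by_contra hcon
    push Not at hcon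
    exact hwx (S.mem_span_of_perp hcon)
  -- `a ⊥ x` with `B a w ≠ 0` and `B a s ≠ 0`
  obtain ⟨a, hxa, haw, has⟩ : ∃ a, S.B x a = 0 ∧ S.B a w ≠ 0 ∧ S.B a s ≠ 0 := by
    by_cases h1 : S.B a0 s = 0
    · by_cases h2 : S.B b w = 0
      · refine ⟨a0 + b, ?_, ?_, ?_⟩
        · rw [S.Badd_right, hxa0, hxb, add_zero]
        · rw [S.Badd_left, h2, add_zero]; exact ha0w
        · rw [S.Badd_left, h1, zero_add]; exact hbs
      · exact ⟨b, hxb, h2, hbs⟩
    · exact ⟨a0, hxa0, ha0w, h1⟩
  -- flip `a` along `s`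
  obtain ⟨u, hu, huv⟩ := flip S hs0 has
  refine ⟨u, hu, ?_, ?_⟩
  · rw [S.B_symm, huv x (by rw [S.B_symm]; exact hxs), S.B_symm]; exact hxa
  · rw [huv w hsw]; exact haw

end Cfsg.Agent.Lib.Helper15.Om3Count
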