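/-
helper15: leaf T1 (`exists_smul_eq_of_sing`) of helper11's S2144 market "OM3" (`notes/S2144_leaves.lean`).
-/
import Mathlib
import Cfsg.Agent.Lib.Helper11.Om3Tools
import Cfsg.Agent.Lib.Helper15.Om3Count

set_option autoImplicit false

open Cfsg.Agent.Lib.Helper11.Om3 MulAction
open scoped Pointwise

namespace Cfsg.Agent.Lib.Helper15.Om3Leaf

open Cfsg.Agent.Lib.Helper15.Om3Count

variable {F V G : Type*} [Field F] [AddCommGroup V] [Module F V] [Group G] [DistribMulAction G V]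
  (S : Setting F V G)

/-- perpendicular independent singular vectors are conjugate (one Siegel element) -/
theorem exists_smul_eq_of_perp {x y : V} (hx0 : x ≠ 0) (hx : S.Q x = 0) (hy : S.Q y = 0)
    (hxy : S.B x y = 0) (hind : ¬ ∃ a : F, y = a • x) : ∃ g : G, g • x = y := by
  obtain ⟨a, ha⟩ := S.exists_B_eq_one hx0
  obtain ⟨z, hxz, hzy⟩ : ∃ z, S.B x z = 0 ∧ S.B z y ≠ 0 := by
    by_contra hcon
    push Not at hcon
    exact hind (S.mem_span_of_perp hcon)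
  have h1 : S.B (a + ((1 - S.B a y) * (S.B z y)⁻¹) • z) x = 1 := by
    rw [S.Badd_left, S.Bsmul_left, S.B_symm z x, hxz, mul_zero, add_zero, ha]
  have h2 : S.B (a + ((1 - S.B a y) * (S.B z y)⁻¹) • z) y = 1 := by
    rw [S.Badd_left, S.Bsmul_left]
    field_simp
    ring
  obtain ⟨u, hu, huv⟩ := flip S hx (y0 := a + ((1 - S.B a y) * (S.B z y)⁻¹) • z)
    (by rw [h1]; exact one_ne_zero)
  have hux : S.B u x = 1 := by rw [huv x (S.B_self_of_sing hx), h1]
  have huy : S.B u y = 1 := by rw [huv y hxy, h2]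
  exact ⟨S.sg u ((1 : F) • (x - y)), S.sg_trans hu (by rw [hx, hy]) one_ne_zero hux huy⟩

/-- T1 -/
theorem exists_smul_eq_of_sing [Finite V] {m : ℕ} (hV : Nat.card V = 3 ^ (2 * m + 1))
    (hs : Nat.card {v : V // S.Q v = 0} = 3 ^ (2 * m)) (hm : 3 ≤ m)
    {x y : V} (hx0 : x ≠ 0) (hy0 : y ≠ 0) (hx : S.Q x = 0) (hy : S.Q y = 0) :
    ∃ g : G, g • x = y := by
  by_cases hdir : S.B x y = 0 ∧ ¬ ∃ a : F, y = a • x
  · exact exists_smul_eq_of_perp S hx0 hx hy hdir.1 hdir.2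
  have hxx := S.B_self_of_sing hx
  obtain ⟨z0, hz0, hxz0, hz0x⟩ := exists_sing_perp_not_span S hV hs (by omega) hx0 hx
  -- `z` singular, `z ⊥ x`, `z ⊥ y`, `z ∉ <x>`
  obtain ⟨z, hz, hxz, hzy, hzx⟩ : ∃ z, S.Q z = 0 ∧ S.B x z = 0 ∧ S.B z y = 0 ∧
      ¬ ∃ a : F, z = a • x := by
    by_cases hxy : S.B x y = 0
    · have hind : ∃ a : F, y = a • x := by
        by_contra h
        exact hdir ⟨hxy, h⟩
      obtain ⟨a, rfl⟩ := hind
      refine ⟨z0, hz0, hxz0, ?_, hz0x⟩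
      rw [S.Bsmul_right, S.B_symm, hxz0, mul_zero]
    · refine ⟨z0 + (-(S.B z0 y) * (S.B x y)⁻¹) • x, ?_, ?_, ?_, ?_⟩
      · rw [Q_add_smul S hx, hz0, S.B_symm z0 x, hxz0, mul_zero, add_zero]
      · rw [S.Badd_right, S.Bsmul_right, hxx, hxz0, mul_zero, add_zero]
      · rw [S.Badd_left, S.Bsmul_left]
        field_simp
        ring
      · rintro ⟨a, ha⟩
        apply hz0x
        refine ⟨a - (-(S.B z0 y) * (S.B x y)⁻¹), ?_⟩
        rw [sub_smul, ← ha]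
        module
  obtain ⟨g1, hg1⟩ := exists_smul_eq_of_perp S hx0 hx hz hxz hzx
  have hz0' : z ≠ 0 := by
    rintro rfl
    exact hzx ⟨0, by rw [zero_smul]⟩
  have hyz : ¬ ∃ a : F, y = a • z := by
    rintro ⟨a, ha⟩
    have ha0 : a ≠ 0 := by
      rintro rfl
      rw [zero_smul] at ha
      exact hy0 ha
    have hxy : S.B x y = 0 := by rw [ha, S.Bsmul_right, hxz, mul_zero]
    have hind : ∃ b : F, y = b • x := by
      by_contra h
      exact hdir ⟨hxy, h⟩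
    obtain ⟨b, hb⟩ := hind
    apply hzx
    refine ⟨a⁻¹ * b, ?_⟩
    rw [mul_smul, ← hb, ha, smul_smul, inv_mul_cancel₀ ha0, one_smul]
  obtain ⟨g2, hg2⟩ := exists_smul_eq_of_perp S hz0' hz hy hzy hyz
  exact ⟨g2 * g1, by rw [mul_smul, hg1, hg2]⟩

end Cfsg.Agent.Lib.Helper15.Om3Leaf
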