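/-
helper15: leaf QR (`relIndex_Qs`) of helper11's S2144 market "OM3" (`notes/S2144_leaves.lean`);
port of helper12's `Om2QR` to the field with three elements.
-/
import Mathlib
import Cfsg.Agent.Lib.Helper11.Om3Tools

set_option autoImplicit false

open Cfsg.Agent.Lib.Helper11.Om3 MulAction
open scoped Pointwise

namespace Cfsg.Agent.Lib.Helper15.Om3Leaf

/-- a map all of whose fibres have `k` elements -/
theorem card_eq_mul_of_fibers {α β : Type*} [Finite α] [Finite β] (φ : α → β) (k : ℕ)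
    (h : ∀ b, Nat.card {a // φ a = b} = k) : Nat.card α = k * Nat.card β := by
  classical
  have := Fintype.ofFinite β
  rw [← Nat.card_congr (Equiv.sigmaFiberEquiv φ), Nat.card_sigma]
  simp only [h, Finset.sum_const, Finset.card_univ, smul_eq_mul, Nat.card_eq_fintype_card]
  ring

/-- `|K : H ∩ K| · |H ∩ K| = |K|` -/
theorem relIndex_mul_card_inf' {G : Type*} [Group G] (H K : Subgroup G) :
    H.relIndex K * Nat.card ↥(H ⊓ K) = Nat.card K := by
  have h1 := Subgroup.card_mul_index (H.subgroupOf K)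
  have h2 : Nat.card (H.subgroupOf K) = Nat.card ↥(H ⊓ K) := by
    rw [← Subgroup.inf_subgroupOf_right]
    exact Nat.card_congr (Subgroup.subgroupOfEquivOfLe inf_le_right).toEquiv
  rw [h2] at h1
  rw [← h1, Subgroup.relIndex, Nat.mul_comm]

variable {F V G : Type*} [Field F] [AddCommGroup V] [Module F V] [Group G] [DistribMulAction G V]
  (S : Setting F V G)

/-- `w ↦ sg x w` is three-to-one from `D̃_x(H)` onto `H ∩ Q_x`. -/
theorem card_Dt_eq_three_mul [Finite V] [Finite G] (H : Subgroup G) {x : V} (hx0 : x ≠ 0)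
    (hx : S.Q x = 0) : Nat.card (S.Dt H hx) = 3 * Nat.card ↥(H ⊓ S.Qs hx) := by
  have hxx := S.B_self_of_sing hx
  let φ : S.Dt H hx → ↥(H ⊓ S.Qs hx) := fun w =>
    ⟨S.sg x w.1, w.2.2, S.sg_mem_Qs hx w.2.1⟩
  apply card_eq_mul_of_fibers φ 3
  rintro ⟨g, hgH, w₀, hw₀, rfl⟩
  rw [← S.natCard_F]
  -- the fibre is `{w₀ + a • x}`
  have hmem : ∀ a : F, w₀ + a • x ∈ S.Dt H hx := by
    intro a
    refine ⟨by rw [S.Badd_right, hw₀, S.Bsmul_right, hxx, mul_zero, add_zero], ?_⟩
    rw [S.sg_add_smul_self hx hw₀]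
    exact hgH
  refine Nat.card_congr (Equiv.ofBijective
    (fun w => Classical.choose ((S.sg_eq_sg_iff hx0 hx hw₀ w.1.2.1).mp
      (congrArg Subtype.val w.2).symm)) ⟨?_, ?_⟩)
  · intro w w' hww'
    have h1 := Classical.choose_spec ((S.sg_eq_sg_iff hx0 hx hw₀ w.1.2.1).mp
      (congrArg Subtype.val w.2).symm)
    have h2 := Classical.choose_spec ((S.sg_eq_sg_iff hx0 hx hw₀ w'.1.2.1).mp
      (congrArg Subtype.val w'.2).symm)
    simp only at hww'
    apply Subtype.ext
    apply Subtype.ext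
    rw [h1, h2, hww']
  · intro a
    refine ⟨⟨⟨w₀ + a • x, hmem a⟩, Subtype.ext (S.sg_add_smul_self hx hw₀ a)⟩, ?_⟩
    have h1 := Classical.choose_spec ((S.sg_eq_sg_iff hx0 hx hw₀ (hmem a).1).mp
      (S.sg_add_smul_self hx hw₀ a).symm)
    -- `w₀ + a • x = w₀ + a' • x` gives `a = a'`
    have h2 : (Classical.choose ((S.sg_eq_sg_iff hx0 hx hw₀ (hmem a).1).mp
      (S.sg_add_smul_self hx hw₀ a).symm)) • x = a • x := by
      have := add_left_cancel h1
      exact this.symm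
    have h3 := sub_eq_zero.mpr h2
    rw [← sub_smul, smul_eq_zero] at h3
    rcases h3 with h3 | h3
    · exact sub_eq_zero.mp h3
    · exact absurd h3 hx0

/-- `9 |Q_x| = |V|`. -/
theorem nine_mul_card_Qs [Finite V] [Finite G] {x : V} (hx0 : x ≠ 0) (hx : S.Q x = 0) :
    9 * Nat.card (S.Qs hx) = Nat.card V := by
  have h1 := card_Dt_eq_three_mul S (⊤ : Subgroup G) hx0 hx
  rw [top_inf_eq] at h1
  have h2 : Nat.card (S.Dt (⊤ : Subgroup G) hx) = Nat.card {z : V // S.B x z = 0} := by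
    apply Nat.card_congr
    exact Equiv.subtypeEquivRight (fun z => by
      rw [S.mem_Dt hx]
      exact ⟨fun h => h.1, fun h => ⟨h, Subgroup.mem_top _⟩⟩)
  have h3 := S.three_mul_card_perp hx0
  omega

/-- QR: `|Q_x : H ∩ Q_x| · |D̃_x| = |x^⊥| = |V| / 3`. -/
theorem relIndex_Qs [Finite V] [Finite G] (H : Subgroup G) {x : V} (hx0 : x ≠ 0) (hx : S.Q x = 0) :
    3 * (H.relIndex (S.Qs hx) * Nat.card (S.Dt H hx)) = Nat.card V := by
  rw [card_Dt_eq_three_mul S H hx0 hx, ← nine_mul_card_Qs S hx0 hx,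
    ← relIndex_mul_card_inf' H (S.Qs hx)]
  ring

end Cfsg.Agent.Lib.Helper15.Om3Leaf
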