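/-
helper15: leaf T2 (`exists_stab_smul_eq`) of helper11's S2144 market "OM3" (`notes/S2144_leaves.lean`).
Route: singular case by flips through a singular `z ∈ <x, w>^⊥`; general case: singular `y, z ∈ x^⊥`
with `B y w = 1 = B z w'`, `p ∈ G_x` with `p • y = z`, then one Siegel element `sg z (p • w - w')`.
-/
import Mathlib
import Cfsg.Agent.Lib.Helper11.Om3Tools
import Cfsg.Agent.Lib.Helper15.Om3Count

set_option autoImplicit false

open Cfsg.Agent.Lib.Helper11.Om3 MulAction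
open scoped Pointwise

namespace Cfsg.Agent.Lib.Helper15.Om3Leaf

open Cfsg.Agent.Lib.Helper15.Om3Count

variable {F V G : Type*} [Field F] [AddCommGroup V] [Module F V] [Group G] [DistribMulAction G V]
  (S : Setting F V G)

/-- `sg u (w - w')` with `u ⊥ x`, `w, w' ⊥ x`, `B u w = B u w' = 1`, `Q w = Q w'` fixes `x`, moves `w` to
`w'`. -/
theorem sg_stab_trans {x u w w' : V} (hu : S.Q u = 0) (hux : S.B u x = 0) (hw : S.B x w = 0)
    (hw' : S.B x w' = 0) (hQ : S.Q w = S.Q w') (h1 : S.B u w = 1) (h2 : S.B u w' = 1) :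
    ∃ p : G, p • x = x ∧ p • w = w' := by
  refine ⟨S.sg u ((1 : F) • (w - w')), ?_, S.sg_trans hu hQ one_ne_zero h1 h2⟩
  apply S.sg_smul_of_perp_perp hu
  · rw [one_smul, S.Bsub_right, h1, h2, sub_self]
  · exact hux
  · rw [one_smul, S.Bsub_left, S.B_symm w x, S.B_symm w' x, hw, hw', sub_self]

/-- singular, mutually perpendicular, independent `x, w, w'`: one Siegel element of `G_x` moves `w` to `w'` -/
theorem exists_stab_smul_eq_of_perp [Finite V] {x w w' : V} (hw0 : S.Q w = 0) (hw0' : S.Q w' = 0)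
    (hw : S.B x w = 0) (hw' : S.B x w' = 0) (hww' : S.B w w' = 0)
    (hwx : ¬ ∃ a : F, w = a • x) (hwxw : ¬ ∃ a b : F, w' = a • x + b • w) :
    ∃ p : G, p • x = x ∧ p • w = w' := by
  obtain ⟨a, hxa, haw⟩ : ∃ a, S.B x a = 0 ∧ S.B a w ≠ 0 := by
    by_contra hcon
    push Not at hcon
    exact hwx (S.mem_span_of_perp hcon)
  obtain ⟨b, hxb, hwb, hbw'⟩ : ∃ b, S.B x b = 0 ∧ S.B w b = 0 ∧ S.B b w' ≠ 0 := by
    by_contra hcon
    push Not at hcon
    exact hwxw (mem_plane_of_perp S hcon)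
  have hy0x : S.B ((S.B a w)⁻¹ • a + ((1 - (S.B a w)⁻¹ * S.B a w') * (S.B b w')⁻¹) • b) x = 0 := by
    rw [S.Badd_left, S.Bsmul_left, S.Bsmul_left, S.B_symm a x, S.B_symm b x, hxa, hxb]
    ring
  have hy0w : S.B ((S.B a w)⁻¹ • a + ((1 - (S.B a w)⁻¹ * S.B a w') * (S.B b w')⁻¹) • b) w = 1 := by
    rw [S.Badd_left, S.Bsmul_left, S.Bsmul_left, S.B_symm b w, hwb, mul_zero, add_zero,
      inv_mul_cancel₀ haw]
  have hy0w' : S.B ((S.B a w)⁻¹ • a + ((1 - (S.B a w)⁻¹ * S.B a w') * (S.B b w')⁻¹) • b) w' = 1 := by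
    rw [S.Badd_left, S.Bsmul_left, S.Bsmul_left]
    field_simp
    ring
  obtain ⟨u, hu, huv⟩ := flip S hw0
    (y0 := (S.B a w)⁻¹ • a + ((1 - (S.B a w)⁻¹ * S.B a w') * (S.B b w')⁻¹) • b)
    (by rw [hy0w]; exact one_ne_zero)
  have hux : S.B u x = 0 := by rw [huv x (by rw [S.B_symm]; exact hw), hy0x]
  have huw : S.B u w = 1 := by rw [huv w (S.B_self_of_sing hw0), hy0w]
  have huw' : S.B u w' = 1 := by rw [huv w' hww', hy0w']
  exact sg_stab_trans S hu hux hw hw' (by rw [hw0, hw0']) huw huw'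

/-- T2 for singular `w, w'` -/
theorem exists_stab_smul_eq_sing [Finite V] {m : ℕ} (hV : Nat.card V = 3 ^ (2 * m + 1))
    (hs : Nat.card {v : V // S.Q v = 0} = 3 ^ (2 * m)) (hm : 3 ≤ m)
    {x w w' : V} (hx0 : x ≠ 0) (hx : S.Q x = 0) (hw : S.B x w = 0) (hw' : S.B x w' = 0)
    (hwx : ¬ ∃ a : F, w = a • x) (hwx' : ¬ ∃ a : F, w' = a • x) (hw0 : S.Q w = 0)
    (hw0' : S.Q w' = 0) :
    ∃ p : G, p • x = x ∧ p • w = w' := by
  by_cases hA : S.B w w' = 0 ∧ ¬ ∃ a b : F, w' = a • x + b • w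
  · exact exists_stab_smul_eq_of_perp S hw0 hw0' hw hw' hA.1 hwx hA.2
  have hww := S.B_self_of_sing hw0
  obtain ⟨z0, hz0, hxz0, hwz0, hz0xw⟩ := exists_sing_perp_perp_not_span S hV hs hm hx0 hx hw0 hw
  -- `z` singular, `⊥ x, w, w'`, outside `<x, w>`
  obtain ⟨z, hz, hxz, hwz, hzw', hzxw⟩ : ∃ z, S.Q z = 0 ∧ S.B x z = 0 ∧ S.B w z = 0 ∧
      S.B z w' = 0 ∧ ¬ ∃ a b : F, z = a • x + b • w := by
    by_cases hww' : S.B w w' = 0
    · have hind : ∃ a b : F, w' = a • x + b • w := by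
        by_contra h
        exact hA ⟨hww', h⟩
      obtain ⟨a, b, rfl⟩ := hind
      refine ⟨z0, hz0, hxz0, hwz0, ?_, hz0xw⟩
      rw [S.Badd_right, S.Bsmul_right, S.Bsmul_right, S.B_symm z0 x, S.B_symm z0 w, hxz0, hwz0]
      ring
    · refine ⟨z0 + (-(S.B z0 w') * (S.B w w')⁻¹) • w, ?_, ?_, ?_, ?_, ?_⟩
      · rw [Q_add_smul S hw0, hz0, S.B_symm z0 w, hwz0, mul_zero, add_zero]
      · rw [S.Badd_right, S.Bsmul_right, hw, hxz0, mul_zero, add_zero]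
      · rw [S.Badd_right, S.Bsmul_right, hww, hwz0, mul_zero, add_zero]
      · rw [S.Badd_left, S.Bsmul_left]
        field_simp
        ring
      · rintro ⟨a, b, hab⟩
        apply hz0xw
        refine ⟨a, b - (-(S.B z0 w') * (S.B w w')⁻¹), ?_⟩
        rw [sub_smul, ← add_sub_assoc, ← hab]
        module
  have hzx : ¬ ∃ a : F, z = a • x := by
    rintro ⟨a, ha⟩
    exact hzxw ⟨a, 0, by rw [zero_smul, add_zero]; exact ha⟩
  obtain ⟨p1, hp1x, hp1⟩ := exists_stab_smul_eq_of_perp S hw0 hz hw hxz hwz hwx hzxw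
  have hw'xz : ¬ ∃ a b : F, w' = a • x + b • z := by
    rintro ⟨a, b, hab⟩
    have hb0 : b ≠ 0 := by
      rintro rfl
      rw [zero_smul, add_zero] at hab
      exact hwx' ⟨a, hab⟩
    have hww' : S.B w w' = 0 := by
      rw [hab, S.Badd_right, S.Bsmul_right, S.Bsmul_right, S.B_symm w x, hw, hwz]
      ring
    have hind : ∃ α β : F, w' = α • x + β • w := by
      by_contra h
      exact hA ⟨hww', h⟩
    obtain ⟨α, β, hαβ⟩ := hind
    apply hzxw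
    refine ⟨b⁻¹ * (α - a), b⁻¹ * β, ?_⟩
    have h1 : b • z = (α - a) • x + β • w := by
      have : a • x + b • z = α • x + β • w := by rw [← hab, ← hαβ]
      rw [sub_smul]
      calc b • z = (a • x + b • z) - a • x := by abel
        _ = α • x - a • x + β • w := by rw [this]; abel
    calc z = b⁻¹ • (b • z) := by rw [smul_smul, inv_mul_cancel₀ hb0, one_smul]
      _ = (b⁻¹ * (α - a)) • x + (b⁻¹ * β) • w := by rw [h1, smul_add, smul_smul, smul_smul]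
  obtain ⟨p2, hp2x, hp2⟩ := exists_stab_smul_eq_of_perp S hz hw0' hxz hw' hzw' hzx hw'xz
  exact ⟨p2 * p1, by rw [mul_smul, hp1x, hp2x], by rw [mul_smul, hp1, hp2]⟩

/-- T2 -/
theorem exists_stab_smul_eq [Finite V] {m : ℕ} (hV : Nat.card V = 3 ^ (2 * m + 1))
    (hs : Nat.card {v : V // S.Q v = 0} = 3 ^ (2 * m)) (hm : 3 ≤ m)
    {x w w' : V} (hx0 : x ≠ 0) (hx : S.Q x = 0) (hw : S.B x w = 0) (hw' : S.B x w' = 0)
    (hwx : ¬ ∃ a : F, w = a • x) (hwx' : ¬ ∃ a : F, w' = a • x) (hQ : S.Q w = S.Q w') :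
    ∃ p : G, p • x = x ∧ p • w = w' := by
  -- singular `y ⊥ x` with `B y w = 1`
  have key : ∀ v : V, S.B x v = 0 → (¬ ∃ a : F, v = a • x) →
      ∃ y, S.Q y = 0 ∧ S.B x y = 0 ∧ S.B y v = 1 ∧ ¬ ∃ a : F, y = a • x := by
    intro v hv hvx
    obtain ⟨y, hy, hxy, hyv⟩ := exists_sing_perp_B_ne S hV hs (by omega) hx0 hx hvx
    refine ⟨(S.B y v)⁻¹ • y, ?_, ?_, ?_, ?_⟩
    · rw [S.Q_smul, hy, mul_zero]
    · rw [S.Bsmul_right, hxy, mul_zero]
    · rw [S.Bsmul_left, inv_mul_cancel₀ hyv]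
    · rintro ⟨a, ha⟩
      have h1 : S.B ((S.B y v)⁻¹ • y) v = 1 := by rw [S.Bsmul_left, inv_mul_cancel₀ hyv]
      rw [ha, S.Bsmul_left, hv, mul_zero] at h1
      exact zero_ne_one h1
  obtain ⟨y, hy, hxy, hyw, hyx⟩ := key w hw hwx
  obtain ⟨z, hz, hxz, hzw', hzx⟩ := key w' hw' hwx'
  obtain ⟨p, hpx, hpy⟩ := exists_stab_smul_eq_sing S hV hs hm hx0 hx hxy hxz hyx hzx hy hz
  have h1 : S.B z (p • w) = 1 := by rw [← hpy, S.iso, hyw]
  have h2 : S.B x (p • w) = 0 := by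
    conv_lhs => rw [← hpx]
    rw [S.iso, hw]
  obtain ⟨q, hqx, hq⟩ := sg_stab_trans S hz (by rw [S.B_symm]; exact hxz) h2 hw'
    (by rw [S.isoQ, hQ]) h1 hzw'
  exact ⟨q * p, by rw [mul_smul, hpx, hqx], by rw [mul_smul, hq]⟩

end Cfsg.Agent.Lib.Helper15.Om3Leaf
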