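/-
helper15: leaf QR (`card_Qx`, `relIndex_Qx_mul_card_Dt_of_not_mem`, `relIndex_Qx_mul_card_Dt_of_mem`)
of helper11's S2153 market "SU2" (`notes/S2153_leaves.lean`).
-/
import Mathlib
import Cfsg.Agent.Lib.Helper11.Su2Tools

set_option autoImplicit false

open Cfsg.Agent.Lib.Helper11.Su2 MulAction
open scoped Pointwise

namespace Cfsg.Agent.Lib.Helper15.Su2Leaf

/-- a map all of whose fibres have `k` elements -/
theorem card_eq_mul_of_fibers {α β : Type*} [Finite α] [Finite β] (φ : α → β) (k : ℕ)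
    (h : ∀ b, Nat.card {a // φ a = b} = k) : Nat.card α = k * Nat.card β := by
  classical
  have := Fintype.ofFinite β
  rw [← Nat.card_congr (Equiv.sigmaFiberEquiv φ), Nat.card_sigma]
  simp only [h, Finset.sum_const, Finset.card_univ, smul_eq_mul, Nat.card_eq_fintype_card]
  ring

/-- `|K : H ∩ K| · |H ∩ K| = |K|` -/
theorem relIndex_mul_card_inf' {G : Type*} [Group G] (H K : Subgroup G) :
    H.relIndex K * Nat.card ↥(H ⊓ K) = Nat.card K := by
  have h1 := Subgroup.card_mul_index (H.subgroupOf K)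
  have h2 : Nat.card (H.subgroupOf K) = Nat.card ↥(H ⊓ K) := by
    rw [← Subgroup.inf_subgroupOf_right]
    exact Nat.card_congr (Subgroup.subgroupOfEquivOfLe inf_le_right).toEquiv
  rw [h2] at h1
  rw [← h1, Subgroup.relIndex, Nat.mul_comm]

variable {F V G : Type*} [Field F] [AddCommGroup V] [Module F V] [Group G] [DistribMulAction G V]
  (S : Setting F V G)

/-- the pairs `(w, c)` with `w ⊥ x`, `c + c² = h w w` and `gq x w c ∈ H` -/
def PHSet (H : Subgroup G) (x : V) : Set (V × F) :=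
  {p | S.h p.1 x = 0 ∧ p.2 + p.2 * p.2 = S.h p.1 p.1 ∧ S.gq x p.1 p.2 ∈ H}

theorem norm_add_tr {x w : V} {c : F} (hx : S.h x x = 0) (hw : S.h w x = 0)
    (hc : c + c * c = S.h w w) (a : F) :
    (c + (a + a * a)) + (c + (a + a * a)) * (c + (a + a * a)) = S.h (w + a • x) (w + a • x) := by
  rw [S.h_self_add_smul hx hw, S.tr_add, hc]
  have h1 := S.norm_smul_self hx a
  rw [S.h_self_smul, hx, mul_zero] at h1
  rw [h1, add_zero]

/-- `(w, c) ↦ gq x w c` is four-to-one from the pairs onto `H ∩ Q_x`. -/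
theorem card_PH_eq_four_mul [Finite V] [Finite G] (H : Subgroup G) {x : V} (hx0 : x ≠ 0)
    (hx : S.h x x = 0) : Nat.card (PHSet S H x) = 4 * Nat.card ↥(H ⊓ S.Qx hx) := by
  have : Finite F := S.finite_F
  let φ : PHSet S H x → ↥(H ⊓ S.Qx hx) := fun p =>
    ⟨S.gq x p.1.1 p.1.2, p.2.2.2, S.gq_mem_Qx hx p.2.1 p.2.2.1⟩
  apply card_eq_mul_of_fibers φ 4
  rintro ⟨g, hgH, w₀, c₀, hw₀, hc₀, rfl⟩
  rw [← S.natCard_F]
  symm
  have hmem : ∀ a : F, ((w₀ + a • x, c₀ + (a + a * a)) : V × F) ∈ PHSet S H x := by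
    intro a
    refine ⟨?_, norm_add_tr S hx hw₀ hc₀ a, ?_⟩
    · show S.h (w₀ + a • x) x = 0
      rw [S.h_add_left, hw₀, S.h_smul_left, hx, mul_zero, add_zero]
    · show S.gq x (w₀ + a • x) (c₀ + (a + a * a)) ∈ H
      rw [S.gq_add_smul hx hw₀ hc₀ a]; exact hgH
  refine Nat.card_congr (Equiv.ofBijective (fun a : F =>
    (⟨⟨(w₀ + a • x, c₀ + (a + a * a)), hmem a⟩, Subtype.ext (S.gq_add_smul hx hw₀ hc₀ a)⟩ :
      {p : PHSet S H x // φ p = ⟨S.gq x w₀ c₀, hgH, w₀, c₀, hw₀, hc₀, rfl⟩})) ⟨?_, ?_⟩)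
  · intro a a' haa'
    have h1 : w₀ + a • x = w₀ + a' • x := by
      have := congrArg (fun q : {p : PHSet S H x // φ p = ⟨S.gq x w₀ c₀, hgH, w₀, c₀, hw₀, hc₀, rfl⟩} =>
        (q.1.1).1) haa'
      exact this
    have h2 : a • x = a' • x := add_left_cancel h1
    have h3 := sub_eq_zero.mpr h2
    rw [← sub_smul, smul_eq_zero] at h3
    rcases h3 with h3 | h3
    · exact sub_eq_zero.mp h3
    · exact absurd h3 hx0
  · rintro ⟨⟨⟨w, c⟩, hw, hc, hm⟩, hp⟩
    have hp' : S.gq x w c = S.gq x w₀ c₀ := congrArg Subtype.val hp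
    obtain ⟨a, ha1, ha2⟩ := (S.gq_eq_gq_iff hx0 hx hw₀ hw hc₀ hc).mp hp'.symm
    refine ⟨a, ?_⟩
    apply Subtype.ext
    apply Subtype.ext
    exact Prod.ext ha1.symm ha2.symm

/-- if `tv x ∈ H`, the pairs are two-to-one over `D̃_x(H)` -/
theorem card_PH_of_mem [Finite V] [Finite G] (H : Subgroup G) {x : V} (hx : S.h x x = 0)
    (hH : S.tv x ∈ H) : Nat.card (PHSet S H x) = 2 * Nat.card (S.Dt H hx) := by
  have : Finite F := S.finite_F
  let π : PHSet S H x → S.Dt H hx := fun p => ⟨p.1.1, p.2.1, p.1.2, p.2.2.1, p.2.2.2⟩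
  apply card_eq_mul_of_fibers π 2
  rintro ⟨w, hw, c₀, hc₀, hm⟩
  rw [Nat.card_eq_two_iff]
  have hm' : S.gq x w (c₀ + 1) ∈ H := by
    rw [← S.gq_mul_tv hx hw hc₀]; exact H.mul_mem hm hH
  refine ⟨⟨⟨(w, c₀), hw, hc₀, hm⟩, rfl⟩, ⟨⟨(w, c₀ + 1), hw, S.norm_add_one hc₀, hm'⟩, rfl⟩, ?_, ?_⟩
  · intro he
    have h1 : c₀ = c₀ + 1 := by
      have := congrArg (fun q : {p : PHSet S H x // π p = ⟨w, hw, c₀, hc₀, hm⟩} => (q.1.1).2) he
      exact this
    have h2 : (1 : F) = 0 := by linear_combination -h1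
    exact one_ne_zero h2
  · apply Set.eq_univ_of_forall
    rintro ⟨⟨⟨w', c⟩, hw', hc, hmc⟩, hp⟩
    have hww : w' = w := congrArg Subtype.val hp
    subst hww
    rcases S.norm_unique hc₀ hc with h | h
    · left
      apply Subtype.ext
      apply Subtype.ext
      exact Prod.ext rfl h
    · right
      apply Subtype.ext
      apply Subtype.ext
      exact Prod.ext rfl h

/-- if `tv x ∉ H`, the pairs are in bijection with `D̃_x(H)` -/
theorem card_PH_of_not_mem [Finite V] [Finite G] (H : Subgroup G) {x : V} (hx : S.h x x = 0)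
    (hH : S.tv x ∉ H) : Nat.card (PHSet S H x) = Nat.card (S.Dt H hx) := by
  let π : PHSet S H x → S.Dt H hx := fun p => ⟨p.1.1, p.2.1, p.1.2, p.2.2.1, p.2.2.2⟩
  refine Nat.card_congr (Equiv.ofBijective π ⟨?_, ?_⟩)
  · rintro ⟨⟨w, c⟩, hw, hc, hm⟩ ⟨⟨w', c'⟩, hw', hc', hm'⟩ he
    have hww : w = w' := congrArg Subtype.val he
    subst hww
    dsimp only at hw hc hm hw' hc' hm'
    apply Subtype.ext
    rcases S.norm_unique hc hc' with h | h
    · exact Prod.ext rfl h.symm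
    · exfalso
      apply hH
      have h1 : S.gq x w c' = S.gq x w c * S.tv x := by rw [S.gq_mul_tv hx hw hc, h]
      have h2 : S.tv x = (S.gq x w c)⁻¹ * S.gq x w c' := by rw [h1]; group
      rw [h2]
      exact H.mul_mem (H.inv_mem hm) hm'
  · rintro ⟨w, hw, c, hc, hm⟩
    exact ⟨⟨(w, c), hw, hc, hm⟩, rfl⟩

/-- `D̃_x(⊤) = x^⊥` -/
theorem card_Dt_top {x : V} (hx : S.h x x = 0) :
    Nat.card (S.Dt (⊤ : Subgroup G) hx) = Nat.card {z : V // S.h z x = 0} := by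
  refine Nat.card_congr (Equiv.subtypeEquivRight (fun w => ?_))
  constructor
  · intro hw; exact hw.1
  · intro hw
    obtain ⟨c, hc⟩ := S.exists_tr_eq (S.h_self_mem w)
    exact ⟨hw, c, hc, Subgroup.mem_top _⟩

theorem four_pow_pred [Finite V] {n : ℕ} (hV : Nat.card V = 4 ^ n) {x : V} (hx0 : x ≠ 0) :
    4 ^ n = 4 * 4 ^ (n - 1) := by
  have hn : n ≠ 0 := by
    rintro rfl
    rw [pow_zero] at hV
    have := (Nat.card_eq_one_iff_unique.mp hV).1
    exact hx0 (Subsingleton.elim x 0)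
  obtain ⟨k, rfl⟩ := Nat.exists_eq_succ_of_ne_zero hn
  rw [Nat.succ_sub_one, pow_succ, mul_comm]

theorem card_perp_eq [Finite V] {n : ℕ} (hV : Nat.card V = 4 ^ n) {x : V} (hx0 : x ≠ 0) :
    Nat.card {z : V // S.h z x = 0} = 4 ^ (n - 1) := by
  have h1 := S.four_mul_card_perp hx0
  rw [hV, four_pow_pred hV hx0] at h1
  exact Nat.eq_of_mul_eq_mul_left (by norm_num) h1

theorem card_Qx [Finite V] [Finite G] {n : ℕ} (hV : Nat.card V = 4 ^ n) {x : V} (hx0 : x ≠ 0)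
    (hx : S.h x x = 0) : 2 * Nat.card (S.Qx hx) = 4 ^ (n - 1) := by
  have h1 := card_PH_eq_four_mul S (⊤ : Subgroup G) hx0 hx
  have h2 := card_PH_of_mem S (⊤ : Subgroup G) hx (Subgroup.mem_top _)
  rw [card_Dt_top S hx, card_perp_eq S hV hx0] at h2
  rw [top_inf_eq] at h1
  omega

theorem relIndex_Qx_mul_card_Dt_of_not_mem [Finite V] [Finite G] {n : ℕ} (hV : Nat.card V = 4 ^ n)
    (H : Subgroup G) {x : V} (hx0 : x ≠ 0) (hx : S.h x x = 0) (hH : S.tv x ∉ H) :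
    H.relIndex (S.Qx hx) * Nat.card (S.Dt H hx) = 2 * 4 ^ (n - 1) := by
  have h1 := card_PH_eq_four_mul S H hx0 hx
  have h2 := card_PH_of_not_mem S H hx hH
  have h3 := relIndex_mul_card_inf' H (S.Qx hx)
  have h4 := card_Qx S hV hx0 hx
  rw [← h2, h1, ← h4, ← h3]
  ring

theorem relIndex_Qx_mul_card_Dt_of_mem [Finite V] [Finite G] {n : ℕ} (hV : Nat.card V = 4 ^ n)
    (H : Subgroup G) {x : V} (hx0 : x ≠ 0) (hx : S.h x x = 0) (hH : S.tv x ∈ H) :
    H.relIndex (S.Qx hx) * Nat.card (S.Dt H hx) = 4 ^ (n - 1) := by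
  have h1 := card_PH_eq_four_mul S H hx0 hx
  have h2 := card_PH_of_mem S H hx hH
  have h3 := relIndex_mul_card_inf' H (S.Qx hx)
  have h4 := card_Qx S hV hx0 hx
  have h5 : 2 * (H.relIndex (S.Qx hx) * Nat.card (S.Dt H hx)) = 2 * 4 ^ (n - 1) := by
    calc 2 * (H.relIndex (S.Qx hx) * Nat.card (S.Dt H hx))
        = H.relIndex (S.Qx hx) * (2 * Nat.card (S.Dt H hx)) := by ring
      _ = H.relIndex (S.Qx hx) * (4 * Nat.card ↥(H ⊓ S.Qx hx)) := by rw [← h2, h1]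
      _ = 4 * (H.relIndex (S.Qx hx) * Nat.card ↥(H ⊓ S.Qx hx)) := by ring
      _ = 2 * (2 * Nat.card (S.Qx hx)) := by rw [h3]; ring
      _ = 2 * 4 ^ (n - 1) := by rw [h4]
  exact Nat.eq_of_mul_eq_mul_left (by norm_num) h5

end Cfsg.Agent.Lib.Helper15.Su2Leaf
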