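/-
helper15: leaf T1 (`exists_smul_eq_of_iso`) of helper11's S2153 market "SU2"
(`notes/S2153_leaves.lean`): `G` is transitive on the nonzero isotropic vectors.
-/
import Mathlib
import Cfsg.Agent.Lib.Helper11.Su2Tools
import Cfsg.Agent.Lib.Helper14.Su2GEO

set_option autoImplicit false

open Cfsg.Agent.Lib.Helper11.Su2 MulAction
open scoped Pointwise

namespace Cfsg.Agent.Lib.Helper15.Su2Leaf

variable {F V G : Type*} [Field F] [AddCommGroup V] [Module F V] [Group G] [DistribMulAction G V]
  (S : Setting F V G)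

include S in
/-- two vectors, the first nonzero and the second not a multiple of it, are independent -/
theorem indep_two {x a : V} (hx0 : x ≠ 0) (ha' : ∀ c : F, a ≠ c • x) :
    ∀ α β : F, α • x + β • a = 0 → α = 0 ∧ β = 0 := by
  intro α β h
  have hβ : β = 0 := by
    by_contra hβ
    apply ha' (β⁻¹ * α)
    have h1 : β • a = α • x := (S.veq_of_add_eq_zero h).symm
    calc a = β⁻¹ • (β • a) := by rw [smul_smul, inv_mul_cancel₀ hβ, one_smul]
      _ = (β⁻¹ * α) • x := by rw [h1, smul_smul]
  subst hβ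
  rw [zero_smul, add_zero, smul_eq_zero] at h
  rcases h with h | h
  · exact ⟨h, rfl⟩
  · exact absurd h hx0

/-- the independent case -/
theorem exists_smul_eq_of_iso_indep [Finite V] {n : ℕ} (hV : Nat.card V = 4 ^ n) (hn : 6 ≤ n)
    {x y : V} (hx : S.h x x = 0) (hy : S.h y y = 0)
    (hind : ∀ α β : F, α • x + β • y = 0 → α = 0 ∧ β = 0) : ∃ g : G, g • x = y := by
  obtain ⟨u, hu, hux, huy⟩ :=
    Cfsg.Agent.Lib.Helper14.Su2Leaf.exists_iso_h_eq_two S hV hn hind 1 1
  have h1 : S.h x u = 1 := S.h_eq_one_symm hux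
  have h2 : S.h y u = 1 := S.h_eq_one_symm huy
  exact ⟨_, S.gq_trans hu (by rw [hx, hy]) h1 h2⟩

theorem exists_smul_eq_of_iso [Finite V] {n : ℕ} (hV : Nat.card V = 4 ^ n) (hn : 6 ≤ n) {x y : V}
    (hx0 : x ≠ 0) (hy0 : y ≠ 0) (hx : S.h x x = 0) (hy : S.h y y = 0) : ∃ g : G, g • x = y := by
  by_cases hind : ∀ α β : F, α • x + β • y = 0 → α = 0 ∧ β = 0
  · exact exists_smul_eq_of_iso_indep S hV hn hx hy hind
  · -- `y` is a multiple of `x`
    have hyx : ∃ c : F, y = c • x := by
      by_contra hc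
      apply hind
      exact indep_two S hx0 (fun c hc' => hc ⟨c, hc'⟩)
    obtain ⟨c, rfl⟩ := hyx
    have hc0 : c ≠ 0 := by
      rintro rfl
      exact hy0 (zero_smul F x)
    -- a third isotropic vector
    obtain ⟨w, hw⟩ := S.exists_h_eq_one hx0
    have hxw : ∀ α β : F, α • x + β • w = 0 → α = 0 ∧ β = 0 := by
      intro α β h
      have h1 : S.h (α • x + β • w) x = S.h 0 x := by rw [h]
      rw [S.h_add_left, S.h_smul_left, S.h_smul_left, hx, hw, S.h_zero_left] at h1
      have hβ : β = 0 := by linear_combination h1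
      subst hβ
      rw [zero_smul, add_zero, smul_eq_zero] at h
      rcases h with h | h
      · exact ⟨h, rfl⟩
      · exact absurd h hx0
    obtain ⟨z, hz, hzx, -⟩ :=
      Cfsg.Agent.Lib.Helper14.Su2Leaf.exists_iso_h_eq_two S hV hn hxw 1 0
    have hxz : ∀ α β : F, α • x + β • z = 0 → α = 0 ∧ β = 0 := by
      intro α β h
      have h1 : S.h (α • x + β • z) x = S.h 0 x := by rw [h]
      rw [S.h_add_left, S.h_smul_left, S.h_smul_left, hx, hzx, S.h_zero_left] at h1
      have hβ : β = 0 := by linear_combination h1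
      subst hβ
      rw [zero_smul, add_zero, smul_eq_zero] at h
      rcases h with h | h
      · exact ⟨h, rfl⟩
      · exact absurd h hx0
    have hzy : ∀ α β : F, α • z + β • (c • x) = 0 → α = 0 ∧ β = 0 := by
      intro α β h
      have h1 : S.h (α • z + β • (c • x)) x = S.h 0 x := by rw [h]
      rw [S.h_add_left, S.h_smul_left, S.h_smul_left, S.h_smul_left, hx, hzx, S.h_zero_left] at h1
      have hα : α = 0 := by linear_combination h1
      subst hα
      rw [zero_smul, zero_add, smul_smul, smul_eq_zero] at h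
      rcases h with h | h
      · rcases mul_eq_zero.mp h with h | h
        · exact ⟨rfl, h⟩
        · exact absurd h hc0
      · exact absurd h hx0
    obtain ⟨g₁, hg₁⟩ := exists_smul_eq_of_iso_indep S hV hn hx hz hxz
    obtain ⟨g₂, hg₂⟩ := exists_smul_eq_of_iso_indep S hV hn hz hy hzy
    exact ⟨g₂ * g₁, by rw [mul_smul, hg₁, hg₂]⟩

end Cfsg.Agent.Lib.Helper15.Su2Leaf
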