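/-
helper15: leaf T2 (`exists_stab_smul_eq`) of helper11's S2153 market "SU2"
(`notes/S2153_leaves.lean`): the stabiliser of an isotropic vector `x` is transitive on each of the
two classes of `x^⊥ ∖ F x`.
-/
import Mathlib
import Cfsg.Agent.Lib.Helper11.Su2Tools
import Cfsg.Agent.Lib.Helper14.Su2GEO
import Cfsg.Agent.Lib.Helper15.Su2T1

set_option autoImplicit false

open Cfsg.Agent.Lib.Helper11.Su2 MulAction
open scoped Pointwise

namespace Cfsg.Agent.Lib.Helper15.Su2Leaf

variable {F V G : Type*} [Field F] [AddCommGroup V] [Module F V] [Group G] [DistribMulAction G V]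
  (S : Setting F V G)

/-- the independent case: one step -/
theorem exists_stab_smul_eq_indep [Finite V] {n : ℕ} (hV : Nat.card V = 4 ^ n) (hn : 6 ≤ n)
    {x a b : V} (ha : S.h a x = 0) (hb : S.h b x = 0) (hN : S.h a a = S.h b b)
    (hind : ∀ α β γ : F, α • x + β • a + γ • b = 0 → α = 0 ∧ β = 0 ∧ γ = 0) :
    ∃ g : G, g • x = x ∧ g • a = b := by
  obtain ⟨u, hu, hux, hua, hub⟩ :=
    Cfsg.Agent.Lib.Helper14.Su2Leaf.exists_iso_h_eq_three S hV hn hind 0 1 1
  have h1 : S.h a u = 1 := S.h_eq_one_symm hua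
  have h2 : S.h b u = 1 := S.h_eq_one_symm hub
  have h3 : S.h x u = 0 := S.h_eq_zero_symm hux
  have h4 : S.h x (a + b) = 0 := by
    rw [S.h_add_right, S.h_eq_zero_symm ha, S.h_eq_zero_symm hb, add_zero]
  exact ⟨_, S.gq_smul_of_perp_perp hu (S.gq_trans_perp h1 h2) (S.gq_trans_norm hN) h3 h4,
    S.gq_trans hu hN h1 h2⟩

include S in
/-- three vectors: `(x, a)` independent and a functional pair separating the third -/
theorem indep_three_of_two {x a d : V}
    (h2 : ∀ α β : F, α • x + β • a = 0 → α = 0 ∧ β = 0)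
    (hd : ∀ α β : F, d ≠ α • x + β • a) :
    ∀ α β γ : F, α • x + β • a + γ • d = 0 → α = 0 ∧ β = 0 ∧ γ = 0 := by
  intro α β γ h
  have hγ : γ = 0 := by
    by_contra hγ
    apply hd (γ⁻¹ * α) (γ⁻¹ * β)
    have h1 : γ • d = α • x + β • a := (S.veq_of_add_eq_zero h).symm
    calc d = γ⁻¹ • (γ • d) := by rw [smul_smul, inv_mul_cancel₀ hγ, one_smul]
      _ = (γ⁻¹ * α) • x + (γ⁻¹ * β) • a := by rw [h1, smul_add, smul_smul, smul_smul]
  subst hγ
  rw [zero_smul, add_zero] at h
  obtain ⟨h3, h4⟩ := h2 α β h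
  exact ⟨h3, h4, rfl⟩

theorem exists_stab_smul_eq [Finite V] {n : ℕ} (hV : Nat.card V = 4 ^ n) (hn : 6 ≤ n) {x a b : V}
    (hx0 : x ≠ 0) (hx : S.h x x = 0) (ha : S.h a x = 0) (hb : S.h b x = 0)
    (hN : S.h a a = S.h b b) (ha' : ∀ c : F, a ≠ c • x) (hb' : ∀ c : F, b ≠ c • x) :
    ∃ g : G, g • x = x ∧ g • a = b := by
  by_cases hind : ∀ α β γ : F, α • x + β • a + γ • b = 0 → α = 0 ∧ β = 0 ∧ γ = 0
  · exact exists_stab_smul_eq_indep S hV hn ha hb hN hind
  · have hxa := indep_two S hx0 ha'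
    -- `b = α • x + β • a`
    have hdec : ∃ α β : F, b = α • x + β • a := by
      by_contra hc
      apply hind
      exact indep_three_of_two S hxa (fun α β hc' => hc ⟨α, β, hc'⟩)
    obtain ⟨α', β', rfl⟩ := hdec
    have hβ' : β' ≠ 0 := by
      rintro rfl
      apply hb' α'
      rw [zero_smul, add_zero]
    have hxa' : S.h x a = 0 := S.h_eq_zero_symm ha
    -- an isotropic vector `e ⊥ x` with `h e a = 1`
    obtain ⟨e, he, hex, hea⟩ :=
      Cfsg.Agent.Lib.Helper14.Su2Leaf.exists_iso_h_eq_two S hV hn hxa 0 1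
    have hxe : S.h x e = 0 := S.h_eq_zero_symm hex
    have hae : S.h a e = 1 := S.h_eq_one_symm hea
    -- `(x, a, e)` is independent
    have hxae : ∀ α β γ : F, α • x + β • a + γ • e = 0 → α = 0 ∧ β = 0 ∧ γ = 0 := by
      intro α β γ h
      have h1 : S.h (α • x + β • a + γ • e) e = S.h 0 e := by rw [h]
      rw [S.h_add_left, S.h_add_left, S.h_smul_left, S.h_smul_left, S.h_smul_left, hxe, hae, he,
        S.h_zero_left] at h1
      have hβ : β = 0 := by linear_combination h1
      subst hβ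
      have h2 : S.h (α • x + (0 : F) • a + γ • e) a = S.h 0 a := by rw [h]
      rw [S.h_add_left, S.h_add_left, S.h_smul_left, S.h_smul_left, S.h_smul_left, hxa', hea,
        S.h_zero_left] at h2
      have hγ : γ = 0 := by linear_combination h2
      subst hγ
      rw [zero_smul, zero_smul, add_zero, add_zero, smul_eq_zero] at h
      rcases h with h | h
      · exact ⟨h, rfl, rfl⟩
      · exact absurd h hx0
    -- the intermediate vector `d = e + N • a`
    have key : ∃ d : V, S.h d x = 0 ∧ S.h d d = S.h a a ∧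
        (∃ ε : F, d = e + ε • a) := by
      rcases S.h_self_mem a with h0 | h1
      · exact ⟨e, hex, by rw [he, h0], 0, by rw [zero_smul, add_zero]⟩
      · refine ⟨e + a, by rw [S.h_add_left, hex, ha, add_zero], ?_, 1, by rw [one_smul]⟩
        rw [S.h_self_add, he, h1, hea]
        linear_combination S.two
    obtain ⟨d, hdx, hdd, ε, rfl⟩ := key
    have hxad : ∀ α β γ : F, α • x + β • a + γ • (e + ε • a) = 0 → α = 0 ∧ β = 0 ∧ γ = 0 := by
      intro α β γ h
      have h1 : α • x + (β + γ * ε) • a + γ • e = 0 := by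
        rw [← h]; module
      obtain ⟨h2, h3, h4⟩ := hxae _ _ _ h1
      subst h4
      rw [zero_mul, add_zero] at h3
      exact ⟨h2, h3, rfl⟩
    have hxdb : ∀ α β γ : F, α • x + β • (e + ε • a) + γ • (α' • x + β' • a) = 0 →
        α = 0 ∧ β = 0 ∧ γ = 0 := by
      intro α β γ h
      have h1 : (α + γ * α') • x + (β * ε + γ * β') • a + β • e = 0 := by
        rw [← h]; module
      obtain ⟨h2, h3, h4⟩ := hxae _ _ _ h1
      subst h4
      rw [zero_mul, zero_add] at h3
      have hγ : γ = 0 := by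
        rcases mul_eq_zero.mp h3 with h | h
        · exact h
        · exact absurd h hβ'
      subst hγ
      rw [zero_mul, add_zero] at h2
      exact ⟨h2, rfl, rfl⟩
    obtain ⟨g₁, hg₁x, hg₁⟩ := exists_stab_smul_eq_indep S hV hn ha hdx hdd.symm hxad
    obtain ⟨g₂, hg₂x, hg₂⟩ := exists_stab_smul_eq_indep S hV hn hdx hb (hdd.trans hN) hxdb
    exact ⟨g₂ * g₁, by rw [mul_smul, hg₁x, hg₂x], by rw [mul_smul, hg₁, hg₂]⟩

end Cfsg.Agent.Lib.Helper15.Su2Leaf
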