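import Cfsg.Agent.Lib.Helper14.AltFP.Defs
import Cfsg.Agent.Lib.Helper14.AltFP.Basic

/-!
S2276 (helper14's market, `notes/S2276_leaves.lean`): the finite cores C9a `five5`, C9b `nine_a`, C9c `nine_b`,
C9d `coreA5`, C9e `coreB6`, C9f `coreC6`.  Explicit permutations, identities by `decide`; non-solvability by the
`fin_5_not_solvable` argument for a subgroup (`ns_key'`, local copy of G4) applied to two elements `w₁, w₂` of the group
(two 3-cycles sharing one point, or `v, c` themselves) with `y = w₂ w₁⁻¹ w₂`, `z = w₂`.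
-/

set_option autoImplicit false
set_option maxRecDepth 100000

namespace Cfsg.Agent.Lib.Helper15.AltFPLeaf

open Equiv Equiv.Perm Cfsg.Agent.Lib.Helper14.AltFP
open scoped commutatorElement

/-- (local copy of G4) Mathlib's `fin_5_not_solvable` argument for a subgroup -/
theorem ns_key' {G : Type*} [Group G] (H : Subgroup G) (x y z : G) (hx : x ∈ H) (hy : y ∈ H)
    (hz : z ∈ H) (hx1 : x ≠ 1) (key : x = z * ⁅x, y * x * y⁻¹⁆ * z⁻¹) : ¬ Group.IsSolvable H := by
  have key' : (⟨x, hx⟩ : H) =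
      ⟨z, hz⟩ * ⁅(⟨x, hx⟩ : H), ⟨y, hy⟩ * ⟨x, hx⟩ * (⟨y, hy⟩ : H)⁻¹⁆ * (⟨z, hz⟩ : H)⁻¹ := by
    apply Subtype.ext
    simpa [commutatorElement_def] using key
  have hne : (⟨x, hx⟩ : H) ≠ 1 := by
    intro h
    exact hx1 (congrArg Subtype.val h)
  refine not_isSolvable_of_mem_derivedSeries hne fun n => ?_
  induction n with
  | zero => exact Subgroup.mem_top _
  | succ n ih =>
    rw [key', (derivedSeries_normal _ _).mem_comm_iff, inv_mul_cancel_left]
    exact Subgroup.commutator_mem_commutator ih ((derivedSeries_normal _ _).conj_mem _ ih _)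

/-- non-solvability from two elements satisfying the key identity with `y = w₂ w₁⁻¹ w₂`, `z = w₂` -/
theorem ns_of_pair {G : Type*} [Group G] (H : Subgroup G) (w₁ w₂ : G) (h1 : w₁ ∈ H) (h2 : w₂ ∈ H)
    (hne : w₁ ≠ 1)
    (key : w₁ = w₂ * ⁅w₁, (w₂ * w₁⁻¹ * w₂) * w₁ * (w₂ * w₁⁻¹ * w₂)⁻¹⁆ * w₂⁻¹) :
    ¬ Group.IsSolvable H :=
  ns_key' H w₁ (w₂ * w₁⁻¹ * w₂) w₂ h1 (H.mul_mem (H.mul_mem h2 (H.inv_mem h1)) h2) h2 hne key

/-- an element of prime order `r ≠ p` does not have `p`-power order -/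
theorem not_ppow_of_prime_order {p r : ℕ} (hp : p.Prime) (hr : r.Prime) (hne : r ≠ p) {G : Type*}
    [Group G] (x : G) (hx : x ^ r = 1) (hx1 : x ≠ 1) : ¬ ∃ k : ℕ, orderOf x = p ^ k := by
  have : Fact r.Prime := ⟨hr⟩
  rintro ⟨k, hk⟩
  rw [orderOf_eq_prime hx hx1] at hk
  cases k with
  | zero => rw [pow_zero] at hk; exact hr.one_lt.ne' hk
  | succ k =>
    have hdvd : p ∣ r := by rw [hk, pow_succ]; exact dvd_mul_left p _
    exact hne ((Nat.prime_dvd_prime_iff_eq hp hr).mp hdvd).symm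

lemma cycleType_of_card_support_three {α : Type*} [Fintype α] [DecidableEq α] {σ : Perm α}
    (h : σ.support.card = 3) : σ.cycleType = {3} :=
  (card_support_eq_three_iff.mp h).cycleType

lemma mem_cl_left {G : Type*} [Group G] (a b : G) : a ∈ Subgroup.closure ({a, b} : Set G) :=
  Subgroup.subset_closure (Set.mem_insert _ _)

lemma mem_cl_right {G : Type*} [Group G] (a b : G) : b ∈ Subgroup.closure ({a, b} : Set G) :=
  Subgroup.subset_closure (Set.mem_insert_of_mem _ rfl)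

/-! ### `Fin 5` -/

def c5 : Perm (Fin 5) := ⟨![1,2,3,4,0], ![4,0,1,2,3], by decide, by decide⟩
def v5 : Perm (Fin 5) := ⟨![1,2,4,0,3], ![3,0,1,4,2], by decide, by decide⟩
def t5 : Perm (Fin 5) := ⟨![0,2,4,1,3], ![0,3,1,4,2], by decide, by decide⟩
def s5 : Perm (Fin 5) := ⟨![0,1,2,4,3], ![0,1,2,4,3], by decide, by decide⟩
def a5 : Perm (Fin 5) := ⟨![1,2,0,3,4], ![2,0,1,3,4], by decide, by decide⟩
def b5 : Perm (Fin 5) := ⟨![0,1,3,4,2], ![0,1,4,2,3], by decide, by decide⟩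

lemma finRotate_five : finRotate 5 = c5 := by decide

/-- (C9a) -/
theorem five5 : ∃ v t : Perm (Fin 5), v.cycleType = {5} ∧ Perm.sign t = -1 ∧
      Good 5 v (finRotate 5) ∧ Good 5 (t * v * t⁻¹) (finRotate 5) := by
  refine ⟨v5, t5, ?_, by decide, ?_, ?_⟩
  · have h1 : v5 = s5 * finRotate 5 * s5⁻¹ := by decide
    rw [h1, cycleType_conj]
    exact cycleType_finRotate (n := 3)
  · rw [finRotate_five]
    refine ⟨?_, ?_⟩
    · exact Cfsg.Agent.Lib.Helper14.AltFPLeaf.not_ppow_of_two_cycle (by norm_num) (by norm_num)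
        (v5 * c5) 0 (by decide) (by decide)
    · have hv := mem_cl_left v5 c5
      have hc := mem_cl_right v5 c5
      exact ns_key' _ v5 c5 (c5⁻¹ * c5⁻¹) hv hc
        ((Subgroup.closure _).mul_mem ((Subgroup.closure _).inv_mem hc) ((Subgroup.closure _).inv_mem hc))
        (by decide) (by decide)
  · rw [finRotate_five]
    refine ⟨?_, ?_⟩
    · exact not_ppow_of_prime_order (p := 5) (r := 3) (by norm_num) (by norm_num) (by norm_num)
        (t5 * v5 * t5⁻¹ * c5) (by decide) (by decide)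
    · have hv := mem_cl_left (t5 * v5 * t5⁻¹) c5
      have hc := mem_cl_right (t5 * v5 * t5⁻¹) c5
      exact ns_key' _ (t5 * v5 * t5⁻¹) c5 c5 hv hc hc (by decide) (by decide)

/-- (C9d) -/
theorem coreA5 : ∃ v c : Perm (Fin 5), v.cycleType = {3} ∧ c.cycleType = {3} ∧ Good 3 v c := by
  refine ⟨a5, b5, cycleType_of_card_support_three (by decide),
    cycleType_of_card_support_three (by decide), ?_, ?_⟩
  · exact not_ppow_of_prime_order (p := 3) (r := 5) (by norm_num) (by norm_num) (by norm_num)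
      (a5 * b5) (by decide) (by decide)
  · exact ns_of_pair _ a5 b5 (mem_cl_left a5 b5) (mem_cl_right a5 b5) (by decide) (by decide)

/-! ### `Fin 6` -/

def v6 : Perm (Fin 6) := ⟨![1,2,0,4,5,3], ![2,0,1,5,3,4], by decide, by decide⟩
def v6a : Perm (Fin 6) := ⟨![1,2,0,3,4,5], ![2,0,1,3,4,5], by decide, by decide⟩
def v6b : Perm (Fin 6) := ⟨![0,1,2,4,5,3], ![0,1,2,5,3,4], by decide, by decide⟩
def e6 : Perm (Fin 6) := ⟨![1,3,5,0,2,4], ![3,0,4,1,5,2], by decide, by decide⟩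
def e6a : Perm (Fin 6) := ⟨![1,3,2,0,4,5], ![3,0,2,1,4,5], by decide, by decide⟩
def e6b : Perm (Fin 6) := ⟨![0,1,5,3,2,4], ![0,1,4,3,5,2], by decide, by decide⟩
def f6 : Perm (Fin 6) := ⟨![0,1,3,4,2,5], ![0,1,4,2,3,5], by decide, by decide⟩

lemma cycleType_v6 : v6.cycleType = {3, 3} := by
  have h1 : v6 = v6a * v6b := by decide
  have hd : Perm.Disjoint v6a v6b := by unfold Perm.Disjoint; decide
  rw [h1, hd.cycleType_mul, cycleType_of_card_support_three (σ := v6a) (by decide),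
    cycleType_of_card_support_three (σ := v6b) (by decide)]
  rfl

/-- (C9e) -/
theorem coreB6 : ∃ v c : Perm (Fin 6), v.cycleType = {3, 3} ∧ c.cycleType = {3, 3} ∧ Good 3 v c := by
  refine ⟨v6, e6, cycleType_v6, ?_, ?_, ?_⟩
  · have h1 : e6 = e6a * e6b := by decide
    have hd : Perm.Disjoint e6a e6b := by unfold Perm.Disjoint; decide
    rw [h1, hd.cycleType_mul, cycleType_of_card_support_three (σ := e6a) (by decide),
      cycleType_of_card_support_three (σ := e6b) (by decide)]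
    rfl
  · exact not_ppow_of_prime_order (p := 3) (r := 5) (by norm_num) (by norm_num) (by norm_num)
      (v6 * e6) (by decide) (by decide)
  · exact ns_of_pair _ v6 e6 (mem_cl_left v6 e6) (mem_cl_right v6 e6) (by decide) (by decide)

/-- (C9f) -/
theorem coreC6 : ∃ v c : Perm (Fin 6), v.cycleType = {3, 3} ∧ c.cycleType = {3} ∧ Good 3 v c := by
  refine ⟨v6, f6, cycleType_v6, cycleType_of_card_support_three (by decide), ?_, ?_⟩
  · exact Cfsg.Agent.Lib.Helper14.AltFPLeaf.not_ppow_of_two_cycle (by norm_num) (by norm_num)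
      (v6 * f6) 3 (by decide) (by decide)
  · have hv := mem_cl_left v6 f6
    have hc := mem_cl_right v6 f6
    exact ns_of_pair _ f6 (v6⁻¹ * f6 * v6) hc
      ((Subgroup.closure _).mul_mem ((Subgroup.closure _).mul_mem ((Subgroup.closure _).inv_mem hv) hc) hv)
      (by decide) (by decide)

/-! ### `Fin 9` -/

def c9 : Perm (Fin 9) := ⟨![1,2,3,4,5,6,7,8,0], ![8,0,1,2,3,4,5,6,7], by decide, by decide⟩
def va : Perm (Fin 9) := ⟨![0,1,2,5,6,7,8,3,4], ![0,1,2,7,8,3,4,5,6], by decide, by decide⟩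
def vb : Perm (Fin 9) := ⟨![1,2,0,5,6,7,8,3,4], ![2,0,1,7,8,3,4,5,6], by decide, by decide⟩
def s0 : Perm (Fin 9) := ⟨![1,2,0,3,4,5,6,7,8], ![2,0,1,3,4,5,6,7,8], by decide, by decide⟩
def s1 : Perm (Fin 9) := ⟨![0,1,2,5,4,7,6,3,8], ![0,1,2,7,4,3,6,5,8], by decide, by decide⟩
def s2 : Perm (Fin 9) := ⟨![0,1,2,3,6,5,8,7,4], ![0,1,2,3,8,5,4,7,6], by decide, by decide⟩

lemma finRotate_nine : finRotate 9 = c9 := by decide

lemma cycleType_va : va.cycleType = {3, 3} := by
  have h1 : va = s1 * s2 := by decide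
  have hd : Perm.Disjoint s1 s2 := by unfold Perm.Disjoint; decide
  rw [h1, hd.cycleType_mul, cycleType_of_card_support_three (σ := s1) (by decide),
    cycleType_of_card_support_three (σ := s2) (by decide)]
  rfl

/-- (C9b) -/
theorem nine_a : ∃ v : Perm (Fin 9), v.cycleType = {3, 3} ∧ Good 3 v (finRotate 9) := by
  refine ⟨va, cycleType_va, ?_⟩
  rw [finRotate_nine]
  refine ⟨?_, ?_⟩
  · exact Cfsg.Agent.Lib.Helper14.AltFPLeaf.not_ppow_of_two_cycle (by norm_num) (by norm_num)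
      (va * c9) 3 (by decide) (by decide)
  · have hv := mem_cl_left va c9
    have hc := mem_cl_right va c9
    set H := Subgroup.closure ({va, c9} : Set (Perm (Fin 9))) with hH
    have hV := H.inv_mem hv
    have hC := H.inv_mem hc
    exact ns_of_pair H (c9⁻¹ * va⁻¹ * c9 * va) (c9 * c9 * va⁻¹ * c9⁻¹ * va * c9⁻¹)
      (H.mul_mem (H.mul_mem (H.mul_mem hC hV) hc) hv)
      (H.mul_mem (H.mul_mem (H.mul_mem (H.mul_mem (H.mul_mem hc hc) hV) hC) hv) hC)
      (by decide) (by decide)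

/-- (C9c) -/
theorem nine_b : ∃ v : Perm (Fin 9), v.cycleType = {3, 3, 3} ∧ Good 3 v (finRotate 9) := by
  refine ⟨vb, ?_, ?_⟩
  · have h1 : vb = s0 * va := by decide
    have hd : Perm.Disjoint s0 va := by unfold Perm.Disjoint; decide
    rw [h1, hd.cycleType_mul, cycleType_of_card_support_three (σ := s0) (by decide), cycleType_va]
    rfl
  rw [finRotate_nine]
  refine ⟨?_, ?_⟩
  · exact Cfsg.Agent.Lib.Helper14.AltFPLeaf.not_ppow_of_two_cycle (by norm_num) (by norm_num)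
      (vb * c9) 3 (by decide) (by decide)
  · have hv := mem_cl_left vb c9
    have hc := mem_cl_right vb c9
    set H := Subgroup.closure ({vb, c9} : Set (Perm (Fin 9))) with hH
    have hV := H.inv_mem hv
    have hC := H.inv_mem hc
    exact ns_of_pair H
      (c9⁻¹ * c9⁻¹ * vb⁻¹ * c9 * c9 * vb * c9⁻¹ * c9⁻¹ * vb⁻¹ * c9 * c9 * vb)
      (c9⁻¹ * c9⁻¹ * vb * c9⁻¹ * vb⁻¹ * c9 * c9 * c9 * c9 * vb⁻¹ * c9⁻¹ * vb)
      (H.mul_mem (H.mul_mem (H.mul_mem (H.mul_mem (H.mul_mem (H.mul_mem (H.mul_mem (H.mul_mem (H.mul_mem (H.mul_mem (H.mul_mem hC hC) hV) hc) hc) hv) hC) hC) hV) hc) hc) hv)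
      (H.mul_mem (H.mul_mem (H.mul_mem (H.mul_mem (H.mul_mem (H.mul_mem (H.mul_mem (H.mul_mem (H.mul_mem (H.mul_mem (H.mul_mem hC hC) hv) hC) hV) hc) hc) hc) hc) hV) hC) hv)
      (by decide) (by decide)

end Cfsg.Agent.Lib.Helper15.AltFPLeaf
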