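import Cfsg.Agent.Lib.Helper14.AltFP.Defs
import Cfsg.Agent.Lib.Helper14.AltFP.Basic
import Cfsg.Agent.Lib.Helper14.AltFP.Rot
import Cfsg.Agent.Lib.Helper12.AltFPRot

/-!
S2276 (helper14's market, `notes/S2276_leaves.lean`): the rotation cores C7 `core_T1` and C8 `two_cores`
(on helper12's C3 / C4 / C6 and helper14's G3).
-/

set_option autoImplicit false

namespace Cfsg.Agent.Lib.Helper15.AltFPLeaf

open Equiv Equiv.Perm Cfsg.Agent.Lib.Helper14.AltFP Cfsg.Agent.Lib.Helper12.AltFPLeaf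
open scoped commutatorElement

lemma mem_cl_left' {G : Type*} [Group G] (a b : G) : a ∈ Subgroup.closure ({a, b} : Set G) :=
  Subgroup.subset_closure (Set.mem_insert _ _)

lemma mem_cl_right' {G : Type*} [Group G] (a b : G) : b ∈ Subgroup.closure ({a, b} : Set G) :=
  Subgroup.subset_closure (Set.mem_insert_of_mem _ rfl)

/-- `c⁻¹ (i + 1) = i` -/
lemma rot_inv_pt (b i : ℕ) (h : i + 1 < b) :
    (finRotate b)⁻¹ (pt (i + 1) h) = pt i (by omega) := by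
  rw [Perm.inv_eq_iff_eq, finRotate_pt b i h]

/-- conjugation of a swap by `c⁻¹` -/
lemma rot_inv_conj_swap (b : ℕ) (x y : Fin b) :
    (finRotate b)⁻¹ * swap x y * finRotate b = swap ((finRotate b)⁻¹ x) ((finRotate b)⁻¹ y) := by
  have h := conj_swap (finRotate b)⁻¹ x y
  rwa [inv_inv] at h

lemma id5_T1 : (swap (⟨0, by omega⟩ : Fin 5) ⟨4, by omega⟩ * swap ⟨4, by omega⟩ ⟨2, by omega⟩)⁻¹ =
    swap ⟨0, by omega⟩ ⟨2, by omega⟩ * swap ⟨2, by omega⟩ ⟨4, by omega⟩ := by decide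

lemma idb_T1 (b : ℕ) (hb : 5 ≤ b) :
    (swap (pt 0 (by omega) : Fin b) (pt 4 (by omega)) * swap (pt 4 (by omega)) (pt 2 (by omega)))⁻¹ =
    swap (pt 0 (by omega)) (pt 2 (by omega)) * swap (pt 2 (by omega)) (pt 4 (by omega)) := by
  have h := congrArg (emb hb) id5_T1
  simpa only [map_mul, map_inv, emb_swap, Fin.castLE_mk] using h

/-- (C7) -/
theorem core_T1 (p : ℕ) (hp : p.Prime) (hp2 : p ≠ 2) (b : ℕ) (hb : 5 ≤ b) (hodd : Odd b) :
    ∃ v : Perm (Fin b), v.cycleType = {3} ∧ Good p v (finRotate b) := by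
  refine ⟨swap (pt 0 (by omega)) (pt 4 (by omega)) * swap (pt 4 (by omega)) (pt 2 (by omega)), ?_, ?_, ?_⟩
  · rw [swap_comm (pt 0 (by omega) : Fin b) (pt 4 (by omega))]
    exact (isThreeCycle_swap_mul_swap_same (pt_ne _ _ (by norm_num)) (pt_ne _ _ (by norm_num))
      (pt_ne _ _ (by norm_num))).cycleType
  · have hx0 : (swap (pt 0 (by omega) : Fin b) (pt 4 (by omega)) * swap (pt 4 (by omega)) (pt 2 (by omega)) *
        finRotate b : Perm (Fin b)) (pt 0 (by omega)) = pt 1 (by omega) := by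
      rw [Perm.mul_apply, finRotate_pt b 0 (by omega)]
      simp [Perm.mul_apply, swap_apply_def, pt, Fin.ext_iff]
    have hx1 : (swap (pt 0 (by omega) : Fin b) (pt 4 (by omega)) * swap (pt 4 (by omega)) (pt 2 (by omega)) *
        finRotate b : Perm (Fin b)) (pt 1 (by omega)) = pt 0 (by omega) := by
      rw [Perm.mul_apply, finRotate_pt b 1 (by omega)]
      simp [Perm.mul_apply, pt]
    apply Cfsg.Agent.Lib.Helper14.AltFPLeaf.not_ppow_of_two_cycle hp hp2 _ (pt 0 (by omega))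
    · rw [hx0]
      exact pt_ne _ _ (by norm_num)
    · rw [hx0, hx1]
  · apply ns_rot_A b hb hodd _ (mem_cl_right' _ _)
    rw [← idb_T1 b hb]
    exact (Subgroup.closure _).inv_mem (mem_cl_left' _ _)

lemma id6_two : swap (⟨1, by omega⟩ : Fin 6) ⟨2, by omega⟩ * swap ⟨2, by omega⟩ ⟨5, by omega⟩ *
      swap ⟨3, by omega⟩ ⟨4, by omega⟩ * (swap ⟨1, by omega⟩ ⟨3, by omega⟩ * swap ⟨0, by omega⟩ ⟨2, by omega⟩) =
    swap ⟨0, by omega⟩ ⟨3, by omega⟩ * swap ⟨1, by omega⟩ ⟨5, by omega⟩ *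
      (swap ⟨0, by omega⟩ ⟨1, by omega⟩ * swap ⟨1, by omega⟩ ⟨4, by omega⟩ * swap ⟨2, by omega⟩ ⟨3, by omega⟩) := by
  decide

lemma idb_two (b : ℕ) (hb : 6 ≤ b) :
    swap (pt 1 (by omega) : Fin b) (pt 2 (by omega)) * swap (pt 2 (by omega)) (pt 5 (by omega)) *
      swap (pt 3 (by omega)) (pt 4 (by omega)) *
      (swap (pt 1 (by omega)) (pt 3 (by omega)) * swap (pt 0 (by omega)) (pt 2 (by omega))) =
    swap (pt 0 (by omega)) (pt 3 (by omega)) * swap (pt 1 (by omega)) (pt 5 (by omega)) *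
      (swap (pt 0 (by omega)) (pt 1 (by omega)) * swap (pt 1 (by omega)) (pt 4 (by omega)) *
        swap (pt 2 (by omega)) (pt 3 (by omega))) := by
  have h := congrArg (emb hb) id6_two
  simpa only [map_mul, emb_swap, Fin.castLE_mk] using h

/-- (C8) -/
theorem two_cores (p : ℕ) (hp : p.Prime) (hp2 : p ≠ 2) (b : ℕ) (hb : 7 ≤ b) (hodd : Odd b) :
    ∃ v t : Perm (Fin b), v.cycleType = {b} ∧ Perm.sign t = -1 ∧
      Good p v (finRotate b) ∧ Good p (t * v * t⁻¹) (finRotate b) := by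
  obtain ⟨c, hc⟩ : ∃ c : Perm (Fin b), c = finRotate b := ⟨_, rfl⟩
  obtain ⟨π₁, hπ₁⟩ : ∃ x : Perm (Fin b), x = swap (pt 1 (by omega)) (pt 3 (by omega)) := ⟨_, rfl⟩
  obtain ⟨σ₀₂, hσ₀₂⟩ : ∃ x : Perm (Fin b), x = swap (pt 0 (by omega)) (pt 2 (by omega)) := ⟨_, rfl⟩
  obtain ⟨ρ₁, hρ₁⟩ : ∃ x : Perm (Fin b), x = swap (pt 1 (by omega)) (pt 3 (by omega)) *
    swap (pt 0 (by omega)) (pt 2 (by omega)) := ⟨_, rfl⟩
  obtain ⟨ρ₂, hρ₂⟩ : ∃ x : Perm (Fin b), x = swap (pt 0 (by omega)) (pt 3 (by omega)) *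
    swap (pt 1 (by omega)) (pt 5 (by omega)) := ⟨_, rfl⟩
  obtain ⟨t, ht⟩ : ∃ x : Perm (Fin b), x = swap (pt 1 (by omega)) (pt 2 (by omega)) *
    swap (pt 2 (by omega)) (pt 5 (by omega)) * swap (pt 3 (by omega)) (pt 4 (by omega)) := ⟨_, rfl⟩
  obtain ⟨t', ht'⟩ : ∃ x : Perm (Fin b), x = swap (pt 0 (by omega)) (pt 1 (by omega)) *
    swap (pt 1 (by omega)) (pt 4 (by omega)) * swap (pt 2 (by omega)) (pt 3 (by omega)) := ⟨_, rfl⟩
  rw [← hc]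
  -- `v * c = ρ₁`
  have hK1 : π₁ * c⁻¹ * π₁⁻¹ * c = ρ₁ := by
    have h1 : c⁻¹ * π₁ * c = σ₀₂ := by
      rw [hπ₁, hc, rot_inv_conj_swap, rot_inv_pt b 0 (by omega), rot_inv_pt b 2 (by omega), hσ₀₂]
    have h2 : π₁⁻¹ = π₁ := by rw [hπ₁]; exact swap_inv _ _
    have h3 : ρ₁ = π₁ * σ₀₂ := by rw [hρ₁, hπ₁, hσ₀₂]
    rw [h2, h3, ← h1]
    group
  -- `c⁻¹ t c = t'`
  have hK2 : c⁻¹ * t * c = t' := by
    have e : c⁻¹ * t * c = (c⁻¹ * swap (pt 1 (by omega)) (pt 2 (by omega)) * c) *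
        (c⁻¹ * swap (pt 2 (by omega)) (pt 5 (by omega)) * c) *
        (c⁻¹ * swap (pt 3 (by omega)) (pt 4 (by omega)) * c) := by
      rw [ht]; group
    rw [e, hc, rot_inv_conj_swap, rot_inv_conj_swap, rot_inv_conj_swap, rot_inv_pt b 0 (by omega),
      rot_inv_pt b 1 (by omega), rot_inv_pt b 4 (by omega), rot_inv_pt b 2 (by omega),
      rot_inv_pt b 3 (by omega), ht']
  -- `(t v t⁻¹) * c = ρ₂`
  have hK3 : t * (π₁ * c⁻¹ * π₁⁻¹) * t⁻¹ * c = ρ₂ := by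
    have h1 : π₁ * c⁻¹ * π₁⁻¹ = ρ₁ * c⁻¹ := by rw [← hK1]; group
    have h2 : t * ρ₁ = ρ₂ * t' := by
      rw [ht, hρ₁, hρ₂, ht']
      exact idb_two b (by omega)
    have h3 : t * (ρ₁ * c⁻¹) * t⁻¹ * c = t * ρ₁ * (c⁻¹ * t * c)⁻¹ := by group
    rw [h1, h3, hK2, h2]
    group
  refine ⟨π₁ * c⁻¹ * π₁⁻¹, t, ?_, ?_, ⟨?_, ?_⟩, ⟨?_, ?_⟩⟩
  · rw [cycleType_conj, cycleType_inv, hc, cycleType_finRotate_of_le (by omega)]
  · rw [ht, Perm.sign_mul, Perm.sign_mul, Perm.sign_swap (pt_ne _ _ (by norm_num)),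
      Perm.sign_swap (pt_ne _ _ (by norm_num)), Perm.sign_swap (pt_ne _ _ (by norm_num))]
    rfl
  · rw [hK1]
    apply Cfsg.Agent.Lib.Helper14.AltFPLeaf.not_ppow_of_two_cycle hp hp2 _ (pt 1 (by omega))
    · simp [hρ₁, Perm.mul_apply, swap_apply_def, pt, Fin.ext_iff]
    · simp [hρ₁, Perm.mul_apply, swap_apply_def, pt, Fin.ext_iff]
  · have h := (Subgroup.closure ({π₁ * c⁻¹ * π₁⁻¹, c} : Set (Perm (Fin b)))).mul_mem
      (mem_cl_left' _ _) (mem_cl_right' _ _)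
    rw [hK1, hρ₁] at h
    subst hc
    exact ns_rot_A' b (by omega) hodd _ (mem_cl_right' _ _) h
  · rw [hK3]
    apply Cfsg.Agent.Lib.Helper14.AltFPLeaf.not_ppow_of_two_cycle hp hp2 _ (pt 0 (by omega))
    · simp [hρ₂, Perm.mul_apply, swap_apply_def, pt, Fin.ext_iff]
    · simp [hρ₂, Perm.mul_apply, swap_apply_def, pt, Fin.ext_iff]
  · have h := (Subgroup.closure ({t * (π₁ * c⁻¹ * π₁⁻¹) * t⁻¹, c} : Set (Perm (Fin b)))).mul_mem
      (mem_cl_left' _ _) (mem_cl_right' _ _)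
    rw [hK3, hρ₂] at h
    subst hc
    exact ns_rot_C b hb _ (mem_cl_right' _ _) h

end Cfsg.Agent.Lib.Helper15.AltFPLeaf
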