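/-
S4504 LAYER A (planner helper13), leaf BRP-CCZ `card_Cz_eq` (frozen statement in notes/S4504_A_leaves.lean):
`|C_G(P)| = p |Z(G)|` when `P` is a non-normal Sylow subgroup of order `p` and the `p'`-elements of `C_G(P)` are central.
`C_G(P) = P × Z(G)`: `P ∩ Z(G) = 1` (else `P ≤ Z(G)` is normal); `c ∈ C_G(P)` is `c_p c_p'` with `c_p ∈ P`
(helper29 `DOTI.mem_of_mem_Cz`) and `c_p'` central.
-/
import Mathlib
import Cfsg.Prelude.Def_BlockRank
import Cfsg.Agent.Lib.Helper27.DODefs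
import Cfsg.Agent.Lib.Helper29.DOTI

set_option autoImplicit false
set_option linter.unusedSectionVars false

namespace Cfsg.Agent.Lib.Helper15.BRPCCZ

open Cfsg Cfsg.Agent.Lib.Helper8.DOM Cfsg.Agent.Lib.Helper27.DO

universe u

/-- `c ∈ C_G(P)` is a product of an element of `P` and a `p'`-element of `C_G(P)` -/
theorem exists_decomp {p : ℕ} [Fact p.Prime] {G : Type u} [Group G] [Finite G] (P : Subgroup G)
    (hP : Nat.card P = p) (hSyl : ¬ p ∣ P.index) {c : G} (hc : c ∈ Cz P) :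
    ∃ x ∈ P, ∃ y ∈ Cz P, ¬ p ∣ orderOf y ∧ c = x * y := by
  have hp : p.Prime := Fact.out
  by_cases hdiv : p ∣ orderOf c
  · obtain ⟨m, hm⟩ := hdiv
    -- `p ∤ m` since `p² ∤ |G|`
    have hpm : ¬ p ∣ m := by
      rintro ⟨k, rfl⟩
      have h1 : orderOf c ∣ Nat.card G := orderOf_dvd_natCard c
      rw [hm, ← P.card_mul_index, hP] at h1
      have h2 : p * k ∣ P.index := by
        have : p * (p * k) ∣ p * P.index := h1
        exact (Nat.mul_dvd_mul_iff_left hp.pos).mp this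
      exact hSyl ((dvd_mul_right p k).trans h2)
    have hcop : IsCoprime (p : ℤ) (m : ℤ) :=
      Nat.isCoprime_iff_coprime.mpr ((Nat.Prime.coprime_iff_not_dvd hp).mpr hpm)
    obtain ⟨a, b, hab⟩ := hcop
    -- `c = c^(b m) * c^(a p)`
    have hcz : ∀ j : ℤ, c ^ j ∈ Cz P := fun j => (Cz P).zpow_mem hc j
    refine ⟨c ^ (b * m), ?_, c ^ (a * p), hcz _, ?_, ?_⟩
    · apply Cfsg.Agent.Lib.Helper29.DOTI.mem_of_mem_Cz P hP hSyl (hcz _)
      rw [← zpow_natCast, ← zpow_mul]
      have : b * (m : ℤ) * (p : ℤ) = ((orderOf c : ℕ) : ℤ) * b := by rw [hm]; push_cast; ring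
      rw [this, zpow_mul, zpow_natCast, pow_orderOf_eq_one, one_zpow]
    · intro hdvd
      have h1 : (c ^ (a * (p : ℤ))) ^ m = 1 := by
        rw [← zpow_natCast, ← zpow_mul]
        have : a * (p : ℤ) * (m : ℤ) = ((orderOf c : ℕ) : ℤ) * a := by rw [hm]; push_cast; ring
        rw [this, zpow_mul, zpow_natCast, pow_orderOf_eq_one, one_zpow]
      exact hpm (hdvd.trans (orderOf_dvd_of_pow_eq_one h1))
    · rw [← zpow_add]
      have : b * (m : ℤ) + a * (p : ℤ) = 1 := by rw [← hab]; ring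
      rw [this, zpow_one]
  · exact ⟨1, P.one_mem, c, hc, hdiv, (one_mul c).symm⟩

/-- CCZ : `|C_G(P)| = p |Z(G)|` when the `p'`-elements of `C_G(P)` are central and `P` is not normal. -/
theorem card_Cz_eq {p : ℕ} [Fact p.Prime] {G : Type u} [Group G] [Finite G] (P : Subgroup G)
    (hP : Nat.card P = p) (hSyl : ¬ p ∣ P.index) (hnn : ¬ P.Normal)
    (hreg : ∀ y ∈ Cz P, ¬ p ∣ orderOf y → y ∈ Subgroup.center G) :
    Nat.card (Cz P) = p * Nat.card (Subgroup.center G) := by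
  classical
  -- `P` is abelian, so `P ≤ C_G(P)`
  have hPC : P ≤ Cz P := by
    intro x hx
    rw [Subgroup.mem_centralizer_iff]
    intro w hw
    by_cases hx1 : x = 1
    · rw [hx1, one_mul, mul_one]
    · obtain ⟨j, rfl⟩ := Cfsg.Agent.Lib.Helper29.DOTI.exists_pow_eq_of_mem P hP hx hx1 hw
      exact ((Commute.refl x).zpow_right j).eq.symm
  have hZC : Subgroup.center G ≤ Cz P := Subgroup.center_le_centralizer _
  -- `P ∩ Z(G) = 1`
  have hPZ : ∀ x ∈ P, x ∈ Subgroup.center G → x = 1 := by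
    intro x hx hxz
    by_contra hx1
    apply hnn
    have hle : P ≤ Subgroup.center G := by
      intro w hw
      obtain ⟨j, rfl⟩ := Cfsg.Agent.Lib.Helper29.DOTI.exists_pow_eq_of_mem P hP hx hx1 hw
      exact (Subgroup.center G).zpow_mem hxz j
    constructor
    intro n hn g
    have : g * n * g⁻¹ = n := by
      have := (Subgroup.mem_center_iff.mp (hle hn)) g
      rw [this, mul_inv_cancel_right]
    rw [this]
    exact hn
  -- the bijection `P × Z(G) → C_G(P)`
  let f : P × Subgroup.center G → Cz P := fun xz =>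
    ⟨(xz.1 : G) * (xz.2 : G), (Cz P).mul_mem (hPC xz.1.2) (hZC xz.2.2)⟩
  have hf : Function.Bijective f := by
    constructor
    · rintro ⟨⟨x, hx⟩, ⟨z, hz⟩⟩ ⟨⟨x', hx'⟩, ⟨z', hz'⟩⟩ h
      have h1 : x * z = x' * z' := congrArg Subtype.val h
      have h2 : x'⁻¹ * x = z' * z⁻¹ := by
        rw [eq_mul_inv_iff_mul_eq, mul_assoc, h1, inv_mul_cancel_left]
      have h3 : x'⁻¹ * x = 1 :=
        hPZ _ (P.mul_mem (P.inv_mem hx') hx) (by rw [h2]; exact (Subgroup.center G).mul_mem hz' ((Subgroup.center G).inv_mem hz))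
      have hxx : x = x' := by rw [inv_mul_eq_one] at h3; exact h3.symm
      subst hxx
      have hzz : z = z' := mul_left_cancel h1
      subst hzz
      rfl
    · rintro ⟨c, hc⟩
      obtain ⟨x, hx, y, hy, hyp, rfl⟩ := exists_decomp P hP hSyl hc
      exact ⟨(⟨x, hx⟩, ⟨y, hreg y hy hyp⟩), rfl⟩
  rw [← Nat.card_eq_of_bijective f hf, Nat.card_prod, hP]

end Cfsg.Agent.Lib.Helper15.BRPCCZ
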