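/-
S4504 CORE step (VI) (sub-planner helper23), leaf BRVI-ZREG `center_regular` (frozen statement in
notes/S4504_VI_leaves.lean): the centre is a `p'`-group when the Sylow `p`-subgroup `P` of order `p` is not normal.
A central element of order `p` centralizes `P`, so lies in `P` (helper29 `DOTI.mem_of_mem_Cz`) and generates it:
`P ≤ Z(G)` would be normal.
-/
import Mathlib
import Cfsg.Prelude.Def_BlockRank
import Cfsg.Agent.Lib.Helper27.DODefs
import Cfsg.Agent.Lib.Helper29.DOTI

set_option autoImplicit false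
set_option linter.unusedSectionVars false

namespace Cfsg.Agent.Lib.Helper15.BRVIZREG

open Cfsg Cfsg.Agent.Lib.Helper8.DOM Cfsg.Agent.Lib.Helper27.DO

universe u

variable {G : Type u} [Group G] [Finite G] {p : ℕ} [Fact p.Prime]

/-- a subgroup of order `p` meeting the centre non-trivially is normal -/
theorem normal_of_mem_center (P : Subgroup G) (hP : Nat.card P = p) {x : G} (hx : x ∈ P) (hx1 : x ≠ 1)
    (hxz : x ∈ Subgroup.center G) : P.Normal := by
  have hle : P ≤ Subgroup.center G := by
    intro w hw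
    obtain ⟨j, rfl⟩ := Cfsg.Agent.Lib.Helper29.DOTI.exists_pow_eq_of_mem P hP hx hx1 hw
    exact (Subgroup.center G).zpow_mem hxz j
  constructor
  intro n hn g
  have : g * n * g⁻¹ = n := by
    have := (Subgroup.mem_center_iff.mp (hle hn)) g
    rw [this, mul_inv_cancel_right]
  rw [this]
  exact hn

/-- ZREG : the centre is a `p'`-group. -/
theorem center_regular (P : Subgroup G) (hP : Nat.card P = p) (hSyl : ¬ p ∣ P.index) (hnn : ¬ P.Normal) :
    ∀ z ∈ Subgroup.center G, ¬ p ∣ orderOf z := by
  intro z hz hdvd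
  have hp : p.Prime := Fact.out
  obtain ⟨m, hm⟩ := hdvd
  -- `w = z^m` has order `p`
  have hw : orderOf (z ^ m) = p := by
    have hpos : 0 < orderOf z := orderOf_pos z
    have hm0 : m ≠ 0 := by
      rintro rfl
      rw [mul_zero] at hm
      omega
    rw [orderOf_pow' z hm0, hm, Nat.gcd_eq_right (dvd_mul_left m p), Nat.mul_div_cancel _ (Nat.pos_of_ne_zero hm0)]
  have hwz : z ^ m ∈ Subgroup.center G := (Subgroup.center G).pow_mem hz m
  have hwC : z ^ m ∈ Cz P := Subgroup.center_le_centralizer _ hwz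
  have hwp : (z ^ m) ^ p = 1 := by rw [← hw]; exact pow_orderOf_eq_one _
  have hwP : z ^ m ∈ P := Cfsg.Agent.Lib.Helper29.DOTI.mem_of_mem_Cz P hP hSyl hwC hwp
  have hw1 : z ^ m ≠ 1 := by
    intro e
    rw [e, orderOf_one] at hw
    exact hp.one_lt.ne hw
  exact hnn (normal_of_mem_center P hP hwP hw1 hwz)

end Cfsg.Agent.Lib.Helper15.BRVIZREG
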