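import Mathlib
import Cfsg.Agent.Lib.Helper20.AschDefs
import Cfsg.Agent.Lib.Helper15.AschCL

/-!
CLIFFORD's theorem, refined form WITH THE MINIMALITY CLAUSE (for the form-carrying versions S5662/S5663/S5673 of
Aschbacher's theorem): as `Helper15.AschLeaf.clifford`, and in addition every component `D i` is a MINIMAL non-zero
subspace invariant under `X` and under `Cen X` (an isotypic component = a minimal fully invariant submodule).
-/

set_option autoImplicit false
set_option linter.unusedSectionVars false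
set_option linter.unusedVariables false

namespace Cfsg.Agent.Lib.Helper15.AschLeaf
open Matrix Cfsg.Geo Cfsg.Agent.Lib.Helper20.Asch

variable {F : Type*} [Field F] {n : ℕ}

section main
variable [Fintype F]

/-- the inhomogeneous case -/
lemma decomp_of_orb' {X Y : Subgroup (GL (Fin n) F)} (hnorm : NormBy Y X)
    [IsSemisimpleModule ↥(Env X) (Fin n → F)] (c0 : Submodule ↥(Env X) (Fin n → F))
    (hc0 : c0 ∈ isotypicComponents ↥(Env X) (Fin n → F))
    (hsumc : ⨆ y : Y, tw hnorm y.1 y.2 c0 = ⊤) (hc0top : c0 ≠ ⊤) :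
    ∃ (t m : ℕ) (D : Fin t → Submodule F (Fin n → F)), IsMDecomposition m D ∧
      Y ≤ decompositionStabilizer D ∧
      (∀ T : Matrix (Fin n) (Fin n) F, T ∈ Cen X → ∀ i, (D i).map (Matrix.toLin' T) ≤ D i) ∧
      (∀ x ∈ X, ∀ i, (D i).map (Matrix.toLin' (x : Matrix (Fin n) (Fin n) F)) ≤ D i) ∧
      (∀ i j, ∃ y ∈ Y, (D i).map (Matrix.toLin' (y : Matrix (Fin n) (Fin n) F)) = D j) ∧
      (∀ i, ∀ W : Submodule F (Fin n → F), W ≤ D i → XInv X W →
        (∀ T : Matrix (Fin n) (Fin n) F, T ∈ Cen X → W.map (Matrix.toLin' T) ≤ W) → W = ⊥ ∨ W = D i) := by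
  classical
  have hOIC : orb hnorm c0 ⊆ isotypicComponents ↥(Env X) (Fin n → F) := by
    rintro _ ⟨y, rfl⟩
    exact tw_mem_isotypicComponents hnorm y.1 y.2 hc0
  have : Finite ↥(orb hnorm c0) := Finite.Set.subset _ hOIC
  obtain ⟨t, ht⟩ : ∃ t, t = Nat.card ↥(orb hnorm c0) := ⟨_, rfl⟩
  have e : ↥(orb hnorm c0) ≃ Fin t := ht ▸ Finite.equivFin ↥(orb hnorm c0)
  refine ⟨t, Module.finrank F (toF c0), fun i => toF (e.symm i).1, ?_, ?_, ?_, ?_, ?_, ?_⟩
  · -- decomposition
    refine ⟨?_, ?_, ?_, ?_, ?_⟩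
    · by_contra hlt
      have hlt' : t ≤ 1 := by omega
      have : Subsingleton (Fin t) := Fin.subsingleton_iff_le_one.mpr hlt'
      have hall : ∀ y : Y, tw hnorm y.1 y.2 c0 = c0 := by
        intro y
        have h1 : (⟨tw hnorm y.1 y.2 c0, ⟨y, rfl⟩⟩ : ↥(orb hnorm c0)) =
            ⟨c0, self_mem_orb hnorm c0⟩ :=
          e.injective (Subsingleton.elim _ _)
        exact congrArg Subtype.val h1
      apply hc0top
      rw [← top_le_iff, ← hsumc]
      exact iSup_le fun y => (hall y).le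
    · apply Nat.pos_of_ne_zero
      intro h0
      rw [Submodule.finrank_eq_zero, toF_eq_bot_iff] at h0
      exact (bot_lt_isotypicComponents hc0).ne' h0
    · intro i
      obtain ⟨y, hy⟩ := (e.symm i).2
      show Module.finrank F (toF (e.symm i).1) = _
      rw [hy, tw_apply, toF_twFun, finrank_map_gl]
    · have h1 : iSupIndep (fun i : Fin t => (e.symm i).1) := by
        have h2 := (sSupIndep_iff _).mp (sSupIndep_isotypicComponents ↥(Env X) (Fin n → F))
        have h3 := h2.comp (f := fun i : Fin t =>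
          (⟨(e.symm i).1, hOIC (e.symm i).2⟩ : ↥(isotypicComponents ↥(Env X) (Fin n → F)))) (by
            intro i j hij
            have : (e.symm i).1 = (e.symm j).1 := congrArg (fun z => z.1) hij
            exact e.symm.injective (Subtype.ext this))
        exact h3
      exact toF_iSupIndep _ h1
    · show (⨆ i, toF (e.symm i).1) = ⊤
      rw [← toF_iSup, toF_eq_top_iff, ← top_le_iff, ← hsumc]
      apply iSup_le
      intro y
      have := le_iSup (fun i : Fin t => (e.symm i).1) (e ⟨tw hnorm y.1 y.2 c0, ⟨y, rfl⟩⟩)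
      rw [Equiv.symm_apply_apply] at this
      exact this
  · -- the stabiliser
    intro y hy
    let g : ↥(orb hnorm c0) → ↥(orb hnorm c0) := fun c => ⟨tw hnorm y hy c.1, tw_mem_orb hnorm c0 c.2 y hy⟩
    have hginj : Function.Injective g := by
      intro c c' h
      have : tw hnorm y hy c.1 = tw hnorm y hy c'.1 := congrArg Subtype.val h
      exact Subtype.ext ((tw hnorm y hy).injective this)
    have hgbij : Function.Bijective g := Finite.injective_iff_bijective.mp hginj
    refine ⟨e.symm.trans ((Equiv.ofBijective g hgbij).trans e), fun i => ?_⟩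
    show (toF (e.symm i).1).map _ = toF (e.symm (e (g (e.symm i)))).1
    rw [Equiv.symm_apply_apply, ← toF_twFun hnorm y hy]
    rfl
  · intro T hT i
    have h1 : CenInv (e.symm i).1 := (isFullyInvariant_iff _).mp
      (Submodule.IsFullyInvariant.of_mem_isotypicComponents (hOIC (e.symm i).2))
    rintro _ ⟨v, hv, rfl⟩
    rw [Matrix.toLin'_apply]
    exact h1 T hT v hv
  · intro x hx i
    exact xInv_toF _ x hx
  · intro i j
    exact orb_trans hnorm c0 (e.symm i).2 (e.symm j).2
  · intro i W hWle hWX hWC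
    by_cases hW0 : W = ⊥
    · exact Or.inl hW0
    right
    have hfi : (toR W hWX).IsFullyInvariant := by
      rw [isFullyInvariant_iff]
      intro T hT v hv
      have : T *ᵥ v ∈ W := hWC T hT ⟨v, hv, by rw [Matrix.toLin'_apply]⟩
      exact this
    have hle : toR W hWX ≤ (e.symm i).1 := fun v hv => hWle hv
    have hne : toR W hWX ≠ ⊥ := by
      intro h
      apply hW0
      rw [← toF_toR W hWX, h, toF_bot]
    have := eq_of_fullyInvariant_le (hOIC (e.symm i).2) hfi hle hne
    show W = toF (e.symm i).1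
    rw [← this, toF_toR]

/-- CL (CLIFFORD, refined form).  `X ⊴ Y`, `Y` irreducible: either `V|_X` is homogeneous, or the homogeneous
components form an `m`-decomposition permuted transitively by `Y`, each component being invariant under `X` and
under `Cen X`. -/
theorem clifford_aux' {X Y : Subgroup (GL (Fin n) F)} (hn : 0 < n) (hirr : Irr Y) (hX : X ≤ Y)
    (hnorm : NormBy Y X) :
    Homog X ∨ ∃ (t m : ℕ) (D : Fin t → Submodule F (Fin n → F)), IsMDecomposition m D ∧
      Y ≤ decompositionStabilizer D ∧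
      (∀ T : Matrix (Fin n) (Fin n) F, T ∈ Cen X → ∀ i, (D i).map (Matrix.toLin' T) ≤ D i) ∧
      (∀ x ∈ X, ∀ i, (D i).map (Matrix.toLin' (x : Matrix (Fin n) (Fin n) F)) ≤ D i) ∧
      (∀ i j, ∃ y ∈ Y, (D i).map (Matrix.toLin' (y : Matrix (Fin n) (Fin n) F)) = D j) ∧
      (∀ i, ∀ W : Submodule F (Fin n → F), W ≤ D i → XInv X W →
        (∀ T : Matrix (Fin n) (Fin n) F, T ∈ Cen X → W.map (Matrix.toLin' T) ≤ W) → W = ⊥ ∨ W = D i) := by
  classical
  have : Nonempty (Fin n) := ⟨⟨0, hn⟩⟩
  have : Nontrivial (Fin n → F) := inferInstance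
  have : Nontrivial (Submodule ↥(Env X) (Fin n → F)) :=
    (Submodule.nontrivial_iff ↥(Env X)).mpr inferInstance
  obtain ⟨S0, hS0⟩ := IsAtomic.exists_atom (Submodule ↥(Env X) (Fin n → F))
  have : IsSimpleModule ↥(Env X) S0 := isSimpleModule_iff_isAtom.mpr hS0
  -- the translates of `S0` span
  have hsum : ⨆ y : Y, tw hnorm y.1 y.2 S0 = ⊤ := by
    have hinv : ∀ s ∈ matrixSet Y, (toF (⨆ y : Y, tw hnorm y.1 y.2 S0)).map (Matrix.toLin' s) ≤
        toF (⨆ y : Y, tw hnorm y.1 y.2 S0) := by
      rintro _ ⟨y', hy', rfl⟩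
      rw [← toF_twFun hnorm y' hy', ← tw_apply, OrderIso.map_iSup]
      apply toF_mono
      apply iSup_le
      intro y
      rw [tw_apply, tw_apply, twFun_mul]
      exact le_iSup (fun y : Y => tw hnorm y.1 y.2 S0) ⟨y' * y.1, Y.mul_mem hy' y.2⟩
    rcases hirr _ hinv with h | h
    · exfalso
      rw [toF_eq_bot_iff] at h
      have h1 : S0 ≤ ⨆ y : Y, tw hnorm y.1 y.2 S0 := by
        have := le_iSup (fun y : Y => tw hnorm y.1 y.2 S0) ⟨1, Y.one_mem⟩
        simpa only [tw_apply, twFun_one] using this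
      rw [h] at h1
      exact hS0.1 (le_bot_iff.mp h1)
    · exact toF_eq_top_iff.mp h
  have : IsSemisimpleModule ↥(Env X) (Fin n → F) := by
    apply isSemisimpleModule_of_isSemisimpleModule_submodule' (p := fun y : Y => tw hnorm y.1 y.2 S0)
      _ hsum
    intro y
    have : IsSimpleModule ↥(Env X) (tw hnorm y.1 y.2 S0) :=
      isSimpleModule_iff_isAtom.mpr ((OrderIso.isAtom_iff _ _).mpr hS0)
    infer_instance
  have hc0 : isotypicComponent ↥(Env X) (Fin n → F) S0 ∈ isotypicComponents ↥(Env X) (Fin n → F) :=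
    ⟨S0, inferInstance, rfl⟩
  have hS0c0 : S0 ≤ isotypicComponent ↥(Env X) (Fin n → F) S0 := S0.le_isotypicComponent
  have hsumc : ⨆ y : Y, tw hnorm y.1 y.2 (isotypicComponent ↥(Env X) (Fin n → F) S0) = ⊤ := by
    rw [← top_le_iff, ← hsum]
    exact iSup_mono fun y => (tw hnorm y.1 y.2).monotone hS0c0
  by_cases hc0top : isotypicComponent ↥(Env X) (Fin n → F) S0 = ⊤
  · exact Or.inl (homog_of_top S0 hS0 hc0top)
  · exact Or.inr (decomp_of_orb' hnorm _ hc0 hsumc hc0top)

end main

/-- CL' (CLIFFORD with minimality).  `X ⊴ Y`, `Y` irreducible: either `V|_X` is homogeneous, or the homogeneous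
components form an `m`-decomposition permuted transitively by `Y`, each component being invariant under `X` and under
`Cen X` and MINIMAL with these two properties. -/
theorem clifford' {F : Type*} [Field F] [Fintype F] {n : ℕ} {X Y : Subgroup (GL (Fin n) F)}
    (hn : 0 < n) (hirr : Irr Y) (hX : X ≤ Y) (hnorm : NormBy Y X) :
    Homog X ∨ ∃ (t m : ℕ) (D : Fin t → Submodule F (Fin n → F)), IsMDecomposition m D ∧
      Y ≤ decompositionStabilizer D ∧
      (∀ T : Matrix (Fin n) (Fin n) F, T ∈ Cen X → ∀ i, (D i).map (Matrix.toLin' T) ≤ D i) ∧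
      (∀ x ∈ X, ∀ i, (D i).map (Matrix.toLin' (x : Matrix (Fin n) (Fin n) F)) ≤ D i) ∧
      (∀ i j, ∃ y ∈ Y, (D i).map (Matrix.toLin' (y : Matrix (Fin n) (Fin n) F)) = D j) ∧
      (∀ i, ∀ W : Submodule F (Fin n → F), W ≤ D i → XInv X W →
        (∀ T : Matrix (Fin n) (Fin n) F, T ∈ Cen X → W.map (Matrix.toLin' T) ≤ W) → W = ⊥ ∨ W = D i) :=
  clifford_aux' hn hirr hX hnorm

end Cfsg.Agent.Lib.Helper15.AschLeaf
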