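import Mathlib
import Cfsg.Agent.S0752
import Cfsg.Agent.Lib.Helper15.NilpotentConj

set_option autoImplicit false

namespace Cfsg.Agent.Lib.Helper15.UniForm

open Module Cfsg.Agent.Lib.Helper15.SemisimpleConj Cfsg.Agent.Lib.Helper15.NilpotentConj

universe u

section evenrank

variable {F : Type*} [Field F] {V : Type*} [AddCommGroup V] [Module F V] [FiniteDimensional F V]

/-- an alternating bilinear form has even rank -/
theorem even_rank_alt (C : LinearMap.BilinForm F V) (hC : C.IsAlt) :
    ∃ m : ℕ, finrank F V = finrank F (LinearMap.ker C) + 2 * m := by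
  classical
  obtain ⟨W, hW⟩ := Submodule.exists_isCompl (LinearMap.ker C)
  have hfr := Submodule.finrank_add_eq_of_isCompl hW
  let C' : LinearMap.BilinForm F W := C.restrict W
  have hC' : C'.IsAlt := fun x => hC x.1
  have hnd : ∀ x : W, (∀ y : W, C' x y = 0) → x = 0 := by
    intro x hx
    have h1 : x.1 ∈ LinearMap.ker C := by
      rw [LinearMap.mem_ker]
      apply LinearMap.ext
      intro y
      obtain ⟨r, hr, w, hw, hrw⟩ : ∃ r ∈ LinearMap.ker C, ∃ w ∈ W, r + w = y := by
        have : y ∈ LinearMap.ker C ⊔ W := by rw [hW.sup_eq_top]; trivial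
        obtain ⟨r, hr, w, hw, h⟩ := Submodule.mem_sup.1 this
        exact ⟨r, hr, w, hw, h⟩
      rw [← hrw, map_add, LinearMap.zero_apply]
      have h2 : C x.1 r = 0 := by
        rw [← hC.neg_eq, LinearMap.mem_ker.1 hr, LinearMap.zero_apply, neg_zero]
      have h3 : C x.1 w = 0 := hx ⟨w, hw⟩
      rw [h2, h3, add_zero]
    have h2 : x.1 ∈ LinearMap.ker C ⊓ W := ⟨h1, x.2⟩
    rw [hW.inf_eq_bot] at h2
    exact Subtype.ext ((Submodule.mem_bot F).1 h2)
  obtain ⟨m, k, b, -, -, -, hrad⟩ := Cfsg.Agent.S0752.result C' hC'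
  have hk : k = 0 := by
    by_contra hne
    have j : Fin k := ⟨0, Nat.pos_of_ne_zero hne⟩
    exact b.ne_zero (Sum.inr j) (hnd _ (hrad j))
  subst hk
  have e1 := Module.finrank_eq_card_basis b
  simp only [Fintype.card_sum, Fintype.card_fin] at e1
  exact ⟨m, by omega⟩

end evenrank


section necessity

variable {F : Type*} [Field F] {V : Type*} [AddCommGroup V] [Module F V] [FiniteDimensional F V]

omit [FiniteDimensional F V] in
/-- the adjoint of `N = u - 1` for an isometry `u` with inverse `v` is `-(v N)` -/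
lemma adj_pow (β : LinearMap.BilinForm F V) (u v : End F V) (huv : u * v = 1) (hvu : v * u = 1)
    (hinv : ∀ x y, β (u x) (u y) = β x y) (k : ℕ) (a b : V) :
    β (((u - 1) ^ k) a) b = (-1) ^ k * β a (((v * (u - 1)) ^ k) b) := by
  have hadj : ∀ a b, β ((u - 1) a) b = -β a ((v * (u - 1)) b) := by
    intro a b
    have h1 : u (v b) = b := by
      have := congrArg (fun f : End F V => f b) huv
      exact this
    have h2 : v (u b) = b := by
      have := congrArg (fun f : End F V => f b) hvu
      exact this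
    have h3 : β (u a) b = β a (v b) := by
      rw [← hinv a (v b), h1]
    rw [LinearMap.sub_apply, Module.End.one_apply, map_sub, LinearMap.sub_apply, h3,
      Module.End.mul_apply, LinearMap.sub_apply, Module.End.one_apply, map_sub, h2, map_sub]
    ring
  induction k generalizing a b with
  | zero => simp
  | succ k ih =>
    rw [pow_succ, Module.End.mul_apply, ih, hadj, pow_succ' (v * (u - 1)), pow_succ]
    simp only [Module.End.mul_apply]
    ring

omit [FiniteDimensional F V] in
lemma ker_unit_mul (U T : End F V) (hU : IsUnit U) : LinearMap.ker (U * T) = LinearMap.ker T := by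
  obtain ⟨w, hw⟩ := hU
  ext x
  rw [LinearMap.mem_ker, LinearMap.mem_ker, Module.End.mul_apply]
  constructor
  · intro h
    have h1 : (w⁻¹ : (End F V)ˣ).val (U (T x)) = T x := by
      rw [← hw, ← Module.End.mul_apply, ← Units.val_mul, inv_mul_cancel, Units.val_one,
        Module.End.one_apply]
    rw [← h1, h, map_zero]
  · intro h
    rw [h, map_zero]

/-- for an isometry `u` of a nondegenerate alternating form, `ker (u - 1)^(2i)` has even
codimension -/
theorem isometry_alt_rank (β : LinearMap.BilinForm F V) (hβ : β.IsAlt)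
    (hnd : ∀ x, (∀ y, β y x = 0) → x = 0) (u v : End F V) (huv : u * v = 1) (hvu : v * u = 1)
    (hinv : ∀ x y, β (u x) (u y) = β x y) (i : ℕ) :
    ∃ m : ℕ, finrank F V = kap (u - 1) (2 * i) + 2 * m := by
  obtain ⟨N, hN⟩ : ∃ N : End F V, N = u - 1 := ⟨_, rfl⟩
  have hcomm : Commute v N := by
    show v * N = N * v
    rw [hN, mul_sub, sub_mul, hvu, huv, mul_one, one_mul]
  have hvunit : IsUnit (v ^ i) := (IsUnit.of_mul_eq_one u hvu).pow i
  let C : LinearMap.BilinForm F V := β.compl₁₂ (N ^ i) (N ^ i)
  have hC : ∀ x y, C x y = β ((N ^ i) x) ((N ^ i) y) := fun x y => rfl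
  have hCalt : C.IsAlt := fun x => hβ _
  have hker : LinearMap.ker C = LinearMap.ker (N ^ (2 * i)) := by
    have hop : (v * N) ^ i * N ^ i = v ^ i * N ^ (2 * i) := by
      rw [hcomm.mul_pow, mul_assoc, ← pow_add, two_mul]
    have hkey : ∀ x y, C y x = (-1) ^ i * β y ((v ^ i * N ^ (2 * i)) x) := by
      intro x y
      rw [hC, hN, adj_pow β u v huv hvu hinv, ← hN, ← Module.End.mul_apply, hop]
    have hk2 : ∀ x, (v ^ i * N ^ (2 * i)) x = 0 ↔ (N ^ (2 * i)) x = 0 := by
      intro x
      rw [← LinearMap.mem_ker, ker_unit_mul _ _ hvunit, LinearMap.mem_ker]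
    ext x
    rw [LinearMap.mem_ker, LinearMap.mem_ker, ← hk2 x]
    constructor
    · intro h
      apply hnd
      intro y
      have h2 : C y x = 0 := by
        rw [← hCalt.neg_eq, h, LinearMap.zero_apply, neg_zero]
      rw [hkey] at h2
      rcases mul_eq_zero.1 h2 with h3 | h3
      · exact absurd h3 (pow_ne_zero _ (by norm_num))
      · exact h3
    · intro h
      apply LinearMap.ext
      intro y
      rw [LinearMap.zero_apply, ← neg_eq_zero, hCalt.neg_eq, hkey, h, map_zero, mul_zero]
  obtain ⟨m, hm⟩ := even_rank_alt C hCalt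
  refine ⟨m, ?_⟩
  rw [hm, hker, ← hN]
  rfl

/-- for an isometry `u` of a nondegenerate symmetric form with `u + 1` invertible,
`ker (u - 1)^(2i+1)` has even codimension -/
theorem isometry_symm_rank (β : LinearMap.BilinForm F V) (hβ : ∀ x y, β x y = β y x)
    (hnd : ∀ x, (∀ y, β y x = 0) → x = 0) (u v : End F V) (huv : u * v = 1) (hvu : v * u = 1)
    (hinv : ∀ x y, β (u x) (u y) = β x y) (hu1 : IsUnit (u + 1)) (i : ℕ) :
    ∃ m : ℕ, finrank F V = kap (u - 1) (2 * i + 1) + 2 * m := by
  obtain ⟨N, hN⟩ : ∃ N : End F V, N = u - 1 := ⟨_, rfl⟩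
  have hcomm : Commute v N := by
    show v * N = N * v
    rw [hN, mul_sub, sub_mul, hvu, huv, mul_one, one_mul]
  have hvunit : IsUnit v := IsUnit.of_mul_eq_one u hvu
  let C : LinearMap.BilinForm F V :=
    β.compl₁₂ (N ^ (i + 1)) (N ^ i) - β.compl₁₂ (N ^ i) (N ^ (i + 1))
  have hC : ∀ x y, C x y = β ((N ^ (i + 1)) x) ((N ^ i) y) - β ((N ^ i) x) ((N ^ (i + 1)) y) :=
    fun x y => rfl
  have hCalt : C.IsAlt := by
    intro x
    rw [hC, hβ ((N ^ (i + 1)) x), sub_self]
  -- the operator whose kernel is the radical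
  obtain ⟨U, hU⟩ : ∃ U : End F V, U = v ^ (i + 1) * (u + 1) := ⟨_, rfl⟩
  have hUunit : IsUnit U := by
    rw [hU]
    exact (hvunit.pow _).mul hu1
  have hcommU : Commute (u + 1) N := by
    show (u + 1) * N = N * (u + 1)
    rw [hN]
    noncomm_ring
  have hop : (v * N) ^ (i + 1) * N ^ i + (v * N) ^ i * N ^ (i + 1) = U * N ^ (2 * i + 1) := by
    have h1 : (v * N) ^ (i + 1) * N ^ i = v ^ (i + 1) * N ^ (2 * i + 1) := by
      rw [hcomm.mul_pow, mul_assoc, ← pow_add]
      congr 2
      omega
    have h2 : (v * N) ^ i * N ^ (i + 1) = v ^ (i + 1) * u * N ^ (2 * i + 1) := by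
      rw [hcomm.mul_pow, mul_assoc, ← pow_add, pow_succ v, mul_assoc (v ^ i) v u, hvu, mul_one]
      congr 2
      omega
    rw [h1, h2, hU, mul_add, mul_one, add_mul, add_comm]
  have hkey : ∀ x y, C y x = (-1) ^ (i + 1) * β y ((U * N ^ (2 * i + 1)) x) := by
    intro x y
    rw [hC, hN, adj_pow β u v huv hvu hinv, adj_pow β u v huv hvu hinv, ← hN, ← hop,
      LinearMap.add_apply, map_add, Module.End.mul_apply, Module.End.mul_apply, pow_succ (-1 : F)]
    ring
  have hker : LinearMap.ker C = LinearMap.ker (N ^ (2 * i + 1)) := by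
    have hk2 : ∀ x, (U * N ^ (2 * i + 1)) x = 0 ↔ (N ^ (2 * i + 1)) x = 0 := by
      intro x
      rw [← LinearMap.mem_ker, ker_unit_mul _ _ hUunit, LinearMap.mem_ker]
    ext x
    rw [LinearMap.mem_ker, LinearMap.mem_ker, ← hk2 x]
    constructor
    · intro h
      apply hnd
      intro y
      have h2 : C y x = 0 := by
        rw [← hCalt.neg_eq, h, LinearMap.zero_apply, neg_zero]
      rw [hkey] at h2
      rcases mul_eq_zero.1 h2 with h3 | h3
      · exact absurd h3 (pow_ne_zero _ (by norm_num))
      · exact h3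
    · intro h
      apply LinearMap.ext
      intro y
      rw [LinearMap.zero_apply, ← neg_eq_zero, hCalt.neg_eq, hkey, h, map_zero, mul_zero]
  obtain ⟨m, hm⟩ := even_rank_alt C hCalt
  refine ⟨m, ?_⟩
  rw [hm, hker, ← hN]
  rfl

end necessity


section parity

/-- if all even-indexed kernel dimensions have the parity of `n`, the odd parts have even
multiplicity -/
theorem count_even_of_kapm_even (μ : Multiset ℕ) (n : ℕ)
    (h : ∀ i, ∃ m, n = kapm μ (2 * i) + 2 * m) (j : ℕ) (hj : Odd j) : Even (μ.count j) := by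
  obtain ⟨i, rfl⟩ := hj
  obtain ⟨m1, h1⟩ := h i
  obtain ⟨m2, h2⟩ := h (i + 1)
  have e1 := kapm_succ μ (2 * i)
  have e2 := kapm_succ μ (2 * i + 1)
  have e3 := card_filter_ge μ (2 * i + 1)
  have e4 : 2 * (i + 1) = 2 * i + 1 + 1 := by ring
  rw [e4] at h2
  rw [Nat.even_iff]
  omega

/-- if all odd-indexed kernel dimensions have the parity of `n`, the positive even parts have even
multiplicity -/
theorem count_even_of_kapm_odd (μ : Multiset ℕ) (n : ℕ)
    (h : ∀ i, ∃ m, n = kapm μ (2 * i + 1) + 2 * m) (j : ℕ) (hj : Even j) (hj0 : 0 < j) :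
    Even (μ.count j) := by
  obtain ⟨i', hi'⟩ := hj
  obtain ⟨i, rfl⟩ : ∃ i, i' = i + 1 := ⟨i' - 1, by omega⟩
  have hj' : j = 2 * i + 1 + 1 := by omega
  obtain ⟨m1, h1⟩ := h i
  obtain ⟨m2, h2⟩ := h (i + 1)
  have e1 := kapm_succ μ (2 * i + 1)
  have e2 := kapm_succ μ (2 * i + 1 + 1)
  have e3 := card_filter_ge μ (2 * i + 1 + 1)
  have e4 : 2 * (i + 1) + 1 = 2 * i + 1 + 1 + 1 := by ring
  rw [e4] at h2
  rw [hj', Nat.even_iff]
  omega

lemma kapm_add (μ ν : Multiset ℕ) (s : ℕ) : kapm (μ + ν) s = kapm μ s + kapm ν s := by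
  unfold kapm
  rw [Multiset.map_add, Multiset.sum_add]

lemma kapm_zero (s : ℕ) : kapm 0 s = 0 := by
  unfold kapm
  simp

/-- decomposing a Jordan type with a parity condition into singletons and pairs -/
theorem build_of_parity {P : Multiset ℕ → Prop} (par : ℕ → Prop)
    (h0 : P 0) (hadd : ∀ μ ν, P μ → P ν → P (μ + ν))
    (hsingle : ∀ j, 1 ≤ j → ¬ par j → P {j}) (hpair : ∀ j, 1 ≤ j → par j → P {j, j}) :
    ∀ μ : Multiset ℕ, (∀ a ∈ μ, 1 ≤ a) → (∀ j, par j → Even (μ.count j)) → P μ := by
  classical
  intro μ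
  induction hc : Multiset.card μ using Nat.strong_induction_on generalizing μ with
  | _ n ih =>
    intro hμ hpar
    by_cases hz : μ = 0
    · rw [hz]
      exact h0
    · obtain ⟨a, ha⟩ := Multiset.exists_mem_of_ne_zero hz
      obtain ⟨μ', rfl⟩ := Multiset.exists_cons_of_mem ha
      by_cases hp : par a
      · have h1 := hpar a hp
        rw [Multiset.count_cons_self] at h1
        have h2 : 0 < μ'.count a := by
          rcases Nat.eq_zero_or_pos (μ'.count a) with h3 | h3
          · rw [h3] at h1
            exact absurd h1 (by decide)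
          · exact h3
        obtain ⟨μ'', rfl⟩ := Multiset.exists_cons_of_mem (Multiset.count_pos.1 h2)
        have h3 : P μ'' := by
          apply ih (Multiset.card μ'') _ μ'' rfl
          · intro b hb
            exact hμ b (Multiset.mem_cons_of_mem (Multiset.mem_cons_of_mem hb))
          · intro j hj
            have h4 := hpar j hj
            rw [Multiset.count_cons, Multiset.count_cons] at h4
            by_cases hja : j = a
            · rw [if_pos hja] at h4
              rw [Nat.even_iff] at h4 ⊢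
              omega
            · rw [if_neg hja] at h4
              exact h4
          · rw [← hc, Multiset.card_cons, Multiset.card_cons]
            omega
        have h4 : a ::ₘ a ::ₘ μ'' = {a, a} + μ'' := by
          rw [Multiset.insert_eq_cons, Multiset.cons_add, Multiset.singleton_add]
        rw [h4]
        exact hadd _ _ (hpair a (hμ a ha) hp) h3
      · have h3 : P μ' := by
          apply ih (Multiset.card μ') _ μ' rfl
          · intro b hb
            exact hμ b (Multiset.mem_cons_of_mem hb)
          · intro j hj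
            have h4 := hpar j hj
            rw [Multiset.count_cons] at h4
            have hja : j ≠ a := by
              rintro rfl
              exact hp hj
            rw [if_neg hja] at h4
            exact h4
          · rw [← hc, Multiset.card_cons]
            omega
        rw [← Multiset.singleton_add]
        exact hadd _ _ (hsingle a (hμ a ha) hp) h3

end parity

end Cfsg.Agent.Lib.Helper15.UniForm
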