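import Mathlib
import Cfsg.Agent.Lib.Helper2.SOTDefs
import Cfsg.Agent.Lib.Helper27.SOTLADefs
import Cfsg.Agent.Lib.Helper13.OTUCalc
import Cfsg.Agent.Lib.Helper13.OTLADefs

/-!
S5681 + S5709 (LA') (sub-market of helper13), leaf (C5) `torus_conj`: conjugation of the corner element `Zm` by
`α ⊗ β_{t₁,t₂}`.  Exact signature of `notes/S5681_LA_leaves.lean`.
-/

set_option autoImplicit false
set_option linter.unusedSectionVars false
set_option linter.unusedVariables false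

namespace Cfsg.Agent.Lib.Helper15.OTLALeaf
open Matrix
open Cfsg.Agent.Lib.Helper25.Tens Cfsg.Agent.Lib.Helper19.OSub
open Cfsg.Agent.Lib.Helper2.SOT Cfsg.Agent.Lib.Helper27.SOTLA Cfsg.Agent.Lib.Helper13.OTU
open Cfsg.Agent.Lib.Helper13.OTLA
open scoped Kronecker

variable {F : Type*} [Field F] [Fintype F] {a b : ℕ} {G₁ : Matrix (Fin a) (Fin a) F}
  {G₂ : Matrix (Fin b) (Fin b) F} {o o' p p' : Fin b} {Om M : Subgroup (GL (Idx a b) F)}

/-- conjugation of a matrix unit by a diagonal matrix -/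
lemma diagonal_single_diagonal (D D' : Fin b → F) (k l : Fin b) :
    Matrix.diagonal D * Matrix.single k l (1 : F) * Matrix.diagonal D' =
      (D k * D' l) • Matrix.single k l (1 : F) := by
  ext i j
  rw [Matrix.mul_diagonal, Matrix.diagonal_mul, Matrix.smul_apply, Matrix.single_apply]
  by_cases h : k = i ∧ l = j
  · obtain ⟨rfl, rfl⟩ := h
    simp
  · rw [if_neg h]
    simp

/-- the inverse of a unit with diagonal matrix -/
lemma inv_val_of_diagonal {β : GL (Fin b) F} {D : Fin b → F} (hD : ∀ k, D k ≠ 0)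
    (hβ : β.1 = Matrix.diagonal D) : β⁻¹.1 = Matrix.diagonal (fun k => (D k)⁻¹) := by
  have h1 : β.1 * Matrix.diagonal (fun k => (D k)⁻¹) = 1 := by
    rw [hβ, Matrix.diagonal_mul_diagonal]
    have : (fun i => D i * (D i)⁻¹) = fun _ => (1 : F) := by
      funext i
      exact mul_inv_cancel₀ (hD i)
    rw [this, Matrix.diagonal_one]
  have h2 : β⁻¹.1 * β.1 = 1 := by
    rw [← Units.val_mul, inv_mul_cancel, Units.val_one]
  calc β⁻¹.1 = β⁻¹.1 * (β.1 * Matrix.diagonal (fun k => (D k)⁻¹)) := by rw [h1, mul_one]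
    _ = (β⁻¹.1 * β.1) * Matrix.diagonal (fun k => (D k)⁻¹) := by rw [mul_assoc]
    _ = _ := by rw [h2, one_mul]

/-- conjugation of `X ⊗ E_{k,l}` by `α ⊗ β`, `β` diagonal -/
lemma kel_conj_kron_single (α : GL (Fin a) F) (β : GL (Fin b) F) {D : Fin b → F} (hD : ∀ k, D k ≠ 0)
    (hβ : β.1 = Matrix.diagonal D) (X : Matrix (Fin a) (Fin a) F) (k l : Fin b) :
    (kel α β : GL (Idx a b) F).1 * (X ⊗ₖ Matrix.single k l (1 : F)) * (kel α β : GL (Idx a b) F)⁻¹.1 =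
      ((D k * (D l)⁻¹) • (α.1 * X * α⁻¹.1)) ⊗ₖ Matrix.single k l (1 : F) := by
  have hi : (kel α β : GL (Idx a b) F)⁻¹.1 = α⁻¹.1 ⊗ₖ β⁻¹.1 := rfl
  have hv : (kel α β : GL (Idx a b) F).1 = α.1 ⊗ₖ β.1 := rfl
  rw [hi, hv, ← Matrix.mul_kronecker_mul, ← Matrix.mul_kronecker_mul, inv_val_of_diagonal hD hβ, hβ,
    diagonal_single_diagonal, Matrix.kronecker_smul, Matrix.smul_kronecker]

lemma kel_conj_one (α : GL (Fin a) F) (β : GL (Fin b) F) :
    (kel α β : GL (Idx a b) F).1 * 1 * (kel α β : GL (Idx a b) F)⁻¹.1 = 1 := by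
  rw [mul_one, ← Units.val_mul, mul_inv_cancel, Units.val_one]

/-- (C5) plan (C4): conjugation of `Zm` by `α ⊗ β_{t₁,t₂}`. -/
theorem torus_conj (hA : Adp G₂ o o' p p') {t₁ t₂ : F} (ht₁ : t₁ ≠ 0) (ht₂ : t₂ ≠ 0)
    (α : GL (Fin a) F) (β : GL (Fin b) F) (hβ : β.1 = torB o o' p p' t₁ t₂)
    (κ₁ κ₂ σ τ : Matrix (Fin a) (Fin a) F) :
    (kel α β : GL (Idx a b) F).1 * Zm o o' p p' κ₁ κ₂ σ τ * (kel α β : GL (Idx a b) F)⁻¹.1 =
      Zm o o' p p' ((t₁ * t₁) • (α.1 * κ₁ * α⁻¹.1)) ((t₂ * t₂) • (α.1 * κ₂ * α⁻¹.1))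
        ((t₁ * t₂) • (α.1 * σ * α⁻¹.1)) ((t₁ * t₂) • (α.1 * τ * α⁻¹.1)) := by
  obtain ⟨D, hDdef⟩ : ∃ D : Fin b → F, D = fun k => if k = o then t₁ else if k = o' then t₂ else
      if k = p then t₁⁻¹ else if k = p' then t₂⁻¹ else 1 := ⟨_, rfl⟩
  have hβD : β.1 = Matrix.diagonal D := by rw [hβ, hDdef]; rfl
  have hD : ∀ k, D k ≠ 0 := by
    intro k
    rw [hDdef]
    dsimp only
    split_ifs
    · exact ht₁
    · exact ht₂
    · exact inv_ne_zero ht₁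
    · exact inv_ne_zero ht₂
    · exact one_ne_zero
  have hDo : D o = t₁ := by rw [hDdef]; simp
  have hDo' : D o' = t₂ := by rw [hDdef]; simp [hA.hoo'.symm]
  have hDp : D p = t₁⁻¹ := by rw [hDdef]; simp [hA.hop.symm, hA.ho'p.symm]
  have hDp' : D p' = t₂⁻¹ := by
    rw [hDdef]; simp [hA.hop'.symm, hA.ho'p'.symm, hA.hpp'.symm]
  unfold Zm
  simp only [mul_add, add_mul, kel_conj_one, kel_conj_kron_single α β hD hβD, hDo, hDo', hDp, hDp',
    inv_inv]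
  rw [mul_comm t₂ t₁]

end Cfsg.Agent.Lib.Helper15.OTLALeaf
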