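import Mathlib
import Cfsg.Agent.Lib.Helper2.SOTDefs
import Cfsg.Agent.Lib.Helper27.SOTLADefs
import Cfsg.Agent.Lib.Helper13.OTUCalc
import Cfsg.Agent.Lib.Helper13.OTLADefs
import Cfsg.Agent.Lib.Helper7.OTLAZm
import Cfsg.Agent.Lib.Helper15.OTLAC5

/-!
S5681 + S5709 (LA') (sub-market of helper13), leaves (R1-0a,b,c) `kel_mem_M`, `uform_KG_mem_M`, `InM_iso` and (R1-1)
`InM_Zc_add`, `InM_Zc_neg`, `InM_Zc_sq`, `InM_Zc_smul`.  Exact signatures of `notes/S5681_LA_leaves.lean`.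
-/

set_option autoImplicit false
set_option linter.unusedSectionVars false
set_option linter.unusedVariables false

namespace Cfsg.Agent.Lib.Helper15.OTLALeaf
open Matrix
open Cfsg.Agent.Lib.Helper25.Tens Cfsg.Agent.Lib.Helper19.OSub
open Cfsg.Agent.Lib.Helper2.SOT Cfsg.Agent.Lib.Helper27.SOTLA Cfsg.Agent.Lib.Helper13.OTU
open Cfsg.Agent.Lib.Helper13.OTLA
open Cfsg.Agent.Lib.Helper7.OTLALeaf (Zc_mul Zm_zero)
open scoped Kronecker

variable {F : Type*} [Field F] [Fintype F] {a b : ℕ} {G₁ : Matrix (Fin a) (Fin a) F}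
  {G₂ : Matrix (Fin b) (Fin b) F} {o o' p p' : Fin b} {Om M : Subgroup (GL (Idx a b) F)}

/-- (R1-0a) Kronecker elements of `Om` are in `M`. -/
theorem kel_mem_M (h : LBase G₁ G₂ o o' p p' Om M) (α : GL (Fin a) F) (β : GL (Fin b) F)
    (hOm : (kel α β : GL (Idx a b) F) ∈ Om) : (kel α β : GL (Idx a b) F) ∈ M :=
  h.le ⟨kel_mem_KG α β, hOm⟩

/-- (R1-0b) isometries of `U`-form in `KG` are in `M` [(Ω-C) = `h.om_uform`, `h.le`]. -/
theorem uform_KG_mem_M (h : LBase G₁ G₂ o o' p p' Om M) {g : GL (Idx a b) F} (hK : g ∈ KG a b F)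
    (hiso : IsIso G₁ G₂ g.1) (hU : UL o o' p p' g.1) : g ∈ M :=
  h.le ⟨hK, h.om_uform g hiso hU⟩

/-- (R1-0c) elements of `M` are isometries. -/
theorem InM_iso (h : LBase G₁ G₂ o o' p p' Om M) {X : Matrix (Idx a b) (Idx a b) F}
    (hX : InM M X) : IsIso G₁ G₂ X := by
  obtain ⟨t, ht, rfl⟩ := hX
  exact h.om_iso t (h.le_om ht)

/-- (R1-1a) step (1): `Σ` is an additive subgroup [(C3i), `InM_mul`]. -/
theorem InM_Zc_add (h : LBase G₁ G₂ o o' p p' Om M) {κ₁ κ₂ σ κ₁' κ₂' σ' : Matrix (Fin a) (Fin a) F}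
    (hZ : InM M (Zc G₁ o o' p p' κ₁ κ₂ σ)) (hZ' : InM M (Zc G₁ o o' p p' κ₁' κ₂' σ')) :
    InM M (Zc G₁ o o' p p' (κ₁ + κ₁') (κ₂ + κ₂') (σ + σ')) := by
  have := InM_mul hZ hZ'
  rwa [Zc_mul h.adp] at this

lemma adjB_zero' : adjB G₁ (0 : Matrix (Fin a) (Fin a) F) = 0 := by
  unfold adjB
  simp

lemma Zc_zero : Zc G₁ o o' p p' (0 : Matrix (Fin a) (Fin a) F) 0 0 = 1 := by
  unfold Zc
  rw [adjB_zero', neg_zero]
  exact Zm_zero

/-- (R1-1b) [the inverse of `Z(κ₁,κ₂,σ)` is `Z(-κ₁,-κ₂,-σ)`: (C3i), (C3e)] -/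
theorem InM_Zc_neg (h : LBase G₁ G₂ o o' p p' Om M) {κ₁ κ₂ σ : Matrix (Fin a) (Fin a) F}
    (hZ : InM M (Zc G₁ o o' p p' κ₁ κ₂ σ)) : InM M (Zc G₁ o o' p p' (-κ₁) (-κ₂) (-σ)) := by
  obtain ⟨t, ht, htv⟩ := hZ
  refine ⟨t⁻¹, M.inv_mem ht, ?_⟩
  have h1 : Zc G₁ o o' p p' κ₁ κ₂ σ * Zc G₁ o o' p p' (-κ₁) (-κ₂) (-σ) = 1 := by
    rw [Zc_mul h.adp, add_neg_cancel, add_neg_cancel, add_neg_cancel, Zc_zero]
  have h2 : (t : Matrix (Idx a b) (Idx a b) F) * ((t⁻¹ : GL (Idx a b) F) : Matrix (Idx a b) (Idx a b) F) = 1 := by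
    rw [← Units.val_mul, mul_inv_cancel, Units.val_one]
  have h3 : ((t⁻¹ : GL (Idx a b) F) : Matrix (Idx a b) (Idx a b) F) * (t : Matrix (Idx a b) (Idx a b) F) = 1 := by
    rw [← Units.val_mul, inv_mul_cancel, Units.val_one]
  calc ((t⁻¹ : GL (Idx a b) F) : Matrix (Idx a b) (Idx a b) F)
      = ((t⁻¹ : GL (Idx a b) F) : Matrix (Idx a b) (Idx a b) F) *
          (Zc G₁ o o' p p' κ₁ κ₂ σ * Zc G₁ o o' p p' (-κ₁) (-κ₂) (-σ)) := by rw [h1, mul_one]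
    _ = (((t⁻¹ : GL (Idx a b) F) : Matrix (Idx a b) (Idx a b) F) * (t : Matrix (Idx a b) (Idx a b) F)) *
          Zc G₁ o o' p p' (-κ₁) (-κ₂) (-σ) := by rw [htv, mul_assoc]
    _ = _ := by rw [h3, one_mul]

lemma adjB_smul' (c : F) (σ : Matrix (Fin a) (Fin a) F) : adjB G₁ (c • σ) = c • adjB G₁ σ := by
  unfold adjB
  rw [Matrix.transpose_smul, Matrix.mul_smul, Matrix.smul_mul]

/-- conjugation of an element of `M` by an element of `M` -/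
lemma InM_conj {ι : Type} [Fintype ι] [DecidableEq ι] {M : Subgroup (GL ι F)} {g : GL ι F} (hg : g ∈ M)
    {X : Matrix ι ι F} (hX : InM M X) : InM M (g.1 * X * g⁻¹.1) := by
  obtain ⟨t, ht, rfl⟩ := hX
  exact ⟨g * t * g⁻¹, M.mul_mem (M.mul_mem hg ht) (M.inv_mem hg), rfl⟩

/-- (R1-1c) scaling by squares: conjugate by `1 ⊗ β_{t,t} ∈ M` (`h.om_tor`, (R1-0a), (C5) with `α = 1`). -/
theorem InM_Zc_sq (h : LBase G₁ G₂ o o' p p' Om M) {t : F} (ht : t ≠ 0)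
    {κ₁ κ₂ σ : Matrix (Fin a) (Fin a) F} (hZ : InM M (Zc G₁ o o' p p' κ₁ κ₂ σ)) :
    InM M (Zc G₁ o o' p p' ((t * t) • κ₁) ((t * t) • κ₂) ((t * t) • σ)) := by
  obtain ⟨β, hβ, hOm⟩ := h.om_tor t ht
  have hM := kel_mem_M h 1 β hOm
  have h1 := InM_conj hM hZ
  unfold Zc at h1 ⊢
  rw [torus_conj h.adp ht ht 1 β hβ] at h1
  simp only [inv_one, Units.val_one, one_mul, mul_one] at h1
  rw [adjB_smul', ← smul_neg]
  exact h1

/-- (R1-1d) `Σ` is an `F`-subspace: `c = ((c+1)/2)² - ((c-1)/2)²` (`2 ≠ 0`; the cases `c = ±1` where one square is `0` separately). -/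
theorem InM_Zc_smul (h : LBase G₁ G₂ o o' p p' Om M) (c : F)
    {κ₁ κ₂ σ : Matrix (Fin a) (Fin a) F} (hZ : InM M (Zc G₁ o o' p p' κ₁ κ₂ σ)) :
    InM M (Zc G₁ o o' p p' (c • κ₁) (c • κ₂) (c • σ)) := by
  have h2 := h.two
  -- scaling by a square, zero allowed
  have hsq : ∀ t : F, InM M (Zc G₁ o o' p p' ((t * t) • κ₁) ((t * t) • κ₂) ((t * t) • σ)) := by
    intro t
    by_cases ht : t = 0
    · subst ht
      simp only [mul_zero, zero_smul]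
      rw [Zc_zero]
      exact InM_one M
    · exact InM_Zc_sq h ht hZ
  have h3 := InM_Zc_add h (hsq ((c + 1) / 2)) (InM_Zc_neg h (hsq ((c - 1) / 2)))
  have e : ((c + 1) / 2) * ((c + 1) / 2) - ((c - 1) / 2) * ((c - 1) / 2) = c := by
    field_simp
    ring
  have e' : ∀ X : Matrix (Fin a) (Fin a) F,
      (((c + 1) / 2) * ((c + 1) / 2)) • X + -((((c - 1) / 2) * ((c - 1) / 2)) • X) = c • X := by
    intro X
    rw [← neg_smul, ← add_smul, ← sub_eq_add_neg, e]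
  rwa [e', e', e'] at h3

end Cfsg.Agent.Lib.Helper15.OTLALeaf
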