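import Mathlib
import Cfsg.Agent.Lib.Helper15.HermPair
import Cfsg.Agent.Lib.Helper12.ElusE

/-!
# Twisting a reflexive form by a semisimple isometry (helper15)

If `g` is an isometry of odd order `m` (prime to the characteristic) of a nondegenerate
`ε`-symmetric bilinear form `Φ`, then `Ψ(u, v) = Φ(u, (g - g⁻¹) v)` is a `(-ε)`-symmetric form
which is nondegenerate on `[V, g]` and invariant under every isometry commuting with `g`.
This turns symplectic isometries into orthogonal ones and conversely.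
-/

set_option autoImplicit false
set_option linter.unusedSectionVars false

namespace Cfsg.Agent.Lib.Helper15.BCTwist

open Module Cfsg.Agent.Lib.Helper12.Elus Cfsg.Agent.Lib.Helper15.HermPair

section decomp

variable {F V : Type*} [Field F] [AddCommGroup V] [Module F V]

theorem pow_apply_fixed (g : V →ₗ[F] V) (u : V) (hu : g u = u) (i : ℕ) : (g ^ i) u = u := by
  induction i with
  | zero => rfl
  | succ i ih => rw [pow_succ, Module.End.mul_apply, hu, ih]

theorem fix_inf_mov_gen (g : V →ₗ[F] V) (m : ℕ) (hg : g ^ m = 1) (hm0 : (m : F) ≠ 0) :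
    fixE g ⊓ movR g = ⊥ := by
  rw [eq_bot_iff]
  rintro u ⟨hu1, ⟨w, hw⟩⟩
  have hu : g u = u := (mem_fixE g u).1 hu1
  have h1 : (∑ i ∈ Finset.range m, g ^ i) u = (m : F) • u := by
    rw [LinearMap.sum_apply, Finset.sum_congr rfl (fun i _ => pow_apply_fixed g u hu i),
      Finset.sum_const, Finset.card_range, Nat.cast_smul_eq_nsmul]
  have h2 : (∑ i ∈ Finset.range m, g ^ i) u = 0 := by
    rw [← hw, ← Module.End.mul_apply, geom_sum_mul, hg, sub_self, LinearMap.zero_apply]
  rw [h1] at h2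
  rcases smul_eq_zero.1 h2 with h | h
  · exact absurd h hm0
  · exact (Submodule.mem_bot F).2 h

theorem fix_sup_mov_gen [FiniteDimensional F V] (g : V →ₗ[F] V) (m : ℕ) (hg : g ^ m = 1)
    (hm0 : (m : F) ≠ 0) : fixE g ⊔ movR g = ⊤ := by
  apply Submodule.eq_top_of_finrank_eq
  have h1 := Submodule.finrank_sup_add_finrank_inf_eq (fixE g) (movR g)
  rw [fix_inf_mov_gen g m hg hm0, finrank_bot, add_zero, finrank_fix_add_mov] at h1
  exact h1

/-- an element of odd order fixing `v` under its square fixes `v` -/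
theorem fix_of_sq_fix (S : V →ₗ[F] V) (s : ℕ) (hs : Odd s) (hS : S ^ s = 1) (v : V)
    (h : S (S v) = v) : S v = v := by
  obtain ⟨j, hj⟩ := hs
  have h1 : ∀ i : ℕ, (S ^ (2 * i)) v = v := by
    intro i
    induction i with
    | zero => simp
    | succ i ih =>
      rw [Nat.mul_succ, pow_add, Module.End.mul_apply, pow_two, Module.End.mul_apply, h, ih]
  have h2 : (S ^ s) (S v) = S v := by rw [hS, Module.End.one_apply]
  have h3 : (S ^ s) (S v) = (S ^ (2 * (j + 1))) v := by
    rw [← Module.End.mul_apply, ← pow_succ, hj]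
    congr 2
  rw [← h2, h3, h1]

/-- fixed vectors of a product of commuting elements of coprime orders -/
theorem fix_of_fix_mul (R S : V →ₗ[F] V) (hc : Commute R S) (r s : ℕ) (hr1 : 1 < r)
    (hR : R ^ r = 1) (hS : S ^ s = 1) (hcop : Nat.Coprime s r) (a : V) (ha : (R * S) a = a) :
    R a = a := by
  have h1 : (R ^ s) a = a := by
    have h2 : ((R * S) ^ s) a = a := pow_apply_fixed (R * S) a ha s
    rw [hc.mul_pow, hS, mul_one] at h2
    exact h2
  obtain ⟨k, -, hk⟩ := Nat.exists_mul_mod_eq_one_of_coprime hcop hr1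
  have h3 : R ^ (s * k) = R := by
    rw [← Nat.div_add_mod (s * k) r, hk, pow_add, pow_mul, hR, one_pow, one_mul, pow_one]
  have h4 : (R ^ (s * k)) a = a := by
    rw [pow_mul]
    exact pow_apply_fixed (R ^ s) a h1 k
  rw [h3] at h4
  exact h4

end decomp

section twist

variable {F V : Type*} [Field F] [AddCommGroup V] [Module F V] [FiniteDimensional F V]
  (Φ : LinearMap.BilinForm F V) (ε : F) (hε : ∀ u v, Φ v u = ε * Φ u v)
  (hnd : ∀ u, (∀ v, Φ u v = 0) → u = 0)
  (g : V →ₗ[F] V) (hiso : ∀ u v, Φ (g u) (g v) = Φ u v) (m : ℕ) (hg : g ^ m = 1)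
  (hm0 : (m : F) ≠ 0)

include hiso hg hm0 in
theorem adj_left (u v : V) : Φ (g u) v = Φ u ((g ^ (m - 1)) v) := by
  have hm : m ≠ 0 := by
    rintro rfl
    exact hm0 Nat.cast_zero
  have h1 : g ((g ^ (m - 1)) v) = v := by
    rw [← Module.End.mul_apply, ← pow_succ', Nat.sub_add_cancel (Nat.pos_of_ne_zero hm), hg,
      Module.End.one_apply]
  conv_lhs => rw [← h1, hiso]

include hiso hg hm0 in
theorem adj_right (u v : V) : Φ ((g ^ (m - 1)) u) v = Φ u (g v) := by
  have hm : m ≠ 0 := by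
    rintro rfl
    exact hm0 Nat.cast_zero
  have h1 : g ((g ^ (m - 1)) u) = u := by
    rw [← Module.End.mul_apply, ← pow_succ', Nat.sub_add_cancel (Nat.pos_of_ne_zero hm), hg,
      Module.End.one_apply]
  conv_rhs => rw [← h1, hiso]

include hiso in
theorem fix_perp_mov_gen (a : V) (ha : g a = a) (w : V) (hw : w ∈ movR g) : Φ a w = 0 := by
  obtain ⟨w', rfl⟩ := hw
  rw [LinearMap.sub_apply, Module.End.one_apply, map_sub, sub_eq_zero]
  conv_lhs => rw [← ha, hiso]

include hε hnd hiso hg hm0 in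
theorem ndOn_mov_gen (w : V) (hw : w ∈ movR g) (h : ∀ w' ∈ movR g, Φ w w' = 0) : w = 0 := by
  apply hnd
  intro v
  have hv : v ∈ fixE g ⊔ movR g := by
    rw [fix_sup_mov_gen g m hg hm0]
    exact Submodule.mem_top
  obtain ⟨a, ha, w', hw', rfl⟩ := Submodule.mem_sup.1 hv
  rw [map_add, h w' hw', add_zero, hε, fix_perp_mov_gen Φ g hiso a ((mem_fixE g a).1 ha) w hw,
    mul_zero]

include hε hnd hiso hg hm0 in
theorem ndOn_fix_gen (a : V) (ha : a ∈ fixE g) (h : ∀ a' ∈ fixE g, Φ a a' = 0) : a = 0 := by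
  apply hnd
  intro v
  have hv : v ∈ fixE g ⊔ movR g := by
    rw [fix_sup_mov_gen g m hg hm0]
    exact Submodule.mem_top
  obtain ⟨a', ha', w', hw', rfl⟩ := Submodule.mem_sup.1 hv
  rw [map_add, h a' ha', zero_add, fix_perp_mov_gen Φ g hiso a ((mem_fixE g a).1 ha) w' hw']

/-- the twisting endomorphism `g - g⁻¹` -/
noncomputable def tau : V →ₗ[F] V := g - g ^ (m - 1)

theorem tau_comm (h : V →ₗ[F] V) (hc : Commute h g) (v : V) :
    tau g m (h v) = h (tau g m v) := by
  unfold tau
  have h1 : ∀ v, g (h v) = h (g v) := fun v => by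
    rw [← Module.End.mul_apply, ← Module.End.mul_apply, hc.eq]
  have h2 : ∀ v, (g ^ (m - 1)) (h v) = h ((g ^ (m - 1)) v) := fun v => by
    rw [← Module.End.mul_apply, ← Module.End.mul_apply, (hc.pow_right (m - 1)).eq]
  rw [LinearMap.sub_apply, LinearMap.sub_apply, h1, h2, map_sub]

theorem tau_mem (w : V) (hw : w ∈ movR g) : tau g m w ∈ movR g := by
  obtain ⟨w', rfl⟩ := hw
  refine ⟨tau g m w', ?_⟩
  have h1 := tau_comm g m (g - 1) ((Commute.refl g).sub_left (Commute.one_left g)) w'
  exact h1.symm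

include hg hm0 in
theorem tau_inj_on (hodd : Odd m) (w : V) (hw : w ∈ movR g) (h : tau g m w = 0) : w = 0 := by
  have hm : m ≠ 0 := by
    rintro rfl
    exact hm0 Nat.cast_zero
  unfold tau at h
  rw [LinearMap.sub_apply, sub_eq_zero] at h
  have h1 : g (g w) = w := by
    rw [h, ← Module.End.mul_apply, ← pow_succ', Nat.sub_add_cancel (Nat.pos_of_ne_zero hm), hg,
      Module.End.one_apply]
  have h2 : g w = w := fix_of_sq_fix g m hodd hg w h1
  have h3 : w ∈ fixE g ⊓ movR g := ⟨(mem_fixE g w).2 h2, hw⟩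
  rw [fix_inf_mov_gen g m hg hm0] at h3
  exact (Submodule.mem_bot F).1 h3

include hg hm0 in
theorem tau_surj_on (hodd : Odd m) (w : V) (hw : w ∈ movR g) :
    ∃ w' ∈ movR g, tau g m w' = w := by
  have hinj : Function.Injective ((tau g m).restrict (tau_mem g m)) := by
    rw [← LinearMap.ker_eq_bot, LinearMap.ker_eq_bot']
    intro x hx
    apply Subtype.ext
    apply tau_inj_on g m hg hm0 hodd x x.2
    have := congrArg Subtype.val hx
    rwa [LinearMap.coe_restrict_apply] at this
  obtain ⟨x, hx⟩ := (LinearMap.injective_iff_surjective.1 hinj) ⟨w, hw⟩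
  refine ⟨x, x.2, ?_⟩
  have := congrArg Subtype.val hx
  rwa [LinearMap.coe_restrict_apply] at this

/-- the twisted form `Ψ(u, v) = Φ(u, (g - g⁻¹) v)` -/
noncomputable def twist : LinearMap.BilinForm F V := Φ.compl₂ (tau g m)

theorem twist_apply (u v : V) : twist Φ g m u v = Φ u (tau g m v) := rfl

include hε hiso hg hm0 in
theorem twist_swap (u v : V) : twist Φ g m v u = -ε * twist Φ g m u v := by
  rw [twist_apply, twist_apply]
  unfold tau
  rw [LinearMap.sub_apply, LinearMap.sub_apply, map_sub, map_sub, hε (g u) v, hε ((g ^ (m - 1)) u) v,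
    adj_left Φ g hiso m hg hm0, adj_right Φ g hiso m hg hm0]
  ring

include hiso in
theorem twist_iso (h : V →ₗ[F] V) (hh : ∀ u v, Φ (h u) (h v) = Φ u v) (hc : Commute h g)
    (u v : V) : twist Φ g m (h u) (h v) = twist Φ g m u v := by
  rw [twist_apply, twist_apply, tau_comm g m h hc, hh]

include hε hnd hiso hg hm0 in
theorem twist_nd (hodd : Odd m) (w : V) (hw : w ∈ movR g)
    (h : ∀ w' ∈ movR g, twist Φ g m w w' = 0) : w = 0 := by
  apply ndOn_mov_gen Φ ε hε hnd g hiso m hg hm0 w hw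
  intro w'' hw''
  obtain ⟨w', hw', rfl⟩ := tau_surj_on g m hg hm0 hodd w'' hw''
  exact h w' hw'

end twist

end Cfsg.Agent.Lib.Helper15.BCTwist
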