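import Mathlib
import Cfsg.Agent.Lib.Helper15.SpReal
import Cfsg.Agent.Lib.Helper15.StarPoly
import Cfsg.Agent.Lib.Helper15.SymIso
import Cfsg.Agent.Lib.Helper15.FieldExt
import Cfsg.Agent.Lib.Helper12.SpE
import Cfsg.Agent.Lib.Helper12.SpG
import Cfsg.Agent.S2568

/-! Helper15 library: pairs of commuting isometries of coprime prime orders of a symplectic space
(product realisations, transport to `Matrix.symplecticGroup`, cyclotomic factors). -/

set_option autoImplicit false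
set_option linter.unusedSectionVars false

namespace Cfsg.Agent.Lib.Helper15.SpPairs

open Polynomial Module Cfsg.Agent.Lib.Helper15.SpReal
open scoped Matrix

universe u

section charpoly

variable {F : Type u} [Field F]

/-- the characteristic polynomial of a matrix with `M ^ N = 1` divides a power of `X ^ N - 1` -/
theorem matrix_charpoly_dvd_pow {n : Type*} [Fintype n] [DecidableEq n] (M : Matrix n n F) (N : ℕ)
    (hM : M ^ N = 1) : M.charpoly ∣ (X ^ N - 1 : F[X]) ^ Fintype.card n := by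
  have hc : Commute (Matrix.scalar n (X : F[X])) (C.mapMatrix M) :=
    Matrix.scalar_commute _ (fun r' => Commute.all _ _) _
  have h1 := hc.mul_geom_sum₂ N
  have h2 : (C.mapMatrix M : Matrix n n F[X]) ^ N = 1 := by
    rw [← map_pow, hM, map_one]
  have h3 : (Matrix.scalar n (X : F[X])) ^ N - (C.mapMatrix M) ^ N =
      Matrix.scalar n (X ^ N - 1 : F[X]) := by
    rw [h2, ← map_pow, map_sub, map_one]
  rw [h3] at h1
  have h4 := congrArg Matrix.det h1
  have h5 : (Matrix.scalar n (X ^ N - 1 : F[X])).det = (X ^ N - 1 : F[X]) ^ Fintype.card n := by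
    rw [Matrix.scalar_apply, Matrix.det_diagonal, Finset.prod_const, Finset.card_univ]
  rw [Matrix.det_mul, h5] at h4
  rw [← h4]
  exact Dvd.intro _ rfl

/-- the same for endomorphisms -/
theorem end_charpoly_dvd_pow {W : Type*} [AddCommGroup W] [Module F W] [FiniteDimensional F W]
    (T : W →ₗ[F] W) (N : ℕ) (hT : T ^ N = 1) :
    T.charpoly ∣ (X ^ N - 1 : F[X]) ^ finrank F W := by
  classical
  have h1 := matrix_charpoly_dvd_pow (LinearMap.toMatrix (Module.finBasis F W)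
    (Module.finBasis F W) T) N (by rw [LinearMap.toMatrix_pow, hT, LinearMap.toMatrix_one])
  rw [LinearMap.charpoly_toMatrix, Fintype.card_fin] at h1
  exact h1

/-- an irreducible factor of the characteristic polynomial divides `X ^ N - 1` -/
theorem dvd_of_irreducible_of_pow_eq_one {W : Type*} [AddCommGroup W] [Module F W]
    [FiniteDimensional F W] (T : W →ₗ[F] W) (N : ℕ) (hT : T ^ N = 1) (h : F[X])
    (hirr : Irreducible h) (hdvd : h ∣ T.charpoly) : h ∣ X ^ N - 1 :=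
  hirr.prime.dvd_of_dvd_pow (hdvd.trans (end_charpoly_dvd_pow T N hT))

end charpoly

section pair

variable (F : Type u) [Field F]

/-- a pair of commuting nontrivial isometries `T₁ ^ a = 1`, `T₂ ^ b = 1` of a nondegenerate
alternating space of dimension `d` -/
def PairReal (a b d : ℕ) : Prop :=
  ∃ (W : Type u) (_ : AddCommGroup W) (_ : Module F W) (_ : FiniteDimensional F W)
    (T₁ T₂ : W →ₗ[F] W) (β : LinearMap.BilinForm F W),
    (∀ u, β u u = 0) ∧ (∀ u, (∀ v, β u v = 0) → u = 0) ∧ (∀ u v, β (T₁ u) (T₁ v) = β u v) ∧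
      (∀ u v, β (T₂ u) (T₂ v) = β u v) ∧ Commute T₁ T₂ ∧ T₁ ^ a = 1 ∧ T₂ ^ b = 1 ∧ T₁ ≠ 1 ∧
      T₂ ≠ 1 ∧ finrank F W = d

variable {F}

/-- adding a hyperbolic space with trivial action -/
theorem PairReal.add_id {a b d : ℕ} (h : PairReal F a b d) (j : ℕ) : PairReal F a b (d + 2 * j) := by
  obtain ⟨W, _, _, _, T₁, T₂, β, halt, hnd, hi₁, hi₂, hc, hp₁, hp₂, hn₁, hn₂, hdim⟩ := h
  let β₂ : LinearMap.BilinForm F (Fin j ⊕ Fin j → F) := sympBilin j
  let β' : LinearMap.BilinForm F (W × (Fin j ⊕ Fin j → F)) :=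
    β.compl₁₂ (LinearMap.fst F W _) (LinearMap.fst F W _) +
      β₂.compl₁₂ (LinearMap.snd F W _) (LinearMap.snd F W _)
  have hβ' : ∀ x y, β' x y = β x.1 y.1 + β₂ x.2 y.2 := fun x y => rfl
  refine ⟨W × (Fin j ⊕ Fin j → F), inferInstance, inferInstance, inferInstance,
    T₁.prodMap 1, T₂.prodMap 1, β', ?_, ?_, ?_, ?_, ?_, ?_, ?_, ?_, ?_, ?_⟩
  · intro x
    rw [hβ', halt, Cfsg.Agent.Lib.Helper12.Sp.stdB_alt, add_zero]
  · intro x hx
    have h1 : x.1 = 0 := by
      apply hnd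
      intro v
      have := hx (v, 0)
      rw [hβ'] at this
      simpa using this
    have h2 : x.2 = 0 := by
      apply Cfsg.Agent.Lib.Helper12.Sp.stdB_nd
      intro v
      have := hx (0, v)
      rw [hβ'] at this
      simpa using this
    exact Prod.ext h1 h2
  · intro x y
    rw [hβ', hβ']
    show β (T₁ x.1) (T₁ y.1) + β₂ x.2 y.2 = _
    rw [hi₁]
  · intro x y
    rw [hβ', hβ']
    show β (T₂ x.1) (T₂ y.1) + β₂ x.2 y.2 = _
    rw [hi₂]
  · show T₁.prodMap 1 * T₂.prodMap 1 = T₂.prodMap 1 * T₁.prodMap 1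
    rw [LinearMap.prodMap_mul, LinearMap.prodMap_mul, hc.eq]
  · rw [prodMap_pow', hp₁, one_pow]
    exact LinearMap.prodMap_one
  · rw [prodMap_pow', hp₂, one_pow]
    exact LinearMap.prodMap_one
  · intro h1
    apply hn₁
    apply LinearMap.ext
    intro w
    have := congrArg (fun f : Module.End F (W × (Fin j ⊕ Fin j → F)) => (f (w, 0)).1) h1
    exact this
  · intro h1
    apply hn₂
    apply LinearMap.ext
    intro w
    have := congrArg (fun f : Module.End F (W × (Fin j ⊕ Fin j → F)) => (f (w, 0)).1) h1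
    exact this
  · rw [Module.finrank_prod, hdim, Cfsg.Agent.Lib.Helper12.Sp.std_finrank]

omit [Field F] in
theorem ne_one_of_eval {K : Type*} [Field K] {W : Type*} [AddCommGroup W] [Module K W]
    [FiniteDimensional K W] (T : W →ₗ[K] W) (h1 : T.charpoly.eval 1 ≠ 0)
    (hpos : 0 < T.charpoly.natDegree) : T ≠ 1 := by
  intro hT
  apply h1
  rw [LinearMap.charpoly_natDegree] at hpos
  have : Nontrivial W := Module.finrank_pos_iff.1 hpos
  obtain ⟨v, hv⟩ := exists_ne (0 : W)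
  have h2 : Module.End.HasEigenvalue T 1 := by
    apply Module.End.hasEigenvalue_of_hasEigenvector (x := v)
    refine ⟨?_, hv⟩
    rw [Module.End.mem_eigenspace_iff, hT, one_smul]
    rfl
  exact (Module.End.hasEigenvalue_iff_isRoot_charpoly T 1).1 h2

/-- two realisations on an orthogonal sum -/
theorem PairReal.of_two {a b : ℕ} {f g : F[X]} (hf : SympReal a f) (hg : SympReal b g)
    (hf1 : f.eval 1 ≠ 0) (hg1 : g.eval 1 ≠ 0) (hfpos : 0 < f.natDegree) (hgpos : 0 < g.natDegree) :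
    PairReal F a b (f.natDegree + g.natDegree) := by
  obtain ⟨W₁, _, _, _, T₁, β₁, ha₁, hn₁, hi₁, hp₁, hc₁⟩ := hf
  obtain ⟨W₂, _, _, _, T₂, β₂, ha₂, hn₂, hi₂, hp₂, hc₂⟩ := hg
  let β : LinearMap.BilinForm F (W₁ × W₂) :=
    β₁.compl₁₂ (LinearMap.fst F W₁ W₂) (LinearMap.fst F W₁ W₂) +
      β₂.compl₁₂ (LinearMap.snd F W₁ W₂) (LinearMap.snd F W₁ W₂)
  have hβ : ∀ x y, β x y = β₁ x.1 y.1 + β₂ x.2 y.2 := fun x y => rfl
  have hT₁ : T₁ ≠ 1 := ne_one_of_eval T₁ (by rw [hc₁]; exact hf1) (by rw [hc₁]; exact hfpos)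
  have hT₂ : T₂ ≠ 1 := ne_one_of_eval T₂ (by rw [hc₂]; exact hg1) (by rw [hc₂]; exact hgpos)
  refine ⟨W₁ × W₂, inferInstance, inferInstance, inferInstance, T₁.prodMap 1, LinearMap.prodMap 1 T₂,
    β, ?_, ?_, ?_, ?_, ?_, ?_, ?_, ?_, ?_, ?_⟩
  · intro x
    rw [hβ, ha₁, ha₂, add_zero]
  · intro x hx
    have h1 : x.1 = 0 := by
      apply hn₁
      intro v
      have := hx (v, 0)
      rw [hβ] at this
      simpa using this
    have h2 : x.2 = 0 := by
      apply hn₂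
      intro v
      have := hx (0, v)
      rw [hβ] at this
      simpa using this
    exact Prod.ext h1 h2
  · intro x y
    rw [hβ, hβ]
    show β₁ (T₁ x.1) (T₁ y.1) + β₂ x.2 y.2 = _
    rw [hi₁]
  · intro x y
    rw [hβ, hβ]
    show β₁ x.1 y.1 + β₂ (T₂ x.2) (T₂ y.2) = _
    rw [hi₂]
  · show T₁.prodMap 1 * LinearMap.prodMap 1 T₂ = LinearMap.prodMap 1 T₂ * T₁.prodMap 1
    rw [LinearMap.prodMap_mul, LinearMap.prodMap_mul, mul_one, one_mul, mul_one, one_mul]
  · rw [prodMap_pow', hp₁, one_pow]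
    exact LinearMap.prodMap_one
  · rw [prodMap_pow', hp₂, one_pow]
    exact LinearMap.prodMap_one
  · intro h1
    apply hT₁
    apply LinearMap.ext
    intro w
    have := congrArg (fun f : Module.End F (W₁ × W₂) => (f (w, 0)).1) h1
    exact this
  · intro h1
    apply hT₂
    apply LinearMap.ext
    intro w
    have := congrArg (fun f : Module.End F (W₁ × W₂) => (f (0, w)).2) h1
    exact this
  · rw [Module.finrank_prod, ← LinearMap.charpoly_natDegree T₁, ← LinearMap.charpoly_natDegree T₂,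
      hc₁, hc₂]

/-- a single realisation of composite order -/
theorem PairReal.of_one {a b : ℕ} {f : F[X]} (hf : SympReal (a * b) f) (h : F[X])
    (hirr : Irreducible h) (hdvd : h ∣ f) (ha : ¬ h ∣ X ^ a - 1) (hb : ¬ h ∣ X ^ b - 1) :
    PairReal F a b f.natDegree := by
  obtain ⟨W, _, _, _, T, β, halt, hnd, hi, hp, hc⟩ := hf
  refine ⟨W, inferInstance, inferInstance, inferInstance, T ^ b, T ^ a, β, halt, hnd, ?_, ?_, ?_, ?_,
    ?_, ?_, ?_, ?_⟩
  · intro u v
    exact Cfsg.Agent.Lib.Helper12.Sp.iso_pow β T hi b u v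
  · intro u v
    exact Cfsg.Agent.Lib.Helper12.Sp.iso_pow β T hi a u v
  · exact (Commute.refl T).pow_pow b a
  · rw [← pow_mul, mul_comm, hp]
  · rw [← pow_mul, hp]
  · intro h1
    exact hb (dvd_of_irreducible_of_pow_eq_one T b h1 h hirr (by rw [hc]; exact hdvd))
  · intro h1
    exact ha (dvd_of_irreducible_of_pow_eq_one T a h1 h hirr (by rw [hc]; exact hdvd))
  · rw [← LinearMap.charpoly_natDegree T, hc]

end pair

section transport

variable {F : Type u} [Field F]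

/-- the matrix of a conjugated endomorphism -/
noncomputable def cmat {W : Type*} [AddCommGroup W] [Module F W] {n : ℕ}
    (φ : W ≃ₗ[F] (Fin n ⊕ Fin n → F)) (T : W →ₗ[F] W) :
    Matrix (Fin n ⊕ Fin n) (Fin n ⊕ Fin n) F :=
  LinearMap.toMatrix' (φ.conj T)

theorem cmat_mulVec {W : Type*} [AddCommGroup W] [Module F W] {n : ℕ}
    (φ : W ≃ₗ[F] (Fin n ⊕ Fin n → F)) (T : W →ₗ[F] W) (u : Fin n ⊕ Fin n → F) :
    cmat φ T *ᵥ u = φ (T (φ.symm u)) := by
  unfold cmat
  rw [← Matrix.toLin'_apply, Matrix.toLin'_toMatrix', LinearEquiv.conj_apply]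
  rfl

theorem cmat_mul {W : Type*} [AddCommGroup W] [Module F W] {n : ℕ}
    (φ : W ≃ₗ[F] (Fin n ⊕ Fin n → F)) (T T' : W →ₗ[F] W) :
    cmat φ (T * T') = cmat φ T * cmat φ T' := by
  apply Matrix.toLin'.injective
  apply LinearMap.ext
  intro u
  rw [Matrix.toLin'_apply, Matrix.toLin'_apply, ← Matrix.mulVec_mulVec, cmat_mulVec, cmat_mulVec,
    cmat_mulVec, LinearEquiv.symm_apply_apply]
  rfl

theorem cmat_one {W : Type*} [AddCommGroup W] [Module F W] {n : ℕ}
    (φ : W ≃ₗ[F] (Fin n ⊕ Fin n → F)) : cmat φ (1 : W →ₗ[F] W) = 1 := by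
  apply Matrix.toLin'.injective
  apply LinearMap.ext
  intro u
  rw [Matrix.toLin'_apply, cmat_mulVec, Matrix.toLin'_one, Module.End.one_apply,
    LinearEquiv.apply_symm_apply]
  rfl

theorem cmat_pow {W : Type*} [AddCommGroup W] [Module F W] {n : ℕ}
    (φ : W ≃ₗ[F] (Fin n ⊕ Fin n → F)) (T : W →ₗ[F] W) (k : ℕ) :
    cmat φ (T ^ k) = cmat φ T ^ k := by
  induction k with
  | zero => rw [pow_zero, pow_zero, cmat_one]
  | succ k ih => rw [pow_succ, pow_succ, cmat_mul, ih]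

theorem cmat_injective {W : Type*} [AddCommGroup W] [Module F W] {n : ℕ}
    (φ : W ≃ₗ[F] (Fin n ⊕ Fin n → F)) (T T' : W →ₗ[F] W) (h : cmat φ T = cmat φ T') : T = T' := by
  apply LinearMap.ext
  intro w
  have h1 := cmat_mulVec φ T (φ w)
  rw [h, cmat_mulVec, LinearEquiv.symm_apply_apply] at h1
  exact (φ.injective h1).symm

/-- transport to the standard symplectic group -/
theorem PairReal.exists_sp {a b n : ℕ} (h : PairReal F a b (2 * n)) :
    ∃ x y : Matrix.symplecticGroup (Fin n) F, Commute x y ∧ x ^ a = 1 ∧ y ^ b = 1 ∧ x ≠ 1 ∧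
      y ≠ 1 := by
  obtain ⟨W, _, _, _, T₁, T₂, β, halt, hnd, hi₁, hi₂, hc, hp₁, hp₂, hn₁, hn₂, hdim⟩ := h
  obtain ⟨k, φ, hk, hφ⟩ := SymIso.exists_symp_equiv W β halt hnd
  have hkn : k = n := by omega
  subst hkn
  have hmem : ∀ T : W →ₗ[F] W, (∀ u v, β (T u) (T v) = β u v) →
      cmat φ T ∈ Matrix.symplecticGroup (Fin k) F := by
    intro T hT
    apply Cfsg.Agent.Lib.Helper15.mem_symplectic_of_preserves
    intro u v
    rw [cmat_mulVec, cmat_mulVec, hφ, hT, ← hφ, LinearEquiv.apply_symm_apply,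
      LinearEquiv.apply_symm_apply]
  refine ⟨⟨cmat φ T₁, hmem T₁ hi₁⟩, ⟨cmat φ T₂, hmem T₂ hi₂⟩, ?_, ?_, ?_, ?_, ?_⟩
  · show (⟨cmat φ T₁, hmem T₁ hi₁⟩ : Matrix.symplecticGroup (Fin k) F) * ⟨cmat φ T₂, hmem T₂ hi₂⟩ =
      ⟨cmat φ T₂, hmem T₂ hi₂⟩ * ⟨cmat φ T₁, hmem T₁ hi₁⟩
    apply Subtype.ext
    show cmat φ T₁ * cmat φ T₂ = cmat φ T₂ * cmat φ T₁
    rw [← cmat_mul, ← cmat_mul, hc.eq]
  · apply Subtype.ext
    rw [SubmonoidClass.coe_pow]
    show cmat φ T₁ ^ a = 1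
    rw [← cmat_pow, hp₁, cmat_one]
  · apply Subtype.ext
    rw [SubmonoidClass.coe_pow]
    show cmat φ T₂ ^ b = 1
    rw [← cmat_pow, hp₂, cmat_one]
  · intro h1
    apply hn₁
    apply cmat_injective φ
    rw [cmat_one]
    exact congrArg Subtype.val h1
  · intro h1
    apply hn₂
    apply cmat_injective φ
    rw [cmat_one]
    exact congrArg Subtype.val h1

end transport

section cyclo

variable {F : Type u} [Field F] [Fintype F] {p : ℕ} [hp : Fact p.Prime] [CharP F p]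

omit [Fintype F] hp in
theorem natCast_mul_ne_zero (r s : ℕ) (hr : r.Prime) (hs : s.Prime) (hrp : r ≠ p) (hsp : s ≠ p)
    [Fact p.Prime] :
    ((r * s : ℕ) : F) ≠ 0 := by
  have hp' : p.Prime := Fact.out
  rw [Ne, CharP.cast_eq_zero_iff F p, hp'.dvd_mul]
  rintro (hd | hd)
  · exact hrp ((Nat.prime_dvd_prime_iff_eq hp' hr).1 hd).symm
  · exact hsp ((Nat.prime_dvd_prime_iff_eq hp' hs).1 hd).symm

/-- existence of a monic irreducible factor of the cyclotomic polynomial -/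
theorem exists_cyclo_factor (N : ℕ) (hN : 0 < N) :
    ∃ h : F[X], h.Monic ∧ Irreducible h ∧ h ∣ cyclotomic N F := by
  apply Polynomial.exists_monic_irreducible_factor
  intro hu
  have h1 := natDegree_eq_zero_of_isUnit hu
  rw [natDegree_cyclotomic] at h1
  exact (Nat.totient_pos.2 hN).ne' h1

omit [Fintype F] in
/-- an irreducible factor of the `r s`-th cyclotomic polynomial does not divide `X ^ s - 1` -/
theorem cyclo_factor_not_dvd (N d : ℕ) (hN0 : ((N : ℕ) : F) ≠ 0) (hd : d ∈ N.properDivisors)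
    (h : F[X]) (hirr : Irreducible h) (hdvd : h ∣ cyclotomic N F) : ¬ h ∣ X ^ d - 1 := by
  intro h1
  have h2 := X_pow_sub_one_mul_cyclotomic_dvd_X_pow_sub_one_of_dvd F hd
  have h3 : h * h ∣ X ^ N - 1 := (mul_dvd_mul h1 hdvd).trans h2
  have hsq : Squarefree (X ^ N - 1 : F[X]) := by
    have := (separable_X_pow_sub_C (1 : F) hN0 one_ne_zero).squarefree
    rwa [map_one] at this
  exact hirr.not_isUnit (hsq h h3)

omit [Fintype F] in
theorem cyclo_factor_not_dvd_two (N : ℕ) (hN0 : ((N : ℕ) : F) ≠ 0) (hodd : Odd N) (hN1 : 1 < N)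
    (h : F[X]) (hirr : Irreducible h) (hdvd : h ∣ cyclotomic N F) : ¬ h ∣ X ^ 2 - 1 := by
  intro h1
  obtain ⟨j, hj⟩ := hodd
  have h2 : h ∣ X ^ N - 1 := hdvd.trans (cyclotomic.dvd_X_pow_sub_one N F)
  have h3 : (X ^ 2 - 1 : F[X]) ∣ X ^ (2 * j) - 1 := by
    have := sub_dvd_pow_sub_pow ((X : F[X]) ^ 2) 1 j
    rwa [one_pow, ← pow_mul] at this
  have h4 : (X ^ N - 1 : F[X]) = X * (X ^ (2 * j) - 1) + (X - 1) := by
    rw [hj, pow_succ]
    ring
  have h5 : h ∣ X - 1 := by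
    rw [h4] at h2
    exact (dvd_add_right (Dvd.dvd.mul_left (h1.trans h3) X)).1 h2
  have h6 : h ∣ X ^ 1 - 1 := by rwa [pow_one]
  exact cyclo_factor_not_dvd N 1 hN0 (Nat.mem_properDivisors.2 ⟨one_dvd _, hN1⟩) h hirr hdvd h6

/-- the degree of the irreducible factors -/
theorem natDegree_cyclo_factor (r s : ℕ) (hr : r.Prime) (hs : s.Prime) (hrs : r ≠ s) (hrp : r ≠ p)
    (hsp : s ≠ p) (h : F[X]) (hirr : Irreducible h) (hdvd : h ∣ cyclotomic (r * s) F)
    (hkl : orderOf ((Fintype.card F : ℕ) : ZMod r) ∣ orderOf ((Fintype.card F : ℕ) : ZMod s)) :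
    h.natDegree = orderOf ((Fintype.card F : ℕ) : ZMod s) := by
  have hp' : p.Prime := Fact.out
  obtain ⟨f, -, hf⟩ := FiniteField.card F p
  have hcop : p.Coprime (r * s) := by
    apply Nat.Coprime.mul_right
    · exact (Nat.coprime_primes hp' hr).2 (Ne.symm hrp)
    · exact (Nat.coprime_primes hp' hs).2 (Ne.symm hsp)
  rw [natDegree_of_dvd_cyclotomic_of_irreducible hf hcop hdvd hirr, ← orderOf_units,
    ZMod.coe_unitOfCoprime, ← hf]
  have hrs' : r.Coprime s := (Nat.coprime_primes hr hs).2 hrs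
  have h1 := (ZMod.chineseRemainder hrs').toMulEquiv.orderOf_eq
    ((Fintype.card F : ℕ) : ZMod (r * s))
  rw [← h1]
  have h2 : (ZMod.chineseRemainder hrs').toMulEquiv ((Fintype.card F : ℕ) : ZMod (r * s)) =
      (((Fintype.card F : ℕ) : ZMod r), ((Fintype.card F : ℕ) : ZMod s)) := by
    show (ZMod.chineseRemainder hrs') ((Fintype.card F : ℕ) : ZMod (r * s)) = _
    rw [map_natCast]
    rfl
  rw [h2, Prod.orderOf]
  exact Nat.lcm_eq_right hkl

/-- self-duality of the irreducible factors of `X ^ N - 1` when `N ∣ q ^ m + 1` -/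
theorem star_eq_self_of_dvd (p : ℕ) [Fact p.Prime] [CharP F p] (N m : ℕ) (hN : 0 < N) (hNm : N ∣ 1 + Fintype.card F ^ m) (h : F[X])
    (hm : h.Monic) (hirr : Irreducible h) (hdvd : h ∣ X ^ N - 1) :
    StarPoly.star (RingHom.id F) h = h := by
  have : Fact (Irreducible h) := ⟨hirr⟩
  obtain ⟨ζ, hζ⟩ : ∃ ζ : AdjoinRoot h, ζ = AdjoinRoot.root h := ⟨_, rfl⟩
  have : CharP (AdjoinRoot h) p :=
    charP_of_injective_algebraMap (algebraMap F (AdjoinRoot h)).injective p
  have hζ0 : aeval ζ h = 0 := by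
    rw [hζ, AdjoinRoot.aeval_eq, AdjoinRoot.mk_self]
  have hζN : ζ ^ N = 1 := by
    obtain ⟨g, hg⟩ := hdvd
    have := congrArg (aeval ζ) hg
    rw [map_mul, hζ0, zero_mul, map_sub, map_pow, aeval_X, map_one, sub_eq_zero] at this
    exact this
  have hζne : ζ ≠ 0 := by
    intro h0
    rw [h0, zero_pow hN.ne'] at hζN
    exact zero_ne_one hζN
  have h0 : h.coeff 0 ≠ 0 := by
    intro hc
    rw [coeff_zero_eq_eval_zero] at hc
    obtain ⟨g, hg⟩ := hdvd
    have := congrArg (eval 0) hg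
    rw [eval_mul, hc, zero_mul, eval_sub, eval_pow, eval_X, eval_one, zero_pow hN.ne',
      zero_sub] at this
    exact one_ne_zero (neg_eq_zero.1 this)
  have hroot : aeval ((ζ ^ (p ^ 0))⁻¹) (StarPoly.star (RingHom.id F) h) = 0 :=
    StarPoly.star_root p 0 (RingHom.id F) (fun c => by rw [pow_zero, pow_one]; rfl) h ζ hζne hζ0
  rw [pow_zero, pow_one] at hroot
  have hstar_irr := StarPoly.irreducible_star (RingHom.id F) (fun _ => rfl) h hm h0 hirr
  have hstar_mon := StarPoly.monic_star (RingHom.id F) h h0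
  have h1 : ζ ^ (1 + Fintype.card F ^ m) = 1 := by
    obtain ⟨c, hc⟩ := hNm
    rw [hc, pow_mul, hζN, one_pow]
  have h2 : ζ⁻¹ = ζ ^ (Nat.card F ^ m) := by
    rw [pow_add, pow_one] at h1
    rw [Nat.card_eq_fintype_card]
    exact inv_eq_of_mul_eq_one_right h1
  have h3 : aeval (ζ⁻¹) h = 0 := by
    rw [h2, StarPoly.aeval_pow_card_pow p, hζ0, zero_pow]
    exact pow_ne_zero _ Nat.card_pos.ne'
  rw [minpoly.eq_of_irreducible_of_monic hstar_irr hroot hstar_mon,
    ← minpoly.eq_of_irreducible_of_monic hirr h3 hm]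

end cyclo

section real

open Cfsg.Agent.Lib.Helper12.Sp

variable {F : Type u} [Field F] [Fintype F] {p : ℕ} [Fact p.Prime] [CharP F p]

/-- two blocks -/
theorem pairReal_of_blocks (r s : ℕ) [Fact r.Prime] [Fact s.Prime] (hr2 : r ≠ 2) (hs2 : s ≠ 2)
    (hrp : r ≠ p) (hsp : s ≠ p) :
    PairReal F r s (blockDim (Fintype.card F) r + blockDim (Fintype.card F) s) := by
  obtain ⟨g₁, hm₁, hd₁, he₁, hS₁⟩ := exists_block_poly (F := F) r hr2 hrp
  obtain ⟨g₂, hm₂, hd₂, he₂, hS₂⟩ := exists_block_poly (F := F) s hs2 hsp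
  have := PairReal.of_two hS₁ hS₂ he₁ he₂ (by rw [hd₁]; exact blockDim_pos (F := F) r hrp)
    (by rw [hd₂]; exact blockDim_pos (F := F) s hsp)
  rwa [hd₁, hd₂] at this

/-- the self-dual torus -/
theorem pairReal_selfdual (r s : ℕ) (hr : r.Prime) (hs : s.Prime) (hr2 : r ≠ 2) (hs2 : s ≠ 2)
    (hrs : r ≠ s) (hrp : r ≠ p) (hsp : s ≠ p) (m : ℕ) (hdvd : r * s ∣ 1 + Fintype.card F ^ m)
    (hkl : orderOf ((Fintype.card F : ℕ) : ZMod r) ∣ orderOf ((Fintype.card F : ℕ) : ZMod s)) :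
    PairReal F r s (orderOf ((Fintype.card F : ℕ) : ZMod s)) := by
  have hpos : 0 < r * s := Nat.mul_pos hr.pos hs.pos
  have hN0 := natCast_mul_ne_zero (F := F) r s hr hs hrp hsp
  obtain ⟨h, hm, hirr, hc⟩ := exists_cyclo_factor (F := F) (r * s) hpos
  have hX : h ∣ X ^ (r * s) - 1 := hc.trans (cyclotomic.dvd_X_pow_sub_one _ F)
  have hstar := star_eq_self_of_dvd p (r * s) m hpos hdvd h hm hirr hX
  have hodd : Odd (r * s) := (hr.odd_of_ne_two hr2).mul (hs.odd_of_ne_two hs2)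
  have h1lt : 1 < r * s := by
    have := hr.two_le
    have := hs.two_le
    nlinarith
  have hnd2 := cyclo_factor_not_dvd_two (r * s) hN0 hodd h1lt h hirr hc
  have hS := sympReal_selfdual p (r * s) h hm hirr hstar hX hnd2
  have hr' : ¬ h ∣ X ^ r - 1 := cyclo_factor_not_dvd (r * s) r hN0
    (Nat.mem_properDivisors.2 ⟨dvd_mul_right r s, by nlinarith [hs.two_le, hr.pos]⟩) h hirr hc
  have hs' : ¬ h ∣ X ^ s - 1 := cyclo_factor_not_dvd (r * s) s hN0
    (Nat.mem_properDivisors.2 ⟨dvd_mul_left s r, by nlinarith [hr.two_le, hs.pos]⟩) h hirr hc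
  have := PairReal.of_one hS h hirr dvd_rfl hr' hs'
  rwa [natDegree_cyclo_factor r s hr hs hrs hrp hsp h hirr hc hkl] at this

/-- the hyperbolic torus -/
theorem pairReal_hyperbolic (r s : ℕ) (hr : r.Prime) (hs : s.Prime)
    (hrs : r ≠ s) (hrp : r ≠ p) (hsp : s ≠ p)
    (hkl : orderOf ((Fintype.card F : ℕ) : ZMod r) ∣ orderOf ((Fintype.card F : ℕ) : ZMod s)) :
    PairReal F r s (2 * orderOf ((Fintype.card F : ℕ) : ZMod s)) := by
  have hpos : 0 < r * s := Nat.mul_pos hr.pos hs.pos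
  have hN0 := natCast_mul_ne_zero (F := F) r s hr hs hrp hsp
  obtain ⟨h, hm, hirr, hc⟩ := exists_cyclo_factor (F := F) (r * s) hpos
  have hX : h ∣ X ^ (r * s) - 1 := hc.trans (cyclotomic.dvd_X_pow_sub_one _ F)
  have hdeg := natDegree_cyclo_factor r s hr hs hrs hrp hsp h hirr hc hkl
  obtain ⟨M, hMc, hMN⟩ := Cfsg.Agent.S2568.exists_matrix_pow_eq_one
    (orderOf ((Fintype.card F : ℕ) : ZMod s)) (r * s) 1 hpos h hm hdeg (by rw [pow_one]; exact hX)
  have h1 : M * M ^ (r * s - 1) = 1 := by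
    rw [← pow_succ', Nat.sub_add_cancel hpos, hMN]
  have hS := sympReal_hyperbolic (r * s) _ M (M ^ (r * s - 1)) h1 hMN
  rw [hMc] at hS
  have hr' : ¬ h ∣ X ^ r - 1 := cyclo_factor_not_dvd (r * s) r hN0
    (Nat.mem_properDivisors.2 ⟨dvd_mul_right r s, by nlinarith [hs.two_le, hr.pos]⟩) h hirr hc
  have hs' : ¬ h ∣ X ^ s - 1 := cyclo_factor_not_dvd (r * s) s hN0
    (Nat.mem_properDivisors.2 ⟨dvd_mul_left s r, by nlinarith [hr.two_le, hs.pos]⟩) h hirr hc
  have h0 : h.coeff 0 ≠ 0 := by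
    intro hc0
    rw [coeff_zero_eq_eval_zero] at hc0
    obtain ⟨g, hg⟩ := hX
    have := congrArg (eval 0) hg
    rw [eval_mul, hc0, zero_mul, eval_sub, eval_pow, eval_X, eval_one, zero_pow hpos.ne',
      zero_sub] at this
    exact one_ne_zero (neg_eq_zero.1 this)
  have := PairReal.of_one hS h hirr (dvd_mul_right h _) hr' hs'
  rwa [hm.natDegree_mul (StarPoly.monic_star _ _ h0), StarPoly.natDegree_star _ _ h0, hdeg,
    ← two_mul] at this

end real

end Cfsg.Agent.Lib.Helper15.SpPairs
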