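import Mathlib
import Cfsg.Agent.Lib.Helper15.BCTwist
import Cfsg.Agent.Lib.Helper15.SpPairs
import Cfsg.Agent.Lib.Helper15.SymIso
import Cfsg.Agent.Lib.Helper15.QuadReal
import Cfsg.Agent.Lib.Helper15.OrthReal

/-!
# Pairs of commuting isometries: symplectic ↔ orthogonal (helper15)
-/

set_option autoImplicit false
set_option linter.unusedSectionVars false

namespace Cfsg.Agent.Lib.Helper15.BCPairs

open Module QuadraticMap Cfsg.Agent.Lib.Helper12.Elus Cfsg.Agent.Lib.Helper15.HermPair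
  Cfsg.Agent.Lib.Helper15.BCTwist Cfsg.Agent.Lib.Helper15.SpPairs

universe u

section defs

variable (F : Type u) [Field F]

/-- a pair of commuting nontrivial isometries `T₁ ^ a = 1`, `T₂ ^ b = 1` of a nondegenerate
quadratic space of dimension `d` -/
def OPairReal (a b d : ℕ) : Prop :=
  ∃ (W : Type u) (_ : AddCommGroup W) (_ : Module F W) (_ : FiniteDimensional F W)
    (T₁ T₂ : W →ₗ[F] W) (Q : QuadraticForm F W),
    (polarBilin Q).Nondegenerate ∧ (∀ u, Q (T₁ u) = Q u) ∧ (∀ u, Q (T₂ u) = Q u) ∧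
      Commute T₁ T₂ ∧ T₁ ^ a = 1 ∧ T₂ ^ b = 1 ∧ T₁ ≠ 1 ∧ T₂ ≠ 1 ∧ finrank F W = d

end defs

section restr

variable {F : Type u} [Field F] {V : Type u} [AddCommGroup V] [Module F V]

theorem restrict_pow_apply' (x : V →ₗ[F] V) (W : Submodule F V) (hWx : ∀ w ∈ W, x w ∈ W) (j : ℕ)
    (w : W) : ((((x.restrict hWx) ^ j) w : W) : V) = (x ^ j) (w : V) := by
  induction j generalizing w with
  | zero => rfl
  | succ j ih =>
    rw [pow_succ, pow_succ, Module.End.mul_apply, Module.End.mul_apply, ih,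
      LinearMap.coe_restrict_apply]

/-- the restrictions of a commuting pair to the commutator space of the product -/
theorem restrict_data [FiniteDimensional F V] (R S : V →ₗ[F] V) (hc : Commute R S) (r s : ℕ)
    (hr1 : 1 < r) (hs1 : 1 < s) (hcop : Nat.Coprime r s) (hrs0 : ((r * s : ℕ) : F) ≠ 0)
    (hR : R ^ r = 1) (hS : S ^ s = 1) (hR1 : R ≠ 1) (hS1 : S ≠ 1) :
    ∃ (hRW : ∀ w ∈ movR (R * S), R w ∈ movR (R * S))
      (hSW : ∀ w ∈ movR (R * S), S w ∈ movR (R * S)),
      Commute (R.restrict hRW) (S.restrict hSW) ∧ (R.restrict hRW) ^ r = 1 ∧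
        (S.restrict hSW) ^ s = 1 ∧ R.restrict hRW ≠ 1 ∧ S.restrict hSW ≠ 1 ∧
        (R * S) ^ (r * s) = 1 := by
  have hcR : Commute R (R * S) := (Commute.refl R).mul_right hc
  have hcS : Commute S (R * S) := hc.symm.mul_right (Commute.refl S)
  have hRW : ∀ w ∈ movR (R * S), R w ∈ movR (R * S) :=
    mov_inv_of_comm (R * S) R (fun v => by
      rw [← Module.End.mul_apply, ← Module.End.mul_apply, hcR.eq])
  have hSW : ∀ w ∈ movR (R * S), S w ∈ movR (R * S) :=
    mov_inv_of_comm (R * S) S (fun v => by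
      rw [← Module.End.mul_apply, ← Module.End.mul_apply, hcS.eq])
  have hg : (R * S) ^ (r * s) = 1 := by
    rw [hc.mul_pow, pow_mul, hR, one_pow, one_mul, mul_comm, pow_mul, hS, one_pow]
  have htop := fix_sup_mov_gen (R * S) (r * s) hg hrs0
  have hne : ∀ (X : V →ₗ[F] V) (hXW : ∀ w ∈ movR (R * S), X w ∈ movR (R * S)),
      (∀ a, (R * S) a = a → X a = a) → X ≠ 1 → X.restrict hXW ≠ 1 := by
    intro X hXW hfix hX1 h1
    apply hX1
    apply LinearMap.ext
    intro v
    have hv : v ∈ fixE (R * S) ⊔ movR (R * S) := by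
      rw [htop]
      exact Submodule.mem_top
    obtain ⟨a, ha, w, hw, rfl⟩ := Submodule.mem_sup.1 hv
    have h2 : X w = w := by
      have := congrArg (fun f : Module.End F (movR (R * S)) => ((f ⟨w, hw⟩ : movR (R * S)) : V)) h1
      exact this
    rw [map_add, hfix a ((mem_fixE _ a).1 ha), h2, Module.End.one_apply]
  refine ⟨hRW, hSW, ?_, ?_, ?_, ?_, ?_, hg⟩
  · apply LinearMap.ext
    intro w
    apply Subtype.ext
    show R (S w) = S (R w)
    exact congrArg (fun f : Module.End F V => f (w : V)) hc.eq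
  · apply LinearMap.ext
    intro w
    apply Subtype.ext
    rw [restrict_pow_apply', hR]
    rfl
  · apply LinearMap.ext
    intro w
    apply Subtype.ext
    rw [restrict_pow_apply', hS]
    rfl
  · apply hne R hRW _ hR1
    intro a ha
    exact fix_of_fix_mul R S hc r s hr1 hR hS hcop.symm a ha
  · apply hne S hSW _ hS1
    intro a ha
    have ha' : (S * R) a = a := by rw [← hc.eq]; exact ha
    exact fix_of_fix_mul S R hc.symm s r hs1 hS hR hcop a ha'

end restr

section symp_to_orth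

variable {F : Type u} [Field F] {V : Type u} [AddCommGroup V] [Module F V]
  [FiniteDimensional F V]

/-- from a symplectic pair to an orthogonal pair -/
theorem opairReal_of_symp (h2 : (2 : F) ≠ 0) (B : LinearMap.BilinForm F V)
    (halt : ∀ v, B v v = 0) (hnd : ∀ u, (∀ v, B u v = 0) → u = 0)
    (R S : V →ₗ[F] V) (hc : Commute R S) (r s : ℕ) (hr1 : 1 < r) (hs1 : 1 < s)
    (hcop : Nat.Coprime r s) (hodd : Odd (r * s)) (hrs0 : ((r * s : ℕ) : F) ≠ 0)
    (hR : R ^ r = 1) (hS : S ^ s = 1) (hR1 : R ≠ 1) (hS1 : S ≠ 1)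
    (hRi : ∀ u v, B (R u) (R v) = B u v) (hSi : ∀ u v, B (S u) (S v) = B u v) :
    ∃ j, 2 * j ≤ finrank F V ∧ OPairReal F r s (2 * j) := by
  obtain ⟨hRW, hSW, hcomm, hRr, hSs, hRne, hSne, hg⟩ :=
    restrict_data R S hc r s hr1 hs1 hcop hrs0 hR hS hR1 hS1
  obtain ⟨g, hgdef⟩ : ∃ g, g = R * S := ⟨_, rfl⟩
  rw [← hgdef] at hg
  have hε : ∀ u v, B v u = (-1 : F) * B u v := by
    intro u v
    have h1 := halt (u + v)
    simp only [map_add, LinearMap.add_apply, halt, zero_add, add_zero] at h1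
    linear_combination h1
  have hiso : ∀ u v, B (g u) (g v) = B u v := by
    intro u v
    rw [hgdef, Module.End.mul_apply, Module.End.mul_apply, hRi, hSi]
  have hcR : Commute R g := by rw [hgdef]; exact (Commute.refl R).mul_right hc
  have hcS : Commute S g := by rw [hgdef]; exact hc.symm.mul_right (Commute.refl S)
  obtain ⟨W, hW⟩ : ∃ W, W = movR (R * S) := ⟨_, rfl⟩
  have hWg : W = movR g := by rw [hW, hgdef]
  obtain ⟨Ψ, hΨ⟩ : ∃ Ψ, Ψ = twist B g (r * s) := ⟨_, rfl⟩
  have hΨsymm : ∀ u v, Ψ v u = Ψ u v := by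
    intro u v
    rw [hΨ, twist_swap B (-1) hε g hiso (r * s) hg hrs0 u v]
    ring
  have hΨnd : ∀ w ∈ W, (∀ w' ∈ W, Ψ w w' = 0) → w = 0 := by
    intro w hw h
    rw [hWg] at hw h
    rw [hΨ] at h
    exact twist_nd B (-1) hε hnd g hiso (r * s) hg hrs0 hodd w hw h
  -- the quadratic form
  let Q : QuadraticForm F W := LinearMap.BilinMap.toQuadraticMap (Ψ.restrict W)
  have hQ : ∀ w : W, Q w = Ψ (w : V) (w : V) := fun w => rfl
  have hpolar : ∀ x y : W, polar Q x y = 2 * Ψ (x : V) (y : V) := by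
    intro x y
    rw [LinearMap.BilinMap.polar_toQuadraticMap]
    show Ψ (x : V) (y : V) + Ψ (y : V) (x : V) = _
    rw [hΨsymm (x : V) (y : V)]
    ring
  have hQnd : (polarBilin Q).Nondegenerate := by
    constructor
    · intro x hx
      apply Subtype.ext
      apply hΨnd x x.2
      intro w' hw'
      have := hx ⟨w', hw'⟩
      rw [polarBilin_apply_apply, hpolar] at this
      exact (mul_eq_zero.1 this).resolve_left h2
    · intro y hy
      apply Subtype.ext
      apply hΨnd y y.2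
      intro w' hw'
      have := hy ⟨w', hw'⟩
      rw [polarBilin_apply_apply, hpolar, hΨsymm] at this
      exact (mul_eq_zero.1 this).resolve_left h2
  -- the dimension is even
  have hBnd : ∀ x : W, (∀ y : W, (B.restrict W) x y = 0) → x = 0 := by
    intro x hx
    apply Subtype.ext
    have hx2 : (x : V) ∈ movR g := by rw [← hWg]; exact x.2
    apply ndOn_mov_gen B (-1) hε hnd g hiso (r * s) hg hrs0 x hx2
    intro w' hw'
    rw [← hWg] at hw'
    exact hx ⟨w', hw'⟩
  obtain ⟨k, -, hk, -⟩ := SymIso.exists_symp_equiv W (B.restrict W) (fun x => halt x) hBnd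
  refine ⟨k, ?_, ?_⟩
  · rw [hk]
    exact Submodule.finrank_le W
  subst hW
  refine ⟨movR (R * S), inferInstance, inferInstance, inferInstance, R.restrict hRW,
    S.restrict hSW, Q, hQnd, ?_, ?_, hcomm, hRr, hSs, hRne, hSne, hk.symm⟩
  · intro w
    rw [hQ, hQ, LinearMap.coe_restrict_apply, hΨ]
    exact twist_iso B g hiso (r * s) R hRi hcR _ _
  · intro w
    rw [hQ, hQ, LinearMap.coe_restrict_apply, hΨ]
    exact twist_iso B g hiso (r * s) S hSi hcS _ _

end symp_to_orth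

section orth_to_symp

variable {F : Type u} [Field F] {V : Type u} [AddCommGroup V] [Module F V]
  [FiniteDimensional F V]

/-- from an orthogonal pair to a symplectic pair -/
theorem pairReal_of_orth (h2 : (2 : F) ≠ 0) (Q : QuadraticForm F V)
    (hQ : (polarBilin Q).Nondegenerate)
    (R S : V →ₗ[F] V) (hc : Commute R S) (r s : ℕ) (hr1 : 1 < r) (hs1 : 1 < s)
    (hcop : Nat.Coprime r s) (hodd : Odd (r * s)) (hrs0 : ((r * s : ℕ) : F) ≠ 0)
    (hR : R ^ r = 1) (hS : S ^ s = 1) (hR1 : R ≠ 1) (hS1 : S ≠ 1)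
    (hRi : ∀ u, Q (R u) = Q u) (hSi : ∀ u, Q (S u) = Q u) :
    ∃ j, 2 * j ≤ finrank F V ∧ PairReal F r s (2 * j) := by
  obtain ⟨hRW, hSW, hcomm, hRr, hSs, hRne, hSne, hg⟩ :=
    restrict_data R S hc r s hr1 hs1 hcop hrs0 hR hS hR1 hS1
  obtain ⟨g, hgdef⟩ : ∃ g, g = R * S := ⟨_, rfl⟩
  rw [← hgdef] at hg
  obtain ⟨B, hB⟩ : ∃ B : LinearMap.BilinForm F V, B = polarBilin Q := ⟨_, rfl⟩
  have hBapp : ∀ u v, B u v = polar Q u v := by
    intro u v
    rw [hB, polarBilin_apply_apply]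
  have hε : ∀ u v, B v u = (1 : F) * B u v := by
    intro u v
    rw [hBapp, hBapp, polar_comm, one_mul]
  have hnd : ∀ u, (∀ v, B u v = 0) → u = 0 := by
    intro u hu
    apply hQ.1
    intro v
    rw [← hB]
    exact hu v
  have hpi : ∀ (X : V →ₗ[F] V), (∀ u, Q (X u) = Q u) → ∀ u v, B (X u) (X v) = B u v := by
    intro X hX u v
    rw [hBapp, hBapp, polar, polar, ← map_add, hX, hX, hX]
  have hRi' := hpi R hRi
  have hSi' := hpi S hSi
  have hiso : ∀ u v, B (g u) (g v) = B u v := by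
    intro u v
    rw [hgdef, Module.End.mul_apply, Module.End.mul_apply, hRi', hSi']
  have hcR : Commute R g := by rw [hgdef]; exact (Commute.refl R).mul_right hc
  have hcS : Commute S g := by rw [hgdef]; exact hc.symm.mul_right (Commute.refl S)
  obtain ⟨W, hW⟩ : ∃ W, W = movR (R * S) := ⟨_, rfl⟩
  have hWg : W = movR g := by rw [hW, hgdef]
  obtain ⟨Ψ, hΨ⟩ : ∃ Ψ, Ψ = twist B g (r * s) := ⟨_, rfl⟩
  have hΨalt : ∀ u, Ψ u u = 0 := by
    intro u
    have h1 : Ψ u u = -1 * Ψ u u := by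
      conv_lhs => rw [hΨ, twist_swap B 1 hε g hiso (r * s) hg hrs0 u u]
      rw [hΨ]
    have h3 : (2 : F) * Ψ u u = 0 := by linear_combination h1
    exact (mul_eq_zero.1 h3).resolve_left h2
  have hΨnd : ∀ w ∈ W, (∀ w' ∈ W, Ψ w w' = 0) → w = 0 := by
    intro w hw h
    rw [hWg] at hw h
    rw [hΨ] at h
    exact twist_nd B 1 hε hnd g hiso (r * s) hg hrs0 hodd w hw h
  have hβnd : ∀ x : W, (∀ y : W, (Ψ.restrict W) x y = 0) → x = 0 := by
    intro x hx
    apply Subtype.ext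
    apply hΨnd x x.2
    intro w' hw'
    exact hx ⟨w', hw'⟩
  obtain ⟨k, -, hk, -⟩ := SymIso.exists_symp_equiv W (Ψ.restrict W) (fun x => hΨalt x) hβnd
  refine ⟨k, ?_, ?_⟩
  · rw [hk]
    exact Submodule.finrank_le W
  subst hW
  refine ⟨movR (R * S), inferInstance, inferInstance, inferInstance, R.restrict hRW,
    S.restrict hSW, Ψ.restrict (movR (R * S)), fun x => hΨalt x, hβnd, ?_, ?_, hcomm, hRr, hSs,
    hRne, hSne, hk.symm⟩
  · intro u v
    show Ψ (R u) (R v) = Ψ u v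
    rw [hΨ]
    exact twist_iso B g hiso (r * s) R hRi' hcR _ _
  · intro u v
    show Ψ (S u) (S v) = Ψ u v
    rw [hΨ]
    exact twist_iso B g hiso (r * s) S hSi' hcS _ _

end orth_to_symp

end Cfsg.Agent.Lib.Helper15.BCPairs
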