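import Mathlib
import Cfsg.Agent.Lib.Helper15.BCPairs
import Cfsg.Agent.Lib.Helper15.IsometryTransport

/-!
# Transport of abstract odd-dimensional quadratic spaces to the standard form (helper15)
-/

set_option autoImplicit false
set_option linter.unusedSectionVars false

namespace Cfsg.Agent.Lib.Helper15.BCOrth

open Module QuadraticMap Cfsg.Agent.Lib.Helper15.BCPairs Cfsg.Agent.Lib.Helper15.OrthReal
open scoped Matrix

universe u

section equiv

variable {F : Type u} [Field F] [Finite F]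

/-- a nondegenerate quadratic space of dimension `2m+1` is similar to the standard one -/
theorem exists_equiv_odd {W : Type*} [AddCommGroup W] [Module F W] [FiniteDimensional F W]
    (Q : QuadraticForm F W) (hQnd : (polarBilin Q).Nondegenerate) (m : ℕ)
    (hfr : finrank F W = 2 * m + 1) :
    ∃ (c : F) (E : W ≃ₗ[F] (Unit ⊕ (Fin m ⊕ Fin m) → F)), c ≠ 0 ∧
      ∀ x, c * Cfsg.quadFormOdd m F (E x) = Q x := by
  classical
  obtain ⟨b, hb0, hb1, hb2, hb3, hb4⟩ := Cfsg.Agent.S2618.result hfr Q hQnd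
  obtain ⟨c, hc⟩ : ∃ c, c = Q (b (Sum.inl ())) := ⟨_, rfl⟩
  have hc0 : c ≠ 0 := by rw [hc]; exact hb0
  let w : Unit ⊕ (Fin m ⊕ Fin m) → Fˣ :=
    fun k => Sum.elim (fun _ => 1) (Sum.elim (fun _ => 1) (fun _ => Units.mk0 c hc0)) k
  obtain ⟨b', hb'⟩ : ∃ b' : Basis (Unit ⊕ (Fin m ⊕ Fin m)) F W, b' = b.unitsSMul w := ⟨_, rfl⟩
  have hb'0 : b' (Sum.inl ()) = b (Sum.inl ()) := by
    rw [hb', Basis.unitsSMul_apply]; exact one_smul _ _
  have hb'1 : ∀ i, b' (Sum.inr (Sum.inl i)) = b (Sum.inr (Sum.inl i)) := by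
    intro i; rw [hb', Basis.unitsSMul_apply]; exact one_smul _ _
  have hb'2 : ∀ i, b' (Sum.inr (Sum.inr i)) = c • b (Sum.inr (Sum.inr i)) := by
    intro i; rw [hb', Basis.unitsSMul_apply]; rfl
  have hcoord : ∀ v, Q v = (c • oddQF m) (b'.equivFun v) := by
    apply eq_comp_equivFun b' Q (c • oddQF m)
    · rintro (⟨⟩ | i | i)
      · rw [hb'0, ← hc, _root_.smul_apply, oddQF_apply]
        simp [Cfsg.quadFormOdd]
      · rw [hb'1, (hb2 i).1, _root_.smul_apply, oddQF_apply]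
        simp [Cfsg.quadFormOdd, Pi.single_apply]
      · rw [hb'2, QuadraticMap.map_smul, (hb2 i).2, _root_.smul_apply, oddQF_apply]
        simp [Cfsg.quadFormOdd, Pi.single_apply]
    · rintro (⟨⟩ | i | i) (⟨⟩ | j | j) hij
      · exact absurd rfl hij
      · rw [hb'0, hb'1, (hb1 j).1, FunLike.coe_smul, polar_smul, polar_oddQF]
        simp [Pi.single_apply]
      · rw [hb'0, hb'2, polar_smul_right, (hb1 j).2, FunLike.coe_smul, polar_smul,
          polar_oddQF]
        simp [Pi.single_apply]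
      · rw [hb'0, hb'1, polar_comm, (hb1 i).1, FunLike.coe_smul, polar_smul, polar_oddQF]
        simp [Pi.single_apply]
      · rw [hb'1, hb'1, (hb4 i j).1, FunLike.coe_smul, polar_smul, polar_oddQF]
        simp [Pi.single_apply]
      · rw [hb'1, hb'2, polar_smul_right, hb3 i j, FunLike.coe_smul, polar_smul,
          polar_oddQF]
        simp [Pi.single_apply]
        simp only [eq_comm]
      · rw [hb'0, hb'2, polar_smul_left, polar_comm, (hb1 i).2, FunLike.coe_smul,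
          polar_smul, polar_oddQF]
        simp [Pi.single_apply]
      · rw [hb'1, hb'2, polar_smul_left, polar_comm, hb3 j i, FunLike.coe_smul, polar_smul,
          polar_oddQF]
        simp [Pi.single_apply, eq_comm]
      · rw [hb'2, hb'2, polar_smul_left, polar_smul_right, (hb4 i j).2, FunLike.coe_smul,
          polar_smul, polar_oddQF]
        simp [Pi.single_apply]
  refine ⟨c, b'.equivFun, hc0, ?_⟩
  intro x
  rw [hcoord x, _root_.smul_apply, oddQF_apply]
  rfl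

end equiv

section gmat

variable {F : Type u} [Field F] {ι : Type} [Fintype ι] [DecidableEq ι]
  {W : Type*} [AddCommGroup W] [Module F W]

/-- the matrix of a conjugated endomorphism -/
noncomputable def gmat (φ : W ≃ₗ[F] (ι → F)) (T : W →ₗ[F] W) : Matrix ι ι F :=
  LinearMap.toMatrix' (φ.conj T)

theorem gmat_mulVec (φ : W ≃ₗ[F] (ι → F)) (T : W →ₗ[F] W) (u : ι → F) :
    gmat φ T *ᵥ u = φ (T (φ.symm u)) := by
  unfold gmat
  rw [← Matrix.toLin'_apply, Matrix.toLin'_toMatrix', LinearEquiv.conj_apply]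
  rfl

theorem gmat_mul (φ : W ≃ₗ[F] (ι → F)) (T T' : W →ₗ[F] W) :
    gmat φ (T * T') = gmat φ T * gmat φ T' := by
  apply Matrix.toLin'.injective
  apply LinearMap.ext
  intro u
  rw [Matrix.toLin'_apply, Matrix.toLin'_apply, ← Matrix.mulVec_mulVec, gmat_mulVec, gmat_mulVec,
    gmat_mulVec, LinearEquiv.symm_apply_apply]
  rfl

theorem gmat_one (φ : W ≃ₗ[F] (ι → F)) : gmat φ (1 : W →ₗ[F] W) = 1 := by
  apply Matrix.toLin'.injective
  apply LinearMap.ext
  intro u
  rw [Matrix.toLin'_apply, gmat_mulVec, Matrix.toLin'_one, Module.End.one_apply,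
    LinearEquiv.apply_symm_apply]
  rfl

theorem gmat_pow (φ : W ≃ₗ[F] (ι → F)) (T : W →ₗ[F] W) (k : ℕ) :
    gmat φ (T ^ k) = gmat φ T ^ k := by
  induction k with
  | zero => rw [pow_zero, pow_zero, gmat_one]
  | succ k ih => rw [pow_succ, pow_succ, gmat_mul, ih]

theorem gmat_injective (φ : W ≃ₗ[F] (ι → F)) (T T' : W →ₗ[F] W) (h : gmat φ T = gmat φ T') :
    T = T' := by
  apply LinearMap.ext
  intro w
  have h1 := gmat_mulVec φ T (φ w)
  rw [h, gmat_mulVec, LinearEquiv.symm_apply_apply] at h1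
  exact (φ.injective h1).symm

end gmat

section iso

variable {F : Type u} [Field F] {m : ℕ} {W : Type*} [AddCommGroup W] [Module F W]

/-- an abstract isometry of finite order gives an element of the standard isometry group -/
theorem exists_isom (Q : QuadraticForm F W) (c : F) (hc0 : c ≠ 0)
    (E : W ≃ₗ[F] (Unit ⊕ (Fin m ⊕ Fin m) → F))
    (hE : ∀ x, c * Cfsg.quadFormOdd m F (E x) = Q x) (T : W →ₗ[F] W) (hT : ∀ u, Q (T u) = Q u)
    (N : ℕ) (hN : 0 < N) (hTN : T ^ N = 1) :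
    ∃ x : ↥(Cfsg.isometryGroup F (Cfsg.quadFormOdd m F)),
      ((x : GL (Unit ⊕ (Fin m ⊕ Fin m)) F) : Matrix _ _ F) = gmat E T := by
  obtain ⟨N', rfl⟩ : ∃ N', N = N' + 1 := ⟨N - 1, by omega⟩
  have h1 : gmat E T ^ (N' + 1) = 1 := by rw [← gmat_pow, hTN, gmat_one]
  refine ⟨⟨⟨gmat E T, gmat E T ^ N', by rw [← pow_succ', h1], by rw [← pow_succ, h1]⟩, ?_⟩, rfl⟩
  rw [mem_isometryGroup_iff]
  intro u
  show Cfsg.quadFormOdd m F (gmat E T *ᵥ u) = Cfsg.quadFormOdd m F u
  have h3 : c * Cfsg.quadFormOdd m F (gmat E T *ᵥ u) = c * Cfsg.quadFormOdd m F u := by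
    rw [gmat_mulVec, hE, hT, ← hE, LinearEquiv.apply_symm_apply]
  exact mul_left_cancel₀ hc0 h3

theorem coe_pow_isom {ι : Type} [Fintype ι] [DecidableEq ι] (Q : (ι → F) → F)
    (x : ↥(Cfsg.isometryGroup F Q)) (k : ℕ) :
    (((x ^ k : ↥(Cfsg.isometryGroup F Q)) : GL ι F) : Matrix ι ι F) =
      ((x : GL ι F) : Matrix ι ι F) ^ k := by
  rw [Subgroup.coe_pow, Units.val_pow_eq_pow_val]

theorem ext_isom {ι : Type} [Fintype ι] [DecidableEq ι] (Q : (ι → F) → F)
    (x y : ↥(Cfsg.isometryGroup F Q))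
    (h : ((x : GL ι F) : Matrix ι ι F) = ((y : GL ι F) : Matrix ι ι F)) : x = y :=
  Subtype.ext (Units.ext h)

end iso

section pairs

variable {F : Type u} [Field F]

/-- adding an odd-dimensional standard space with trivial action -/
theorem OPairReal.add_odd (h2 : (2 : F) ≠ 0) {a b d : ℕ} (h : OPairReal F a b d) (j : ℕ) :
    OPairReal F a b (d + (2 * j + 1)) := by
  obtain ⟨W, _, _, _, T₁, T₂, Q, hnd, hi₁, hi₂, hc, hp₁, hp₂, hn₁, hn₂, hdim⟩ := h
  refine ⟨W × (Unit ⊕ (Fin j ⊕ Fin j) → F), inferInstance, inferInstance, inferInstance,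
    T₁.prodMap 1, T₂.prodMap 1, Q.prod (oddQF j),
    QuadReal.nondegenerate_prod Q (oddQF j) hnd (oddQF_nondegenerate h2 j), ?_, ?_, ?_, ?_, ?_,
    ?_, ?_, ?_⟩
  · intro x
    show Q (T₁ x.1) + oddQF j x.2 = Q x.1 + oddQF j x.2
    rw [hi₁]
  · intro x
    show Q (T₂ x.1) + oddQF j x.2 = Q x.1 + oddQF j x.2
    rw [hi₂]
  · show T₁.prodMap 1 * T₂.prodMap 1 = T₂.prodMap 1 * T₁.prodMap 1
    rw [LinearMap.prodMap_mul, LinearMap.prodMap_mul, hc.eq]
  · rw [SpReal.prodMap_pow', hp₁, one_pow]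
    exact LinearMap.prodMap_one
  · rw [SpReal.prodMap_pow', hp₂, one_pow]
    exact LinearMap.prodMap_one
  · intro h1
    apply hn₁
    apply LinearMap.ext
    intro w
    have := congrArg (fun f : Module.End F (W × (Unit ⊕ (Fin j ⊕ Fin j) → F)) => (f (w, 0)).1) h1
    exact this
  · intro h1
    apply hn₂
    apply LinearMap.ext
    intro w
    have := congrArg (fun f : Module.End F (W × (Unit ⊕ (Fin j ⊕ Fin j) → F)) => (f (w, 0)).1) h1
    exact this
  · rw [Module.finrank_prod, hdim, Module.finrank_fintype_fun_eq_card, Fintype.card_sum,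
      Fintype.card_sum, Fintype.card_unit, Fintype.card_fin]
    ring

/-- transport to the standard isometry group -/
theorem OPairReal.exists_orth [Finite F] {a b n : ℕ} (ha : 0 < a) (hb : 0 < b)
    (h : OPairReal F a b (2 * n + 1)) :
    ∃ x y : ↥(Cfsg.isometryGroup F (Cfsg.quadFormOdd n F)), Commute x y ∧ x ^ a = 1 ∧ y ^ b = 1 ∧
      x ≠ 1 ∧ y ≠ 1 := by
  obtain ⟨W, _, _, _, T₁, T₂, Q, hnd, hi₁, hi₂, hc, hp₁, hp₂, hn₁, hn₂, hdim⟩ := h
  obtain ⟨c, E, hc0, hE⟩ := exists_equiv_odd Q hnd n hdim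
  obtain ⟨x, hx⟩ := exists_isom Q c hc0 E hE T₁ hi₁ a ha hp₁
  obtain ⟨y, hy⟩ := exists_isom Q c hc0 E hE T₂ hi₂ b hb hp₂
  refine ⟨x, y, ?_, ?_, ?_, ?_, ?_⟩
  · apply ext_isom
    show x.1.1 * y.1.1 = y.1.1 * x.1.1
    have hx' : x.1.1 = gmat E T₁ := hx
    have hy' : y.1.1 = gmat E T₂ := hy
    rw [hx', hy', ← gmat_mul, ← gmat_mul, hc.eq]
  · apply ext_isom
    rw [coe_pow_isom, hx, ← gmat_pow, hp₁, gmat_one]
    rfl
  · apply ext_isom
    rw [coe_pow_isom, hy, ← gmat_pow, hp₂, gmat_one]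
    rfl
  · intro h1
    apply hn₁
    apply gmat_injective E
    rw [gmat_one, ← hx, h1]
    rfl
  · intro h1
    apply hn₂
    apply gmat_injective E
    rw [gmat_one, ← hy, h1]
    rfl

end pairs

end Cfsg.Agent.Lib.Helper15.BCOrth
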