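import Mathlib
import Cfsg.Agent.Lib.Helper15.QuadType
import Cfsg.Agent.Lib.Helper15.ArfSum

/-! Helper15 library: the trace character sum of a quadratic form over a finite field of
characteristic two; it detects the type, and behaves well under shifts of the form by the square
of a linear functional. -/

set_option autoImplicit false
set_option linter.unusedSectionVars false

namespace Cfsg.Agent.Lib.Helper15.TraceSum

open Module QuadraticMap Cfsg.Agent.Lib.Helper15 Cfsg.Agent.Lib.Helper15.QuadType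

section trace

variable {F : Type*} [Field F] [Fintype F] [CharP F 2]

/-- the absolute trace of a finite field of characteristic two -/
noncomputable def tr2 : F →+ ZMod 2 :=
  letI := ZMod.algebra F 2
  (Algebra.trace (ZMod 2) F).toAddMonoidHom

theorem tr2_surj : Function.Surjective (tr2 (F := F)) := by
  let _ := ZMod.algebra F 2
  exact Algebra.trace_surjective (ZMod 2) F

theorem tr2_sq (t : F) : tr2 (t ^ 2) = tr2 t := by
  let _ := ZMod.algebra F 2
  have h := Algebra.trace_eq_of_algEquiv (FiniteField.frobeniusAlgEquivOfAlgebraic (ZMod 2) F) t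
  rw [FiniteField.coe_frobeniusAlgEquivOfAlgebraic] at h
  have h2 : Fintype.card (ZMod 2) = 2 := ZMod.card 2
  simp only [h2] at h
  exact h

theorem tr2_mul_self (t : F) : tr2 (t * t) = tr2 t := by
  rw [← pow_two, tr2_sq]

theorem exists_tr2_one : ∃ c : F, tr2 c = 1 := tr2_surj 1

theorem sum_chi2_tr2 : ∑ c : F, chi2 (tr2 c) = 0 := by
  obtain ⟨c0, hc0⟩ := exists_tr2_one (F := F)
  have h1 : ∑ c : F, chi2 (tr2 c) = ∑ c : F, chi2 (tr2 (c + c0)) :=
    (Fintype.sum_equiv (Equiv.addRight c0) _ _ (fun _ => rfl)).symm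
  have h2 : ∑ c : F, chi2 (tr2 (c + c0)) = - ∑ c : F, chi2 (tr2 c) := by
    simp only [map_add, chi2_add, hc0]
    rw [← Finset.sum_mul]
    have : chi2 1 = -1 := by decide
    rw [this]
    ring
  linarith

theorem sq_surj (a : F) : ∃ s : F, s ^ 2 = a :=
  ⟨(frobeniusEquiv F 2).symm a, frobeniusEquiv_symm_pow_p F 2 a⟩

theorem tr2_nondeg {a : F} (ha : a ≠ 0) : ∃ b : F, tr2 (b * a) = 1 := by
  obtain ⟨c0, hc0⟩ := exists_tr2_one (F := F)
  refine ⟨c0 * a⁻¹, ?_⟩
  rw [mul_assoc, inv_mul_cancel₀ ha, mul_one, hc0]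

end trace

section sq

variable {F : Type*} [Field F] [Fintype F] [CharP F 2] {V : Type*} [AddCommGroup V] [Fintype V]

/-- the trace character sum of a function `V → F` -/
noncomputable def SQ (Q : V → F) : ℤ := arfSum (fun v => tr2 (Q v))

theorem SQ_eq_sum [DecidableEq F] (Q : V → F) :
    SQ Q = ∑ c : F, (Nat.card {v : V // Q v = c} : ℤ) * chi2 (tr2 c) := by
  classical
  unfold SQ arfSum
  rw [← Finset.sum_fiberwise (Finset.univ) Q (fun v => chi2 (tr2 (Q v)))]
  refine Finset.sum_congr rfl fun c _ => ?_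
  have h1 : ∀ v ∈ Finset.univ.filter (fun v => Q v = c), chi2 (tr2 (Q v)) = chi2 (tr2 c) := by
    intro v hv
    rw [(Finset.mem_filter.1 hv).2]
  rw [Finset.sum_congr rfl h1, Finset.sum_const, nsmul_eq_mul, Nat.card_eq_fintype_card,
    Fintype.card_subtype]

theorem SQ_of_hasType {ε : ℤ} {n : ℕ} (Q : V → F) (h : HasType ε n Q) :
    SQ Q = ε * (Fintype.card F : ℤ) ^ n := by
  classical
  have hq0 : (Fintype.card F : ℤ) ≠ 0 := by
    have : 0 < Fintype.card F := Fintype.card_pos
    exact_mod_cast this.ne'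
  apply mul_left_cancel₀ hq0
  rw [SQ_eq_sum, Finset.mul_sum]
  have h1 : ∀ c : F, (Fintype.card F : ℤ) * ((Nat.card {v : V // Q v = c} : ℤ) * chi2 (tr2 c)) =
      ((Fintype.card F : ℤ) ^ (2 * n) - ε * (Fintype.card F : ℤ) ^ n) * chi2 (tr2 c) +
        (if c = 0 then ε * (Fintype.card F : ℤ) ^ (n + 1) else 0) * chi2 (tr2 c) := by
    intro c
    rw [← mul_assoc, h.apply c]
    ring
  simp only [h1]
  rw [Finset.sum_add_distrib, ← Finset.mul_sum, sum_chi2_tr2, mul_zero, zero_add]
  simp only [ite_mul, zero_mul]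
  rw [Finset.sum_ite_eq' Finset.univ (0 : F)]
  simp only [Finset.mem_univ, if_true, map_zero, chi2_zero, mul_one]
  ring

theorem two_mul_card_tr_zero (Q : V → F) :
    2 * (Nat.card {w : V // tr2 (Q w) = 0} : ℤ) = (Fintype.card V : ℤ) + SQ Q := by
  classical
  unfold SQ arfSum
  have h1 : ∀ v : V, chi2 (tr2 (Q v)) = 2 * (if tr2 (Q v) = 0 then 1 else 0) - 1 := by
    intro v
    unfold chi2
    split_ifs <;> ring
  simp only [h1]
  rw [Finset.sum_sub_distrib, ← Finset.mul_sum, Finset.sum_boole, Nat.card_eq_fintype_card,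
    Fintype.card_subtype]
  simp
  
end sq

section shift

variable {F : Type*} [Field F] [Fintype F] [CharP F 2] {V : Type*} [AddCommGroup V] [Module F V]
  [Fintype V]

theorem SQ_shift (Q : QuadraticForm F V) (w : V) :
    SQ (fun v => Q v + (polar Q w v) ^ 2) = chi2 (tr2 (Q w)) * SQ (fun v => Q v) := by
  unfold SQ
  have h := arfSum_shift (fun u v => tr2 (polar Q u v)) (fun v => tr2 (Q v))
    (by
      intro u v
      rw [← map_add, ← map_add]
      congr 1
      rw [polar]
      ring) w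
  rw [← h]
  congr 1
  funext v
  rw [map_add, tr2_sq, polar_comm]

theorem type_shift (Q : QuadraticForm F V) (w : V) {ε ε' : ℤ} {n : ℕ}
    (h : HasType ε n (fun v => Q v)) (h' : HasType ε' n (fun v => Q v + (polar Q w v) ^ 2)) :
    ε' = chi2 (tr2 (Q w)) * ε := by
  have h1 := SQ_of_hasType _ h
  have h2 := SQ_of_hasType _ h'
  rw [SQ_shift, h1] at h2
  have hq0 : (Fintype.card F : ℤ) ^ n ≠ 0 := by
    apply pow_ne_zero
    have : 0 < Fintype.card F := Fintype.card_pos
    exact_mod_cast this.ne'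
  apply mul_right_cancel₀ hq0
  rw [← h2]
  ring

theorem card_tr_zero (Q : V → F) {ε : ℤ} {n : ℕ} (h : HasType ε n Q)
    (hV : Fintype.card V = (Fintype.card F) ^ (2 * n)) :
    2 * (Nat.card {w : V // tr2 (Q w) = 0} : ℤ) =
      (Fintype.card F : ℤ) ^ (2 * n) + ε * (Fintype.card F : ℤ) ^ n := by
  rw [two_mul_card_tr_zero, SQ_of_hasType Q h, hV]
  push_cast
  ring

/-- a subspace on which the trace of the form vanishes is totally singular -/
theorem ts_of_tr_zero (Q : QuadraticForm F V) (C : Submodule F V)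
    (h : ∀ w ∈ C, tr2 (Q w) = 0) : ∀ u ∈ C, Q u = 0 := by
  intro u hu
  by_contra hne
  obtain ⟨b, hb⟩ := tr2_nondeg hne
  obtain ⟨s, hs⟩ := sq_surj b
  have h1 := h (s • u) (C.smul_mem s hu)
  rw [QuadraticMap.map_smul, smul_eq_mul, ← pow_two, hs, hb] at h1
  exact one_ne_zero h1

end shift

end Cfsg.Agent.Lib.Helper15.TraceSum
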