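import Mathlib
import Cfsg.Agent.Lib.Helper15.TraceSum

/-! Helper15 library: quadratic forms with a prescribed polar form in characteristic two; forms of
the same type are isometric; the type and totally singular subspaces. -/

set_option autoImplicit false
set_option linter.unusedSectionVars false

namespace Cfsg.Agent.Lib.Helper15.PolarForms

open Module QuadraticMap Cfsg.Agent.Lib.Helper15 Cfsg.Agent.Lib.Helper15.QuadType
  Cfsg.Agent.Lib.Helper15.TraceSum Cfsg.Agent.Lib.Helper14.QuadExt

section rep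

variable {F : Type*} [Field F] [Finite F] [CharP F 2] {V : Type*} [AddCommGroup V] [Module F V]

/-- the form `Q + (polar Q w ·)²` -/
noncomputable def shiftQF (Q : QuadraticForm F V) (w : V) : QuadraticForm F V :=
  Q + linMulLin (polarBilin Q w) (polarBilin Q w)

omit [Finite F] [CharP F 2] in
theorem shiftQF_apply (Q : QuadraticForm F V) (w v : V) :
    shiftQF Q w v = Q v + (polar Q w v) ^ 2 := by
  unfold shiftQF
  rw [QuadraticMap.add_apply, linMulLin_apply, polarBilin_apply_apply, pow_two]

omit [Finite F] in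
theorem polar_shiftQF (Q : QuadraticForm F V) (w u v : V) :
    polar (shiftQF Q w) u v = polar Q u v := by
  have h2 : (2 : F) = 0 := CharTwo.two_eq_zero
  unfold shiftQF
  rw [QuadraticMap.coeFn_add, polar_add]
  have h1 : polar (⇑(linMulLin (polarBilin Q w) (polarBilin Q w))) u v = 0 := by
    simp only [polar, linMulLin_apply, map_add]
    linear_combination (polarBilin Q w u * polarBilin Q w v) * h2
  rw [h1, add_zero]

omit [Finite F] in
theorem shiftQF_zero (Q : QuadraticForm F V) : shiftQF Q 0 = Q := by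
  ext v
  rw [shiftQF_apply, polar_zero_left]
  simp

theorem exists_rep [FiniteDimensional F V] (Q Q' : QuadraticForm F V)
    (hnd : (polarBilin Q).Nondegenerate) (h : ∀ u v, polar Q' u v = polar Q u v) :
    ∃ w : V, ∀ v, Q' v = Q v + (polar Q w v) ^ 2 := by
  have : Fintype F := Fintype.ofFinite F
  have hDadd : ∀ u v, Q' (u + v) - Q (u + v) = (Q' u - Q u) + (Q' v - Q v) := by
    intro u v
    have h1 : Q' (u + v) = Q' u + Q' v + polar Q' u v := by rw [polar]; ring
    have h2 : Q (u + v) = Q u + Q v + polar Q u v := by rw [polar]; ring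
    rw [h1, h2, h]
    ring
  have hDsmul : ∀ (c : F) v, Q' (c • v) - Q (c • v) = c ^ 2 * (Q' v - Q v) := by
    intro c v
    rw [QuadraticMap.map_smul, QuadraticMap.map_smul, smul_eq_mul, smul_eq_mul]
    ring
  let sq := (frobeniusEquiv F 2).symm
  have hsq : ∀ x : F, (sq x) ^ 2 = x := fun x => frobeniusEquiv_symm_pow_p F 2 x
  have hsq' : ∀ x : F, sq (x ^ 2) = x := fun x => by
    have := frobeniusEquiv_symm_apply_frobenius F 2 x
    rwa [frobenius_def] at this
  let lam : V →ₗ[F] F :=
    { toFun := fun v => sq (Q' v - Q v)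
      map_add' := by intro u v; rw [hDadd, map_add]
      map_smul' := by
        intro c v
        rw [hDsmul, map_mul, hsq', RingHom.id_apply, smul_eq_mul] }
  have hlam : ∀ v, (lam v) ^ 2 = Q' v - Q v := fun v => hsq _
  refine ⟨(LinearMap.BilinForm.toDual (polarBilin Q) hnd).symm lam, fun v => ?_⟩
  have h1 : polar Q ((LinearMap.BilinForm.toDual (polarBilin Q) hnd).symm lam) v = lam v := by
    rw [← polarBilin_apply_apply]
    exact LinearMap.BilinForm.apply_toDual_symm_apply lam v
  rw [h1, hlam]
  ring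

end rep

section same

variable {F : Type*} [Field F] [Fintype F] {V : Type*} [AddCommGroup V] [Module F V]
  [FiniteDimensional F V] {W : Type*} [AddCommGroup W] [Module F W] [FiniteDimensional F W]

/-- nondegenerate quadratic spaces of the same dimension and type are isometric -/
theorem exists_equiv_of_same_type (Q : QuadraticForm F V) (hnd : (polarBilin Q).Nondegenerate)
    (Q' : QuadraticForm F W) (hnd' : (polarBilin Q').Nondegenerate) (n : ℕ) (hn : 1 ≤ n)
    (hdim : finrank F V = 2 * n) (hdim' : finrank F W = 2 * n) (ε : ℤ) (hε : ε = 1 ∨ ε = -1)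
    (ht : HasType ε n (fun v => Q v)) (ht' : HasType ε n (fun v => Q' v)) :
    ∃ e : W ≃ₗ[F] V, ∀ w, Q (e w) = Q' w := by
  rcases hε with rfl | rfl
  · obtain ⟨b, hb⟩ := univ_plus Q hnd n hn hdim ht
    obtain ⟨b', hb'⟩ := univ_plus Q' hnd' n hn hdim' ht'
    refine ⟨b'.equivFun.trans b.equivFun.symm, fun w => ?_⟩
    rw [← hb, ← hb', LinearEquiv.trans_apply, LinearEquiv.apply_symm_apply]
  · obtain ⟨k, rfl⟩ : ∃ k, n = k + 1 := ⟨n - 1, by omega⟩
    obtain ⟨a, c, hac⟩ := exists_aniso (F := F)
    obtain ⟨b, hb⟩ := univ_minus Q hnd k hdim ht hac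
    obtain ⟨b', hb'⟩ := univ_minus Q' hnd' k hdim' ht' hac
    refine ⟨b'.equivFun.trans b.equivFun.symm, fun w => ?_⟩
    rw [← hb, ← hb', LinearEquiv.trans_apply, LinearEquiv.apply_symm_apply]

omit [Fintype F] in
/-- a totally singular subspace of a nondegenerate space of dimension `2n` has dimension at most
`n` -/
theorem ts_le (Q : QuadraticForm F V) (hnd : (polarBilin Q).Nondegenerate) (n : ℕ)
    (hdim : finrank F V = 2 * n) (U : Submodule F V) (hU : ∀ u ∈ U, Q u = 0) :
    finrank F U ≤ n := by
  have hle : U ≤ LinearMap.BilinForm.orthogonal (polarBilin Q) U := by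
    intro u hu
    rw [LinearMap.BilinForm.mem_orthogonal_iff]
    intro v hv
    show polarBilin Q v u = 0
    rw [polarBilin_apply_apply, polar, hU _ (U.add_mem hv hu), hU v hv, hU u hu]
    ring
  have h1 := LinearMap.BilinForm.finrank_orthogonal hnd U
  have h2 := Submodule.finrank_mono hle
  have h3 := Submodule.finrank_le U
  omega

/-- a nondegenerate space of dimension `2n` with a totally singular subspace of dimension `n` is
of plus type -/
theorem hasType_one_of_ts (Q : QuadraticForm F V) (hnd : (polarBilin Q).Nondegenerate) (n : ℕ)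
    (hdim : finrank F V = 2 * n) (U : Submodule F V) (hU : ∀ u ∈ U, Q u = 0)
    (hUn : n ≤ finrank F U) : HasType 1 n (fun v => Q v) := by
  obtain ⟨ε, hε, ht⟩ := hasType_of_nondeg Q hnd n hdim
  rcases hε with rfl | rfl
  · exact ht
  · exfalso
    rcases Nat.eq_zero_or_pos n with rfl | hn
    · have h1 := ht.2 1 one_ne_zero
      have h2 : Nat.card {v : V // Q v = 1} = 0 := by
        rw [Nat.card_eq_zero]
        left
        constructor
        rintro ⟨v, hv⟩
        rw [mul_zero] at hdim
        have hsub : Subsingleton V := Module.finrank_zero_iff.1 hdim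
        rw [Subsingleton.elim v 0, QuadraticMap.map_zero] at hv
        exact zero_ne_one hv
      rw [h2] at h1
      simp at h1
    · obtain ⟨k, rfl⟩ : ∃ k, n = k + 1 := ⟨n - 1, by omega⟩
      obtain ⟨a, c, hac⟩ := exists_aniso (F := F)
      obtain ⟨b, hb⟩ := univ_minus Q hnd k hdim ht hac
      obtain ⟨E, hE⟩ : ∃ E : V ≃ₗ[F] ((Fin k ⊕ Fin k) ⊕ Fin 2 → F), E = b.equivFun := ⟨_, rfl⟩
      have hb' : ∀ v, Cfsg.quadFormMinus k F a c (E v) = Q v := by
        intro v
        rw [hE]
        exact hb v
      have h1 := ts_minus_le k a c hac (U.map (E : V →ₗ[F] ((Fin k ⊕ Fin k) ⊕ Fin 2 → F))) (by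
        rintro _ ⟨u, hu, rfl⟩
        show Cfsg.quadFormMinus k F a c (E u) = 0
        rw [hb']
        exact hU u hu)
      have h2 : finrank F (U.map (E : V →ₗ[F] ((Fin k ⊕ Fin k) ⊕ Fin 2 → F))) = finrank F U :=
        LinearEquiv.finrank_map_eq E U
      omega

/-- a space of plus type has a totally singular subspace of half the dimension -/
theorem exists_ts_of_hasType_one (Q : QuadraticForm F V) (hnd : (polarBilin Q).Nondegenerate)
    (n : ℕ) (hn : 1 ≤ n) (hdim : finrank F V = 2 * n) (ht : HasType 1 n (fun v => Q v)) :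
    ∃ U : Submodule F V, (∀ u ∈ U, Q u = 0) ∧ finrank F U = n := by
  obtain ⟨b, hb⟩ := univ_plus Q hnd n hn hdim ht
  obtain ⟨h1, h2⟩ := plus_std_ts (F := F) n
  obtain ⟨E, hE⟩ : ∃ E : V ≃ₗ[F] (Fin n ⊕ Fin n → F), E = b.equivFun := ⟨_, rfl⟩
  have hb' : ∀ v, Cfsg.quadFormPlus n F (E v) = Q v := by
    intro v
    rw [hE]
    exact hb v
  refine ⟨(LinearMap.ker (LinearMap.funLeft F F (Sum.inr : Fin n → Fin n ⊕ Fin n))).map
    (E.symm : (Fin n ⊕ Fin n → F) →ₗ[F] V), ?_, ?_⟩
  · rintro _ ⟨x, hx, rfl⟩
    show Q (E.symm x) = 0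
    rw [← hb', LinearEquiv.apply_symm_apply]
    exact h1 _ hx
  · rw [LinearEquiv.finrank_map_eq E.symm]
    exact h2

end same

end Cfsg.Agent.Lib.Helper15.PolarForms
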