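import Mathlib
import Cfsg.Agent.Lib.Helper15.StarPoly
import Cfsg.Agent.Lib.Helper15.OrthReal
import Cfsg.Agent.Lib.Helper15.QuadReal
import Cfsg.Agent.Lib.Helper15.QuadType
import Cfsg.Agent.Lib.Helper15.PrimeOrderClasses
import Cfsg.Agent.Lib.Helper15.IsometryTransport
import Cfsg.Agent.S2568
import Cfsg.Agent.S2389
import Cfsg.Agent.S2671
import Cfsg.Agent.S2645

set_option autoImplicit false

namespace Cfsg.Agent.Lib.Helper15.QuadClasses

open Polynomial Module Cfsg.Agent.Lib.Helper15 Cfsg.Agent.Lib.Helper15.PrimeOrderClasses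
  Cfsg.Agent.Lib.Helper15.SemisimpleCount Cfsg.Agent.Lib.Helper15.OrthReal
  Cfsg.Agent.Lib.Helper15.QuadReal Cfsg.Agent.Lib.Helper15.QuadType
open scoped Matrix

universe u

section helpers

/-- an invariant tuple for a fixed-point-free involution has even sum -/
theorem even_sum_of_fpf (s : ℕ) (τ : Fin s → Fin s) (hinv : Function.Involutive τ)
    (hfpf : ∀ x, τ x ≠ x) (a : Fin s → ℕ) (ha : ∀ x, a (τ x) = a x) : Even (∑ j, a j) := by
  classical
  have hlt : ∀ x, ¬ x < τ x → τ x < τ (τ x) := by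
    intro x hx
    rw [hinv x]
    exact lt_of_le_of_ne (not_lt.1 hx) (hfpf x)
  rw [← Finset.sum_filter_add_sum_filter_not Finset.univ (fun x => x < τ x) a]
  have h2 : ∑ x ∈ Finset.univ.filter (fun x => ¬ x < τ x), a x =
      ∑ x ∈ Finset.univ.filter (fun x => x < τ x), a x := by
    apply Finset.sum_nbij' τ τ
    · intro x hx
      rw [Finset.mem_filter] at hx ⊢
      exact ⟨Finset.mem_univ _, hlt x hx.2⟩
    · intro x hx
      rw [Finset.mem_filter] at hx ⊢
      refine ⟨Finset.mem_univ _, ?_⟩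
      rw [hinv x]
      exact lt_asymm hx.2
    · intro x _; exact hinv x
    · intro x _; exact hinv x
    · intro x _; exact (ha x).symm
  rw [h2]
  exact ⟨_, rfl⟩

theorem eps_eq_of_zmod (r : ℕ) (hr : r.Prime) (hr2 : r ≠ 2) {ε ε' : ℤ} (hε : ε = 1 ∨ ε = -1)
    (hε' : ε' = 1 ∨ ε' = -1) (h : (ε : ZMod r) = (ε' : ZMod r)) : ε = ε' := by
  have : Fact r.Prime := ⟨hr⟩
  have key : (1 : ZMod r) ≠ -1 := by
    intro h1
    have h2 : ((2 : ℕ) : ZMod r) = 0 := by
      push_cast
      linear_combination h1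
    rw [ZMod.natCast_eq_zero_iff] at h2
    exact hr2 ((Nat.prime_dvd_prime_iff_eq hr Nat.prime_two).1 h2)
  rcases hε with rfl | rfl <;> rcases hε' with rfl | rfl
  · rfl
  · exfalso
    apply key
    push_cast at h
    exact h
  · exfalso
    apply key
    push_cast at h
    exact h.symm
  · rfl

variable {F : Type u} [Field F] [Fintype F]

/-- gluing a realisation with a fixed space of the complementary type and transporting to the
standard coordinates -/
theorem exists_isometry_sum {ι : Type} [Fintype ι] [DecidableEq ι]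
    (Qf : (ι → F) → F) (ε : ℤ) (m : ℕ)
    (huniv : ∀ (W : Type u) [AddCommGroup W] [Module F W] [FiniteDimensional F W]
      (Q : QuadraticForm F W), (QuadraticMap.polarBilin Q).Nondegenerate → finrank F W = 2 * m →
      HasType ε m (fun v => Q v) → ∃ b : Basis ι F W, ∀ v, Qf (b.equivFun v) = Q v)
    {W' V₁ : Type u} [AddCommGroup W'] [Module F W'] [FiniteDimensional F W'] [AddCommGroup V₁]
    [Module F V₁] [FiniteDimensional F V₁] (Q' : QuadraticForm F W') (Q₁ : QuadraticForm F V₁)
    (hnd' : (QuadraticMap.polarBilin Q').Nondegenerate)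
    (hnd₁ : (QuadraticMap.polarBilin Q₁).Nondegenerate)
    (T' : W' →ₗ[F] W') (hinv' : ∀ u, Q' (T' u) = Q' u) (N : ℕ) (hN : T' ^ N = 1)
    (ε' ε₁ : ℤ) (m' k₁ : ℕ) (ht' : HasType ε' m' (fun v => Q' v))
    (ht₁ : HasType ε₁ k₁ (fun v => Q₁ v))
    (hd' : finrank F W' = 2 * m') (hd₁ : finrank F V₁ = 2 * k₁) (hεε : ε' * ε₁ = ε)
    (hmm : m' + k₁ = m) :
    ∃ B : Matrix ι ι F, (∀ u, Qf (B *ᵥ u) = Qf u) ∧
      B.charpoly = T'.charpoly * (X - 1) ^ (2 * k₁) ∧ B ^ N = 1 := by
  have : Finite W' := Module.finite_of_finite F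
  have : Finite V₁ := Module.finite_of_finite F
  have hnd := nondegenerate_prod Q' Q₁ hnd' hnd₁
  have hdim : finrank F (W' × V₁) = 2 * m := by
    rw [Module.finrank_prod, hd', hd₁, ← hmm]; ring
  have htype : HasType ε m (fun v => (Q'.prod Q₁) v) := by
    have := ht'.prod ht₁
    rw [hεε, hmm] at this
    exact this
  obtain ⟨b, hb⟩ := huniv (W' × V₁) (Q'.prod Q₁) hnd hdim htype
  obtain ⟨B, hB1, hB2, hB3⟩ := exists_matrix_of_model (fun v => (Q'.prod Q₁) v) Qf b hb
    (T'.prodMap LinearMap.id) (by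
      intro x
      show Q' (T' x.1) + Q₁ x.2 = Q' x.1 + Q₁ x.2
      rw [hinv']) N (by
      rw [SpReal.prodMap_pow', hN]
      have : (LinearMap.id : V₁ →ₗ[F] V₁) ^ N = LinearMap.id := one_pow N
      rw [this]
      exact LinearMap.prodMap_one)
  refine ⟨B, hB1, ?_, hB3⟩
  rw [hB2, LinearMap.charpoly_prodMap]
  have : (LinearMap.id : V₁ →ₗ[F] V₁).charpoly = (X - 1) ^ (2 * k₁) := by
    rw [← hd₁]
    exact LinearMap.charpoly_one
  rw [this]

end helpers


section mainsec

open Cfsg.Agent.S2568 Cfsg.Agent.S2671 Cfsg.Agent.S2645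

variable {F : Type u} [Field F] [Fintype F]

set_option maxHeartbeats 800000 in
/-- classes of odd prime order `r ≠ p` in the isometry group of a `2m`-dimensional quadratic space of
type `ε`, in bijection with the admissible exponent tuples -/
theorem classes_eq_tuples {p q : ℕ} [hp : Fact p.Prime] [CharP F p]
    (hF : Fintype.card F = q) (m r i t : ℕ) (hr : r.Prime) (hr2 : r ≠ 2) (hrp : r ≠ p)
    (hi : i = orderOf (q : ZMod r)) (ht : t * i = r - 1)
    {ι : Type} [Fintype ι] [DecidableEq ι] (Qs : QuadraticForm F (ι → F)) (Qf : (ι → F) → F)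
    (hQf : ∀ v, Qs v = Qf v) (hnd : (QuadraticMap.polarBilin Qs).Nondegenerate)
    (hcardι : Fintype.card ι = 2 * m) (ε : ℤ) (hε : ε = 1 ∨ ε = -1) (htype : HasType ε m Qf)
    (huniv : ∀ (W : Type u) [AddCommGroup W] [Module F W] [FiniteDimensional F W]
      (Q : QuadraticForm F W), (QuadraticMap.polarBilin Q).Nondegenerate → finrank F W = 2 * m →
      HasType ε m (fun v => Q v) → ∃ b : Basis ι F W, ∀ v, Qf (b.equivFun v) = Q v) :
    ∃ τ : Fin t → Fin t, Function.Involutive τ ∧ (∀ j, τ j = j ↔ Even i) ∧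
    Nat.card {C : ConjClasses ↥(Cfsg.isometryGroup F Qf) //
      ∃ g : ↥(Cfsg.isometryGroup F Qf), ConjClasses.mk g = C ∧ orderOf g = r} =
    Nat.card {a : Fin t → ℕ // ∑ j, a j ≤ 2 * m / i ∧ a ≠ 0 ∧ (∀ j, a (τ j) = a j) ∧
      (i * ∑ j, a j = 2 * m → ((q : ℕ) : ZMod r) ^ m = ((ε : ℤ) : ZMod r))} := by
  classical
  have hr1 : Fact r.Prime := ⟨hr⟩
  have hi0 : 0 < i := by
    rcases Nat.eq_zero_or_pos i with h0 | h0
    · rw [h0, mul_zero] at ht
      have := hr.two_le
      omega
    · exact h0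
  have hrodd : Odd r := hr.odd_of_ne_two hr2
  obtain ⟨h, hmon, hirr, hnone, hdeg, hprod⟩ := exists_factor_family hF r i t hr hrp hi ht
  have hrF : (r : F) ≠ 0 := by
    rw [Ne, CharP.cast_eq_zero_iff F p]
    intro hd
    exact hrp ((Nat.prime_dvd_prime_iff_eq hp.out hr).1 hd).symm
  have hqr : ¬ r ∣ Fintype.card F := by
    intro hd
    have h1 : ((q : ℕ) : ZMod r) = 0 := by
      rw [ZMod.natCast_eq_zero_iff, ← hF]
      exact hd
    have h2 : ((q : ℕ) : ZMod r) ^ i = 1 := by
      rw [hi]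
      exact pow_orderOf_eq_one _
    rw [h1, zero_pow hi0.ne'] at h2
    exact zero_ne_one h2
  have hsq : Squarefree (∏ o, h o) := by
    rw [hprod]
    have := (separable_X_pow_sub_C (1 : F) hrF one_ne_zero).squarefree
    rwa [map_one] at this
  have hcop := family_coprime h hmon hirr hsq
  have hinj : Function.Injective h := by
    intro o o' hoo'
    by_contra hne
    have h1 := hcop o o' hne
    rw [hoo'] at h1
    exact (hirr o').not_isUnit (isCoprime_self.1 h1)
  obtain ⟨σ, hσdef⟩ : ∃ σ : F →+* F, σ = RingHom.id F := ⟨_, rfl⟩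
  have hσ : ∀ c, σ c = c ^ (p ^ 0) := by
    intro c
    rw [hσdef, pow_zero, pow_one]
    rfl
  have hσσ : ∀ c, σ (σ c) = c := by
    intro c
    rw [hσdef]
    rfl
  obtain ⟨τ', hτ', hinv'⟩ := exists_tau σ hσσ r hr.pos h hmon hirr hprod hinj
  have hτnone : τ' none = none := by
    apply hinj
    rw [← hτ', hnone, StarPoly.star_X_sub_one]
  have hτsome : ∀ j, ∃ j', τ' (some j) = some j' := by
    intro j
    cases hj : τ' (some j) with
    | none =>
      exfalso
      have := hinv' (some j)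
      rw [hj, hτnone] at this
      exact absurd this.symm (Option.some_ne_none j)
    | some j' => exact ⟨j', rfl⟩
  choose τ hτ using hτsome
  have hinv : Function.Involutive τ := by
    intro j
    have := hinv' (some j)
    rw [hτ, hτ] at this
    exact Option.some.inj this
  have hdvdj : ∀ o, h o ∣ X ^ r - 1 := by
    intro o
    rw [← hprod]
    exact Finset.dvd_prod_of_mem h (Finset.mem_univ _)
  have hnej : ∀ j, h (some j) ≠ X - 1 := by
    intro j
    rw [← hnone]
    intro h1
    exact absurd (hinj h1) (Option.some_ne_none j)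
  have hdich : ∀ j, τ j = j ↔ Even i := by
    intro j
    have h1 := StarPoly.star_eq_self_iff p 0 σ hσ hσσ r hr (h (some j)) (hmon _) (hirr _)
      (hdvdj _) (hnej j)
    rw [hτ', hτ] at h1
    have h2 : (∃ m : ℕ, ((p ^ 0 + Nat.card F ^ m : ℕ) : ZMod r) = 0) ↔ Even i := by
      rw [Nat.card_eq_fintype_card, hF, pow_zero]
      exact arith_even r q i hr hr2 hi hi0
    rw [← h2, ← h1]
    constructor
    · intro h3
      rw [h3]
    · intro h3
      exact Option.some.inj (hinj h3)
  refine ⟨τ, hinv, hdich, ?_⟩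
  have hstarex : ∀ e : Option (Fin t) → ℕ,
      StarPoly.star σ (∏ o, h o ^ e o) = ∏ o, h o ^ e (τ' o) :=
    star_family σ h τ' hτ' hinv'
  obtain ⟨K, hK⟩ : ∃ K, K = 2 * m / i := ⟨_, rfl⟩
  rw [← hK]
  have hKle : ∀ s : ℕ, s ≤ K ↔ i * s ≤ 2 * m := by
    intro s
    rw [hK, Nat.le_div_iff_mul_le hi0, mul_comm]
  let ex : (Fin t → ℕ) → Option (Fin t) → ℕ :=
    fun a o => Option.casesOn o (2 * m - i * ∑ j, a j) a
  have hdegsum : ∀ e : Option (Fin t) → ℕ,
      (∏ o, h o ^ e o).natDegree = e none + i * ∑ j, e (some j) := by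
    intro e
    have hX1 : (X - 1 : F[X]).natDegree = 1 := by
      rw [← C_1]; exact natDegree_X_sub_C 1
    rw [natDegree_family h hmon, Fintype.sum_option, hnone, hX1, mul_one,
      Finset.mul_sum]
    congr 1
    apply Finset.sum_congr rfl
    intro j _
    rw [hdeg j, mul_comm]
  have hdegsome : ∀ a : Fin t → ℕ, (∏ j, h (some j) ^ a j).natDegree = i * ∑ j, a j := by
    intro a
    have := hdegsum (fun o => Option.casesOn o 0 a)
    rw [Fintype.prod_option] at this
    simp only [pow_zero, one_mul, zero_add] at this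
    exact this
  -- values at 1
  have heval : ∀ j, (h (some j)).eval 1 ≠ 0 := by
    intro j h0
    obtain ⟨u, v, huv⟩ := hcop none (some j) (Option.some_ne_none j).symm
    have := congrArg (Polynomial.eval 1) huv
    rw [eval_add, eval_mul, eval_mul, h0, hnone, eval_sub, eval_X, eval_one, sub_self, mul_zero,
      mul_zero, add_zero] at this
    exact zero_ne_one this
  have hevalprod : ∀ e : Option (Fin t) → ℕ, e none = 0 → (∏ o, h o ^ e o).eval 1 ≠ 0 := by
    intro e he
    rw [eval_prod, Fintype.prod_option, he, pow_zero, eval_one, one_mul]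
    apply Finset.prod_ne_zero_iff.2
    intro j _
    rw [eval_pow]
    exact pow_ne_zero _ (heval j)
  have hndvd : ∀ j, ¬ h (some j) ∣ X ^ 2 - 1 := by
    intro j hd
    obtain ⟨k, hk⟩ := hrodd
    have h1 : (X ^ 2 - 1 : F[X]) ∣ X ^ r - X := by
      have h2 : (X ^ r - X : F[X]) = X * ((X ^ 2) ^ k - 1 ^ k) := by
        rw [hk, one_pow]; ring
      rw [h2]
      exact Dvd.dvd.mul_left (sub_dvd_pow_sub_pow (X ^ 2) 1 k) X
    have h3 : h (some j) ∣ X - 1 := by
      have h4 : (X - 1 : F[X]) = (X ^ r - 1) - (X ^ r - X) := by ring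
      rw [h4]
      exact dvd_sub (hdvdj _) (hd.trans h1)
    have h5 := hcop none (some j) (Option.some_ne_none j).symm
    rw [hnone] at h5
    exact (hirr (some j)).not_isUnit (h5.symm.isUnit_of_dvd' (dvd_refl _) h3)
  -- realisation
  have hreal : ∀ a : Fin t → ℕ, (∀ j, a (τ j) = a j) →
      QReal r (∏ j, h (some j) ^ a j) := by
    intro a hainv
    by_cases hev : Even i
    · -- all factors self-dual
      have hτid : ∀ j, τ j = j := fun j => (hdich j).2 hev
      apply QReal.prod
      intro j _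
      apply QReal.pow
      apply qReal_selfdual p r (h (some j)) (hmon _) (hirr _) _ (hdvdj _) (hndvd j)
      have := hτ' (some j)
      rw [hτ, hτid, hσdef] at this
      exact this
    · -- dual pairs
      have hfpf : ∀ j, τ j ≠ j := fun j hj => hev ((hdich j).1 hj)
      let ek : Option (Fin t) → ℕ :=
        fun o => Option.casesOn o 0 (fun j => if j < τ j then a j else 0)
      have hek : ∀ j, ek (some j) + ek (τ' (some j)) = a j := by
        intro j
        rw [hτ]
        show (if j < τ j then a j else 0) + (if τ j < τ (τ j) then a (τ j) else 0) = a j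
        rw [hinv j, hainv j]
        by_cases hj : j < τ j
        · rw [if_pos hj, if_neg (lt_asymm hj), add_zero]
        · have hj' : τ j < j := lt_of_le_of_ne (not_lt.1 hj) (hfpf j)
          rw [if_neg hj, if_pos hj', zero_add]
      obtain ⟨g, hg⟩ : ∃ g : F[X], g = ∏ o, h o ^ ek o := ⟨_, rfl⟩
      have hgmon : g.Monic := by
        rw [hg]
        exact monic_prod_of_monic _ _ (fun o _ => (hmon o).pow _)
      have hgdvd : g ∣ (X ^ r - 1) ^ (∑ o, ek o) := by
        rw [hg, ← hprod]
        exact family_dvd_pow h ek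
      obtain ⟨C, hC, hCr⟩ := exists_matrix_pow_eq_one g.natDegree r (∑ o, ek o) hr.pos g hgmon
        rfl hgdvd
      obtain ⟨r', hr'⟩ : ∃ r', r = r' + 1 := ⟨r - 1, by have := hr.pos; omega⟩
      have h2 := qReal_hyperbolic r g.natDegree C (C ^ r') (by rw [← pow_succ', ← hr', hCr]) hCr
        (by rw [hC, hg]; exact hevalprod ek rfl)
      rw [hC, ← hσdef, hg, hstarex, ← Finset.prod_mul_distrib, Fintype.prod_option] at h2
      have h3 : h none ^ ek none * h none ^ ek (τ' none) = 1 := by
        rw [hτnone]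
        show h none ^ 0 * h none ^ 0 = 1
        rw [pow_zero, one_mul]
      have h4 : ∀ j, h (some j) ^ ek (some j) * h (some j) ^ ek (τ' (some j)) =
          h (some j) ^ a j := by
        intro j
        rw [← pow_add, hek]
      rw [h3, one_mul, Finset.prod_congr rfl (fun j _ => h4 j)] at h2
      exact h2
  have hstruct : ∀ A : Matrix ι ι F, A ^ r = 1 →
      ∃ e : Option (Fin t) → ℕ, A.charpoly = ∏ o, h o ^ e o := by
    intro A hA
    apply matrix_charpoly_of_family' h hmon hirr hsq A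
    rw [hprod, map_sub, map_pow, aeval_X, map_one, hA, sub_self]
  have hone : ∀ A : Matrix ι ι F, A ^ r = 1 →
      ∀ e : Option (Fin t) → ℕ,
      A.charpoly = ∏ o, h o ^ e o → (∀ j, e (some j) = 0) → A = 1 := by
    intro A hA e he hz
    have h1 : A.charpoly = (1 : Matrix ι ι F).charpoly := by
      have hd := hdegsum e
      rw [← he, Matrix.charpoly_natDegree_eq_dim] at hd
      have h0 : ∑ j, e (some j) = 0 := Finset.sum_eq_zero (fun j _ => hz j)
      rw [h0, mul_zero, add_zero] at hd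
      rw [he, Fintype.prod_option, Matrix.charpoly_one, hnone, ← hd]
      have : ∏ j, h (some j) ^ e (some j) = 1 := by
        apply Finset.prod_eq_one
        intro j _
        rw [hz j, pow_zero]
      rw [this, mul_one]
    obtain ⟨M, hM⟩ := S2389.matrix_conj' A 1 r hrF hA (one_pow r) h1
    rw [one_mul] at hM
    have h3 : (M⁻¹ : (Matrix ι ι F)ˣ).val * (M.val * A) =
        (M⁻¹ : (Matrix ι ι F)ˣ).val * M.val := by
      rw [hM]
    rw [← mul_assoc, ← Units.val_mul, inv_mul_cancel, Units.val_one, one_mul] at h3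
    exact h3
  have hex_inj : ∀ a a' : Fin t → ℕ, ex a = ex a' → a = a' := by
    intro a a' haa'
    funext j
    exact congrFun haa' (some j)
  -- facts on the group
  have hmemiff : ∀ g : Matrix.GeneralLinearGroup ι F,
      g ∈ Cfsg.isometryGroup F Qf ↔ ∀ u, Qs ((g : Matrix ι ι F) *ᵥ u) = Qs u := by
    intro g
    rw [mem_isometryGroup_iff]
    constructor
    · intro hg u
      rw [hQf, hQf, hg]
    · intro hg u
      rw [← hQf, ← hQf, hg]
  have hpowcoe : ∀ (x : ↥(Cfsg.isometryGroup F Qf)) (k : ℕ),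
      (((x ^ k : ↥(Cfsg.isometryGroup F Qf)) : Matrix.GeneralLinearGroup ι F) : Matrix ι ι F) =
      ((x : Matrix.GeneralLinearGroup ι F) : Matrix ι ι F) ^ k := by
    intro x k
    rw [Subgroup.coe_pow, Units.val_pow_eq_pow_val]
  have htype' : HasType ε m (fun v => Qs v) :=
    htype.congr (Equiv.refl _) (fun v => hQf v)
  -- the arithmetic condition is necessary
  have hnec : ∀ A : Matrix ι ι F, (∀ u, Qs (A *ᵥ u) = Qs u) → A ^ r = 1 →
      ∀ e : Option (Fin t) → ℕ, A.charpoly = ∏ o, h o ^ e o → e none = 0 →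
      ((q : ℕ) : ZMod r) ^ m = ((ε : ℤ) : ZMod r) := by
    intro A hA hAr e he he0
    have hfix : ∀ v, Matrix.toLin' A v = v → v = 0 := by
      intro v hv
      by_contra hne
      rw [Matrix.toLin'_apply] at hv
      have := eval_one_charpoly_of_fixed A v hne hv
      rw [he] at this
      exact hevalprod e he0 this
    have hT : (Matrix.toLin' A) ^ r = 1 := by
      rw [← Matrix.toLin'_pow, hAr, Matrix.toLin'_one]
      rfl
    have hdvd := dvd_card_level Qs (Matrix.toLin' A) r hr hT (by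
      intro u
      rw [Matrix.toLin'_apply]
      exact hA u) hfix 1 one_ne_zero
    have := htype'.zmod r hdvd hqr
    rw [hF] at this
    exact this
  -- existence inside O
  have hO : ∀ a : Fin t → ℕ, (∑ j, a j) ≤ K → (∀ j, a (τ j) = a j) → a ≠ 0 →
      (i * ∑ j, a j = 2 * m → ((q : ℕ) : ZMod r) ^ m = ((ε : ℤ) : ZMod r)) →
      ∃ B : ↥(Cfsg.isometryGroup F Qf),
        ((B : Matrix.GeneralLinearGroup ι F) : Matrix ι ι F).charpoly =
          ∏ o, h o ^ ex a o ∧ orderOf B = r := by
    intro a ha hainv ha0 haP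
    obtain ⟨W', _, _, _, T', Q', hnd', hinv'', hpow', hcp', hfix'⟩ := hreal a hainv
    have : Finite W' := Module.finite_of_finite F
    have hle : i * ∑ j, a j ≤ 2 * m := (hKle _).1 ha
    obtain ⟨m', hm'⟩ : ∃ m', i * ∑ j, a j = 2 * m' := by
      by_cases hev : Even i
      · obtain ⟨i', hi'⟩ := hev
        exact ⟨i' * ∑ j, a j, by rw [hi']; ring⟩
      · have hfpf : ∀ j, τ j ≠ j := fun j hj => hev ((hdich j).1 hj)
        obtain ⟨s', hs'⟩ := even_sum_of_fpf t τ hinv hfpf a hainv
        exact ⟨i * s', by rw [hs']; ring⟩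
    have hd' : finrank F W' = 2 * m' := by
      rw [← LinearMap.charpoly_natDegree T', hcp', hdegsome, hm']
    obtain ⟨ε', hε', ht'⟩ := hasType_of_nondeg Q' hnd' m' hd'
    have hx' : ((q : ℕ) : ZMod r) ^ m' = ((ε' : ℤ) : ZMod r) := by
      have hdvd := dvd_card_level Q' T' r hr hpow' hinv'' hfix' 1 one_ne_zero
      have := ht'.zmod r hdvd hqr
      rw [hF] at this
      exact this
    obtain ⟨k₁, hk₁⟩ : ∃ k₁, m' + k₁ = m := ⟨m - m', by omega⟩
    have hB : ∃ B : Matrix ι ι F, (∀ u, Qf (B *ᵥ u) = Qf u) ∧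
        B.charpoly = T'.charpoly * (X - 1) ^ (2 * k₁) ∧ B ^ r = 1 := by
      by_cases hεε' : ε' = ε
      · exact exists_isometry_sum Qf ε m huniv Q' (plusQF k₁) hnd' (plusQF_nondegenerate k₁) T'
          hinv'' r hpow' ε' 1 m' k₁ ht'
          ((hasType_plus (F := F) k₁).congr (Equiv.refl _) (fun v => plusQF_eq k₁ v))
          hd' (by rw [Module.finrank_pi, Fintype.card_sum, Fintype.card_fin]; ring)
          (by rw [hεε', mul_one]) hk₁
      · have hk1 : 1 ≤ k₁ := by
          by_contra hk0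
          have hk0' : k₁ = 0 := by omega
          apply hεε'
          have hmm' : m' = m := by omega
          have h1 := haP (by rw [hm', hmm'])
          rw [hmm', h1] at hx'
          exact (eps_eq_of_zmod r hr hr2 hε hε' hx').symm
        obtain ⟨k, hk⟩ : ∃ k, k₁ = k + 1 := ⟨k₁ - 1, by omega⟩
        obtain ⟨a₀, c₀, hac⟩ := exists_aniso (F := F)
        have hεm : ε' * (-1) = ε := by
          rcases hε with rfl | rfl <;> rcases hε' with rfl | rfl
          · exact absurd rfl hεε'
          · norm_num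
          · norm_num
          · exact absurd rfl hεε'
        rw [hk] at hk₁ ⊢
        exact exists_isometry_sum Qf ε m huniv Q' (minusQFab k a₀ c₀) hnd'
          (minusQFab_nondegenerate k a₀ c₀ (Cfsg.Agent.Lib.Helper14.OrthMinus.disc_ne_zero hac)) T'
          hinv'' r hpow' ε' (-1) m' (k + 1) ht'
          ((hasType_minus hac k).congr (Equiv.refl _) (fun v => minusQFab_eq k a₀ c₀ v))
          hd' (by rw [Module.finrank_pi, Fintype.card_sum, Fintype.card_sum, Fintype.card_fin,
            Fintype.card_fin]; ring)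
          hεm hk₁
    obtain ⟨B, hBiso, hBcp, hBr⟩ := hB
    have hBcp' : B.charpoly = ∏ o, h o ^ ex a o := by
      rw [hBcp, hcp', Fintype.prod_option, hnone, mul_comm]
      show (X - 1 : F[X]) ^ (2 * k₁) * _ = (X - 1) ^ (2 * m - i * ∑ j, a j) * _
      have : 2 * k₁ = 2 * m - i * ∑ j, a j := by omega
      rw [this]
    obtain ⟨r', hr'⟩ : ∃ r', r = r' + 1 := ⟨r - 1, by have := hr.pos; omega⟩
    obtain ⟨gB, hgB⟩ : ∃ gB : Matrix.GeneralLinearGroup ι F, (gB : Matrix ι ι F) = B :=
      ⟨⟨B, B ^ r', by rw [← pow_succ', ← hr', hBr], by rw [← pow_succ, ← hr', hBr]⟩, rfl⟩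
    have hgBmem : gB ∈ Cfsg.isometryGroup F Qf := by
      rw [mem_isometryGroup_iff, hgB]
      exact hBiso
    refine ⟨⟨gB, hgBmem⟩, by rw [← hBcp', ← hgB], ?_⟩
    apply orderOf_eq_prime
    · apply Subtype.ext
      apply Units.ext
      rw [hpowcoe]
      show (gB : Matrix ι ι F) ^ r = 1
      rw [hgB, hBr]
    · intro h2
      apply ha0
      have hM1 : B = 1 := by
        rw [← hgB]
        have := congrArg (fun x : ↥(Cfsg.isometryGroup F Qf) =>
          ((x : Matrix.GeneralLinearGroup ι F) : Matrix ι ι F)) h2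
        exact this
      have h3 : B.charpoly = ∏ o, h o ^ ex (0 : Fin t → ℕ) o := by
        rw [hM1, Matrix.charpoly_one, Fintype.prod_option, hnone]
        have : ∏ j, h (some j) ^ ex (0 : Fin t → ℕ) (some j) = 1 := by
          apply Finset.prod_eq_one
          intro j _
          show h (some j) ^ (0 : ℕ) = 1
          rw [pow_zero]
        rw [this, mul_one, hcardι]
        show (X - 1 : F[X]) ^ (2 * m) =
          (X - 1) ^ (2 * m - i * ∑ j, (0 : Fin t → ℕ) j)
        simp
      rw [hBcp'] at h3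
      exact hex_inj _ _ (exp_unique h hirr hcop _ _ h3)
  -- conjugacy from equal characteristic polynomials
  have hconj : ∀ A B : ↥(Cfsg.isometryGroup F Qf),
      orderOf A = r → orderOf B = r →
      ((A : Matrix.GeneralLinearGroup ι F) : Matrix ι ι F).charpoly =
      ((B : Matrix.GeneralLinearGroup ι F) : Matrix ι ι F).charpoly → IsConj A B := by
    intro A B hAr hBr hcp
    have hAr' : ((A : Matrix.GeneralLinearGroup ι F) : Matrix ι ι F) ^ r = 1 := by
      rw [← hpowcoe, ← hAr, pow_orderOf_eq_one]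
      rfl
    have hBr' : ((B : Matrix.GeneralLinearGroup ι F) : Matrix ι ι F) ^ r = 1 := by
      rw [← hpowcoe, ← hBr, pow_orderOf_eq_one]
      rfl
    obtain ⟨c, hc⟩ := S2389.matrix_conj' _ _ r hrF hAr' hBr' hcp
    obtain ⟨g, gi, hg1, hg2, hgQ, hgAB⟩ := core' Qs hnd _ _ ((hmemiff A.1).1 A.2)
      ((hmemiff B.1).1 B.2) r hAr' hrF hrodd c.val
      ((c⁻¹ : (Matrix ι ι F)ˣ) : Matrix ι ι F)
      (by rw [← Units.val_mul, mul_inv_cancel, Units.val_one])
      (by rw [← Units.val_mul, inv_mul_cancel, Units.val_one]) hc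
    obtain ⟨k, hk⟩ : ∃ k : Matrix.GeneralLinearGroup ι F, (k : Matrix ι ι F) = g :=
      ⟨⟨g, gi, hg1, hg2⟩, rfl⟩
    have hkm : k ∈ Cfsg.isometryGroup F Qf := by
      rw [hmemiff, hk]
      exact hgQ
    rw [isConj_iff]
    refine ⟨⟨k, hkm⟩, ?_⟩
    rw [mul_inv_eq_iff_eq_mul]
    apply Subtype.ext
    apply Units.ext
    show (k : Matrix ι ι F) * _ = _ * (k : Matrix ι ι F)
    rw [hk]
    exact hgAB
  -- the bijection
  let 𝒯 := {a : Fin t → ℕ // ∑ j, a j ≤ K ∧ a ≠ 0 ∧ (∀ j, a (τ j) = a j) ∧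
      (i * ∑ j, a j = 2 * m → ((q : ℕ) : ZMod r) ^ m = ((ε : ℤ) : ZMod r))}
  let 𝒞 := {C : ConjClasses ↥(Cfsg.isometryGroup F Qf) //
      ∃ g : ↥(Cfsg.isometryGroup F Qf), ConjClasses.mk g = C ∧ orderOf g = r}
  show Nat.card 𝒞 = Nat.card 𝒯
  symm
  let Ba : 𝒯 → ↥(Cfsg.isometryGroup F Qf) :=
    fun a => Classical.choose (hO a.1 a.2.1 a.2.2.2.1 a.2.2.1 a.2.2.2.2)
  have hBa : ∀ a : 𝒯, ((Ba a : Matrix.GeneralLinearGroup ι F) : Matrix ι ι F).charpoly =
      ∏ o, h o ^ ex a.1 o ∧ orderOf (Ba a) = r :=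
    fun a => Classical.choose_spec (hO a.1 a.2.1 a.2.2.2.1 a.2.2.1 a.2.2.2.2)
  let Ψ : 𝒯 → 𝒞 := fun a => ⟨ConjClasses.mk (Ba a), Ba a, rfl, (hBa a).2⟩
  apply Nat.card_congr
  refine Equiv.ofBijective Ψ ⟨?_, ?_⟩
  · intro a a' haa'
    have h1 : ConjClasses.mk (Ba a) = ConjClasses.mk (Ba a') := congrArg Subtype.val haa'
    obtain ⟨u, hu⟩ := isConj_iff.1 (ConjClasses.mk_eq_mk_iff_isConj.1 h1)
    have hu' : ((u : Matrix.GeneralLinearGroup ι F) : Matrix ι ι F) *
        ((Ba a : Matrix.GeneralLinearGroup ι F) : Matrix ι ι F) =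
        ((Ba a' : Matrix.GeneralLinearGroup ι F) : Matrix ι ι F) *
        ((u : Matrix.GeneralLinearGroup ι F) : Matrix ι ι F) := by
      have h2 : u * Ba a = Ba a' * u := mul_inv_eq_iff_eq_mul.1 hu
      have h3 := congrArg (fun x : ↥(Cfsg.isometryGroup F Qf) =>
        ((x : Matrix.GeneralLinearGroup ι F) : Matrix ι ι F)) h2
      exact h3
    have h3 : ((Ba a' : Matrix.GeneralLinearGroup ι F) : Matrix ι ι F).charpoly =
        ((Ba a : Matrix.GeneralLinearGroup ι F) : Matrix ι ι F).charpoly := by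
      have h4 : ((Ba a' : Matrix.GeneralLinearGroup ι F) : Matrix ι ι F) =
          ((u : Matrix.GeneralLinearGroup ι F) : Matrix ι ι F) *
          ((Ba a : Matrix.GeneralLinearGroup ι F) : Matrix ι ι F) *
          (((u : Matrix.GeneralLinearGroup ι F)⁻¹ : Matrix.GeneralLinearGroup ι F) :
            Matrix ι ι F) := by
        rw [hu', Matrix.mul_assoc, ← Units.val_mul, mul_inv_cancel, Units.val_one,
          Matrix.mul_one]
      rw [h4, Matrix.coe_units_inv, Matrix.charpoly_units_conj]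
    rw [(hBa a).1, (hBa a').1] at h3
    apply Subtype.ext
    exact (hex_inj _ _ (exp_unique h hirr hcop _ _ h3)).symm
  · rintro ⟨C, g, rfl, hg⟩
    have hgr : ((g : Matrix.GeneralLinearGroup ι F) : Matrix ι ι F) ^ r = 1 := by
      rw [← hpowcoe, ← hg, pow_orderOf_eq_one]
      rfl
    have hg1 : ((g : Matrix.GeneralLinearGroup ι F) : Matrix ι ι F) ≠ 1 := by
      intro h1
      have : g = 1 := by
        apply Subtype.ext
        apply Units.ext
        exact h1
      rw [this, orderOf_one] at hg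
      exact hr.one_lt.ne hg
    obtain ⟨e, he⟩ := hstruct _ hgr
    have hd := hdegsum e
    rw [← he, Matrix.charpoly_natDegree_eq_dim, hcardι] at hd
    let a : Fin t → ℕ := fun j => e (some j)
    have hsum : ∑ j, a j = ∑ j, e (some j) := rfl
    have ha1 : ∑ j, a j ≤ K := by
      rw [hKle, hsum]
      omega
    have ha2 : a ≠ 0 := by
      intro h0
      apply hg1
      apply hone _ hgr e he
      intro j
      exact congrFun h0 j
    have hea : ex a = e := by
      funext o
      cases o with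
      | none =>
        show 2 * m - i * ∑ j, a j = e none
        rw [hsum]
        omega
      | some j => rfl
    have ha3 : ∀ j, a (τ j) = a j := by
      obtain ⟨r', hr'⟩ : ∃ r', r = r' + 1 := ⟨r - 1, by have := hr.pos; omega⟩
      have h3 := charpoly_isometry Qs hnd
        ((g : Matrix.GeneralLinearGroup ι F) : Matrix ι ι F)
        (((g : Matrix.GeneralLinearGroup ι F) : Matrix ι ι F) ^ r')
        (by rw [← pow_succ', ← hr', hgr]) ((hmemiff g.1).1 g.2)
      rw [← hσdef, he, hstarex] at h3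
      have h4 := exp_unique h hirr hcop _ _ h3
      intro j
      have := congrFun h4 (some j)
      rw [hτ] at this
      exact this
    have ha4 : i * ∑ j, a j = 2 * m → ((q : ℕ) : ZMod r) ^ m = ((ε : ℤ) : ZMod r) := by
      intro h5
      apply hnec _ ((hmemiff g.1).1 g.2) hgr e he
      rw [hsum] at h5
      omega
    refine ⟨⟨a, ha1, ha2, ha3, ha4⟩, ?_⟩
    apply Subtype.ext
    show ConjClasses.mk (Ba ⟨a, ha1, ha2, ha3, ha4⟩) = ConjClasses.mk g
    rw [ConjClasses.mk_eq_mk_iff_isConj]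
    apply hconj _ _ (hBa ⟨a, ha1, ha2, ha3, ha4⟩).2 hg
    rw [(hBa ⟨a, ha1, ha2, ha3, ha4⟩).1, he]
    show ∏ o, h o ^ ex a o = _
    rw [hea]

end mainsec


section counting

theorem pascal_sub (n k : ℕ) (hn : 1 ≤ n) (hk : 1 ≤ k) :
    Nat.choose (n + k) k - 1 - Nat.choose (n + k - 1) (k - 1) = Nat.choose (n - 1 + k) k - 1 := by
  obtain ⟨n', rfl⟩ : ∃ n', n = n' + 1 := ⟨n - 1, by omega⟩
  obtain ⟨k', rfl⟩ : ∃ k', k = k' + 1 := ⟨k - 1, by omega⟩
  have h1 : n' + 1 + (k' + 1) = (n' + k' + 1) + 1 := by ring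
  have h2 : n' + 1 + (k' + 1) - 1 = n' + k' + 1 := by omega
  have h3 : n' + 1 - 1 + (k' + 1) = n' + k' + 1 := by omega
  rw [h2, h3, h1, Nat.choose_succ_succ', Nat.add_sub_cancel]
  omega

theorem count_tuples (m i t : ℕ) (hm : 1 ≤ m) (hi0 : 0 < i) (ht1 : 1 ≤ t) (τ : Fin t → Fin t)
    (hinv : Function.Involutive τ) (hdich : ∀ j, τ j = j ↔ Even i) (P : Prop) [Decidable P] :
    Nat.card {a : Fin t → ℕ // ∑ j, a j ≤ 2 * m / i ∧ a ≠ 0 ∧ (∀ j, a (τ j) = a j) ∧
      (i * ∑ j, a j = 2 * m → P)} =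
    (if Odd i then Nat.choose (m / i + t / 2) (t / 2) else Nat.choose (2 * m / i + t) t) - 1 -
      (if P then 0 else
        (if Odd i then (if i ∣ m then Nat.choose (m / i + t / 2 - 1) (t / 2 - 1) else 0)
         else (if i ∣ 2 * m then Nat.choose (2 * m / i + t - 1) (t - 1) else 0))) := by
  classical
  obtain ⟨K, hK⟩ : ∃ K, K = 2 * m / i := ⟨_, rfl⟩
  rw [← hK]
  have hKhalf : m / i = K / 2 := by
    rw [hK, Nat.div_div_eq_div_mul, mul_comm 2 m, Nat.mul_div_mul_right m i (by norm_num)]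
  -- step 1: the shape of the tuple set
  have step1 : Nat.card {a : Fin t → ℕ // ∑ j, a j ≤ K ∧ a ≠ 0 ∧ (∀ j, a (τ j) = a j) ∧
      (i * ∑ j, a j = 2 * m → P)} =
      Nat.card {a : Fin t → ℕ // ∑ j, a j ≤ (if P then K else if i ∣ 2 * m then K - 1 else K) ∧
        a ≠ 0 ∧ (∀ j, a (τ j) = a j)} := by
    apply Nat.card_congr
    refine Equiv.subtypeEquivRight ?_
    intro a
    by_cases hP : P
    · rw [if_pos hP]
      constructor
      · rintro ⟨h1, h2, h3, -⟩
        exact ⟨h1, h2, h3⟩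
      · rintro ⟨h1, h2, h3⟩
        exact ⟨h1, h2, h3, fun _ => hP⟩
    · rw [if_neg hP]
      by_cases hd : i ∣ 2 * m
      · rw [if_pos hd]
        have h2m : 2 * m = i * K := by rw [hK, Nat.mul_div_cancel' hd]
        constructor
        · rintro ⟨h1, h2, h3, h4⟩
          refine ⟨?_, h2, h3⟩
          have h5 : ∑ j, a j ≠ K := by
            intro h6
            apply hP
            apply h4
            rw [h6, h2m]
          omega
        · rintro ⟨h1, h2, h3⟩
          have hK1 : 1 ≤ K := by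
            rcases Nat.eq_zero_or_pos K with h0 | h0
            · rw [h0, mul_zero] at h2m
              omega
            · exact h0
          refine ⟨by omega, h2, h3, ?_⟩
          intro h6
          exfalso
          rw [h2m] at h6
          have := Nat.eq_of_mul_eq_mul_left hi0 h6
          omega
      · rw [if_neg hd]
        constructor
        · rintro ⟨h1, h2, h3, -⟩
          exact ⟨h1, h2, h3⟩
        · rintro ⟨h1, h2, h3⟩
          refine ⟨h1, h2, h3, ?_⟩
          intro h6
          exfalso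
          apply hd
          rw [← h6]
          exact dvd_mul_right _ _
  rw [step1]
  by_cases hodd : Odd i
  · have hfpf : ∀ j, τ j ≠ j := fun j hj => (Nat.not_even_iff_odd.2 hodd) ((hdich j).1 hj)
    have hteven : Even t := by
      have := even_sum_of_fpf t τ hinv hfpf (fun _ => 1) (fun _ => rfl)
      simpa using this
    have ht2 : 1 ≤ t / 2 := by
      obtain ⟨t', ht'⟩ := hteven
      omega
    rw [if_pos hodd, if_pos hodd, Cfsg.Agent.S2671.card_invariant_fpf t _ τ hinv hfpf, hKhalf]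
    by_cases hP : P
    · rw [if_pos hP, if_pos hP, Nat.sub_zero]
    · rw [if_neg hP, if_neg hP]
      by_cases hd : i ∣ 2 * m
      · have hdm : i ∣ m := by
          have hc : Nat.Coprime i 2 := (Nat.coprime_comm.1 (Nat.coprime_two_left.2 hodd))
          exact hc.dvd_of_dvd_mul_left hd
        rw [if_pos hd, if_pos hdm]
        obtain ⟨s, hs⟩ := hdm
        have hK2 : K = 2 * s := by
          rw [hK, hs, ← mul_assoc, mul_comm 2 i, mul_assoc, Nat.mul_div_cancel_left _ hi0]
        have hs1 : 1 ≤ s := by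
          rcases Nat.eq_zero_or_pos s with h0 | h0
          · rw [h0, mul_zero] at hs
            omega
          · exact h0
        have h1 : (K - 1) / 2 = s - 1 := by omega
        have h2 : K / 2 = s := by omega
        rw [h1, h2]
        exact (pascal_sub s (t / 2) hs1 ht2).symm
      · have hdm : ¬ i ∣ m := fun h => hd (Dvd.dvd.mul_left h 2)
        rw [if_neg hd, if_neg hdm, Nat.sub_zero]
  · have hτid : ∀ j, τ j = j := fun j => (hdich j).2 (Nat.not_odd_iff_even.1 hodd)
    rw [if_neg hodd, if_neg hodd]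
    have h1 : ∀ K' : ℕ, Nat.card {a : Fin t → ℕ // ∑ j, a j ≤ K' ∧ a ≠ 0 ∧
        (∀ j, a (τ j) = a j)} = (K' + t).choose t - 1 := by
      intro K'
      rw [← card_nonzero_bounded_tuples t K']
      apply Nat.card_congr
      refine Equiv.subtypeEquivRight ?_
      intro a
      constructor
      · rintro ⟨h1, h2, -⟩
        exact ⟨h1, h2⟩
      · rintro ⟨h1, h2⟩
        refine ⟨h1, h2, ?_⟩
        intro j
        rw [hτid]
    rw [h1]
    by_cases hP : P
    · rw [if_pos hP, if_pos hP, Nat.sub_zero]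
    · rw [if_neg hP, if_neg hP]
      by_cases hd : i ∣ 2 * m
      · rw [if_pos hd, if_pos hd]
        have h2m : 2 * m = i * K := by rw [hK, Nat.mul_div_cancel' hd]
        have hK1 : 1 ≤ K := by
          rcases Nat.eq_zero_or_pos K with h0 | h0
          · rw [h0, mul_zero] at h2m
            omega
          · exact h0
        exact (pascal_sub K t hK1 ht1).symm
      · rw [if_neg hd, if_neg hd, Nat.sub_zero]

end counting

section final

variable {F : Type u} [Field F] [Fintype F]

/-- the number of classes of elements of odd prime order `r ≠ p` in the isometry group of a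
`2m`-dimensional quadratic space of type `ε` -/
theorem count_classes {p q : ℕ} [hp : Fact p.Prime] [CharP F p]
    (hF : Fintype.card F = q) (m r i t : ℕ) (hm : 1 ≤ m) (hr : r.Prime) (hr2 : r ≠ 2)
    (hrp : r ≠ p) (hi : i = orderOf (q : ZMod r)) (ht : t * i = r - 1)
    {ι : Type} [Fintype ι] [DecidableEq ι] (Qs : QuadraticForm F (ι → F)) (Qf : (ι → F) → F)
    (hQf : ∀ v, Qs v = Qf v) (hnd : (QuadraticMap.polarBilin Qs).Nondegenerate)
    (hcardι : Fintype.card ι = 2 * m) (ε : ℤ) (hε : ε = 1 ∨ ε = -1) (htype : HasType ε m Qf)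
    (huniv : ∀ (W : Type u) [AddCommGroup W] [Module F W] [FiniteDimensional F W]
      (Q : QuadraticForm F W), (QuadraticMap.polarBilin Q).Nondegenerate → finrank F W = 2 * m →
      HasType ε m (fun v => Q v) → ∃ b : Basis ι F W, ∀ v, Qf (b.equivFun v) = Q v)
    [Decidable (((q : ℕ) : ZMod r) ^ m = ((ε : ℤ) : ZMod r))] :
    Nat.card {C : ConjClasses ↥(Cfsg.isometryGroup F Qf) //
      ∃ g : ↥(Cfsg.isometryGroup F Qf), ConjClasses.mk g = C ∧ orderOf g = r} =
    (if Odd i then Nat.choose (m / i + t / 2) (t / 2) else Nat.choose (2 * m / i + t) t) - 1 -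
      (if ((q : ℕ) : ZMod r) ^ m = ((ε : ℤ) : ZMod r) then 0 else
        (if Odd i then (if i ∣ m then Nat.choose (m / i + t / 2 - 1) (t / 2 - 1) else 0)
         else (if i ∣ 2 * m then Nat.choose (2 * m / i + t - 1) (t - 1) else 0))) := by
  have hi0 : 0 < i := by
    rcases Nat.eq_zero_or_pos i with h0 | h0
    · rw [h0, mul_zero] at ht
      have := hr.two_le
      omega
    · exact h0
  have ht1 : 1 ≤ t := by
    rcases Nat.eq_zero_or_pos t with h0 | h0
    · rw [h0, zero_mul] at ht
      have := hr.two_le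
      omega
    · exact h0
  obtain ⟨τ, hinv, hdich, hcount⟩ := classes_eq_tuples hF m r i t hr hr2 hrp hi ht Qs Qf hQf hnd
    hcardι ε hε htype huniv
  rw [hcount]
  exact count_tuples m i t hm hi0 ht1 τ hinv hdich _

/-- `x^(i/2) = -1` for an element of even order `i` in a prime field -/
theorem pow_half_order {r : ℕ} [Fact r.Prime] (x : ZMod r) (i' : ℕ) (hi' : 0 < i')
    (hx : orderOf x = 2 * i') : x ^ i' = -1 := by
  have h1 : (x ^ i') ^ 2 = 1 := by
    rw [← pow_mul, mul_comm, ← hx]
    exact pow_orderOf_eq_one x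
  have h2 : (x ^ i' - 1) * (x ^ i' + 1) = 0 := by linear_combination h1
  rcases mul_eq_zero.1 h2 with h3 | h3
  · exfalso
    have h4 : x ^ i' = 1 := sub_eq_zero.1 h3
    have h5 := orderOf_dvd_of_pow_eq_one h4
    rw [hx] at h5
    have := Nat.le_of_dvd hi' h5
    omega
  · exact eq_neg_of_add_eq_zero_left h3

/-- the value of `q^m` modulo `r` when the order `i` of `q` is even and divides `2m` -/
theorem pow_of_even_order {r : ℕ} [Fact r.Prime] (x : ZMod r) (i m : ℕ) (hi0 : 0 < i)
    (hx : i = orderOf x) (hev : Even i) (hd : i ∣ 2 * m) : x ^ m = (-1) ^ (2 * m / i) := by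
  obtain ⟨i', hi'⟩ := hev
  have hi'2 : i = 2 * i' := by omega
  obtain ⟨s, hs⟩ := hd
  have h1 : 2 * m / i = s := by rw [hs, Nat.mul_div_cancel_left _ hi0]
  have h2 : m = i' * s := by
    have : 2 * m = 2 * (i' * s) := by rw [hs, hi'2]; ring
    omega
  rw [h1, h2, pow_mul, pow_half_order x i' (by omega) (by rw [← hx, hi'2])]

theorem neg_one_pow_zmod (r : ℕ) [Fact r.Prime] (hr2 : r ≠ 2) (s : ℕ) :
    (((-1 : ZMod r)) ^ s = 1 ↔ Even s) ∧ (((-1 : ZMod r)) ^ s = -1 ↔ Odd s) := by
  have key : (-1 : ZMod r) ≠ 1 := by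
    intro h1
    have h2 : ((2 : ℕ) : ZMod r) = 0 := by
      push_cast
      linear_combination -h1
    rw [ZMod.natCast_eq_zero_iff] at h2
    exact hr2 ((Nat.prime_dvd_prime_iff_eq Fact.out Nat.prime_two).1 h2)
  rcases Nat.even_or_odd s with hs | hs
  · rw [hs.neg_one_pow]
    refine ⟨⟨fun _ => hs, fun _ => rfl⟩, ⟨fun h => absurd h.symm key, fun h => ?_⟩⟩
    exact absurd hs (Nat.not_even_iff_odd.2 h)
  · rw [hs.neg_one_pow]
    refine ⟨⟨fun h => absurd h key, fun h => ?_⟩, ⟨fun _ => hs, fun _ => rfl⟩⟩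
    exact absurd h (Nat.not_even_iff_odd.2 hs)

end final

end Cfsg.Agent.Lib.Helper15.QuadClasses
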