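import Mathlib
import Cfsg.Agent.Lib.Helper15.QuadClasses
import Cfsg.Agent.Lib.Helper15.SymIso

set_option autoImplicit false

namespace Cfsg.Agent.Lib.Helper15.NonsingPts

open Polynomial Module QuadraticMap Cfsg.Agent.Lib.Helper15
  Cfsg.Agent.Lib.Helper15.PrimeOrderClasses
  Cfsg.Agent.Lib.Helper15.QuadReal Cfsg.Agent.Lib.Helper15.QuadType
  Cfsg.Agent.Lib.Helper15.QuadClasses
open scoped Matrix

universe u

section points

variable {F : Type*} [Field F] [Fintype F] {V : Type*} [AddCommGroup V] [Module F V]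
  [FiniteDimensional F V]

/-- nonsingular vectors are the nonzero vectors of the nonsingular points -/
theorem card_nonsing_points (Q : QuadraticForm F V) :
    Nat.card {W : Submodule F V // finrank F W = 1 ∧ ∃ v ∈ W, Q v ≠ 0} * (Fintype.card F - 1) =
      Nat.card {v : V // Q v ≠ 0} := by
  classical
  have hrep : ∀ W : {W : Submodule F V // finrank F W = 1 ∧ ∃ v ∈ W, Q v ≠ 0},
      ∃ v : V, v ∈ W.1 ∧ Q v ≠ 0 := fun W => W.2.2
  choose rep hrepW hrepQ using hrep
  have hrep0 : ∀ W, rep W ≠ 0 := by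
    intro W h0
    apply hrepQ W
    rw [h0, QuadraticMap.map_zero]
  have hspan : ∀ W : {W : Submodule F V // finrank F W = 1 ∧ ∃ v ∈ W, Q v ≠ 0},
      Submodule.span F {rep W} = W.1 := by
    intro W
    apply Submodule.eq_of_le_of_finrank_eq
    · rw [Submodule.span_singleton_le_iff_mem]
      exact hrepW W
    · rw [finrank_span_singleton (hrep0 W), W.2.1]
  let e : {W : Submodule F V // finrank F W = 1 ∧ ∃ v ∈ W, Q v ≠ 0} × Fˣ → {v : V // Q v ≠ 0} :=
    fun x => ⟨(x.2 : F) • rep x.1, by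
      rw [QuadraticMap.map_smul]
      exact mul_ne_zero (mul_ne_zero x.2.ne_zero x.2.ne_zero) (hrepQ x.1)⟩
  have hbij : Function.Bijective e := by
    constructor
    · rintro ⟨W, c⟩ ⟨W', c'⟩ h
      have h1 : (c : F) • rep W = (c' : F) • rep W' := congrArg Subtype.val h
      have h2 : W = W' := by
        apply Subtype.ext
        rw [← hspan W, ← hspan W', ← Submodule.span_singleton_smul_eq c.isUnit (rep W),
          ← Submodule.span_singleton_smul_eq c'.isUnit (rep W'), h1]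
      subst h2
      have h3 : ((c : F) - (c' : F)) • rep W = 0 := by rw [sub_smul, h1, sub_self]
      have h4 : (c : F) - (c' : F) = 0 := by
        rcases smul_eq_zero.1 h3 with h | h
        · exact h
        · exact absurd h (hrep0 W)
      have h5 : c = c' := Units.ext (sub_eq_zero.1 h4)
      rw [h5]
    · rintro ⟨v, hv⟩
      have hv0 : v ≠ 0 := by
        intro h0
        apply hv
        rw [h0, QuadraticMap.map_zero]
      obtain ⟨W, hW⟩ : ∃ W : {W : Submodule F V // finrank F W = 1 ∧ ∃ v ∈ W, Q v ≠ 0},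
          W.1 = Submodule.span F {v} :=
        ⟨⟨Submodule.span F {v}, finrank_span_singleton hv0, v, Submodule.mem_span_singleton_self v,
          hv⟩, rfl⟩
      have h1 : rep W ∈ Submodule.span F {v} := by
        rw [← hW]
        exact hrepW W
      obtain ⟨a, ha⟩ := Submodule.mem_span_singleton.1 h1
      have ha0 : a ≠ 0 := by
        intro h0
        rw [h0, zero_smul] at ha
        exact hrep0 W ha.symm
      refine ⟨⟨W, Units.mk0 a⁻¹ (inv_ne_zero ha0)⟩, ?_⟩
      apply Subtype.ext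
      show (a⁻¹ : F) • rep W = v
      rw [← ha, smul_smul, inv_mul_cancel₀ ha0, one_smul]
  rw [← Nat.card_congr (Equiv.ofBijective e hbij), Nat.card_prod]
  congr 1
  rw [Nat.card_eq_fintype_card, Fintype.card_units]


/-- a prime not dividing `q` and dividing the number of nonsingular points of a `2n`-dimensional
space of type `ε` divides `q^n - ε` -/
theorem zmod_of_dvd_points {ι : Type} [Fintype ι] [DecidableEq ι] (Qs : QuadraticForm F (ι → F))
    (ε : ℤ) (n : ℕ) (hcard : Fintype.card ι = 2 * n) (ht : HasType ε n (fun v => Qs v)) (r : ℕ)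
    [Fact r.Prime] (hq : ¬ r ∣ Fintype.card F)
    (hdvd : r ∣ Nat.card {W : Submodule F (ι → F) // finrank F W = 1 ∧ ∃ v ∈ W, Qs v ≠ 0}) :
    ((Fintype.card F : ℕ) : ZMod r) ^ n = (ε : ZMod r) := by
  classical
  obtain ⟨P, hP⟩ : ∃ P, P = Nat.card {W : Submodule F (ι → F) //
      finrank F W = 1 ∧ ∃ v ∈ W, Qs v ≠ 0} := ⟨_, rfl⟩
  obtain ⟨S, hS⟩ : ∃ S, S = Nat.card {v : ι → F // Qs v ≠ 0} := ⟨_, rfl⟩
  obtain ⟨N0, hN0⟩ : ∃ N0, N0 = Nat.card {v : ι → F // Qs v = 0} := ⟨_, rfl⟩
  obtain ⟨q, hqdef⟩ : ∃ q, q = Fintype.card F := ⟨_, rfl⟩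
  have hq2 : 2 ≤ q := by
    rw [hqdef]
    exact Fintype.one_lt_card
  have h1 : P * (q - 1) = S := by
    rw [hP, hS, hqdef]
    exact card_nonsing_points Qs
  have h2 : S + N0 = q ^ (2 * n) := by
    rw [hS, hN0, Nat.card_eq_fintype_card, Nat.card_eq_fintype_card,
      Fintype.card_subtype_compl (fun v : ι → F => Qs v = 0)]
    have hle : Fintype.card {v : ι → F // Qs v = 0} ≤ Fintype.card (ι → F) :=
      Fintype.card_subtype_le _
    rw [Nat.sub_add_cancel hle, Fintype.card_fun, hcard, hqdef]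
  have h3 : (q : ℤ) * (N0 : ℤ) = (q : ℤ) ^ (2 * n) - ε * (q : ℤ) ^ n + ε * (q : ℤ) ^ (n + 1) := by
    rw [hN0, hqdef]
    exact ht.1
  have h4 : ((q : ℤ) - 1) * ((q : ℤ) * (P : ℤ)) =
      ((q : ℤ) - 1) * ((q : ℤ) ^ (2 * n) - ε * (q : ℤ) ^ n) := by
    have h1' : (P : ℤ) * ((q : ℤ) - 1) = (S : ℤ) := by
      rw [← h1]
      push_cast [Nat.cast_sub (by omega : 1 ≤ q)]
      ring
    have h2' : (S : ℤ) + (N0 : ℤ) = (q : ℤ) ^ (2 * n) := by exact_mod_cast h2
    have hS' : (S : ℤ) = (q : ℤ) ^ (2 * n) - (N0 : ℤ) := by linarith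
    calc ((q : ℤ) - 1) * ((q : ℤ) * (P : ℤ)) = (q : ℤ) * ((P : ℤ) * ((q : ℤ) - 1)) := by ring
      _ = (q : ℤ) * (q : ℤ) ^ (2 * n) - (q : ℤ) * (N0 : ℤ) := by rw [h1', hS']; ring
      _ = ((q : ℤ) - 1) * ((q : ℤ) ^ (2 * n) - ε * (q : ℤ) ^ n) := by rw [h3]; ring
  have hq1 : ((q : ℤ) - 1) ≠ 0 := by
    have : (2 : ℤ) ≤ (q : ℤ) := by exact_mod_cast hq2
    omega
  have h5 : (q : ℤ) * (P : ℤ) = (q : ℤ) ^ (2 * n) - ε * (q : ℤ) ^ n := mul_left_cancel₀ hq1 h4
  have h6 := congrArg (Int.cast : ℤ → ZMod r) h5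
  have hP0 : ((P : ℕ) : ZMod r) = 0 := by
    rw [ZMod.natCast_eq_zero_iff, hP]
    exact hdvd
  push_cast at h6
  rw [hP0, mul_zero] at h6
  have hq0 : ((q : ℕ) : ZMod r) ≠ 0 := by
    rw [Ne, ZMod.natCast_eq_zero_iff, hqdef]
    exact hq
  have h7 : ((q : ℕ) : ZMod r) ^ n * (((q : ℕ) : ZMod r) ^ n - (ε : ZMod r)) = 0 := by
    linear_combination -h6
  rw [← hqdef]
  rcases mul_eq_zero.1 h7 with h8 | h8
  · exact absurd h8 (pow_ne_zero n hq0)
  · exact sub_eq_zero.1 h8

end points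

section real

open Cfsg.Agent.S2568 Cfsg.Agent.S2671 Cfsg.Agent.S2645

variable {F : Type u} [Field F] [Fintype F]

/-- fixed-point-free isometries of odd prime order `r ≠ p` exist in every even dimension `2n` with
`ord_r(q) ∣ 2n` -/
theorem exists_qreal {p q : ℕ} [hp : Fact p.Prime] [CharP F p] (hF : Fintype.card F = q)
    (r i : ℕ) (hr : r.Prime) (hr2 : r ≠ 2) (hrp : r ≠ p) (hi : i = orderOf (q : ZMod r))
    (n : ℕ) (hdvd : i ∣ 2 * n) : ∃ f : F[X], QReal r f ∧ f.natDegree = 2 * n := by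
  classical
  have hr1 : Fact r.Prime := ⟨hr⟩
  have hrodd : Odd r := hr.odd_of_ne_two hr2
  obtain ⟨k, -, hk⟩ := FiniteField.card F p
  have hqr : ¬ r ∣ q := by
    rw [← hF, hk]
    intro hd
    exact hrp ((Nat.prime_dvd_prime_iff_eq hr hp.out).1 (hr.dvd_of_dvd_pow hd))
  have hq0 : ((q : ℕ) : ZMod r) ≠ 0 := by
    rw [Ne, ZMod.natCast_eq_zero_iff]
    exact hqr
  have hidvd : i ∣ r - 1 := by
    rw [hi]
    exact orderOf_dvd_of_pow_eq_one (ZMod.pow_card_sub_one_eq_one hq0)
  have hr1' : 0 < r - 1 := by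
    have := hr.two_le
    omega
  have hi0 : 0 < i := Nat.pos_of_dvd_of_pos hidvd hr1'
  obtain ⟨t, ht⟩ : ∃ t, t * i = r - 1 := ⟨(r - 1) / i, Nat.div_mul_cancel hidvd⟩
  have ht0 : 0 < t := by
    rcases Nat.eq_zero_or_pos t with h0 | h0
    · rw [h0, zero_mul] at ht
      omega
    · exact h0
  obtain ⟨h, hmon, hirr, hnone, hdeg, hprod⟩ := exists_factor_family hF r i t hr hrp hi ht
  have hrF : (r : F) ≠ 0 := by
    rw [Ne, CharP.cast_eq_zero_iff F p]
    intro hd
    exact hrp ((Nat.prime_dvd_prime_iff_eq hp.out hr).1 hd).symm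
  have hsq : Squarefree (∏ o, h o) := by
    rw [hprod]
    have := (separable_X_pow_sub_C (1 : F) hrF one_ne_zero).squarefree
    rwa [map_one] at this
  have hcop := family_coprime h hmon hirr hsq
  obtain ⟨h₀, hh₀⟩ : ∃ h₀ : F[X], h₀ = h (some ⟨0, ht0⟩) := ⟨_, rfl⟩
  have hmon₀ : h₀.Monic := by rw [hh₀]; exact hmon _
  have hirr₀ : Irreducible h₀ := by rw [hh₀]; exact hirr _
  have hdeg₀ : h₀.natDegree = i := by rw [hh₀]; exact hdeg _
  have hdvd₀ : h₀ ∣ X ^ r - 1 := by
    rw [hh₀, ← hprod]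
    exact Finset.dvd_prod_of_mem h (Finset.mem_univ _)
  have hcop₀ : IsCoprime (X - 1 : F[X]) h₀ := by
    rw [hh₀, ← hnone]
    exact hcop none (some ⟨0, ht0⟩) (Option.some_ne_none _).symm
  have hne₀ : h₀ ≠ X - 1 := by
    intro h1
    rw [h1] at hcop₀ hirr₀
    exact hirr₀.not_isUnit (isCoprime_self.1 hcop₀)
  have heval : h₀.eval 1 ≠ 0 := by
    intro h0
    obtain ⟨u, v, huv⟩ := hcop₀
    have := congrArg (Polynomial.eval 1) huv
    rw [eval_add, eval_mul, eval_mul, h0, eval_sub, eval_X, eval_one, sub_self, mul_zero,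
      mul_zero, add_zero] at this
    exact zero_ne_one this
  have hndvd : ¬ h₀ ∣ X ^ 2 - 1 := by
    intro hd
    obtain ⟨k', hk'⟩ := hrodd
    have h1 : (X ^ 2 - 1 : F[X]) ∣ X ^ r - X := by
      have h2 : (X ^ r - X : F[X]) = X * ((X ^ 2) ^ k' - 1 ^ k') := by
        rw [hk', one_pow]; ring
      rw [h2]
      exact Dvd.dvd.mul_left (sub_dvd_pow_sub_pow (X ^ 2) 1 k') X
    have h3 : h₀ ∣ X - 1 := by
      have h4 : (X - 1 : F[X]) = (X ^ r - 1) - (X ^ r - X) := by ring
      rw [h4]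
      exact dvd_sub hdvd₀ (hd.trans h1)
    exact hirr₀.not_isUnit (hcop₀.symm.isUnit_of_dvd' (dvd_refl _) h3)
  by_cases hev : Even i
  · -- self-dual factor
    have hstar : StarPoly.star (RingHom.id F) h₀ = h₀ := by
      have h1 := StarPoly.star_eq_self_iff p 0 (RingHom.id F)
        (fun c => by rw [pow_zero, pow_one]; rfl) (fun c => rfl) r hr h₀ hmon₀ hirr₀ hdvd₀ hne₀
      rw [h1, Nat.card_eq_fintype_card, hF, pow_zero]
      exact (arith_even r q i hr hr2 hi hi0).2 hev
    have hQ := qReal_selfdual p r h₀ hmon₀ hirr₀ hstar hdvd₀ hndvd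
    obtain ⟨s, hs⟩ := hdvd
    refine ⟨h₀ ^ s, hQ.pow s, ?_⟩
    rw [hmon₀.natDegree_pow, hdeg₀, hs, mul_comm]
  · -- a dual pair
    have hodd : Odd i := Nat.not_even_iff_odd.1 hev
    have hin : i ∣ n := by
      have hc : Nat.Coprime i 2 := Nat.coprime_two_right.2 hodd
      exact hc.dvd_of_dvd_mul_left hdvd
    obtain ⟨s, hs⟩ := hin
    obtain ⟨C, hC, hCr⟩ := exists_matrix_pow_eq_one i r 1 hr.pos h₀ hmon₀ hdeg₀
      (by rw [pow_one]; exact hdvd₀)
    obtain ⟨r', hr'⟩ : ∃ r', r = r' + 1 := ⟨r - 1, by have := hr.pos; omega⟩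
    have hQ := qReal_hyperbolic r i C (C ^ r') (by rw [← pow_succ', ← hr', hCr]) hCr
      (by rw [hC]; exact heval)
    rw [hC] at hQ
    have hc0 : h₀.coeff 0 ≠ 0 := by
      intro h0
      rw [coeff_zero_eq_eval_zero] at h0
      obtain ⟨c, hc⟩ := hdvd₀
      have := congrArg (Polynomial.eval 0) hc
      rw [eval_mul, h0, zero_mul, eval_sub, eval_pow, eval_X, eval_one, zero_pow hr.pos.ne',
        zero_sub] at this
      exact one_ne_zero (neg_eq_zero.1 this)
    have hmonstar := StarPoly.monic_star (RingHom.id F) h₀ hc0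
    refine ⟨(h₀ * StarPoly.star (RingHom.id F) h₀) ^ s, hQ.pow s, ?_⟩
    rw [(hmon₀.mul hmonstar).natDegree_pow, hmon₀.natDegree_mul hmonstar,
      StarPoly.natDegree_star _ _ hc0, hdeg₀, hs]
    ring


/-- a fixed-point-free isometry of odd prime order `r ≠ p` of the standard form of type `ε` in
dimension `2n`, when `q^n ≡ ε (mod r)` -/
theorem exists_fpf_matrix {p q : ℕ} [hp : Fact p.Prime] [CharP F p] (hF : Fintype.card F = q)
    {ι : Type} [Fintype ι] [DecidableEq ι] (Qf : (ι → F) → F) (ε : ℤ) (hε : ε = 1 ∨ ε = -1) (n : ℕ)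
    (huniv : ∀ (W : Type u) [AddCommGroup W] [Module F W] [FiniteDimensional F W]
      (Q : QuadraticForm F W), (QuadraticMap.polarBilin Q).Nondegenerate → finrank F W = 2 * n →
      HasType ε n (fun v => Q v) → ∃ b : Basis ι F W, ∀ v, Qf (b.equivFun v) = Q v)
    (r : ℕ) (hr : r.Prime) (hr2 : r ≠ 2) (hrp : r ≠ p)
    (hqn : ((q : ℕ) : ZMod r) ^ n = (ε : ZMod r)) :
    ∃ B : Matrix ι ι F, (∀ u, Qf (B *ᵥ u) = Qf u) ∧ B ^ r = 1 ∧ ∀ v, B *ᵥ v = v → v = 0 := by
  classical
  have hr1 : Fact r.Prime := ⟨hr⟩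
  obtain ⟨k, -, hk⟩ := FiniteField.card F p
  have hqr : ¬ r ∣ Fintype.card F := by
    rw [hk]
    intro hd
    exact hrp ((Nat.prime_dvd_prime_iff_eq hr hp.out).1 (hr.dvd_of_dvd_pow hd))
  obtain ⟨i, hi⟩ : ∃ i, i = orderOf (q : ZMod r) := ⟨_, rfl⟩
  have hdvd : i ∣ 2 * n := by
    rw [hi]
    apply orderOf_dvd_of_pow_eq_one
    rw [mul_comm, pow_mul, hqn]
    rcases hε with rfl | rfl
    · simp
    · simp
  obtain ⟨f, ⟨W, _, _, _, T, Q, hnd, hinv, hTr, hcp, hfix⟩, hdeg⟩ :=
    exists_qreal hF r i hr hr2 hrp hi n hdvd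
  have : Finite W := Module.finite_of_finite F
  have hdim : finrank F W = 2 * n := by
    rw [← LinearMap.charpoly_natDegree T, hcp, hdeg]
  obtain ⟨ε', hε', ht'⟩ := hasType_of_nondeg Q hnd n hdim
  have hlev := dvd_card_level Q T r hr hTr hinv hfix 1 one_ne_zero
  have hz := ht'.zmod r hlev hqr
  rw [hF, hqn] at hz
  have hεε : ε = ε' := eps_eq_of_zmod r hr hr2 hε hε' hz
  rw [← hεε] at ht'
  obtain ⟨b, hb⟩ := huniv W Q hnd hdim ht'
  obtain ⟨B, hB1, hB2, hB3⟩ := exists_matrix_of_model (fun v => Q v) Qf b hb T hinv r hTr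
  refine ⟨B, hB1, hB3, ?_⟩
  intro v hv
  by_contra hv0
  have h1 := eval_one_charpoly_of_fixed B v hv0 hv
  rw [hB2] at h1
  have h2 : Module.End.HasEigenvalue T 1 :=
    (Module.End.hasEigenvalue_iff_isRoot_charpoly T 1).2 h1
  obtain ⟨w, hw⟩ := h2.exists_hasEigenvector
  have h3 : T w = w := by
    have := hw.apply_eq_smul
    rwa [one_smul] at this
  exact hw.2 (hfix w h3)

end real

section invol

variable {F : Type*} [Field F] {V : Type*} [AddCommGroup V] [Module F V] [FiniteDimensional F V]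

omit [FiniteDimensional F V] in
/-- in characteristic two, `T² = 1` gives `(T-1)² = 0` -/
theorem sq_zero_of_invol [CharP F 2] (T : End F V) (hT : T * T = 1) : (T - 1) * (T - 1) = 0 := by
  have hTT : T + T = 0 := by rw [← two_smul F T, CharTwo.two_eq_zero, zero_smul]
  have h11 : (1 : End F V) + 1 = 0 := by
    rw [← two_smul F (1 : End F V), CharTwo.two_eq_zero, zero_smul]
  calc (T - 1) * (T - 1) = T * T - (T + T) + 1 := by noncomm_ring
    _ = 0 := by rw [hT, hTT, sub_zero, h11]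

/-- a square-zero endomorphism has a kernel of at least half the dimension -/
theorem finrank_le_two_mul_ker (N : End F V) (hN : N * N = 0) :
    finrank F V ≤ 2 * finrank F (LinearMap.ker N) := by
  have h1 := LinearMap.finrank_range_add_finrank_ker N
  have h2 : LinearMap.range N ≤ LinearMap.ker N := by
    rintro _ ⟨x, rfl⟩
    rw [LinearMap.mem_ker]
    have := congrArg (fun X : End F V => X x) hN
    exact this
  have h3 := Submodule.finrank_mono h2
  omega

/-- an isometry `T` with `(T-1)² = 0` whose fixed space is totally singular has `T - 1` of even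
rank -/
theorem even_rank_of_ts_ker (Q : QuadraticForm F V) (hnd : (polarBilin Q).Nondegenerate)
    (T : End F V) (hinv : ∀ u, Q (T u) = Q u) (hN : (T - 1) * (T - 1) = 0)
    (hts : ∀ u ∈ LinearMap.ker (T - 1), Q u = 0) :
    Even (finrank F (LinearMap.range (T - 1))) := by
  obtain ⟨N, hNdef⟩ : ∃ N : End F V, N = T - 1 := ⟨_, rfl⟩
  rw [← hNdef] at hN hts ⊢
  have hNN : ∀ x, N (N x) = 0 := by
    intro x
    have := congrArg (fun X : End F V => X x) hN
    exact this
  have hTx : ∀ x, T x = x + N x := by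
    intro x
    rw [hNdef, LinearMap.sub_apply, Module.End.one_apply]
    abel
  have halt : ∀ v, polar Q v (N v) = 0 := by
    intro v
    have h1 : Q (N v) = 0 := hts _ (by rw [LinearMap.mem_ker]; exact hNN v)
    have h2 := hinv v
    rw [hTx] at h2
    have h3 : Q (v + N v) = Q v + Q (N v) + polar Q v (N v) := by
      unfold QuadraticMap.polar
      ring
    rw [h3, h1] at h2
    linear_combination h2
  obtain ⟨C, hC⟩ := Submodule.exists_isCompl (LinearMap.ker N)
  have hdim : finrank F C = finrank F (LinearMap.range N) := by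
    have h1 := LinearMap.finrank_range_add_finrank_ker N
    have h2 := Submodule.finrank_add_eq_of_isCompl hC
    omega
  let γ : LinearMap.BilinForm F V := (polarBilin Q).compl₂ N
  have hγ : ∀ u v, γ u v = polar Q u (N v) := fun u v => rfl
  have hγalt : ∀ v, γ v v = 0 := fun v => by rw [hγ]; exact halt v
  let γ' : LinearMap.BilinForm F C := γ.restrict C
  have hγ' : ∀ a b : C, γ' a b = γ a.1 b.1 := fun a b => rfl
  obtain ⟨k, e, f, hk, -⟩ := Cfsg.Agent.Lib.Helper15.SymIso.exists_hyp (finrank F C) C γ'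
    (fun x => by rw [hγ']; exact hγalt x.1)
    (by
      intro x hx
      -- `x` is in the left radical of `γ` restricted to `C`, hence of `γ`
      have h1 : ∀ v : V, γ x.1 v = 0 := by
        intro v
        obtain ⟨k', hk', c, hc, rfl⟩ : ∃ k' ∈ LinearMap.ker N, ∃ c ∈ C, k' + c = v := by
          have := Submodule.mem_sup.1 (by rw [hC.sup_eq_top]; exact Submodule.mem_top :
            v ∈ LinearMap.ker N ⊔ C)
          exact this
        rw [hγ, map_add, LinearMap.mem_ker.1 hk', zero_add]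
        have := hx ⟨c, hc⟩
        rw [hγ', hγ] at this
        exact this
      have h2 : ∀ v : V, γ v x.1 = 0 := by
        intro v
        rw [Cfsg.Agent.Lib.Helper15.SymIso.alt_swap γ hγalt x.1 v, h1, neg_zero]
      have h3 : N x.1 = 0 := by
        apply hnd.2
        intro v
        have := h2 v
        rw [hγ] at this
        rw [polarBilin_apply_apply]
        exact this
      have h4 : x.1 ∈ LinearMap.ker N ⊓ C := ⟨LinearMap.mem_ker.2 h3, x.2⟩
      rw [hC.inf_eq_bot, Submodule.mem_bot] at h4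
      exact Subtype.ext h4) rfl
  rw [← hdim, ← hk]
  exact ⟨k, by ring⟩


/-- vectors of a line are multiples of any nonzero vector of it -/
theorem exists_smul_of_finrank_one (W : Submodule F V) (hW : finrank F W = 1) (v : V) (hv : v ∈ W)
    (hv0 : v ≠ 0) (w : V) (hw : w ∈ W) : ∃ c : F, w = c • v := by
  have hspan : Submodule.span F {v} = W := by
    apply Submodule.eq_of_le_of_finrank_eq
    · rw [Submodule.span_singleton_le_iff_mem]
      exact hv
    · rw [finrank_span_singleton hv0, hW]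
  rw [← hspan] at hw
  obtain ⟨c, hc⟩ := Submodule.mem_span_singleton.1 hw
  exact ⟨c, hc.symm⟩

omit [FiniteDimensional F V] in
/-- in characteristic two the only square root of one is one -/
theorem eq_one_of_mul_self [CharP F 2] (z : F) (hz : z * z = 1) : z = 1 := by
  have h1 : (z - 1) * (z - 1) = 0 := by
    have h2 : (2 : F) = 0 := CharTwo.two_eq_zero
    linear_combination hz - z * h2 + h2
  have := mul_self_eq_zero.1 h1
  exact sub_eq_zero.1 this

/-- in characteristic two an isometry fixing a nonsingular point fixes its vectors -/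
theorem fixed_vector_of_fixed_point [CharP F 2] (Q : QuadraticForm F V) (T : End F V)
    (hinv : ∀ u, Q (T u) = Q u) (W : Submodule F V) (hW : finrank F W = 1) (v : V) (hv : v ∈ W)
    (hQv : Q v ≠ 0) (hWT : W.map T ≤ W) : T v = v := by
  have hv0 : v ≠ 0 := by
    rintro rfl
    exact hQv (QuadraticMap.map_zero Q)
  obtain ⟨c, hc⟩ := exists_smul_of_finrank_one W hW v hv hv0 (T v)
    (hWT (Submodule.mem_map_of_mem hv))
  have h1 := hinv v
  rw [hc, QuadraticMap.map_smul, smul_eq_mul] at h1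
  have h2 : c * c = 1 := by
    have h3 : (c * c - 1) * Q v = 0 := by linear_combination h1
    rcases mul_eq_zero.1 h3 with h4 | h4
    · exact sub_eq_zero.1 h4
    · exact absurd h4 hQv
  rw [hc, eq_one_of_mul_self c h2, one_smul]

end invol

end Cfsg.Agent.Lib.Helper15.NonsingPts
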