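import Mathlib

set_option autoImplicit false

namespace Cfsg.Agent.Lib.Helper15.ParaCount

open Matrix

section generic

variable {ι : Type*} [Fintype ι] [DecidableEq ι] {α : Type*} [Fintype α] [LinearOrder α]
variable {F : Type*} [Field F]

/-- splitting a block triangular matrix into its diagonal blocks and its upper entries -/
def splitEquiv (b : ι → α) :
    {M : Matrix ι ι F // M.BlockTriangular b} ≃
      ((a : α) → Matrix {i // b i = a} {i // b i = a} F) × ({p : ι × ι // b p.1 < b p.2} → F) where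
  toFun M := (fun a => M.1.toSquareBlock b a, fun p => M.1 p.1.1 p.1.2)
  invFun x := ⟨fun i j => if h : b i = b j then x.1 (b i) ⟨i, rfl⟩ ⟨j, h.symm⟩
      else if h2 : b i < b j then x.2 ⟨(i, j), h2⟩ else 0, by
    intro i j hij
    have h1 : ¬ b i = b j := fun h => by rw [h] at hij; exact lt_irrefl _ hij
    have h2 : ¬ b i < b j := not_lt_of_gt hij
    simp only [dif_neg h1, dif_neg h2]⟩
  left_inv M := by
    apply Subtype.ext
    ext i j
    dsimp only
    split_ifs with h h2
    · rfl
    · rfl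
    · exact (M.2 (lt_of_le_of_ne (not_lt.mp h2) (Ne.symm h))).symm
  right_inv x := by
    apply Prod.ext
    · funext a
      ext ⟨i, hi⟩ ⟨j, hj⟩
      subst hi
      change (if h : b i = b j then x.1 (b i) ⟨i, rfl⟩ ⟨j, h.symm⟩
        else if h2 : b i < b j then x.2 ⟨(i, j), h2⟩ else 0) = _
      rw [dif_pos hj.symm]
    · funext ⟨⟨i, j⟩, h⟩
      have h1 : ¬ b i = b j := fun h' => by
        have h'' : b i < b j := h
        rw [h'] at h''; exact lt_irrefl _ h''
      simp only [dif_neg h1]
      rw [dif_pos h]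

theorem splitEquiv_det (b : ι → α) (M : {M : Matrix ι ι F // M.BlockTriangular b}) :
    M.1.det = ∏ a : α, ((splitEquiv b M).1 a).det :=
  M.2.det_fintype

/-- invertible matrices as a subtype -/
noncomputable def glEquiv (κ : Type*) [Fintype κ] [DecidableEq κ] :
    GL κ F ≃ {A : Matrix κ κ F // IsUnit A.det} where
  toFun g := ⟨g.1, Matrix.isUnits_det_units g⟩
  invFun A := Matrix.GeneralLinearGroup.mk'' A.1 A.2
  left_inv g := by
    apply Units.ext
    rfl
  right_inv A := by
    apply Subtype.ext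
    rfl

/-- step 1 -/
noncomputable def e1 (b : ι → α) :
    {g : GL ι F // (g : Matrix ι ι F).BlockTriangular b} ≃
      {M : {M : Matrix ι ι F // M.BlockTriangular b} // IsUnit M.1.det} where
  toFun g := ⟨⟨g.1.1, g.2⟩, Matrix.isUnits_det_units g.1⟩
  invFun M := ⟨Matrix.GeneralLinearGroup.mk'' M.1.1 M.2, M.1.2⟩
  left_inv g := by
    apply Subtype.ext
    apply Units.ext
    rfl
  right_inv M := by
    apply Subtype.ext
    apply Subtype.ext
    rfl

/-- step 2 -/
def e2 (b : ι → α) :
    {M : {M : Matrix ι ι F // M.BlockTriangular b} // IsUnit M.1.det} ≃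
      {x : ((a : α) → Matrix {i // b i = a} {i // b i = a} F) ×
        ({p : ι × ι // b p.1 < b p.2} → F) // ∀ a, IsUnit (x.1 a).det} :=
  (splitEquiv b).subtypeEquiv (by
    intro M
    rw [splitEquiv_det b M]
    simp only [isUnit_iff_ne_zero]
    rw [Finset.prod_ne_zero_iff]
    simp)

/-- step 3 -/
def e3 (b : ι → α) :
    {x : ((a : α) → Matrix {i // b i = a} {i // b i = a} F) ×
        ({p : ι × ι // b p.1 < b p.2} → F) // ∀ a, IsUnit (x.1 a).det} ≃
      ((a : α) → {A : Matrix {i // b i = a} {i // b i = a} F // IsUnit A.det}) ×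
        ({p : ι × ι // b p.1 < b p.2} → F) where
  toFun x := (fun a => ⟨x.1.1 a, x.2 a⟩, x.1.2)
  invFun y := ⟨(fun a => (y.1 a).1, y.2), fun a => (y.1 a).2⟩
  left_inv _ := rfl
  right_inv _ := rfl

variable [Fintype F]

theorem card_blockTriangular (b : ι → α) :
    Nat.card {g : GL ι F // (g : Matrix ι ι F).BlockTriangular b} =
      (∏ a : α, Nat.card (GL {i // b i = a} F)) *
        Fintype.card F ^ Nat.card {p : ι × ι // b p.1 < b p.2} := by
  classical
  rw [Nat.card_congr (((e1 b).trans (e2 b)).trans (e3 b)), Nat.card_prod, Nat.card_pi,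
    Nat.card_fun, Nat.card_eq_fintype_card (α := F)]
  congr 1
  apply Finset.prod_congr rfl
  intro a _
  exact (Nat.card_congr (glEquiv _)).symm

/-- the order of `GL_m(q)` -/
def gam (q m : ℕ) : ℕ := ∏ i : Fin m, (q ^ m - q ^ (i : ℕ))

theorem card_GL_of_card (κ : Type*) [Fintype κ] [DecidableEq κ] :
    Nat.card (GL κ F) = gam (Fintype.card F) (Fintype.card κ) := by
  have e : GL κ F ≃* GL (Fin (Fintype.card κ)) F :=
    Units.mapEquiv (Matrix.reindexAlgEquiv F F (Fintype.equivFin κ)).toMulEquiv
  rw [Nat.card_congr e.toEquiv, Matrix.card_GL_field]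
  rfl

omit [Fintype α] [LinearOrder α] in
theorem sum_card_fiber [DecidableEq α] [Fintype α] (b : ι → α) :
    ∑ a : α, Fintype.card {i // b i = a} = Fintype.card ι := by
  classical
  simp only [Fintype.card_subtype]
  rw [← Finset.card_univ (α := ι), Finset.card_eq_sum_card_fiberwise (f := b) (t := Finset.univ)]
  intro x _
  exact Finset.mem_univ _

theorem pair_count (b : ι → α) :
    2 * Nat.card {p : ι × ι // b p.1 < b p.2} + ∑ a : α, Fintype.card {i // b i = a} ^ 2 =
      Fintype.card ι ^ 2 := by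
  classical
  rw [Nat.card_eq_fintype_card, Fintype.card_subtype]
  have hswap : (Finset.univ.filter (fun p : ι × ι => b p.2 < b p.1)).card =
      (Finset.univ.filter (fun p : ι × ι => b p.1 < b p.2)).card := by
    apply Finset.card_bij (fun p _ => (p.2, p.1))
    · intro p hp
      simpa using hp
    · intro p _ p' _ h
      simp only [Prod.mk.injEq] at h
      exact Prod.ext h.2 h.1
    · intro p hp
      refine ⟨(p.2, p.1), ?_, rfl⟩
      simpa using hp
  have heq : (Finset.univ.filter (fun p : ι × ι => b p.1 = b p.2)).card =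
      ∑ a : α, Fintype.card {i // b i = a} ^ 2 := by
    rw [Finset.card_eq_sum_card_fiberwise (f := fun p : ι × ι => b p.1) (t := Finset.univ)
      (fun x _ => Finset.mem_univ _)]
    apply Finset.sum_congr rfl
    intro a _
    rw [Fintype.card_subtype, pow_two, ← Finset.card_product]
    congr 1
    ext ⟨i, j⟩
    simp only [Finset.mem_filter, Finset.mem_univ, true_and, Finset.mem_product]
    constructor
    · rintro ⟨h1, h2⟩
      exact ⟨h2, by rw [← h1, h2]⟩
    · rintro ⟨h1, h2⟩
      exact ⟨by rw [h1, h2], h1⟩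
  have htot : (Finset.univ.filter (fun p : ι × ι => b p.1 < b p.2)).card +
      (Finset.univ.filter (fun p : ι × ι => b p.2 < b p.1)).card +
      (Finset.univ.filter (fun p : ι × ι => b p.1 = b p.2)).card = Fintype.card ι ^ 2 := by
    rw [pow_two, ← Fintype.card_prod, ← Finset.card_univ (α := ι × ι)]
    simp only [Finset.card_filter]
    rw [← Finset.sum_add_distrib, ← Finset.sum_add_distrib, Finset.card_eq_sum_ones]
    apply Finset.sum_congr rfl
    intro p _
    rcases lt_trichotomy (b p.1) (b p.2) with h | h | h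
    · simp [h, h.ne, not_lt_of_gt h]
    · simp [h]
    · simp [h, h.ne', not_lt_of_gt h]
  rw [← heq]
  omega

end generic

section arith

/-- triangular numbers -/
def tri (m : ℕ) : ℕ := ∑ i ∈ Finset.range m, i

/-- the `q`-factorial -/
def qfac (q m : ℕ) : ℕ := ∏ j ∈ Finset.range m, ∑ l ∈ Finset.range (j + 1), q ^ l

theorem tri_two (m : ℕ) : 2 * tri m + m = m ^ 2 := by
  have := Finset.sum_range_id_mul_two m
  unfold tri
  rcases m with _ | m
  · simp
  · rw [Nat.add_sub_cancel] at this
    nlinarith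

theorem geom (q : ℕ) (hq : 1 ≤ q) (k : ℕ) :
    (q - 1) * ∑ l ∈ Finset.range k, q ^ l + 1 = q ^ k := by
  induction k with
  | zero => simp
  | succ k ih =>
    rw [Finset.sum_range_succ, mul_add, pow_succ]
    obtain ⟨r, rfl⟩ : ∃ r, q = r + 1 := ⟨q - 1, by omega⟩
    rw [Nat.add_sub_cancel] at ih ⊢
    nlinarith

theorem gam_eq (q : ℕ) (hq : 1 ≤ q) (m : ℕ) :
    gam q m = q ^ tri m * (q - 1) ^ m * qfac q m := by
  unfold gam tri qfac
  rw [Fin.prod_univ_eq_prod_range (fun i => q ^ m - q ^ i) m]
  have h1 : ∀ i ∈ Finset.range m, q ^ m - q ^ i =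
      q ^ i * ((q - 1) * ∑ l ∈ Finset.range (m - 1 - i + 1), q ^ l) := by
    intro i hi
    rw [Finset.mem_range] at hi
    have e : m - 1 - i + 1 = m - i := by omega
    rw [e]
    have := geom q hq (m - i)
    have h2 : q ^ m = q ^ i * q ^ (m - i) := by rw [← pow_add]; congr 1; omega
    rw [h2, ← this, mul_add, mul_one, Nat.add_sub_cancel]
  rw [Finset.prod_congr rfl h1, Finset.prod_mul_distrib, Finset.prod_mul_distrib,
    Finset.prod_pow_eq_pow_sum, Finset.prod_const, Finset.card_range,
    Finset.prod_range_reflect (fun j => ∑ l ∈ Finset.range (j + 1), q ^ l) m, mul_assoc]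

theorem arith_main {α : Type*} [Fintype α] (q : ℕ) (hq : 2 ≤ q) (c : α → ℕ) (n U idx : ℕ)
    (hsum : ∑ a, c a = n) (hU : 2 * U + ∑ a, c a ^ 2 = n ^ 2)
    (h : idx * ((∏ a, gam q (c a)) * q ^ U) = gam q n) :
    idx * ∏ a, qfac q (c a) = qfac q n := by
  have hq1 : 1 ≤ q := by omega
  have htri : ∑ a, tri (c a) + U = tri n := by
    have h1 : ∑ a, (2 * tri (c a) + c a) = ∑ a, c a ^ 2 :=
      Finset.sum_congr rfl (fun a _ => tri_two (c a))
    rw [Finset.sum_add_distrib, ← Finset.mul_sum, hsum] at h1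
    have h2 := tri_two n
    omega
  simp only [gam_eq q hq1] at h
  rw [Finset.prod_mul_distrib, Finset.prod_mul_distrib, Finset.prod_pow_eq_pow_sum,
    Finset.prod_pow_eq_pow_sum, hsum] at h
  have hpos : 0 < q ^ tri n * (q - 1) ^ n :=
    Nat.mul_pos (Nat.pow_pos (by omega)) (Nat.pow_pos (by omega))
  apply Nat.eq_of_mul_eq_mul_left hpos
  rw [← h, ← htri, pow_add]
  ring

end arith

end Cfsg.Agent.Lib.Helper15.ParaCount
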