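import Mathlib
import Cfsg.Agent.S2581
import Cfsg.Agent.Lib.Helper15.NilpotentConj
import Cfsg.Agent.Lib.Helper15.SpReal

set_option autoImplicit false

namespace Cfsg.Agent.Lib.Helper15.UniJordan

open Module Cfsg.Agent.Lib.Helper15.SemisimpleConj Cfsg.Agent.Lib.Helper15.NilpotentConj
open scoped Matrix

universe u

section typeOf

variable {t : ℕ} (d : Fin t → ℕ)

/-- the multiset of block sizes -/
def typeOf : Multiset ℕ := Finset.univ.val.map d

lemma count_typeOf (j : ℕ) :
    (typeOf d).count j = (Finset.univ.filter (fun k : Fin t => d k = j)).card := by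
  unfold typeOf
  rw [Multiset.count_map, Finset.card_def, Finset.filter_val]
  congr 1
  apply Multiset.filter_congr
  intro x _
  exact eq_comm

lemma sum_typeOf : (typeOf d).sum = ∑ k, d k := rfl

lemma mem_typeOf (hd : ∀ k, 1 ≤ d k) : ∀ a ∈ typeOf d, 1 ≤ a := by
  intro a ha
  unfold typeOf at ha
  rw [Multiset.mem_map] at ha
  obtain ⟨k, _, rfl⟩ := ha
  exact hd k

lemma kapm_typeOf (s : ℕ) : kapm (typeOf d) s = ∑ k, min (d k) s := by
  unfold kapm typeOf
  rw [Multiset.map_map]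
  rfl

end typeOf

section nilp

variable {F : Type u} [Field F]

/-- an endomorphism whose kernel dimensions follow a Jordan type of full size is nilpotent -/
lemma nilpotent_of_kap {V : Type*} [AddCommGroup V] [Module F V] [FiniteDimensional F V]
    (T : End F V) (μ : Multiset ℕ) (h : ∀ s, kap T s = kapm μ s) (hfr : finrank F V = μ.sum) :
    IsNilpotent T := by
  refine ⟨μ.sum, ?_⟩
  rw [pow_eq_zero_iff_kap, h, hfr, kapm_eq_sum_iff]
  intro a ha
  exact Multiset.le_sum_of_mem ha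

lemma finrank_of_kap {V : Type*} [AddCommGroup V] [Module F V] [FiniteDimensional F V]
    (T : End F V) (μ : Multiset ℕ) (h : ∀ s, kap T s = kapm μ s) (hT : IsNilpotent T) :
    finrank F V = μ.sum := by
  obtain ⟨k, hk⟩ := hT
  have h1 : T ^ (k + μ.sum) = 0 := by rw [pow_add, hk, zero_mul]
  rw [pow_eq_zero_iff_kap, h] at h1
  rw [← h1, kapm_eq_sum_iff]
  intro a ha
  have := Multiset.le_sum_of_mem ha
  omega

end nilp

section conj

variable {F : Type u} [Field F] {ι : Type} [Fintype ι] [DecidableEq ι]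

/-- unipotent matrices with the same kernel dimensions are conjugate -/
theorem isConj_of_kap (M N : Matrix ι ι F) (hM : IsNilpotent (Matrix.toLin' M - 1))
    (hN : IsNilpotent (Matrix.toLin' N - 1))
    (h : ∀ s, kap (Matrix.toLin' M - 1) s = kap (Matrix.toLin' N - 1) s) : IsConj M N := by
  obtain ⟨e, he⟩ := conj_of_kap_eq (Fintype.card ι) (ι → F) (ι → F) (Matrix.toLin' M - 1)
    (Matrix.toLin' N - 1) (Module.finrank_fintype_fun_eq_card F)
    (Module.finrank_fintype_fun_eq_card F) hM hN h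
  have he' : ∀ v, e (Matrix.toLin' M v) = Matrix.toLin' N (e v) := by
    intro v
    have := he v
    rw [LinearMap.sub_apply, LinearMap.sub_apply, map_sub] at this
    simpa using this
  let Q : End F (ι → F) := (e : (ι → F) →ₗ[F] (ι → F))
  let Q' : End F (ι → F) := (e.symm : (ι → F) →ₗ[F] (ι → F))
  have hQQ' : Q * Q' = 1 := by
    apply LinearMap.ext; intro v; exact e.apply_symm_apply v
  have hQ'Q : Q' * Q = 1 := by
    apply LinearMap.ext; intro v; exact e.symm_apply_apply v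
  have hQT : Q * Matrix.toLin' M = Matrix.toLin' N * Q := by
    apply LinearMap.ext
    intro v
    exact he' v
  refine ⟨⟨LinearMap.toMatrixAlgEquiv' Q, LinearMap.toMatrixAlgEquiv' Q', ?_, ?_⟩, ?_⟩
  · rw [← map_mul, hQQ', map_one]
  · rw [← map_mul, hQ'Q, map_one]
  · show LinearMap.toMatrixAlgEquiv' Q * M = N * LinearMap.toMatrixAlgEquiv' Q
    have h1 : M = LinearMap.toMatrixAlgEquiv' (Matrix.toLin' M) :=
      (LinearMap.toMatrix'_toLin' M).symm
    have h2 : N = LinearMap.toMatrixAlgEquiv' (Matrix.toLin' N) :=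
      (LinearMap.toMatrix'_toLin' N).symm
    rw [h1, h2, ← map_mul, ← map_mul, hQT]

/-- conjugate matrices have the same kernel dimensions -/
theorem kap_of_isConj (M N : Matrix ι ι F) (h : IsConj M N) (s : ℕ) :
    kap (Matrix.toLin' M - 1) s = kap (Matrix.toLin' N - 1) s := by
  obtain ⟨c, hc⟩ := h
  have hc' : (c : Matrix ι ι F) * M = N * (c : Matrix ι ι F) := hc
  apply kap_conj
  have h1 : (c⁻¹ : (Matrix ι ι F)ˣ).val * c.val = 1 := by
    rw [← Units.val_mul, inv_mul_cancel, Units.val_one]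
  have h2 : c.val * (c⁻¹ : (Matrix ι ι F)ˣ).val = 1 := by
    rw [← Units.val_mul, mul_inv_cancel, Units.val_one]
  refine ⟨Matrix.toLin'OfInv h1 h2, fun v => ?_⟩
  show Matrix.toLin' c.val ((Matrix.toLin' M - 1) v) = (Matrix.toLin' N - 1) (Matrix.toLin' c.val v)
  rw [LinearMap.sub_apply, LinearMap.sub_apply, map_sub, ← Matrix.toLin'_mul_apply,
    ← Matrix.toLin'_mul_apply, hc']
  rfl

end conj

section jordan

variable {F : Type u} [Field F] [Fintype F] {t : ℕ} (d : Fin t → ℕ)

lemma kap_Nmat (s : ℕ) :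
    kap (Matrix.toLin' (Cfsg.Agent.S2581.Nmat (F := F) d)) s = ∑ k, min (d k) s := by
  unfold kap
  have h1 : LinearMap.ker ((Matrix.toLin' (Cfsg.Agent.S2581.Nmat (F := F) d)) ^ s) =
      Cfsg.Agent.S2581.Ksub d s := by
    ext f
    rw [LinearMap.mem_ker, Cfsg.Agent.S2581.mem_Ksub_iff, ← Matrix.toLin'_pow, Matrix.toLin'_apply]
  rw [h1]
  have h2 := Cfsg.Agent.S2581.card_Ksub (F := F) d s
  rw [Module.natCard_eq_pow_finrank (K := F), Nat.card_eq_fintype_card] at h2
  exact Nat.pow_right_injective Fintype.one_lt_card h2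

variable {ι : Type} [Fintype ι] [DecidableEq ι]

/-- the kernel dimensions of the Jordan matrix of type `d` -/
theorem kap_jordan (e : ((k : Fin t) × Fin (d k)) ≃ ι) (s : ℕ) :
    kap (Matrix.toLin' (Matrix.reindex e e (Cfsg.jordanTypeMatrix d F)) - 1) s =
      kapm (typeOf d) s := by
  rw [kapm_typeOf, ← kap_Nmat (F := F)]
  symm
  apply kap_conj
  refine ⟨LinearEquiv.funCongrLeft F F e.symm, fun v => ?_⟩
  funext i
  rw [LinearMap.sub_apply]
  show (Cfsg.Agent.S2581.Nmat d *ᵥ v) (e.symm i) =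
    ((Matrix.reindex e e (Cfsg.jordanTypeMatrix d F)) *ᵥ (v ∘ e.symm)) i - (v ∘ e.symm) i
  rw [Matrix.reindex_apply, Matrix.submatrix_mulVec_equiv]
  unfold Cfsg.Agent.S2581.Nmat
  rw [Matrix.sub_mulVec, Matrix.one_mulVec]
  simp [Function.comp_def]

theorem nilpotent_jordan (e : ((k : Fin t) × Fin (d k)) ≃ ι) :
    IsNilpotent (Matrix.toLin' (Matrix.reindex e e (Cfsg.jordanTypeMatrix d F)) - 1) := by
  apply nilpotent_of_kap _ (typeOf d) (kap_jordan d e)
  rw [Module.finrank_fintype_fun_eq_card, ← Fintype.card_congr e, Fintype.card_sigma, sum_typeOf]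
  simp

/-- a model with the kernel dimensions of type `d` transports to a matrix conjugate to the Jordan
matrix -/
theorem isConj_of_model (W : Type u) [AddCommGroup W] [Module F W] [FiniteDimensional F W]
    (T : End F W) (hT : IsNilpotent (T - 1)) (hk : ∀ s, kap (T - 1) s = kapm (typeOf d) s)
    (E : W ≃ₗ[F] (ι → F)) (e : ((k : Fin t) × Fin (d k)) ≃ ι) :
    IsConj (Matrix.reindex e e (Cfsg.jordanTypeMatrix d F)) (LinearMap.toMatrix' (E.conj T)) := by
  have hc : Conj (T - 1) (Matrix.toLin' (LinearMap.toMatrix' (E.conj T)) - 1) := by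
    refine ⟨E, fun v => ?_⟩
    rw [Matrix.toLin'_toMatrix', LinearMap.sub_apply, LinearMap.sub_apply, map_sub,
      LinearEquiv.conj_apply]
    simp
  apply isConj_of_kap
  · exact nilpotent_jordan d e
  · obtain ⟨k, hk'⟩ := hT
    refine ⟨k, ?_⟩
    rw [pow_eq_zero_iff_kap, ← kap_conj hc, ← E.finrank_eq, ← pow_eq_zero_iff_kap]
    exact hk'
  · intro s
    rw [kap_jordan, ← kap_conj hc, hk]

end jordan

section symp

variable {F : Type u} [Field F]

lemma J_alt (m : ℕ) (u : Fin m ⊕ Fin m → F) : u ⬝ᵥ (Matrix.J (Fin m) F) *ᵥ u = 0 := by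
  have := Cfsg.Agent.Lib.Helper15.sympForm_eq (F := F) m u u
  unfold Cfsg.sympForm at this
  rw [this]
  apply Finset.sum_eq_zero
  intro i _
  ring

lemma J_nondeg (m : ℕ) (u : Fin m ⊕ Fin m → F)
    (hu : ∀ v, u ⬝ᵥ (Matrix.J (Fin m) F) *ᵥ v = 0) : u = 0 := by
  classical
  have hJ2 : (Matrix.J (Fin m) F) * (-(Matrix.J (Fin m) F)) = 1 := by
    rw [Matrix.mul_neg, Matrix.J_squared, neg_neg]
  have h1 : Matrix.vecMul u (Matrix.J (Fin m) F) = 0 := by
    funext j
    have := hu (Pi.single j 1)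
    rw [Matrix.dotProduct_mulVec, dotProduct_single, mul_one] at this
    exact this
  have h2 : Matrix.vecMul (Matrix.vecMul u (Matrix.J (Fin m) F)) (-(Matrix.J (Fin m) F)) = u := by
    rw [Matrix.vecMul_vecMul, hJ2, Matrix.vecMul_one]
  rw [← h2, h1, Matrix.zero_vecMul]

/-- a nondegenerate alternating space of dimension `2m` is the standard one -/
theorem exists_darboux {W : Type u} [AddCommGroup W] [Module F W] [FiniteDimensional F W]
    (β : LinearMap.BilinForm F W) (halt : β.IsAlt) (hnd : ∀ x, (∀ y, β x y = 0) → x = 0)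
    (m : ℕ) (hfr : finrank F W = m + m) :
    ∃ E : W ≃ₗ[F] (Fin m ⊕ Fin m → F),
      ∀ x y, (E x) ⬝ᵥ (Matrix.J (Fin m) F) *ᵥ (E y) = β x y := by
  classical
  have hfr' : finrank F W = finrank F (Fin m ⊕ Fin m → F) := by
    rw [hfr, Module.finrank_fintype_fun_eq_card, Fintype.card_sum, Fintype.card_fin]
  let e : W ≃ₗ[F] (Fin m ⊕ Fin m → F) := LinearEquiv.ofFinrankEq _ _ hfr'
  let βJ : LinearMap.BilinForm F W :=
    (Matrix.toBilin' (Matrix.J (Fin m) F)).compl₁₂ e.toLinearMap e.toLinearMap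
  have hβJ : ∀ x y, βJ x y = (e x) ⬝ᵥ (Matrix.J (Fin m) F) *ᵥ (e y) := by
    intro x y
    show Matrix.toBilin' (Matrix.J (Fin m) F) (e x) (e y) = _
    rw [Matrix.toBilin'_apply']
  have hβJalt : βJ.IsAlt := by
    intro x
    rw [hβJ, J_alt]
  have hβJnd : ∀ x, (∀ y, βJ x y = 0) → x = 0 := by
    intro x hx
    have h1 : e x = 0 := by
      apply J_nondeg
      intro v
      have := hx (e.symm v)
      rw [hβJ, LinearEquiv.apply_symm_apply] at this
      exact this
    exact e.map_eq_zero_iff.1 h1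
  obtain ⟨θ, hθ⟩ := Cfsg.Agent.Lib.Helper15.AltIso.exists_isometry_of_alt βJ β hβJalt halt hβJnd hnd
  refine ⟨θ.trans e, fun x y => ?_⟩
  rw [← hθ, hβJ]
  rfl

/-- an isometry of a Darboux-coordinatised space gives a symplectic matrix -/
theorem mem_symplectic_of_isometry {W : Type u} [AddCommGroup W] [Module F W]
    [FiniteDimensional F W] (β : LinearMap.BilinForm F W) (m : ℕ)
    (E : W ≃ₗ[F] (Fin m ⊕ Fin m → F))
    (hE : ∀ x y, (E x) ⬝ᵥ (Matrix.J (Fin m) F) *ᵥ (E y) = β x y)
    (T : End F W) (hinv : ∀ x y, β (T x) (T y) = β x y) :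
    LinearMap.toMatrix' (E.conj T) ∈ Matrix.symplecticGroup (Fin m) F := by
  classical
  have hS : ∀ u, (E.conj T) u = E (T (E.symm u)) := by
    intro u
    rw [LinearEquiv.conj_apply]
    rfl
  rw [SymplecticGroup.mem_iff']
  apply Cfsg.Agent.Lib.Helper15.AltGlue.mat_ext_bilin'
  intro u v
  have h1 : ∀ w, (LinearMap.toMatrix' (E.conj T)) *ᵥ w = E (T (E.symm w)) := by
    intro w
    rw [← Matrix.toLin'_apply, Matrix.toLin'_toMatrix', hS]
  rw [Matrix.mul_assoc, ← Cfsg.Agent.Lib.Helper15.AltGlue.dot_mulVec', ← Matrix.mulVec_mulVec, h1,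
    h1, hE, hinv, ← hE, LinearEquiv.apply_symm_apply, LinearEquiv.apply_symm_apply]

end symp

end Cfsg.Agent.Lib.Helper15.UniJordan
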