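import Mathlib
import Cfsg.Agent.Lib.Helper15.UniForm
import Cfsg.Agent.Lib.Helper15.QuadReal

set_option autoImplicit false

namespace Cfsg.Agent.Lib.Helper15.UniModels

open Module Cfsg.Agent.Lib.Helper15.SemisimpleConj Cfsg.Agent.Lib.Helper15.NilpotentConj
  Cfsg.Agent.Lib.Helper15.UniForm

universe u

section shift

variable (F : Type u) [Field F]

/-- the space carrying a single Jordan block of size `k` -/
abbrev Vk (k : ℕ) : Type u := (Σ _ : Unit, Fin k) → F

/-- the standard nilpotent shift of size `k` -/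
def Sk (k : ℕ) : End F (Vk F k) := Jmod F (fun _ : Unit => k)

lemma Sk_apply (k : ℕ) (f : Vk F k) (i : Fin k) :
    Sk F k f ⟨(), i⟩ = if h : i.1 + 1 < k then f ⟨(), ⟨i.1 + 1, h⟩⟩ else 0 := rfl

lemma kap_Sk (k s : ℕ) : kap (Sk F k) s = min k s := by
  unfold Sk
  rw [kap_Jmod]
  simp

lemma Sk_pow_eq_zero (k : ℕ) : (Sk F k) ^ k = 0 := by
  rw [pow_eq_zero_iff_kap, kap_Sk, Module.finrank_fintype_fun_eq_card, Fintype.card_sigma]
  simp

lemma finrank_Vk (k : ℕ) : finrank F (Vk F k) = k := by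
  rw [Module.finrank_fintype_fun_eq_card, Fintype.card_sigma]
  simp

/-- the reversal pairing, twisted by a sign character `c^i` -/
def pairB (k : ℕ) (c : F) : LinearMap.BilinForm F (Vk F k) :=
  LinearMap.mk₂ F (fun f g => ∑ i : Fin k, c ^ (i : ℕ) * (f ⟨(), i⟩ * g ⟨(), Fin.rev i⟩))
    (by intro f f' g; simp only [Pi.add_apply, add_mul, mul_add, Finset.sum_add_distrib])
    (by intro a f g; simp only [Pi.smul_apply, smul_eq_mul, Finset.mul_sum]
        apply Finset.sum_congr rfl; intro i _; ring)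
    (by intro f g g'; simp only [Pi.add_apply, mul_add, Finset.sum_add_distrib])
    (by intro a f g; simp only [Pi.smul_apply, smul_eq_mul, Finset.mul_sum]
        apply Finset.sum_congr rfl; intro i _; ring)

lemma pairB_apply (k : ℕ) (c : F) (f g : Vk F k) :
    pairB F k c f g = ∑ i : Fin k, c ^ (i : ℕ) * (f ⟨(), i⟩ * g ⟨(), Fin.rev i⟩) := rfl

lemma pairB_single (k : ℕ) (c : F) (f : Vk F k) (j : Fin k) :
    pairB F k c f (Pi.single ⟨(), Fin.rev j⟩ 1) = c ^ (j : ℕ) * f ⟨(), j⟩ := by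
  classical
  rw [pairB_apply, Finset.sum_eq_single j]
  · rw [Pi.single_eq_same, mul_one]
  · intro i _ hij
    rw [Pi.single_eq_of_ne, mul_zero, mul_zero]
    intro h
    apply hij
    have h1 : Fin.rev i = Fin.rev j := by
      have := (Sigma.mk.inj h).2
      exact eq_of_heq this
    exact Fin.rev_injective h1
  · intro h
    exact absurd (Finset.mem_univ _) h

lemma pairB_nondeg (k : ℕ) (c : F) (hc : c ≠ 0) (f : Vk F k)
    (h : ∀ g, pairB F k c f g = 0) : f = 0 := by
  classical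
  funext x
  obtain ⟨⟨⟩, j⟩ := x
  have := h (Pi.single ⟨(), Fin.rev j⟩ 1)
  rw [pairB_single] at this
  rcases mul_eq_zero.1 this with h1 | h1
  · exact absurd h1 (pow_ne_zero _ hc)
  · exact h1

/-- symmetry up to the sign `c^(k-1)` when `c² = 1` -/
lemma pairB_comm (k : ℕ) (c : F) (hc : c * c = 1) (f g : Vk F k) :
    pairB F k c g f = c ^ (k - 1) * pairB F k c f g := by
  rw [pairB_apply, pairB_apply, Finset.mul_sum, ← Equiv.sum_comp Fin.revPerm]
  apply Finset.sum_congr rfl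
  intro i _
  rw [Fin.revPerm_apply, Fin.rev_rev]
  have h1 : ((Fin.rev i : Fin k) : ℕ) = k - 1 - i := by
    rw [Fin.val_rev]; omega
  have h2 : c ^ (k - 1) * c ^ (i : ℕ) = c ^ (k - 1 - (i : ℕ)) := by
    have h3 : k - 1 = (k - 1 - (i : ℕ)) + i := by have := i.2; omega
    have h4 : c ^ (i : ℕ) * c ^ (i : ℕ) = 1 := by rw [← mul_pow, hc, one_pow]
    calc c ^ (k - 1) * c ^ (i : ℕ) = c ^ ((k - 1 - (i : ℕ)) + i) * c ^ (i : ℕ) := by rw [← h3]
      _ = c ^ (k - 1 - (i : ℕ)) * (c ^ (i : ℕ) * c ^ (i : ℕ)) := by rw [pow_add]; ring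
      _ = c ^ (k - 1 - (i : ℕ)) := by rw [h4, mul_one]
  rw [h1, ← h2]
  ring

/-- the shift is self-adjoint up to the sign `c` -/
lemma pairB_shift (k : ℕ) (c : F) (f g : Vk F k) :
    pairB F k c f (Sk F k g) = c * pairB F k c (Sk F k f) g := by
  rcases Nat.eq_zero_or_pos k with rfl | hk
  · rw [pairB_apply, pairB_apply]
    simp
  obtain ⟨n, rfl⟩ : ∃ n, k = n + 1 := ⟨k - 1, by omega⟩
  rw [pairB_apply, pairB_apply, Fin.sum_univ_succ, Fin.sum_univ_castSucc (n := n)]
  have h0 : Sk F (n + 1) g ⟨(), Fin.rev (0 : Fin (n + 1))⟩ = 0 := by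
    rw [Sk_apply, dif_neg]
    rw [Fin.val_rev]
    simp
  have hl : Sk F (n + 1) f ⟨(), Fin.last n⟩ = 0 := by
    rw [Sk_apply, dif_neg]
    simp
  rw [h0, hl]
  simp only [mul_zero, zero_mul, zero_add, add_zero]
  rw [Finset.mul_sum]
  apply Finset.sum_congr rfl
  intro i _
  have h1 : ((Fin.rev (Fin.succ i) : Fin (n + 1)) : ℕ) + 1 < n + 1 := by
    rw [Fin.val_rev, Fin.val_succ]; have := i.2; omega
  have h2 : ((Fin.castSucc i : Fin (n + 1)) : ℕ) + 1 < n + 1 := by
    rw [Fin.val_castSucc]; have := i.2; omega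
  rw [Sk_apply, dif_pos h1, Sk_apply, dif_pos h2]
  have h3 : (⟨((Fin.rev (Fin.succ i) : Fin (n + 1)) : ℕ) + 1, h1⟩ : Fin (n + 1)) =
      Fin.rev (Fin.castSucc i) := by
    apply Fin.ext
    show ((Fin.rev (Fin.succ i) : Fin (n + 1)) : ℕ) + 1 = ((Fin.rev (Fin.castSucc i) : Fin (n + 1)) : ℕ)
    rw [Fin.val_rev, Fin.val_rev, Fin.val_succ, Fin.val_castSucc]
    have := i.2
    omega
  have h4 : (⟨((Fin.castSucc i : Fin (n + 1)) : ℕ) + 1, h2⟩ : Fin (n + 1)) = Fin.succ i := by
    apply Fin.ext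
    show ((Fin.castSucc i : Fin (n + 1)) : ℕ) + 1 = ((Fin.succ i : Fin (n + 1)) : ℕ)
    rw [Fin.val_succ, Fin.val_castSucc]
  rw [h3, h4, Fin.val_succ, Fin.val_castSucc, pow_succ]
  ring

end shift


section realise

variable (F : Type u) [Field F]

/-- a unipotent isometry of a nondegenerate alternating space with Jordan type `μ` exists -/
def SpU (μ : Multiset ℕ) : Prop :=
  ∃ (W : Type u) (_ : AddCommGroup W) (_ : Module F W) (_ : FiniteDimensional F W)
    (T : End F W) (β : LinearMap.BilinForm F W), β.IsAlt ∧ (∀ x, (∀ y, β x y = 0) → x = 0) ∧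
    (∀ x y, β (T x) (T y) = β x y) ∧ IsNilpotent (T - 1) ∧ ∀ s, kap (T - 1) s = kapm μ s

/-- a unipotent isometry of a quadratic space with nondegenerate polar form with Jordan type `μ`
exists -/
def OU (μ : Multiset ℕ) : Prop :=
  ∃ (W : Type u) (_ : AddCommGroup W) (_ : Module F W) (_ : FiniteDimensional F W)
    (T : End F W) (Q : QuadraticForm F W), (QuadraticMap.polarBilin Q).Nondegenerate ∧
    (∀ x, Q (T x) = Q x) ∧ IsNilpotent (T - 1) ∧ ∀ s, kap (T - 1) s = kapm μ s

variable {F}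

lemma prodMap_sub_one {W₁ W₂ : Type*} [AddCommGroup W₁] [Module F W₁] [AddCommGroup W₂]
    [Module F W₂] (T₁ : End F W₁) (T₂ : End F W₂) :
    (T₁.prodMap T₂ : End F (W₁ × W₂)) - 1 = (T₁ - 1).prodMap (T₂ - 1) := by
  apply LinearMap.ext
  intro x
  rfl

lemma isNilpotent_prodMap {W₁ W₂ : Type*} [AddCommGroup W₁] [Module F W₁] [AddCommGroup W₂]
    [Module F W₂] (A : End F W₁) (B : End F W₂) (hA : IsNilpotent A) (hB : IsNilpotent B) :
    IsNilpotent (A.prodMap B : End F (W₁ × W₂)) := by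
  obtain ⟨k₁, h₁⟩ := hA
  obtain ⟨k₂, h₂⟩ := hB
  refine ⟨k₁ + k₂, ?_⟩
  rw [prodMap_pow, pow_add, h₁, zero_mul, pow_add, h₂, mul_zero]
  exact LinearMap.prodMap_zero

lemma kap_zero_space {W : Type*} [AddCommGroup W] [Module F W] [Subsingleton W] (T : End F W)
    (s : ℕ) : kap T s = 0 := by
  unfold kap
  exact finrank_zero_of_subsingleton

lemma spU_zero : SpU F 0 := by
  refine ⟨PUnit, inferInstance, inferInstance, inferInstance, 1, 0, ?_, ?_, ?_, ?_, ?_⟩
  · intro u; rfl
  · intro u _; exact Subsingleton.elim _ _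
  · intro u v; rfl
  · rw [sub_self]; exact IsNilpotent.zero
  · intro s
    rw [kap_zero_space, kapm_zero]

lemma SpU.add {μ ν : Multiset ℕ} (h₁ : SpU F μ) (h₂ : SpU F ν) : SpU F (μ + ν) := by
  obtain ⟨W₁, _, _, _, T₁, β₁, ha₁, hn₁, hi₁, hp₁, hk₁⟩ := h₁
  obtain ⟨W₂, _, _, _, T₂, β₂, ha₂, hn₂, hi₂, hp₂, hk₂⟩ := h₂
  let β : LinearMap.BilinForm F (W₁ × W₂) :=
    β₁.compl₁₂ (LinearMap.fst F W₁ W₂) (LinearMap.fst F W₁ W₂) +
      β₂.compl₁₂ (LinearMap.snd F W₁ W₂) (LinearMap.snd F W₁ W₂)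
  have hβ : ∀ x y, β x y = β₁ x.1 y.1 + β₂ x.2 y.2 := fun x y => rfl
  refine ⟨W₁ × W₂, inferInstance, inferInstance, inferInstance, T₁.prodMap T₂, β, ?_, ?_, ?_, ?_, ?_⟩
  · intro x
    rw [hβ, ha₁, ha₂, add_zero]
  · intro x hx
    have h1 : x.1 = 0 := by
      apply hn₁
      intro v
      have := hx (v, 0)
      rw [hβ] at this
      simpa using this
    have h2 : x.2 = 0 := by
      apply hn₂
      intro v
      have := hx (0, v)
      rw [hβ] at this
      simpa using this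
    exact Prod.ext h1 h2
  · intro x y
    rw [hβ, hβ]
    show β₁ (T₁ x.1) (T₁ y.1) + β₂ (T₂ x.2) (T₂ y.2) = _
    rw [hi₁, hi₂]
  · rw [prodMap_sub_one]
    exact isNilpotent_prodMap _ _ hp₁ hp₂
  · intro s
    rw [prodMap_sub_one, kap_prodMap, hk₁, hk₂, kapm_add]

lemma oU_zero : OU F 0 := by
  refine ⟨PUnit, inferInstance, inferInstance, inferInstance, 1, 0, ?_, ?_, ?_, ?_⟩
  · constructor
    · intro u _; exact Subsingleton.elim _ _
    · intro u _; exact Subsingleton.elim _ _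
  · intro u; rfl
  · rw [sub_self]; exact IsNilpotent.zero
  · intro s
    rw [kap_zero_space, kapm_zero]

lemma OU.add {μ ν : Multiset ℕ} (h₁ : OU F μ) (h₂ : OU F ν) : OU F (μ + ν) := by
  obtain ⟨W₁, _, _, _, T₁, Q₁, hn₁, hi₁, hp₁, hk₁⟩ := h₁
  obtain ⟨W₂, _, _, _, T₂, Q₂, hn₂, hi₂, hp₂, hk₂⟩ := h₂
  refine ⟨W₁ × W₂, inferInstance, inferInstance, inferInstance, T₁.prodMap T₂, Q₁.prod Q₂,
    QuadReal.nondegenerate_prod Q₁ Q₂ hn₁ hn₂, ?_, ?_, ?_⟩
  · intro x
    show Q₁ (T₁ x.1) + Q₂ (T₂ x.2) = Q₁ x.1 + Q₂ x.2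
    rw [hi₁, hi₂]
  · rw [prodMap_sub_one]
    exact isNilpotent_prodMap _ _ hp₁ hp₂
  · intro s
    rw [prodMap_sub_one, kap_prodMap, hk₁, hk₂, kapm_add]

end realise


section pairs

variable {F : Type u} [Field F]

lemma kap_unit_mul {W : Type*} [AddCommGroup W] [Module F W] (U N : End F W) (hU : IsUnit U)
    (hc : Commute U N) (s : ℕ) : kap (U * N) s = kap N s := by
  unfold kap
  rw [hc.mul_pow, ker_unit_mul _ _ (hU.pow s)]

lemma kapm_pair (j s : ℕ) : kapm {j, j} s = min j s + min j s := by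
  unfold kapm
  simp

lemma kapm_single (j s : ℕ) : kapm {j} s = min j s := by
  unfold kapm
  simp

/-- the unipotent `1 + S` and its inverse -/
lemma exists_unit_shift (k : ℕ) :
    ∃ U U' : End F (Vk F k), U = 1 + Sk F k ∧ U * U' = 1 ∧ U' * U = 1 := by
  have hnil : IsNilpotent (Sk F k) := ⟨k, Sk_pow_eq_zero F k⟩
  obtain ⟨w, hw⟩ := hnil.isUnit_one_add
  refine ⟨w.val, (w⁻¹ : (End F (Vk F k))ˣ).val, hw, ?_, ?_⟩
  · rw [← Units.val_mul, mul_inv_cancel, Units.val_one]
  · rw [← Units.val_mul, inv_mul_cancel, Units.val_one]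

/-- data common to the two pair models -/
lemma pair_data (j : ℕ) :
    ∃ U U' : End F (Vk F j), U * U' = 1 ∧ U' * U = 1 ∧
      (∀ f g, pairB F j 1 (U f) (U' g) = pairB F j 1 f g) ∧
      IsNilpotent (U - 1) ∧ IsNilpotent (U' - 1) ∧
      (∀ s, kap (U - 1) s = min j s) ∧ (∀ s, kap (U' - 1) s = min j s) := by
  obtain ⟨U, U', hU, h1, h2⟩ := exists_unit_shift (F := F) j
  have hS : ∀ f g, pairB F j 1 f (Sk F j g) = pairB F j 1 (Sk F j f) g := by
    intro f g
    rw [pairB_shift, one_mul]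
  have hUadj : ∀ f g, pairB F j 1 f (U g) = pairB F j 1 (U f) g := by
    intro f g
    rw [hU, LinearMap.add_apply, LinearMap.add_apply, Module.End.one_apply, Module.End.one_apply,
      map_add, map_add, LinearMap.add_apply, hS]
  have hU1 : U - 1 = Sk F j := by rw [hU, add_sub_cancel_left]
  have hU'1 : U' - 1 = (-U') * Sk F j := by
    have h3 : U' * (1 + Sk F j) = 1 := by rw [← hU]; exact h2
    rw [mul_add, mul_one] at h3
    have h4 : (-U') * Sk F j = -(U' * Sk F j) := by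
      apply LinearMap.ext
      intro x
      rfl
    rw [h4, ← h3]
    abel
  have hcomm : Commute (-U') (Sk F j) := by
    have h3 : Commute U (Sk F j) := by
      rw [hU]
      exact (Commute.one_left _).add_left (Commute.refl _)
    have h4 : Commute U' (Sk F j) := by
      show U' * Sk F j = Sk F j * U'
      calc U' * Sk F j = U' * Sk F j * (U * U') := by rw [h1, mul_one]
        _ = U' * (Sk F j * U) * U' := by simp only [mul_assoc]
        _ = U' * (U * Sk F j) * U' := by rw [h3.eq]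
        _ = (U' * U) * Sk F j * U' := by simp only [mul_assoc]
        _ = Sk F j * U' := by rw [h2, one_mul]
    exact h4.neg_left
  have hunit : IsUnit (-U') := (IsUnit.of_mul_eq_one U h2).neg
  refine ⟨U, U', h1, h2, ?_, ?_, ?_, ?_, ?_⟩
  · intro f g
    rw [← hUadj]
    have : U (U' g) = g := by
      have := congrArg (fun T : End F (Vk F j) => T g) h1
      exact this
    rw [this]
  · rw [hU1]
    exact ⟨j, Sk_pow_eq_zero F j⟩
  · rw [hU'1]
    refine ⟨j, ?_⟩
    rw [hcomm.mul_pow, Sk_pow_eq_zero, mul_zero]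
  · intro s
    rw [hU1, kap_Sk]
  · intro s
    rw [hU'1, kap_unit_mul _ _ hunit hcomm, kap_Sk]

theorem spU_pair (j : ℕ) : SpU F {j, j} := by
  classical
  obtain ⟨U, U', h1, h2, hadj, hn, hn', hk, hk'⟩ := pair_data (F := F) j
  have hsymm : ∀ f g, pairB F j 1 g f = pairB F j 1 f g := by
    intro f g
    rw [pairB_comm F j 1 (by ring), one_pow, one_mul]
  let β : LinearMap.BilinForm F (Vk F j × Vk F j) :=
    (pairB F j 1).compl₁₂ (LinearMap.fst F _ _) (LinearMap.snd F _ _) -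
      (pairB F j 1).compl₁₂ (LinearMap.snd F _ _) (LinearMap.fst F _ _)
  have hβ : ∀ x y, β x y = pairB F j 1 x.1 y.2 - pairB F j 1 x.2 y.1 := fun x y => rfl
  refine ⟨Vk F j × Vk F j, inferInstance, inferInstance, inferInstance, U.prodMap U', β,
    ?_, ?_, ?_, ?_, ?_⟩
  · intro x
    rw [hβ, hsymm x.1 x.2, sub_self]
  · intro x hx
    have hx1 : x.1 = 0 := by
      apply pairB_nondeg F j 1 one_ne_zero
      intro g
      have := hx (0, g)
      rw [hβ] at this
      simpa using this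
    have hx2 : x.2 = 0 := by
      apply pairB_nondeg F j 1 one_ne_zero
      intro g
      have := hx (g, 0)
      rw [hβ] at this
      simpa using this
    exact Prod.ext hx1 hx2
  · intro x y
    rw [hβ, hβ]
    show pairB F j 1 (U x.1) (U' y.2) - pairB F j 1 (U' x.2) (U y.1) = _
    have e1 : pairB F j 1 (U x.1) (U' y.2) = pairB F j 1 x.1 y.2 := hadj _ _
    have e2 : pairB F j 1 (U' x.2) (U y.1) = pairB F j 1 x.2 y.1 := by
      rw [hsymm (U y.1) (U' x.2), hadj, hsymm x.2 y.1]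
    rw [e1, e2]
  · rw [prodMap_sub_one]
    exact isNilpotent_prodMap _ _ hn hn'
  · intro s
    rw [prodMap_sub_one, kap_prodMap, hk, hk', kapm_pair]

theorem oU_pair (j : ℕ) : OU F {j, j} := by
  classical
  obtain ⟨U, U', h1, h2, hadj, hn, hn', hk, hk'⟩ := pair_data (F := F) j
  have hsymm : ∀ f g, pairB F j 1 g f = pairB F j 1 f g := by
    intro f g
    rw [pairB_comm F j 1 (by ring), one_pow, one_mul]
  let B₀ : LinearMap.BilinForm F (Vk F j × Vk F j) :=
    (pairB F j 1).compl₁₂ (LinearMap.fst F _ _) (LinearMap.snd F _ _)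
  have hB₀ : ∀ x y, B₀ x y = pairB F j 1 x.1 y.2 := fun x y => rfl
  let Q : QuadraticForm F (Vk F j × Vk F j) := LinearMap.BilinMap.toQuadraticMap B₀
  have hQ : ∀ x, Q x = pairB F j 1 x.1 x.2 := fun x => rfl
  have hpolar : ∀ x y, QuadraticMap.polar Q x y = pairB F j 1 x.1 y.2 + pairB F j 1 y.1 x.2 := by
    intro x y
    rw [LinearMap.BilinMap.polar_toQuadraticMap, hB₀, hB₀]
  have key : ∀ x : Vk F j × Vk F j, (∀ y, QuadraticMap.polar Q x y = 0) → x = 0 := by
    intro x hx
    have hx1 : x.1 = 0 := by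
      apply pairB_nondeg F j 1 one_ne_zero
      intro g
      have := hx (0, g)
      rw [hpolar] at this
      simpa using this
    have hx2 : x.2 = 0 := by
      apply pairB_nondeg F j 1 one_ne_zero
      intro g
      have := hx (g, 0)
      rw [hpolar] at this
      rw [hsymm g x.2]
      simpa using this
    exact Prod.ext hx1 hx2
  refine ⟨Vk F j × Vk F j, inferInstance, inferInstance, inferInstance, U.prodMap U', Q,
    ?_, ?_, ?_, ?_⟩
  · constructor
    · intro x hx
      exact key x (fun y => by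
        have := hx y; rwa [QuadraticMap.polarBilin_apply_apply] at this)
    · intro y hy
      exact key y (fun x => by
        have := hy x; rwa [QuadraticMap.polarBilin_apply_apply, QuadraticMap.polar_comm] at this)
  · intro x
    rw [hQ, hQ]
    show pairB F j 1 (U x.1) (U' x.2) = _
    rw [hadj]
  · rw [prodMap_sub_one]
    exact isNilpotent_prodMap _ _ hn hn'
  · intro s
    rw [prodMap_sub_one, kap_prodMap, hk, hk', kapm_pair]

end pairs


section single

variable {F : Type u} [Field F]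

/-- the operator `(a, b) ↦ (-b, a + 2b + S b)`: multiplication by `u` on `F[s] ⊕ F[s] u`,
`u² = (s + 2) u - 1` -/
def Tk (k : ℕ) : End F (Vk F k × Vk F k) :=
  LinearMap.prod (-(LinearMap.snd F _ _))
    (LinearMap.fst F _ _ + LinearMap.snd F _ _ + LinearMap.snd F _ _ +
      (Sk F k).comp (LinearMap.snd F _ _))

lemma Tk_apply (k : ℕ) (x : Vk F k × Vk F k) :
    Tk (F := F) k x = (-x.2, x.1 + x.2 + x.2 + Sk F k x.2) := rfl

/-- the inverse of `Tk` -/
def Tk' (k : ℕ) : End F (Vk F k × Vk F k) :=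
  LinearMap.prod (LinearMap.fst F _ _ + LinearMap.fst F _ _ + (Sk F k).comp (LinearMap.fst F _ _) +
    LinearMap.snd F _ _) (-(LinearMap.fst F _ _))

lemma Tk'_apply (k : ℕ) (x : Vk F k × Vk F k) :
    Tk' (F := F) k x = (x.1 + x.1 + Sk F k x.1 + x.2, -x.1) := rfl

lemma Tk_mul_Tk' (k : ℕ) : Tk (F := F) k * Tk' k = 1 := by
  apply LinearMap.ext
  intro x
  rw [Module.End.mul_apply, Module.End.one_apply, Tk_apply, Tk'_apply]
  apply Prod.ext
  · simp
  · simp only [map_neg]
    abel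

lemma Tk'_mul_Tk (k : ℕ) : Tk' (F := F) k * Tk k = 1 := by
  apply LinearMap.ext
  intro x
  rw [Module.End.mul_apply, Module.End.one_apply, Tk'_apply, Tk_apply]
  apply Prod.ext
  · simp only [map_neg]
    abel
  · simp

lemma Tk_sub_one_sq (k : ℕ) :
    (Tk (F := F) k - 1) * (Tk k - 1) = ((Sk F k).prodMap (Sk F k)) * Tk k := by
  apply LinearMap.ext
  intro x
  simp only [Module.End.mul_apply, LinearMap.sub_apply, Module.End.one_apply, Tk_apply,
    LinearMap.prodMap_apply]
  apply Prod.ext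
  · simp only [Prod.fst_sub, Prod.snd_sub, map_neg]
    abel
  · simp only [Prod.fst_sub, Prod.snd_sub, map_add, map_sub, map_neg]
    abel

lemma Tk_comm (k : ℕ) : Commute ((Sk F k).prodMap (Sk F k)) (Tk (F := F) k) := by
  show _ * _ = _ * _
  apply LinearMap.ext
  intro x
  simp only [Module.End.mul_apply, Tk_apply, LinearMap.prodMap_apply]
  apply Prod.ext
  · simp only [map_neg]
  · simp only [map_add]

lemma Tk_nilpotent (k : ℕ) : IsNilpotent (Tk (F := F) k - 1) := by
  refine ⟨2 * k, ?_⟩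
  rw [pow_mul, pow_two, Tk_sub_one_sq, (Tk_comm k).mul_pow, prodMap_pow, Sk_pow_eq_zero]
  have : ((0 : End F (Vk F k)).prodMap (0 : End F (Vk F k)) : End F (Vk F k × Vk F k)) = 0 :=
    LinearMap.prodMap_zero
  rw [this, zero_mul]

/-- the fixed space of `Tk` is a line -/
lemma Tk_ker (k : ℕ) (hk : 1 ≤ k) : kap (Tk (F := F) k - 1) 1 = 1 := by
  have h1 : kap (Sk F k) 1 = 1 := by rw [kap_Sk]; omega
  unfold kap at h1 ⊢
  rw [pow_one] at h1 ⊢
  let ι : Vk F k →ₗ[F] Vk F k × Vk F k := LinearMap.prod (-LinearMap.id) LinearMap.id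
  have hι : Function.Injective ι := by
    intro a b hab
    exact congrArg Prod.snd hab
  have hker : LinearMap.ker (Tk (F := F) k - 1) = (LinearMap.ker (Sk F k)).map ι := by
    ext x
    rw [LinearMap.mem_ker, Submodule.mem_map, LinearMap.sub_apply, Module.End.one_apply, Tk_apply]
    constructor
    · intro hx
      have hx1 : -x.2 - x.1 = 0 := congrArg Prod.fst hx
      have hx2 : x.1 + x.2 + x.2 + Sk F k x.2 - x.2 = 0 := congrArg Prod.snd hx
      have h3 : x.1 = -x.2 := by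
        have : x.1 = -x.2 - (-x.2 - x.1) := by abel
        rw [this, hx1, sub_zero]
      have h4 : Sk F k x.2 = 0 := by
        rw [h3] at hx2
        rw [← hx2]
        abel
      refine ⟨x.2, LinearMap.mem_ker.2 h4, ?_⟩
      apply Prod.ext
      · exact h3.symm
      · rfl
    · rintro ⟨b, hb, rfl⟩
      have hb' : Sk F k b = 0 := LinearMap.mem_ker.1 hb
      show (-b, -b + b + b + Sk F k b) - (-b, b) = 0
      rw [hb']
      apply Prod.ext
      · simp
      · simp
  rw [hker, ← h1]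
  exact (Submodule.equivMapOfInjective ι hι (LinearMap.ker (Sk F k))).finrank_eq.symm

/-- the Jordan type of `Tk` is a single block of size `2k` -/
lemma Tk_kap (k : ℕ) (hk : 1 ≤ k) (s : ℕ) : kap (Tk (F := F) k - 1) s = kapm {2 * k} s := by
  have hfr : finrank F (Vk F k × Vk F k) = 2 * k := by
    rw [Module.finrank_prod, finrank_Vk]; ring
  obtain ⟨μ, hμ1, hμ2, hμ3⟩ := exists_type (2 * k) (Vk F k × Vk F k) (Tk k - 1) hfr
    (Tk_nilpotent k)
  have hμ3' : ∀ s, kap (Tk (F := F) k - 1) s = kapm μ s := hμ3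
  have hcard : Multiset.card μ = 1 := by
    rw [← kapm_one μ hμ1, ← hμ3', Tk_ker k hk]
  obtain ⟨a, ha⟩ := Multiset.card_eq_one.1 hcard
  rw [ha, Multiset.sum_singleton] at hμ2
  rw [hμ3', ha, hμ2]

theorem spU_single (k : ℕ) (hk : 1 ≤ k) : SpU F {2 * k} := by
  classical
  have hsymm : ∀ f g, pairB F k 1 g f = pairB F k 1 f g := by
    intro f g
    rw [pairB_comm F k 1 (by ring), one_pow, one_mul]
  have hS : ∀ f g, pairB F k 1 f (Sk F k g) = pairB F k 1 (Sk F k f) g := by
    intro f g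
    rw [pairB_shift, one_mul]
  let β : LinearMap.BilinForm F (Vk F k × Vk F k) :=
    (pairB F k 1).compl₁₂ (LinearMap.snd F _ _) (LinearMap.fst F _ _) -
      (pairB F k 1).compl₁₂ (LinearMap.fst F _ _) (LinearMap.snd F _ _)
  have hβ : ∀ x y, β x y = pairB F k 1 x.2 y.1 - pairB F k 1 x.1 y.2 := fun x y => rfl
  refine ⟨Vk F k × Vk F k, inferInstance, inferInstance, inferInstance, Tk k, β,
    ?_, ?_, ?_, Tk_nilpotent k, Tk_kap k hk⟩
  · intro x
    rw [hβ, hsymm x.2 x.1, sub_self]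
  · intro x hx
    have hx1 : x.1 = 0 := by
      apply pairB_nondeg F k 1 one_ne_zero
      intro g
      have := hx (0, g)
      rw [hβ] at this
      simpa using this
    have hx2 : x.2 = 0 := by
      apply pairB_nondeg F k 1 one_ne_zero
      intro g
      have := hx (g, 0)
      rw [hβ] at this
      simpa using this
    exact Prod.ext hx1 hx2
  · intro x y
    rw [hβ, hβ, Tk_apply, Tk_apply]
    simp only [map_add, map_neg, LinearMap.add_apply, LinearMap.neg_apply]
    rw [hS x.2 y.2]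
    ring

end single

end Cfsg.Agent.Lib.Helper15.UniModels
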