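import Mathlib
import Cfsg.Agent.Lib.Helper15.UniModels
import Cfsg.Agent.Lib.Helper15.UniJordan

set_option autoImplicit false

namespace Cfsg.Agent.Lib.Helper15.UniOrth

open Module Cfsg.Agent.Lib.Helper15.SemisimpleConj Cfsg.Agent.Lib.Helper15.NilpotentConj
  Cfsg.Agent.Lib.Helper15.UniForm Cfsg.Agent.Lib.Helper15.UniModels
  Cfsg.Agent.Lib.Helper15.UniJordan
open scoped Matrix

universe u

variable {F : Type u} [Field F]

/-- the linear-algebra content of membership in the isometry group of a quadratic form -/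
theorem isometry_facts {n : ℕ} (Q : QuadraticForm F (Fin n → F))
    (A : ↥(Cfsg.isometryGroup F ⇑Q)) :
    ∃ u v : End F (Fin n → F),
      u = Matrix.toLin' ((A : Matrix.GeneralLinearGroup (Fin n) F) : Matrix (Fin n) (Fin n) F) ∧
      u * v = 1 ∧ v * u = 1 ∧ (∀ x, Q (u x) = Q x) ∧
      ∀ x y, QuadraticMap.polarBilin Q (u x) (u y) = QuadraticMap.polarBilin Q x y := by
  obtain ⟨g, hg⟩ := A
  have hg' : ∀ x : Fin n → F, Q (g.val *ᵥ x) = Q x := fun x => hg x x
  have h1 : g.val * (g⁻¹ : Matrix.GeneralLinearGroup (Fin n) F).val = 1 := by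
    rw [← Units.val_mul, mul_inv_cancel, Units.val_one]
  have h2 : (g⁻¹ : Matrix.GeneralLinearGroup (Fin n) F).val * g.val = 1 := by
    rw [← Units.val_mul, inv_mul_cancel, Units.val_one]
  have hQ : ∀ x, Q (Matrix.toLin' g.val x) = Q x := by
    intro x
    rw [Matrix.toLin'_apply]
    exact hg' x
  refine ⟨Matrix.toLin' g.val, Matrix.toLin' (g⁻¹ : Matrix.GeneralLinearGroup (Fin n) F).val,
    rfl, ?_, ?_, hQ, ?_⟩
  · rw [Module.End.mul_eq_comp, ← Matrix.toLin'_mul, h1, Matrix.toLin'_one]; rfl
  · rw [Module.End.mul_eq_comp, ← Matrix.toLin'_mul, h2, Matrix.toLin'_one]; rfl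
  · intro x y
    rw [QuadraticMap.polarBilin_apply_apply, QuadraticMap.polarBilin_apply_apply]
    unfold QuadraticMap.polar
    rw [← map_add, hQ, hQ, hQ]

variable [Fintype F]

/-- an abstract orthogonal model of type `d` gives a matrix model on `F^n` -/
theorem exists_of_OU {t : ℕ} (d : Fin t → ℕ) {n : ℕ} (hsum : ∑ k, d k = n)
    (h : OU F (typeOf d)) :
    ∃ Q : QuadraticForm F (Fin n → F), (QuadraticMap.polarBilin Q).Nondegenerate ∧
      ∃ e : ((k : Fin t) × Fin (d k)) ≃ Fin n, ∃ A : ↥(Cfsg.isometryGroup F ⇑Q),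
        IsConj (Matrix.reindex e e (Cfsg.jordanTypeMatrix d F))
          ((A : Matrix.GeneralLinearGroup (Fin n) F) : Matrix (Fin n) (Fin n) F) := by
  classical
  obtain ⟨W, _, _, _, T, Q, hnd, hinv, hnil, hk⟩ := h
  have hfr : finrank F W = n := by
    rw [finrank_of_kap (T - 1) _ hk hnil, sum_typeOf, hsum]
  have hfr' : finrank F W = finrank F (Fin n → F) := by
    rw [hfr, Module.finrank_fin_fun]
  let E : W ≃ₗ[F] (Fin n → F) := LinearEquiv.ofFinrankEq _ _ hfr'
  let Q' : QuadraticForm F (Fin n → F) := Q.comp E.symm.toLinearMap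
  have hQ' : ∀ x, Q' x = Q (E.symm x) := fun x => rfl
  have hpolar : ∀ x y, QuadraticMap.polar Q' x y = QuadraticMap.polar Q (E.symm x) (E.symm y) := by
    intro x y
    unfold QuadraticMap.polar
    rw [hQ', hQ', hQ', map_add]
  have hTunit : IsUnit T := by
    have := hnil.isUnit_one_add
    rwa [add_sub_cancel] at this
  have hM : IsUnit (LinearMap.toMatrix' (E.conj T)) := by
    have h1 : IsUnit (E.conjRingEquiv T) := hTunit.map E.conjRingEquiv
    exact h1.map (LinearMap.toMatrixAlgEquiv' (R := F) (n := Fin n))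
  obtain ⟨g, hg⟩ := hM
  have hgmem : g ∈ Cfsg.isometryGroup F ⇑Q' := by
    intro x _
    show Q' (g.val *ᵥ x) = Q' x
    rw [hg, ← Matrix.toLin'_apply, Matrix.toLin'_toMatrix', LinearEquiv.conj_apply, hQ', hQ']
    simp only [LinearMap.comp_apply, LinearEquiv.coe_coe, LinearEquiv.symm_apply_apply]
    exact hinv _
  have hcard : Fintype.card ((k : Fin t) × Fin (d k)) = Fintype.card (Fin n) := by
    rw [Fintype.card_sigma, Fintype.card_fin]
    simp only [Fintype.card_fin]
    exact hsum
  refine ⟨Q', ?_, Fintype.equivOfCardEq hcard, ⟨g, hgmem⟩, ?_⟩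
  · constructor
    · intro x hx
      have h1 : E.symm x = 0 := by
        apply hnd.1
        intro y
        have := hx (E y)
        rw [QuadraticMap.polarBilin_apply_apply, hpolar, LinearEquiv.symm_apply_apply] at this
        rw [QuadraticMap.polarBilin_apply_apply]
        exact this
      exact E.symm.map_eq_zero_iff.1 h1
    · intro y hy
      have h1 : E.symm y = 0 := by
        apply hnd.2
        intro x
        have := hy (E x)
        rw [QuadraticMap.polarBilin_apply_apply, hpolar, LinearEquiv.symm_apply_apply] at this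
        rw [QuadraticMap.polarBilin_apply_apply]
        exact this
      exact E.symm.map_eq_zero_iff.1 h1
  · show IsConj _ g.val
    rw [hg]
    exact isConj_of_model d W T hnil hk E _

/-- the kernel dimensions of an isometry conjugate to the Jordan matrix -/
theorem kap_of_conj_jordan {t : ℕ} (d : Fin t → ℕ) {ι : Type} [Fintype ι] [DecidableEq ι]
    (e : ((k : Fin t) × Fin (d k)) ≃ ι) (M : Matrix ι ι F)
    (h : IsConj (Matrix.reindex e e (Cfsg.jordanTypeMatrix d F)) M) (s : ℕ) :
    kap (Matrix.toLin' M - 1) s = kapm (typeOf d) s := by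
  rw [← kap_of_isConj _ _ h, kap_jordan]

end Cfsg.Agent.Lib.Helper15.UniOrth
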