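import Mathlib
import Cfsg.Agent.Lib.Helper15.UniOrth
import Cfsg.Agent.Lib.Helper25.SpinDiag
import Cfsg.Agent.Lib.Helper25.DiscType

set_option autoImplicit false

namespace Cfsg.Agent.Lib.Helper15.UniOmega2

open Module QuadraticMap Cfsg.Agent.Lib.Helper15.SemisimpleConj
  Cfsg.Agent.Lib.Helper15.NilpotentConj
open scoped Matrix

universe u

section omega

variable {F : Type*} [Field F] [Fintype F] {ι : Type} [Fintype ι] [DecidableEq ι]

/-- elements of odd order of an orthogonal group lie in its commutator subgroup -/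
theorem mem_omega_of_odd_order (Q : QuadraticForm F (ι → F)) (hQ : (polarBilin Q).Nondegenerate)
    (hex : Fintype.card F ≠ 2 ∨ Fintype.card ι ≠ 4) (g : ↥(Cfsg.isometryGroup F ⇑Q)) (k : ℕ)
    (hk : Odd k) (hg : g ^ k = 1) : g ∈ Cfsg.Omega F ⇑Q := by
  obtain ⟨j, rfl⟩ := hk
  have h1 : g * g ∈ Cfsg.Omega F ⇑Q := by
    apply Cfsg.Agent.Lib.Helper25.Spin.sq_mem_commutator (Cfsg.Agent.Lib.Helper25.CD.reflSet Q)
      (Cfsg.Agent.Lib.Helper25.CD.reflSet_closure Q hQ hex)
    intro r hr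
    obtain ⟨v, _, rfl⟩ := (Cfsg.Agent.Lib.Helper25.CD.mem_reflSet_iff Q r).1 hr
    exact Cfsg.Agent.Lib.Helper25.CD.reflM_mul_self Q v
  have h2 : g = (g * g) ^ (j + 1) := by
    rw [← pow_two, ← pow_mul]
    have : 2 * (j + 1) = (2 * j + 1) + 1 := by ring
    rw [this, pow_succ, hg, one_mul]
  rw [h2]
  exact Subgroup.pow_mem _ h1 _

end omega

section disc

variable {F : Type u} [Field F] [Fintype F]

/-- in odd dimension every nondegenerate quadratic space is, up to a scalar, any other -/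
theorem exists_isometry_scalar (h2 : (2 : F) ≠ 0) {W : Type*} [AddCommGroup W] [Module F W]
    [FiniteDimensional F W] (Q : QuadraticForm F W) (hnd : (polarBilin Q).Nondegenerate)
    {W₀ : Type*} [AddCommGroup W₀] [Module F W₀] [FiniteDimensional F W₀]
    (Q₀ : QuadraticForm F W₀) (hnd₀ : (polarBilin Q₀).Nondegenerate)
    (hdim : finrank F W = finrank F W₀) (hodd : Odd (finrank F W)) :
    ∃ c : F, c ≠ 0 ∧ ∃ g : W ≃ₗ[F] W₀, ∀ x, c * Q₀ (g x) = Q x := by
  classical
  obtain ⟨n, hn⟩ : ∃ n, finrank F W = n := ⟨_, rfl⟩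
  let b : Basis (Fin n) F W := finBasisOfFinrankEq F W hn
  let b₀ : Basis (Fin n) F W₀ := finBasisOfFinrankEq F W₀ (by rw [← hdim, hn])
  have hS : LinearMap.BilinForm.IsSymm (polarBilin Q) :=
    ⟨fun x y => by
      show polarBilin Q x y = polarBilin Q y x
      rw [polarBilin_apply_apply, polarBilin_apply_apply, polar_comm]⟩
  have hS₀ : LinearMap.BilinForm.IsSymm (polarBilin Q₀) :=
    ⟨fun x y => by
      show polarBilin Q₀ x y = polarBilin Q₀ y x
      rw [polarBilin_apply_apply, polarBilin_apply_apply, polar_comm]⟩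
  obtain ⟨δ, hδ⟩ : ∃ δ, δ = (LinearMap.BilinForm.toMatrix b (polarBilin Q)).det := ⟨_, rfl⟩
  obtain ⟨δ₀, hδ₀⟩ : ∃ δ₀, δ₀ = (LinearMap.BilinForm.toMatrix b₀ (polarBilin Q₀)).det := ⟨_, rfl⟩
  have hδne : δ ≠ 0 := by
    rw [hδ]
    exact (LinearMap.BilinForm.nondegenerate_iff_det_ne_zero b).1 hnd
  have hδ₀ne : δ₀ ≠ 0 := by
    rw [hδ₀]
    exact (LinearMap.BilinForm.nondegenerate_iff_det_ne_zero b₀).1 hnd₀
  obtain ⟨c, hc⟩ : ∃ c, c = δ * δ₀ := ⟨_, rfl⟩
  have hcne : c ≠ 0 := by rw [hc]; exact mul_ne_zero hδne hδ₀ne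
  have hS₁ : LinearMap.BilinForm.IsSymm (c • polarBilin Q₀) :=
    ⟨fun x y => by
      show c • polarBilin Q₀ x y = c • polarBilin Q₀ y x
      rw [polarBilin_apply_apply, polarBilin_apply_apply, polar_comm]⟩
  have hnd₁ : (c • polarBilin Q₀).Nondegenerate := by
    constructor
    · intro x hx
      apply hnd₀.1
      intro y
      have := hx y
      rw [LinearMap.smul_apply, LinearMap.smul_apply, smul_eq_mul] at this
      exact (mul_eq_zero.1 this).resolve_left hcne
    · intro y hy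
      apply hnd₀.2
      intro x
      have := hy x
      rw [LinearMap.smul_apply, LinearMap.smul_apply, smul_eq_mul] at this
      exact (mul_eq_zero.1 this).resolve_left hcne
  have hdet₁ : (LinearMap.BilinForm.toMatrix b₀ (c • polarBilin Q₀)).det = c ^ n * δ₀ := by
    rw [map_smul, Matrix.det_smul, Fintype.card_fin, hδ₀]
  have hsq : IsSquare ((LinearMap.BilinForm.toMatrix b (polarBilin Q)).det *
      (LinearMap.BilinForm.toMatrix b₀ (c • polarBilin Q₀)).det) := by
    rw [hdet₁, ← hδ]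
    rw [hn] at hodd
    obtain ⟨j, hj⟩ := hodd
    refine ⟨c ^ (j + 1), ?_⟩
    rw [hj, ← pow_add]
    have : j + 1 + (j + 1) = (2 * j + 1) + 1 := by ring
    rw [this, pow_succ (n := 2 * j + 1), hc]
    ring
  obtain ⟨g, hg⟩ := Cfsg.Agent.Lib.Helper25.DiscType.exists_isometry_of_disc h2 b b₀ (polarBilin Q)
    (c • polarBilin Q₀) hS hS₁ hnd hnd₁ hsq
  refine ⟨c, hcne, g, fun x => ?_⟩
  have h1 := hg x x
  rw [LinearMap.smul_apply, LinearMap.smul_apply, polarBilin_apply_apply, polarBilin_apply_apply,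
    polar_self, polar_self, smul_eq_mul] at h1
  have h3 : (2 : F) * (c * Q₀ (g x)) = 2 * Q x := by
    rw [two_nsmul, two_nsmul] at h1
    linear_combination h1
  exact mul_left_cancel₀ h2 h3

end disc

section transport

variable {F : Type u} [Field F] {ι : Type} [Fintype ι] [DecidableEq ι]

/-- transport of a unipotent isometry along an isometry-up-to-scalar into a coordinate space -/
theorem transport_isometry {W : Type u} [AddCommGroup W] [Module F W] (T : End F W)
    (hT : IsNilpotent (T - 1)) (Q : QuadraticForm F W) (hinv : ∀ x, Q (T x) = Q x)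
    (Q₀ : (ι → F) → F) (c : F) (hc : c ≠ 0) (g : W ≃ₗ[F] (ι → F))
    (hg : ∀ x, c * Q₀ (g x) = Q x) :
    ∃ A : ↥(Cfsg.isometryGroup F Q₀),
      Matrix.toLin' ((A : GL ι F) : Matrix ι ι F) = g.conj T ∧
      Conj (T - 1) (Matrix.toLin' ((A : GL ι F) : Matrix ι ι F) - 1) := by
  have hTunit : IsUnit T := by
    have := hT.isUnit_one_add
    rwa [add_sub_cancel] at this
  have hM : IsUnit (LinearMap.toMatrix' (g.conj T)) := by
    have h1 : IsUnit (g.conjRingEquiv T) := hTunit.map g.conjRingEquiv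
    exact h1.map (LinearMap.toMatrixAlgEquiv' (R := F) (n := ι))
  obtain ⟨a, ha⟩ := hM
  have hlin : Matrix.toLin' (a : Matrix ι ι F) = g.conj T := by
    rw [ha, Matrix.toLin'_toMatrix']
  have hmem : a ∈ Cfsg.isometryGroup F Q₀ := by
    intro x _
    show Q₀ ((a : Matrix ι ι F) *ᵥ x) = Q₀ x
    apply mul_left_cancel₀ hc
    rw [← Matrix.toLin'_apply, hlin, LinearEquiv.conj_apply]
    simp only [LinearMap.comp_apply, LinearEquiv.coe_coe]
    rw [hg, hinv, ← hg, LinearEquiv.apply_symm_apply]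
  refine ⟨⟨a, hmem⟩, hlin, g, fun v => ?_⟩
  show g ((T - 1) v) = (Matrix.toLin' (a : Matrix ι ι F) - 1) (g v)
  rw [hlin, LinearMap.sub_apply, LinearMap.sub_apply, map_sub, LinearEquiv.conj_apply]
  simp

end transport

section charp

variable {F : Type u} [Field F] {V : Type*} [AddCommGroup V] [Module F V]

open Polynomial in
lemma sub_one_pow_char (p : ℕ) [Fact p.Prime] [CharP F p] (T : End F V) :
    (T - 1) ^ p = T ^ p - 1 := by
  have := congrArg (aeval T) (sub_pow_char (X : F[X]) 1 (p := p))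
  rw [map_pow, map_sub, aeval_X, map_one, map_sub, map_pow, aeval_X, one_pow, map_one] at this
  exact this

end charp

end Cfsg.Agent.Lib.Helper15.UniOmega2
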