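import Mathlib
import Cfsg.Agent.Lib.Helper15.OrthSemi
import Cfsg.Agent.Lib.Helper15.PolarForms
import Cfsg.Agent.Lib.Helper15.QuadReal
import Cfsg.Agent.Lib.Helper25.SpinOrth
import Cfsg.Agent.Lib.Helper25.SpinDisc
import Cfsg.Agent.Lib.Helper25.DiscType

/-!
# Spinor norm of `-1` on a nondegenerate subspace, and its type (helper15)
-/

set_option autoImplicit false

namespace Cfsg.Agent.Lib.Helper15.OrthDisc

open Module QuadraticMap Cfsg.Agent.Lib.Helper15 Cfsg.Agent.Lib.Helper15.OrthSemi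
  Cfsg.Agent.Lib.Helper12.Elus
open scoped Matrix

section spin

variable {ι : Type} [Fintype ι] [DecidableEq ι] {F : Type*} [Field F] [Fintype F]
  (Q : QuadraticForm F (ι → F))

/-- the element `-1_W ⊕ 1_A` lies in `Ω` iff the Gram determinant of `W` is a square -/
theorem neg_on_mem_omega_iff (h2 : (2 : F) ≠ 0) (hQ : (polarBilin Q).Nondegenerate)
    (W A : Submodule F (ι → F)) (hW : NdOn Q W) (k : ℕ) (hk : 0 < k) (hdim : finrank F W = 2 * k)
    (hAW : A ⊔ W = ⊤) (horth : ∀ a ∈ A, ∀ w ∈ W, polar Q a w = 0) (D : Matrix ι ι F)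
    (hDW : ∀ w ∈ W, D *ᵥ w = -w) (hDA : ∀ a ∈ A, D *ᵥ a = a) :
    ∃ (m : ℕ) (b : Basis (Fin (m + 1)) F W),
      (LinearMap.BilinForm.toMatrix b (polarBilin (resQ Q W))).det ≠ 0 ∧
      ((∃ g : ↥(Cfsg.isometryGroup F ⇑Q), g ∈ Cfsg.Omega F ⇑Q ∧
        ((g : GL ι F) : Matrix ι ι F) = D) ↔
        IsSquare (LinearMap.BilinForm.toMatrix b (polarBilin (resQ Q W))).det) := by
  classical
  obtain ⟨m, hm⟩ : ∃ m, 2 * k = m + 1 := ⟨2 * k - 1, by omega⟩
  obtain ⟨w, hwW, hworth, hwone, hwlast⟩ := orth_family h2 Q m W hW (by rw [hdim, hm])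
  have hwne : ∀ i, Q (w i) ≠ 0 := by
    intro i
    by_cases hi : i = Fin.last m
    · rw [hi]; exact hwlast
    · rw [hwone i hi]; exact one_ne_zero
  have hli := orth_linearIndependent h2 Q w hworth hwne
  have hli' : LinearIndependent F (fun i => (⟨w i, hwW i⟩ : W)) := by
    apply LinearIndependent.of_comp W.subtype
    exact hli
  have hcard : Fintype.card (Fin (m + 1)) = finrank F W := by rw [Fintype.card_fin, hdim, hm]
  obtain ⟨b0, hb0'⟩ : ∃ b0 : Basis (Fin (m + 1)) F W, ⇑b0 = fun i => (⟨w i, hwW i⟩ : W) :=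
    ⟨basisOfLinearIndependentOfCardEqFinrank hli' hcard,
      coe_basisOfLinearIndependentOfCardEqFinrank hli' hcard⟩
  have hb0 : ∀ i, ((b0 i : W) : ι → F) = w i := by
    intro i
    rw [hb0']
  have hgram : LinearMap.BilinForm.toMatrix b0 (polarBilin (resQ Q W)) =
      Matrix.diagonal (fun i => 2 * Q (w i)) := by
    ext i j
    rw [LinearMap.BilinForm.toMatrix_apply, polarBilin_apply_apply, polar_resQ, hb0, hb0]
    by_cases hij : i = j
    · subst hij
      rw [Matrix.diagonal_apply_eq, polar_self]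
      simp
    · rw [Matrix.diagonal_apply_ne _ hij, hworth i j hij]
  have hdet : (LinearMap.BilinForm.toMatrix b0 (polarBilin (resQ Q W))).det =
      ((2 : F) ^ k) ^ 2 * ∏ i, Q (w i) := by
    have h2pow : (2 : F) ^ (m + 1) = ((2 : F) ^ k) ^ 2 := by rw [← hm, ← pow_mul, mul_comm k 2]
    rw [hgram, Matrix.det_diagonal, Finset.prod_mul_distrib, Finset.prod_const, Finset.card_univ,
      Fintype.card_fin, h2pow]
  have h2k : (2 : F) ^ k ≠ 0 := pow_ne_zero _ h2
  have hprod0 : ∏ i, Q (w i) ≠ 0 := Finset.prod_ne_zero_iff.2 (fun i _ => hwne i)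
  have hD : ∀ x, D *ᵥ x = x - ∑ j ∈ Finset.univ, ((Q (w j))⁻¹ * polar Q (w j) x) • w j := by
    intro x
    have hx : x ∈ A ⊔ W := by rw [hAW]; trivial
    obtain ⟨a, ha, w0, hw0, rfl⟩ := Submodule.mem_sup.1 hx
    rw [Matrix.mulVec_add, hDA a ha, hDW w0 hw0]
    have hrep : w0 = ∑ j, (b0.repr ⟨w0, hw0⟩ j) • w j := by
      have h1 := b0.sum_repr ⟨w0, hw0⟩
      have h3 := congrArg Subtype.val h1
      rw [Submodule.coe_sum] at h3
      simp only [Submodule.coe_smul, hb0] at h3
      exact h3.symm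
    have hpol : ∀ j, polar Q (w j) (a + w0) = (b0.repr ⟨w0, hw0⟩ j) * (2 * Q (w j)) := by
      intro j
      rw [polar_add_right, polar_comm Q (w j) a, horth a ha (w j) (hwW j), zero_add]
      conv_lhs => rw [hrep]
      have h4 := map_sum (polarBilin Q (w j)) (fun i => (b0.repr ⟨w0, hw0⟩ i) • w i) Finset.univ
      simp only [polarBilin_apply_apply] at h4
      rw [h4, Finset.sum_eq_single j]
      · rw [polar_smul_right, polar_self]
        simp
      · intro i _ hij
        rw [polar_smul_right, hworth j i (Ne.symm hij), smul_zero]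
      · intro h
        exact absurd (Finset.mem_univ j) h
    have hsum : ∑ j, ((Q (w j))⁻¹ * polar Q (w j) (a + w0)) • w j = (2 : F) • w0 := by
      conv_rhs => rw [hrep, Finset.smul_sum]
      apply Finset.sum_congr rfl
      intro j _
      rw [hpol j, smul_smul]
      congr 1
      have := hwne j
      field_simp
    rw [hsum, two_smul]
    abel
  refine ⟨m, b0, ?_, ?_⟩
  · rw [hdet]
    exact mul_ne_zero (pow_ne_zero _ h2k) hprod0
  · rw [Cfsg.Agent.Lib.Helper25.Spin.orth_mem_omega_iff Q h2 hQ w Finset.univ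
      (fun j _ => hwne j) (fun i _ j _ hij => hworth i j hij) hD, hdet,
      Cfsg.Agent.Lib.Helper25.Spin.isSquare_sq_mul_iff h2k, Finset.card_univ, Fintype.card_fin]
    exact ⟨fun h => h.2, fun h => ⟨⟨k, by omega⟩, h⟩⟩

end spin

section types

variable {F V : Type*} [Field F] [Fintype F] [AddCommGroup V] [Module F V] [FiniteDimensional F V]
  (Q : QuadraticForm F V)

omit [Fintype F] [FiniteDimensional F V] in
theorem restrict_pow_apply (x : V →ₗ[F] V) (W : Submodule F V) (hWx : ∀ w ∈ W, x w ∈ W) (j : ℕ)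
    (w : W) : ((((x.restrict hWx) ^ j) w : W) : V) = (x ^ j) (w : V) := by
  induction j generalizing w with
  | zero => rfl
  | succ j ih =>
    rw [pow_succ, pow_succ, Module.End.mul_apply, Module.End.mul_apply, ih,
      LinearMap.coe_restrict_apply]

/-- if a fixed-point-free isometry of prime order `r ∤ q (q ^ k - 1)` acts on a nondegenerate
`2k`-space, the space has no totally isotropic `k`-subspace (it is of minus type) -/
theorem no_isotropic (h2 : (2 : F) ≠ 0) (W : Submodule F V) (hW : NdOn Q W) (k : ℕ)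
    (hdim : finrank F W = 2 * k) (x : V →ₗ[F] V) (hx : ∀ v, Q (x v) = Q v)
    (hWx : ∀ w ∈ W, x w ∈ W) (r : ℕ) (hr : r.Prime) (hxr : x ^ r = 1)
    (hfix : ∀ w ∈ W, x w = w → w = 0) (hrq : ¬ r ∣ Fintype.card F)
    (hrk : ¬ r ∣ Fintype.card F ^ k - 1) (X : Submodule F W) (hX : finrank F X = k)
    (hti : ∀ a ∈ X, ∀ b ∈ X, polarBilin (resQ Q W) a b = 0) : False := by
  classical
  have : Finite W := Module.finite_of_finite F
  have hts : ∀ u ∈ X, resQ Q W u = 0 := by
    intro u hu
    have h1 := hti u hu u hu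
    rw [polarBilin_apply_apply, polar_self] at h1
    have h3 : (2 : F) * resQ Q W u = 0 := by simpa using h1
    exact (mul_eq_zero.1 h3).resolve_left h2
  have ht := Cfsg.Agent.Lib.Helper15.PolarForms.hasType_one_of_ts (resQ Q W)
    (nondegenerate_resQ Q W hW) k hdim X hts (le_of_eq hX.symm)
  have h1 := ht.2 1 one_ne_zero
  have h3 := Cfsg.Agent.Lib.Helper15.QuadReal.dvd_card_level (resQ Q W) (x.restrict hWx) r hr
    (by
      ext w
      rw [restrict_pow_apply, hxr]
      rfl)
    (fun w => by rw [resQ_apply, LinearMap.coe_restrict_apply, hx, resQ_apply])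
    (fun w hw => by
      apply Subtype.ext
      apply hfix w w.2
      have := congrArg Subtype.val hw
      rwa [LinearMap.coe_restrict_apply] at this) 1 one_ne_zero
  have h4 : (r : ℤ) ∣ (Fintype.card F : ℤ) * (Nat.card {v : W // resQ Q W v = 1} : ℤ) :=
    Dvd.dvd.mul_left (Int.natCast_dvd_natCast.2 h3) _
  rw [h1] at h4
  have h5 : (Fintype.card F : ℤ) ^ (2 * k) - 1 * (Fintype.card F : ℤ) ^ k =
      (Fintype.card F : ℤ) ^ k * ((Fintype.card F : ℤ) ^ k - 1) := by ring
  rw [h5] at h4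
  have hrp : Prime (r : ℤ) := Nat.prime_iff_prime_int.1 hr
  rcases hrp.dvd_mul.1 h4 with h6 | h6
  · have h7 := hrp.dvd_of_dvd_pow h6
    exact hrq (Int.natCast_dvd_natCast.1 h7)
  · apply hrk
    rw [← Int.natCast_dvd_natCast, Nat.cast_sub (Nat.one_le_pow _ _ Fintype.card_pos)]
    push_cast
    exact h6

/-- if the commutator space of an isometry `x` of odd prime order `r` has dimension `2k`, where
`k` is the (odd) order of `q` modulo `r`, then it contains a totally isotropic `k`-subspace -/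
theorem exists_isotropic {p : ℕ} [Fact p.Prime] [CharP F p] (x : V →ₗ[F] V)
    (hx : ∀ v, Q (x v) = Q v) (r : ℕ) [hr : Fact r.Prime] (hr2 : r ≠ 2) (hrp : r ≠ p)
    (hxr : x ^ r = 1) (k : ℕ) (hk : Odd k) (he : orderOf (Fintype.card F : ZMod r) = k)
    (hdim : finrank F (movR x) = 2 * k) :
    ∃ X : Submodule F (movR x), finrank F X = k ∧
      ∀ a ∈ X, ∀ b ∈ X, polarBilin (resQ Q (movR x)) a b = 0 := by
  have hr0 : (r : F) ≠ 0 := by
    rw [Ne, CharP.cast_eq_zero_iff F p]
    intro hd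
    exact hrp ((Nat.prime_dvd_prime_iff_eq Fact.out hr.out).1 hd).symm
  obtain ⟨U, hUx, hUle, hUdim⟩ := mov_chain x r hrp hxr 1 (by rw [he, hdim]; omega)
  rw [he, mul_one] at hUdim
  have hkpos : 0 < k := hk.pos
  -- the radical of `U`
  have hRx : ∀ v ∈ U ⊓ LinearMap.BilinForm.orthogonal (polarBilin Q) U,
      x v ∈ U ⊓ LinearMap.BilinForm.orthogonal (polarBilin Q) U := by
    rintro v ⟨hvU, hvo⟩
    refine ⟨hUx v hvU, ?_⟩
    rw [SetLike.mem_coe, LinearMap.BilinForm.mem_orthogonal_iff] at hvo ⊢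
    intro n hn
    obtain ⟨n', hn', rfl⟩ := HermPair.exists_preimage x r hr.out.pos hxr U hUx n hn
    have h1 := hvo n' hn'
    rw [polarBilin_apply_apply] at h1 ⊢
    rw [polar_iso Q x hx, h1]
  have hRle : U ⊓ LinearMap.BilinForm.orthogonal (polarBilin Q) U ≤ movR x :=
    inf_le_left.trans hUle
  have hd := orderOf_dvd_finrank_of_le_movR x r hxr hr0 _ hRx hRle
  rw [he] at hd
  have hRdim : finrank F ↥(U ⊓ LinearMap.BilinForm.orthogonal (polarBilin Q) U) ≤ k := by
    rw [← hUdim]
    exact Submodule.finrank_mono inf_le_left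
  have hRk : finrank F ↥(U ⊓ LinearMap.BilinForm.orthogonal (polarBilin Q) U) = k := by
    obtain ⟨c, hc⟩ := hd
    have hc1 : c ≠ 0 := by
      rintro rfl
      rw [mul_zero] at hc
      have hbot := Submodule.finrank_eq_zero.1 hc
      have hnd : NdOn Q U := by
        intro w hw hall
        have h1 : w ∈ U ⊓ LinearMap.BilinForm.orthogonal (polarBilin Q) U := by
          refine ⟨hw, ?_⟩
          rw [SetLike.mem_coe, LinearMap.BilinForm.mem_orthogonal_iff]
          intro n hn
          rw [polarBilin_apply_apply, polar_comm]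
          exact hall n hn
        rw [hbot] at h1
        exact (Submodule.mem_bot F).1 h1
      have hev := even_finrank_of_fpf Q x hx r hr2 hxr hr0 U hUx hUle hnd
      rw [hUdim] at hev
      exact (Nat.not_even_iff_odd.2 hk) hev
    have hc2 : c < 2 := by
      by_contra h
      have : k * 2 ≤ k * c := Nat.mul_le_mul_left _ (by omega)
      omega
    have hc3 : c = 1 := by omega
    rw [hc, hc3, mul_one]
  have hRU : U ⊓ LinearMap.BilinForm.orthogonal (polarBilin Q) U = U :=
    Submodule.eq_of_le_of_finrank_eq inf_le_left (by rw [hRk, hUdim])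
  have hUti : ∀ a ∈ U, ∀ b ∈ U, polar Q a b = 0 := by
    intro a ha b hb
    rw [← hRU] at hb
    have h1 := (LinearMap.BilinForm.mem_orthogonal_iff.1 hb.2) a ha
    rwa [polarBilin_apply_apply] at h1
  refine ⟨Submodule.comap (movR x).subtype U, ?_, ?_⟩
  · rw [(Submodule.comapSubtypeEquivOfLe hUle).finrank_eq, hUdim]
  · intro a ha b hb
    rw [polarBilin_apply_apply, polar_resQ]
    exact hUti _ ha _ hb

end types

end Cfsg.Agent.Lib.Helper15.OrthDisc
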