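import Mathlib
import Cfsg.Agent.Lib.Helper15.UniModels

set_option autoImplicit false

namespace Cfsg.Agent.Lib.Helper15.UniModelsO

open Module Cfsg.Agent.Lib.Helper15.SemisimpleConj Cfsg.Agent.Lib.Helper15.NilpotentConj
  Cfsg.Agent.Lib.Helper15.UniForm Cfsg.Agent.Lib.Helper15.UniModels

universe u

section odd

variable {F : Type u} [Field F]

/-- a single Jordan block of odd size in an orthogonal group, odd characteristic: the Cayley
transform of the shift, which is skew for the alternating-sign reversal pairing -/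
theorem oU_single_odd (h2 : (2 : F) ≠ 0) (n : ℕ) (hn : Odd n) : OU F {n} := by
  classical
  obtain ⟨S, hS⟩ : ∃ S : End F (Vk F n), S = Sk F n := ⟨_, rfl⟩
  have hnil : IsNilpotent S := ⟨n, by rw [hS]; exact Sk_pow_eq_zero F n⟩
  obtain ⟨w, hw⟩ := hnil.isUnit_one_sub
  obtain ⟨V', hV'⟩ : ∃ V' : End F (Vk F n), V' = (w⁻¹ : (End F (Vk F n))ˣ).val := ⟨_, rfl⟩
  have hwV : (1 - S) * V' = 1 := by
    rw [← hw, hV', ← Units.val_mul, mul_inv_cancel, Units.val_one]
  have hcomm : Commute V' S := by
    rw [hV']
    apply Commute.units_inv_left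
    rw [hw]
    exact (Commute.one_left _).sub_left (Commute.refl _)
  obtain ⟨β, hβ⟩ : ∃ β : LinearMap.BilinForm F (Vk F n), β = pairB F n (-1) := ⟨_, rfl⟩
  have hsymm : ∀ f g, β g f = β f g := by
    intro f g
    rw [hβ, pairB_comm F n (-1) (by ring)]
    have : Even (n - 1) := by
      obtain ⟨k, rfl⟩ := hn
      exact ⟨k, by omega⟩
    rw [this.neg_one_pow, one_mul]
  have hskew : ∀ f g, β f (S g) = -β (S f) g := by
    intro f g
    rw [hβ, hS, pairB_shift, neg_one_mul]
  have hβnd : ∀ f, (∀ g, β f g = 0) → f = 0 := by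
    intro f hf
    apply pairB_nondeg F n (-1) (by simp)
    intro g
    rw [← hβ]
    exact hf g
  let Q : QuadraticForm F (Vk F n) := LinearMap.BilinMap.toQuadraticMap β
  have hQ : ∀ x, Q x = β x x := fun x => rfl
  have hpolar : ∀ x y, QuadraticMap.polar Q x y = β x y + β x y := by
    intro x y
    rw [LinearMap.BilinMap.polar_toQuadraticMap, hsymm x y]
  have key : ∀ x : Vk F n, (∀ y, QuadraticMap.polar Q x y = 0) → x = 0 := by
    intro x hx
    apply hβnd
    intro g
    have := hx g
    rw [hpolar, ← two_mul] at this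
    rcases mul_eq_zero.1 this with h | h
    · exact absurd h h2
    · exact h
  obtain ⟨T, hT⟩ : ∃ T : End F (Vk F n), T = (1 + S) * V' := ⟨_, rfl⟩
  have hT1 : T - 1 = ((2 : F) • V') * S := by
    have : T - 1 = (1 + S) * V' - (1 - S) * V' := by rw [hT, hwV]
    rw [this, ← sub_mul, smul_mul_assoc, hcomm.eq, two_smul, ← add_mul]
    congr 1
    abel
  have hUunit : IsUnit ((2 : F) • V') := by
    have h3 : IsUnit V' := by
      rw [hV']
      exact Units.isUnit _
    have := h3.smul (Units.mk0 (2 : F) h2)
    rwa [Units.smul_def] at this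
  have hUcomm : Commute ((2 : F) • V') S := hcomm.smul_left _
  refine ⟨Vk F n, inferInstance, inferInstance, inferInstance, T, Q, ?_, ?_, ?_, ?_⟩
  · constructor
    · intro x hx
      exact key x (fun y => by
        have := hx y; rwa [QuadraticMap.polarBilin_apply_apply] at this)
    · intro y hy
      exact key y (fun x => by
        have := hy x; rwa [QuadraticMap.polarBilin_apply_apply, QuadraticMap.polar_comm] at this)
  · intro x
    rw [hQ, hQ]
    obtain ⟨a, ha⟩ : ∃ a, a = V' x := ⟨_, rfl⟩
    have hx : x = a - S a := by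
      have := congrArg (fun X : End F (Vk F n) => X x) hwV
      simp only [Module.End.mul_apply, Module.End.one_apply, LinearMap.sub_apply] at this
      rw [← ha] at this
      exact this.symm
    have hTx : T x = a + S a := by
      rw [hT, Module.End.mul_apply, ← ha, LinearMap.add_apply, Module.End.one_apply]
    rw [hTx, hx]
    simp only [map_add, map_sub, LinearMap.add_apply, LinearMap.sub_apply, hskew]
    ring
  · rw [hT1]
    refine ⟨n, ?_⟩
    rw [hUcomm.mul_pow, hS, Sk_pow_eq_zero, mul_zero]
  · intro s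
    rw [hT1, kap_unit_mul _ _ hUunit hUcomm, hS, kap_Sk, kapm_single]

end odd

end Cfsg.Agent.Lib.Helper15.UniModelsO
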