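import Mathlib
import Cfsg.Agent.Lib.Helper15.UniDecomp
import Cfsg.Agent.Lib.Helper15.UniModelsO
import Cfsg.Agent.Lib.Helper15.UniOrth

set_option autoImplicit false

namespace Cfsg.Agent.Lib.Helper15.UniOmega

open Module Cfsg.Agent.Lib.Helper15.SemisimpleConj Cfsg.Agent.Lib.Helper15.NilpotentConj
  Cfsg.Agent.Lib.Helper15.UniForm Cfsg.Agent.Lib.Helper15.UniModels
  Cfsg.Agent.Lib.Helper15.UniJordan Cfsg.Agent.Lib.Helper15.UniModelsO
  Cfsg.Agent.Lib.Helper15.UniOrth Cfsg.Agent.Lib.Helper15.UniDecomp

universe u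

section parity

variable {F : Type u} [Field F]

/-- in odd characteristic every Jordan type whose even parts have even multiplicity is realised by a
unipotent isometry of some nondegenerate quadratic space -/
theorem oU_of_parity (h2 : (2 : F) ≠ 0) (μ : Multiset ℕ) (hμ : ∀ b ∈ μ, 1 ≤ b)
    (hpar : ∀ e, Even e → Even (μ.count e)) : OU F μ := by
  apply build_of_parity (P := OU F) Even oU_zero (fun _ _ => OU.add) _
    (fun j _ _ => oU_pair j) μ hμ hpar
  intro j _ hodd
  rw [Nat.not_even_iff_odd] at hodd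
  exact oU_single_odd h2 j hodd

end parity

section invariant

variable {F : Type u} [Field F] {V : Type u} [AddCommGroup V] [Module F V] [FiniteDimensional F V]

/-- the Jordan type of a unipotent isometry on an invariant nondegenerate subspace is a
sub-multiset of its Jordan type, again with even parts of even multiplicity -/
theorem sub_type_of_invariant' (h2 : (2 : F) ≠ 0) (B : LinearMap.BilinForm F V)
    (hsymm : ∀ x y, B x y = B y x) (T : End F V) (hinv : ∀ x y, B (T x) (T y) = B x y)
    (hnil : IsNilpotent (T - 1)) (μ : Multiset ℕ) (hμ : ∀ b ∈ μ, 1 ≤ b)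
    (hk : ∀ s, kap (T - 1) s = kapm μ s) (W : Submodule F V) (hW : W.map T ≤ W)
    (hWnd : ∀ w ∈ W, w ≠ 0 → ∃ x ∈ W, B x w ≠ 0) :
    ∃ ν : Multiset ℕ, ν ≤ μ ∧ ν.sum = finrank F W ∧ (∀ e, Even e → Even (ν.count e)) ∧
      (∀ b ∈ ν, 1 ≤ b) ∧ ∃ hW1 : W ∈ (T - 1).invtSubmodule,
        ∀ s, kap ((T - 1).restrict hW1) s = kapm ν s := by
  classical
  have hBsymm : B.IsSymm := ⟨hsymm⟩
  -- T is invertible
  have hTunit : IsUnit T := by
    have := hnil.isUnit_one_add
    rwa [add_sub_cancel] at this
  obtain ⟨w, hw⟩ := hTunit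
  obtain ⟨T', hT'⟩ : ∃ T' : End F V, T' = (w⁻¹ : (End F V)ˣ).val := ⟨_, rfl⟩
  have hTT' : T * T' = 1 := by rw [← hw, hT', ← Units.val_mul, mul_inv_cancel, Units.val_one]
  have hT'T : T' * T = 1 := by rw [← hw, hT', ← Units.val_mul, inv_mul_cancel, Units.val_one]
  have hTinj : Function.Injective T := by
    intro a b hab
    have := congrArg T' hab
    have e1 : ∀ v, T' (T v) = v := fun v => by
      have := congrArg (fun X : End F V => X v) hT'T
      exact this
    rwa [e1, e1] at this
  -- T W = W
  have hWeq : W.map T = W := by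
    apply Submodule.eq_of_le_of_finrank_eq hW
    exact (Submodule.equivMapOfInjective T hTinj W).finrank_eq.symm
  have hWT : ∀ v ∈ W, T v ∈ W := fun v hv => hW (Submodule.mem_map_of_mem hv)
  have hWT' : ∀ v ∈ W, T' v ∈ W := by
    intro v hv
    rw [← hWeq] at hv
    obtain ⟨v', hv', rfl⟩ := hv
    have : T' (T v') = v' := by
      have := congrArg (fun X : End F V => X v') hT'T
      exact this
    rw [this]
    exact hv'
  -- the restricted form is nondegenerate
  have hres : (B.restrict W).Nondegenerate := by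
    constructor
    · intro x hx
      by_contra hne
      have hx0 : (x : V) ≠ 0 := fun h => hne (Subtype.ext h)
      obtain ⟨y, hy, hyx⟩ := hWnd x x.2 hx0
      apply hyx
      rw [hsymm]
      exact hx ⟨y, hy⟩
    · intro x hx
      by_contra hne
      have hx0 : (x : V) ≠ 0 := fun h => hne (Subtype.ext h)
      obtain ⟨y, hy, hyx⟩ := hWnd x x.2 hx0
      apply hyx
      exact hx ⟨y, hy⟩
  have hc : IsCompl W (B.orthogonal W) :=
    LinearMap.BilinForm.isCompl_orthogonal_of_restrict_nondegenerate hBsymm.isRefl hres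
  -- invariance of the two summands under `T - 1`
  have hW1 : W ∈ (T - 1).invtSubmodule := by
    rw [Module.End.mem_invtSubmodule]
    intro v hv
    show (T - 1) v ∈ W
    rw [LinearMap.sub_apply, Module.End.one_apply]
    exact Submodule.sub_mem _ (hWT v hv) hv
  have hW2 : B.orthogonal W ∈ (T - 1).invtSubmodule := by
    rw [Module.End.mem_invtSubmodule]
    intro v hv
    show (T - 1) v ∈ B.orthogonal W
    rw [LinearMap.sub_apply, Module.End.one_apply]
    apply Submodule.sub_mem _ _ hv
    rw [LinearMap.BilinForm.mem_orthogonal_iff] at hv ⊢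
    intro n hn
    have h1 : n = T (T' n) := by
      have := congrArg (fun X : End F V => X n) hTT'
      exact this.symm
    rw [h1, hinv]
    exact hv _ (hWT' n hn)
  obtain ⟨ν, hνle, hνsum, hν1, hνk⟩ :=
    type_le_of_isCompl (T - 1) hnil μ hμ hk W (B.orthogonal W) hW1 hW2 hc
  refine ⟨ν, hνle, hνsum, ?_, hν1, hW1, hνk⟩
  -- parity on `W`
  have hWinvT : W ∈ T.invtSubmodule := by
    rw [Module.End.mem_invtSubmodule]
    intro v hv
    exact hWT v hv
  have hWinvT' : W ∈ T'.invtSubmodule := by
    rw [Module.End.mem_invtSubmodule]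
    intro v hv
    exact hWT' v hv
  obtain ⟨u, hu⟩ : ∃ u : End F W, u = T.restrict hWinvT := ⟨_, rfl⟩
  obtain ⟨v, hv⟩ : ∃ v : End F W, v = T'.restrict hWinvT' := ⟨_, rfl⟩
  have huv : u * v = 1 := by
    apply LinearMap.ext
    intro x
    apply Subtype.ext
    rw [hu, hv]
    show T (T' x) = x
    have := congrArg (fun X : End F V => X x) hTT'
    exact this
  have hvu : v * u = 1 := by
    apply LinearMap.ext
    intro x
    apply Subtype.ext
    rw [hu, hv]
    show T' (T x) = x
    have := congrArg (fun X : End F V => X x) hT'T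
    exact this
  have hu1 : u - 1 = (T - 1).restrict hW1 := by
    apply LinearMap.ext
    intro x
    apply Subtype.ext
    rw [hu]
    rfl
  have hunil : IsNilpotent (u - 1) := by
    rw [hu1]
    obtain ⟨k, hk0⟩ := hnil
    exact ⟨k, restrict_pow (T - 1) W hW1 k hk0⟩
  have h2unit : IsUnit ((2 : F) • (1 : End F W)) := by
    have := (isUnit_one (M := End F W)).smul (Units.mk0 (2 : F) h2)
    rwa [Units.smul_def] at this
  have hu1unit : IsUnit (u + 1) := by
    have := hunil.isUnit_add_left_of_commute h2unit ((Commute.one_right _).smul_right _)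
    have e1 : (2 : F) • (1 : End F W) + (u - 1) = u + 1 := by
      rw [two_smul]
      abel
    rwa [e1] at this
  have hrank : ∀ i, ∃ m', finrank F W = kapm ν (2 * i + 1) + 2 * m' := by
    intro i
    obtain ⟨m', hm'⟩ := isometry_symm_rank (B.restrict W)
      (fun x y => hsymm _ _) hres.2 u v huv hvu
      (fun x y => by
        rw [hu]
        exact hinv _ _) hu1unit i
    refine ⟨m', ?_⟩
    rw [← hνk, ← hu1]
    exact hm'
  intro e he
  rcases Nat.eq_zero_or_pos e with rfl | he0
  · rw [Multiset.count_eq_zero_of_notMem]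
    · exact Even.zero
    · intro h0
      have := hν1 0 h0
      omega
  · exact count_even_of_kapm_odd ν (finrank F W) hrank e he he0

/-- the Jordan type of a unipotent isometry on an invariant nondegenerate subspace is a
sub-multiset of its Jordan type, again with even parts of even multiplicity -/
theorem sub_type_of_invariant (h2 : (2 : F) ≠ 0) (B : LinearMap.BilinForm F V)
    (hsymm : ∀ x y, B x y = B y x) (T : End F V) (hinv : ∀ x y, B (T x) (T y) = B x y)
    (hnil : IsNilpotent (T - 1)) (μ : Multiset ℕ) (hμ : ∀ b ∈ μ, 1 ≤ b)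
    (hk : ∀ s, kap (T - 1) s = kapm μ s) (W : Submodule F V) (hW : W.map T ≤ W)
    (hWnd : ∀ w ∈ W, w ≠ 0 → ∃ x ∈ W, B x w ≠ 0) :
    ∃ ν : Multiset ℕ, ν ≤ μ ∧ ν.sum = finrank F W ∧ ∀ e, Even e → Even (ν.count e) := by
  obtain ⟨ν, h1, h2', h3, -, -, -⟩ := sub_type_of_invariant' h2 B hsymm T hinv hnil μ hμ hk W hW hWnd
  exact ⟨ν, h1, h2', h3⟩

end invariant

end Cfsg.Agent.Lib.Helper15.UniOmega
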