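import Mathlib
import Cfsg.Agent.Lib.Helper15.UniOmega
import Cfsg.Agent.Lib.Helper15.UniOmega2

set_option autoImplicit false

namespace Cfsg.Agent.Lib.Helper15.UniOmega3

open Module QuadraticMap Cfsg.Agent.Lib.Helper15.SemisimpleConj
  Cfsg.Agent.Lib.Helper15.NilpotentConj Cfsg.Agent.Lib.Helper15.UniForm
  Cfsg.Agent.Lib.Helper15.UniModels Cfsg.Agent.Lib.Helper15.UniJordan
  Cfsg.Agent.Lib.Helper15.UniOmega Cfsg.Agent.Lib.Helper15.UniOmega2
open scoped Matrix

universe u

section comb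

/-- the sum of a sub-multiset of `2^a + (b)` -/
lemma sum_sub_two (ν : Multiset ℕ) (a b : ℕ) (hb : b ≠ 2)
    (hν : ν ≤ Multiset.replicate a 2 + {b}) :
    ν.sum = 2 * ν.count 2 + b * ν.count b ∧ ν.count b ≤ 1 := by
  classical
  constructor
  · rw [Finset.sum_multiset_count]
    have hsub : ν.toFinset ⊆ {2, b} := by
      intro x hx
      rw [Multiset.mem_toFinset] at hx
      have hx' := Multiset.mem_of_le hν hx
      rw [Multiset.mem_add, Multiset.mem_replicate, Multiset.mem_singleton] at hx'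
      rw [Finset.mem_insert, Finset.mem_singleton]
      rcases hx' with h | h
      · exact Or.inl h.2
      · exact Or.inr h
    rw [Finset.sum_subset hsub, Finset.sum_pair (Ne.symm hb)]
    · simp only [smul_eq_mul]
      ring
    · intro x _ hx
      rw [Multiset.mem_toFinset] at hx
      rw [Multiset.count_eq_zero_of_notMem hx, zero_smul]
  · have := Multiset.count_le_of_le b hν
    rw [Multiset.count_add, Multiset.count_replicate, if_neg (Ne.symm hb),
      Multiset.count_singleton_self] at this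
    omega

/-- a sub-multiset of `2^a + (b)`, `b` odd, with even sum and an even number of twos has sum
divisible by four -/
lemma four_dvd_of_sub (ν : Multiset ℕ) (a b m : ℕ) (hb : Odd b)
    (hν : ν ≤ Multiset.replicate a 2 + {b}) (hsum : ν.sum = m) (hm : Even m)
    (hpar : Even (ν.count 2)) : m % 4 = 0 := by
  have hb2 : b ≠ 2 := by
    rintro rfl
    exact absurd hb (by decide)
  obtain ⟨h1, h2⟩ := sum_sub_two ν a b hb2 hν
  obtain ⟨k, hk⟩ := hpar
  obtain ⟨j, hj⟩ := hb
  obtain ⟨i, hi⟩ := hm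
  rw [hsum] at h1
  have h3 : ν.count b = 0 ∨ ν.count b = 1 := by omega
  rcases h3 with h3 | h3
  · rw [h3] at h1
    omega
  · rw [h3] at h1
    omega

end comb

section facts

variable {F : Type u} [Field F] {ι : Type} [Fintype ι] [DecidableEq ι]

/-- the linear-algebra content of membership in the isometry group, any index type -/
theorem isometry_facts' (Q : QuadraticForm F (ι → F)) (A : ↥(Cfsg.isometryGroup F ⇑Q)) :
    (∀ x, Q (Matrix.toLin' ((A : GL ι F) : Matrix ι ι F) x) = Q x) ∧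
      ∀ x y, polarBilin Q (Matrix.toLin' ((A : GL ι F) : Matrix ι ι F) x)
        (Matrix.toLin' ((A : GL ι F) : Matrix ι ι F) y) = polarBilin Q x y := by
  obtain ⟨g, hg⟩ := A
  have hQ : ∀ x, Q (Matrix.toLin' g.val x) = Q x := by
    intro x
    rw [Matrix.toLin'_apply]
    exact hg x x
  refine ⟨hQ, fun x y => ?_⟩
  rw [polarBilin_apply_apply, polarBilin_apply_apply]
  unfold QuadraticMap.polar
  rw [← map_add, hQ, hQ, hQ]

variable [Fintype F]

/-- a unipotent element of order `p` of `Ω(Q₀)` with a prescribed Jordan type, from an abstract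
model that is isometric up to a scalar -/
theorem exists_omega_element (p : ℕ) [Fact p.Prime] [CharP F p] (hp2 : p ≠ 2)
    (Q₀ : QuadraticForm F (ι → F)) (hnd₀ : (polarBilin Q₀).Nondegenerate)
    (μ : Multiset ℕ) (hμ : ∀ e ∈ μ, 0 < e ∧ e ≤ p) (hcard : Multiset.card μ ≠ μ.sum)
    {W : Type u} [AddCommGroup W] [Module F W] [FiniteDimensional F W] (T : End F W)
    (hnil : IsNilpotent (T - 1)) (hk : ∀ s, kap (T - 1) s = kapm μ s)
    (Q : QuadraticForm F W) (hinv : ∀ x, Q (T x) = Q x) (c : F) (hc : c ≠ 0)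
    (g : W ≃ₗ[F] (ι → F)) (hg : ∀ x, c * Q₀ (g x) = Q x) :
    ∃ A : ↥(Cfsg.isometryGroup F ⇑Q₀), A ∈ Cfsg.Omega F ⇑Q₀ ∧ orderOf (A : GL ι F) = p ∧
      IsNilpotent (Matrix.toLin' ((A : GL ι F) : Matrix ι ι F) - 1) ∧
      ∀ s, kap (Matrix.toLin' ((A : GL ι F) : Matrix ι ι F) - 1) s = kapm μ s := by
  classical
  have hp := (Fact.out : p.Prime)
  have hμ1 : ∀ b ∈ μ, 1 ≤ b := fun b hb => (hμ b hb).1
  obtain ⟨A, hlin, hconj⟩ := UniOmega2.transport_isometry T hnil Q hinv (⇑Q₀) c hc g hg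
  obtain ⟨S, hS⟩ : ∃ S : End F (ι → F), S = Matrix.toLin' ((A : GL ι F) : Matrix ι ι F) :=
    ⟨_, rfl⟩
  rw [← hS] at hconj
  have hkS : ∀ s, kap (S - 1) s = kapm μ s := fun s => by rw [← kap_conj hconj s, hk]
  have hfr : finrank F (ι → F) = μ.sum := by
    rw [← g.finrank_eq]
    exact finrank_of_kap (T - 1) μ hk hnil
  have hnilS : IsNilpotent (S - 1) := nilpotent_of_kap (S - 1) μ hkS hfr
  have hSp : S ^ p = 1 := by
    have h1 : (S - 1) ^ p = 0 := by
      rw [pow_eq_zero_iff_kap, hkS, hfr, kapm_eq_sum_iff]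
      intro b hb
      exact (hμ b hb).2
    rw [sub_one_pow_char] at h1
    exact sub_eq_zero.1 h1
  have hAp : A ^ p = 1 := by
    apply Subtype.ext
    apply Units.ext
    apply Matrix.toLin'.injective
    show Matrix.toLin' (((A ^ p : ↥(Cfsg.isometryGroup F ⇑Q₀)) : GL ι F) : Matrix ι ι F) =
      Matrix.toLin' (1 : Matrix ι ι F)
    rw [Subgroup.coe_pow, Units.val_pow_eq_pow_val, Matrix.toLin'_pow, ← hS, hSp,
      Matrix.toLin'_one]
    rfl
  have hA1 : (A : GL ι F) ≠ 1 := by
    intro h1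
    apply hcard
    have h2 : S = 1 := by
      rw [hS, h1, Units.val_one, Matrix.toLin'_one]
      rfl
    rw [← kapm_one μ hμ1, ← hkS, h2, sub_self, ← hfr]
    unfold kap
    rw [pow_one, LinearMap.ker_zero, finrank_top]
  have hApGL : (A : GL ι F) ^ p = 1 := by
    rw [← Subgroup.coe_pow, hAp]
    rfl
  have hcardF : Fintype.card F ≠ 2 := by
    intro h2
    obtain ⟨n, -, hn⟩ := FiniteField.card F p
    have h3 : p ∣ 2 := by
      rw [← h2, hn]
      exact dvd_pow_self p n.ne_zero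
    exact hp2 ((Nat.prime_dvd_prime_iff_eq hp Nat.prime_two).1 h3)
  refine ⟨A, ?_, orderOf_eq_prime hApGL hA1, ?_, ?_⟩
  · exact mem_omega_of_odd_order Q₀ hnd₀ (Or.inl hcardF) A p
      (hp.eq_two_or_odd'.resolve_left hp2) hAp
  · rw [← hS]; exact hnilS
  · rw [← hS]; exact hkS

end facts

end Cfsg.Agent.Lib.Helper15.UniOmega3
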