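import Mathlib
import Cfsg.Agent.Lib.Helper15.UniOmega3
import Cfsg.Agent.Lib.Helper15.QuadType

set_option autoImplicit false

namespace Cfsg.Agent.Lib.Helper15.UniDisc

open Module QuadraticMap Cfsg.Agent.Lib.Helper15.SemisimpleConj
  Cfsg.Agent.Lib.Helper15.NilpotentConj Cfsg.Agent.Lib.Helper15.UniForm
  Cfsg.Agent.Lib.Helper15.UniModels Cfsg.Agent.Lib.Helper15.UniJordan
  Cfsg.Agent.Lib.Helper15.UniOmega Cfsg.Agent.Lib.Helper15.UniOmega2
  Cfsg.Agent.Lib.Helper15.UniOmega3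
open scoped Matrix

universe u

section defs

variable (F : Type u) [Field F]

/-- an orthogonal unipotent model of Jordan type `μ` together with a basis whose Gram determinant
(for the polar form) is `δ` -/
def OUd (μ : Multiset ℕ) (δ : F) : Prop :=
  ∃ (W : Type u) (_ : AddCommGroup W) (_ : Module F W) (_ : FiniteDimensional F W)
    (T : End F W) (Q : QuadraticForm F W) (ι : Type) (_ : Fintype ι) (_ : DecidableEq ι)
    (b : Basis ι F W), (polarBilin Q).Nondegenerate ∧ (∀ x, Q (T x) = Q x) ∧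
      IsNilpotent (T - 1) ∧ (∀ s, kap (T - 1) s = kapm μ s) ∧
      (LinearMap.BilinForm.toMatrix b (polarBilin Q)).det = δ

variable {F}

lemma OUd.ne_zero {μ : Multiset ℕ} {δ : F} (h : OUd F μ δ) : δ ≠ 0 := by
  obtain ⟨W, _, _, _, T, Q, ι, _, _, b, hnd, -, -, -, hdet⟩ := h
  rw [← hdet]
  exact (LinearMap.BilinForm.nondegenerate_iff_det_ne_zero b).1 hnd

lemma OUd.toOU {μ : Multiset ℕ} {δ : F} (h : OUd F μ δ) : OU F μ := by
  obtain ⟨W, i1, i2, i3, T, Q, ι, _, _, b, hnd, hinv, hnil, hk, -⟩ := h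
  exact ⟨W, i1, i2, i3, T, Q, hnd, hinv, hnil, hk⟩

lemma OUd.of_OU {μ : Multiset ℕ} (h : OU F μ) : ∃ δ, OUd F μ δ := by
  classical
  obtain ⟨W, i1, i2, i3, T, Q, hnd, hinv, hnil, hk⟩ := h
  exact ⟨_, W, i1, i2, i3, T, Q, Fin (finrank F W), inferInstance, inferInstance,
    Module.finBasis F W, hnd, hinv, hnil, hk, rfl⟩

lemma oUd_zero : OUd F 0 1 := by
  classical
  refine ⟨PUnit.{u + 1}, inferInstance, inferInstance, inferInstance, 1, 0, PEmpty.{1}, inferInstance,
    inferInstance, Basis.empty PUnit.{u + 1}, ?_, ?_, ?_, ?_, ?_⟩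
  · constructor <;> intro x _ <;> exact Subsingleton.elim _ _
  · intro x; rfl
  · rw [sub_self]; exact IsNilpotent.zero
  · intro s
    rw [kapm_zero]
    exact kap_zero_space _ s
  · exact Matrix.det_isEmpty

lemma OUd.add {μ ν : Multiset ℕ} {δ δ' : F} (h₁ : OUd F μ δ) (h₂ : OUd F ν δ') :
    OUd F (μ + ν) (δ * δ') := by
  classical
  obtain ⟨W₁, _, _, _, T₁, Q₁, ι₁, _, _, b₁, hnd₁, hinv₁, hnil₁, hk₁, hdet₁⟩ := h₁
  obtain ⟨W₂, _, _, _, T₂, Q₂, ι₂, _, _, b₂, hnd₂, hinv₂, hnil₂, hk₂, hdet₂⟩ := h₂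
  refine ⟨W₁ × W₂, inferInstance, inferInstance, inferInstance, T₁.prodMap T₂, Q₁.prod Q₂,
    ι₁ ⊕ ι₂, inferInstance, inferInstance, b₁.prod b₂,
    Cfsg.Agent.Lib.Helper15.QuadReal.nondegenerate_prod Q₁ Q₂ hnd₁ hnd₂, ?_, ?_, ?_, ?_⟩
  · intro x
    rw [QuadraticMap.prod_apply, QuadraticMap.prod_apply]
    show Q₁ (T₁ x.1) + Q₂ (T₂ x.2) = _
    rw [hinv₁, hinv₂]
  · rw [prodMap_sub_one]
    exact isNilpotent_prodMap _ _ hnil₁ hnil₂
  · intro s
    rw [prodMap_sub_one, kap_prodMap, hk₁, hk₂, kapm_add]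
  · have hM : LinearMap.BilinForm.toMatrix (b₁.prod b₂) (polarBilin (Q₁.prod Q₂)) =
        Matrix.fromBlocks (LinearMap.BilinForm.toMatrix b₁ (polarBilin Q₁)) 0 0
          (LinearMap.BilinForm.toMatrix b₂ (polarBilin Q₂)) := by
      ext i j
      rw [LinearMap.BilinForm.toMatrix_apply, polarBilin_apply_apply, polar_prod]
      rcases i with i | i <;> rcases j with j | j
      · simp [LinearMap.BilinForm.toMatrix_apply]
      · simp
      · simp
      · simp [LinearMap.BilinForm.toMatrix_apply]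
    rw [hM, Matrix.det_fromBlocks_zero₂₁, hdet₁, hdet₂]

lemma OUd.scale {μ : Multiset ℕ} {δ : F} (h : OUd F μ δ) (c : F) (hc : c ≠ 0) :
    OUd F μ (c ^ μ.sum * δ) := by
  classical
  obtain ⟨W, i1, i2, i3, T, Q, ι, i4, i5, b, hnd, hinv, hnil, hk, hdet⟩ := h
  have hcard : Fintype.card ι = μ.sum := by
    rw [← Module.finrank_eq_card_basis b]
    exact finrank_of_kap (T - 1) μ hk hnil
  have hpolar : ∀ x y, polar (c • Q) x y = c * polar Q x y := by
    intro x y
    unfold QuadraticMap.polar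
    simp only [_root_.smul_apply, smul_eq_mul]
    ring
  refine ⟨W, i1, i2, i3, T, c • Q, ι, i4, i5, b, ?_, ?_, hnil, hk, ?_⟩
  · constructor
    · intro x hx
      apply hnd.1
      intro y
      have := hx y
      rw [polarBilin_apply_apply, hpolar] at this
      rw [polarBilin_apply_apply]
      exact (mul_eq_zero.1 this).resolve_left hc
    · intro y hy
      apply hnd.2
      intro x
      have := hy x
      rw [polarBilin_apply_apply, hpolar] at this
      rw [polarBilin_apply_apply]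
      exact (mul_eq_zero.1 this).resolve_left hc
  · intro x
    rw [_root_.smul_apply, _root_.smul_apply, hinv]
  · have hM : LinearMap.BilinForm.toMatrix b (polarBilin (c • Q)) =
        c • LinearMap.BilinForm.toMatrix b (polarBilin Q) := by
      ext i j
      rw [Matrix.smul_apply, LinearMap.BilinForm.toMatrix_apply,
        LinearMap.BilinForm.toMatrix_apply, polarBilin_apply_apply, polarBilin_apply_apply, hpolar,
        smul_eq_mul]
    rw [hM, Matrix.det_smul, hdet, hcard]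

end defs

section build

variable {F : Type u} [Field F]

lemma polarBilin_isSymm {W : Type*} [AddCommGroup W] [Module F W] (Q : QuadraticForm F W) :
    LinearMap.BilinForm.IsSymm (polarBilin Q) :=
  ⟨fun x y => by rw [polarBilin_apply_apply, polarBilin_apply_apply, polar_comm]⟩

/-- the pair model is hyperbolic: its discriminant is `(-1)^j` up to squares -/
theorem oUd_pair (j : ℕ) : ∃ δ : F, OUd F {j, j} δ ∧ IsSquare ((-1 : F) ^ j * δ) := by
  classical
  obtain ⟨U, U', h1, h2, hadj, hn, hn', hk, hk'⟩ := pair_data (F := F) j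
  have hsymm : ∀ f g, pairB F j 1 g f = pairB F j 1 f g := by
    intro f g
    rw [pairB_comm F j 1 (by ring), one_pow, one_mul]
  let B₀ : LinearMap.BilinForm F (Vk F j × Vk F j) :=
    (pairB F j 1).compl₁₂ (LinearMap.fst F _ _) (LinearMap.snd F _ _)
  have hB₀ : ∀ x y, B₀ x y = pairB F j 1 x.1 y.2 := fun x y => rfl
  let Q : QuadraticForm F (Vk F j × Vk F j) := LinearMap.BilinMap.toQuadraticMap B₀
  have hQ : ∀ x, Q x = pairB F j 1 x.1 x.2 := fun x => rfl
  have hpolar : ∀ x y, QuadraticMap.polar Q x y = pairB F j 1 x.1 y.2 + pairB F j 1 y.1 x.2 := by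
    intro x y
    rw [LinearMap.BilinMap.polar_toQuadraticMap, hB₀, hB₀]
  have key : ∀ x : Vk F j × Vk F j, (∀ y, QuadraticMap.polar Q x y = 0) → x = 0 := by
    intro x hx
    have hx1 : x.1 = 0 := by
      apply pairB_nondeg F j 1 one_ne_zero
      intro g
      have := hx (0, g)
      rw [hpolar] at this
      simpa using this
    have hx2 : x.2 = 0 := by
      apply pairB_nondeg F j 1 one_ne_zero
      intro g
      have := hx (g, 0)
      rw [hpolar] at this
      rw [hsymm g x.2]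
      simpa using this
    exact Prod.ext hx1 hx2
  have hnd : (polarBilin Q).Nondegenerate := by
    constructor
    · intro x hx
      exact key x (fun y => by
        have := hx y; rwa [QuadraticMap.polarBilin_apply_apply] at this)
    · intro y hy
      exact key y (fun x => by
        have := hy x; rwa [QuadraticMap.polarBilin_apply_apply, QuadraticMap.polar_comm] at this)
  have hfr : finrank F (Vk F j × Vk F j) = 2 * j := by
    rw [Module.finrank_prod, finrank_Vk]; ring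
  refine ⟨_, ⟨Vk F j × Vk F j, inferInstance, inferInstance, inferInstance, U.prodMap U', Q,
    Fin (finrank F (Vk F j × Vk F j)), inferInstance, inferInstance, Module.finBasis F _, hnd,
    ?_, ?_, ?_, rfl⟩, ?_⟩
  · intro x
    rw [hQ, hQ]
    show pairB F j 1 (U x.1) (U' x.2) = _
    rw [hadj]
  · rw [prodMap_sub_one]
    exact isNilpotent_prodMap _ _ hn hn'
  · intro s
    rw [prodMap_sub_one, kap_prodMap, hk, hk', kapm_pair]
  · apply Cfsg.Agent.Lib.Helper25.DiscType.isSquare_of_isotropic _ (polarBilin Q)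
      (polarBilin_isSymm Q) j hfr (LinearMap.range (LinearMap.inl F (Vk F j) (Vk F j)))
    · rw [LinearMap.finrank_range_of_inj LinearMap.inl_injective, finrank_Vk]
    · rintro x ⟨a, rfl⟩ y ⟨a', rfl⟩
      rw [polarBilin_apply_apply, hpolar]
      simp

lemma even_sum_of_all_even (μ : Multiset ℕ) (h : ∀ j ∈ μ, Even j) : Even μ.sum := by
  induction μ using Multiset.induction_on with
  | empty => simp
  | cons a μ ih =>
    rw [Multiset.sum_cons]
    exact (h a (Multiset.mem_cons_self a μ)).add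
      (ih (fun j hj => h j (Multiset.mem_cons_of_mem hj)))

/-- models with controlled discriminant -/
def Pd (F : Type u) [Field F] (μ : Multiset ℕ) : Prop :=
  ∀ ε : F, ε ≠ 0 → ∃ δ, OUd F μ δ ∧
    ((∃ j ∈ μ, Odd j) ∨ ((∀ j ∈ μ, Even j) ∧ IsSquare ((-1 : F) ^ (μ.sum / 2) * δ))) ∧
    ((∃ j ∈ μ, Odd j) → IsSquare (ε * δ))

lemma Pd.add {μ ν : Multiset ℕ} (hμ : Pd F μ) (hν : Pd F ν) : Pd F (μ + ν) := by
  intro ε hε
  by_cases hμo : ∃ j ∈ μ, Odd j
  · obtain ⟨δ', hν', -, -⟩ := hν 1 one_ne_zero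
    obtain ⟨δ, hμ', -, hsq⟩ := hμ (ε * δ') (mul_ne_zero hε hν'.ne_zero)
    obtain ⟨j, hj, hjo⟩ := hμo
    refine ⟨δ * δ', hμ'.add hν', Or.inl ⟨j, Multiset.mem_add.2 (Or.inl hj), hjo⟩, fun _ => ?_⟩
    have := hsq ⟨j, hj, hjo⟩
    have e : ε * (δ * δ') = ε * δ' * δ := by ring
    rw [e]
    exact this
  · by_cases hνo : ∃ j ∈ ν, Odd j
    · obtain ⟨δ, hμ', -, -⟩ := hμ 1 one_ne_zero
      obtain ⟨δ', hν', -, hsq⟩ := hν (ε * δ) (mul_ne_zero hε hμ'.ne_zero)
      obtain ⟨j, hj, hjo⟩ := hνo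
      refine ⟨δ * δ', hμ'.add hν', Or.inl ⟨j, Multiset.mem_add.2 (Or.inr hj), hjo⟩, fun _ => ?_⟩
      have := hsq ⟨j, hj, hjo⟩
      have e : ε * (δ * δ') = ε * δ * δ' := by ring
      rw [e]
      exact this
    · obtain ⟨δ, hμ', hor, -⟩ := hμ 1 one_ne_zero
      obtain ⟨δ', hν', hor', -⟩ := hν 1 one_ne_zero
      rcases hor with h | ⟨hev, hsq⟩
      · exact absurd h hμo
      rcases hor' with h | ⟨hev', hsq'⟩
      · exact absurd h hνo
      have hall : ∀ j ∈ μ + ν, Even j := by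
        intro j hj
        rcases Multiset.mem_add.1 hj with h | h
        · exact hev j h
        · exact hev' j h
      refine ⟨δ * δ', hμ'.add hν', Or.inr ⟨hall, ?_⟩, ?_⟩
      · obtain ⟨a, ha⟩ := even_sum_of_all_even μ hev
        obtain ⟨a', ha'⟩ := even_sum_of_all_even ν hev'
        have e1 : (μ + ν).sum / 2 = μ.sum / 2 + ν.sum / 2 := by
          rw [Multiset.sum_add]
          omega
        rw [e1, pow_add]
        have e2 : (-1 : F) ^ (μ.sum / 2) * (-1) ^ (ν.sum / 2) * (δ * δ') =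
            ((-1) ^ (μ.sum / 2) * δ) * ((-1) ^ (ν.sum / 2) * δ') := by ring
        rw [e2]
        exact hsq.mul hsq'
      · rintro ⟨j, hj, hjo⟩
        rcases Multiset.mem_add.1 hj with h | h
        · exact absurd ⟨j, h, hjo⟩ hμo
        · exact absurd ⟨j, h, hjo⟩ hνo

theorem pd_of_parity (h2 : (2 : F) ≠ 0) (μ : Multiset ℕ) (hμ : ∀ b ∈ μ, 1 ≤ b)
    (hpar : ∀ e, Even e → Even (μ.count e)) : Pd F μ := by
  apply build_of_parity (P := Pd F) Even _ (fun _ _ => Pd.add) _ _ μ hμ hpar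
  · -- zero
    intro ε _
    refine ⟨1, oUd_zero, Or.inr ⟨by simp, by simp⟩, ?_⟩
    rintro ⟨j, hj, -⟩
    simp at hj
  · -- odd single
    intro j _ hodd ε hε
    rw [Nat.not_even_iff_odd] at hodd
    obtain ⟨δ₀, h0⟩ := OUd.of_OU (Cfsg.Agent.Lib.Helper15.UniModelsO.oU_single_odd h2 j hodd)
    have hc : ε * δ₀ ≠ 0 := mul_ne_zero hε h0.ne_zero
    have h1 := h0.scale (ε * δ₀) hc
    rw [Multiset.sum_singleton] at h1
    refine ⟨_, h1, Or.inl ⟨j, Multiset.mem_singleton_self j, hodd⟩, fun _ => ?_⟩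
    obtain ⟨k, rfl⟩ := hodd
    refine ⟨(ε * δ₀) ^ (k + 1), ?_⟩
    rw [← pow_add]
    have : k + 1 + (k + 1) = (2 * k + 1) + 1 := by ring
    rw [this, pow_succ (n := 2 * k + 1)]
    ring
  · -- even pair
    intro j _ heven ε _
    obtain ⟨δ, hδ, hsq⟩ := oUd_pair (F := F) j
    refine ⟨δ, hδ, Or.inr ⟨?_, ?_⟩, ?_⟩
    · intro i hi
      rw [Multiset.insert_eq_cons, Multiset.mem_cons, Multiset.mem_singleton] at hi
      rcases hi with rfl | rfl <;> exact heven
    · have : ({j, j} : Multiset ℕ).sum / 2 = j := by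
        rw [Multiset.insert_eq_cons, Multiset.sum_cons, Multiset.sum_singleton]
        omega
      rw [this]
      exact hsq
    · rintro ⟨i, hi, hio⟩
      rw [Multiset.insert_eq_cons, Multiset.mem_cons, Multiset.mem_singleton] at hi
      rcases hi with rfl | rfl <;> exact absurd heven (Nat.not_even_iff_odd.2 hio)

end build

section gram

variable {F : Type u} [Field F] [Fintype F]

/-- two nondegenerate quadratic spaces of the same dimension whose Gram determinants agree up to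
squares are isometric (odd characteristic) -/
theorem exists_isometry_of_gram (h2 : (2 : F) ≠ 0) {W W₀ : Type*} [AddCommGroup W] [Module F W]
    [FiniteDimensional F W] [AddCommGroup W₀] [Module F W₀] [FiniteDimensional F W₀]
    (Q : QuadraticForm F W) (Q₀ : QuadraticForm F W₀) (hnd : (polarBilin Q).Nondegenerate)
    (hnd₀ : (polarBilin Q₀).Nondegenerate) {ι ι₀ : Type*} [Fintype ι] [DecidableEq ι]
    [Fintype ι₀] [DecidableEq ι₀] (b : Basis ι F W) (b₀ : Basis ι₀ F W₀)
    (hdim : finrank F W = finrank F W₀)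
    (hsq : IsSquare ((LinearMap.BilinForm.toMatrix b (polarBilin Q)).det *
      (LinearMap.BilinForm.toMatrix b₀ (polarBilin Q₀)).det)) :
    ∃ g : W ≃ₗ[F] W₀, ∀ x, Q₀ (g x) = Q x := by
  classical
  obtain ⟨n, hn⟩ : ∃ n, finrank F W = n := ⟨_, rfl⟩
  let c : Basis (Fin n) F W := finBasisOfFinrankEq F W hn
  let c₀ : Basis (Fin n) F W₀ := finBasisOfFinrankEq F W₀ (by rw [← hdim, hn])
  obtain ⟨e, he, hdet⟩ := Cfsg.Agent.Lib.Helper25.DiscType.gram_det_change b c (polarBilin Q)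
  obtain ⟨e₀, he₀, hdet₀⟩ := Cfsg.Agent.Lib.Helper25.DiscType.gram_det_change b₀ c₀ (polarBilin Q₀)
  have hsq' : IsSquare ((LinearMap.BilinForm.toMatrix c (polarBilin Q)).det *
      (LinearMap.BilinForm.toMatrix c₀ (polarBilin Q₀)).det) := by
    rw [hdet, hdet₀]
    obtain ⟨r, hr⟩ := hsq
    refine ⟨e * e₀ * r, ?_⟩
    linear_combination (e * e * e₀ * e₀) * hr
  obtain ⟨g, hg⟩ := Cfsg.Agent.Lib.Helper25.DiscType.exists_isometry_of_disc h2 c c₀ (polarBilin Q)
    (polarBilin Q₀) (polarBilin_isSymm Q) (polarBilin_isSymm Q₀) hnd hnd₀ hsq'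
  refine ⟨g, fun x => ?_⟩
  have h1 := hg x x
  rw [polarBilin_apply_apply, polarBilin_apply_apply, polar_self, polar_self, two_nsmul,
    two_nsmul] at h1
  have h3 : (2 : F) * Q₀ (g x) = 2 * Q x := by linear_combination h1
  exact mul_left_cancel₀ h2 h3

omit [Fintype F] in
/-- the discriminant of the standard plus form -/
theorem isSquare_plus (d : ℕ) :
    IsSquare ((-1 : F) ^ d * (LinearMap.BilinForm.toMatrix (Pi.basisFun F (Fin d ⊕ Fin d))
      (polarBilin (Cfsg.Agent.Lib.Helper15.plusQF d (F := F)))).det) := by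
  classical
  apply Cfsg.Agent.Lib.Helper25.DiscType.isSquare_of_isotropic _ _ (polarBilin_isSymm _) d
    (by rw [Module.finrank_fintype_fun_eq_card]; simp; ring)
    (LinearMap.range (Cfsg.Agent.Lib.Helper25.DiscType.inlMap (F := F) d))
  · rw [LinearMap.finrank_range_of_inj (Cfsg.Agent.Lib.Helper25.DiscType.inlMap_injective d)]
    simp
  · rintro x ⟨a, rfl⟩ y ⟨a', rfl⟩
    rw [polarBilin_apply_apply, Cfsg.Agent.Lib.Helper15.polar_plusQF']
    apply Finset.sum_eq_zero
    intro i _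
    simp [Cfsg.Agent.Lib.Helper25.DiscType.inlMap]

/-- every Jordan type with even parts of even multiplicity and sum `2d` is realised by a unipotent
isometry of the standard plus form -/
theorem exists_plus_model (h2 : (2 : F) ≠ 0) (d : ℕ) (μ : Multiset ℕ) (hμ : ∀ b ∈ μ, 1 ≤ b)
    (hpar : ∀ e, Even e → Even (μ.count e)) (hsum : μ.sum = 2 * d) :
    ∃ (W : Type u) (_ : AddCommGroup W) (_ : Module F W) (_ : FiniteDimensional F W)
      (T : End F W) (Q : QuadraticForm F W), (∀ x, Q (T x) = Q x) ∧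
      IsNilpotent (T - 1) ∧ (∀ s, kap (T - 1) s = kapm μ s) ∧
      ∃ g : W ≃ₗ[F] (Fin d ⊕ Fin d → F), ∀ x, Cfsg.Agent.Lib.Helper15.plusQF d (g x) = Q x := by
  classical
  obtain ⟨δ₀, hδ₀⟩ : ∃ δ₀ : F, δ₀ = (LinearMap.BilinForm.toMatrix (Pi.basisFun F (Fin d ⊕ Fin d))
      (polarBilin (Cfsg.Agent.Lib.Helper15.plusQF d (F := F)))).det := ⟨_, rfl⟩
  have hnd₀ := Cfsg.Agent.Lib.Helper15.QuadType.plusQF_nondegenerate (F := F) d
  have hδ₀ne : δ₀ ≠ 0 := by
    rw [hδ₀]
    exact (LinearMap.BilinForm.nondegenerate_iff_det_ne_zero _).1 hnd₀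
  obtain ⟨δ, hmodel, hor, himp⟩ := pd_of_parity h2 μ hμ hpar δ₀ hδ₀ne
  have hsq : IsSquare (δ * δ₀) := by
    rcases hor with hodd | ⟨hev, hsq⟩
    · have := himp hodd
      rwa [mul_comm] at this
    · have h1 := isSquare_plus (F := F) d
      rw [← hδ₀] at h1
      have h3 : μ.sum / 2 = d := by omega
      rw [h3] at hsq
      have e : δ * δ₀ = ((-1 : F) ^ d * δ) * ((-1) ^ d * δ₀) := by
        have : ((-1 : F) ^ d) * ((-1) ^ d) = 1 := by
          rw [← mul_pow]
          simp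
        rw [show ((-1 : F) ^ d * δ) * ((-1) ^ d * δ₀) = ((-1) ^ d * (-1) ^ d) * (δ * δ₀) by ring,
          this, one_mul]
      rw [e]
      exact hsq.mul h1
  obtain ⟨W, i1, i2, i3, T, Q, ι, i4, i5, b, hnd, hinv, hnil, hk, hdet⟩ := hmodel
  have hdim : finrank F W = finrank F (Fin d ⊕ Fin d → F) := by
    rw [finrank_of_kap (T - 1) μ hk hnil, hsum, Module.finrank_fintype_fun_eq_card]
    simp
    ring
  obtain ⟨g, hg⟩ := exists_isometry_of_gram h2 Q (Cfsg.Agent.Lib.Helper15.plusQF d) hnd hnd₀ b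
    (Pi.basisFun F (Fin d ⊕ Fin d)) hdim (by rw [hdet, ← hδ₀]; exact hsq)
  exact ⟨W, i1, i2, i3, T, Q, hinv, hnil, hk, g, hg⟩

end gram

end Cfsg.Agent.Lib.Helper15.UniDisc
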