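import Mathlib
import Cfsg.Agent.Lib.Helper15.UniDisc
import Cfsg.Agent.Lib.Helper15.UnitaryQuad

set_option autoImplicit false

namespace Cfsg.Agent.Lib.Helper15.UniOmega4

open Module QuadraticMap Cfsg.Agent.Lib.Helper15.SemisimpleConj
  Cfsg.Agent.Lib.Helper15.NilpotentConj Cfsg.Agent.Lib.Helper15.UniForm
  Cfsg.Agent.Lib.Helper15.UniModels Cfsg.Agent.Lib.Helper15.UniJordan
  Cfsg.Agent.Lib.Helper15.UniOmega Cfsg.Agent.Lib.Helper15.UniOmega2
  Cfsg.Agent.Lib.Helper15.UniOmega3 Cfsg.Agent.Lib.Helper15.UniDisc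
open scoped Matrix

universe u

section geom

variable {F : Type u} [Field F] {V : Type*} [AddCommGroup V] [Module F V] [FiniteDimensional F V]

/-- an invariant subspace on which a unipotent isometry with `(T-1)² = 0` has kernel of half the
dimension contains a totally singular subspace of half the dimension -/
theorem plus_of_all_two (h2 : (2 : F) ≠ 0) (Q : QuadraticForm F V) (T : End F V)
    (hinv : ∀ x, Q (T x) = Q x) (hN2 : (T - 1) * (T - 1) = 0) (W : Submodule F V)
    (hW1 : W ∈ (T - 1).invtSubmodule) (c : ℕ) (hker : kap ((T - 1).restrict hW1) 1 = c)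
    (hfr : finrank F W = 2 * c) :
    ∃ U : Submodule F V, U ≤ W ∧ (∀ u ∈ U, Q u = 0) ∧ 2 * finrank F U = finrank F W := by
  refine ⟨(LinearMap.range ((T - 1).restrict hW1)).map W.subtype, Submodule.map_subtype_le _ _,
    ?_, ?_⟩
  · rintro u ⟨u', ⟨w, rfl⟩, rfl⟩
    show Q ((T - 1) (w : V)) = 0
    obtain ⟨x, hx⟩ : ∃ x : V, x = (w : V) := ⟨_, rfl⟩
    rw [← hx]
    have hNN : (T - 1) ((T - 1) x) = 0 := by
      have := congrArg (fun X : End F V => X x) hN2
      exact this
    have hTx : T x = x + (T - 1) x := by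
      rw [LinearMap.sub_apply, Module.End.one_apply]
      abel
    have hTN : T ((T - 1) x) = (T - 1) x := by
      have : T ((T - 1) x) = (T - 1) x + (T - 1) ((T - 1) x) := by
        rw [LinearMap.sub_apply (x := (T - 1) x), Module.End.one_apply]
        abel
      rw [this, hNN, add_zero]
    have hpol : polar Q (T x) (T ((T - 1) x)) = polar Q x ((T - 1) x) := by
      unfold QuadraticMap.polar
      rw [← map_add, hinv, hinv, hinv]
    rw [hTN, hTx, polar_add_left, polar_self, two_nsmul] at hpol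
    have h3 : (2 : F) * Q ((T - 1) x) = 0 := by linear_combination hpol
    exact (mul_eq_zero.1 h3).resolve_left h2
  · rw [Submodule.finrank_map_subtype_eq]
    have h1 := LinearMap.finrank_range_add_finrank_ker ((T - 1).restrict hW1)
    unfold kap at hker
    rw [pow_one] at hker
    omega

end geom

section minus

variable {F : Type u} [Field F] [Fintype F]

/-- every Jordan type with even parts of even multiplicity, an odd part and sum `2(k+1)` is
realised by a unipotent isometry of the standard minus form -/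
theorem exists_minus_model (h2 : (2 : F) ≠ 0) (k : ℕ) (a c : F)
    (hD : a ^ 2 - 4 * c ≠ 0) (μ : Multiset ℕ) (hμ : ∀ b ∈ μ, 1 ≤ b)
    (hpar : ∀ e, Even e → Even (μ.count e)) (hsum : μ.sum = 2 * (k + 1))
    (hodd : ∃ j ∈ μ, Odd j) :
    ∃ (W : Type u) (_ : AddCommGroup W) (_ : Module F W) (_ : FiniteDimensional F W)
      (T : End F W) (Q : QuadraticForm F W), (∀ x, Q (T x) = Q x) ∧
      IsNilpotent (T - 1) ∧ (∀ s, kap (T - 1) s = kapm μ s) ∧
      ∃ g : W ≃ₗ[F] ((Fin k ⊕ Fin k) ⊕ Fin 2 → F),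
        ∀ x, Cfsg.Agent.Lib.Helper15.minusQFab k a c (g x) = Q x := by
  classical
  obtain ⟨δ₀, hδ₀⟩ : ∃ δ₀ : F, δ₀ =
      (LinearMap.BilinForm.toMatrix (Pi.basisFun F ((Fin k ⊕ Fin k) ⊕ Fin 2))
        (polarBilin (Cfsg.Agent.Lib.Helper15.minusQFab k a c))).det := ⟨_, rfl⟩
  have hnd₀ := Cfsg.Agent.Lib.Helper15.QuadType.minusQFab_nondegenerate k a c hD
  have hδ₀ne : δ₀ ≠ 0 := by
    rw [hδ₀]
    exact (LinearMap.BilinForm.nondegenerate_iff_det_ne_zero _).1 hnd₀
  obtain ⟨δ, hmodel, -, himp⟩ := pd_of_parity h2 μ hμ hpar δ₀ hδ₀ne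
  have hsq : IsSquare (δ * δ₀) := by
    have := himp hodd
    rwa [mul_comm] at this
  obtain ⟨W, i1, i2, i3, T, Q, ι, i4, i5, b, hnd, hinv, hnil, hk, hdet⟩ := hmodel
  have hdim : finrank F W = finrank F ((Fin k ⊕ Fin k) ⊕ Fin 2 → F) := by
    rw [finrank_of_kap (T - 1) μ hk hnil, hsum, Module.finrank_fintype_fun_eq_card]
    simp
    ring
  obtain ⟨g, hg⟩ := exists_isometry_of_gram h2 Q (Cfsg.Agent.Lib.Helper15.minusQFab k a c) hnd hnd₀
    b (Pi.basisFun F ((Fin k ⊕ Fin k) ⊕ Fin 2)) hdim (by rw [hdet, ← hδ₀]; exact hsq)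
  exact ⟨W, i1, i2, i3, T, Q, hinv, hnil, hk, g, hg⟩

end minus

section comb

/-- the sum of a multiset supported on a finite set -/
lemma sum_eq_of_support (ν : Multiset ℕ) (S : Finset ℕ) (h : ∀ x ∈ ν, x ∈ S) :
    ν.sum = ∑ x ∈ S, ν.count x * x := by
  classical
  rw [Finset.sum_multiset_count]
  have hsub : ν.toFinset ⊆ S := by
    intro x hx
    exact h x (Multiset.mem_toFinset.1 hx)
  rw [Finset.sum_subset hsub]
  · apply Finset.sum_congr rfl
    intro x _
    rw [smul_eq_mul]
  · intro x _ hx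
    rw [Multiset.mem_toFinset] at hx
    rw [Multiset.count_eq_zero_of_notMem hx, zero_smul]

/-- pulling back a sub-multiset along the replacement of a pair `(j, j)` by `(j+1, j-1)` -/
lemma pull_back (j : ℕ) (hj : Even j) (hj0 : 0 < j) (ρ ν' : Multiset ℕ)
    (hρ : ∀ x ∈ ρ, Even x) (hν' : ν' ≤ (j + 1) ::ₘ (j - 1) ::ₘ ρ) (m : ℕ) (hm : Even m)
    (hsum : ν'.sum = m) (hpar : ∀ e, Even e → Even (ν'.count e)) :
    ∃ ν : Multiset ℕ, ν ≤ j ::ₘ j ::ₘ ρ ∧ ν.sum = m ∧ ∀ e, Even e → Even (ν.count e) := by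
  classical
  obtain ⟨i, hi⟩ := hj
  have hj1 : Odd (j + 1) := ⟨i, by omega⟩
  have hj2 : Odd (j - 1) := ⟨i - 1, by omega⟩
  have hne : j + 1 ≠ j - 1 := by omega
  obtain ⟨β, hβ⟩ : ∃ β, β = ν'.filter (fun x => Even x) := ⟨_, rfl⟩
  obtain ⟨γ, hγ⟩ : ∃ γ, γ = ν'.filter (fun x => ¬ Even x) := ⟨_, rfl⟩
  have hsplit : ν' = β + γ := by
    rw [hβ, hγ, Multiset.filter_add_not]
  have hβρ : β ≤ ρ := by
    rw [hβ]
    refine le_trans (Multiset.filter_le_filter _ hν') ?_
    rw [Multiset.filter_cons_of_neg _ (Nat.not_even_iff_odd.2 hj1),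
      Multiset.filter_cons_of_neg _ (Nat.not_even_iff_odd.2 hj2)]
    exact Multiset.filter_le _ _
  have hγle : γ ≤ {j + 1, j - 1} := by
    rw [hγ]
    refine le_trans (Multiset.filter_le_filter _ hν') ?_
    rw [Multiset.filter_cons_of_pos (p := fun x => ¬ Even x) _ (Nat.not_even_iff_odd.2 hj1),
      Multiset.filter_cons_of_pos (p := fun x => ¬ Even x) _ (Nat.not_even_iff_odd.2 hj2)]
    have : ρ.filter (fun x => ¬ Even x) = 0 := by
      rw [Multiset.filter_eq_nil]
      intro x hx hne'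
      exact hne' (hρ x hx)
    rw [this]
    exact le_refl _
  have hβeven : Even β.sum :=
    even_sum_of_all_even β (fun x hx => hρ x (Multiset.mem_of_le hβρ hx))
  have hγsum : γ.sum = γ.count (j + 1) * (j + 1) + γ.count (j - 1) * (j - 1) := by
    rw [sum_eq_of_support γ {j + 1, j - 1}, Finset.sum_pair hne]
    intro x hx
    have := Multiset.mem_of_le hγle hx
    rw [Multiset.insert_eq_cons, Multiset.mem_cons, Multiset.mem_singleton] at this
    rw [Finset.mem_insert, Finset.mem_singleton]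
    exact this
  have hc1 : γ.count (j + 1) ≤ 1 := by
    have := Multiset.count_le_of_le (j + 1) hγle
    rw [Multiset.insert_eq_cons, Multiset.count_cons_self, Multiset.count_singleton,
      if_neg hne] at this
    exact this
  have hc2 : γ.count (j - 1) ≤ 1 := by
    have := Multiset.count_le_of_le (j - 1) hγle
    rw [Multiset.insert_eq_cons, Multiset.count_cons_of_ne (Ne.symm hne),
      Multiset.count_singleton_self] at this
    exact this
  have hmsum : m = β.sum + γ.sum := by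
    rw [← hsum, hsplit, Multiset.sum_add]
  have hparβ : ∀ e, Even e → β.count e = ν'.count e := by
    intro e he
    rw [hβ, Multiset.count_filter_of_pos he]
  obtain ⟨b', hb'⟩ := hβeven
  obtain ⟨m', hm'⟩ := hm
  have hcases : (γ.count (j + 1) = 0 ∧ γ.count (j - 1) = 0) ∨
      (γ.count (j + 1) = 1 ∧ γ.count (j - 1) = 1) := by
    have h1 : γ.count (j + 1) = 0 ∨ γ.count (j + 1) = 1 := by omega
    have h2 : γ.count (j - 1) = 0 ∨ γ.count (j - 1) = 1 := by omega
    rcases h1 with h1 | h1 <;> rcases h2 with h2 | h2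
    · exact Or.inl ⟨h1, h2⟩
    · exfalso
      rw [h1, h2] at hγsum
      omega
    · exfalso
      rw [h1, h2] at hγsum
      omega
    · exact Or.inr ⟨h1, h2⟩
  rcases hcases with ⟨h1, h2⟩ | ⟨h1, h2⟩
  · refine ⟨β, le_trans hβρ (le_trans (Multiset.le_cons_self _ _) (Multiset.le_cons_self _ _)),
      ?_, ?_⟩
    · rw [h1, h2] at hγsum
      omega
    · intro e he
      rw [hparβ e he]
      exact hpar e he
  · refine ⟨j ::ₘ j ::ₘ β, Multiset.cons_le_cons _ (Multiset.cons_le_cons _ hβρ), ?_, ?_⟩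
    · rw [Multiset.sum_cons, Multiset.sum_cons]
      rw [h1, h2] at hγsum
      omega
    · intro e he
      rw [Multiset.count_cons, Multiset.count_cons, hparβ e he]
      have := hpar e he
      split_ifs
      · rw [Nat.even_iff] at this ⊢
        omega
      · simpa using this

end comb

end Cfsg.Agent.Lib.Helper15.UniOmega4
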