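import Cfsg.Agent.Lib.Lead.CharMain

/-!
# A multiplicity-freeness criterion (helper15)

If `|J|` non-zero characters add up to a class function of norm `|J|`, then they are irreducible
and pairwise distinct.
-/

set_option autoImplicit false

namespace Cfsg.Agent.Lib.Helper15.MultFree

open Cfsg Cfsg.Agent.CharLib
open scoped ComplexConjugate

universe u

theorem multfree {G : Type u} [Group G] [Fintype G] {J : Type*} [Fintype J] (Θ : J → G → ℂ)
    (hchar : ∀ j, IsCharacter G (Θ j)) (hne : ∀ j, Θ j ≠ 0)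
    (hnorm : classInner (∑ j, Θ j) (∑ j, Θ j) = (Fintype.card J : ℂ)) :
    (∀ j, IsIrrCharacter G (Θ j)) ∧ Function.Injective Θ := by
  classical
  let _ := fintypeIrr G
  choose m hm using fun j => IsCharacter.exists_decomp (hchar j)
  simp only [finsum_eq_sum_of_fintype] at hm
  let a : IrrCharacter G → ℕ := fun ψ => ∑ j, m j ψ
  let s : J → ℕ := fun j => ∑ ψ, m j ψ
  have hsum : (∑ j, Θ j) = ∑ ψ : IrrCharacter G, ((a ψ : ℕ) : ℂ) • (ψ : G → ℂ) := by
    have h1 : (∑ j, Θ j) = ∑ j, ∑ ψ : IrrCharacter G, m j ψ • (ψ : G → ℂ) :=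
      Finset.sum_congr rfl (fun j _ => hm j)
    rw [h1, Finset.sum_comm]
    apply Finset.sum_congr rfl
    intro ψ _
    rw [← Finset.sum_smul, Nat.cast_smul_eq_nsmul]
  -- norm computation
  have hB : ∑ ψ, (a ψ) ^ 2 = Fintype.card J := by
    have h1 : classInner (∑ j, Θ j) (∑ j, Θ j) = ((∑ ψ, (a ψ) ^ 2 : ℕ) : ℂ) := by
      rw [hsum, classInner_sum_left]
      push_cast
      apply Finset.sum_congr rfl
      intro ψ _
      rw [classInner_smul_left, classInner_sum_right, Finset.sum_eq_single ψ]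
      · rw [classInner_smul_right, classInner_irr' ψ ψ, if_pos rfl, Complex.conj_natCast]
        ring
      · intro φ _ hφ
        rw [classInner_smul_right, classInner_irr' ψ φ, if_neg (Ne.symm hφ), mul_zero]
      · intro h; exact absurd (Finset.mem_univ _) h
    rw [h1] at hnorm
    exact_mod_cast hnorm
  -- each character has a constituent
  have hs1 : ∀ j, 1 ≤ s j := by
    intro j
    by_contra hcon
    have h0 : s j = 0 := by omega
    have h1 : ∀ ψ, m j ψ = 0 := fun ψ => (Finset.sum_eq_zero_iff.mp h0) ψ (Finset.mem_univ _)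
    apply hne j
    rw [hm j]
    apply Finset.sum_eq_zero
    intro ψ _
    rw [h1 ψ, zero_smul]
  have hA : ∑ ψ, a ψ = ∑ j, s j := Finset.sum_comm
  have hle1 : ∑ ψ, a ψ ≤ ∑ ψ, (a ψ) ^ 2 :=
    Finset.sum_le_sum (fun ψ _ => Nat.le_self_pow (by norm_num) _)
  have hle2 : ∑ _j : J, 1 ≤ ∑ j, s j := Finset.sum_le_sum (fun j _ => hs1 j)
  have hcard : ∑ _j : J, 1 = Fintype.card J := by simp
  have hs : ∀ j, s j = 1 := by
    have h1 : ∑ _j : J, 1 = ∑ j, s j := by omega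
    intro j
    exact ((Finset.sum_eq_sum_iff_of_le (fun j _ => hs1 j)).mp h1 j (Finset.mem_univ _)).symm
  have ha : ∀ ψ, a ψ ≤ 1 := by
    have h1 : ∑ ψ, a ψ = ∑ ψ, (a ψ) ^ 2 := by omega
    intro ψ
    have h2 := (Finset.sum_eq_sum_iff_of_le
      (fun ψ _ => Nat.le_self_pow (n := 2) (by norm_num) (a ψ))).mp h1 ψ (Finset.mem_univ _)
    nlinarith
  -- the unique constituent
  have hex : ∀ j, ∃ ψ₀ : IrrCharacter G, m j ψ₀ = 1 ∧ Θ j = (ψ₀ : G → ℂ) := by
    intro j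
    have h1 : ∃ ψ₀, m j ψ₀ ≠ 0 := by
      by_contra hcon
      push Not at hcon
      have : s j = 0 := Finset.sum_eq_zero (fun ψ _ => hcon ψ)
      have := hs j
      omega
    obtain ⟨ψ₀, hψ₀⟩ := h1
    have h2 : m j ψ₀ + ∑ ψ ∈ Finset.univ.erase ψ₀, m j ψ = s j :=
      Finset.add_sum_erase _ _ (Finset.mem_univ ψ₀)
    have h3 : m j ψ₀ = 1 := by have := hs j; omega
    have h4 : ∑ ψ ∈ Finset.univ.erase ψ₀, m j ψ = 0 := by have := hs j; omega
    refine ⟨ψ₀, h3, ?_⟩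
    rw [hm j, Finset.sum_eq_single ψ₀]
    · rw [h3, one_smul]
    · intro ψ _ hψ
      have := (Finset.sum_eq_zero_iff.mp h4) ψ (Finset.mem_erase.mpr ⟨hψ, Finset.mem_univ _⟩)
      rw [this, zero_smul]
    · intro h; exact absurd (Finset.mem_univ _) h
  choose ψ₀ hψ₀m hψ₀ using hex
  refine ⟨fun j => by rw [hψ₀ j]; exact (ψ₀ j).2, ?_⟩
  intro j j' hjj'
  by_contra hne'
  have h1 : ψ₀ j = ψ₀ j' := Subtype.ext (by rw [← hψ₀ j, ← hψ₀ j', hjj'])
  have h2 : m j (ψ₀ j) + m j' (ψ₀ j) ≤ a (ψ₀ j) := by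
    have : ∑ i ∈ ({j, j'} : Finset J), m i (ψ₀ j) ≤ a (ψ₀ j) :=
      Finset.sum_le_sum_of_subset (Finset.subset_univ _)
    rwa [Finset.sum_pair hne'] at this
  have h3 := ha (ψ₀ j)
  have h4 := hψ₀m j
  have h5 := hψ₀m j'
  rw [← h1] at h5
  omega

end Cfsg.Agent.Lib.Helper15.MultFree
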