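import Cfsg.Agent.Lib.Helper15.SLTrans
import Cfsg.Agent.Lib.Lead.PermChar

/-!
# The permutation action of `SL_n` on non-zero vectors (helper15)
-/

set_option autoImplicit false

namespace Cfsg.Agent.Lib.Helper15.SLPerm

open Matrix Cfsg.Agent.Lib.Helper15.SLTrans Cfsg.Agent.CharLib

variable {F : Type*} [Field F]

/-- non-zero vectors -/
def NZ (F : Type*) [Field F] (n : ℕ) : Type _ := {v : Fin n → F // v ≠ 0}

instance instFiniteNZ [Finite F] (n : ℕ) : Finite (NZ F n) := by
  unfold NZ; infer_instance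

section action
variable {k : ℕ}

instance instMulActionNZ : MulAction (Matrix.SpecialLinearGroup (Fin (k + 1)) F) (NZ F (k + 1)) where
  smul g v := ⟨g.1 *ᵥ v.1, fun h => v.2 (by rw [← inv_mulVec g v.1, h, mulVec_zero])⟩
  one_smul v := Subtype.ext (mulVec_one _)
  mul_smul g h v := Subtype.ext (mulVec_mul g h _)

theorem smul_val (g : Matrix.SpecialLinearGroup (Fin (k + 1)) F) (v : NZ F (k + 1)) :
    (g • v).1 = g.1 *ᵥ v.1 := rfl

/-- the first basis vector -/
def e0X : NZ F (k + 1) := ⟨Pi.single 0 1, fun h => by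
  have := congrFun h 0
  simp at this⟩

theorem e0X_val : (e0X : NZ F (k + 1)).1 = Pi.single 0 1 := rfl

/-- scaling a non-zero vector -/
def scal (c : Fˣ) (v : NZ F (k + 1)) : NZ F (k + 1) :=
  ⟨(c : F) • v.1, smul_ne_zero c.ne_zero v.2⟩

theorem scal_val (c : Fˣ) (v : NZ F (k + 1)) : (scal c v).1 = (c : F) • v.1 := rfl

theorem smul_scal (g : Matrix.SpecialLinearGroup (Fin (k + 1)) F) (c : Fˣ) (v : NZ F (k + 1)) :
    g • scal c v = scal c (g • v) :=
  Subtype.ext (by rw [smul_val, scal_val, scal_val, smul_val, mulVec_smul])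

theorem scal_inj {c c' : Fˣ} {v : NZ F (k + 1)} (h : scal c v = scal c' v) : c = c' := by
  have h1 : (c : F) • v.1 = (c' : F) • v.1 := congrArg Subtype.val h
  have h2 : ((c : F) - c') • v.1 = 0 := by rw [sub_smul, h1, sub_self]
  rcases smul_eq_zero.mp h2 with h3 | h3
  · exact Units.ext (sub_eq_zero.mp h3)
  · exact absurd h3 v.2

end action

section trans
variable {k : ℕ}

/-- transitivity on non-zero vectors -/
theorem exists_smul_e0X (v : NZ F (k + 2)) :
    ∃ x : Matrix.SpecialLinearGroup (Fin (k + 2)) F, x • (e0X : NZ F (k + 2)) = v := by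
  obtain ⟨x, hx⟩ := exists_mulVec_eq (k := k) v.2
  exact ⟨x, Subtype.ext hx⟩

theorem exists_smul_eq (v w : NZ F (k + 2)) :
    ∃ x : Matrix.SpecialLinearGroup (Fin (k + 2)) F, x • v = w := by
  obtain ⟨x, hx⟩ := exists_smul_e0X v
  obtain ⟨y, hy⟩ := exists_smul_e0X w
  exact ⟨y * x⁻¹, by rw [mul_smul, ← hx, inv_smul_smul, hy]⟩

instance instPretransitive : MulAction.IsPretransitive
    (Matrix.SpecialLinearGroup (Fin (k + 2)) F) (NZ F (k + 2)) :=
  ⟨exists_smul_eq⟩

end trans

section pairs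
variable {k : ℕ}

/-- the second basis vector -/
def e1X : NZ F (k + 2) := ⟨Pi.single 1 1, fun h => by
  have := congrFun h 1
  simp at this⟩

/-- the pair is linearly dependent, with the given ratio -/
def Dep (p : NZ F (k + 1) × NZ F (k + 1)) (c : Fˣ) : Prop := p.2 = scal c p.1

theorem Dep.smul {p : NZ F (k + 1) × NZ F (k + 1)} {c : Fˣ} (h : Dep p c)
    (g : Matrix.SpecialLinearGroup (Fin (k + 1)) F) : Dep (g • p) c := by
  show g • p.2 = scal c (g • p.1)
  rw [← smul_scal, h]

theorem Dep.unique {p : NZ F (k + 1) × NZ F (k + 1)} {c c' : Fˣ} (h : Dep p c) (h' : Dep p c') :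
    c = c' := scal_inj (h.symm.trans h')

open Classical in
/-- the orbit invariant of a pair of non-zero vectors -/
noncomputable def inv2 (p : NZ F (k + 1) × NZ F (k + 1)) : Option Fˣ :=
  if h : ∃ c, Dep p c then some h.choose else none

theorem inv2_of_dep {p : NZ F (k + 1) × NZ F (k + 1)} {c : Fˣ} (h : Dep p c) : inv2 p = some c := by
  have hex : ∃ c, Dep p c := ⟨c, h⟩
  rw [inv2, dif_pos hex]
  exact congrArg some (hex.choose_spec.unique h)

theorem inv2_of_not_dep {p : NZ F (k + 1) × NZ F (k + 1)} (h : ¬ ∃ c, Dep p c) : inv2 p = none := by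
  rw [inv2, dif_neg h]

theorem inv2_smul (g : Matrix.SpecialLinearGroup (Fin (k + 1)) F)
    (p : NZ F (k + 1) × NZ F (k + 1)) : inv2 (g • p) = inv2 p := by
  by_cases h : ∃ c, Dep p c
  · obtain ⟨c, hc⟩ := h
    rw [inv2_of_dep hc, inv2_of_dep (hc.smul g)]
  · rw [inv2_of_not_dep h, inv2_of_not_dep]
    rintro ⟨c, hc⟩
    apply h
    have := hc.smul g⁻¹
    rw [inv_smul_smul] at this
    exact ⟨c, this⟩

/-- independent pairs form one orbit -/
theorem exists_smul_pair {p : NZ F (k + 3) × NZ F (k + 3)} (h : ¬ ∃ c, Dep p c) :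
    ∃ x : Matrix.SpecialLinearGroup (Fin (k + 3)) F, x • ((e0X, e1X) : NZ F (k + 3) × NZ F (k + 3)) = p := by
  obtain ⟨x, hx⟩ := exists_smul_e0X (k := k + 1) p.1
  have hw : ∃ i, i ≠ 0 ∧ ((x⁻¹ • p.2).1) i ≠ 0 := by
    by_contra hcon
    push Not at hcon
    apply h
    obtain ⟨w, hwdef⟩ : ∃ w : Fin (k + 3) → F, w = (x⁻¹ • p.2).1 := ⟨_, rfl⟩
    rw [← hwdef] at hcon
    have h1 : w = (w 0) • (Pi.single 0 1 : Fin (k + 3) → F) := by
      funext i
      by_cases hi : i = 0
      · subst hi; simp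
      · rw [hcon i hi]; simp [hi]
    have h0 : w 0 ≠ 0 := by
      intro h0
      apply (x⁻¹ • p.2).2
      rw [← hwdef, h1, h0, zero_smul]
    have h2 : p.2.1 = x.1 *ᵥ w := by rw [hwdef, ← smul_val, smul_inv_smul]
    refine ⟨Units.mk0 (w 0) h0, ?_⟩
    show p.2 = scal _ p.1
    apply Subtype.ext
    rw [scal_val, Units.val_mk0, h2, ← hx, smul_val, e0X_val, ← mulVec_smul, ← h1]
  obtain ⟨y, hy0, hy1⟩ := exists_mulVec_eq_pair hw
  refine ⟨x * y, ?_⟩
  apply Prod.ext
  · show (x * y) • (e0X : NZ F (k + 3)) = p.1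
    rw [mul_smul]
    have : y • (e0X : NZ F (k + 3)) = e0X := Subtype.ext hy0
    rw [this, hx]
  · show (x * y) • (e1X : NZ F (k + 3)) = p.2
    rw [mul_smul]
    have : y • (e1X : NZ F (k + 3)) = x⁻¹ • p.2 := Subtype.ext hy1
    rw [this, smul_inv_smul]

theorem not_dep_e0_e1 : ¬ ∃ c : Fˣ, Dep ((e0X, e1X) : NZ F (k + 2) × NZ F (k + 2)) c := by
  rintro ⟨c, hc⟩
  have h1 : (e1X : NZ F (k + 2)).1 = (c : F) • (e0X : NZ F (k + 2)).1 := congrArg Subtype.val hc
  have h2 := congrFun h1 1
  simp [e1X, e0X] at h2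

/-- the number of orbits on pairs of non-zero vectors -/
theorem card_orbits_pairs [Fintype F] :
    Nat.card (MulAction.orbitRel.Quotient (Matrix.SpecialLinearGroup (Fin (k + 3)) F)
      (NZ F (k + 3) × NZ F (k + 3))) = Fintype.card F := by
  have e : MulAction.orbitRel.Quotient (Matrix.SpecialLinearGroup (Fin (k + 3)) F)
      (NZ F (k + 3) × NZ F (k + 3)) ≃ Option Fˣ := by
    refine Equiv.ofBijective (Quotient.lift inv2 ?_) ⟨?_, ?_⟩
    · intro p q hpq
      obtain ⟨g, hg⟩ := (MulAction.orbitRel_apply).mp hpq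
      rw [← hg, inv2_smul]
    · intro a b
      refine Quotient.inductionOn₂ a b ?_
      intro p q hpq
      simp only [Quotient.lift_mk] at hpq
      apply Quotient.sound
      show MulAction.orbitRel _ _ p q
      rw [MulAction.orbitRel_apply]
      by_cases h : ∃ c, Dep p c
      · obtain ⟨c, hc⟩ := h
        rw [inv2_of_dep hc] at hpq
        have hq : Dep q c := by
          by_cases h' : ∃ c', Dep q c'
          · obtain ⟨c', hc'⟩ := h'
            rw [inv2_of_dep hc'] at hpq
            rw [Option.some.inj hpq]; exact hc'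
          · rw [inv2_of_not_dep h'] at hpq
            exact absurd hpq (by simp)
        obtain ⟨x, hx⟩ := exists_smul_eq (k := k + 1) q.1 p.1
        refine ⟨x, ?_⟩
        apply Prod.ext
        · exact hx
        · show x • q.2 = p.2
          rw [hq, hc, smul_scal, hx]
      · rw [inv2_of_not_dep h] at hpq
        have h' : ¬ ∃ c', Dep q c' := by
          rintro ⟨c', hc'⟩
          rw [inv2_of_dep hc'] at hpq
          exact absurd hpq (by simp)
        obtain ⟨x, hx⟩ := exists_smul_pair h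
        obtain ⟨y, hy⟩ := exists_smul_pair h'
        refine ⟨x * y⁻¹, ?_⟩
        show (x * y⁻¹) • q = p
        rw [mul_smul, ← hy, inv_smul_smul, hx]
    · intro o
      rcases o with _ | c
      · exact ⟨Quotient.mk'' (e0X, e1X), inv2_of_not_dep not_dep_e0_e1⟩
      · exact ⟨Quotient.mk'' (e0X, scal c e0X), inv2_of_dep rfl⟩
  rw [Nat.card_congr e, Finite.card_option, Nat.card_units, Nat.card_eq_fintype_card]
  have : 1 ≤ Fintype.card F := Fintype.card_pos
  omega

end pairs

end Cfsg.Agent.Lib.Helper15.SLPerm
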