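/-
S3713 (planner helper18), leaf IDENT `E_eq_commutator` + `yE_conj_E` (frozen statements in
notes/S3713_leaves.lean): two identities between Eichler elements of `Sp(2n,F)`.
`n_p⁻¹ E(e_r,e_p) n_p = E(e_r,f_p)` (`conj_E`), and `E(e_o,e_r) = [E(e_o,e_p), E(e_r,f_p)]`;
`y⁻¹ E(e_o,e_r) y = E(e_o,e_r) E(e_p,e_r)` for `y = E(f_o,e_p)`.  Both by `sp_ext'` and `act_E`.
-/
import Cfsg.Agent.Lib.Helper18.SPDec
import Cfsg.Agent.Lib.Helper18.SPHom

set_option autoImplicit false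
set_option linter.unusedSectionVars false
set_option linter.unusedSimpArgs false
set_option linter.unusedVariables false

namespace Cfsg.Agent.Lib.Helper15.SPIDENT

open Matrix Cfsg.Agent.Lib.Helper18.SP Cfsg.Agent.Lib.Helper5 Cfsg.Agent.Lib.Helper14.SpPerfect

variable {F : Type*} [Field F] {n : ℕ} {H : Type*} [Group H]

/-- `n_p⁻¹ E(e_r,e_p) n_p = E(e_r,f_p)` -/
theorem nW_inv_conj_E {p r : Fin n} (hpr : p ≠ r) :
    (nW n F p)⁻¹ * E (eV n F r) (eV n F p) * nW n F p = E (eV n F r) (fV n F p) := by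
  have h := conj_E (nW n F p)⁻¹ (eV n F r) (eV n F p)
  rw [inv_inv] at h
  have hr : act (nW n F p)⁻¹ (eV n F r) = eV n F r := by
    have hmem : (nW n F p)⁻¹ ∈ GJ n F {p} := inv_mem (nW_mem_SS p)
    exact (hmem r (fun e => hpr (Set.mem_singleton_iff.mp e).symm)).1
  rw [h, hr, nW_inv_eV]

/-- **IDENT** -/
theorem E_eq_commutator {o p r : Fin n} (hop : o ≠ p) (hor : o ≠ r) (hpr : p ≠ r) :
    E (eV n F o) (eV n F r) = E (eV n F o) (eV n F p) * ((nW n F p)⁻¹ * E (eV n F r) (eV n F p) * nW n F p) *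
      (E (eV n F o) (eV n F p))⁻¹ * ((nW n F p)⁻¹ * E (eV n F r) (eV n F p) * nW n F p)⁻¹ := by
  have h1 : ω n F (eV n F o) (eV n F p) = 0 := ω_eV_eV o p
  have h2 : ω n F (eV n F r) (fV n F p) = 0 := by rw [ω_eV_fV, if_neg hpr]
  have h3 : ω n F (eV n F o) (eV n F r) = 0 := ω_eV_eV o r
  have h1' : ω n F (eV n F o) (-eV n F p) = 0 := by rw [ω_neg_right, h1, neg_zero]
  have h2' : ω n F (eV n F r) (-fV n F p) = 0 := by rw [ω_neg_right, h2, neg_zero]
  rw [nW_inv_conj_E hpr, E_inv _ _ h1, E_inv _ _ h2]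
  apply sp_ext'
  intro x
  simp only [act_mul, act_E _ _ _ h1, act_E _ _ _ h2, act_E _ _ _ h3, act_E _ _ _ h1', act_E _ _ _ h2',
    ω_add_left, ω_smul_left, ω_neg_left, ω_neg_right, ω_self, ω_eV_eV, ω_fV_fV, ω_fV_eV, ω_eV_fV,
    if_neg hop, if_neg hor, if_neg hpr, if_neg hop.symm, if_neg hor.symm, if_neg hpr.symm, if_pos,
    mul_zero, mul_one, add_zero, zero_add, neg_zero, mul_neg, neg_neg]
  module

theorem yE_conj_E {o p r : Fin n} (hop : o ≠ p) (hor : o ≠ r) (hpr : p ≠ r) :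
    (yE n F o p)⁻¹ * E (eV n F o) (eV n F r) * yE n F o p = E (eV n F o) (eV n F r) * E (eV n F p) (eV n F r) := by
  have h0 : ω n F (fV n F o) (eV n F p) = 0 := by rw [ω_fV_eV, if_neg hop.symm]
  have h0' : ω n F (fV n F o) (-eV n F p) = 0 := by rw [ω_neg_right, h0, neg_zero]
  have h3 : ω n F (eV n F o) (eV n F r) = 0 := ω_eV_eV o r
  have h4 : ω n F (eV n F p) (eV n F r) = 0 := ω_eV_eV p r
  unfold yE
  rw [E_inv _ _ h0]
  apply sp_ext'
  intro x
  simp only [act_mul, act_E _ _ _ h0, act_E _ _ _ h0', act_E _ _ _ h3, act_E _ _ _ h4,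
    ω_add_left, ω_smul_left, ω_neg_left, ω_neg_right, ω_self, ω_eV_eV, ω_fV_fV, ω_fV_eV, ω_eV_fV,
    if_neg hop, if_neg hor, if_neg hpr, if_neg hop.symm, if_neg hor.symm, if_neg hpr.symm, if_pos,
    mul_zero, mul_one, add_zero, zero_add, neg_zero, mul_neg, neg_neg]
  module

end Cfsg.Agent.Lib.Helper15.SPIDENT
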