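import Mathlib

set_option autoImplicit false

namespace Cfsg.Agent.Lib.Helper15.SemisimpleConj

open Polynomial Module

variable {F : Type*} [Field F]

section irr

variable {W : Type*} [AddCommGroup W] [Module F W]

/-- irreducible action of an endomorphism -/
def IrrAct (T : End F W) : Prop :=
  Nontrivial W ∧ ∀ p ∈ T.invtSubmodule, p = ⊥ ∨ p = ⊤

lemma ker_aeval_mem_invt (T : End F W) (a : F[X]) :
    LinearMap.ker (aeval T a) ∈ T.invtSubmodule := by
  rw [End.mem_invtSubmodule]
  intro w hw
  rw [Submodule.mem_comap, LinearMap.mem_ker] at *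
  have hc : Commute (aeval T a) T := by
    have h1 : Commute (aeval T a) (aeval T (X : F[X])) := by
      rw [Commute, SemiconjBy, ← map_mul, ← map_mul, mul_comm]
    simpa using h1
  have : (aeval T a * T) w = (T * aeval T a) w := by rw [hc.eq]
  rw [End.mul_apply, End.mul_apply, hw, map_zero] at this
  exact this

theorem minpoly_irreducible_of_irrAct [FiniteDimensional F W] (T : End F W) (hT : IrrAct T) :
    Irreducible (minpoly F T) := by
  obtain ⟨hnt, hirr⟩ := hT
  have hint : IsIntegral F T := Algebra.IsIntegral.isIntegral T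
  rw [irreducible_iff]
  refine ⟨minpoly.not_isUnit F T, fun a b hab => ?_⟩
  have hμ0 : minpoly F T ≠ 0 := minpoly.ne_zero hint
  have hprod : aeval T a * aeval T b = 0 := by
    rw [← map_mul, ← hab, minpoly.aeval]
  rcases hirr _ (ker_aeval_mem_invt T a) with h | h
  · left
    have hb : aeval T b = 0 := by
      apply LinearMap.ext
      intro w
      have h3 : (aeval T a) ((aeval T b) w) = 0 := by
        rw [← End.mul_apply, hprod]; rfl
      have h4 : (aeval T b) w ∈ LinearMap.ker (aeval T a) := h3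
      rw [h] at h4
      simpa using h4
    obtain ⟨c, hc⟩ := minpoly.dvd F T hb
    have h5 : minpoly F T * 1 = minpoly F T * (a * c) := by
      rw [mul_one]
      conv_lhs => rw [hab, hc]
      ring
    have h6 := mul_left_cancel₀ hμ0 h5
    exact IsUnit.of_mul_eq_one c h6.symm
  · right
    have ha : aeval T a = 0 := by
      apply LinearMap.ext
      intro w
      have : w ∈ LinearMap.ker (aeval T a) := by rw [h]; trivial
      simpa using this
    obtain ⟨c, hc⟩ := minpoly.dvd F T ha
    have h5 : minpoly F T * 1 = minpoly F T * (c * b) := by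
      rw [mul_one]
      conv_lhs => rw [hab, hc]
      ring
    have h6 := mul_left_cancel₀ hμ0 h5
    exact IsUnit.of_mul_eq_one c (by rw [mul_comm]; exact h6.symm)

/-- evaluation `F[X]/(f) → End W` when `f(T) = 0`. -/
noncomputable def phi (T : End F W) (f : F[X]) (hf : aeval T f = 0) :
    AdjoinRoot f →ₐ[F] End F W :=
  Ideal.Quotient.liftₐ (Ideal.span {f}) (aeval T) (by
    intro a ha
    obtain ⟨c, rfl⟩ := Ideal.mem_span_singleton.1 ha
    rw [map_mul, hf, zero_mul])

lemma phi_root (T : End F W) (f : F[X]) (hf : aeval T f = 0) :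
    phi T f hf (AdjoinRoot.root f) = T := by
  show aeval T X = T
  rw [aeval_X]

/-- the structure of an irreducible action -/
theorem irrAct_equiv (T : End F W) (hT : IrrAct T) (f : F[X]) (hf : f = minpoly F T)
    [Fact (Irreducible f)] :
    ∃ e : AdjoinRoot f ≃ₗ[F] W, ∀ κ, e (AdjoinRoot.root f * κ) = T (e κ) := by
  subst hf
  obtain ⟨hnt, hirr⟩ := hT
  set K := AdjoinRoot (minpoly F T) with hK
  set ρ : K := AdjoinRoot.root (minpoly F T) with hρ
  set φ := phi T (minpoly F T) (minpoly.aeval F T) with hφ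
  have hφρ : φ ρ = T := phi_root T _ _
  obtain ⟨v, hv⟩ := exists_ne (0 : W)
  let ψ : K →ₗ[F] W := (LinearMap.applyₗ v) ∘ₗ φ.toLinearMap
  have hψ : ∀ κ, ψ κ = (φ κ) v := fun κ => rfl
  have hψmul : ∀ κ, ψ (ρ * κ) = T (ψ κ) := by
    intro κ
    rw [hψ, hψ, map_mul, hφρ]; rfl
  have hψinj : Function.Injective ψ := by
    rw [← LinearMap.ker_eq_bot, LinearMap.ker_eq_bot']
    intro κ hκ
    by_contra hne
    apply hv
    have h1 : φ (κ⁻¹ * κ) = 1 := by rw [inv_mul_cancel₀ hne, map_one]
    have h2 : v = (φ (κ⁻¹ * κ)) v := by rw [h1]; rfl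
    rw [h2, map_mul, End.mul_apply, ← hψ κ, hκ, map_zero]
  have hψsurj : Function.Surjective ψ := by
    rw [← LinearMap.range_eq_top]
    rcases hirr (LinearMap.range ψ) (by
      rw [End.mem_invtSubmodule]
      rintro w ⟨κ, rfl⟩
      exact ⟨ρ * κ, hψmul κ⟩) with h | h
    · exfalso
      apply hv
      have : ψ 1 ∈ LinearMap.range ψ := ⟨1, rfl⟩
      rw [h, Submodule.mem_bot, hψ, map_one] at this
      exact this
    · exact h
  exact ⟨LinearEquiv.ofBijective ψ ⟨hψinj, hψsurj⟩, fun κ => hψmul κ⟩

theorem charpoly_eq_minpoly_of_irrAct [FiniteDimensional F W] (T : End F W) (hT : IrrAct T) :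
    T.charpoly = minpoly F T := by
  have hirr := minpoly_irreducible_of_irrAct T hT
  haveI : Fact (Irreducible (minpoly F T)) := ⟨hirr⟩
  obtain ⟨e, -⟩ := irrAct_equiv T hT _ rfl
  have hmon := minpoly.monic (Algebra.IsIntegral.isIntegral (R := F) T)
  have h1 : (minpoly F T).natDegree = finrank F W := by
    rw [← e.finrank_eq, (AdjoinRoot.powerBasis hmon.ne_zero).finrank, AdjoinRoot.powerBasis_dim]
  apply Polynomial.eq_of_monic_of_dvd_of_natDegree_le hmon (LinearMap.charpoly_monic T)
    (LinearMap.minpoly_dvd_charpoly T)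
  rw [LinearMap.charpoly_natDegree, h1]

end irr

section conj

/-- conjugacy of endomorphisms on possibly different spaces -/
def Conj {V V' : Type*} [AddCommGroup V] [Module F V] [AddCommGroup V'] [Module F V']
    (T : End F V) (T' : End F V') : Prop :=
  ∃ e : V ≃ₗ[F] V', ∀ v, e (T v) = T' (e v)

variable {V V' V'' : Type*} [AddCommGroup V] [Module F V] [AddCommGroup V'] [Module F V']
  [AddCommGroup V''] [Module F V'']

lemma Conj.refl (T : End F V) : Conj T T := ⟨LinearEquiv.refl F V, fun _ => rfl⟩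

lemma Conj.symm {T : End F V} {T' : End F V'} (h : Conj T T') : Conj T' T := by
  obtain ⟨e, he⟩ := h
  refine ⟨e.symm, fun v => ?_⟩
  apply e.injective
  rw [he, e.apply_symm_apply, e.apply_symm_apply]

lemma Conj.trans {T : End F V} {T' : End F V'} {T'' : End F V''} (h : Conj T T')
    (h' : Conj T' T'') : Conj T T'' := by
  obtain ⟨e, he⟩ := h
  obtain ⟨e', he'⟩ := h'
  refine ⟨e.trans e', fun v => ?_⟩
  simp only [LinearEquiv.trans_apply]
  rw [he, he']

lemma Conj.conj_eq {T : End F V} {T' : End F V'} (h : Conj T T') :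
    ∃ e : V ≃ₗ[F] V', e.conj T = T' := by
  obtain ⟨e, he⟩ := h
  refine ⟨e, ?_⟩
  apply LinearMap.ext
  intro v
  rw [LinearEquiv.conj_apply]
  simp only [LinearMap.comp_apply, LinearEquiv.coe_coe]
  rw [he, e.apply_symm_apply]

lemma Conj.charpoly_eq [FiniteDimensional F V] [FiniteDimensional F V'] {T : End F V}
    {T' : End F V'} (h : Conj T T') : T.charpoly = T'.charpoly := by
  obtain ⟨e, he⟩ := h.conj_eq
  rw [← he, LinearEquiv.charpoly_conj]

lemma Conj.aeval_eq_zero {T : End F V} {T' : End F V'} (h : Conj T T') (P : F[X])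
    (hP : aeval T P = 0) : aeval T' P = 0 := by
  obtain ⟨e, he⟩ := h.conj_eq
  rw [← he]
  have : aeval (e.conj T) P = e.conjAlgEquiv F (aeval T P) :=
    Polynomial.aeval_algHom_apply (e.conjAlgEquiv F).toAlgHom T P
  rw [this, hP, map_zero]

lemma Conj.irrAct {T : End F V} {T' : End F V'} (h : Conj T T') (hT : IrrAct T) : IrrAct T' := by
  obtain ⟨e, he⟩ := h
  obtain ⟨hnt, hirr⟩ := hT
  refine ⟨e.injective.nontrivial, fun p hp => ?_⟩
  have h1 : p.comap (e : V →ₗ[F] V') ∈ T.invtSubmodule := by
    rw [End.mem_invtSubmodule] at hp ⊢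
    intro v hv
    rw [Submodule.mem_comap] at hv ⊢
    rw [Submodule.mem_comap, LinearEquiv.coe_coe, he]
    exact hp hv
  rcases hirr _ h1 with h | h
  · left
    rw [eq_bot_iff]
    intro w hw
    have : e.symm w ∈ p.comap (e : V →ₗ[F] V') := by
      rw [Submodule.mem_comap, LinearEquiv.coe_coe, e.apply_symm_apply]; exact hw
    rw [h, Submodule.mem_bot] at this
    rw [Submodule.mem_bot]
    simpa using this
  · right
    rw [eq_top_iff]
    intro w _
    have : e.symm w ∈ p.comap (e : V →ₗ[F] V') := by rw [h]; trivial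
    rw [Submodule.mem_comap, LinearEquiv.coe_coe, e.apply_symm_apply] at this
    exact this

lemma Conj.prodMap {V₂ V₂' : Type*} [AddCommGroup V₂] [Module F V₂] [AddCommGroup V₂']
    [Module F V₂'] {T : End F V} {T' : End F V'} {T₂ : End F V₂} {T₂' : End F V₂'}
    (h : Conj T T') (h₂ : Conj T₂ T₂') : Conj (T.prodMap T₂) (T'.prodMap T₂') := by
  obtain ⟨e, he⟩ := h
  obtain ⟨e₂, he₂⟩ := h₂
  refine ⟨e.prodCongr e₂, fun v => ?_⟩
  obtain ⟨a, b⟩ := v
  simp only [LinearMap.prodMap_apply, LinearEquiv.prodCongr_apply]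
  rw [he, he₂]

end conj

section split

universe u

variable {V : Type u} [AddCommGroup V] [Module F V] [FiniteDimensional F V]

/-- two irreducible actions with the same minimal polynomial are conjugate -/
theorem irr_conj {W₁ W₂ : Type*} [AddCommGroup W₁] [Module F W₁] [AddCommGroup W₂] [Module F W₂]
    [FiniteDimensional F W₁] [FiniteDimensional F W₂]
    (T₁ : End F W₁) (T₂ : End F W₂) (h₁ : IrrAct T₁) (h₂ : IrrAct T₂)
    (hm : minpoly F T₁ = minpoly F T₂) : Conj T₁ T₂ := by
  have hirr := minpoly_irreducible_of_irrAct T₁ h₁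
  have : Fact (Irreducible (minpoly F T₁)) := ⟨hirr⟩
  obtain ⟨e₁, he₁⟩ := irrAct_equiv T₁ h₁ _ rfl
  obtain ⟨e₂, he₂⟩ := irrAct_equiv T₂ h₂ _ hm
  refine ⟨e₁.symm.trans e₂, fun w => ?_⟩
  obtain ⟨κ, rfl⟩ := e₁.surjective w
  simp only [LinearEquiv.trans_apply]
  rw [← he₁, e₁.symm_apply_apply, e₁.symm_apply_apply, he₂]

/-- a minimal nonzero invariant subspace -/
theorem exists_min_invt (T : End F V) [Nontrivial V] :
    ∃ ℓ ∈ T.invtSubmodule, ℓ ≠ ⊥ ∧ ∀ p ∈ T.invtSubmodule, p ≤ ℓ → p = ⊥ ∨ p = ℓ := by
  classical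
  have hex : ∃ d, ∃ ℓ ∈ T.invtSubmodule, ℓ ≠ ⊥ ∧ finrank F ℓ = d :=
    ⟨_, ⊤, End.invtSubmodule.top_mem T, top_ne_bot, rfl⟩
  obtain ⟨ℓ, hℓ, hℓ0, hd⟩ := Nat.find_spec hex
  refine ⟨ℓ, hℓ, hℓ0, fun p hp hpl => ?_⟩
  by_cases hp0 : p = ⊥
  · left; exact hp0
  · right
    have h1 : Nat.find hex ≤ finrank F p := Nat.find_min' hex ⟨p, hp, hp0, rfl⟩
    have h2 : finrank F p ≤ finrank F ℓ := Submodule.finrank_mono hpl
    exact Submodule.eq_of_le_of_finrank_eq hpl (by omega)

/-- restriction to a minimal invariant subspace is an irreducible action -/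
theorem irrAct_restrict (T : End F V) (ℓ : Submodule F V) (hℓ : ℓ ∈ T.invtSubmodule)
    (hℓ0 : ℓ ≠ ⊥) (hmin : ∀ p ∈ T.invtSubmodule, p ≤ ℓ → p = ⊥ ∨ p = ℓ) :
    IrrAct (T.restrict hℓ) := by
  refine ⟨(Submodule.nontrivial_iff_ne_bot).2 hℓ0, fun p hp => ?_⟩
  have h1 : p.map ℓ.subtype ∈ T.invtSubmodule := by
    rw [End.mem_invtSubmodule] at hp ⊢
    rintro _ ⟨w, hw, rfl⟩
    rw [Submodule.mem_comap]
    exact ⟨T.restrict hℓ w, hp hw, rfl⟩
  rcases hmin _ h1 (Submodule.map_subtype_le ℓ p) with h | h
  · left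
    apply Submodule.map_injective_of_injective ℓ.injective_subtype
    rw [h, Submodule.map_bot]
  · right
    apply Submodule.map_injective_of_injective ℓ.injective_subtype
    rw [h, Submodule.map_subtype_top]

/-- splitting along complementary invariant subspaces -/
theorem conj_prodMap_of_isCompl (T : End F V) (ℓ U : Submodule F V) (hℓ : ℓ ∈ T.invtSubmodule)
    (hU : U ∈ T.invtSubmodule) (hc : IsCompl ℓ U) :
    Conj ((T.restrict hℓ).prodMap (T.restrict hU)) T := by
  refine ⟨Submodule.prodEquivOfIsCompl ℓ U hc, fun v => ?_⟩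
  obtain ⟨a, b⟩ := v
  simp only [LinearMap.prodMap_apply, Submodule.coe_prodEquivOfIsCompl', map_add]
  rfl

omit [FiniteDimensional F V] in
/-- polynomials in intertwined endomorphisms are intertwined -/
lemma intertwine_aeval {W : Type*} [AddCommGroup W] [Module F W] (ι : W →ₗ[F] V) (S : End F W)
    (T : End F V) (h : ∀ w, ι (S w) = T (ι w)) (P : F[X]) (w : W) :
    ι (aeval S P w) = aeval T P (ι w) := by
  have hpow : ∀ (k : ℕ) (w : W), ι ((S ^ k) w) = (T ^ k) (ι w) := by
    intro k
    induction k with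
    | zero => intro w; simp
    | succ k ih =>
      intro w
      rw [pow_succ, End.mul_apply, ih, h, pow_succ, End.mul_apply]
  induction P using Polynomial.induction_on' with
  | add p q hp hq => rw [map_add, map_add, LinearMap.add_apply, LinearMap.add_apply, map_add, hp, hq]
  | monomial k a =>
    rw [aeval_monomial, aeval_monomial, Algebra.algebraMap_eq_smul_one, Algebra.algebraMap_eq_smul_one,
      smul_mul_assoc, smul_mul_assoc, one_mul, one_mul, LinearMap.smul_apply, LinearMap.smul_apply,
      map_smul, hpow]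

omit [FiniteDimensional F V] in
lemma aeval_restrict_eq_zero (T : End F V) (U : Submodule F V) (hU : U ∈ T.invtSubmodule)
    (P : F[X]) (hP : aeval T P = 0) : aeval (T.restrict hU) P = 0 := by
  apply LinearMap.ext
  intro w
  apply Subtype.ext
  have := intertwine_aeval U.subtype (T.restrict hU) T (fun _ => rfl) P w
  rw [hP] at this
  simpa using this

lemma aeval_prodMap_eq_zero {A B : Type*} [AddCommGroup A] [Module F A] [AddCommGroup B]
    [Module F B] (S₁ : End F A) (S₂ : End F B) (P : F[X]) (h₁ : aeval S₁ P = 0)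
    (h₂ : aeval S₂ P = 0) : aeval (S₁.prodMap S₂) P = 0 := by
  apply LinearMap.ext
  intro x
  have e1 := intertwine_aeval (LinearMap.fst F A B) (S₁.prodMap S₂) S₁ (fun _ => rfl) P x
  have e2 := intertwine_aeval (LinearMap.snd F A B) (S₁.prodMap S₂) S₂ (fun _ => rfl) P x
  rw [h₁] at e1
  rw [h₂] at e2
  exact Prod.ext e1 e2

/-- splitting off an irreducible invariant subspace -/
theorem exists_split (P : F[X]) (hP : Squarefree P) (T : End F V) [Nontrivial V]
    (hT : aeval T P = 0) :
    ∃ (ℓ U : Submodule F V) (hℓ : ℓ ∈ T.invtSubmodule) (hU : U ∈ T.invtSubmodule),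
      IrrAct (T.restrict hℓ) ∧ IsCompl ℓ U := by
  obtain ⟨ℓ, hℓ, hℓ0, hmin⟩ := exists_min_invt T
  have hss : T.IsSemisimple := End.isSemisimple_of_squarefree_aeval_eq_zero hP hT
  obtain ⟨U, hU, hc⟩ := End.isSemisimple_iff.1 hss ℓ hℓ
  exact ⟨ℓ, U, hℓ, hU, irrAct_restrict T ℓ hℓ hℓ0 hmin, hc⟩

/-- reassociation of products -/
def prodSwap (A B C : Type*) [AddCommGroup A] [Module F A] [AddCommGroup B] [Module F B]
    [AddCommGroup C] [Module F C] : (A × (B × C)) ≃ₗ[F] (B × (A × C)) where
  toFun x := (x.2.1, (x.1, x.2.2))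
  invFun y := (y.2.1, (y.1, y.2.2))
  map_add' _ _ := rfl
  map_smul' _ _ := rfl
  left_inv _ := rfl
  right_inv _ := rfl

/-- extracting an irreducible factor -/
theorem exists_factor (P : F[X]) (hP : Squarefree P) : ∀ (n : ℕ) (V' : Type u) [AddCommGroup V']
    [Module F V'] [FiniteDimensional F V'] (T' : End F V'), finrank F V' = n → aeval T' P = 0 →
    ∀ (W : Type u) [AddCommGroup W] [Module F W] [FiniteDimensional F W] (T_W : End F W),
      IrrAct T_W → T_W.charpoly ∣ T'.charpoly →
    ∃ (U' : Type u) (_ : AddCommGroup U') (_ : Module F U') (_ : FiniteDimensional F U')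
      (T_U : End F U'), aeval T_U P = 0 ∧ Conj T' (T_W.prodMap T_U) := by
  intro n
  induction n using Nat.strong_induction_on with
  | _ n ih =>
    intro V' _ _ _ T' hn hT' W _ _ _ T_W hW hdvd
    have hfirr : Irreducible T_W.charpoly := by
      rw [charpoly_eq_minpoly_of_irrAct T_W hW]
      exact minpoly_irreducible_of_irrAct T_W hW
    have hnt : Nontrivial V' := by
      by_contra hnt
      rw [not_nontrivial_iff_subsingleton] at hnt
      have h1 : T'.charpoly = 1 := by
        apply Polynomial.eq_one_of_monic_natDegree_zero (LinearMap.charpoly_monic T')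
        rw [LinearMap.charpoly_natDegree, finrank_zero_of_subsingleton]
      rw [h1] at hdvd
      exact hfirr.not_isUnit (isUnit_of_dvd_one hdvd)
    obtain ⟨ℓ, U, hℓ, hU, hirr, hc⟩ := exists_split P hP T' hT'
    have hconj := conj_prodMap_of_isCompl T' ℓ U hℓ hU hc
    have hcp : T'.charpoly = (T'.restrict hℓ).charpoly * (T'.restrict hU).charpoly := by
      rw [← hconj.charpoly_eq, LinearMap.charpoly_prodMap]
    rw [hcp] at hdvd
    rcases (hfirr.prime.dvd_mul).1 hdvd with h | h
    · -- the factor is ℓ itself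
      have hℓirr : Irreducible (T'.restrict hℓ).charpoly := by
        rw [charpoly_eq_minpoly_of_irrAct _ hirr]
        exact minpoly_irreducible_of_irrAct _ hirr
      have heq : T_W.charpoly = (T'.restrict hℓ).charpoly :=
        Polynomial.eq_of_monic_of_associated (LinearMap.charpoly_monic _)
          (LinearMap.charpoly_monic _) (hfirr.associated_of_dvd hℓirr h)
      have hm : minpoly F (T'.restrict hℓ) = minpoly F T_W := by
        rw [← charpoly_eq_minpoly_of_irrAct _ hirr, ← charpoly_eq_minpoly_of_irrAct _ hW, heq]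
      have hc1 : Conj (T'.restrict hℓ) T_W := irr_conj _ _ hirr hW hm
      exact ⟨U, inferInstance, inferInstance, inferInstance, T'.restrict hU,
        aeval_restrict_eq_zero T' U hU P hT', hconj.symm.trans (hc1.prodMap (Conj.refl _))⟩
    · -- recurse into U
      have hlt : finrank F U < n := by
        have h1 := Submodule.finrank_add_eq_of_isCompl hc
        have h2 : 0 < finrank F ℓ := by
          haveI := hirr.1
          exact finrank_pos
        omega
      obtain ⟨U₂, i1, i2, i3, T₂, hT₂, hc₂⟩ := ih (finrank F U) hlt U (T'.restrict hU) rfl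
        (aeval_restrict_eq_zero T' U hU P hT') W T_W hW h
      refine ⟨ℓ × U₂, inferInstance, inferInstance, inferInstance,
        (T'.restrict hℓ).prodMap T₂, aeval_prodMap_eq_zero _ _ P
          (aeval_restrict_eq_zero T' ℓ hℓ P hT') hT₂, ?_⟩
      refine hconj.symm.trans (((Conj.refl _).prodMap hc₂).trans ?_)
      exact ⟨prodSwap ℓ W U₂, fun _ => rfl⟩

/-- two endomorphisms killed by the same squarefree polynomial and with the same
characteristic polynomial are conjugate -/
theorem conj_of_charpoly_eq (P : F[X]) (hP : Squarefree P) : ∀ (n : ℕ) (V V' : Type u)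
    [AddCommGroup V] [Module F V] [FiniteDimensional F V] [AddCommGroup V'] [Module F V']
    [FiniteDimensional F V'] (T : End F V) (T' : End F V'), finrank F V = n →
    aeval T P = 0 → aeval T' P = 0 → T.charpoly = T'.charpoly → Conj T T' := by
  intro n
  induction n using Nat.strong_induction_on with
  | _ n ih =>
    intro V V' _ _ _ _ _ _ T T' hn hT hT' hcp
    have hn' : finrank F V' = n := by
      rw [← hn, ← LinearMap.charpoly_natDegree T, ← LinearMap.charpoly_natDegree T', hcp]
    rcases Nat.eq_zero_or_pos n with h0 | hpos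
    · have h1 : Subsingleton V := by
        rw [← finrank_zero_iff (R := F)]; omega
      have h2 : Subsingleton V' := by
        rw [← finrank_zero_iff (R := F)]; omega
      refine ⟨LinearEquiv.ofFinrankEq V V' (by omega), fun v => Subsingleton.elim _ _⟩
    · have hnt : Nontrivial V := by
        rw [← finrank_pos_iff (R := F)]; omega
      obtain ⟨ℓ, U, hℓ, hU, hirr, hc⟩ := exists_split P hP T hT
      have hconj := conj_prodMap_of_isCompl T ℓ U hℓ hU hc
      have hcpT : T.charpoly = (T.restrict hℓ).charpoly * (T.restrict hU).charpoly := by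
        rw [← hconj.charpoly_eq, LinearMap.charpoly_prodMap]
      obtain ⟨U', i1, i2, i3, T_U, hTU, hc'⟩ := exists_factor P hP n V' T' hn' hT' ℓ
        (T.restrict hℓ) hirr (by rw [← hcp, hcpT]; exact dvd_mul_right _ _)
      have hcpT' : T'.charpoly = (T.restrict hℓ).charpoly * T_U.charpoly := by
        rw [hc'.charpoly_eq, LinearMap.charpoly_prodMap]
      have hcpU : (T.restrict hU).charpoly = T_U.charpoly := by
        have h1 : (T.restrict hℓ).charpoly * (T.restrict hU).charpoly =
            (T.restrict hℓ).charpoly * T_U.charpoly := by rw [← hcpT, ← hcpT', hcp]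
        exact mul_left_cancel₀ (LinearMap.charpoly_monic _).ne_zero h1
      have hlt : finrank F U < n := by
        have h1 := Submodule.finrank_add_eq_of_isCompl hc
        have h2 : 0 < finrank F ℓ := by
          haveI := hirr.1
          exact finrank_pos
        omega
      have hcU : Conj (T.restrict hU) T_U :=
        ih (finrank F U) hlt U U' (T.restrict hU) T_U rfl
          (aeval_restrict_eq_zero T U hU P hT) hTU hcpU
      exact hconj.symm.trans (((Conj.refl _).prodMap hcU).trans hc'.symm)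

end split

end Cfsg.Agent.Lib.Helper15.SemisimpleConj
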