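import Cfsg.Agent.Lib.Helper15.SemisimpleCount

set_option autoImplicit false

namespace Cfsg.Agent.Lib.Helper15.PGLInvol

open Polynomial Module Cfsg.Agent.Lib.Helper15.SemisimpleConj

variable {F : Type*} [Field F]

section eig

variable {V : Type*} [AddCommGroup V] [Module F V]

/-- eigenspace `ker (T - μ)` -/
def eig (T : End F V) (μ : F) : Submodule F V := LinearMap.ker (T - μ • (1 : End F V))

lemma mem_eig (T : End F V) (μ : F) (v : V) : v ∈ eig T μ ↔ T v = μ • v := by
  unfold eig
  rw [LinearMap.mem_ker, LinearMap.sub_apply, LinearMap.smul_apply, End.one_apply, sub_eq_zero]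

lemma eig_isCompl (h2 : (2 : F) ≠ 0) (T : End F V) (μ : F) (hμ : μ ≠ 0)
    (hT : T * T = (μ * μ) • (1 : End F V)) : IsCompl (eig T μ) (eig T (-μ)) := by
  have hTT : ∀ v, T (T v) = (μ * μ) • v := by
    intro v
    have := congrArg (fun φ : End F V => φ v) hT
    simpa using this
  constructor
  · rw [Submodule.disjoint_def]
    intro v h1 h3
    rw [mem_eig] at h1 h3
    have h4 : (2 * μ) • v = 0 := by
      have : μ • v = (-μ) • v := by rw [← h1, h3]
      rw [two_mul, add_smul]
      nth_rewrite 1 [this]
      rw [← add_smul, neg_add_cancel, zero_smul]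
    rcases smul_eq_zero.1 h4 with h | h
    · exact absurd h (mul_ne_zero h2 hμ)
    · exact h
  · rw [codisjoint_iff, eq_top_iff]
    intro v _
    have hne : (2 * μ) ≠ 0 := mul_ne_zero h2 hμ
    have hv : v = (2 * μ)⁻¹ • (T v + μ • v) + (2 * μ)⁻¹ • (μ • v - T v) := by
      rw [← smul_add]
      have : T v + μ • v + (μ • v - T v) = (2 * μ) • v := by
        rw [two_mul, add_smul]; abel
      rw [this, smul_smul, inv_mul_cancel₀ hne, one_smul]
    rw [hv]
    apply Submodule.add_mem_sup
    · apply Submodule.smul_mem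
      rw [mem_eig, map_add, map_smul, hTT, smul_add, mul_smul]
      abel
    · apply Submodule.smul_mem
      rw [mem_eig, map_sub, map_smul, hTT, smul_sub, neg_smul, neg_smul, mul_smul]
      abel

theorem conj_of_eig_finrank [FiniteDimensional F V] (h2 : (2 : F) ≠ 0) (T T' : End F V)
    (μ μ' : F) (hμ : μ ≠ 0) (hμ' : μ' ≠ 0) (hT : T * T = (μ * μ) • (1 : End F V))
    (hT' : T' * T' = (μ' * μ') • (1 : End F V))
    (hfr : finrank F (eig T μ) = finrank F (eig T' μ')) :
    ∃ e : V ≃ₗ[F] V, ∀ v, e (T v) = (μ * μ'⁻¹) • T' (e v) := by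
  have hc := eig_isCompl h2 T μ hμ hT
  have hc' := eig_isCompl h2 T' μ' hμ' hT'
  have hfr2 : finrank F (eig T (-μ)) = finrank F (eig T' (-μ')) := by
    have h1 := Submodule.finrank_add_eq_of_isCompl hc
    have h3 := Submodule.finrank_add_eq_of_isCompl hc'
    omega
  let e₁ : eig T μ ≃ₗ[F] eig T' μ' := LinearEquiv.ofFinrankEq _ _ hfr
  let e₂ : eig T (-μ) ≃ₗ[F] eig T' (-μ') := LinearEquiv.ofFinrankEq _ _ hfr2
  let E := Submodule.prodEquivOfIsCompl _ _ hc
  let E' := Submodule.prodEquivOfIsCompl _ _ hc'
  refine ⟨E.symm.trans ((e₁.prodCongr e₂).trans E'), fun v => ?_⟩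
  obtain ⟨⟨x, y⟩, rfl⟩ := E.surjective v
  have hTE : T (E (x, y)) = E (μ • x, (-μ) • y) := by
    simp only [E, Submodule.coe_prodEquivOfIsCompl', map_add, Submodule.coe_smul]
    rw [(mem_eig T μ x.1).1 x.2, (mem_eig T (-μ) y.1).1 y.2]
  rw [hTE]
  simp only [LinearEquiv.trans_apply, LinearEquiv.symm_apply_apply, LinearEquiv.prodCongr_apply,
    map_smul]
  simp only [E', Submodule.coe_prodEquivOfIsCompl', map_add, Submodule.coe_smul]
  rw [(mem_eig T' μ' (e₁ x).1).1 (e₁ x).2, (mem_eig T' (-μ') (e₂ y).1).1 (e₂ y).2, smul_add,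
    smul_smul, smul_smul]
  congr 1
  · congr 1
    field_simp
  · congr 1
    field_simp

/-- the set of eigen-dimensions of an endomorphism with scalar square -/
def dset (T : End F V) : Set ℕ :=
  {d | ∃ μ : F, T * T = (μ * μ) • (1 : End F V) ∧ d = finrank F (eig T μ)}

/-- the label of an endomorphism -/
noncomputable def lab (T : End F V) : ℕ := sInf (dset T)

lemma eig_smul (T : End F V) (c μ : F) (hc : c ≠ 0) : eig (c • T) (c * μ) = eig T μ := by
  ext v
  rw [mem_eig, mem_eig, LinearMap.smul_apply, mul_smul]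
  constructor
  · intro h
    exact smul_right_injective V hc h
  · intro h
    rw [h]

lemma dset_smul_subset (T : End F V) (c : F) (hc : c ≠ 0) : dset T ⊆ dset (c • T) := by
  rintro d ⟨μ, hμ, rfl⟩
  refine ⟨c * μ, ?_, ?_⟩
  · rw [smul_mul_smul_comm, hμ, smul_smul]
    congr 1
    ring
  · rw [eig_smul T c μ hc]

lemma dset_smul (T : End F V) (c : F) (hc : c ≠ 0) : dset (c • T) = dset T := by
  apply Set.Subset.antisymm
  · have := dset_smul_subset (c • T) c⁻¹ (inv_ne_zero hc)
    rwa [smul_smul, inv_mul_cancel₀ hc, one_smul] at this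
  · exact dset_smul_subset T c hc

lemma lab_smul (T : End F V) (c : F) (hc : c ≠ 0) : lab (c • T) = lab T := by
  unfold lab
  rw [dset_smul T c hc]

lemma dset_conj_subset {T T' : End F V} (h : Conj T T') : dset T ⊆ dset T' := by
  obtain ⟨e, he⟩ := h
  rintro d ⟨μ, hμ, rfl⟩
  have hT' : ∀ w, T' w = e (T (e.symm w)) := by
    intro w
    rw [he, e.apply_symm_apply]
  refine ⟨μ, ?_, ?_⟩
  · apply LinearMap.ext
    intro w
    rw [End.mul_apply, hT', hT', e.symm_apply_apply, ← End.mul_apply, hμ]
    simp
  · have : eig T' μ = (eig T μ).map (e : V →ₗ[F] V) := by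
      ext w
      rw [mem_eig, Submodule.mem_map]
      constructor
      · intro hw
        refine ⟨e.symm w, ?_, by simp⟩
        rw [mem_eig]
        apply e.injective
        rw [he, e.apply_symm_apply, map_smul, e.apply_symm_apply, hw]
      · rintro ⟨v, hv, rfl⟩
        rw [mem_eig] at hv
        rw [LinearEquiv.coe_coe, ← he, hv, map_smul]
    rw [this, LinearEquiv.finrank_map_eq]

lemma lab_conj {T T' : End F V} (h : Conj T T') : lab T = lab T' := by
  unfold lab
  rw [Set.Subset.antisymm (dset_conj_subset h) (dset_conj_subset h.symm)]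

lemma dset_of_sq [Nontrivial V] (T : End F V) (μ : F)
    (hT : T * T = (μ * μ) • (1 : End F V)) :
    dset T = {finrank F (eig T μ), finrank F (eig T (-μ))} := by
  ext d
  simp only [dset, Set.mem_ofPred_eq, Set.mem_insert_iff, Set.mem_singleton_iff]
  constructor
  · rintro ⟨ν, hν, rfl⟩
    have h1 : ν * ν = μ * μ := by
      have h2 : (ν * ν) • (1 : End F V) = (μ * μ) • (1 : End F V) := by rw [← hν, hT]
      obtain ⟨v, hv⟩ := exists_ne (0 : V)
      have h3 := congrArg (fun φ : End F V => φ v) h2
      simp only [LinearMap.smul_apply, End.one_apply] at h3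
      exact smul_left_injective F hv h3
    have h4 : (ν - μ) * (ν + μ) = 0 := by ring_nf; rw [← sub_eq_zero] at h1; ring_nf at h1; exact h1
    rcases mul_eq_zero.1 h4 with h | h
    · left
      rw [sub_eq_zero.1 h]
    · right
      rw [eq_neg_of_add_eq_zero_left h]
  · rintro (rfl | rfl)
    · exact ⟨μ, hT, rfl⟩
    · exact ⟨-μ, by rw [neg_mul_neg]; exact hT, rfl⟩

lemma lab_of_sq [Nontrivial V] (T : End F V) (μ : F)
    (hT : T * T = (μ * μ) • (1 : End F V)) :
    lab T = min (finrank F (eig T μ)) (finrank F (eig T (-μ))) := by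
  unfold lab
  rw [dset_of_sq T μ hT, csInf_pair]

lemma lab_of_nonsq [Nontrivial V] (T : End F V) (lam : F) (hlam : ¬ IsSquare lam)
    (hT : T * T = lam • (1 : End F V)) : lab T = 0 := by
  unfold lab
  have : dset T = ∅ := by
    ext d
    simp only [dset, Set.mem_ofPred_eq, Set.mem_empty_iff_false, iff_false]
    rintro ⟨ν, hν, -⟩
    apply hlam
    refine ⟨ν, ?_⟩
    have h2 : lam • (1 : End F V) = (ν * ν) • (1 : End F V) := by rw [← hν, hT]
    obtain ⟨v, hv⟩ := exists_ne (0 : V)
    have h3 := congrArg (fun φ : End F V => φ v) h2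
    simp only [LinearMap.smul_apply, End.one_apply] at h3
    exact smul_left_injective F hv h3
  rw [this, Nat.sInf_empty]

lemma lab_bounds [FiniteDimensional F V] [Nontrivial V] (h2 : (2 : F) ≠ 0) (T : End F V) (μ : F)
    (hμ : μ ≠ 0) (hT : T * T = (μ * μ) • (1 : End F V)) (hns : ∀ c : F, T ≠ c • (1 : End F V)) :
    1 ≤ lab T ∧ lab T ≤ finrank F V / 2 := by
  rw [lab_of_sq T μ hT]
  have hc := eig_isCompl h2 T μ hμ hT
  have h1 := Submodule.finrank_add_eq_of_isCompl hc
  have hlt : ∀ ν : F, finrank F (eig T ν) < finrank F V := by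
    intro ν
    apply lt_of_le_of_ne (Submodule.finrank_le _)
    intro h
    have h3 : eig T ν = ⊤ := Submodule.eq_top_of_finrank_eq h
    apply hns ν
    apply LinearMap.ext
    intro v
    have : v ∈ eig T ν := by rw [h3]; trivial
    rw [mem_eig] at this
    rw [this]; simp
  have ha := hlt μ
  have hb := hlt (-μ)
  constructor
  · rw [Nat.le_min]; omega
  · rcases Nat.le_total (finrank F (eig T μ)) (finrank F (eig T (-μ))) with h | h
    · rw [min_eq_left h]; omega
    · rw [min_eq_right h]; omega

end eig

section iso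

universe u

/-- characteristic polynomial in the isotypic case -/
theorem charpoly_isotypic (P : F[X]) (hPm : P.Monic) (hPi : Irreducible P) : ∀ (n : ℕ)
    (V : Type u) [AddCommGroup V] [Module F V] [FiniteDimensional F V] (T : End F V),
    finrank F V = n → aeval T P = 0 → T.charpoly = P ^ (n / P.natDegree) := by
  intro n
  induction n using Nat.strong_induction_on with
  | _ n ih =>
    intro V _ _ _ T hn hT
    have hPd : 0 < P.natDegree := hPi.natDegree_pos
    rcases Nat.eq_zero_or_pos n with h0 | hpos
    · have h1 : T.charpoly = 1 := by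
        apply Polynomial.eq_one_of_monic_natDegree_zero (LinearMap.charpoly_monic T)
        rw [LinearMap.charpoly_natDegree, hn, h0]
      rw [h1, h0, Nat.zero_div, pow_zero]
    · have hnt : Nontrivial V := by
        rw [← finrank_pos_iff (R := F)]; omega
      obtain ⟨ℓ, U, hℓ, hU, hirr, hc⟩ := exists_split P hPi.squarefree T hT
      have hconj := conj_prodMap_of_isCompl T ℓ U hℓ hU hc
      have hcpT : T.charpoly = (T.restrict hℓ).charpoly * (T.restrict hU).charpoly := by
        rw [← hconj.charpoly_eq, LinearMap.charpoly_prodMap]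
      have hmin : minpoly F (T.restrict hℓ) = P := by
        have h1 : minpoly F (T.restrict hℓ) ∣ P :=
          minpoly.dvd F _ (aeval_restrict_eq_zero T ℓ hℓ P hT)
        have h2 := minpoly_irreducible_of_irrAct _ hirr
        exact Polynomial.eq_of_monic_of_associated
          (minpoly.monic (Algebra.IsIntegral.isIntegral (R := F) _)) hPm
          (h2.associated_of_dvd hPi h1)
      have hcℓ : (T.restrict hℓ).charpoly = P := by
        rw [charpoly_eq_minpoly_of_irrAct _ hirr, hmin]
      have hfℓ : finrank F ℓ = P.natDegree := by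
        rw [← LinearMap.charpoly_natDegree (T.restrict hℓ), hcℓ]
      have hsum := Submodule.finrank_add_eq_of_isCompl hc
      have hlt : finrank F U < n := by omega
      have hU' := ih (finrank F U) hlt U (T.restrict hU) rfl (aeval_restrict_eq_zero T U hU P hT)
      rw [hcpT, hcℓ, hU', ← pow_succ']
      congr 1
      have : n = P.natDegree + finrank F U := by omega
      rw [this, Nat.add_div_left _ hPd]

theorem conj_of_nonsq {V : Type u} [AddCommGroup V] [Module F V] [FiniteDimensional F V]
    (T T' : End F V) (lam : F) (hlam : ¬ IsSquare lam)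
    (hT : T * T = lam • (1 : End F V)) (hT' : T' * T' = lam • (1 : End F V)) : Conj T T' := by
  set P : F[X] := X ^ 2 - C lam with hP
  have hPm : P.Monic := monic_X_pow_sub_C lam (by norm_num)
  have hPd : P.natDegree = 2 := natDegree_X_pow_sub_C
  have hPi : Irreducible P := by
    apply Polynomial.irreducible_of_degree_le_three_of_not_isRoot
    · rw [hPd]; simp
    · intro x hx
      apply hlam
      refine ⟨x, ?_⟩
      rw [IsRoot.def, hP, eval_sub, eval_pow, eval_X, eval_C, sub_eq_zero] at hx
      rw [← hx, sq]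
  have haev : ∀ S : End F V, S * S = lam • (1 : End F V) → aeval S P = 0 := by
    intro S hS
    rw [hP, map_sub, map_pow, aeval_X, aeval_C, sq, hS, Algebra.algebraMap_eq_smul_one, sub_self]
  have h1 := charpoly_isotypic P hPm hPi (finrank F V) V T rfl (haev T hT)
  have h3 := charpoly_isotypic P hPm hPi (finrank F V) V T' rfl (haev T' hT')
  exact conj_of_charpoly_eq P hPi.squarefree (finrank F V) V V T T' rfl (haev T hT) (haev T' hT')
    (by rw [h1, h3])

end iso

section constr

variable {n : ℕ}

/-- the endomorphism of a matrix -/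
noncomputable def tlin (A : Matrix (Fin n) (Fin n) F) : End F (Fin n → F) :=
  Matrix.toLinAlgEquiv' A

lemma tlin_mul (A B : Matrix (Fin n) (Fin n) F) : tlin (A * B) = tlin A * tlin B := by
  unfold tlin; rw [map_mul]

lemma tlin_one : tlin (1 : Matrix (Fin n) (Fin n) F) = 1 := by
  unfold tlin; rw [map_one]

lemma tlin_smul (c : F) (A : Matrix (Fin n) (Fin n) F) : tlin (c • A) = c • tlin A := by
  unfold tlin; rw [map_smul]

lemma tlin_injective : Function.Injective (tlin : Matrix (Fin n) (Fin n) F → _) :=
  Matrix.toLinAlgEquiv'.injective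

lemma finrank_eig_diag [DecidableEq F] (w : Fin n → F) (ν : F) :
    finrank F (eig (tlin (Matrix.diagonal w)) ν) = Fintype.card {i : Fin n // w i = ν} := by
  have h1 : tlin (Matrix.diagonal w) - ν • (1 : End F (Fin n → F)) =
      Matrix.toLin' (Matrix.diagonal (fun i => w i - ν)) := by
    have : Matrix.diagonal (fun i => w i - ν) = Matrix.diagonal w - ν • (1 : Matrix (Fin n) (Fin n) F) := by
      ext i j
      by_cases hij : i = j
      · subst hij; simp
      · simp [hij]
    rw [this]
    show tlin (Matrix.diagonal w) - ν • (1 : End F (Fin n → F)) =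
      tlin (Matrix.diagonal w - ν • (1 : Matrix (Fin n) (Fin n) F))
    unfold tlin
    rw [map_sub, map_smul, map_one]
  unfold eig
  rw [h1]
  have h3 := LinearMap.finrank_range_add_finrank_ker
    (Matrix.toLin' (Matrix.diagonal (fun i => w i - ν)))
  have h4 : finrank F (LinearMap.range (Matrix.toLin' (Matrix.diagonal (fun i => w i - ν)))) =
      Fintype.card {i : Fin n // w i - ν ≠ 0} := by
    have := Matrix.rank_diagonal (fun i => w i - ν)
    rw [Matrix.rank, ← Matrix.toLin'_apply'] at this
    exact this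
  have h5 : Fintype.card {i : Fin n // w i = ν} + Fintype.card {i : Fin n // w i - ν ≠ 0} = n := by
    have := Fintype.card_subtype_compl (fun i : Fin n => w i = ν)
    have h6 : Fintype.card {i : Fin n // w i - ν ≠ 0} = Fintype.card {i : Fin n // ¬ w i = ν} := by
      apply Fintype.card_congr
      apply Equiv.subtypeEquivRight
      intro i
      rw [Ne, sub_eq_zero]
    rw [h6, this, Fintype.card_fin]
    have := Fintype.card_subtype_le (fun i : Fin n => w i = ν)
    rw [Fintype.card_fin] at this
    omega
  rw [Module.finrank_fin_fun] at h3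
  omega

lemma diag_lab (h2 : (2 : F) ≠ 0) (l : ℕ) (hl1 : 1 ≤ l) (hl2 : l ≤ n / 2) :
    ∃ A : Matrix (Fin n) (Fin n) F, A * A = 1 ∧ (∀ c : F, A ≠ c • 1) ∧ lab (tlin A) = l := by
  classical
  have hn : 2 ≤ n := by omega
  have hne : (-1 : F) ≠ 1 := by
    intro h
    apply h2
    have : (1 : F) + 1 = 0 := by
      nth_rewrite 1 [← h]; exact neg_add_cancel 1
    rw [← this]; norm_num
  set w : Fin n → F := fun i => if i.val < l then (-1 : F) else 1 with hw
  refine ⟨Matrix.diagonal w, ?_, ?_, ?_⟩
  · rw [Matrix.diagonal_mul_diagonal, ← Matrix.diagonal_one]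
    congr 1
    funext i
    simp only [hw]
    split_ifs <;> simp
  · intro c hc
    rw [Matrix.smul_one_eq_diagonal] at hc
    have h3 := Matrix.diagonal_injective hc
    have h4 := congrFun h3 ⟨0, by omega⟩
    have h5 := congrFun h3 ⟨n - 1, by omega⟩
    simp only [hw] at h4 h5
    rw [if_pos (by omega)] at h4
    rw [if_neg (by simp; omega)] at h5
    exact hne (h4.trans h5.symm)
  · have hnt : Nontrivial (Fin n → F) := by
      have : Nonempty (Fin n) := ⟨⟨0, by omega⟩⟩
      infer_instance
    have hT : tlin (Matrix.diagonal w) * tlin (Matrix.diagonal w) =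
        ((1 : F) * 1) • (1 : End F (Fin n → F)) := by
      rw [← tlin_mul, Matrix.diagonal_mul_diagonal, mul_one, one_smul, ← tlin_one,
        ← Matrix.diagonal_one]
      congr 2
      funext i
      simp only [hw]
      split_ifs <;> simp
    rw [lab_of_sq _ 1 hT, finrank_eig_diag, finrank_eig_diag]
    have h3 : Fintype.card {i : Fin n // w i = -1} = l := by
      have h4 : Fintype.card {i : Fin n // w i = -1} = Fintype.card {i : Fin n // i.val < l} := by
        apply Fintype.card_congr
        apply Equiv.subtypeEquivRight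
        intro i
        simp only [hw]
        split_ifs with h
        · simp [h]
        · simp [h, hne.symm]
      rw [h4, Fintype.card_subtype, Fin.card_filter_val_lt]
      omega
    have h4 : Fintype.card {i : Fin n // w i = 1} = n - l := by
      have h5 : Fintype.card {i : Fin n // w i = 1} = Fintype.card {i : Fin n // ¬ w i = -1} := by
        apply Fintype.card_congr
        apply Equiv.subtypeEquivRight
        intro i
        simp only [hw]
        split_ifs with h
        · simp [hne]
        · simp [hne.symm]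
      rw [h5, Fintype.card_subtype_compl, h3, Fintype.card_fin]
    rw [h3, h4]
    omega

lemma nonsq_matrix [Fintype F] (m : ℕ) (hnm : n = 2 * m) (lam : F) (hlam : ¬ IsSquare lam) :
    ∃ A : Matrix (Fin n) (Fin n) F, A * A = lam • 1 := by
  classical
  rcases Nat.eq_zero_or_pos m with hm | hm
  · subst hm
    have hn0 : n = 0 := by omega
    subst hn0
    exact ⟨0, Subsingleton.elim _ _⟩
  have hm0 : m ≠ 0 := by omega
  have : Nonempty (Fin n) := ⟨⟨0, by omega⟩⟩
  have hlam0 : lam ≠ 0 := by
    rintro rfl
    exact hlam ⟨0, by simp⟩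
  set P : F[X] := X ^ 2 - C lam with hP
  have hPm : P.Monic := monic_X_pow_sub_C lam (by norm_num)
  have hPd : P.natDegree = 2 := natDegree_X_pow_sub_C
  have hχm : (P ^ m).Monic := hPm.pow m
  have hχd : (P ^ m).natDegree = n := by
    rw [hPm.natDegree_pow, hPd, hnm, mul_comm]
  have hχ0 : (P ^ m).coeff 0 ≠ 0 := by
    rw [coeff_zero_eq_eval_zero, eval_pow]
    apply pow_ne_zero
    rw [hP, eval_sub, eval_pow, eval_X, eval_C]
    simpa using hlam0
  obtain ⟨A, hA, N, hN, hAN⟩ :=
    Cfsg.Agent.Lib.Helper15.SemisimpleCount.exists_matrix_of_charpoly n (P ^ m) hχm hχd hχ0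
  refine ⟨A, ?_⟩
  have hss : (tlin A).IsSemisimple := by
    apply End.isSemisimple_of_squarefree_aeval_eq_zero
      (separable_X_pow_sub_C (1 : F) hN one_ne_zero).squarefree
    rw [map_sub, map_pow, aeval_X, aeval_C, map_one]
    unfold tlin
    rw [← map_pow, hAN, map_one, sub_self]
  have hsq := hss.minpoly_squarefree
  have hdvd : minpoly F (tlin A) ∣ P ^ m := by
    have h1 := LinearMap.minpoly_dvd_charpoly (tlin A)
    have h3 : (tlin A).charpoly = A.charpoly := Matrix.charpoly_toLin' A
    rwa [h3, hA] at h1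
  have hdvd' : minpoly F (tlin A) ∣ P := hsq.isRadical m P hdvd
  have h0 : aeval (tlin A) P = 0 := by
    obtain ⟨c, hc⟩ := hdvd'
    rw [hc, map_mul, minpoly.aeval, zero_mul]
  rw [hP, map_sub, map_pow, aeval_X, aeval_C, sub_eq_zero, sq, Algebra.algebraMap_eq_smul_one,
    ← tlin_mul, ← tlin_one, ← tlin_smul] at h0
  exact tlin_injective h0

end constr

end Cfsg.Agent.Lib.Helper15.PGLInvol
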