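/-
helper15: leaf DICKLINE (`dickline_abs`) of helper12's S2148 market "U3"
(`notes/S2148_leaves.lean`): a `p'`-group `C` acting transitively on `q + 1` points with kernel
`Y ∩ C`, three-point stabilisers in `Y`, and `C / (Y ∩ C)` in Dickson's list.
-/
import Mathlib
import Cfsg.Agent.Lib.Helper13.DkMax

set_option autoImplicit false

namespace Cfsg.Agent.Lib.Helper15.U3Leaf

open Cfsg.Agent.Lib.Helper13
open scoped commutatorElement

/-- a map all of whose fibres have `k` elements -/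
theorem card_eq_mul_of_fibers' {α β : Type*} [Finite α] [Finite β] (φ : α → β) (k : ℕ)
    (h : ∀ b, Nat.card {a // φ a = b} = k) : Nat.card α = k * Nat.card β := by
  classical
  have := Fintype.ofFinite β
  rw [← Nat.card_congr (Equiv.sigmaFiberEquiv φ), Nat.card_sigma]
  simp only [h, Finset.sum_const, Finset.card_univ, smul_eq_mul, Nat.card_eq_fintype_card]
  ring

section os

variable {G Ω : Type*} [Group G] [MulAction G Ω]

/-- the orbit of `x` under a subgroup, as a set -/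
def orb (B : Subgroup G) (x : Ω) : Set Ω := {y | ∃ b ∈ B, b • x = y}

/-- orbit–stabiliser for a finite subgroup -/
theorem card_eq_orb_mul (B : Subgroup G) [Finite B] (x : Ω) :
    Nat.card B = Nat.card ↥(B ⊓ MulAction.stabilizer G x) * Nat.card (orb B x) := by
  have hfin : Finite (orb B x) := by
    have : (orb B x) = Set.range (fun b : B => (b : G) • x) := by
      ext y
      constructor
      · rintro ⟨b, hb, rfl⟩; exact ⟨⟨b, hb⟩, rfl⟩
      · rintro ⟨b, rfl⟩; exact ⟨b, b.2, rfl⟩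
    rw [this]
    exact Set.finite_range _
  let φ : B → orb B x := fun b => ⟨(b : G) • x, b, b.2, rfl⟩
  apply card_eq_mul_of_fibers' φ
  rintro ⟨_, b₀, hb₀, rfl⟩
  have hmem : ∀ k : ↥(B ⊓ MulAction.stabilizer G x), b₀ * (k : G) ∈ B := fun k =>
    B.mul_mem hb₀ k.2.1
  have hfib : ∀ k : ↥(B ⊓ MulAction.stabilizer G x),
      φ ⟨b₀ * (k : G), hmem k⟩ = ⟨b₀ • x, b₀, hb₀, rfl⟩ := by
    intro k
    apply Subtype.ext
    show (b₀ * (k : G)) • x = b₀ • x
    rw [mul_smul]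
    congr 1
    exact k.2.2
  refine Nat.card_congr (Equiv.ofBijective
    (fun k : ↥(B ⊓ MulAction.stabilizer G x) =>
      (⟨⟨b₀ * (k : G), hmem k⟩, hfib k⟩ : {b : B // φ b = ⟨b₀ • x, b₀, hb₀, rfl⟩}))
    ⟨?_, ?_⟩).symm
  · intro k k' hkk'
    have h1 : b₀ * (k : G) = b₀ * (k' : G) :=
      congrArg (fun q : {b : B // φ b = ⟨b₀ • x, b₀, hb₀, rfl⟩} => ((q.1 : B) : G)) hkk'
    exact Subtype.ext (mul_left_cancel h1)
  · rintro ⟨⟨b, hb⟩, hbφ⟩
    have h1 : b • x = b₀ • x := congrArg Subtype.val hbφ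
    have h2 : (b₀⁻¹ * b) • x = x := by rw [mul_smul, h1, inv_smul_smul]
    refine ⟨⟨b₀⁻¹ * b, B.mul_mem (B.inv_mem hb₀) hb, h2⟩, ?_⟩
    apply Subtype.ext
    apply Subtype.ext
    show b₀ * (b₀⁻¹ * b) = b
    group

/-- if the commutators of `A` lie in `Y` (which fixes `Lam` pointwise) and elements fixing three
points of `Lam` lie in `Y`, then a point stabiliser of a long orbit is `A ⊓ Y`. -/
theorem stab_eq_of_comm (A Y : Subgroup G) (Lam : Set Ω)
    (hinv : ∀ c ∈ A, ∀ x ∈ Lam, c • x ∈ Lam)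
    (hY : ∀ c ∈ Y, ∀ x ∈ Lam, c • x = x)
    (h3 : ∀ c ∈ A, ∀ x ∈ Lam, ∀ y ∈ Lam, ∀ z ∈ Lam, x ≠ y → x ≠ z → y ≠ z →
      c • x = x → c • y = y → c • z = z → c ∈ Y)
    (hcomm : ∀ a ∈ A, ∀ b ∈ A, a⁻¹ * b⁻¹ * a * b ∈ Y)
    (x : Ω) (hx : x ∈ Lam) (hO : 3 ≤ (orb A x).ncard) :
    A ⊓ MulAction.stabilizer G x = A ⊓ Y := by
  ext a
  constructor
  · rintro ⟨haA, hax⟩
    refine ⟨haA, ?_⟩
    have hax' : a • x = x := hax
    -- `a` fixes the orbit pointwise
    have hfix : ∀ y ∈ orb A x, a • y = y := by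
      rintro _ ⟨b, hb, rfl⟩
      have h1 : (a⁻¹ * b⁻¹ * a * b) • x = x := hY _ (hcomm a haA b hb) x hx
      have h2 : a * b = b * a * (a⁻¹ * b⁻¹ * a * b) := by group
      rw [← mul_smul, h2, mul_smul, h1, mul_smul, hax']
    have hsub : ∀ y ∈ orb A x, y ∈ Lam := by
      rintro _ ⟨b, hb, rfl⟩
      exact hinv b hb x hx
    -- three distinct points
    have h2lt : 2 < (orb A x).ncard := hO
    obtain ⟨y1, y2, y3, h1, h2, h3', h12, h13, h23⟩ := (Set.two_lt_ncard_iff (Set.finite_of_ncard_pos (by omega))).mp h2lt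
    exact h3 a haA y1 (hsub _ h1) y2 (hsub _ h2) y3 (hsub _ h3') h12 h13 h23
      (hfix _ h1) (hfix _ h2) (hfix _ h3')
  · rintro ⟨haA, haY⟩
    exact ⟨haA, hY a haY x hx⟩

theorem finite_of_le' {A C : Subgroup G} [Finite C] (hAC : A ≤ C) : Finite A :=
  Finite.of_injective (fun a : A => (⟨a.1, hAC a.2⟩ : C)) (fun a b h => by
    apply Subtype.ext
    exact congrArg (fun c : C => (c : G)) h)

/-- the common data of the leaf -/
structure LineData (C Y : Subgroup G) (Lam : Set Ω) (q : ℕ) : Prop where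
  hLam : Lam.ncard = q + 1
  hinv : ∀ c ∈ C, ∀ x ∈ Lam, c • x ∈ Lam
  htr : ∀ x ∈ Lam, ∀ y ∈ Lam, ∃ c ∈ C, c • x = y
  hY : ∀ c ∈ Y, ∀ x ∈ Lam, c • x = x
  h3 : ∀ c ∈ C, ∀ x ∈ Lam, ∀ y ∈ Lam, ∀ z ∈ Lam, x ≠ y → x ≠ z → y ≠ z →
      c • x = x → c • y = y → c • z = z → c ∈ Y

theorem LineData.exists_mem {C Y : Subgroup G} {Lam : Set Ω} {q : ℕ} (D : LineData C Y Lam q) :
    ∃ x, x ∈ Lam := by
  have h : Lam.ncard ≠ 0 := by rw [D.hLam]; omega
  exact (Set.nonempty_of_ncard_ne_zero h)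

theorem LineData.orb_eq {C Y : Subgroup G} {Lam : Set Ω} {q : ℕ} (D : LineData C Y Lam q)
    {x : Ω} (hx : x ∈ Lam) : orb C x = Lam := by
  ext y
  constructor
  · rintro ⟨c, hc, rfl⟩
    exact D.hinv c hc x hx
  · intro hy
    obtain ⟨c, hc, hcx⟩ := D.htr x hx y hy
    exact ⟨c, hc, hcx⟩

/-- `C` abelian modulo `Y`: the action on `Lam` is regular modulo `Y` -/
theorem LineData.card_of_comm {C Y : Subgroup G} [Finite C] {Lam : Set Ω} {q : ℕ}
    (D : LineData C Y Lam q) (hq : 2 ≤ q)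
    (hcomm : ∀ a ∈ C, ∀ b ∈ C, a⁻¹ * b⁻¹ * a * b ∈ Y) :
    Nat.card C = Nat.card ↥(C ⊓ Y) * (q + 1) := by
  obtain ⟨x, hx⟩ := D.exists_mem
  have h1 := card_eq_orb_mul C x
  have h2 : 3 ≤ (orb C x).ncard := by rw [D.orb_eq hx, D.hLam]; omega
  rw [stab_eq_of_comm C Y Lam D.hinv D.hY D.h3 hcomm x hx h2, D.orb_eq hx,
    Nat.card_coe_set_eq, D.hLam] at h1
  exact h1

/-- a subgroup of index at most two which is abelian modulo `Y` -/
theorem LineData.card_le_of_index_two {C Y : Subgroup G} [Finite C] {Lam : Set Ω} {q : ℕ}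
    (D : LineData C Y Lam q) (hq : 7 ≤ q) (A : Subgroup G) (hAC : A ≤ C)
    (hidx : Nat.card C ≤ 2 * Nat.card A)
    (hcomm : ∀ a ∈ A, ∀ b ∈ A, a⁻¹ * b⁻¹ * a * b ∈ Y) :
    Nat.card C ≤ 2 * (q + 1) * Nat.card ↥(C ⊓ Y) := by
  have hAfin : Finite A := finite_of_le' hAC
  obtain ⟨x, hx⟩ := D.exists_mem
  have hfin1 : Finite ↥(C ⊓ MulAction.stabilizer G x) := finite_of_le' (C := C) inf_le_left
  have hfin2 : Finite ↥(C ⊓ Y) := finite_of_le' (C := C) inf_le_left
  have hC := card_eq_orb_mul C x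
  have hA := card_eq_orb_mul A x
  rw [D.orb_eq hx, Nat.card_coe_set_eq, D.hLam] at hC
  have hsub : orb A x ⊆ Lam := by
    rintro _ ⟨a, ha, rfl⟩
    exact D.hinv a (hAC ha) x hx
  have hLamfin : Lam.Finite := Set.finite_of_ncard_pos (by rw [D.hLam]; omega)
  have hle1 : (orb A x).ncard ≤ q + 1 := by
    rw [← D.hLam]; exact Set.ncard_le_ncard hsub hLamfin
  have hle2 : Nat.card ↥(A ⊓ MulAction.stabilizer G x) ≤ Nat.card ↥(C ⊓ MulAction.stabilizer G x) :=
    Subgroup.card_le_of_le (inf_le_inf_right _ hAC)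
  have hpos : 0 < Nat.card ↥(C ⊓ MulAction.stabilizer G x) := Nat.card_pos
  rw [Nat.card_coe_set_eq] at hA
  -- the orbit of `A` is long
  have hlong : q + 1 ≤ 2 * (orb A x).ncard := by
    have h5 : Nat.card ↥(C ⊓ MulAction.stabilizer G x) * (q + 1) ≤
        Nat.card ↥(C ⊓ MulAction.stabilizer G x) * (2 * (orb A x).ncard) := by
      calc Nat.card ↥(C ⊓ MulAction.stabilizer G x) * (q + 1) = Nat.card C := hC.symm
        _ ≤ 2 * Nat.card A := hidx
        _ = 2 * (Nat.card ↥(A ⊓ MulAction.stabilizer G x) * (orb A x).ncard) := by rw [hA]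
        _ ≤ 2 * (Nat.card ↥(C ⊓ MulAction.stabilizer G x) * (orb A x).ncard) :=
            Nat.mul_le_mul_left _ (Nat.mul_le_mul_right _ hle2)
        _ = Nat.card ↥(C ⊓ MulAction.stabilizer G x) * (2 * (orb A x).ncard) := by ring
    exact Nat.le_of_mul_le_mul_left h5 hpos
  have h3' : 3 ≤ (orb A x).ncard := by omega
  have hst := stab_eq_of_comm A Y Lam (fun c hc => D.hinv c (hAC hc)) D.hY
    (fun c hc => D.h3 c (hAC hc)) hcomm x hx h3'
  rw [hst] at hA
  have hle3 : Nat.card ↥(A ⊓ Y) ≤ Nat.card ↥(C ⊓ Y) :=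
    Subgroup.card_le_of_le (inf_le_inf_right _ hAC)
  calc Nat.card C ≤ 2 * Nat.card A := hidx
    _ = 2 * (Nat.card ↥(A ⊓ Y) * (orb A x).ncard) := by rw [hA]
    _ ≤ 2 * (Nat.card ↥(C ⊓ Y) * (q + 1)) :=
        Nat.mul_le_mul_left _ (Nat.mul_le_mul hle3 hle1)
    _ = 2 * (q + 1) * Nat.card ↥(C ⊓ Y) := by ring

end os

/-- the sign map of a dihedral group -/
def dsgnFun (k : ℕ) : DihedralGroup k → Multiplicative (ZMod 2)
  | DihedralGroup.r _ => 1
  | DihedralGroup.sr _ => Multiplicative.ofAdd 1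

theorem dsgnFun_r (k : ℕ) (i : ZMod k) : dsgnFun k (DihedralGroup.r i) = 1 := rfl

theorem dsgnFun_sr (k : ℕ) (i : ZMod k) :
    dsgnFun k (DihedralGroup.sr i) = Multiplicative.ofAdd 1 := rfl

theorem ofAdd_one_mul_self : (Multiplicative.ofAdd (1 : ZMod 2)) * Multiplicative.ofAdd 1 = 1 := by
  decide

/-- the sign homomorphism of a dihedral group -/
def dsgn (k : ℕ) : DihedralGroup k →* Multiplicative (ZMod 2) where
  toFun := dsgnFun k
  map_one' := by rw [DihedralGroup.one_def, dsgnFun_r]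
  map_mul' := by
    rintro (i | i) (j | j)
    · rw [DihedralGroup.r_mul_r, dsgnFun_r, dsgnFun_r, dsgnFun_r, one_mul]
    · rw [DihedralGroup.r_mul_sr, dsgnFun_sr, dsgnFun_r, dsgnFun_sr, one_mul]
    · rw [DihedralGroup.sr_mul_r, dsgnFun_sr, dsgnFun_r, dsgnFun_sr, mul_one]
    · rw [DihedralGroup.sr_mul_sr, dsgnFun_sr, dsgnFun_sr, dsgnFun_r, ofAdd_one_mul_self]

theorem dsgn_r (k : ℕ) (i : ZMod k) : dsgn k (DihedralGroup.r i) = 1 := rfl

theorem dsgn_sr (k : ℕ) (i : ZMod k) :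
    dsgn k (DihedralGroup.sr i) = Multiplicative.ofAdd 1 := rfl

theorem dsgn_comm {k : ℕ} {u v : DihedralGroup k} (hu : dsgn k u = 1) (hv : dsgn k v = 1) :
    u * v = v * u := by
  have hne : (Multiplicative.ofAdd (1 : ZMod 2)) ≠ 1 := by decide
  rcases u with i | i
  · rcases v with j | j
    · rw [DihedralGroup.r_mul_r, DihedralGroup.r_mul_r, add_comm]
    · rw [dsgn_sr] at hv
      exact absurd hv hne
  · rw [dsgn_sr] at hu
    exact absurd hu hne

/-- A5 DICKLINE-abs. -/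
theorem dickline_abs {F : Type*} [Field F] [Fintype F] {q p : ℕ} [Fact p.Prime] (a : ℕ)
    (hqa : q = p ^ a) (hq : 7 ≤ q) (hF : Fintype.card F = q ^ 2)
    {G Ω : Type*} [Group G] [MulAction G Ω] (C : Subgroup G) [Finite C]
    (Lam : Set Ω) (hLam : Lam.ncard = q + 1)
    (hinv : ∀ c ∈ C, ∀ x ∈ Lam, c • x ∈ Lam) (htr : ∀ x ∈ Lam, ∀ y ∈ Lam, ∃ c ∈ C, c • x = y)
    (Y : Subgroup G) [(Y.subgroupOf C).Normal]
    (hY : ∀ c ∈ Y, ∀ x ∈ Lam, c • x = x)
    (h3 : ∀ c ∈ C, ∀ x ∈ Lam, ∀ y ∈ Lam, ∀ z ∈ Lam, x ≠ y → x ≠ z → y ≠ z →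
      c • x = x → c • y = y → c • z = z → c ∈ Y)
    (hp : ¬ p ∣ Nat.card C)
    (hD : Dk.Concl' F (Fintype.card F) p (↥C ⧸ Y.subgroupOf C)) :
    Nat.card C ≤ 2 * (q + 1) * Nat.card ↥(Y.subgroupOf C) ∨
    Nat.card C = 12 * Nat.card ↥(Y.subgroupOf C) ∨
    Nat.card C = 24 * Nat.card ↥(Y.subgroupOf C) ∨
    Nat.card C = 60 * Nat.card ↥(Y.subgroupOf C) := by
  have hpp : p.Prime := Fact.out
  have D : LineData C Y Lam q := ⟨hLam, hinv, htr, hY, h3⟩
  have hNcard : Nat.card ↥(Y.subgroupOf C) = Nat.card ↥(C ⊓ Y) := by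
    rw [← Subgroup.inf_subgroupOf_right, inf_comm]
    exact Nat.card_congr (Subgroup.subgroupOfEquivOfLe inf_le_left).toEquiv
  have hCX : Nat.card C = Nat.card (↥C ⧸ Y.subgroupOf C) * Nat.card ↥(Y.subgroupOf C) :=
    Subgroup.card_eq_card_quotient_mul_card_subgroup _
  have hXdvd : Nat.card (↥C ⧸ Y.subgroupOf C) ∣ Nat.card C := ⟨_, hCX⟩
  -- commutators
  have hcomm_of : ∀ a : C, ∀ b : C,
      ((a : ↥C ⧸ Y.subgroupOf C)) * (b : ↥C ⧸ Y.subgroupOf C) =
        (b : ↥C ⧸ Y.subgroupOf C) * (a : ↥C ⧸ Y.subgroupOf C) →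
      (a : G)⁻¹ * (b : G)⁻¹ * (a : G) * (b : G) ∈ Y := by
    intro a b hab
    have h1 : ((a⁻¹ * b⁻¹ * a * b : C) : ↥C ⧸ Y.subgroupOf C) = 1 := by
      rw [QuotientGroup.mk_mul, QuotientGroup.mk_mul, QuotientGroup.mk_mul, QuotientGroup.mk_inv,
        QuotientGroup.mk_inv, mul_assoc, hab]
      group
    have h2 := (QuotientGroup.eq_one_iff _).mp h1
    exact Subgroup.mem_subgroupOf.mp h2
  have habel : (∀ u v : ↥C ⧸ Y.subgroupOf C, u * v = v * u) →
      Nat.card C ≤ 2 * (q + 1) * Nat.card ↥(Y.subgroupOf C) := by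
    intro hab
    have h5 := D.card_of_comm (by omega)
      (fun a ha b hb => hcomm_of ⟨a, ha⟩ ⟨b, hb⟩ (hab _ _))
    rw [hNcard, h5]
    nlinarith [Nat.zero_le (Nat.card ↥(C ⊓ Y) * (q + 1))]
  unfold Dk.Concl' Dk.ConclN at hD
  rcases hD with ⟨k, -, (⟨hcyc, -⟩ | ⟨⟨e⟩⟩)⟩ | ⟨-, -, hpg⟩ | ⟨⟨e⟩⟩ | ⟨⟨e⟩⟩ | ⟨⟨e⟩⟩ |
    ⟨K, instK, instFK, m, hKm, he⟩
  · -- cyclic
    left
    exact habel (fun u v => (IsCyclic.isMulCommutative (α := ↥C ⧸ Y.subgroupOf C)).is_comm.comm u v)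
  · -- dihedral
    left
    set ψ : ↥C →* Multiplicative (ZMod 2) :=
      (dsgn k).comp (e.toMonoidHom.comp (QuotientGroup.mk' (Y.subgroupOf C))) with hψ
    set A : Subgroup G := ψ.ker.map C.subtype with hA
    have hAC : A ≤ C := Subgroup.map_subtype_le _
    have hAc : Nat.card A = Nat.card ψ.ker :=
      Subgroup.card_map_of_injective (Subgroup.subtype_injective _)
    have hidx2 : ψ.ker.index ≤ 2 := by
      rw [Subgroup.index_ker]
      have h1 : Nat.card ψ.range ≤ Nat.card (Multiplicative (ZMod 2)) :=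
        Subgroup.card_le_card_group _
      have h2 : Nat.card (Multiplicative (ZMod 2)) = 2 := by
        rw [Nat.card_eq_fintype_card, Fintype.card_multiplicative, ZMod.card]
      omega
    have hidx : Nat.card C ≤ 2 * Nat.card A := by
      rw [hAc, ← Subgroup.card_mul_index ψ.ker]
      calc Nat.card ψ.ker * ψ.ker.index ≤ Nat.card ψ.ker * 2 := Nat.mul_le_mul_left _ hidx2
        _ = 2 * Nat.card ψ.ker := by ring
    have hcommA : ∀ a ∈ A, ∀ b ∈ A, a⁻¹ * b⁻¹ * a * b ∈ Y := by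
      rintro _ ⟨a, ha, rfl⟩ _ ⟨b, hb, rfl⟩
      apply hcomm_of a b
      apply e.injective
      rw [map_mul, map_mul]
      exact dsgn_comm (MonoidHom.mem_ker.mp ha) (MonoidHom.mem_ker.mp hb)
    have := D.card_le_of_index_two hq A hAC hidx hcommA
    rwa [hNcard]
  · -- triangular: the commutator subgroup is a `p`-group
    left
    apply habel
    obtain ⟨j, hj⟩ := IsPGroup.iff_card.mp hpg
    have hj0 : j = 0 := by
      by_contra hj0
      apply hp
      have h1 : p ∣ Nat.card ↥(commutator (↥C ⧸ Y.subgroupOf C)) := by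
        rw [hj]; exact dvd_pow_self p hj0
      exact h1.trans ((Subgroup.card_subgroup_dvd_card _).trans hXdvd)
    rw [hj0, pow_zero] at hj
    have hbot : commutator (↥C ⧸ Y.subgroupOf C) = ⊥ := Subgroup.card_eq_one.mp hj
    intro u v
    have h1 : ⁅u, v⁆ ∈ commutator (↥C ⧸ Y.subgroupOf C) := by
      rw [commutator_def]
      exact Subgroup.commutator_mem_commutator (Subgroup.mem_top u) (Subgroup.mem_top v)
    rw [hbot, Subgroup.mem_bot, commutatorElement_eq_one_iff_commute] at h1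
    exact h1.eq
  · -- `A₄`
    right; left
    rw [hCX, Nat.card_congr e.toEquiv, nat_card_alternatingGroup, Nat.card_eq_fintype_card,
      Fintype.card_fin]
    rfl
  · -- `S₄`
    right; right; left
    rw [hCX, Nat.card_congr e.toEquiv, Nat.card_perm, Nat.card_eq_fintype_card, Fintype.card_fin]
    rfl
  · -- `A₅`
    right; right; right
    rw [hCX, Nat.card_congr e.toEquiv, nat_card_alternatingGroup, Nat.card_eq_fintype_card,
      Fintype.card_fin]
    rfl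
  · -- `PSL₂(K)`, `PGL₂(K)`: the order is divisible by `p`
    exfalso
    have hm0 : m ≠ 0 := by
      rintro rfl
      rw [pow_zero, hF] at hKm
      have : 49 ≤ q ^ 2 := by nlinarith
      omega
    have hKdvd : Fintype.card K ∣ p ^ (a * 2) := by
      have h1 : Fintype.card K ∣ Fintype.card K ^ m := dvd_pow_self _ hm0
      rw [hKm, hF, hqa, ← pow_mul] at h1
      exact h1
    obtain ⟨j, -, hj⟩ := (Nat.dvd_prime_pow hpp).mp hKdvd
    have hK2 : 2 ≤ Fintype.card K := Fintype.one_lt_card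
    have hj0 : j ≠ 0 := by
      rintro rfl
      rw [pow_zero] at hj
      omega
    have hpK : p ∣ Fintype.card K := by rw [hj]; exact dvd_pow_self p hj0
    have hpX : p ∣ Nat.card (↥C ⧸ Y.subgroupOf C) := by
      rcases he with ⟨⟨e⟩⟩ | ⟨⟨e⟩⟩
      · rw [Nat.card_congr e.toEquiv]
        have h1 := Dk.card_PSL2_mul_gcd (K := K)
        have h2 : p ∣ Nat.card (Matrix.ProjectiveSpecialLinearGroup (Fin 2) K) *
            Nat.gcd 2 (Fintype.card K - 1) := by
          rw [h1]; exact Dvd.dvd.mul_right hpK _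
        rcases (Nat.Prime.dvd_mul hpp).mp h2 with h3 | h3
        · exact h3
        · exfalso
          have h4 : p ∣ Fintype.card K - 1 := h3.trans (Nat.gcd_dvd_right _ _)
          have h5 : p ∣ Fintype.card K - (Fintype.card K - 1) := Nat.dvd_sub hpK h4
          have h6 : Fintype.card K - (Fintype.card K - 1) = 1 := by omega
          rw [h6] at h5
          exact hpp.one_lt.ne' (Nat.dvd_one.mp h5)
      · rw [Nat.card_congr e.toEquiv, Dk.card_PGL2]
        exact Dvd.dvd.mul_right hpK _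
    exact hp (hpX.trans hXdvd)

end Cfsg.Agent.Lib.Helper15.U3Leaf
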