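/-
helper15: leaf FISHER (`fisher`) of helper12's S2148 market "U3" (`notes/S2148_leaves.lean`);
a wrapper around helper4's `Fisher.isPretransitive_of_index_lt` for the coset action on `G ⧸ P`.
-/
import Mathlib
import Cfsg.Agent.Lib.Helper4.Fisher

set_option autoImplicit false

namespace Cfsg.Agent.Lib.Helper15.U3Leaf

/-- A1 FISHER.  `G` 2-transitive on `G/P`, `|G:H| < |G:P|` ⟹ `G = H P`. -/
theorem fisher {G : Type*} [Group G] [Finite G] (P H : Subgroup G)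
    (h2 : ∀ g : G, g ∉ P → ∀ g' : G, g' ∉ P → ∃ a ∈ P, ∃ b ∈ P, g' = a * g * b)
    (hidx : H.index < P.index) : ∀ g : G, ∃ h ∈ H, ∃ b ∈ P, g = h * b := by
  have h2t : MulAction.IsMultiplyPretransitive G (G ⧸ P) 2 := by
    rw [MulAction.is_two_pretransitive_iff]
    intro a b c d hab hcd
    obtain ⟨ga, rfl⟩ := QuotientGroup.mk_surjective a
    obtain ⟨gb, rfl⟩ := QuotientGroup.mk_surjective b
    obtain ⟨gc, rfl⟩ := QuotientGroup.mk_surjective c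
    obtain ⟨gd, rfl⟩ := QuotientGroup.mk_surjective d
    have h1 : ga⁻¹ * gb ∉ P := fun h => hab (QuotientGroup.eq.mpr h)
    have h3 : gc⁻¹ * gd ∉ P := fun h => hcd (QuotientGroup.eq.mpr h)
    obtain ⟨p₁, hp₁, p₂, hp₂, he⟩ := h2 _ h1 _ h3
    refine ⟨gc * p₁ * ga⁻¹, ?_, ?_⟩
    · show ((gc * p₁ * ga⁻¹ * ga : G) : G ⧸ P) = (gc : G ⧸ P)
      rw [QuotientGroup.eq]
      have : (gc * p₁ * ga⁻¹ * ga)⁻¹ * gc = p₁⁻¹ := by group
      rw [this]
      exact P.inv_mem hp₁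
    · show ((gc * p₁ * ga⁻¹ * gb : G) : G ⧸ P) = (gd : G ⧸ P)
      rw [QuotientGroup.eq]
      have : (gc * p₁ * ga⁻¹ * gb)⁻¹ * gd = (p₁ * (ga⁻¹ * gb))⁻¹ * (gc⁻¹ * gd) := by group
      rw [this, he]
      have : (p₁ * (ga⁻¹ * gb))⁻¹ * (p₁ * (ga⁻¹ * gb) * p₂) = p₂ := by group
      rw [this]
      exact hp₂
  have h0 : H.index ≠ 0 := Subgroup.index_ne_zero_of_finite
  have htr := Cfsg.Agent.Lib.Helper4.Fisher.isPretransitive_of_index_lt h2t H h0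
    (by rw [← Subgroup.index]; exact hidx)
  intro g
  obtain ⟨h, hh⟩ := htr.exists_smul_eq ((1 : G) : G ⧸ P) (g : G ⧸ P)
  have h4 : (((h : G) * 1 : G) : G ⧸ P) = (g : G ⧸ P) := hh
  rw [mul_one, QuotientGroup.eq] at h4
  exact ⟨h, h.2, (h : G)⁻¹ * g, h4, by group⟩

end Cfsg.Agent.Lib.Helper15.U3Leaf
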