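/-
helper15: leaf INVTR (`card_centralizer_of_trans`) of helper12's S2148 market "U3"
(`notes/S2148_leaves.lean`): if `G = H P` and `H`-conjugates of `j` inside `P` are `H ∩ P`-conjugate
to `j`, then `C_H(j)` is transitive on the fixed points of `j` on `G / P`.
-/
import Mathlib

set_option autoImplicit false

namespace Cfsg.Agent.Lib.Helper15.U3Leaf

/-- a map all of whose fibres have `k` elements -/
theorem card_eq_mul_of_fibers {α β : Type*} [Finite α] [Finite β] (φ : α → β) (k : ℕ)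
    (h : ∀ b, Nat.card {a // φ a = b} = k) : Nat.card α = k * Nat.card β := by
  classical
  have := Fintype.ofFinite β
  rw [← Nat.card_congr (Equiv.sigmaFiberEquiv φ), Nat.card_sigma]
  simp only [h, Finset.sum_const, Finset.card_univ, smul_eq_mul, Nat.card_eq_fintype_card]
  ring

/-- A3 INVTR. -/
theorem card_centralizer_of_trans {G : Type*} [Group G] [Finite G] (P H : Subgroup G) (j : G)
    (hjH : j ∈ H) (hjP : j ∈ P)
    (htr : ∀ g : G, ∃ h ∈ H, ∃ b ∈ P, g = h * b)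
    (hconj : ∀ h ∈ H, h⁻¹ * j * h ∈ P → ∃ k ∈ H ⊓ P, h⁻¹ * j * h = k * j * k⁻¹) :
    (∀ g : G, g⁻¹ * j * g ∈ P → ∃ c ∈ H, c * j = j * c ∧ ∃ b ∈ P, g = c * b) ∧
    Nat.card ↥(H ⊓ Subgroup.centralizer {j}) =
      Nat.card {x : G ⧸ P // j • x = x} * Nat.card ↥(H ⊓ P ⊓ Subgroup.centralizer {j}) := by
  have part1 : ∀ g : G, g⁻¹ * j * g ∈ P → ∃ c ∈ H, c * j = j * c ∧ ∃ b ∈ P, g = c * b := by
    intro g hg
    obtain ⟨h, hh, b, hb, rfl⟩ := htr g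
    have h1 : h⁻¹ * j * h ∈ P := by
      have : h⁻¹ * j * h = b * ((h * b)⁻¹ * j * (h * b)) * b⁻¹ := by group
      rw [this]
      exact P.mul_mem (P.mul_mem hb hg) (P.inv_mem hb)
    obtain ⟨k, hk, he⟩ := hconj h hh h1
    refine ⟨h * k, H.mul_mem hh hk.1, ?_, k⁻¹ * b, P.mul_mem (P.inv_mem hk.2) hb, by group⟩
    calc h * k * j = h * (k * j * k⁻¹) * k := by group
      _ = h * (h⁻¹ * j * h) * k := by rw [he]
      _ = j * (h * k) := by group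
  refine ⟨part1, ?_⟩
  have hfix : ∀ c ∈ H ⊓ Subgroup.centralizer {j}, j • ((c : G) : G ⧸ P) = ((c : G) : G ⧸ P) := by
    intro c hc
    have hcj : c * j = j * c := Subgroup.mem_centralizer_singleton_iff.mp hc.2
    show ((j * c : G) : G ⧸ P) = (c : G ⧸ P)
    rw [QuotientGroup.eq]
    have : (j * c)⁻¹ * c = j⁻¹ := by
      rw [← hcj]; group
    rw [this]
    exact P.inv_mem hjP
  let φ : ↥(H ⊓ Subgroup.centralizer {j}) → {x : G ⧸ P // j • x = x} :=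
    fun c => ⟨((c : G) : G ⧸ P), hfix c c.2⟩
  rw [mul_comm]
  apply card_eq_mul_of_fibers φ
  rintro ⟨x, hx⟩
  obtain ⟨g, rfl⟩ := QuotientGroup.mk_surjective x
  have hg : g⁻¹ * j * g ∈ P := by
    have h1 : ((j * g : G) : G ⧸ P) = (g : G ⧸ P) := hx
    rw [QuotientGroup.eq] at h1
    have : g⁻¹ * j * g = ((j * g)⁻¹ * g)⁻¹ := by group
    rw [this]
    exact P.inv_mem h1
  obtain ⟨c₀, hc₀H, hc₀j, b, hb, rfl⟩ := part1 g hg
  have hc₀C : c₀ ∈ H ⊓ Subgroup.centralizer {j} :=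
    ⟨hc₀H, Subgroup.mem_centralizer_singleton_iff.mpr hc₀j⟩
  have hmem : ∀ k : ↥(H ⊓ P ⊓ Subgroup.centralizer {j}),
      c₀ * (k : G) ∈ H ⊓ Subgroup.centralizer {j} := fun k =>
    Subgroup.mul_mem _ hc₀C ⟨k.2.1.1, k.2.2⟩
  have hfib : ∀ k : ↥(H ⊓ P ⊓ Subgroup.centralizer {j}),
      φ ⟨c₀ * (k : G), hmem k⟩ = ⟨((c₀ * b : G) : G ⧸ P), hx⟩ := by
    intro k
    apply Subtype.ext
    show ((c₀ * (k : G) : G) : G ⧸ P) = ((c₀ * b : G) : G ⧸ P)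
    rw [QuotientGroup.eq]
    have : (c₀ * (k : G))⁻¹ * (c₀ * b) = (k : G)⁻¹ * b := by group
    rw [this]
    exact P.mul_mem (P.inv_mem k.2.1.2) hb
  refine Nat.card_congr (Equiv.ofBijective
    (fun k : ↥(H ⊓ P ⊓ Subgroup.centralizer {j}) =>
      (⟨⟨c₀ * (k : G), hmem k⟩, hfib k⟩ :
        {c : ↥(H ⊓ Subgroup.centralizer {j}) // φ c = ⟨((c₀ * b : G) : G ⧸ P), hx⟩}))
    ⟨?_, ?_⟩).symm
  · intro k k' hkk'
    have h1 : c₀ * (k : G) = c₀ * (k' : G) :=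
      congrArg (fun q : {c : ↥(H ⊓ Subgroup.centralizer {j}) //
        φ c = ⟨((c₀ * b : G) : G ⧸ P), hx⟩} => ((q.1 : ↥(H ⊓ Subgroup.centralizer {j})) : G)) hkk'
    exact Subtype.ext (mul_left_cancel h1)
  · rintro ⟨⟨c, hc⟩, hcφ⟩
    have h1 : ((c : G) : G ⧸ P) = ((c₀ * b : G) : G ⧸ P) := congrArg Subtype.val hcφ
    rw [QuotientGroup.eq] at h1
    -- `c₀⁻¹ c ∈ P`
    have h2 : c₀⁻¹ * c ∈ P := by
      have : c₀⁻¹ * c = b * (c⁻¹ * (c₀ * b))⁻¹ := by group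
      rw [this]
      exact P.mul_mem hb (P.inv_mem h1)
    have h3 : c₀⁻¹ * c ∈ H ⊓ Subgroup.centralizer {j} :=
      Subgroup.mul_mem _ (Subgroup.inv_mem _ hc₀C) hc
    refine ⟨⟨c₀⁻¹ * c, ⟨h3.1, h2⟩, h3.2⟩, ?_⟩
    apply Subtype.ext
    apply Subtype.ext
    show c₀ * (c₀⁻¹ * c) = c
    group

end Cfsg.Agent.Lib.Helper15.U3Leaf
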