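import Mathlib
import Cfsg.Agent.Lib.Helper20.AschDefs
import Cfsg.Agent.Lib.Helper24.AschA7Defs

/-!
S5630 (Aschbacher, helper20), block (A7) (sub-planner helper24): block B = bridge from the linear group `N` to `CM N`
(B1 .. B5), exact signatures of `notes/S5630_A7_leaves.lean`.
-/

set_option autoImplicit false
set_option linter.unusedSectionVars false
set_option linter.unusedVariables false

namespace Cfsg.Agent.Lib.Helper15.AschA7Leaf
open Matrix Cfsg.Geo Cfsg.Agent.Lib.Helper20.Asch Cfsg.Agent.Lib.Helper24.AschA7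
open scoped Kronecker commutatorElement

variable {F : Type*} [Field F] [Fintype F] {n : ℕ} {H N : Subgroup (GL (Fin n) F)}

/-- a scalar matrix which is invertible is a unit scalar -/
theorem mem_scalars_of_eq_smul (g : GL (Fin n) F) (c : F)
    (h : (g : Matrix (Fin n) (Fin n) F) = c • (1 : Matrix (Fin n) (Fin n) F)) :
    g ∈ scalars (Fin n) F := by
  rw [mem_scalars_iff]
  by_cases hc : c = 0
  · -- then the matrix ring is trivial
    have h0 : (1 : Matrix (Fin n) (Fin n) F) = 0 := by
      have h1 : (g : Matrix (Fin n) (Fin n) F) * ((g⁻¹ : GL (Fin n) F) : Matrix (Fin n) (Fin n) F) = 1 := by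
        rw [← Units.val_mul, mul_inv_cancel, Units.val_one]
      rw [h, hc, zero_smul, zero_mul] at h1
      exact h1.symm
    refine ⟨1, ?_⟩
    rw [Units.val_one, one_smul, h0]
    calc (g : Matrix (Fin n) (Fin n) F) = (g : Matrix (Fin n) (Fin n) F) * 1 := (mul_one _).symm
      _ = 0 := by rw [h0, mul_zero]
  · exact ⟨Units.mk0 c hc, h⟩

/-- B1.  A central element commutes with `N`, hence is a scalar (`AbsIrr`); scalars commute with everything. -/
theorem mem_center_iff_scalar (habs : AbsIrr N) (x : N) :
    x ∈ Subgroup.center N ↔ (x : GL (Fin n) F) ∈ scalars (Fin n) F := by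
  constructor
  · intro hx
    rw [Subgroup.mem_center_iff] at hx
    have hcomm : ∀ s ∈ matrixSet N, ((x : GL (Fin n) F) : Matrix (Fin n) (Fin n) F) * s =
        s * ((x : GL (Fin n) F) : Matrix (Fin n) (Fin n) F) := by
      rintro _ ⟨y, hy, rfl⟩
      have h1 := hx ⟨y, hy⟩
      have h2 : (y : GL (Fin n) F) * (x : GL (Fin n) F) = (x : GL (Fin n) F) * y :=
        congrArg Subtype.val h1
      show ((x : GL (Fin n) F) : Matrix (Fin n) (Fin n) F) * (y : Matrix (Fin n) (Fin n) F) =
        (y : Matrix (Fin n) (Fin n) F) * ((x : GL (Fin n) F) : Matrix (Fin n) (Fin n) F)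
      rw [← Units.val_mul, ← Units.val_mul, h2]
    obtain ⟨c, hc⟩ := habs.2 _ hcomm
    exact mem_scalars_of_eq_smul _ c hc
  · intro hx
    rw [mem_scalars_iff] at hx
    obtain ⟨c, hc⟩ := hx
    rw [Subgroup.mem_center_iff]
    intro y
    apply Subtype.ext
    apply Units.ext
    show ((y : GL (Fin n) F) : Matrix (Fin n) (Fin n) F) * ((x : GL (Fin n) F) : Matrix (Fin n) (Fin n) F) =
      ((x : GL (Fin n) F) : Matrix (Fin n) (Fin n) F) * ((y : GL (Fin n) F) : Matrix (Fin n) (Fin n) F)
    rw [hc, Matrix.mul_smul, Matrix.smul_mul, mul_one, one_mul]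

/-- B2.  `scalars` is the image of the cyclic group `Fˣ`; `Z(N)` embeds in it (B1). -/
theorem center_isCyclic (habs : AbsIrr N) : IsCyclic (Subgroup.center N) := by
  have : IsCyclic (scalars (Fin n) F) := by
    unfold scalars
    exact isCyclic_of_surjective _ (MonoidHom.rangeRestrict_surjective _)
  let f : Subgroup.center N →* scalars (Fin n) F :=
    { toFun := fun x => ⟨((x : N) : GL (Fin n) F), (mem_center_iff_scalar habs x.1).mp x.2⟩
      map_one' := rfl
      map_mul' := fun x y => rfl }
  apply isCyclic_of_injective f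
  intro x y hxy
  have h1 : ((x : N) : GL (Fin n) F) = ((y : N) : GL (Fin n) F) :=
    congrArg (Subtype.val : scalars (Fin n) F → GL (Fin n) F) hxy
  exact Subtype.ext (Subtype.ext h1)

/-- B3.  Conjugation by `h ∈ H` is an automorphism of `N` (as `H` normalises `N`), so it preserves the characteristic
subgroup `K`. -/
theorem normBy_map_of_characteristic (hnorm : NormBy H N) (K : Subgroup N) (hK : K.Characteristic) :
    NormBy H (K.map N.subtype) := by
  rintro h hh _ ⟨k, hk, rfl⟩
  have hinv : h⁻¹ ∈ H := H.inv_mem hh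
  let φ : N ≃* N :=
    { toFun := fun x => ⟨h * x * h⁻¹, hnorm h hh x x.2⟩
      invFun := fun x => ⟨h⁻¹ * x * h, by simpa using hnorm h⁻¹ hinv x x.2⟩
      left_inv := fun x => by apply Subtype.ext; simp [mul_assoc]
      right_inv := fun x => by apply Subtype.ext; simp [mul_assoc]
      map_mul' := fun x y => by apply Subtype.ext; simp [mul_assoc] }
  have h1 : K.comap φ.toMonoidHom = K := hK.fixed φ
  have h2 : k ∈ K.comap φ.toMonoidHom := by rw [h1]; exact hk
  exact ⟨φ k, h2, rfl⟩

/-- B4.  A generator of the cyclic group `Z(N)` is `c • 1` with `c` of order `|Z(N)|` in `Fˣ`. -/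
theorem exists_primitive_root (hn : 0 < n) (habs : AbsIrr N) :
    ∃ ζ : F, IsPrimitiveRoot ζ (Nat.card (Subgroup.center N)) := by
  have : Nonempty (Fin n) := ⟨⟨0, hn⟩⟩
  have := center_isCyclic habs
  obtain ⟨g, hg⟩ := IsCyclic.exists_generator (α := Subgroup.center N)
  have hord : orderOf g = Nat.card (Subgroup.center N) := orderOf_eq_card_of_forall_mem_zpowers hg
  obtain ⟨c, hc⟩ := (mem_scalars_iff _).mp ((mem_center_iff_scalar habs g.1).mp g.2)
  have hpow : ∀ k : ℕ, g ^ k = 1 ↔ (c : F) ^ k = 1 := by
    intro k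
    have h1 : g ^ k = 1 ↔ (((g : N) : GL (Fin n) F) : Matrix (Fin n) (Fin n) F) ^ k = 1 := by
      constructor
      · intro h
        have : (((g ^ k : Subgroup.center N) : N) : GL (Fin n) F) = 1 := by rw [h]; rfl
        have h2 := congrArg (fun u : GL (Fin n) F => (u : Matrix (Fin n) (Fin n) F)) this
        simpa using h2
      · intro h
        apply Subtype.ext
        apply Subtype.ext
        apply Units.ext
        simpa using h
    rw [h1, hc, smul_pow, one_pow]
    constructor
    · intro h
      have := congrFun (congrFun h ⟨0, hn⟩) ⟨0, hn⟩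
      simpa using this
    · intro h
      rw [h, one_smul]
  refine ⟨c, ?_⟩
  rw [← hord]
  refine ⟨(hpow _).mp (pow_orderOf_eq_one g), fun l hl => ?_⟩
  exact orderOf_dvd_of_pow_eq_one ((hpow l).mpr hl)

/-- B5. -/
theorem le_subgroupNormalizer (hnorm : NormBy H N) : H ≤ subgroupNormalizer N := by
  intro h hh
  unfold subgroupNormalizer
  rw [Subgroup.mem_normalizer_iff]
  intro g
  constructor
  · intro hg
    exact hnorm h hh g hg
  · intro hg
    have := hnorm h⁻¹ (H.inv_mem hh) _ hg
    simpa [mul_assoc] using this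

end Cfsg.Agent.Lib.Helper15.AschA7Leaf
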