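import Mathlib
import Cfsg.Agent.Lib.Helper15.AschUCtx

/-!
S5663 market U, packet U-GU (exact signatures of `notes/S5663_U_leaves.lean`): `hermForm_eq_sform`, `hermForm_unitaryPow`,
`gramIn_herm`, `gramIn_det_ne_zero`, `hermForm_gramIn`, `one_herm`.
-/

set_option autoImplicit false
set_option linter.unusedSectionVars false
set_option linter.unusedVariables false

namespace Cfsg.Agent.Lib.Helper15.UALeaf
open Matrix Cfsg Cfsg.Geo Cfsg.Agent.Lib.Helper20.Asch Cfsg.Agent.Lib.Helper7.AschLeaf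
open Cfsg.Agent.Lib.Helper15.AschU Cfsg.Agent.Lib.Helper15.AschForm
open scoped Kronecker

variable {F : Type*} [Field F] [Fintype F] {n q : ℕ}

/-- (GU1) `hermForm` is the form with Gram matrix `1` -/
theorem hermForm_eq_sform {σ : F ≃+* F} (hσ : IsFrob q σ) (m : ℕ) :
    hermForm m F q = sform (σ : F →+* F) (1 : Matrix (Fin m) (Fin m) F) := by
  funext u v
  simp only [sform, Matrix.one_mulVec, hermForm, dotProduct, vmap]
  apply Finset.sum_congr rfl
  intro i _
  have : (σ : F →+* F) (v i) = v i ^ q := hσ.pow (v i)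
  rw [this]

/-- `1` is hermitian -/
theorem one_herm (σ : F →+* F) : (((1 : Matrix (Fin n) (Fin n) F)).map σ)ᵀ = 1 := by
  ext i j
  simp only [Matrix.transpose_apply, Matrix.map_apply, Matrix.one_apply]
  by_cases h : i = j
  · subst h; simp
  · have h' : j ≠ i := fun e => h e.symm
    simp [h, h']

/-- (GU2) `hermForm` is a prelude `IsUnitaryFormPow` -/
theorem hermForm_unitaryPow {σ : F ≃+* F} (hσ : IsFrob q σ) (m : ℕ) : IsUnitaryFormPow q (hermForm m F q) := by
  rw [hermForm_eq_sform hσ m]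
  exact hσ.unitaryPow_sform 1 (one_herm (σ : F →+* F)) (by simp)

/-- (GU3) a hermitian Gram matrix stays hermitian in every basis -/
theorem gramIn_herm {κ : Type} [Fintype κ] [DecidableEq κ] (σ : F →+* F) (hinv : ∀ a : F, σ (σ a) = a)
    (J : Matrix (Fin n) (Fin n) F) (hJ : (J.map σ)ᵀ = J) (e : Fin n ≃ κ) (P : GL (Fin n) F) :
    ((gramIn σ J e P).map σ)ᵀ = gramIn σ J e P := by
  unfold gramIn
  have hPP : ((P : Matrix (Fin n) (Fin n) F).map σ).map σ = (P : Matrix (Fin n) (Fin n) F) := by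
    ext i j
    simp [hinv]
  have h1 : ((((P : Matrix (Fin n) (Fin n) F)ᵀ * J * (P : Matrix (Fin n) (Fin n) F).map σ)).map σ)ᵀ =
      (P : Matrix (Fin n) (Fin n) F)ᵀ * J * (P : Matrix (Fin n) (Fin n) F).map σ := by
    rw [Matrix.map_mul, Matrix.map_mul, Matrix.transpose_mul, Matrix.transpose_mul, hPP, hJ, ← Matrix.transpose_map,
      Matrix.transpose_transpose, Matrix.mul_assoc]
  ext a b
  have := congrFun (congrFun h1 (e.symm a)) (e.symm b)
  rw [Matrix.transpose_apply, Matrix.map_apply] at this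
  rw [Matrix.transpose_apply, Matrix.map_apply, Matrix.reindex_apply, Matrix.submatrix_apply, Matrix.submatrix_apply]
  exact this

/-- (GU4) and invertible -/
theorem gramIn_det_ne_zero {κ : Type} [Fintype κ] [DecidableEq κ] (σ : F →+* F)
    (J : Matrix (Fin n) (Fin n) F) (hJ : J.det ≠ 0) (e : Fin n ≃ κ) (P : GL (Fin n) F) :
    (gramIn σ J e P).det ≠ 0 := by
  unfold gramIn
  rw [Matrix.det_reindex_self, Matrix.det_mul, Matrix.det_mul, Matrix.det_transpose]
  have hP : (P : Matrix (Fin n) (Fin n) F).det ≠ 0 := by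
    have := (Matrix.isUnits_det_units P)
    exact this.ne_zero
  have hPs : ((P : Matrix (Fin n) (Fin n) F).map σ).det ≠ 0 := by
    have h1 : ((P : Matrix (Fin n) (Fin n) F).map σ).det = σ ((P : Matrix (Fin n) (Fin n) F).det) := by
      rw [RingHom.map_det]
      rfl
    rw [h1]
    exact (map_ne_zero σ).mpr hP
  exact mul_ne_zero (mul_ne_zero hP hJ) hPs

/-- (GU5) the form in the basis `(e, P)` -/
theorem hermForm_gramIn {κ : Type} [Fintype κ] [DecidableEq κ] {σ : F ≃+* F} (hσ : IsFrob q σ)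
    (e : Fin n ≃ κ) (P : GL (Fin n) F) (x y : κ → F) :
    hermForm n F q ((P : Matrix (Fin n) (Fin n) F) *ᵥ (x ∘ e)) ((P : Matrix (Fin n) (Fin n) F) *ᵥ (y ∘ e)) =
      formOfGram (fun a : F => a ^ q) (gramIn (σ : F →+* F) 1 e P) x y := by
  rw [hermForm_eq_sform hσ n, form_gramIn]
  have : ((σ : F →+* F) : F → F) = fun a : F => a ^ q := by
    funext a
    exact hσ.pow a
  rw [this]

end Cfsg.Agent.Lib.Helper15.UALeaf
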