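/-
S4504 LAYER A (planner helper13), leaf BRP-CARD `card_sylow_normalClosure` (frozen statement in
notes/S4504_A_leaves.lean): `G` and the normal closure `H` of a Sylow `p`-subgroup `P` have the same number of Sylow
`p`-subgroups: `Q ↦ Q.subtype` is a bijection `Syl_p G → Syl_p H` (`H ⊴ G` contains every Sylow `p`-subgroup;
surjective by Sylow's theorem in `H` and `Sylow.smul_subtype`).
-/
import Mathlib

set_option autoImplicit false

namespace Cfsg.Agent.Lib.Helper15.BRPCARD

universe u

open scoped Pointwise

/-- every Sylow `p`-subgroup lies in the normal closure of one of them -/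
theorem sylow_le_normalClosure {p : ℕ} [Fact p.Prime] {G : Type u} [Group G] [Finite G]
    (P Q : Sylow p G) : (Q : Subgroup G) ≤ Subgroup.normalClosure ((P : Subgroup G) : Set G) := by
  have hHn : (Subgroup.normalClosure ((P : Subgroup G) : Set G)).Normal := Subgroup.normalClosure_normal
  have hle : (P : Subgroup G) ≤ Subgroup.normalClosure ((P : Subgroup G) : Set G) :=
    Subgroup.le_normalClosure
  obtain ⟨g, rfl⟩ := MulAction.exists_smul_eq G P Q
  intro z hz
  rw [Sylow.coe_subgroup_smul, Subgroup.mem_smul_pointwise_iff_exists] at hz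
  obtain ⟨w, hw, rfl⟩ := hz
  rw [MulAut.smul_def, MulAut.conj_apply]
  exact hHn.conj_mem w (hle hw) g

/-- CARD : `G` and the normal closure of a Sylow `p`-subgroup have the same number of Sylow `p`-subgroups. -/
theorem card_sylow_normalClosure {p : ℕ} [Fact p.Prime] {G : Type u} [Group G] [Finite G]
    (P : Sylow p G) :
    Nat.card (Sylow p G) = Nat.card (Sylow p (Subgroup.normalClosure ((P : Subgroup G) : Set G))) := by
  classical
  set H := Subgroup.normalClosure ((P : Subgroup G) : Set G) with hH
  have hle : (P : Subgroup G) ≤ H := Subgroup.le_normalClosure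
  let f : Sylow p G → Sylow p H := fun Q => Q.subtype (sylow_le_normalClosure P Q)
  refine Nat.card_eq_of_bijective f ⟨?_, ?_⟩
  · intro Q Q' h
    exact Sylow.subtype_injective h
  · intro R
    obtain ⟨h, hh⟩ := MulAction.exists_smul_eq H (P.subtype hle) R
    refine ⟨h • P, ?_⟩
    rw [← hh, Sylow.smul_subtype]

end Cfsg.Agent.Lib.Helper15.BRPCARD
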