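/-
S4504 LAYER A (planner helper13), leaf BRP-NCL `normalClosure_subtype_eq_top` (frozen statement in
notes/S4504_A_leaves.lean): the normal closure of `P` inside `H = normalClosure P` is `H`.
All `G`-conjugates of `P` are Sylow `p`-subgroups of `H`, hence `H`-conjugate to `P`.
-/
import Mathlib

set_option autoImplicit false

namespace Cfsg.Agent.Lib.Helper15.BRPNCL

universe u

open scoped Pointwise

/-- NCL : the normal closure of `P` inside `H = normalClosure P` is `H`. -/
theorem normalClosure_subtype_eq_top {p : ℕ} [Fact p.Prime] {G : Type u} [Group G] [Finite G]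
    (P : Sylow p G) :
    Subgroup.normalClosure
      (((P.subtype (Subgroup.le_normalClosure (H := (P : Subgroup G))) :
        Sylow p (Subgroup.normalClosure ((P : Subgroup G) : Set G))) :
          Subgroup (Subgroup.normalClosure ((P : Subgroup G) : Set G))) :
            Set (Subgroup.normalClosure ((P : Subgroup G) : Set G))) = ⊤ := by
  classical
  set H := Subgroup.normalClosure ((P : Subgroup G) : Set G) with hH
  have hHn : H.Normal := Subgroup.normalClosure_normal
  have hle : (P : Subgroup G) ≤ H := Subgroup.le_normalClosure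
  set M : Subgroup H := Subgroup.normalClosure (((P.subtype hle : Sylow p H) : Subgroup H) : Set H) with hM
  have hMn : M.Normal := Subgroup.normalClosure_normal
  have hPM : ((P.subtype hle : Sylow p H) : Subgroup H) ≤ M := Subgroup.le_normalClosure
  -- all conjugates of `P` lie in (the image of) `M`
  have key : Group.conjugatesOfSet ((P : Subgroup G) : Set G) ⊆ (M.map H.subtype : Set G) := by
    intro y hy
    rw [Group.mem_conjugatesOfSet_iff] at hy
    obtain ⟨x, hx, hxy⟩ := hy
    rw [isConj_iff] at hxy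
    obtain ⟨g, rfl⟩ := hxy
    have hQle : ((g • P : Sylow p G) : Subgroup G) ≤ H := by
      intro z hz
      rw [Sylow.coe_subgroup_smul, Subgroup.mem_smul_pointwise_iff_exists] at hz
      obtain ⟨w, hw, rfl⟩ := hz
      rw [MulAut.smul_def, MulAut.conj_apply]
      exact hHn.conj_mem w (hle hw) g
    obtain ⟨h, hh⟩ := MulAction.exists_smul_eq H (P.subtype hle) ((g • P).subtype hQle)
    have hyQ : g * x * g⁻¹ ∈ ((g • P : Sylow p G) : Subgroup G) := by
      rw [Sylow.coe_subgroup_smul, Subgroup.mem_smul_pointwise_iff_exists]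
      exact ⟨x, hx, by rw [MulAut.smul_def, MulAut.conj_apply]⟩
    have hmem : (⟨g * x * g⁻¹, hQle hyQ⟩ : H) ∈ ((g • P).subtype hQle : Sylow p H) := by
      show (⟨g * x * g⁻¹, hQle hyQ⟩ : H) ∈ (((g • P).subtype hQle : Sylow p H) : Subgroup H)
      rw [Sylow.coe_subtype, Subgroup.mem_subgroupOf]
      exact hyQ
    rw [← hh] at hmem
    have hmem' : (⟨g * x * g⁻¹, hQle hyQ⟩ : H) ∈ ((h • P.subtype hle : Sylow p H) : Subgroup H) := hmem
    rw [Sylow.coe_subgroup_smul, Subgroup.mem_smul_pointwise_iff_exists] at hmem'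
    obtain ⟨s, hs, hs'⟩ := hmem'
    rw [MulAut.smul_def, MulAut.conj_apply] at hs'
    refine ⟨⟨g * x * g⁻¹, hQle hyQ⟩, ?_, rfl⟩
    rw [SetLike.mem_coe, ← hs']
    exact hMn.conj_mem s (hPM hs) h
  rw [eq_top_iff]
  rintro ⟨x, hx⟩ -
  have hx' : x ∈ Subgroup.closure (Group.conjugatesOfSet ((P : Subgroup G) : Set G)) := hx
  have := (Subgroup.closure_le _).mpr key hx'
  obtain ⟨m, hm, hmx⟩ := this
  have : m = ⟨x, hx⟩ := Subtype.ext hmx
  rw [← this]
  exact hm

end Cfsg.Agent.Lib.Helper15.BRPNCL
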