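import Mathlib

set_option autoImplicit false

namespace Cfsg.Agent.Lib.Helper15.ZassenhausCount

open MulAction

/-- one orbit means the quotient has one element -/
theorem card_orbits_eq_one {G X : Type*} [Group G] [MulAction G X] [Nonempty X]
    [IsPretransitive G X] [Fintype (Quotient (orbitRel G X))] :
    Fintype.card (Quotient (orbitRel G X)) = 1 := by
  have h1 : Subsingleton (orbitRel.Quotient G X) :=
    (pretransitive_iff_subsingleton_quotient G X).mp inferInstance
  have h2 : Nonempty (orbitRel.Quotient G X) := (nonempty_quotient_iff _).mpr inferInstance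
  rw [Fintype.card_eq_one_iff]
  obtain ⟨x⟩ := h2
  exact ⟨x, fun y => h1.elim y x⟩

/-- the embeddings of `Fin 2` fixed by `g` -/
def fixedEmbEquiv {G X : Type*} [Group G] [MulAction G X] (g : G) :
    fixedBy (Fin 2 ↪ X) g ≃ (Fin 2 ↪ fixedBy X g) where
  toFun e := ⟨fun i => ⟨e.1 i, by
      have h := e.2
      rw [mem_fixedBy] at h ⊢
      have := congrArg (fun f : Fin 2 ↪ X => f i) h
      simpa using this⟩, by
      intro i j hij
      have : e.1 i = e.1 j := congrArg Subtype.val hij
      exact e.1.injective this⟩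
  invFun e := ⟨⟨fun i => (e i : X), by
      intro i j hij
      exact e.injective (Subtype.ext hij)⟩, by
      rw [mem_fixedBy]
      ext i
      have := (e i).2
      rw [mem_fixedBy] at this
      rw [Function.Embedding.smul_apply]
      exact this⟩
  left_inv e := by
    apply Subtype.ext
    ext i
    rfl
  right_inv e := by
    ext i
    rfl

/-- counting the fixed-point-free elements of a Zassenhaus-type action -/
theorem count_fpf {G X : Type*} [Group G] [Fintype G] [MulAction G X] [Fintype X]
    (h2 : IsMultiplyPretransitive G X 2)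
    (h3 : ∀ g : G, ∀ a b c : X, a ≠ b → b ≠ c → a ≠ c → g • a = a → g • b = b → g • c = c → g = 1)
    (hN : 2 ≤ Fintype.card X) :
    (2 * (Nat.card {g : G // ∀ P : X, g • P ≠ P} : ℤ)) +
      ((Fintype.card X : ℤ) - 1) * ((Fintype.card X : ℤ) - 2) = Fintype.card G := by
  classical
  have hne : Nonempty X := by
    rw [← Fintype.card_pos_iff]; omega
  have hne2 : Nonempty (Fin 2 ↪ X) := by
    apply Function.Embedding.nonempty_of_card_le
    simpa using hN
  have h1t : IsPretransitive G X := isPretransitive_of_is_two_pretransitive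
  have h2t : IsPretransitive G (Fin 2 ↪ X) := h2
  set f : G → ℕ := fun g => Fintype.card (fixedBy X g) with hf
  have S1 : ∑ g : G, f g = Fintype.card G := by
    have := sum_card_fixedBy_eq_card_orbits_mul_card_group G X
    rw [card_orbits_eq_one, one_mul] at this
    exact this
  have S2 : ∑ g : G, f g * (f g - 1) = Fintype.card G := by
    have := sum_card_fixedBy_eq_card_orbits_mul_card_group G (Fin 2 ↪ X)
    rw [card_orbits_eq_one, one_mul] at this
    rw [← this]
    apply Finset.sum_congr rfl
    intro g _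
    rw [Fintype.card_congr (fixedEmbEquiv g), Fintype.card_embedding_eq, Fintype.card_fin]
    show f g * (f g - 1) = (f g).descFactorial 2
    rw [Nat.descFactorial_succ, Nat.descFactorial_succ, Nat.descFactorial_zero]
    simp [mul_comm]
  have S3 : ∑ g : G, (((f g : ℤ) - 1) * ((f g : ℤ) - 2)) = Fintype.card G := by
    have hpt : ∀ g : G, ((f g : ℤ) - 1) * ((f g : ℤ) - 2) =
        ((f g * (f g - 1) : ℕ) : ℤ) - 2 * (f g : ℤ) + 2 := by
      intro g
      rcases Nat.eq_zero_or_pos (f g) with h | h
      · rw [h]; simp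
      · rw [Nat.cast_mul, Nat.cast_sub h]; push_cast; ring
    rw [Finset.sum_congr rfl (fun g _ => hpt g), Finset.sum_add_distrib, Finset.sum_sub_distrib,
      ← Nat.cast_sum, S2, ← Finset.mul_sum, ← Nat.cast_sum, S1]
    simp
    ring
  have hf1 : f 1 = Fintype.card X := by
    rw [hf]
    apply Fintype.card_congr
    refine ⟨fun x => x.1, fun x => ⟨x, by rw [mem_fixedBy, one_smul]⟩, fun x => rfl, fun x => rfl⟩
  have hle : ∀ g : G, g ≠ 1 → f g ≤ 2 := by
    intro g hg
    by_contra hcon
    push Not at hcon
    obtain ⟨a, b, c, hab, hac, hbc⟩ := Fintype.two_lt_card_iff.mp hcon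
    apply hg
    refine h3 g a b c ?_ ?_ ?_ a.2 b.2 c.2
    · exact fun h => hab (Subtype.ext h)
    · exact fun h => hbc (Subtype.ext h)
    · exact fun h => hac (Subtype.ext h)
  have hzero : ∀ g : G, f g = 0 ↔ ∀ P : X, g • P ≠ P := by
    intro g
    rw [hf]
    show Fintype.card (fixedBy X g) = 0 ↔ _
    rw [Fintype.card_eq_zero_iff]
    constructor
    · intro h P hP
      exact h.elim ⟨P, hP⟩
    · intro h
      exact ⟨fun x => h x.1 x.2⟩
  have hterm : ∀ g : G, g ≠ 1 → ((f g : ℤ) - 1) * ((f g : ℤ) - 2) =
      if (∀ P : X, g • P ≠ P) then 2 else 0 := by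
    intro g hg
    have h := hle g hg
    by_cases hz : f g = 0
    · rw [if_pos ((hzero g).mp hz), hz]; norm_num
    · rw [if_neg (fun h => hz ((hzero g).mpr h))]
      have : f g = 1 ∨ f g = 2 := by omega
      rcases this with h | h <;> rw [h] <;> norm_num
  have hfpf1 : ¬ ∀ P : X, (1 : G) • P ≠ P := by
    intro h
    obtain ⟨P⟩ := hne
    exact h P (one_smul _ _)
  rw [← Finset.sum_erase_add _ _ (Finset.mem_univ (1 : G)), hf1] at S3
  rw [Finset.sum_congr rfl (fun g hg => hterm g (Finset.ne_of_mem_erase hg))] at S3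
  rw [← S3]
  congr 1
  rw [Finset.sum_ite, Finset.sum_const_zero, add_zero, Finset.sum_const, nsmul_eq_mul, mul_comm]
  congr 2
  rw [Nat.card_eq_fintype_card, Fintype.card_subtype]
  congr 1
  ext g
  simp only [Finset.mem_filter, Finset.mem_erase, Finset.mem_univ, and_true, true_and]
  constructor
  · intro h
    exact ⟨fun h1 => hfpf1 (h1 ▸ h), h⟩
  · intro h
    exact h.2

end Cfsg.Agent.Lib.Helper15.ZassenhausCount
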