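import Mathlib
import Cfsg.Agent.Lib.Helper2.SOTDefs
import Cfsg.Agent.Lib.Helper27.SOTLADefs
import Cfsg.Agent.Lib.Helper13.OTUCalc
import Cfsg.Agent.Lib.Helper13.OTLADefs
import Cfsg.Agent.Lib.Helper18.SOTLAA2
import Cfsg.Agent.Lib.Helper1.SOTLAA7core
import Cfsg.Agent.Lib.Helper29.OTLAC7
import Cfsg.Agent.Lib.Helper15.OTLAC5
import Cfsg.Agent.Lib.Helper15.OTLAR11

/-!
S5681 + S5709 (LA') (sub-market of helper13), leaves (R1-3) `InM_Zc_refl`, `Sigma1_refl`, `SigmaS_refl`.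
Exact signatures of `notes/S5681_LA_leaves.lean`.
-/

set_option autoImplicit false
set_option linter.unusedSectionVars false
set_option linter.unusedVariables false

namespace Cfsg.Agent.Lib.Helper15.OTLALeaf
open Matrix
open Cfsg.Agent.Lib.Helper25.Tens Cfsg.Agent.Lib.Helper19.OSub
open Cfsg.Agent.Lib.Helper2.SOT Cfsg.Agent.Lib.Helper27.SOTLA Cfsg.Agent.Lib.Helper13.OTU
open Cfsg.Agent.Lib.Helper13.OTLA
open Cfsg.Agent.Lib.Helper29.OTLALeaf (adjB_mul adjB_refl)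
open scoped Kronecker

variable {F : Type*} [Field F] [Fintype F] {a b : ℕ} {G₁ : Matrix (Fin a) (Fin a) F}
  {G₂ : Matrix (Fin b) (Fin b) F} {o o' p p' : Fin b} {Om M : Subgroup (GL (Idx a b) F)}

/-- conjugation of an element of `M` by an element of `M` -/
lemma InM_conj' {ι : Type} [Fintype ι] [DecidableEq ι] {M : Subgroup (GL ι F)} {g : GL ι F} (hg : g ∈ M)
    {X : Matrix ι ι F} (hX : InM M X) : InM M (g.1 * X * g⁻¹.1) := by
  obtain ⟨t, ht, rfl⟩ := hX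
  exact ⟨g * t * g⁻¹, M.mul_mem (M.mul_mem hg ht) (M.inv_mem hg), rfl⟩

/-- the inverse of a unit whose matrix is `ε r` with `r² = 1` -/
lemma inv_val_of_smul_invol {α : GL (Fin a) F} {ε : F} {r : Matrix (Fin a) (Fin a) F} (hε : ε ≠ 0)
    (hr : r * r = 1) (hα : α.1 = ε • r) : α⁻¹.1 = ε⁻¹ • r := by
  have h1 : α.1 * (ε⁻¹ • r) = 1 := by
    rw [hα, Matrix.smul_mul, Matrix.mul_smul, hr, smul_smul, mul_inv_cancel₀ hε, one_smul]
  have h2 : α⁻¹.1 * α.1 = 1 := by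
    rw [← Units.val_mul, inv_mul_cancel, Units.val_one]
  calc α⁻¹.1 = α⁻¹.1 * (α.1 * (ε⁻¹ • r)) := by rw [h1, mul_one]
    _ = (α⁻¹.1 * α.1) * (ε⁻¹ • r) := by rw [mul_assoc]
    _ = _ := by rw [h2, one_mul]

lemma conj_smul_invol {α : GL (Fin a) F} {ε : F} {r : Matrix (Fin a) (Fin a) F} (hε : ε ≠ 0)
    (hr : r * r = 1) (hα : α.1 = ε • r) (X : Matrix (Fin a) (Fin a) F) :
    α.1 * X * α⁻¹.1 = r * X * r := by
  rw [inv_val_of_smul_invol hε hr hα, hα, Matrix.smul_mul, Matrix.smul_mul, Matrix.mul_smul, smul_smul,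
    mul_inv_cancel₀ hε, one_smul]

/-- (R1-3a) step (3): (INV-R) `h.om_refl` + (C5) with `α = ε r_d`, `β = β_{t,1}`: `α X α⁻¹ = r_d X r_d` (`r_d² = 1`: `Helper18 refl_mul_self`),
and `-(t r σ r)† = t r (-σ†) r` (`r† = r`, (C7)).  `t` depends on `d` only. -/
theorem InM_Zc_refl (h : LCtx G₁ G₂ o o' p p' Om M) {d : Fin a → F} (hd : fB G₁ d d ≠ 0) :
    ∃ t : F, t ≠ 0 ∧ ∀ κ₁ κ₂ σ : Matrix (Fin a) (Fin a) F, InM M (Zc G₁ o o' p p' κ₁ κ₂ σ) →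
      InM M (Zc G₁ o o' p p' ((t * t) • (refl G₁ d * κ₁ * refl G₁ d)) (refl G₁ d * κ₂ * refl G₁ d)
        (t • (refl G₁ d * σ * refl G₁ d))) := by
  obtain ⟨t, ε, α, β, ht, hε, hα, hβ, hOm⟩ := h.om_refl d hd
  refine ⟨t, ht, fun κ₁ κ₂ σ hZ => ?_⟩
  have hM := kel_mem_M h.toLBase α β hOm
  have h1 := InM_conj' hM hZ
  have hr : refl G₁ d * refl G₁ d = 1 :=
    Cfsg.Agent.Lib.Helper18.SOTLALeaf.refl_mul_self h.symm1 hd
  unfold Zc at h1 ⊢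
  rw [torus_conj h.adp ht one_ne_zero α β hβ] at h1
  simp only [conj_smul_invol hε hr hα, mul_one, one_smul] at h1
  have e : -adjB G₁ (t • (refl G₁ d * σ * refl G₁ d)) =
      t • (refl G₁ d * -adjB G₁ σ * refl G₁ d) := by
    rw [Cfsg.Agent.Lib.Helper1.SOTLALeaf.adjB_smul, adjB_mul h.nd1, adjB_mul h.nd1,
      adjB_refl h.symm1 h.nd1, ← smul_neg, Matrix.mul_neg, Matrix.neg_mul, mul_assoc]
  rw [e]
  exact h1

/-- (R1-3b) `Σ₁ = {κ : (κ,0,0) ∈ Σ}` is stable under `κ ↦ r_d κ r_d` [(R1-3a), then scale by `(t²)⁻¹` (R1-1d)]. -/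
theorem Sigma1_refl (h : LCtx G₁ G₂ o o' p p' Om M) {d : Fin a → F} (hd : fB G₁ d d ≠ 0)
    {κ : Matrix (Fin a) (Fin a) F} (hZ : InM M (Zc G₁ o o' p p' κ 0 0)) :
    InM M (Zc G₁ o o' p p' (refl G₁ d * κ * refl G₁ d) 0 0) := by
  obtain ⟨t, ht, h1⟩ := InM_Zc_refl h hd
  have h2 := h1 κ 0 0 hZ
  have h3 := InM_Zc_smul h.toLBase (t * t)⁻¹ h2
  have htt : t * t ≠ 0 := mul_ne_zero ht ht
  simpa only [smul_smul, inv_mul_cancel₀ htt, one_smul, Matrix.mul_zero, Matrix.zero_mul, smul_zero]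
    using h3

/-- (R1-3c) `Σ_s = {σ : (0,0,σ) ∈ Σ}` is stable under `σ ↦ r_d σ r_d` [(R1-3a), then scale by `t⁻¹`]. -/
theorem SigmaS_refl (h : LCtx G₁ G₂ o o' p p' Om M) {d : Fin a → F} (hd : fB G₁ d d ≠ 0)
    {σ : Matrix (Fin a) (Fin a) F} (hZ : InM M (Zc G₁ o o' p p' 0 0 σ)) :
    InM M (Zc G₁ o o' p p' 0 0 (refl G₁ d * σ * refl G₁ d)) := by
  obtain ⟨t, ht, h1⟩ := InM_Zc_refl h hd
  have h2 := h1 0 0 σ hZ
  have h3 := InM_Zc_smul h.toLBase t⁻¹ h2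
  simpa only [smul_smul, inv_mul_cancel₀ ht, one_smul, Matrix.mul_zero, Matrix.zero_mul, smul_zero]
    using h3

end Cfsg.Agent.Lib.Helper15.OTLALeaf
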