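import Mathlib
import Cfsg.Agent.Lib.Helper2.SOTDefs
import Cfsg.Agent.Lib.Helper27.SOTLADefs
import Cfsg.Agent.Lib.Helper13.OTUCalc
import Cfsg.Agent.Lib.Helper13.OTLADefs
import Cfsg.Agent.Lib.Helper7.OTLAZm
import Cfsg.Agent.Lib.Helper7.OTLAIso
import Cfsg.Agent.Lib.Helper29.OTLAC4
import Cfsg.Agent.Lib.Helper15.OTLAR11

/-!
S5681 + S5709 (LA') (sub-market of helper13), leaves (R1-0d) `InM_Zc_skew` and (R1-0e) `InM_Zc_scalar`.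
Exact signatures of `notes/S5681_LA_leaves.lean`.
-/

set_option autoImplicit false
set_option linter.unusedSectionVars false
set_option linter.unusedVariables false

namespace Cfsg.Agent.Lib.Helper15.OTLALeaf
open Matrix
open Cfsg.Agent.Lib.Helper25.Tens Cfsg.Agent.Lib.Helper19.OSub
open Cfsg.Agent.Lib.Helper2.SOT Cfsg.Agent.Lib.Helper27.SOTLA Cfsg.Agent.Lib.Helper13.OTU
open Cfsg.Agent.Lib.Helper13.OTLA
open Cfsg.Agent.Lib.Helper7.OTLALeaf (Zc_iso exists_ZmGL Zm_UL)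
open Cfsg.Agent.Lib.Helper29.OTLALeaf (Zc_scalar_mem_KG)
open scoped Kronecker

variable {F : Type*} [Field F] [Fintype F] {a b : ℕ} {G₁ : Matrix (Fin a) (Fin a) F}
  {G₂ : Matrix (Fin b) (Fin b) F} {o o' p p' : Fin b} {Om M : Subgroup (GL (Idx a b) F)}

/-- (R1-0d) [(R1-0c) + (C3h)] -/
theorem InM_Zc_skew (h : LBase G₁ G₂ o o' p p' Om M) {κ₁ κ₂ σ : Matrix (Fin a) (Fin a) F}
    (hZ : InM M (Zc G₁ o o' p p' κ₁ κ₂ σ)) : IsSkewAdj G₁ κ₁ ∧ IsSkewAdj G₁ κ₂ :=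
  (Zc_iso h.symm1 h.symm2 h.nd1 h.adp κ₁ κ₂ σ).mp (InM_iso h hZ)

lemma isSkewAdj_zero : IsSkewAdj G₁ (0 : Matrix (Fin a) (Fin a) F) := by
  unfold IsSkewAdj
  simp

/-- (R1-0e) `X_L ≤ M`: `Z(0,0,c·1) = 1 ⊗ (1 + c n)` is an isometry of `U`-form in `KG`. -/
theorem InM_Zc_scalar (h : LBase G₁ G₂ o o' p p' Om M) (c : F) :
    InM M (Zc G₁ o o' p p' 0 0 (c • (1 : Matrix (Fin a) (Fin a) F))) := by
  obtain ⟨g, hg, -⟩ := exists_ZmGL h.adp (0 : Matrix (Fin a) (Fin a) F) 0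
    (c • (1 : Matrix (Fin a) (Fin a) F)) (-(adjB G₁ (c • (1 : Matrix (Fin a) (Fin a) F))))
  have hg' : g.1 = Zc G₁ o o' p p' 0 0 (c • (1 : Matrix (Fin a) (Fin a) F)) := hg
  have ha : 0 < a := by have := h.ha; omega
  have hb : 0 < b := by have := h.hb; omega
  have hK : g ∈ KG a b F := Zc_scalar_mem_KG ha hb h.nd1 g c hg'
  have hiso : IsIso G₁ G₂ g.1 := by
    rw [hg']
    exact (Zc_iso h.symm1 h.symm2 h.nd1 h.adp _ _ _).mpr ⟨isSkewAdj_zero, isSkewAdj_zero⟩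
  have hU : UL o o' p p' g.1 := by
    rw [hg]
    exact (Zm_UL h.adp _ _ _ _).1
  exact ⟨g, uform_KG_mem_M h hK hiso hU, hg'⟩

end Cfsg.Agent.Lib.Helper15.OTLALeaf
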