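/-
S4503 PART E (planner helper14), leaf BRE-PFIX `sum_mul_eq_zero_of_sum_eq_zero` (frozen statement in
notes/S4503_E_leaves.lean): a character with `∑_{x∈P} χ(x) = 0` has `∑_{x∈P} χ(x c) = 0`.
ρ-level: `e = ∑_{x∈P} ρ(x)` satisfies `e² = |P| e` and `tr e = 0`, so `e = 0` (idempotent of trace 0).
-/
import Mathlib
import Cfsg.Prelude.Def_BlockRank
import Cfsg.Agent.Lib.Helper27.DODefs
import Cfsg.Agent.Lib.Helper27.BlkAlgDefs2

set_option autoImplicit false

namespace Cfsg.Agent.Lib.Helper15.BREPFIX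

open Cfsg Cfsg.Agent.Lib.Helper8.DOM Cfsg.Agent.Lib.Helper27.DO Cfsg.Agent.Lib.Helper27.BlkAlg
open scoped ComplexConjugate

universe u

variable {G : Type u} [Group G] [Finite G]

omit [Finite G] in
/-- the sum of `ρ` over a subgroup without fixed vectors (trace `0`) vanishes -/
theorem sum_rho_eq_zero [Fintype G] {n : ℕ} (ρ : Representation ℂ G (Fin n → ℂ)) (P : Subgroup G)
    [DecidablePred fun x : G => x ∈ P]
    (h0 : ∑ x ∈ Finset.univ.filter (fun x : G => x ∈ P), ρ.character x = 0) :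
    ∑ x ∈ Finset.univ.filter (fun x : G => x ∈ P), ρ x = 0 := by
  set PS : Finset G := Finset.univ.filter (fun x : G => x ∈ P) with hPS
  have hmem : ∀ x, x ∈ PS ↔ x ∈ P := fun x => by simp [hPS]
  set e : (Fin n → ℂ) →ₗ[ℂ] (Fin n → ℂ) := ∑ x ∈ PS, ρ x with he
  have hcard : (PS.card : ℂ) ≠ 0 := by
    have : 0 < PS.card := Finset.card_pos.2 ⟨1, (hmem 1).2 P.one_mem⟩
    exact_mod_cast this.ne'
  have htr : LinearMap.trace ℂ _ e = 0 := by
    rw [he, map_sum]; exact h0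
  have hee : e * e = (PS.card : ℂ) • e := by
    have h1 : ∀ x ∈ PS, ρ x * e = e := by
      intro x hx
      rw [he, Finset.mul_sum]
      have h2 : ∀ y ∈ PS, ρ x * ρ y = ρ (x * y) := fun y _ => (map_mul ρ x y).symm
      rw [Finset.sum_congr rfl h2]
      refine Finset.sum_equiv (Equiv.mulLeft x) ?_ ?_
      · intro y
        rw [hmem, hmem, Equiv.coe_mulLeft]
        exact ⟨fun hy => P.mul_mem ((hmem x).1 hx) hy,
          fun hy => (Subgroup.mul_mem_cancel_left P ((hmem x).1 hx)).1 hy⟩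
      · intro y _; rfl
    calc e * e = (∑ x ∈ PS, ρ x) * e := by rw [← he]
      _ = ∑ x ∈ PS, ρ x * e := Finset.sum_mul _ _ _
      _ = ∑ _x ∈ PS, e := Finset.sum_congr rfl h1
      _ = (PS.card : ℂ) • e := by rw [Finset.sum_const, Nat.cast_smul_eq_nsmul]
  set π : (Fin n → ℂ) →ₗ[ℂ] (Fin n → ℂ) := (PS.card : ℂ)⁻¹ • e with hπ
  have hidem : IsIdempotentElem π := by
    unfold IsIdempotentElem
    rw [hπ, smul_mul_smul_comm, hee, smul_smul, mul_assoc, inv_mul_cancel₀ hcard, mul_one]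
  have hπtr : LinearMap.trace ℂ _ π = 0 := by
    rw [hπ, map_smul, htr, smul_zero]
  have hπ0 : π = 0 := LinearMap.IsIdempotentElem.eq_zero_of_trace_eq_zero hidem hπtr
  have : e = (PS.card : ℂ) • π := by
    rw [hπ, smul_smul, mul_inv_cancel₀ hcard, one_smul]
  rw [this, hπ0, smul_zero]

set_option linter.unusedVariables false in
/-- PFIX : a character without `P`-fixed vectors: `∑_{x∈P} χ(x c) = 0` for `c ∈ C_G(P)`. -/
theorem sum_mul_eq_zero_of_sum_eq_zero (χ : G → ℂ) (hχ : IsCharacter G χ) (P : Subgroup G)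
    (h0 : ∑ᶠ x ∈ (P : Set G), χ x = 0) (c : G) (hc : c ∈ Cz P) :
    ∑ᶠ x ∈ (P : Set G), χ (x * c) = 0 := by
  classical
  obtain ⟨n, ρ, rfl⟩ := hχ
  have : Fintype G := Fintype.ofFinite G
  have hset : (P : Set G) = ↑(Finset.univ.filter (fun x : G => x ∈ P)) := by
    ext x; simp
  rw [hset, finsum_mem_coe_finset] at h0 ⊢
  have hz := sum_rho_eq_zero ρ P h0
  have h1 : ∀ x ∈ Finset.univ.filter (fun x : G => x ∈ P),
      ρ.character (x * c) = LinearMap.trace ℂ _ (ρ x * ρ c) := by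
    intro x _
    rw [← map_mul]; rfl
  rw [Finset.sum_congr rfl h1, ← map_sum, ← Finset.sum_mul, hz, zero_mul, map_zero]

end Cfsg.Agent.Lib.Helper15.BREPFIX
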