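/-
S4503 PART E leaf BRE-PMULT (planner helper14, notes/S4503_E_leaves.lean).

`exists_sum_twist` : for a character `χ` of `G`, an element `x0` of order `p` and `i : ZMod p`,
`∑_{j<p} χ(x0^j) conj(ζ^(i j)) = p · m` for a natural number `m` (the multiplicity of `λ_i` in `χ|_⟨x0⟩`).

Proof: write `χ = tr ρ`; with `b = conj(ζ^i) • ρ x0` one has `b^p = 1`, so `E = ∑_{j<p} b^j` satisfies
`E * E = p • E` (`geom_sum_mul_self`); `π = p⁻¹ • E` is idempotent, its trace is the natural number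
`finrank (range π)`, and `tr E` is the sum on the left.
-/
import Mathlib
import Cfsg.Prelude.Def_BlockRank
import Cfsg.Agent.Lib.Helper27.DODefs
import Cfsg.Agent.Lib.Helper27.BlkAlgDefs2

set_option autoImplicit false
set_option linter.unusedSectionVars false

namespace Cfsg.Agent.Lib.Helper15.BREPMULT

open Cfsg Cfsg.Agent.Lib.Helper8.DOM Cfsg.Agent.Lib.Helper27.DO Cfsg.Agent.Lib.Helper27.BlkAlg
open scoped ComplexConjugate

universe u

/-- In a ring, if `b ^ n = 1` then `E = ∑_{j<n} b^j` satisfies `E * E = n • E`. -/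
theorem geom_sum_mul_self {R : Type*} [Ring R] (b : R) (n : ℕ) (hb : b ^ n = 1) :
    (∑ j ∈ Finset.range n, b ^ j) * (∑ j ∈ Finset.range n, b ^ j)
      = n • ∑ j ∈ Finset.range n, b ^ j := by
  set E : R := ∑ j ∈ Finset.range n, b ^ j with hE
  have h1 : b * E = E := by
    have h2 := geom_sum_succ (x := b) (n := n)
    have h3 := geom_sum_succ' (x := b) (n := n)
    rw [h3, hb] at h2
    -- h2 : 1 + E = b * E + 1
    have : b * E + 1 = E + 1 := by rw [← h2, add_comm]
    exact add_right_cancel this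
  have h4 : ∀ j : ℕ, b ^ j * E = E := by
    intro j
    induction j with
    | zero => rw [pow_zero, one_mul]
    | succ k ih => rw [pow_succ, mul_assoc, h1, ih]
  calc E * E = (∑ j ∈ Finset.range n, b ^ j) * E := by rw [← hE]
    _ = ∑ j ∈ Finset.range n, b ^ j * E := Finset.sum_mul _ _ _
    _ = ∑ _j ∈ Finset.range n, E := Finset.sum_congr rfl (fun j _ => h4 j)
    _ = n • E := by rw [Finset.sum_const, Finset.card_range]

variable {G : Type u} [Group G] [Finite G] {p : ℕ} [Fact p.Prime]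

/-- PMULT : the multiplicity of `λ_i` in the restriction of a character to `⟨x0⟩`. -/
theorem exists_sum_twist (χ : G → ℂ) (hχ : IsCharacter G χ) (x0 : G) (hx0 : orderOf x0 = p)
    (i : ZMod p) :
    ∃ m : ℕ, ∑ j ∈ Finset.range p, χ (x0 ^ j) * conj (zetaP p ^ (i.val * j)) = (p : ℂ) * (m : ℂ) := by
  classical
  obtain ⟨n, ρ, rfl⟩ := hχ
  have hpp : p.Prime := Fact.out
  have hp0 : (p : ℂ) ≠ 0 := Nat.cast_ne_zero.2 hpp.ne_zero
  have hζ : zetaP p ^ p = 1 := (Complex.isPrimitiveRoot_exp p hpp.ne_zero).pow_eq_one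
  set ω : ℂ := conj (zetaP p ^ i.val) with hω
  have hωp : ω ^ p = 1 := by
    rw [hω, ← map_pow, ← pow_mul, mul_comm, pow_mul, hζ, one_pow, map_one]
  set b : (Fin n → ℂ) →ₗ[ℂ] (Fin n → ℂ) := ω • ρ x0 with hb
  have hbj : ∀ j : ℕ, b ^ j = conj (zetaP p ^ (i.val * j)) • ρ (x0 ^ j) := by
    intro j
    rw [hb, smul_pow, hω, ← map_pow, ← pow_mul, map_pow ρ x0 j]
  have hx0p : x0 ^ p = 1 := by
    rw [← hx0]; exact pow_orderOf_eq_one x0
  have hbp : b ^ p = 1 := by
    rw [hbj p, hx0p, map_one, mul_comm, pow_mul, hζ, one_pow, map_one, one_smul]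
  set E : (Fin n → ℂ) →ₗ[ℂ] (Fin n → ℂ) := ∑ j ∈ Finset.range p, b ^ j with hE
  have hEE : E * E = (p : ℂ) • E := by
    rw [hE, geom_sum_mul_self b p hbp, Nat.cast_smul_eq_nsmul]
  have htrE : LinearMap.trace ℂ _ E =
      ∑ j ∈ Finset.range p, ρ.character (x0 ^ j) * conj (zetaP p ^ (i.val * j)) := by
    rw [hE, map_sum]
    apply Finset.sum_congr rfl
    intro j _
    rw [hbj j, map_smul, smul_eq_mul, mul_comm]
    rfl
  set π : (Fin n → ℂ) →ₗ[ℂ] (Fin n → ℂ) := (p : ℂ)⁻¹ • E with hπ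
  have hidem : IsIdempotentElem π := by
    unfold IsIdempotentElem
    rw [hπ, smul_mul_smul_comm, hEE, smul_smul, mul_assoc, inv_mul_cancel₀ hp0, mul_one]
  have htrπ := (LinearMap.IsIdempotentElem.isProj_range π hidem).trace
  refine ⟨Module.finrank ℂ (LinearMap.range π), ?_⟩
  rw [← htrE, ← htrπ, hπ, map_smul, smul_eq_mul, ← mul_assoc, mul_inv_cancel₀ hp0, one_mul]

end Cfsg.Agent.Lib.Helper15.BREPMULT
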