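import Mathlib
import Cfsg.Agent.Lib.Helper15.PerfectIndex

/-! Helper15 library: the generic pattern "perfect group `G` maps to `O` with central kernel of order
at most 2 and `|O| = 2 |G|`; then `O' / Z(O') ≃* G / Z(G)`". -/

set_option autoImplicit false

namespace Cfsg.Agent.Lib.Helper15.OmegaIso

open Cfsg.Agent.Lib.Helper15.PerfectIndex

variable {O G : Type*} [Group O] [Group G]

theorem range_perfect (ψ : G →* O) (hperf : commutator G = ⊤) :
    ⁅ψ.range, ψ.range⁆ = ψ.range := by
  rw [MonoidHom.range_eq_map, ← Subgroup.map_commutator, ← commutator_def, hperf]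

theorem index_le_four [Finite O] [Finite G] (ψ : G →* O) (hkcard : Nat.card ψ.ker ≤ 2)
    (hcard : Nat.card O = 2 * Nat.card G) : ψ.range.index ≤ 4 := by
  have h1 := Subgroup.card_eq_card_quotient_mul_card_subgroup ψ.ker
  rw [Nat.card_congr (QuotientGroup.quotientKerEquivRange ψ).toEquiv] at h1
  have h2 := Subgroup.card_mul_index ψ.range
  have hR : 0 < Nat.card ↥ψ.range := Nat.card_pos
  rw [hcard, h1] at h2
  have h4 : Nat.card ↥ψ.range * ψ.range.index ≤ Nat.card ↥ψ.range * 4 := by
    rw [h2]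
    calc 2 * (Nat.card ↥ψ.range * Nat.card ↥ψ.ker)
        = Nat.card ↥ψ.range * (2 * Nat.card ↥ψ.ker) := by ring
      _ ≤ Nat.card ↥ψ.range * (2 * 2) := by gcongr
      _ = Nat.card ↥ψ.range * 4 := by norm_num
  exact Nat.le_of_mul_le_mul_left h4 hR

/-- the generic isomorphism `O' / Z(O') ≃* G / Z(G)` -/
theorem iso_of_hom [Finite O] [Finite G] (ψ : G →* O) (hperf : commutator G = ⊤)
    (hker : ψ.ker ≤ Subgroup.center G) (hkcard : Nat.card ψ.ker ≤ 2)
    (hcard : Nat.card O = 2 * Nat.card G) :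
    Nonempty ((commutator O) ⧸ Subgroup.center (commutator O) ≃* G ⧸ Subgroup.center G) := by
  have hΩ : commutator O = ψ.range :=
    commutator_eq_of_perfect_of_index_le_four _ (range_perfect ψ hperf)
      (Subgroup.index_ne_zero_of_finite) (index_le_four ψ hkcard hcard)
  obtain ⟨φ, hφ⟩ : ∃ φ : G →* ↥(commutator O), ∀ s, (φ s : O) = ψ s :=
    ⟨ψ.codRestrict _ (fun s => by rw [hΩ]; exact ⟨s, rfl⟩), fun _ => rfl⟩
  have hsurj : Function.Surjective φ := by
    rintro ⟨y, hy⟩
    rw [hΩ] at hy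
    obtain ⟨s, rfl⟩ := hy
    exact ⟨s, Subtype.ext (hφ s)⟩
  have hker' : φ.ker ≤ Subgroup.center G := by
    intro s hs
    apply hker
    rw [MonoidHom.mem_ker] at hs ⊢
    rw [← hφ, hs]
    rfl
  exact ⟨(centerQuotientEquiv hperf φ hsurj hker').symm⟩

theorem index_le_four_of_injective [Finite O] [Finite G] (ψ : G →* O)
    (hinj : Function.Injective ψ) (hcard : Nat.card O ≤ 4 * Nat.card G) : ψ.range.index ≤ 4 := by
  have h1 : Nat.card ↥ψ.range = Nat.card G :=
    (Nat.card_congr (MonoidHom.ofInjective hinj).toEquiv).symm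
  have h2 := Subgroup.card_mul_index ψ.range
  have hR : 0 < Nat.card ↥ψ.range := Nat.card_pos
  have h4 : Nat.card ↥ψ.range * ψ.range.index ≤ Nat.card ↥ψ.range * 4 := by
    rw [h2, h1, mul_comm]
    exact hcard
  exact Nat.le_of_mul_le_mul_left h4 hR

/-- the generic isomorphism `O' / Z(O') ≃* G` for an embedded perfect centreless group of index at
most four -/
theorem iso_of_injective [Finite O] [Finite G] (ψ : G →* O) (hinj : Function.Injective ψ)
    (hperf : commutator G = ⊤) (hcenter : Subgroup.center G = ⊥)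
    (hcard : Nat.card O ≤ 4 * Nat.card G) :
    Nonempty ((commutator O) ⧸ Subgroup.center (commutator O) ≃* G) := by
  have hΩ : commutator O = ψ.range :=
    commutator_eq_of_perfect_of_index_le_four _ (range_perfect ψ hperf)
      (Subgroup.index_ne_zero_of_finite) (index_le_four_of_injective ψ hinj hcard)
  obtain ⟨φ, hφ⟩ : ∃ φ : G →* ↥(commutator O), ∀ s, (φ s : O) = ψ s :=
    ⟨ψ.codRestrict _ (fun s => by rw [hΩ]; exact ⟨s, rfl⟩), fun _ => rfl⟩
  have hsurj : Function.Surjective φ := by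
    rintro ⟨y, hy⟩
    rw [hΩ] at hy
    obtain ⟨s, rfl⟩ := hy
    exact ⟨s, Subtype.ext (hφ s)⟩
  have hker' : φ.ker ≤ Subgroup.center G := by
    intro s hs
    rw [MonoidHom.mem_ker] at hs
    have h1 : ψ s = 1 := by rw [← hφ, hs]; rfl
    have h2 : s = 1 := hinj (h1.trans (map_one ψ).symm)
    rw [h2]
    exact Subgroup.one_mem _
  exact ⟨((centerQuotientEquiv hperf φ hsurj hker').symm).trans
    ((QuotientGroup.quotientMulEquivOfEq hcenter).trans QuotientGroup.quotientBot)⟩

end Cfsg.Agent.Lib.Helper15.OmegaIso
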