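import Mathlib
import Cfsg.Agent.Lib.Helper15.OmegaIso
import Cfsg.Agent.Lib.Helper15.IsometryTransport

set_option autoImplicit false

namespace Cfsg.Agent.Lib.Helper15.HermAct

open Matrix

section cj
variable {K : Type*} [Field K] (σ : K →+* K)

/-- conjugate transpose with respect to `σ` -/
def cj (A : Matrix (Fin 2) (Fin 2) K) : Matrix (Fin 2) (Fin 2) K := (σ.mapMatrix A)ᵀ

lemma cj_apply (A : Matrix (Fin 2) (Fin 2) K) (i j : Fin 2) : cj σ A i j = σ (A j i) := rfl

lemma cj_mul (A B : Matrix (Fin 2) (Fin 2) K) : cj σ (A * B) = cj σ B * cj σ A := by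
  unfold cj
  rw [map_mul, Matrix.transpose_mul]

lemma cj_one : cj σ (1 : Matrix (Fin 2) (Fin 2) K) = 1 := by
  unfold cj
  rw [map_one, Matrix.transpose_one]

lemma cj_cj (hσ : ∀ x, σ (σ x) = x) (A : Matrix (Fin 2) (Fin 2) K) : cj σ (cj σ A) = A := by
  ext i j
  rw [cj_apply, cj_apply, hσ]

lemma det_cj (A : Matrix (Fin 2) (Fin 2) K) : (cj σ A).det = σ A.det := by
  unfold cj
  rw [Matrix.det_transpose, ← RingHom.map_det]

/-- the action `A ↦ g A g^*` -/
def act (g A : Matrix (Fin 2) (Fin 2) K) : Matrix (Fin 2) (Fin 2) K := g * A * cj σ g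

lemma act_one (A : Matrix (Fin 2) (Fin 2) K) : act σ 1 A = A := by
  unfold act
  rw [cj_one, Matrix.one_mul, Matrix.mul_one]

lemma act_mul (g h A : Matrix (Fin 2) (Fin 2) K) : act σ (g * h) A = act σ g (act σ h A) := by
  unfold act
  rw [cj_mul]
  simp only [Matrix.mul_assoc]

lemma herm_act (hσ : ∀ x, σ (σ x) = x) (g A : Matrix (Fin 2) (Fin 2) K) (hA : cj σ A = A) :
    cj σ (act σ g A) = act σ g A := by
  unfold act
  rw [cj_mul, cj_mul, cj_cj σ hσ, hA, Matrix.mul_assoc]

lemma det_act (g A : Matrix (Fin 2) (Fin 2) K) : (act σ g A).det = g.det * A.det * σ g.det := by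
  unfold act
  rw [Matrix.det_mul, Matrix.det_mul, det_cj]

lemma act_apply (g A : Matrix (Fin 2) (Fin 2) K) (i j : Fin 2) :
    act σ g A i j = (g i 0 * A 0 0 + g i 1 * A 1 0) * σ (g j 0)
      + (g i 0 * A 0 1 + g i 1 * A 1 1) * σ (g j 1) := by
  unfold act
  simp only [Matrix.mul_apply, Fin.sum_univ_two, cj_apply]

end cj

section scalar

variable {K : Type*} [Field K] {n : Type*} [Fintype n] [DecidableEq n]

/-- a subgroup of `SL` consisting of scalar matrices `±1` has at most two elements -/
theorem card_le_two_of_scalar [Finite K] (i₀ : n) (S : Subgroup (Matrix.SpecialLinearGroup n K))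
    (h : ∀ s ∈ S, ∃ a : K, a * a = 1 ∧ (s : Matrix n n K) = a • (1 : Matrix n n K)) :
    Nat.card S ≤ 2 := by
  classical
  have hfin : Finite (Matrix.SpecialLinearGroup n K) := by
    have : Fintype K := Fintype.ofFinite K
    infer_instance
  have : Nat.card S ≤ Nat.card Bool := by
    apply Nat.card_le_card_of_injective
      (fun s : S => decide (((s : Matrix.SpecialLinearGroup n K) : Matrix n n K) i₀ i₀ = 1))
    intro s t hst
    obtain ⟨a, ha, hsa⟩ := h s.1 s.2
    obtain ⟨b, hb, htb⟩ := h t.1 t.2
    have hsq : ∀ x : K, x * x = 1 → x = 1 ∨ x = -1 := by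
      intro x hx
      have : (x - 1) * (x + 1) = 0 := by linear_combination hx
      rcases mul_eq_zero.mp this with h | h
      · left; exact sub_eq_zero.mp h
      · right; exact eq_neg_of_add_eq_zero_left h
    have hs00 : ((s : Matrix.SpecialLinearGroup n K) : Matrix n n K) i₀ i₀ = a := by
      rw [hsa]; simp
    have ht00 : ((t : Matrix.SpecialLinearGroup n K) : Matrix n n K) i₀ i₀ = b := by
      rw [htb]; simp
    simp only [hs00, ht00, decide_eq_decide] at hst
    have hab : a = b := by
      rcases hsq a ha with h1 | h1 <;> rcases hsq b hb with h2 | h2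
      · rw [h1, h2]
      · have : b = 1 := hst.mp h1
        rw [h1, this]
      · have : a = 1 := hst.mpr h2
        rw [this, h2]
      · rw [h1, h2]
    apply Subtype.ext
    apply Subtype.ext
    rw [hsa, htb, hab]
  simpa using this

end scalar

section rep

variable {F : Type*} [Field F]

/-- a representation on `J → F` preserving `q₀` gives a hom to the isometry group, with the same
kernel -/
theorem hom_of_rep {J : Type} [Fintype J] [DecidableEq J] (q₀ : (J → F) → F)
    {G : Type*} [Group G] (ρ : G →* Module.End F (J → F))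
    (hG : ∀ g x, q₀ (ρ g x) = q₀ x) :
    ∃ φ : G →* ↥(Cfsg.isometryGroup F q₀), ∀ g, φ g = 1 ↔ ρ g = 1 := by
  classical
  let M : G → Matrix J J F := fun g => LinearMap.toMatrix' (ρ g)
  have hMv : ∀ g x, M g *ᵥ x = ρ g x := by
    intro g x
    rw [← Matrix.toLin'_apply]
    simp only [M, Matrix.toLin'_toMatrix']
  let Mh : G →* Matrix J J F :=
    { toFun := M
      map_one' := by
        simp only [M, map_one]
        exact LinearMap.toMatrix'_id
      map_mul' := fun g h => by
        simp only [M, map_mul]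
        exact LinearMap.toMatrix'_comp _ _ }
  have hmem : ∀ g, Mh.toHomUnits g ∈ Cfsg.isometryGroup F q₀ := by
    intro g
    rw [mem_isometryGroup_iff]
    intro u
    show q₀ (M g *ᵥ u) = q₀ u
    rw [hMv, hG]
  refine ⟨Mh.toHomUnits.codRestrict _ hmem, ?_⟩
  intro g
  constructor
  · intro h
    have h1 : (Mh.toHomUnits g : Matrix J J F) = 1 := by
      have := congrArg (fun x : ↥(Cfsg.isometryGroup F q₀) => ((x : GL J F) : Matrix J J F)) h
      exact this
    have h2 : M g = 1 := h1
    have h3 : LinearMap.toMatrix' (ρ g) = LinearMap.toMatrix' (1 : Module.End F (J → F)) := by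
      rw [show LinearMap.toMatrix' (1 : Module.End F (J → F)) = 1 from LinearMap.toMatrix'_id]
      exact h2
    exact LinearMap.toMatrix'.injective h3
  · intro h
    apply Subtype.ext
    apply Units.ext
    show M g = 1
    simp only [M, h]
    exact LinearMap.toMatrix'_id

end rep

end Cfsg.Agent.Lib.Helper15.HermAct
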