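import Cfsg.Agent.Lib.Helper15.SuzukiOrder

/-!
# The Suzuki group is a Zassenhaus group on the ovoid (helper15)
-/

set_option autoImplicit false

namespace Cfsg.Agent.Lib.Helper15.SuzukiZassenhaus

open Cfsg.Agent.Lib.Helper15.SuzukiAlg Cfsg.Agent.Lib.Helper15.SuzukiOvoid
  Cfsg.Agent.Lib.Helper15.SuzukiForm Cfsg.Agent.Lib.Helper15.SuzukiMat
  Cfsg.Agent.Lib.Helper15.SuzukiGroup Cfsg.Agent.Lib.Helper15.SuzukiOrder Matrix
open scoped Pointwise

variable {F : Type*} [Field F] [Fintype F] {m : ℕ} (hF : Fintype.card F = 2 ^ (2 * m + 1))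

/-- the points of the ovoid -/
def pt (c : Option (F × F)) : Cfsg.suzukiOvoid F m :=
  ⟨Projectivization.mk F (ov (sig (two_eq_zero hF) m) c) (ov_ne_zero _ c),
    (mem_ovoid_iff (two_eq_zero hF) m _).mpr ⟨c, rfl⟩⟩

theorem pt_surj (P : Cfsg.suzukiOvoid F m) : ∃ c, P = pt hF c := by
  obtain ⟨c, hc⟩ := (mem_ovoid_iff (two_eq_zero hF) m _).mp P.2
  exact ⟨c, Subtype.ext hc⟩

theorem pt_inj {c d : Option (F × F)} (h : pt hF c = pt hF d) : c = d := by
  have h1 := congrArg Subtype.val h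
  simp only [pt] at h1
  rw [Projectivization.mk_eq_mk_iff] at h1
  obtain ⟨a, ha⟩ := h1
  exact ov_smul_inj _ ha.symm

theorem smul_pt_iff (g : Cfsg.Sz F m) (c d : Option (F × F)) :
    g • pt hF c = pt hF d ↔ ∃ k : F, k ≠ 0 ∧
      ((g : Matrix.SpecialLinearGroup (Fin 4) F) : Matrix (Fin 4) (Fin 4) F) *ᵥ
        ov (sig (two_eq_zero hF) m) c = k • ov (sig (two_eq_zero hF) m) d := by
  rw [Subtype.ext_iff]
  exact smul_mk_eq_iff _ _ _

/-- translations in the Suzuki group -/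
def Ts (a b : F) : Cfsg.Sz F m := ⟨T (two_eq_zero hF) m a b, T_mem hF a b⟩

/-- torus elements in the Suzuki group -/
def Hs (μ : Fˣ) : Cfsg.Sz F m := ⟨H (two_eq_zero hF) m μ, H_mem hF μ⟩

theorem Ts_inf (a b : F) : Ts hF a b • pt hF none = pt hF none := by
  rw [smul_pt_iff]
  exact ⟨1, one_ne_zero, by rw [one_smul]; exact T_mulVec_e0 hF a b⟩

theorem Ts_some (a b x y : F) :
    Ts hF a b • pt hF (some (x, y)) =
      pt hF (some (x + a, y + b + sig (two_eq_zero hF) m a * x)) := by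
  rw [smul_pt_iff]
  exact ⟨1, one_ne_zero, by rw [one_smul]; exact T_mulVec_pv hF a b x y⟩

theorem Hs_inf (μ : Fˣ) : Hs hF μ • pt hF none = pt hF none := by
  rw [smul_pt_iff]
  exact ⟨_, mul_ne_zero μ.ne_zero (fun h => μ.ne_zero ((map_eq_zero _).mp h)), H_mulVec_e0 hF μ⟩

theorem Hs_some (μ : Fˣ) (x y : F) :
    Hs hF μ • pt hF (some (x, y)) =
      pt hF (some (sig (two_eq_zero hF) m (μ : F) * x,
        (μ : F) ^ 2 * sig (two_eq_zero hF) m (μ : F) * y)) := by
  rw [smul_pt_iff]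
  exact ⟨_, inv_ne_zero (mul_ne_zero μ.ne_zero (fun h => μ.ne_zero ((map_eq_zero _).mp h))),
    Hm_pv _ (sig_sig _ hF) μ.ne_zero x y⟩

/-- move a pair of distinct points to the standard pair -/
theorem exists_to_standard {P Q : Cfsg.suzukiOvoid F m} (hPQ : P ≠ Q) :
    ∃ g : Cfsg.Sz F m, g • P = pt hF none ∧ g • Q = pt hF (some (0, 0)) := by
  obtain ⟨c, rfl⟩ := pt_surj hF P
  obtain ⟨g₁, hg₁, hg₁c⟩ := exists_map_inf hF c
  have h1 : (⟨g₁, hg₁⟩ : Cfsg.Sz F m) • pt hF none = pt hF c := Subtype.ext hg₁c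
  have h1' : (⟨g₁, hg₁⟩ : Cfsg.Sz F m)⁻¹ • pt hF c = pt hF none := by
    rw [← h1, inv_smul_smul]
  obtain ⟨c', hc'⟩ := pt_surj hF ((⟨g₁, hg₁⟩ : Cfsg.Sz F m)⁻¹ • Q)
  rcases c' with _ | ⟨a, b⟩
  · exfalso
    apply hPQ
    have : (⟨g₁, hg₁⟩ : Cfsg.Sz F m)⁻¹ • pt hF c = (⟨g₁, hg₁⟩ : Cfsg.Sz F m)⁻¹ • Q := by
      rw [h1', hc']
    exact smul_left_cancel _ this
  · refine ⟨(Ts hF a b)⁻¹ * (⟨g₁, hg₁⟩ : Cfsg.Sz F m)⁻¹, ?_, ?_⟩
    · rw [mul_smul, h1', inv_smul_eq_iff, Ts_inf]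
    · rw [mul_smul, hc', inv_smul_eq_iff, Ts_some]
      simp

include hF in
theorem two_transitive :
    MulAction.IsMultiplyPretransitive (Cfsg.Sz F m) (Cfsg.suzukiOvoid F m) 2 := by
  rw [MulAction.is_two_pretransitive_iff]
  intro a b c d hab hcd
  obtain ⟨g₁, h1, h1'⟩ := exists_to_standard hF hab
  obtain ⟨g₂, h3, h3'⟩ := exists_to_standard hF hcd
  refine ⟨g₂⁻¹ * g₁, ?_, ?_⟩
  · rw [mul_smul, h1, inv_smul_eq_iff, h3]
  · rw [mul_smul, h1', inv_smul_eq_iff, h3']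

include hF in
/-- an element fixing the two standard points is a torus element -/
theorem fix_standard (hm : 1 ≤ m) {g : Cfsg.Sz F m} (h0 : g • pt hF none = pt hF none)
    (h3 : g • pt hF (some (0, 0)) = pt hF (some (0, 0))) : ∃ μ : Fˣ, g = Hs hF μ := by
  rw [smul_pt_iff] at h0 h3
  obtain ⟨k, hk, h0⟩ := h0
  obtain ⟨k', hk', h3⟩ := h3
  have h3' : ((g : Matrix.SpecialLinearGroup (Fin 4) F) : Matrix (Fin 4) (Fin 4) F) *ᵥ e3 =
      k' • e3 := by
    rw [← pv_zero_zero (sig (two_eq_zero hF) m)]; exact h3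
  obtain ⟨μ, hμ⟩ := two_point hF hm g.2 hk hk' h0 h3'
  exact ⟨μ, Subtype.ext hμ⟩

include hF in
theorem three_fixed (hm : 1 ≤ m) (g : Cfsg.Sz F m) (a b c : Cfsg.suzukiOvoid F m) (hab : a ≠ b)
    (hbc : b ≠ c) (hac : a ≠ c) (ha : g • a = a) (hb : g • b = b) (hc : g • c = c) : g = 1 := by
  have h2 := two_eq_zero hF
  have hσ := sig_sig h2 hF
  obtain ⟨h, h1, h1'⟩ := exists_to_standard hF hab
  have fa : (h * g * h⁻¹) • pt hF none = pt hF none := by
    rw [← h1, mul_smul, inv_smul_smul, mul_smul, ha]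
  have fb : (h * g * h⁻¹) • pt hF (some (0, 0)) = pt hF (some (0, 0)) := by
    rw [← h1', mul_smul, inv_smul_smul, mul_smul, hb]
  have fc : (h * g * h⁻¹) • (h • c) = h • c := by
    rw [mul_smul, inv_smul_smul, mul_smul, hc]
  obtain ⟨μ, hμ⟩ := fix_standard hF hm fa fb
  obtain ⟨c', hc'⟩ := pt_surj hF (h • c)
  have hμ1 : μ = 1 := by
    rcases c' with _ | ⟨x, y⟩
    · exfalso
      apply hac
      have : h • a = h • c := by rw [h1, hc']
      exact smul_left_cancel _ this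
    · rw [hμ, hc', Hs_some] at fc
      have h5 := Option.some.inj (pt_inj hF fc)
      have hx : sig h2 m (μ : F) * x = x := congrArg Prod.fst h5
      have hy : (μ : F) ^ 2 * sig h2 m (μ : F) * y = y := congrArg Prod.snd h5
      have hxy : ¬(x = 0 ∧ y = 0) := by
        rintro ⟨rfl, rfl⟩
        apply hbc
        have : h • b = h • c := by rw [h1', hc']
        exact smul_left_cancel _ this
      apply Units.ext
      rw [Units.val_one]
      by_cases hx0 : x = 0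
      · have hy0 : y ≠ 0 := fun hy0 => hxy ⟨hx0, hy0⟩
        have h6 : (μ : F) ^ 2 * sig h2 m (μ : F) = 1 := by
          have : ((μ : F) ^ 2 * sig h2 m (μ : F) - 1) * y = 0 := by rw [sub_mul, hy, one_mul, sub_self]
          rcases mul_eq_zero.mp this with h7 | h7
          · exact sub_eq_zero.mp h7
          · exact absurd h7 hy0
        have h7 : sig h2 m (μ : F) * (μ : F) = 1 := by
          apply sq_inj h2
          have := congrArg (sig h2 m) h6
          rw [map_mul, map_pow, hσ, map_one] at this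
          rw [mul_pow, one_pow]; exact this
        have : (μ : F) * (sig h2 m (μ : F) * (μ : F)) = 1 := by rw [← h6]; ring
        rw [h7, mul_one] at this
        exact this
      · have h6 : sig h2 m (μ : F) = 1 := by
          have : (sig h2 m (μ : F) - 1) * x = 0 := by rw [sub_mul, hx, one_mul, sub_self]
          rcases mul_eq_zero.mp this with h7 | h7
          · exact sub_eq_zero.mp h7
          · exact absurd h7 hx0
        have : sig h2 m (μ : F) = sig h2 m 1 := by rw [h6, map_one]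
        exact (sig h2 m).injective this
  have h6 : h * g * h⁻¹ = 1 := by
    rw [hμ, hμ1]
    exact Subtype.ext (H_one h2 m)
  have : g = h⁻¹ * (h * g * h⁻¹) * h := by group
  rw [this, h6]; group

theorem pt_none_ne_zero : pt hF none ≠ pt hF (some ((0 : F), (0 : F))) := by
  intro h
  have := pt_inj hF h
  simp at this

include hF in
theorem exists_ne_zero_one (hm : 1 ≤ m) : ∃ c : F, c ≠ 0 ∧ c ≠ 1 := by
  obtain ⟨t, ht⟩ := exists_sig_ne hF hm
  refine ⟨t, ?_, ?_⟩
  · rintro rfl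
    apply ht
    simp
  · rintro rfl
    apply ht
    simp

include hF in
theorem exists_two_fixed (hm : 1 ≤ m) :
    ∃ g : Cfsg.Sz F m, g ≠ 1 ∧ ∃ a b : Cfsg.suzukiOvoid F m, a ≠ b ∧ g • a = a ∧ g • b = b := by
  have h2 := two_eq_zero hF
  obtain ⟨c, hc0, hc1⟩ := exists_ne_zero_one hF hm
  refine ⟨Hs hF (Units.mk0 c hc0), ?_, pt hF none, pt hF (some (0, 0)), pt_none_ne_zero hF,
    Hs_inf hF _, ?_⟩
  · intro h
    have h1 : H h2 m (Units.mk0 c hc0) = H h2 m 1 := by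
      rw [H_one]
      exact congrArg Subtype.val h
    have := H_injective h2 m h1
    apply hc1
    have h3 := congrArg Units.val this
    simpa using h3
  · rw [Hs_some]
    simp

include hF in
theorem faithful (hm : 1 ≤ m) : FaithfulSMul (Cfsg.Sz F m) (Cfsg.suzukiOvoid F m) := by
  refine ⟨fun {g₁ g₂} h => ?_⟩
  have h1 : ∀ P : Cfsg.suzukiOvoid F m, (g₂⁻¹ * g₁) • P = P := by
    intro P
    rw [mul_smul, h P, inv_smul_smul]
  have h01 : pt hF none ≠ pt hF (some ((0 : F), (0 : F))) := pt_none_ne_zero hF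
  have h12 : pt hF (some ((0 : F), (0 : F))) ≠ pt hF (some ((1 : F), (0 : F))) := by
    intro h
    have := pt_inj hF h
    simp at this
  have h02 : pt hF none ≠ pt hF (some ((1 : F), (0 : F))) := by
    intro h
    have := pt_inj hF h
    simp at this
  have := three_fixed hF hm (g₂⁻¹ * g₁) _ _ _ h01 h12 h02 (h1 _) (h1 _) (h1 _)
  exact (inv_mul_eq_one.mp this).symm

include hF in
theorem no_regular_normal (hm : 1 ≤ m) (N : Subgroup (Cfsg.Sz F m)) (hN : N.Normal)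
    (htr : MulAction.IsPretransitive N (Cfsg.suzukiOvoid F m)) :
    ∃ a : Cfsg.suzukiOvoid F m, MulAction.stabilizer N a ≠ ⊥ := by
  have h2 := two_eq_zero hF
  by_contra hcon
  push Not at hcon
  obtain ⟨c, hc0, hc1⟩ := exists_ne_zero_one hF hm
  have ht_mul : ∀ b b' : F, Ts hF 0 b * Ts hF 0 b' = Ts hF 0 (b + b') := by
    intro b b'
    apply Subtype.ext
    show T h2 m 0 b * T h2 m 0 b' = T h2 m 0 (b + b')
    rw [T_mul hF]
    simp
  have ht_sq : ∀ b : F, Ts hF 0 b * Ts hF 0 b = 1 := by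
    intro b
    rw [ht_mul, add_self h2]
    exact Subtype.ext (T_zero h2 m)
  have ht_inv : ∀ b : F, (Ts hF 0 b)⁻¹ = Ts hF 0 b := fun b =>
    inv_eq_of_mul_eq_one_right (ht_sq b)
  have ht_fix : ∀ b : F, b ≠ 0 → ∀ P : Cfsg.suzukiOvoid F m, Ts hF 0 b • P = P → P = pt hF none := by
    intro b hb P hP
    obtain ⟨c', rfl⟩ := pt_surj hF P
    rcases c' with _ | ⟨x, y⟩
    · rfl
    · exfalso
      rw [Ts_some] at hP
      have h5 := Option.some.inj (pt_inj hF hP)
      have hy : y + b + sig h2 m 0 * x = y := congrArg Prod.snd h5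
      rw [map_zero, zero_mul, add_zero] at hy
      exact hb (by simpa using hy)
  -- conjugation by a non-trivial central translation inverts `N`
  have hinv : ∀ b : F, b ≠ 0 → ∀ n : N, Ts hF 0 b * (n : Cfsg.Sz F m) * (Ts hF 0 b)⁻¹ =
      (n : Cfsg.Sz F m)⁻¹ := by
    intro b hb n
    let φ : MulAut N := MulAut.conjNormal (Ts hF 0 b)
    have hφ : ∀ k : N, ((φ k : N) : Cfsg.Sz F m) = Ts hF 0 b * (k : Cfsg.Sz F m) * (Ts hF 0 b)⁻¹ :=
      fun k => MulAut.conjNormal_apply _ _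
    have hfpf : MonoidHom.FixedPointFree (φ : N → N) := by
      intro k hk
      have h1 : Ts hF 0 b * (k : Cfsg.Sz F m) * (Ts hF 0 b)⁻¹ = k := by
        rw [← hφ, hk]
      have h3 : Ts hF 0 b * (k : Cfsg.Sz F m) = (k : Cfsg.Sz F m) * Ts hF 0 b :=
        mul_inv_eq_iff_eq_mul.mp h1
      have h4 : Ts hF 0 b • ((k : Cfsg.Sz F m) • pt hF none) = (k : Cfsg.Sz F m) • pt hF none := by
        rw [← mul_smul, h3, mul_smul, Ts_inf]
      have h5 := ht_fix b hb _ h4
      have h6 : k ∈ MulAction.stabilizer N (pt hF none) := MulAction.mem_stabilizer_iff.mpr h5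
      rw [hcon] at h6
      exact Subgroup.mem_bot.mp h6
    have hsq : (φ : N → N)^[2] = id := by
      funext k
      apply Subtype.ext
      simp only [Function.iterate_succ, Function.iterate_zero, Function.comp_apply, id_eq]
      rw [hφ, hφ, ht_inv]
      calc Ts hF 0 b * (Ts hF 0 b * (k : Cfsg.Sz F m) * Ts hF 0 b) * Ts hF 0 b
          = (Ts hF 0 b * Ts hF 0 b) * (k : Cfsg.Sz F m) * (Ts hF 0 b * Ts hF 0 b) := by group
        _ = k := by rw [ht_sq]; group
    have := MonoidHom.FixedPointFree.coe_eq_inv_of_sq_eq_one hfpf hsq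
    have h1 := congrFun this n
    rw [← hφ, h1]
    rfl
  have hc2 : (1 : F) + c ≠ 0 := by
    intro h
    exact hc1 (eq_of_add_eq_zero h2 h).symm
  have hN1 : ∀ n : N, n = 1 := by
    intro n
    have e1 := hinv 1 one_ne_zero n
    have e2 := hinv c hc0 n
    have e3 := hinv (1 + c) hc2 n
    have e1' := hinv 1 one_ne_zero n⁻¹
    rw [← ht_mul, _root_.mul_inv_rev] at e3
    have h4 : Ts hF 0 1 * Ts hF 0 c * (n : Cfsg.Sz F m) * ((Ts hF 0 c)⁻¹ * (Ts hF 0 1)⁻¹) =
        Ts hF 0 1 * (Ts hF 0 c * (n : Cfsg.Sz F m) * (Ts hF 0 c)⁻¹) * (Ts hF 0 1)⁻¹ := by group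
    rw [h4, e2] at e3
    have e1'' : Ts hF 0 1 * (n : Cfsg.Sz F m)⁻¹ * (Ts hF 0 1)⁻¹ = ((n : Cfsg.Sz F m)⁻¹)⁻¹ := by
      have := e1'
      simpa using this
    rw [e1'', inv_inv] at e3
    -- e3 : n = n⁻¹
    have h5 : Ts hF 0 1 * (n : Cfsg.Sz F m) * (Ts hF 0 1)⁻¹ = n := by rw [e1, ← e3]
    -- fixed by conjugation, hence fixes the point at infinity
    have h3 : Ts hF 0 1 * (n : Cfsg.Sz F m) = (n : Cfsg.Sz F m) * Ts hF 0 1 :=
      mul_inv_eq_iff_eq_mul.mp h5
    have h6 : Ts hF 0 1 • ((n : Cfsg.Sz F m) • pt hF none) = (n : Cfsg.Sz F m) • pt hF none := by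
      rw [← mul_smul, h3, mul_smul, Ts_inf]
    have h7 := ht_fix 1 one_ne_zero _ h6
    have h8 : n ∈ MulAction.stabilizer N (pt hF none) := MulAction.mem_stabilizer_iff.mpr h7
    rw [hcon] at h8
    exact Subgroup.mem_bot.mp h8
  obtain ⟨n, hn⟩ := MulAction.exists_smul_eq N (pt hF none) (pt hF (some ((0 : F), (0 : F))))
  rw [hN1 n, one_smul] at hn
  exact pt_none_ne_zero hF hn

include hF in
theorem isZassenhaus (hm : 1 ≤ m) :
    Cfsg.IsZassenhausGroup (Cfsg.Sz F m) (Cfsg.suzukiOvoid F m) :=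
  ⟨faithful hF hm, two_transitive hF, three_fixed hF hm, exists_two_fixed hF hm,
    fun N hN htr => no_regular_normal hF hm N hN htr⟩

end Cfsg.Agent.Lib.Helper15.SuzukiZassenhaus
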