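import Cfsg.Agent.Lib.Helper15.SuzukiSylow
import Cfsg.Agent.Lib.Helper15.SuzukiZassenhaus

/-!
# The Borel subgroup of the Suzuki group (helper15)
-/

set_option autoImplicit false

namespace Cfsg.Agent.Lib.Helper15.SuzukiBorel

open Cfsg.Agent.Lib.Helper15.SuzukiAlg Cfsg.Agent.Lib.Helper15.SuzukiOvoid
  Cfsg.Agent.Lib.Helper15.SuzukiForm Cfsg.Agent.Lib.Helper15.SuzukiMat
  Cfsg.Agent.Lib.Helper15.SuzukiGroup Cfsg.Agent.Lib.Helper15.SuzukiOrder
  Cfsg.Agent.Lib.Helper15.SuzukiSylow Cfsg.Agent.Lib.Helper15.SuzukiZassenhaus Matrix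
open scoped Pointwise

variable {F : Type*} [Field F] [Fintype F] {m : ℕ} (hF : Fintype.card F = 2 ^ (2 * m + 1))

include hF in
/-- the torus normalises the translations -/
theorem H_mul_T (μ : Fˣ) (a b : F) :
    H (two_eq_zero hF) m μ * T (two_eq_zero hF) m a b =
      T (two_eq_zero hF) m (sig (two_eq_zero hF) m (μ : F) * a)
        ((μ : F) ^ 2 * sig (two_eq_zero hF) m (μ : F) * b) * H (two_eq_zero hF) m μ := by
  have h2 := two_eq_zero hF
  have hσ := sig_sig h2 hF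
  have hμ : (μ : F) ≠ 0 := μ.ne_zero
  have hsμ : sig h2 m (μ : F) ≠ 0 := fun h => hμ ((map_eq_zero _).mp h)
  apply Subtype.ext
  show Hm (sig h2 m) (μ : F) * Tm (sig h2 m) a b =
    Tm (sig h2 m) (sig h2 m (μ : F) * a) ((μ : F) ^ 2 * sig h2 m (μ : F) * b) * Hm (sig h2 m) (μ : F)
  rw [Hm]
  ext i j
  rw [Matrix.diagonal_mul, Matrix.mul_diagonal]
  fin_cases i <;> fin_cases j <;>
    simp [Tm, f, map_mul, map_pow, hσ] <;> field_simp

include hF in
theorem Ts_fix_iff (a b x y : F) :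
    Ts hF a b • pt hF (some (x, y)) = pt hF (some (x, y)) ↔ a = 0 ∧ b = 0 := by
  rw [Ts_some]
  constructor
  · intro h
    have h5 := Option.some.inj (pt_inj hF h)
    have hx : x + a = x := congrArg Prod.fst h5
    have hy : y + b + sig (two_eq_zero hF) m a * x = y := congrArg Prod.snd h5
    have ha : a = 0 := by simpa using hx
    subst ha
    rw [map_zero, zero_mul, add_zero] at hy
    exact ⟨rfl, by simpa using hy⟩
  · rintro ⟨rfl, rfl⟩
    simp

include hF in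
/-- a non-trivial translation fixes only the point at infinity -/
theorem Ts_fix_only {a b : F} (hab : ¬(a = 0 ∧ b = 0)) {P : Cfsg.suzukiOvoid F m}
    (hP : Ts hF a b • P = P) : P = pt hF none := by
  obtain ⟨c, rfl⟩ := pt_surj hF P
  rcases c with _ | ⟨x, y⟩
  · rfl
  · exact absurd ((Ts_fix_iff hF a b x y).mp hP) hab

include hF in
/-- elements fixing the point at infinity -/
theorem fix_inf (hm : 1 ≤ m) {g : Cfsg.Sz F m} (hg : g • pt hF none = pt hF none) :
    ∃ (a b : F) (μ : Fˣ), g = Ts hF a b * Hs hF μ := by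
  rw [smul_pt_iff] at hg
  obtain ⟨k, hk, h0⟩ := hg
  obtain ⟨a, b, μ, h⟩ := stab_inf hF hm g.2 hk h0
  exact ⟨a, b, μ, Subtype.ext h⟩

theorem Ts_mul (a b c d : F) :
    Ts hF a b * Ts hF c d = Ts hF (a + c) (b + d + sig (two_eq_zero hF) m a * c) :=
  Subtype.ext (T_mul hF a b c d)

theorem Ts_inv (a b : F) :
    (Ts hF a b)⁻¹ = Ts hF a (b + a * sig (two_eq_zero hF) m a) :=
  Subtype.ext (T_inv hF a b)

theorem Hs_mul_Ts (μ : Fˣ) (a b : F) :
    Hs hF μ * Ts hF a b =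
      Ts hF (sig (two_eq_zero hF) m (μ : F) * a)
        ((μ : F) ^ 2 * sig (two_eq_zero hF) m (μ : F) * b) * Hs hF μ :=
  Subtype.ext (H_mul_T hF μ a b)

theorem Ts_inj {a b a' b' : F} (h : Ts hF a b = Ts hF a' b') : a = a' ∧ b = b' :=
  T_inj hF (congrArg Subtype.val h)

theorem Ts_one : Ts hF 0 0 = 1 := Subtype.ext (T_zero _ m)

/-- conjugating a translation by a translation -/
theorem Ts_conj (c d a b : F) :
    Ts hF c d * Ts hF a b * (Ts hF c d)⁻¹ =
      Ts hF a (b + sig (two_eq_zero hF) m c * a + sig (two_eq_zero hF) m a * c) := by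
  have h2 := two_eq_zero hF
  rw [Ts_inv, Ts_mul, Ts_mul]
  have e1 : c + a + c = a := by
    have := add_self h2 c
    grind
  have e2 : d + b + sig h2 m c * a + (d + c * sig h2 m c) + sig h2 m (c + a) * c =
      b + sig h2 m c * a + sig h2 m a * c := by
    rw [map_add]
    have := add_self h2 d
    have := add_self h2 (c * sig h2 m c)
    grind
  rw [e1, e2]

/-- conjugating a translation by an element of the Borel subgroup -/
theorem borel_conj (c d : F) (μ : Fˣ) (a b : F) :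
    (Ts hF c d * Hs hF μ) * Ts hF a b * (Ts hF c d * Hs hF μ)⁻¹ =
      Ts hF (sig (two_eq_zero hF) m (μ : F) * a)
        ((μ : F) ^ 2 * sig (two_eq_zero hF) m (μ : F) * b +
          sig (two_eq_zero hF) m c * (sig (two_eq_zero hF) m (μ : F) * a) +
          sig (two_eq_zero hF) m (sig (two_eq_zero hF) m (μ : F) * a) * c) := by
  have h1 : Ts hF c d * Hs hF μ * Ts hF a b * (Ts hF c d * Hs hF μ)⁻¹ =
      Ts hF c d * ((Hs hF μ * Ts hF a b) * (Hs hF μ)⁻¹) * (Ts hF c d)⁻¹ := by group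
  rw [h1, Hs_mul_Ts, mul_inv_cancel_right, Ts_conj]

/-- the translation subgroup inside the Suzuki group -/
def Qz : Subgroup (Cfsg.Sz F m) := (QS hF).subgroupOf (Cfsg.Sz F m)

theorem mem_Qz (g : Cfsg.Sz F m) : g ∈ Qz hF ↔ ∃ a b, g = Ts hF a b := by
  rw [Qz, Subgroup.mem_subgroupOf, mem_QS]
  constructor
  · rintro ⟨a, b, h⟩
    exact ⟨a, b, Subtype.ext h⟩
  · rintro ⟨a, b, h⟩
    exact ⟨a, b, congrArg Subtype.val h⟩

theorem Ts_mem_Qz (a b : F) : Ts hF a b ∈ Qz hF := (mem_Qz hF _).mpr ⟨a, b, rfl⟩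

include hF in
theorem card_Qz_eq (hm : 1 ≤ m) :
    Nat.card (Qz hF) = 2 ^ (Nat.card (Cfsg.Sz F m)).factorization 2 := by
  have eQ : (QS hF).subgroupOf (Cfsg.Sz F m) ≃* QS hF := Subgroup.subgroupOfEquivOfLe (QS_le hF)
  rw [Qz, Nat.card_congr eQ.toEquiv, card_QS, card_Sz hF hm, factorization_two, ← pow_mul, mul_comm]

/-- the standard Sylow 2-subgroup -/
noncomputable def QSyl (hm : 1 ≤ m) : Sylow 2 (Cfsg.Sz F m) := Sylow.ofCard (Qz hF) (card_Qz_eq hF hm)

theorem coe_QSyl (hm : 1 ≤ m) : ((QSyl hF hm : Sylow 2 (Cfsg.Sz F m)) : Subgroup (Cfsg.Sz F m)) =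
    Qz hF := rfl

include hF in
/-- every Sylow 2-subgroup is conjugate to the translation subgroup -/
theorem exists_conj_sylow (hm : 1 ≤ m) (P : Sylow 2 (Cfsg.Sz F m)) :
    ∃ y : Cfsg.Sz F m, ∀ g : Cfsg.Sz F m,
      g ∈ (P : Subgroup (Cfsg.Sz F m)) ↔ y * g * y⁻¹ ∈ Qz hF := by
  obtain ⟨y, hy⟩ := MulAction.exists_smul_eq (Cfsg.Sz F m) P (QSyl hF hm)
  refine ⟨y, fun g => ?_⟩
  have h1 : ((y • P : Sylow 2 (Cfsg.Sz F m)) : Subgroup (Cfsg.Sz F m)) = Qz hF := by
    rw [hy]; rfl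
  rw [← h1, Sylow.coe_subgroup_smul]
  have : y * g * y⁻¹ = MulAut.conj y • g := by
    rw [MulAut.smul_def, MulAut.conj_apply]
  rw [this, Subgroup.smul_mem_pointwise_smul_iff]

end Cfsg.Agent.Lib.Helper15.SuzukiBorel
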