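import Cfsg.Prelude.Def_Sz
import Cfsg.Agent.Lib.Helper15.SuzukiBorel
import Cfsg.Agent.S2410

/-!
# The two realisations of the Suzuki group agree (helper15)

`Cfsg.Lie.Sz F (2 ^ (m + 1))` (elements of `Sp₄` with `g* = g^θ`) is the image of `Cfsg.Sz F m`
(the stabiliser of the Suzuki–Tits ovoid) under `SL₄ → GL₄`.
-/

set_option autoImplicit false

namespace Cfsg.Agent.Lib.Helper15.SuzukiLie

open Cfsg.Agent.Lib.Helper15.SuzukiAlg Cfsg.Agent.Lib.Helper15.SuzukiOvoid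
  Cfsg.Agent.Lib.Helper15.SuzukiForm Cfsg.Agent.Lib.Helper15.SuzukiMat
  Cfsg.Agent.Lib.Helper15.SuzukiGroup Cfsg.Agent.Lib.Helper15.SuzukiOrder
  Cfsg.Agent.Lib.Helper15.SuzukiSylow Cfsg.Agent.Lib.Helper15.SuzukiZassenhaus
  Cfsg.Agent.Lib.Helper15.SuzukiBorel Matrix

variable {F : Type*} [Field F]

/-- Plücker coordinates of the line through `u` and `v` (those surviving in `U / W`) -/
def Pl (u v : Fin 4 → F) : Fin 4 → F :=
  ![u 0 * v 1 - u 1 * v 0, u 0 * v 2 - u 2 * v 0, u 1 * v 3 - u 3 * v 1, u 2 * v 3 - u 3 * v 2]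

theorem star4_apply (G : Matrix (Fin 4) (Fin 4) F) (p r : Fin 4) :
    Cfsg.Lie.star4 G p r =
      G (Cfsg.Lie.pairOf p).1 (Cfsg.Lie.pairOf r).1 * G (Cfsg.Lie.pairOf p).2 (Cfsg.Lie.pairOf r).2 -
        G (Cfsg.Lie.pairOf p).2 (Cfsg.Lie.pairOf r).1 * G (Cfsg.Lie.pairOf p).1 (Cfsg.Lie.pairOf r).2 :=
  rfl

theorem pairOf_zero : Cfsg.Lie.pairOf 0 = (0, 1) := rfl
theorem pairOf_one : Cfsg.Lie.pairOf 1 = (0, 2) := rfl
theorem pairOf_two : Cfsg.Lie.pairOf 2 = (1, 3) := rfl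
theorem pairOf_three : Cfsg.Lie.pairOf 3 = (2, 3) := rfl

/-- the induced action on Plücker coordinates of totally isotropic lines -/
theorem Pl_mulVec (h2 : (2 : F) = 0) (G : Matrix (Fin 4) (Fin 4) F)
    (hrow : ∀ k l : Fin 4, (k : ℕ) + l ≠ 3 → B (G k) (G l) = 0)
    {u v : Fin 4 → F} (huv : B u v = 0) :
    Pl (G *ᵥ u) (G *ᵥ v) = Cfsg.Lie.star4 G *ᵥ Pl u v := by
  have r01 := hrow 0 1 (by decide)
  have r02 := hrow 0 2 (by decide)
  have r13 := hrow 1 3 (by decide)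
  have r23 := hrow 2 3 (by decide)
  simp only [B] at r01 r02 r13 r23 huv
  funext p
  fin_cases p
  · show (G *ᵥ u) 0 * (G *ᵥ v) 1 - (G *ᵥ u) 1 * (G *ᵥ v) 0 = (Cfsg.Lie.star4 G *ᵥ Pl u v) 0
    simp only [Matrix.mulVec, dotProduct, Fin.sum_univ_four, star4_apply, pairOf_zero, pairOf_one,
      pairOf_two, pairOf_three, Pl, Matrix.cons_val_zero, Matrix.cons_val_one]
    simp
    linear_combination (G 0 1 * G 1 2 - G 1 1 * G 0 2) * huv + (u 0 * v 3 - u 3 * v 0) * r01 -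
      ((G 0 1 * G 1 2 - G 1 1 * G 0 2) * (u 3 * v 0 + u 2 * v 1) +
        (u 0 * v 3 - u 3 * v 0) * (G 1 0 * G 0 3 + G 0 1 * G 1 2)) * h2
  · show (G *ᵥ u) 0 * (G *ᵥ v) 2 - (G *ᵥ u) 2 * (G *ᵥ v) 0 = (Cfsg.Lie.star4 G *ᵥ Pl u v) 1
    simp only [Matrix.mulVec, dotProduct, Fin.sum_univ_four, star4_apply, pairOf_zero, pairOf_one,
      pairOf_two, pairOf_three, Pl, Matrix.cons_val_zero, Matrix.cons_val_one]
    simp
    linear_combination (G 0 1 * G 2 2 - G 2 1 * G 0 2) * huv + (u 0 * v 3 - u 3 * v 0) * r02 -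
      ((G 0 1 * G 2 2 - G 2 1 * G 0 2) * (u 3 * v 0 + u 2 * v 1) +
        (u 0 * v 3 - u 3 * v 0) * (G 2 0 * G 0 3 + G 0 1 * G 2 2)) * h2
  · show (G *ᵥ u) 1 * (G *ᵥ v) 3 - (G *ᵥ u) 3 * (G *ᵥ v) 1 = (Cfsg.Lie.star4 G *ᵥ Pl u v) 2
    simp only [Matrix.mulVec, dotProduct, Fin.sum_univ_four, star4_apply, pairOf_zero, pairOf_one,
      pairOf_two, pairOf_three, Pl, Matrix.cons_val_zero, Matrix.cons_val_one]
    simp
    linear_combination (G 1 1 * G 3 2 - G 3 1 * G 1 2) * huv + (u 0 * v 3 - u 3 * v 0) * r13 -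
      ((G 1 1 * G 3 2 - G 3 1 * G 1 2) * (u 3 * v 0 + u 2 * v 1) +
        (u 0 * v 3 - u 3 * v 0) * (G 3 0 * G 1 3 + G 1 1 * G 3 2)) * h2
  · show (G *ᵥ u) 2 * (G *ᵥ v) 3 - (G *ᵥ u) 3 * (G *ᵥ v) 2 = (Cfsg.Lie.star4 G *ᵥ Pl u v) 3
    simp only [Matrix.mulVec, dotProduct, Fin.sum_univ_four, star4_apply, pairOf_zero, pairOf_one,
      pairOf_two, pairOf_three, Pl, Matrix.cons_val_zero, Matrix.cons_val_one]
    simp
    linear_combination (G 2 1 * G 3 2 - G 3 1 * G 2 2) * huv + (u 0 * v 3 - u 3 * v 0) * r23 -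
      ((G 2 1 * G 3 2 - G 3 1 * G 2 2) * (u 3 * v 0 + u 2 * v 1) +
        (u 0 * v 3 - u 3 * v 0) * (G 3 0 * G 2 3 + G 2 1 * G 3 2)) * h2

/-! ### absolute points -/

/-- a vector spanning an absolute point of the polarity -/
def Absolute (σ : F →+* F) (v : Fin 4 → F) : Prop :=
  ∃ u : Fin 4 → F, B u v = 0 ∧ Pl u v = fun i => σ (v i)

section
variable (σ : F →+* F) (hσ : ∀ a, σ (σ a) = a ^ 2) (h2 : (2 : F) = 0)

include hσ h2 in
theorem absolute_ov (c : Option (F × F)) : Absolute σ (ov σ c) := by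
  rcases c with _ | ⟨x, y⟩
  · refine ⟨![0, 1, 0, 0], ?_, ?_⟩
    · simp [B, ov, e0]
    · funext i
      fin_cases i <;> simp [Pl, ov, e0]
      exact neg_eq h2 1
  · refine ⟨![x * σ x + y, σ x, 1, 0], ?_, ?_⟩
    · show (x * σ x + y) * 1 + σ x * x + 1 * y + 0 * f σ x y = 0
      grind
    · funext i
      fin_cases i
      · show (x * σ x + y) * y - σ x * f σ x y = σ (f σ x y)
        rw [sig_f σ hσ]
        simp only [f]
        grind
      · show (x * σ x + y) * x - 1 * f σ x y = σ y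
        simp only [f]
        grind
      · show σ x * 1 - 0 * y = σ x
        ring
      · show 1 * 1 - 0 * x = σ 1
        rw [map_one]; ring

include h2 in
theorem absolute_imp {v : Fin 4 → F} (hv : v ≠ 0) (h : Absolute σ v) :
    ∃ (c : Option (F × F)) (k : F), k ≠ 0 ∧ v = k • ov σ c := by
  obtain ⟨u, hb, hpl⟩ := h
  have e0' := congrFun hpl 0
  have e1' := congrFun hpl 1
  have e2' := congrFun hpl 2
  have e3' := congrFun hpl 3
  simp only [Pl] at e0' e1' e2' e3'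
  simp at e0' e1' e2' e3'
  simp only [B] at hb
  have hb0 := hb
  by_cases h3 : v 3 = 0
  · rw [h3] at e3' e2' hb
    simp only [mul_zero, zero_sub, map_zero, zero_add] at e3' e2' hb
    have hv2 : v 2 = 0 := by
      by_contra hv2
      have hu3 : u 3 = 0 := by
        have : u 3 * v 2 = 0 := by rw [neg_eq_zero] at e3'; exact e3'
        rcases mul_eq_zero.mp this with h | h
        · exact h
        · exact absurd h hv2
      rw [hu3, zero_mul, neg_zero] at e2'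
      exact hv2 ((map_eq_zero σ).mp e2'.symm)
    rw [hv2] at e2' e1' hb
    simp only [map_zero, mul_zero, zero_sub] at e2' e1' hb
    have hv1 : v 1 = 0 := by
      by_contra hv1
      have hu3 : u 3 = 0 := by
        have : u 3 * v 1 = 0 := by rw [neg_eq_zero] at e2'; exact e2'
        rcases mul_eq_zero.mp this with h | h
        · exact h
        · exact absurd h hv1
      have hb' : u 2 * v 1 = 0 := by
        rw [h3, hv2, hu3] at hb0
        simpa using hb0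
      have hu2 : u 2 = 0 := by
        rcases mul_eq_zero.mp hb' with h | h
        · exact h
        · exact absurd h hv1
      rw [hu2, zero_mul, neg_zero] at e1'
      exact hv1 ((map_eq_zero σ).mp e1'.symm)
    have hv0 : v 0 ≠ 0 := by
      intro hv0
      apply hv
      funext i
      fin_cases i
      · exact hv0
      · exact hv1
      · exact hv2
      · exact h3
    refine ⟨none, v 0, hv0, ?_⟩
    funext i
    fin_cases i
    · simp [ov, e0]
    · simpa [ov, e0] using hv1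
    · simpa [ov, e0] using hv2
    · simpa [ov, e0] using h3
  · have hs3 : σ (v 3) ≠ 0 := fun h => h3 ((map_eq_zero σ).mp h)
    have key : v 0 * v 3 * σ (v 3) =
        v 1 * v 2 * σ (v 3) + v 2 ^ 2 * σ (v 2) + σ (v 1) * v 3 ^ 2 := by
      grind
    refine ⟨some (v 2 / v 3, v 1 / v 3), v 3, h3, ?_⟩
    funext i
    fin_cases i
    · show v 0 = v 3 * f σ (v 2 / v 3) (v 1 / v 3)
      simp only [f, map_div₀]
      field_simp
      linear_combination key
    · show v 1 = v 3 * (v 1 / v 3)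
      field_simp
    · show v 2 = v 3 * (v 2 / v 3)
      field_simp
    · show v 3 = v 3 * 1
      ring

end

/-! ### symplectic matrices -/

theorem altForm4_eq (u v : Fin 4 → F) : Cfsg.Lie.altForm4 u v = B u v := rfl

theorem B_eq_dot (u v : Fin 4 → F) : B u v = (Cfsg.suzukiForm F *ᵥ u) ⬝ᵥ v := by
  rw [suzukiForm_mulVec, dot_Jv]

/-- matrices preserving the form satisfy `Gᵀ J G = J` -/
theorem symplectic_of_forall (G : Matrix (Fin 4) (Fin 4) F)
    (h : ∀ u v : Fin 4 → F, B (G *ᵥ u) (G *ᵥ v) = B u v) :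
    Gᵀ * Cfsg.suzukiForm F * G = Cfsg.suzukiForm F := by
  ext i j
  have h1 := h (Pi.single j 1) (Pi.single i 1)
  rw [← form_dot, B_eq_dot, Matrix.mulVec_single_one, Matrix.mulVec_single_one,
    dotProduct_single_one, dotProduct_single_one] at h1
  exact h1

theorem forall_of_symplectic (G : Matrix (Fin 4) (Fin 4) F)
    (h : Gᵀ * Cfsg.suzukiForm F * G = Cfsg.suzukiForm F) (u v : Fin 4 → F) :
    B (G *ᵥ u) (G *ᵥ v) = B u v := by
  rw [← form_dot, h, B_eq_dot]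

theorem rows_of_symplectic (G : Matrix (Fin 4) (Fin 4) F)
    (h : Gᵀ * Cfsg.suzukiForm F * G = Cfsg.suzukiForm F) (k l : Fin 4) (hkl : (k : ℕ) + l ≠ 3) :
    B (G k) (G l) = 0 := by
  have hJ := suzukiForm_mul_self (F := F)
  have h1 : (Cfsg.suzukiForm F * Gᵀ * Cfsg.suzukiForm F) * G = 1 := by
    rw [Matrix.mul_assoc, Matrix.mul_assoc, ← Matrix.mul_assoc Gᵀ, h, hJ]
  have h3 : G * (Cfsg.suzukiForm F * Gᵀ * Cfsg.suzukiForm F) = 1 := _root_.mul_eq_one_comm.mp h1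
  have h4 : G * Cfsg.suzukiForm F * Gᵀ = Cfsg.suzukiForm F := by
    have : G * Cfsg.suzukiForm F * Gᵀ =
        G * (Cfsg.suzukiForm F * Gᵀ * Cfsg.suzukiForm F) * Cfsg.suzukiForm F := by
      simp only [Matrix.mul_assoc]
      rw [hJ, Matrix.mul_one]
    rw [this, h3, Matrix.one_mul]
  have h5 := congrFun (congrFun h4 k) l
  have h6 : (G * Cfsg.suzukiForm F * Gᵀ) k l = B (G k) (G l) := by
    simp [Matrix.mul_apply, Fin.sum_univ_four, Cfsg.suzukiForm, B]
    ring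
  rw [h6] at h5
  rw [h5]
  fin_cases k <;> fin_cases l <;> first | rfl | (exfalso; revert hkl; decide)

theorem det_eq_one_of_symplectic (h2 : (2 : F) = 0) (G : Matrix (Fin 4) (Fin 4) F)
    (h : Gᵀ * Cfsg.suzukiForm F * G = Cfsg.suzukiForm F) : G.det = 1 := by
  have h1 := congrArg Matrix.det h
  rw [Matrix.det_mul, Matrix.det_mul, Matrix.det_transpose, det_J h2, mul_one] at h1
  have h3 : (G.det + 1) ^ 2 = 0 := by grind
  exact eq_of_add_eq_zero h2 (pow_eq_zero_iff (by norm_num) |>.mp h3)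

theorem map_mulVec' (σ : F →+* F) (G : Matrix (Fin 4) (Fin 4) F) (v : Fin 4 → F) :
    (G.map σ) *ᵥ (fun i => σ (v i)) = fun i => σ ((G *ᵥ v) i) := by
  funext i
  simp [Matrix.mulVec, dotProduct, map_sum, map_mul]

/-- the condition `g* = g^θ` preserves absolute points -/
theorem absolute_map (σ : F →+* F) (h2 : (2 : F) = 0) (G : Matrix (Fin 4) (Fin 4) F)
    (hsym : Gᵀ * Cfsg.suzukiForm F * G = Cfsg.suzukiForm F)
    (hstar : Cfsg.Lie.star4 G = G.map σ) {v : Fin 4 → F} (hv : Absolute σ v) :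
    Absolute σ (G *ᵥ v) := by
  obtain ⟨u, hb, hpl⟩ := hv
  refine ⟨G *ᵥ u, ?_, ?_⟩
  · rw [forall_of_symplectic G hsym, hb]
  · rw [Pl_mulVec h2 G (rows_of_symplectic G hsym) hb, hstar, hpl, map_mulVec']

/-! ### the generators satisfy `g* = g^θ` -/

section
variable (σ : F →+* F) (hσ : ∀ a, σ (σ a) = a ^ 2) (h2 : (2 : F) = 0)

include hσ h2 in
theorem Tm_star (a b : F) : Cfsg.Lie.star4 (Tm σ a b) = (Tm σ a b).map σ := by
  ext p r
  fin_cases p <;> fin_cases r <;>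
    simp [star4_apply, Cfsg.Lie.pairOf, Tm, f, map_add, map_mul, map_pow, hσ] <;> grind

include hσ in
theorem Hm_star {μ : F} (hμ : μ ≠ 0) : Cfsg.Lie.star4 (Hm σ μ) = (Hm σ μ).map σ := by
  have hsμ : σ μ ≠ 0 := fun h => hμ ((map_eq_zero σ).mp h)
  ext p r
  fin_cases p <;> fin_cases r <;>
    simp [star4_apply, Cfsg.Lie.pairOf, Hm, map_mul, map_inv₀, hσ] <;> field_simp

include h2 in
theorem J_star : Cfsg.Lie.star4 (Cfsg.suzukiForm F) = (Cfsg.suzukiForm F).map σ := by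
  ext p r
  fin_cases p <;> fin_cases r <;>
    simp [star4_apply, Cfsg.Lie.pairOf, Cfsg.suzukiForm]
  all_goals exact neg_eq h2 1

end

/-! ### the comparison -/

section
variable [Fintype F] {m : ℕ} (hF : Fintype.card F = 2 ^ (2 * m + 1))

/-- the inclusion `SL₄ → GL₄` -/
abbrev ι : Matrix.SpecialLinearGroup (Fin 4) F →* GL (Fin 4) F := Matrix.SpecialLinearGroup.toGL

include hF in
theorem toGL_mem_Sp4 {g' : Matrix.SpecialLinearGroup (Fin 4) F} (hg' : g' ∈ Cfsg.Sz F m) :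
    ι g' ∈ Cfsg.Lie.Sp4 F := by
  intro u v
  exact forall_of_symplectic _ (preserves_form hF hg') u v

include hF in
theorem gen_T (a b : F) : ι (T (two_eq_zero hF) m a b) ∈ Cfsg.Lie.Sz F (2 ^ (m + 1)) :=
  Subgroup.subset_closure ⟨toGL_mem_Sp4 hF (T_mem hF a b),
    Tm_star _ (sig_sig _ hF) (two_eq_zero hF) a b⟩

include hF in
theorem gen_H (μ : Fˣ) : ι (H (two_eq_zero hF) m μ) ∈ Cfsg.Lie.Sz F (2 ^ (m + 1)) :=
  Subgroup.subset_closure ⟨toGL_mem_Sp4 hF (H_mem hF μ),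
    Hm_star _ (sig_sig _ hF) μ.ne_zero⟩

include hF in
theorem gen_J : ι (Jg (two_eq_zero hF)) ∈ Cfsg.Lie.Sz F (2 ^ (m + 1)) :=
  Subgroup.subset_closure ⟨toGL_mem_Sp4 hF (Jg_mem hF), J_star (sig (two_eq_zero hF) m) (two_eq_zero hF)⟩

include hF in
theorem toGL_mem_LieSz (hm : 1 ≤ m) {g' : Matrix.SpecialLinearGroup (Fin 4) F}
    (hg' : g' ∈ Cfsg.Sz F m) : ι g' ∈ Cfsg.Lie.Sz F (2 ^ (m + 1)) := by
  have h2 := two_eq_zero hF
  set g : Cfsg.Sz F m := ⟨g', hg'⟩ with hg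
  obtain ⟨c, hc⟩ := pt_surj hF (g • pt hF none)
  rcases c with _ | ⟨a, b⟩
  · obtain ⟨a, b, μ, h⟩ := fix_inf hF hm hc
    have h' : g' = T h2 m a b * H h2 m μ := congrArg Subtype.val h
    rw [h', map_mul]
    exact Subgroup.mul_mem _ (gen_T hF a b) (gen_H hF μ)
  · have hw : (Ts hF a b * Cfsg.Agent.S2410.Js hF) • pt hF none = pt hF (some (a, b)) := by
      rw [mul_smul, Cfsg.Agent.S2410.Js_inf, Ts_some]
      simp
    have h1 : ((Ts hF a b * Cfsg.Agent.S2410.Js hF)⁻¹ * g) • pt hF none = pt hF none := by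
      rw [mul_smul, hc, ← hw, inv_smul_smul]
    obtain ⟨a', b', μ, h⟩ := fix_inf hF hm h1
    have h3 : g = Ts hF a b * Cfsg.Agent.S2410.Js hF * (Ts hF a' b' * Hs hF μ) := by
      rw [← h]; group
    have h' : g' = T h2 m a b * Jg h2 * (T h2 m a' b' * H h2 m μ) := congrArg Subtype.val h3
    rw [h', map_mul, map_mul, map_mul]
    exact Subgroup.mul_mem _ (Subgroup.mul_mem _ (gen_T hF a b) (gen_J hF))
      (Subgroup.mul_mem _ (gen_T hF a' b') (gen_H hF μ))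

include hF in
theorem gen_subset {g : GL (Fin 4) F} (hsp : g ∈ Cfsg.Lie.Sp4 F)
    (hstar : Cfsg.Lie.star4 (g : Matrix (Fin 4) (Fin 4) F) =
      (g : Matrix (Fin 4) (Fin 4) F).map (fun x => x ^ 2 ^ (m + 1))) :
    ∃ g' ∈ Cfsg.Sz F m, ι g' = g := by
  have h2 := two_eq_zero hF
  have hσ := sig_sig h2 hF
  set G : Matrix (Fin 4) (Fin 4) F := (g : Matrix (Fin 4) (Fin 4) F) with hG
  have hsym : Gᵀ * Cfsg.suzukiForm F * G = Cfsg.suzukiForm F :=
    symplectic_of_forall G (fun u v => hsp u v)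
  have hdet : G.det = 1 := det_eq_one_of_symplectic h2 G hsym
  refine ⟨⟨G, hdet⟩, ?_, Units.ext rfl⟩
  apply mem_Sz_of_maps h2 m
  intro c
  have habs : Absolute (sig h2 m) (G *ᵥ ov (sig h2 m) c) :=
    absolute_map (sig h2 m) h2 G hsym hstar (absolute_ov _ hσ h2 c)
  have hne : G *ᵥ ov (sig h2 m) c ≠ 0 := by
    intro h0
    have : G *ᵥ ov (sig h2 m) c = G *ᵥ 0 := by rw [h0, Matrix.mulVec_zero]
    exact ov_ne_zero _ c (mulVec_inj ⟨G, hdet⟩ this)
  obtain ⟨c', k, hk, hck⟩ := absolute_imp _ h2 hne habs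
  exact ⟨c', k, hk, hck⟩

include hF in
theorem LieSz_eq (hm : 1 ≤ m) :
    Cfsg.Lie.Sz F (2 ^ (m + 1)) = (Cfsg.Sz F m).map ι := by
  apply le_antisymm
  · rw [Cfsg.Lie.Sz, Subgroup.closure_le]
    rintro g ⟨hsp, hstar⟩
    obtain ⟨g', hg', rfl⟩ := gen_subset hF hsp hstar
    exact ⟨g', hg', rfl⟩
  · rintro _ ⟨g', hg', rfl⟩
    exact toGL_mem_LieSz hF hm hg'

/-- the two Suzuki groups are isomorphic -/
noncomputable def equivLie (hm : 1 ≤ m) : Cfsg.Sz F m ≃* Cfsg.Lie.Sz F (2 ^ (m + 1)) :=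
  ((Cfsg.Sz F m).equivMapOfInjective ι Matrix.SpecialLinearGroup.toGL_injective).trans
    (MulEquiv.subgroupCongr (LieSz_eq hF hm).symm)

end

end Cfsg.Agent.Lib.Helper15.SuzukiLie
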