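import Mathlib

set_option autoImplicit false

namespace Cfsg.Agent.Lib.Helper15.SuzukiArith

/-- one class of tori is impossible -/
theorem one_class {q n e : ℕ} (hq : 8 ≤ q) (he : e = 1 ∨ e = 2 ∨ e = 4)
    (h1 : 2 * n = q ^ 3 * (q - 1) ^ 2)
    (h2 : n * (e * (q ^ 2 + 1)) = (q ^ 2 + 1) * (q ^ 2 * (q - 1)) * (q ^ 2 + 1 - 1)) : False := by
  obtain ⟨t, rfl⟩ : ∃ t, q = t + 1 := ⟨q - 1, by omega⟩
  simp only [Nat.add_sub_cancel] at h1 h2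
  have ht : 7 ≤ t := by omega
  have h3 : n * e = (t + 1) ^ 4 * t := by
    have hpos : 0 < (t + 1) ^ 2 + 1 := by positivity
    apply Nat.eq_of_mul_eq_mul_right hpos
    rw [mul_assoc, h2]; ring
  have h4 : (t + 1) ^ 3 * t ^ 2 * e = 2 * ((t + 1) ^ 4 * t) := by
    rw [← h1, ← h3]; ring
  have h5 : t * e = 2 * (t + 1) := by
    have hpos : 0 < (t + 1) ^ 3 * t := by positivity
    apply Nat.eq_of_mul_eq_mul_left hpos
    rw [show (t + 1) ^ 3 * t * (t * e) = (t + 1) ^ 3 * t ^ 2 * e by ring, h4]; ring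
  rcases he with rfl | rfl | rfl <;> omega

/-- each class is large -/
theorem class_ge {G c e d : ℕ} (he : e ≤ 4) (hd : 5 ≤ d) (h : c * (e * d) = G * (d - 1)) :
    G ≤ 5 * c := by
  obtain ⟨t, rfl⟩ : ∃ t, d = t + 1 := ⟨d - 1, by omega⟩
  simp only [Nat.add_sub_cancel] at h
  have h1 : c * (e * (t + 1)) ≤ c * (4 * (t + 1)) :=
    Nat.mul_le_mul_left _ (Nat.mul_le_mul_right _ he)
  have h2 : 4 * (t + 1) ≤ 5 * t := by omega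
  have h3 : G * (4 * (t + 1)) ≤ G * (5 * t) := Nat.mul_le_mul_left _ h2
  have h4 : G * (4 * (t + 1)) ≤ 5 * c * (4 * (t + 1)) := by
    calc G * (4 * (t + 1)) ≤ G * (5 * t) := h3
      _ = 5 * (G * t) := by ring
      _ = 5 * (c * (e * (t + 1))) := by rw [h]
      _ ≤ 5 * (c * (4 * (t + 1))) := Nat.mul_le_mul_left _ h1
      _ = 5 * c * (4 * (t + 1)) := by ring
  exact Nat.le_of_mul_le_mul_right h4 (by positivity)

/-- three classes are impossible -/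
theorem three_classes {q n G c₁ c₂ c₃ : ℕ} (hq : 8 ≤ q)
    (h1 : 2 * n = q ^ 3 * (q - 1) ^ 2) (hG : G = (q ^ 2 + 1) * (q ^ 2 * (q - 1)))
    (h5₁ : G ≤ 5 * c₁) (h5₂ : G ≤ 5 * c₂) (h5₃ : G ≤ 5 * c₃) (hsum : c₁ + c₂ + c₃ ≤ n) : False := by
  obtain ⟨t, rfl⟩ : ∃ t, q = t + 1 := ⟨q - 1, by omega⟩
  simp only [Nat.add_sub_cancel] at h1 hG
  have h2 : 6 * G ≤ 10 * n := by omega
  have h3 : 10 * n = 5 * ((t + 1) ^ 3 * t ^ 2) := by omega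
  rw [h3, hG] at h2
  have h4 : 6 * (((t + 1) ^ 2 + 1) * ((t + 1) ^ 2 * t)) =
      (t + 1) ^ 2 * t * (6 * ((t + 1) ^ 2 + 1)) := by ring
  have h5 : 5 * ((t + 1) ^ 3 * t ^ 2) = (t + 1) ^ 2 * t * (5 * ((t + 1) * t)) := by ring
  rw [h4, h5] at h2
  have hpos : 0 < (t + 1) ^ 2 * t := Nat.mul_pos (by positivity) (by omega)
  have h6 := Nat.le_of_mul_le_mul_left h2 hpos
  nlinarith

/-- two classes: the indices are four and the orders add up to `2q + 2` -/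
theorem two_classes {q n c₁ c₂ e₁ e₂ d₁ d₂ : ℕ} (hq : 8 ≤ q)
    (he₁ : e₁ = 1 ∨ e₁ = 2 ∨ e₁ = 4) (he₂ : e₂ = 1 ∨ e₂ = 2 ∨ e₂ = 4)
    (hd₁ : 5 ≤ d₁) (hd₂ : 5 ≤ d₂) (hN : d₁ * d₂ = q ^ 2 + 1)
    (h1 : 2 * n = q ^ 3 * (q - 1) ^ 2) (hn : n = c₁ + c₂)
    (hc₁ : c₁ * (e₁ * d₁) = (q ^ 2 + 1) * (q ^ 2 * (q - 1)) * (d₁ - 1))
    (hc₂ : c₂ * (e₂ * d₂) = (q ^ 2 + 1) * (q ^ 2 * (q - 1)) * (d₂ - 1)) :
    e₁ = 4 ∧ e₂ = 4 ∧ d₁ + d₂ = 2 * q + 2 := by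
  obtain ⟨t, rfl⟩ : ∃ t, q = t + 1 := ⟨q - 1, by omega⟩
  obtain ⟨a, rfl⟩ : ∃ a, d₁ = a + 1 := ⟨d₁ - 1, by omega⟩
  obtain ⟨b, rfl⟩ : ∃ b, d₂ = b + 1 := ⟨d₂ - 1, by omega⟩
  simp only [Nat.add_sub_cancel] at h1 hc₁ hc₂
  have ht : 7 ≤ t := by omega
  have ha : 4 ≤ a := by omega
  have hb : 4 ≤ b := by omega
  rw [← hN] at hc₁ hc₂
  -- cancel the `d`s
  have k₁ : c₁ * e₁ = (b + 1) * ((t + 1) ^ 2 * t) * a := by
    have hpos : 0 < a + 1 := by positivity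
    apply Nat.eq_of_mul_eq_mul_right hpos
    rw [mul_assoc, hc₁]; ring
  have k₂ : c₂ * e₂ = (a + 1) * ((t + 1) ^ 2 * t) * b := by
    have hpos : 0 < b + 1 := by positivity
    apply Nat.eq_of_mul_eq_mul_right hpos
    rw [mul_assoc, hc₂]; ring
  subst hn
  -- move to integers
  have hN' : ((a : ℤ) + 1) * (b + 1) = (t + 1) ^ 2 + 1 := by exact_mod_cast hN
  have h1' : 2 * ((c₁ : ℤ) + c₂) = (t + 1) ^ 3 * t ^ 2 := by exact_mod_cast h1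
  have k₁' : (c₁ : ℤ) * e₁ = (b + 1) * ((t + 1) ^ 2 * t) * a := by exact_mod_cast k₁
  have k₂' : (c₂ : ℤ) * e₂ = (a + 1) * ((t + 1) ^ 2 * t) * b := by exact_mod_cast k₂
  have hQ : (0 : ℤ) < (t + 1) ^ 2 * t := by positivity
  have ht' : (7 : ℤ) ≤ t := by exact_mod_cast ht
  have ha' : (4 : ℤ) ≤ a := by exact_mod_cast ha
  have hb' : (4 : ℤ) ≤ b := by exact_mod_cast hb
  have hc₁0 : (0 : ℤ) ≤ c₁ := by positivity
  have hc₂0 : (0 : ℤ) ≤ c₂ := by positivity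
  -- `4 c_i = f_i * (...)`
  have key : ∀ (c e : ℕ) (X : ℤ), (e = 1 ∨ e = 2 ∨ e = 4) → (c : ℤ) * e = X →
      (4 * (c : ℤ) = X ∧ e = 4) ∨ (2 * X ≤ 4 * (c : ℤ)) := by
    intro c e X he h
    rcases he with rfl | rfl | rfl
    · right; push_cast at h; linarith
    · right; push_cast at h; linarith
    · left; push_cast at h; exact ⟨by linarith, rfl⟩
  have hX₁ : (0 : ℤ) ≤ (b + 1) * ((t + 1) ^ 2 * t) * a := by positivity
  have hX₂ : (0 : ℤ) ≤ (a + 1) * ((t + 1) ^ 2 * t) * b := by positivity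
  have hsum : 4 * (c₁ : ℤ) + 4 * c₂ = 2 * ((t + 1) ^ 2 * t) * ((t + 1) * t) := by
    linear_combination 2 * h1'
  -- lower bounds
  have hlow₁ : (b + 1 : ℤ) * a * 5 ≥ 4 * ((t + 1) ^ 2 + 1) := by nlinarith
  have hlow₂ : (a + 1 : ℤ) * b * 5 ≥ 4 * ((t + 1) ^ 2 + 1) := by nlinarith
  have hge₁ : (b + 1 : ℤ) * ((t + 1) ^ 2 * t) * a ≤ 4 * c₁ := by
    rcases key c₁ e₁ _ he₁ k₁' with h | h
    · linarith [h.1]
    · linarith
  have hge₂ : (a + 1 : ℤ) * ((t + 1) ^ 2 * t) * b ≤ 4 * c₂ := by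
    rcases key c₂ e₂ _ he₂ k₂' with h | h
    · linarith [h.1]
    · linarith
  have bad : ∀ Y₁ Y₂ : ℤ, Y₁ * 5 ≥ 4 * ((t + 1) ^ 2 + 1) → Y₂ * 5 ≥ 4 * ((t + 1) ^ 2 + 1) →
      2 * Y₁ + Y₂ ≤ 2 * ((t + 1) * t) → False := by
    intro Y₁ Y₂ hY₁ hY₂ h
    have e1 : ((t : ℤ) + 1) ^ 2 + 1 = (t : ℤ) ^ 2 + 2 * t + 2 := by ring
    have e2 : ((t : ℤ) + 1) * t = (t : ℤ) ^ 2 + t := by ring
    rw [e1] at hY₁ hY₂
    rw [e2] at h
    have : (0 : ℤ) ≤ (t : ℤ) ^ 2 := sq_nonneg _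
    linarith
  rcases key c₁ e₁ _ he₁ k₁' with ⟨h₁, he1⟩ | h₁
  · rcases key c₂ e₂ _ he₂ k₂' with ⟨h₂, he2⟩ | h₂
    · refine ⟨he1, he2, ?_⟩
      have h3 : ((t : ℤ) + 1) ^ 2 * t * ((b + 1) * a + (a + 1) * b) =
          (t + 1) ^ 2 * t * (2 * ((t + 1) * t)) := by
        linear_combination hsum - h₁ - h₂
      have h4 := mul_left_cancel₀ hQ.ne' h3
      have h5 : (a : ℤ) + 1 + (b + 1) = 2 * (t + 1) + 2 := by
        linear_combination 2 * hN' - h4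
      exact_mod_cast h5
    · exfalso
      have h3 : ((t : ℤ) + 1) ^ 2 * t * ((b + 1) * a + 2 * ((a + 1) * b)) ≤
          (t + 1) ^ 2 * t * (2 * ((t + 1) * t)) := by
        have e1 : ((t : ℤ) + 1) ^ 2 * t * ((b + 1) * a + 2 * ((a + 1) * b)) =
            (b + 1) * ((t + 1) ^ 2 * t) * a + 2 * ((a + 1) * ((t + 1) ^ 2 * t) * b) := by ring
        have e2 : ((t : ℤ) + 1) ^ 2 * t * (2 * ((t + 1) * t)) =
            2 * ((t + 1) ^ 2 * t) * ((t + 1) * t) := by ring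
        rw [e1, e2]; linarith
      have h4 := le_of_mul_le_mul_left h3 hQ
      exact bad ((a + 1) * b) ((b + 1) * a) hlow₂ hlow₁ (by linarith)
  · exfalso
    have h3 : ((t : ℤ) + 1) ^ 2 * t * (2 * ((b + 1) * a) + (a + 1) * b) ≤
        (t + 1) ^ 2 * t * (2 * ((t + 1) * t)) := by
      have e1 : ((t : ℤ) + 1) ^ 2 * t * (2 * ((b + 1) * a) + (a + 1) * b) =
          2 * ((b + 1) * ((t + 1) ^ 2 * t) * a) + (a + 1) * ((t + 1) ^ 2 * t) * b := by ring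
      have e2 : ((t : ℤ) + 1) ^ 2 * t * (2 * ((t + 1) * t)) =
          2 * ((t + 1) ^ 2 * t) * ((t + 1) * t) := by ring
      rw [e1, e2]; linarith
    have h4 := le_of_mul_le_mul_left h3 hQ
    exact bad ((b + 1) * a) ((a + 1) * b) hlow₁ hlow₂ (by linarith)

/-- solving for the two torus orders -/
theorem solve_quadratic {m d₁ d₂ : ℕ} (hN : d₁ * d₂ = (2 ^ (2 * m + 1)) ^ 2 + 1)
    (hs : d₁ + d₂ = 2 * 2 ^ (2 * m + 1) + 2) :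
    (d₁ = 2 ^ (2 * m + 1) + 2 ^ (m + 1) + 1 ∧ d₂ = 2 ^ (2 * m + 1) - 2 ^ (m + 1) + 1) ∨
    (d₂ = 2 ^ (2 * m + 1) + 2 ^ (m + 1) + 1 ∧ d₁ = 2 ^ (2 * m + 1) - 2 ^ (m + 1) + 1) := by
  have hle : 2 ^ (m + 1) ≤ 2 ^ (2 * m + 1) := Nat.pow_le_pow_right (by norm_num) (by omega)
  obtain ⟨q, hq⟩ : ∃ q : ℕ, q = 2 ^ (2 * m + 1) := ⟨_, rfl⟩
  obtain ⟨r, hr⟩ : ∃ r : ℕ, r = 2 ^ (m + 1) := ⟨_, rfl⟩
  have hrq : r ^ 2 = 2 * q := by
    rw [hr, hq, ← pow_mul, ← pow_succ']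
    congr 1
    ring
  rw [← hq] at hN hs hle ⊢
  rw [← hr] at hle ⊢
  have hN' : (d₁ : ℤ) * d₂ = (q : ℤ) ^ 2 + 1 := by exact_mod_cast hN
  have hs' : (d₁ : ℤ) + d₂ = 2 * q + 2 := by exact_mod_cast hs
  have hrq' : (r : ℤ) ^ 2 = 2 * q := by exact_mod_cast hrq
  have hsq : ((d₁ : ℤ) - d₂) ^ 2 = (2 * (r : ℤ)) ^ 2 := by
    have : ((d₁ : ℤ) - d₂) ^ 2 = ((d₁ : ℤ) + d₂) ^ 2 - 4 * (d₁ * d₂) := by ring
    rw [this, hs', hN', mul_pow, hrq']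
    ring
  rcases sq_eq_sq_iff_eq_or_eq_neg.mp hsq with h | h
  · left
    have h1 : (d₁ : ℤ) = q + r + 1 := by linarith
    have h2 : (d₂ : ℤ) = q - r + 1 := by linarith
    constructor
    · exact_mod_cast h1
    · have : (d₂ : ℤ) = ((q - r + 1 : ℕ) : ℤ) := by
        rw [h2]; push_cast [Nat.cast_sub hle]; ring
      exact_mod_cast this
  · right
    have h1 : (d₂ : ℤ) = q + r + 1 := by linarith
    have h2 : (d₁ : ℤ) = q - r + 1 := by linarith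
    constructor
    · exact_mod_cast h1
    · have : (d₁ : ℤ) = ((q - r + 1 : ℕ) : ℤ) := by
        rw [h2]; push_cast [Nat.cast_sub hle]; ring
      exact_mod_cast this

end Cfsg.Agent.Lib.Helper15.SuzukiArith
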