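import Cfsg.Agent.Lib.Helper15.SuzukiField
import Cfsg.Agent.Lib.Helper15.SuzukiArith

set_option autoImplicit false

namespace Cfsg.Agent.Lib.Helper15.SuzukiTori

open Cfsg.Agent.Lib.Helper15.SuzukiAlg Cfsg.Agent.Lib.Helper15.SuzukiOvoid
  Cfsg.Agent.Lib.Helper15.SuzukiGroup Cfsg.Agent.Lib.Helper15.SuzukiOrder
  Cfsg.Agent.Lib.Helper15.SuzukiZassenhaus
  Cfsg.Agent.Lib.Helper15.SuzukiIrred Cfsg.Agent.Lib.Helper15.SuzukiFpf
  Cfsg.Agent.Lib.Helper15.SuzukiField Cfsg.Agent.S0331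

variable {F : Type*} [Field F] [Fintype F] {m : ℕ} (hF : Fintype.card F = 2 ^ (2 * m + 1))

/-- the order of the centraliser -/
noncomputable def dd (x : Cfsg.Sz F m) : ℕ :=
  Nat.card (Subgroup.centralizer ({x} : Set (Cfsg.Sz F m)))

omit [Fintype F] in
theorem cent_conj (g x : Cfsg.Sz F m) (h : Cfsg.Sz F m) :
    h ∈ Subgroup.centralizer ({g * x * g⁻¹} : Set (Cfsg.Sz F m)) ↔
      g⁻¹ * h * g ∈ Subgroup.centralizer ({x} : Set (Cfsg.Sz F m)) := by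
  rw [Subgroup.mem_centralizer_singleton_iff, Subgroup.mem_centralizer_singleton_iff]
  constructor
  · intro e
    have e1 : g⁻¹ * h * g * x = g⁻¹ * (h * (g * x * g⁻¹)) * g := by group
    have e2 : x * (g⁻¹ * h * g) = g⁻¹ * ((g * x * g⁻¹) * h) * g := by group
    rw [e1, e2, e]
  · intro e
    have e1 : h * (g * x * g⁻¹) = g * (g⁻¹ * h * g * x) * g⁻¹ := by group
    have e2 : g * x * g⁻¹ * h = g * (x * (g⁻¹ * h * g)) * g⁻¹ := by group
    rw [e1, e2, e]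

omit [Fintype F] in
theorem dd_conj (g x : Cfsg.Sz F m) : dd (g * x * g⁻¹) = dd x := by
  unfold dd
  apply Nat.card_congr
  refine ⟨fun h => ⟨g⁻¹ * h.1 * g, (cent_conj g x h.1).mp h.2⟩,
    fun h => ⟨g * h.1 * g⁻¹, (cent_conj g x _).mpr (by
      have : g⁻¹ * (g * h.1 * g⁻¹) * g = h.1 := by group
      rw [this]; exact h.2)⟩, ?_, ?_⟩
  · intro h
    apply Subtype.ext
    show g * (g⁻¹ * h.1 * g) * g⁻¹ = h.1
    group
  · intro h
    apply Subtype.ext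
    show g⁻¹ * (g * h.1 * g⁻¹) * g = h.1
    group

include hF in
theorem one_lt_dd {x : Cfsg.Sz F m} (hx : IsFpf x) : 1 < dd x := by
  unfold dd
  rw [Finite.one_lt_card_iff_nontrivial]
  refine ⟨⟨⟨x, Subgroup.mem_centralizer_singleton_iff.mpr rfl⟩, 1, ?_⟩⟩
  intro h
  exact hx.ne_one hF (congrArg Subtype.val h)

include hF in
/-- equal centraliser orders means conjugate centralisers -/
theorem conj_of_dd_eq (hm : 1 ≤ m) {x y : Cfsg.Sz F m} (hx : IsFpf x) (hy : IsFpf y)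
    (h : dd y = dd x) : ∃ g : Cfsg.Sz F m, Subgroup.centralizer ({y} : Set (Cfsg.Sz F m)) =
      Subgroup.centralizer {g * x * g⁻¹} := by
  have h1 := one_lt_dd hF hx
  obtain ⟨p, hp, hpd⟩ := Nat.exists_prime_and_dvd (show dd x ≠ 1 by omega)
  have hpd' : p ∣ dd y := by rw [h]; exact hpd
  exact hx.conj_of_common_prime hF hm hy hp hpd hpd'

include hF in
/-- distinct centraliser orders are coprime -/
theorem coprime_dd (hm : 1 ≤ m) {x y : Cfsg.Sz F m} (hx : IsFpf x) (hy : IsFpf y)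
    (h : dd y ≠ dd x) : Nat.Coprime (dd x) (dd y) := by
  apply Nat.coprime_of_dvd
  intro p hp h1 h2
  obtain ⟨g, hg⟩ := hx.conj_of_common_prime hF hm hy hp h1 h2
  apply h
  rw [← dd_conj g x]
  unfold dd
  rw [hg]

/-- the elements whose centraliser has the same order as that of `x` -/
def cls (x : Cfsg.Sz F m) : Set (Cfsg.Sz F m) := {y | IsFpf y ∧ dd y = dd x}

/-- the incidence relation used for counting a class -/
def Rel (x g y : Cfsg.Sz F m) : Prop :=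
  IsFpf y ∧ g⁻¹ * y * g ∈ Subgroup.centralizer ({x} : Set (Cfsg.Sz F m))

include hF in
theorem Rel.cent_eq (hm : 1 ≤ m) {x g y : Cfsg.Sz F m} (hx : IsFpf x) (h : Rel x g y) :
    Subgroup.centralizer ({y} : Set (Cfsg.Sz F m)) = Subgroup.centralizer {g * x * g⁻¹} := by
  have h1 : y ∈ Subgroup.centralizer ({g * x * g⁻¹} : Set (Cfsg.Sz F m)) :=
    (cent_conj g x y).mpr h.2
  exact (hx.conj g).cent_eq hF hm (Subgroup.mem_centralizer_singleton_iff.mp h1) (h.1.ne_one hF)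

include hF in
theorem Rel.mem_cls (hm : 1 ≤ m) {x g y : Cfsg.Sz F m} (hx : IsFpf x) (h : Rel x g y) :
    y ∈ cls x := by
  refine ⟨h.1, ?_⟩
  rw [← dd_conj g x]
  unfold dd
  rw [h.cent_eq hF hm hx]

include hF in
/-- the second coordinate determines the first up to the normaliser -/
theorem rel_iff (hm : 1 ≤ m) {x g₀ y : Cfsg.Sz F m} (hx : IsFpf x) (hy : IsFpf y)
    (h0 : Subgroup.centralizer ({y} : Set (Cfsg.Sz F m)) = Subgroup.centralizer {g₀ * x * g₀⁻¹})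
    (g : Cfsg.Sz F m) :
    Rel x g y ↔ g₀⁻¹ * g ∈ Subgroup.normalizer
      ((Subgroup.centralizer ({x} : Set (Cfsg.Sz F m)) : Subgroup (Cfsg.Sz F m)) :
        Set (Cfsg.Sz F m)) := by
  constructor
  · intro h
    have h1 := h.cent_eq hF hm hx
    rw [h0] at h1
    rw [Subgroup.mem_normalizer_iff]
    intro k
    have e1 : k ∈ Subgroup.centralizer ({x} : Set (Cfsg.Sz F m)) ↔
        g * k * g⁻¹ ∈ Subgroup.centralizer ({g * x * g⁻¹} : Set (Cfsg.Sz F m)) := by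
      rw [cent_conj]
      have : g⁻¹ * (g * k * g⁻¹) * g = k := by group
      rw [this]
    rw [e1, ← h1, cent_conj]
    have : g₀⁻¹ * (g * k * g⁻¹) * g₀ = g₀⁻¹ * g * k * (g₀⁻¹ * g)⁻¹ := by group
    rw [this]
  · intro h
    refine ⟨hy, ?_⟩
    have hyy : y ∈ Subgroup.centralizer ({y} : Set (Cfsg.Sz F m)) :=
      Subgroup.mem_centralizer_singleton_iff.mpr rfl
    rw [h0, cent_conj] at hyy
    have h2 := (Subgroup.mem_normalizer_iff.mp (Subgroup.inv_mem _ h) (g₀⁻¹ * y * g₀)).mp hyy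
    have : (g₀⁻¹ * g)⁻¹ * (g₀⁻¹ * y * g₀) * (g₀⁻¹ * g)⁻¹⁻¹ = g⁻¹ * y * g := by group
    rw [this] at h2
    exact h2

include hF in
theorem card_rel_left (hm : 1 ≤ m) {x : Cfsg.Sz F m} (hx : IsFpf x) :
    Nat.card {p : Cfsg.Sz F m × Cfsg.Sz F m // Rel x p.1 p.2} =
      Nat.card (Cfsg.Sz F m) * (dd x - 1) := by
  classical
  have e : {p : Cfsg.Sz F m × Cfsg.Sz F m // Rel x p.1 p.2} ≃
      Cfsg.Sz F m × {u : Subgroup.centralizer ({x} : Set (Cfsg.Sz F m)) // u ≠ 1} :=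
    { toFun := fun p => (p.1.1, ⟨⟨p.1.1⁻¹ * p.1.2 * p.1.1, p.2.2⟩, by
        intro h
        have h1 : p.1.1⁻¹ * p.1.2 * p.1.1 = 1 := congrArg Subtype.val h
        apply p.2.1.ne_one hF
        have : p.1.2 = p.1.1 * (p.1.1⁻¹ * p.1.2 * p.1.1) * p.1.1⁻¹ := by group
        rw [this, h1]; group⟩)
      invFun := fun q => ⟨(q.1, q.1 * (q.2.1 : Cfsg.Sz F m) * q.1⁻¹), by
        have hu : IsFpf (q.2.1 : Cfsg.Sz F m) :=
          hx.cent_fpf hF hm (Subgroup.mem_centralizer_singleton_iff.mp q.2.1.2)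
            (fun h => q.2.2 (Subtype.ext h))
        refine ⟨hu.conj q.1, ?_⟩
        have : q.1⁻¹ * (q.1 * (q.2.1 : Cfsg.Sz F m) * q.1⁻¹) * q.1 = q.2.1 := by group
        show q.1⁻¹ * (q.1 * (q.2.1 : Cfsg.Sz F m) * q.1⁻¹) * q.1 ∈ _
        rw [this]
        exact q.2.1.2⟩
      left_inv := by
        rintro ⟨⟨g, y⟩, h⟩
        apply Subtype.ext
        apply Prod.ext
        · rfl
        · show g * (g⁻¹ * y * g) * g⁻¹ = y
          group
      right_inv := by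
        rintro ⟨g, ⟨⟨u, hu⟩, hu1⟩⟩
        apply Prod.ext
        · rfl
        · apply Subtype.ext
          apply Subtype.ext
          show g⁻¹ * (g * u * g⁻¹) * g = u
          group }
  rw [Nat.card_congr e, Nat.card_prod]
  congr 1
  unfold dd
  have := Fintype.ofFinite (Subgroup.centralizer ({x} : Set (Cfsg.Sz F m)))
  rw [Nat.card_eq_fintype_card, Nat.card_eq_fintype_card, Fintype.card_subtype_compl,
    Fintype.card_subtype_eq]

include hF in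
theorem card_rel_right (hm : 1 ≤ m) {x : Cfsg.Sz F m} (hx : IsFpf x) :
    Nat.card {p : Cfsg.Sz F m × Cfsg.Sz F m // Rel x p.1 p.2} =
      (cls x).ncard * Nat.card (Subgroup.normalizer
        ((Subgroup.centralizer ({x} : Set (Cfsg.Sz F m)) : Subgroup (Cfsg.Sz F m)) :
          Set (Cfsg.Sz F m))) := by
  classical
  have hch : ∀ y : cls x, ∃ g₀ : Cfsg.Sz F m,
      Subgroup.centralizer ({(y : Cfsg.Sz F m)} : Set (Cfsg.Sz F m)) =
        Subgroup.centralizer {g₀ * x * g₀⁻¹} := fun y => conj_of_dd_eq hF hm hx y.2.1 y.2.2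
  choose g₀ hg₀ using hch
  have e : {p : Cfsg.Sz F m × Cfsg.Sz F m // Rel x p.1 p.2} ≃
      (cls x) × (Subgroup.normalizer
        ((Subgroup.centralizer ({x} : Set (Cfsg.Sz F m)) : Subgroup (Cfsg.Sz F m)) :
          Set (Cfsg.Sz F m))) :=
    { toFun := fun p => (⟨p.1.2, p.2.mem_cls hF hm hx⟩,
        ⟨(g₀ ⟨p.1.2, p.2.mem_cls hF hm hx⟩)⁻¹ * p.1.1,
          (rel_iff hF hm hx p.2.1 (hg₀ ⟨p.1.2, p.2.mem_cls hF hm hx⟩) p.1.1).mp p.2⟩)
      invFun := fun q => ⟨(g₀ q.1 * (q.2 : Cfsg.Sz F m), (q.1 : Cfsg.Sz F m)), by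
        apply (rel_iff hF hm hx q.1.2.1 (hg₀ q.1) _).mpr
        have : (g₀ q.1)⁻¹ * (g₀ q.1 * (q.2 : Cfsg.Sz F m)) = q.2 := by group
        rw [this]
        exact q.2.2⟩
      left_inv := by
        rintro ⟨⟨g, y⟩, h⟩
        apply Subtype.ext
        apply Prod.ext
        · show g₀ ⟨y, _⟩ * ((g₀ ⟨y, _⟩)⁻¹ * g) = g
          group
        · rfl
      right_inv := by
        rintro ⟨⟨y, hy⟩, ⟨n, hn⟩⟩
        apply Prod.ext
        · rfl
        · apply Subtype.ext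
          show (g₀ ⟨y, _⟩)⁻¹ * (g₀ ⟨y, hy⟩ * n) = n
          group }
  rw [Nat.card_congr e, Nat.card_prod, Nat.card_coe_set_eq]

include hF in
/-- the size of a class -/
theorem card_cls (hm : 1 ≤ m) {x : Cfsg.Sz F m} (hx : IsFpf x) :
    (cls x).ncard * Nat.card (Subgroup.normalizer
        ((Subgroup.centralizer ({x} : Set (Cfsg.Sz F m)) : Subgroup (Cfsg.Sz F m)) :
          Set (Cfsg.Sz F m))) = Nat.card (Cfsg.Sz F m) * (dd x - 1) := by
  rw [← card_rel_right hF hm hx, card_rel_left hF hm hx]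

include hF in
/-- the number of fixed-point-free elements -/
theorem card_fpf (hm : 1 ≤ m) :
    2 * {g : Cfsg.Sz F m | IsFpf g}.ncard = (2 ^ (2 * m + 1)) ^ 3 * (2 ^ (2 * m + 1) - 1) ^ 2 := by
  classical
  have := Fintype.ofFinite (Cfsg.Sz F m)
  have := Fintype.ofFinite (Cfsg.suzukiOvoid F m)
  have hX : Fintype.card (Cfsg.suzukiOvoid F m) = (2 ^ (2 * m + 1)) ^ 2 + 1 := by
    rw [← Nat.card_eq_fintype_card, card_ovoid hF]
  have hG : Fintype.card (Cfsg.Sz F m) =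
      ((2 ^ (2 * m + 1)) ^ 2 + 1) * ((2 ^ (2 * m + 1)) ^ 2 * (2 ^ (2 * m + 1) - 1)) := by
    rw [← Nat.card_eq_fintype_card, card_Sz' hF hm]
  have h := Cfsg.Agent.Lib.Helper15.ZassenhausCount.count_fpf (G := Cfsg.Sz F m)
    (X := Cfsg.suzukiOvoid F m) (two_transitive hF) (three_fixed hF hm)
    (by rw [hX]; have : 0 < (2 ^ (2 * m + 1)) ^ 2 := by positivity
        omega)
  rw [hX, hG] at h
  have hn : Nat.card {g : Cfsg.Sz F m // ∀ P : Cfsg.suzukiOvoid F m, g • P ≠ P} =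
      {g : Cfsg.Sz F m | IsFpf g}.ncard := by
    rw [← Nat.card_coe_set_eq]
    rfl
  rw [hn] at h
  obtain ⟨t, ht⟩ : ∃ t, 2 ^ (2 * m + 1) = t + 1 := ⟨2 ^ (2 * m + 1) - 1, by
    have : 1 ≤ 2 ^ (2 * m + 1) := Nat.one_le_two_pow
    omega⟩
  rw [ht] at h ⊢
  simp only [Nat.add_sub_cancel] at h ⊢
  push_cast at h
  have h' : (2 * ({g : Cfsg.Sz F m | IsFpf g}.ncard : ℤ)) = ((t : ℤ) + 1) ^ 3 * (t : ℤ) ^ 2 := by
    linear_combination h
  exact_mod_cast h'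

theorem three_not_dvd_N : ¬ 3 ∣ (2 ^ (2 * m + 1)) ^ 2 + 1 := by
  have h1 : 2 ^ (2 * m + 1) % 3 = 2 := by
    rw [pow_succ, pow_mul, Nat.mul_mod, Nat.pow_mod]
    norm_num
  have h2 : (2 ^ (2 * m + 1)) ^ 2 % 3 = 1 := by
    rw [Nat.pow_mod, h1]
  omega

include hF in
theorem dd_dvd (hm : 1 ≤ m) {x : Cfsg.Sz F m} (hx : IsFpf x) :
    dd x ∣ (2 ^ (2 * m + 1)) ^ 2 + 1 := hx.card_cent_dvd hF hm

include hF in
theorem five_le_dd (hm : 1 ≤ m) {x : Cfsg.Sz F m} (hx : IsFpf x) : 5 ≤ dd x := by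
  have h1 := one_lt_dd hF hx
  have h2 := dd_dvd hF hm hx
  have h3 : ¬ 2 ∣ dd x := fun h => two_not_dvd_N (dvd_trans h h2)
  have h4 : ¬ 3 ∣ dd x := fun h => three_not_dvd_N (dvd_trans h h2)
  by_contra hcon
  push Not at hcon
  have : dd x = 2 ∨ dd x = 3 ∨ dd x = 4 := by omega
  rcases this with h | h | h
  · exact h3 (by rw [h])
  · exact h4 (by rw [h])
  · exact h3 (by rw [h]; norm_num)

include hF in
/-- every class is large -/
theorem cls_ge (hm : 1 ≤ m) {x : Cfsg.Sz F m} (hx : IsFpf x) :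
    Nat.card (Cfsg.Sz F m) ≤ 5 * (cls x).ncard := by
  obtain ⟨e, he, hN⟩ := card_normalizer hF hm hx
  have h := card_cls hF hm hx
  rw [hN] at h
  have he4 : e ≤ 4 := by rcases he with rfl | rfl | rfl <;> norm_num
  exact Cfsg.Agent.Lib.Helper15.SuzukiArith.class_ge he4 (five_le_dd hF hm hx) h

include hF in
/-- every prime power dividing `q² + 1` divides the order of some centraliser -/
theorem exists_fpf_prime_pow (hm : 1 ≤ m) {p : ℕ} (hp : p.Prime)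
    (hpN : p ∣ (2 ^ (2 * m + 1)) ^ 2 + 1) :
    ∃ y : Cfsg.Sz F m, IsFpf y ∧ p ^ ((2 ^ (2 * m + 1)) ^ 2 + 1).factorization p ∣ dd y := by
  have : Fact p.Prime := ⟨hp⟩
  have hpG : p ∣ Nat.card (Cfsg.Sz F m) := by
    rw [card_Sz' hF hm]; exact dvd_mul_of_dvd_left hpN _
  obtain ⟨y, hy⟩ := exists_prime_orderOf_dvd_card' p hpG
  have hy1 : y ≠ 1 := by
    rintro rfl
    rw [orderOf_one] at hy
    exact hp.one_lt.ne' hy.symm
  have hyf : IsFpf y := isFpf_of_order_dvd hF hm hy1 (by rw [hy]; exact hpN)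
  refine ⟨y, hyf, ?_⟩
  have hpd : p ∣ dd y := by
    have h1 : orderOf (⟨y, Subgroup.mem_centralizer_singleton_iff.mpr rfl⟩ :
        Subgroup.centralizer ({y} : Set (Cfsg.Sz F m))) ∣ dd y := orderOf_dvd_natCard _
    rw [← Subgroup.orderOf_coe] at h1
    rw [← hy]
    exact h1
  obtain ⟨P, hP⟩ := hyf.sylow_le_cent hF hm hpd
  have h1 : Nat.card (P : Subgroup (Cfsg.Sz F m)) ∣ dd y := Subgroup.card_dvd_of_le hP
  rw [P.card_eq_multiplicity, card_Sz' hF hm] at h1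
  refine dvd_trans (pow_dvd_pow p ?_) h1
  have hN0 : (2 ^ (2 * m + 1)) ^ 2 + 1 ≠ 0 := by positivity
  have hM0 : (2 ^ (2 * m + 1)) ^ 2 * (2 ^ (2 * m + 1) - 1) ≠ 0 := by
    have : 2 ≤ 2 ^ (2 * m + 1) := by
      calc 2 = 2 ^ 1 := rfl
        _ ≤ 2 ^ (2 * m + 1) := Nat.pow_le_pow_right (by norm_num) (by omega)
    apply Nat.mul_ne_zero (by positivity)
    omega
  rw [Nat.factorization_mul hN0 hM0]
  simp

include hF in
/-- the two classes of non-split tori -/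
theorem tori (hm : 1 ≤ m) :
    ∃ x₁ x₂ : Cfsg.Sz F m, IsFpf x₁ ∧ IsFpf x₂ ∧
      dd x₁ = 2 ^ (2 * m + 1) + 2 ^ (m + 1) + 1 ∧ dd x₂ = 2 ^ (2 * m + 1) - 2 ^ (m + 1) + 1 ∧
      Nat.card (Subgroup.normalizer
        ((Subgroup.centralizer ({x₁} : Set (Cfsg.Sz F m)) : Subgroup (Cfsg.Sz F m)) :
          Set (Cfsg.Sz F m))) = 4 * dd x₁ ∧
      Nat.card (Subgroup.normalizer
        ((Subgroup.centralizer ({x₂} : Set (Cfsg.Sz F m)) : Subgroup (Cfsg.Sz F m)) :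
          Set (Cfsg.Sz F m))) = 4 * dd x₂ ∧
      ∀ y : Cfsg.Sz F m, IsFpf y → dd y = dd x₁ ∨ dd y = dd x₂ := by
  classical
  have hq8 : 8 ≤ 2 ^ (2 * m + 1) := by
    calc 8 = 2 ^ 3 := by norm_num
      _ ≤ 2 ^ (2 * m + 1) := Nat.pow_le_pow_right (by norm_num) (by omega)
  have hS₀ := card_fpf hF hm
  have hN1 : (2 ^ (2 * m + 1)) ^ 2 + 1 ≠ 1 := by
    have : 0 < (2 ^ (2 * m + 1)) ^ 2 := by positivity
    omega
  obtain ⟨p, hp, hpN⟩ := Nat.exists_prime_and_dvd hN1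
  obtain ⟨x₁, hx₁, -⟩ := exists_fpf_prime_pow hF hm hp hpN
  obtain ⟨e₁, he₁, hN₁⟩ := card_normalizer hF hm hx₁
  have hc₁ := card_cls hF hm hx₁
  rw [hN₁] at hc₁
  have hcover : ∀ L : ℕ, (∀ y : Cfsg.Sz F m, IsFpf y → dd y ∣ L) →
      (2 ^ (2 * m + 1)) ^ 2 + 1 ∣ L := by
    intro L hL
    rw [Nat.dvd_iff_prime_pow_dvd_dvd]
    intro p' k hp' hpk
    rcases Nat.eq_zero_or_pos k with rfl | hk
    · simp
    · have hp'N : p' ∣ (2 ^ (2 * m + 1)) ^ 2 + 1 := dvd_trans (dvd_pow_self p' hk.ne') hpk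
      obtain ⟨y, hy, hyd⟩ := exists_fpf_prime_pow hF hm hp' hp'N
      have hk' : k ≤ ((2 ^ (2 * m + 1)) ^ 2 + 1).factorization p' :=
        (hp'.pow_dvd_iff_le_factorization (by positivity)).mp hpk
      exact dvd_trans (dvd_trans (pow_dvd_pow p' hk') hyd) (hL y hy)
  by_cases hall : ∀ y : Cfsg.Sz F m, IsFpf y → dd y = dd x₁
  · exfalso
    have hNd : (2 ^ (2 * m + 1)) ^ 2 + 1 ∣ dd x₁ :=
      hcover (dd x₁) (fun y hy => by rw [hall y hy])
    have hd₁ : dd x₁ = (2 ^ (2 * m + 1)) ^ 2 + 1 := Nat.dvd_antisymm (dd_dvd hF hm hx₁) hNd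
    have hcls : cls x₁ = {g : Cfsg.Sz F m | IsFpf g} := by
      ext y
      constructor
      · exact fun h => h.1
      · exact fun h => ⟨h, hall y h⟩
    have hd₁' : Nat.card (Subgroup.centralizer ({x₁} : Set (Cfsg.Sz F m))) =
        (2 ^ (2 * m + 1)) ^ 2 + 1 := hd₁
    rw [hcls, hd₁, hd₁', card_Sz' hF hm] at hc₁
    exact Cfsg.Agent.Lib.Helper15.SuzukiArith.one_class hq8 he₁ hS₀ hc₁
  push Not at hall
  obtain ⟨x₂, hx₂, hne⟩ := hall
  obtain ⟨e₂, he₂, hN₂⟩ := card_normalizer hF hm hx₂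
  have hc₂ := card_cls hF hm hx₂
  rw [hN₂] at hc₂
  have hdisj : Disjoint (cls x₁) (cls x₂) := by
    rw [Set.disjoint_left]
    intro y h1 h2
    exact hne (h2.2.symm.trans h1.2)
  have hthird : ∀ y : Cfsg.Sz F m, IsFpf y → dd y = dd x₁ ∨ dd y = dd x₂ := by
    intro y hy
    by_contra hcon
    push Not at hcon
    have h5₁ := cls_ge hF hm hx₁
    have h5₂ := cls_ge hF hm hx₂
    have h5₃ := cls_ge hF hm hy
    have hd2 : Disjoint (cls x₁ ∪ cls x₂) (cls y) := by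
      rw [Set.disjoint_left]
      intro z h1 h2
      rcases h1 with h1 | h1
      · exact hcon.1 (h2.2.symm.trans h1.2)
      · exact hcon.2 (h2.2.symm.trans h1.2)
    have hsub : cls x₁ ∪ cls x₂ ∪ cls y ⊆ {g : Cfsg.Sz F m | IsFpf g} := by
      intro z hz
      rcases hz with (hz | hz) | hz <;> exact hz.1
    have hcard : (cls x₁).ncard + (cls x₂).ncard + (cls y).ncard ≤
        {g : Cfsg.Sz F m | IsFpf g}.ncard := by
      rw [← Set.ncard_union_eq hdisj, ← Set.ncard_union_eq hd2]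
      exact Set.ncard_le_ncard hsub (Set.toFinite _)
    exact Cfsg.Agent.Lib.Helper15.SuzukiArith.three_classes hq8 hS₀ (card_Sz' hF hm) h5₁ h5₂ h5₃ hcard
  have hunion : {g : Cfsg.Sz F m | IsFpf g} = cls x₁ ∪ cls x₂ := by
    ext y
    constructor
    · intro h
      rcases hthird y h with h1 | h1
      · left; exact ⟨h, h1⟩
      · right; exact ⟨h, h1⟩
    · intro h
      rcases h with h | h <;> exact h.1
  have hn : {g : Cfsg.Sz F m | IsFpf g}.ncard = (cls x₁).ncard + (cls x₂).ncard := by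
    rw [hunion, Set.ncard_union_eq hdisj]
  have hcop : Nat.Coprime (dd x₁) (dd x₂) := coprime_dd hF hm hx₁ hx₂ hne
  have hprod : dd x₁ * dd x₂ = (2 ^ (2 * m + 1)) ^ 2 + 1 := by
    apply Nat.dvd_antisymm
    · exact Nat.Coprime.mul_dvd_of_dvd_of_dvd hcop (dd_dvd hF hm hx₁) (dd_dvd hF hm hx₂)
    · apply hcover
      intro y hy
      rcases hthird y hy with h | h
      · rw [h]; exact dvd_mul_right _ _
      · rw [h]; exact dvd_mul_left _ _
  rw [card_Sz' hF hm] at hc₁ hc₂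
  obtain ⟨h41, h42, hsum⟩ := Cfsg.Agent.Lib.Helper15.SuzukiArith.two_classes hq8 he₁ he₂
    (five_le_dd hF hm hx₁) (five_le_dd hF hm hx₂) hprod hS₀ hn hc₁ hc₂
  rcases Cfsg.Agent.Lib.Helper15.SuzukiArith.solve_quadratic hprod hsum with ⟨h1, h2⟩ | ⟨h1, h2⟩
  · refine ⟨x₁, x₂, hx₁, hx₂, h1, h2, ?_, ?_, hthird⟩
    · rw [hN₁, h41]; rfl
    · rw [hN₂, h42]; rfl
  · refine ⟨x₂, x₁, hx₂, hx₁, h1, h2, ?_, ?_, fun y hy => (hthird y hy).symm⟩
    · rw [hN₂, h42]; rfl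
    · rw [hN₁, h41]; rfl

end Cfsg.Agent.Lib.Helper15.SuzukiTori
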