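import Cfsg.Agent.Lib.Helper15.SuzukiBorel
import Cfsg.Agent.S2410
import Cfsg.Agent.S2247

set_option autoImplicit false

namespace Cfsg.Agent.Lib.Helper15.SuzukiElements

open Cfsg.Agent.Lib.Helper15.SuzukiAlg Cfsg.Agent.Lib.Helper15.SuzukiOvoid
  Cfsg.Agent.Lib.Helper15.SuzukiForm Cfsg.Agent.Lib.Helper15.SuzukiMat
  Cfsg.Agent.Lib.Helper15.SuzukiGroup Cfsg.Agent.Lib.Helper15.SuzukiOrder
  Cfsg.Agent.Lib.Helper15.SuzukiSylow Cfsg.Agent.Lib.Helper15.SuzukiZassenhaus
  Cfsg.Agent.Lib.Helper15.SuzukiBorel Cfsg.Agent.S2410 Cfsg.Agent.S2247 Matrix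
open scoped Pointwise

variable {F : Type*} [Field F] [Fintype F] {m : ℕ} (hF : Fintype.card F = 2 ^ (2 * m + 1))

include hF in
/-- the character `μ ↦ μ² σ(μ)` of the torus is injective -/
theorem char_two_inj {μ : F} (h6 : μ ^ 2 * sig (two_eq_zero hF) m μ = 1) : μ = 1 := by
  have h2 := two_eq_zero hF
  have hσ := sig_sig h2 hF
  have h7 : sig h2 m μ * μ = 1 := by
    apply sq_inj h2
    have := congrArg (sig h2 m) h6
    rw [map_mul, map_pow, hσ, map_one] at this
    rw [mul_pow, one_pow]; exact this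
  have : μ * (sig h2 m μ * μ) = 1 := by rw [← h6]; ring
  rw [h7, mul_one] at this
  exact this

include hF in
theorem sig_eq_one {μ : F} (h6 : sig (two_eq_zero hF) m μ = 1) : μ = 1 := by
  have : sig (two_eq_zero hF) m μ = sig (two_eq_zero hF) m 1 := by rw [h6, map_one]
  exact (sig (two_eq_zero hF) m).injective this

/-- the centraliser of a non-trivial translation consists of translations -/
theorem cent_Ts (hm : 1 ≤ m) {a b : F} (hab : ¬(a = 0 ∧ b = 0)) {h : Cfsg.Sz F m}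
    (hc : h * Ts hF a b = Ts hF a b * h) : h ∈ Qz hF := by
  have h2 := two_eq_zero hF
  have hfix : Ts hF a b • (h • pt hF none) = h • pt hF none := by
    rw [← mul_smul, ← hc, mul_smul, Ts_inf]
  have hinf := Ts_fix_only hF hab hfix
  obtain ⟨c, d, μ, rfl⟩ := fix_inf hF hm hinf
  have hconj : (Ts hF c d * Hs hF μ) * Ts hF a b * (Ts hF c d * Hs hF μ)⁻¹ = Ts hF a b := by
    rw [hc, mul_inv_cancel_right]
  rw [borel_conj] at hconj
  obtain ⟨h3, h4⟩ := Ts_inj hF hconj
  have hμ : (μ : F) = 1 := by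
    by_cases ha : a = 0
    · subst ha
      have hb : b ≠ 0 := fun hb => hab ⟨rfl, hb⟩
      rw [mul_zero, mul_zero, map_zero, zero_mul, add_zero, add_zero] at h4
      apply char_two_inj hF
      have : ((μ : F) ^ 2 * sig h2 m (μ : F) - 1) * b = 0 := by rw [sub_mul, h4, one_mul, sub_self]
      rcases mul_eq_zero.mp this with h7 | h7
      · exact sub_eq_zero.mp h7
      · exact absurd h7 hb
    · apply sig_eq_one hF
      have : (sig h2 m (μ : F) - 1) * a = 0 := by rw [sub_mul, h3, one_mul, sub_self]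
      rcases mul_eq_zero.mp this with h7 | h7
      · exact sub_eq_zero.mp h7
      · exact absurd h7 ha
  have hμ1 : μ = 1 := Units.ext hμ
  rw [hμ1, Hs_one, mul_one]
  exact Ts_mem_Qz hF c d

/-- a Borel element outside the translations fixes a second point -/
theorem exists_second_fixed (c d : F) {μ : Fˣ} (hμ : μ ≠ 1) :
    ∃ x y : F, (Ts hF c d * Hs hF μ) • pt hF (some (x, y)) = pt hF (some (x, y)) := by
  have h2 := two_eq_zero hF
  have hμ' : (μ : F) ≠ 1 := fun h => hμ (Units.ext h)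
  have h1 : sig h2 m (μ : F) + 1 ≠ 0 := by
    intro h
    apply hμ'
    apply sig_eq_one hF
    exact eq_of_add_eq_zero h2 h
  have h3 : (μ : F) ^ 2 * sig h2 m (μ : F) + 1 ≠ 0 := by
    intro h
    apply hμ'
    apply char_two_inj hF
    exact eq_of_add_eq_zero h2 h
  refine ⟨c / (sig h2 m (μ : F) + 1),
    (d + sig h2 m c * (sig h2 m (μ : F) * (c / (sig h2 m (μ : F) + 1)))) /
      ((μ : F) ^ 2 * sig h2 m (μ : F) + 1), ?_⟩
  rw [mul_smul, Hs_some, Ts_some]
  congr 3
  · have : sig h2 m (μ : F) * (c / (sig h2 m (μ : F) + 1)) + c =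
        (sig h2 m (μ : F) * c + c * (sig h2 m (μ : F) + 1)) / (sig h2 m (μ : F) + 1) := by
      field_simp
    rw [this]
    congr 1
    have := add_self h2 (sig h2 m (μ : F) * c)
    grind
  · set A := (μ : F) ^ 2 * sig h2 m (μ : F) with hA
    set N := d + sig h2 m c * (sig h2 m (μ : F) * (c / (sig h2 m (μ : F) + 1))) with hN
    have : A * (N / (A + 1)) + d + sig h2 m c * (sig h2 m (μ : F) * (c / (sig h2 m (μ : F) + 1))) =
        (A * N + N * (A + 1)) / (A + 1) := by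
      rw [add_assoc, ← hN]
      field_simp
    rw [this]
    congr 1
    have := add_self h2 (A * N)
    grind

theorem Hs_zero (μ : Fˣ) : Hs hF μ • pt hF (some (0, 0)) = pt hF (some (0, 0)) := by
  rw [Hs_some, mul_zero, mul_zero]

theorem Js_zero : Js hF • pt hF (some (0, 0)) = pt hF none := by
  rw [← Js_inf hF, ← mul_smul, Js_mul_self, one_smul]

theorem Hs_ne_one {μ : Fˣ} (hμ : μ ≠ 1) : Hs hF μ ≠ 1 := by
  intro h
  apply hμ
  have h1 : Hs hF μ = Hs hF 1 := by rw [h, Hs_one]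
  exact H_injective _ m (congrArg Subtype.val h1)

/-- the fixed points of a non-trivial torus element -/
theorem Hs_fix (hm : 1 ≤ m) {μ : Fˣ} (hμ : μ ≠ 1) {P : Cfsg.suzukiOvoid F m}
    (hP : Hs hF μ • P = P) : P = pt hF none ∨ P = pt hF (some (0, 0)) := by
  by_contra hcon
  push Not at hcon
  exact Hs_ne_one hF hμ (three_fixed hF hm _ _ _ _ (pt_none_ne_zero hF) hcon.2.symm hcon.1.symm
    (Hs_inf hF μ) (Hs_zero hF μ) hP)

/-- the centraliser of a non-trivial torus element is the torus -/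
theorem cent_Hs (hm : 1 ≤ m) {μ : Fˣ} (hμ : μ ≠ 1) {h : Cfsg.Sz F m}
    (hc : h * Hs hF μ = Hs hF μ * h) : ∃ ν : Fˣ, h = Hs hF ν := by
  have h2 := two_eq_zero hF
  have hfix : ∀ P : Cfsg.suzukiOvoid F m, Hs hF μ • P = P → Hs hF μ • (h • P) = h • P := by
    intro P hP
    rw [← mul_smul, ← hc, mul_smul, hP]
  have h0 := Hs_fix hF hm hμ (hfix _ (Hs_inf hF μ))
  have h3 := Hs_fix hF hm hμ (hfix _ (Hs_zero hF μ))
  have hne : h • pt hF none ≠ h • pt hF (some (0, 0)) := fun hh =>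
    pt_none_ne_zero hF (smul_left_cancel _ hh)
  rcases h0 with h0 | h0
  · rcases h3 with h3 | h3
    · exact absurd (h0.trans h3.symm) hne
    · exact fix_standard hF hm h0 h3
  · exfalso
    rcases h3 with h3 | h3
    · have f0 : (Js hF * h) • pt hF none = pt hF none := by rw [mul_smul, h0, Js_zero]
      have f3 : (Js hF * h) • pt hF (some (0, 0)) = pt hF (some (0, 0)) := by
        rw [mul_smul, h3, Js_inf]
      obtain ⟨ν, hν⟩ := fix_standard hF hm f0 f3
      have hh : h = Js hF * Hs hF ν := by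
        rw [← hν, ← mul_assoc, Js_mul_self, one_mul]
      have e1 : Hs hF μ * Js hF = Js hF * Hs hF μ⁻¹ := by
        have := Js_mul_Hs hF μ⁻¹
        rw [inv_inv] at this
        exact this.symm
      rw [hh, mul_assoc, Hs_mul, ← mul_assoc, e1, mul_assoc, Hs_mul] at hc
      have h5 : Hs hF (ν * μ) = Hs hF (μ⁻¹ * ν) := mul_left_cancel hc
      have h6 : ν * μ = μ⁻¹ * ν := H_injective _ m (congrArg Subtype.val h5)
      have h7 : μ * μ = 1 := by
        have : μ * (ν * μ) = μ * (μ⁻¹ * ν) := by rw [h6]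
        rw [mul_inv_cancel_left, mul_comm ν μ, ← mul_assoc] at this
        exact mul_right_cancel (b := ν) (by rw [this, one_mul])
      apply hμ
      apply Units.ext
      rw [Units.val_one]
      apply sq_inj h2
      rw [one_pow, sq, ← Units.val_mul, h7, Units.val_one]
    · exact absurd (h0.trans h3.symm) hne

/-- the centraliser is a `2`-group or commutative -/
def Good (g : Cfsg.Sz F m) : Prop :=
  IsPGroup 2 (Subgroup.centralizer ({g} : Set (Cfsg.Sz F m))) ∨
    ∀ h₁ h₂ : Cfsg.Sz F m, h₁ * g = g * h₁ → h₂ * g = g * h₂ → h₁ * h₂ = h₂ * h₁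

theorem nilpotent_of_good {g : Cfsg.Sz F m} (h : Good g) :
    Group.IsNilpotent (Subgroup.centralizer ({g} : Set (Cfsg.Sz F m))) := by
  rcases h with h | h
  · have : Fact (Nat.Prime 2) := ⟨Nat.prime_two⟩
    exact h.isNilpotent
  · let _ : CommGroup (Subgroup.centralizer ({g} : Set (Cfsg.Sz F m))) :=
      { (inferInstance : Group (Subgroup.centralizer ({g} : Set (Cfsg.Sz F m)))) with
        mul_comm := by
          rintro ⟨a, ha⟩ ⟨b, hb⟩
          apply Subtype.ext
          rw [Subgroup.mem_centralizer_singleton_iff] at ha hb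
          exact h a b ha hb }
    exact CommGroup.isNilpotent

omit [Fintype F] in
theorem good_conj {g : Cfsg.Sz F m} (x : Cfsg.Sz F m) (h : Good (x * g * x⁻¹)) : Good g := by
  have hc : ∀ k : Cfsg.Sz F m, k * g = g * k →
      (x * k * x⁻¹) * (x * g * x⁻¹) = (x * g * x⁻¹) * (x * k * x⁻¹) := by
    intro k hk
    have e1 : (x * k * x⁻¹) * (x * g * x⁻¹) = x * (k * g) * x⁻¹ := by group
    have e2 : (x * g * x⁻¹) * (x * k * x⁻¹) = x * (g * k) * x⁻¹ := by group
    rw [e1, e2, hk]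
  rcases h with h | h
  · left
    rintro ⟨k, hk⟩
    rw [Subgroup.mem_centralizer_singleton_iff] at hk
    obtain ⟨n, hn⟩ := h ⟨x * k * x⁻¹, Subgroup.mem_centralizer_singleton_iff.mpr (hc k hk)⟩
    refine ⟨n, ?_⟩
    have h1 : (x * k * x⁻¹) ^ (2 ^ n) = 1 := congrArg Subtype.val hn
    rw [conj_pow] at h1
    apply Subtype.ext
    show k ^ (2 ^ n) = 1
    have : k ^ 2 ^ n = x⁻¹ * (x * k ^ 2 ^ n * x⁻¹) * x := by group
    rw [this, h1]; group
  · right
    intro h₁ h₂ hh₁ hh₂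
    have := h _ _ (hc h₁ hh₁) (hc h₂ hh₂)
    have e1 : x * h₁ * x⁻¹ * (x * h₂ * x⁻¹) = x * (h₁ * h₂) * x⁻¹ := by group
    have e2 : x * h₂ * x⁻¹ * (x * h₁ * x⁻¹) = x * (h₂ * h₁) * x⁻¹ := by group
    rw [e1, e2] at this
    exact mul_left_cancel (mul_right_cancel this)

/-- elements fixing the point at infinity have good centralisers -/
theorem good_of_fix_inf (hm : 1 ≤ m) {g : Cfsg.Sz F m} (hg : g ≠ 1)
    (hfix : g • pt hF none = pt hF none) : Good g := by
  obtain ⟨c, d, μ, rfl⟩ := fix_inf hF hm hfix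
  by_cases hμ : μ = 1
  · subst hμ
    rw [Hs_one, mul_one] at hg ⊢
    left
    have hab : ¬(c = 0 ∧ d = 0) := by
      rintro ⟨rfl, rfl⟩
      exact hg (Ts_one hF)
    have hle : Subgroup.centralizer ({Ts hF c d} : Set (Cfsg.Sz F m)) ≤ Qz hF := by
      intro h hh
      rw [Subgroup.mem_centralizer_singleton_iff] at hh
      exact cent_Ts hF hm hab hh
    have hQ : IsPGroup 2 (Qz hF) := (QSyl hF hm).isPGroup'
    exact hQ.to_le hle
  · obtain ⟨x, y, hxy⟩ := exists_second_fixed hF c d hμ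
    have hne : pt hF none ≠ pt hF (some (x, y)) := by
      intro h
      have := pt_inj hF h
      simp at this
    obtain ⟨k, hk0, hk3⟩ := exists_to_standard hF hne
    apply good_conj k
    have f0 : (k * (Ts hF c d * Hs hF μ) * k⁻¹) • pt hF none = pt hF none := by
      rw [← hk0, mul_smul, inv_smul_smul, mul_smul, hfix]
    have f3 : (k * (Ts hF c d * Hs hF μ) * k⁻¹) • pt hF (some (0, 0)) = pt hF (some (0, 0)) := by
      rw [← hk3, mul_smul, inv_smul_smul, mul_smul, hxy]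
    obtain ⟨ν, hν⟩ := fix_standard hF hm f0 f3
    rw [hν]
    have hν1 : ν ≠ 1 := by
      rintro rfl
      rw [Hs_one] at hν
      apply hg
      have : Ts hF c d * Hs hF μ = k⁻¹ * (k * (Ts hF c d * Hs hF μ) * k⁻¹) * k := by group
      rw [this, hν]; group
    right
    intro h₁ h₂ hh₁ hh₂
    obtain ⟨ν₁, rfl⟩ := cent_Hs hF hm hν1 hh₁
    obtain ⟨ν₂, rfl⟩ := cent_Hs hF hm hν1 hh₂
    rw [Hs_mul, Hs_mul, mul_comm]

include hF in
/-- elements with a fixed point have good centralisers -/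
theorem good_of_fix (hm : 1 ≤ m) {g : Cfsg.Sz F m} (hg : g ≠ 1) {P : Cfsg.suzukiOvoid F m}
    (hfix : g • P = P) : Good g := by
  obtain ⟨c, rfl⟩ := pt_surj hF P
  obtain ⟨g₁, hg₁, hg₁c⟩ := exists_map_inf hF c
  have h1 : (⟨g₁, hg₁⟩ : Cfsg.Sz F m) • pt hF none = pt hF c := Subtype.ext hg₁c
  have h1' : (⟨g₁, hg₁⟩ : Cfsg.Sz F m)⁻¹ • pt hF c = pt hF none := by
    rw [← h1, inv_smul_smul]
  apply good_conj (⟨g₁, hg₁⟩ : Cfsg.Sz F m)⁻¹
  apply good_of_fix_inf hF hm
  · intro h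
    apply hg
    have : g = (⟨g₁, hg₁⟩ : Cfsg.Sz F m)⁻¹⁻¹ * ((⟨g₁, hg₁⟩ : Cfsg.Sz F m)⁻¹ * g *
        (⟨g₁, hg₁⟩ : Cfsg.Sz F m)⁻¹⁻¹) * (⟨g₁, hg₁⟩ : Cfsg.Sz F m)⁻¹ := by group
    rw [this, h]; group
  · rw [mul_smul, mul_smul, inv_inv, h1, hfix, h1']

end Cfsg.Agent.Lib.Helper15.SuzukiElements
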