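/-
helper15: leaves FROB of helper29's S3572 market "WD" (`notes/S3572_leaves.lean`):
the coefficients of `η(T)^p` mod `p` in `MonoidAlgebra (ZMod p) (DihedralGroup n)`, through the
two-dimensional representation over `AddMonoidAlgebra (ZMod p) (ZMod n)` and helper7's
`DHBFROB.M_pow_p`.
-/
import Mathlib
import Cfsg.Agent.Lib.Helper29.WDDefs
import Cfsg.Agent.Lib.Helper7.DHBGP
import Cfsg.Agent.Lib.Helper7.DHB2S
import Cfsg.Agent.Lib.Helper7.DHBFROB

set_option autoImplicit false
set_option linter.unusedSectionVars false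
set_option linter.unusedVariables false

namespace Cfsg.Agent.Lib.Helper15.WDLeaf

open Finset DihedralGroup
open Cfsg.Agent.Lib.Helper19.SchurCyclic
open Cfsg.Agent.Lib.Helper7.DHB
open Cfsg.Agent.Lib.Helper29.WD

section rep

variable {n : ℕ} [NeZero n] (R : Type*) [CommRing R]

/-- basis element of the group algebra of `ZMod n` -/
noncomputable def ee (i : ZMod n) : AddMonoidAlgebra R (ZMod n) := AddMonoidAlgebra.single i 1

theorem ee_mul (i j : ZMod n) : ee R i * ee R j = ee R (i + j) := by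
  unfold ee
  rw [AddMonoidAlgebra.single_mul_single, mul_one]

theorem ee_zero : ee R (0 : ZMod n) = 1 := rfl

theorem coeff_ee (i j : ZMod n) : (ee R i).coeff j = if i = j then 1 else 0 := by
  unfold ee
  rw [AddMonoidAlgebra.coeff_single, Finsupp.single_apply]

/-- the matrix of a group element: `r i ↦ diag(e_{-i}, e_i)`, `sr j ↦ antidiag(e_j, e_{-j})` -/
noncomputable def dmat : DihedralGroup n → Matrix (Fin 2) (Fin 2) (AddMonoidAlgebra R (ZMod n))
  | r i => !![ee R (-i), 0; 0, ee R i]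
  | sr j => !![0, ee R j; ee R (-j), 0]

theorem dmat_r (i : ZMod n) : dmat R (r i) = !![ee R (-i), 0; 0, ee R i] := rfl

theorem dmat_sr (j : ZMod n) : dmat R (sr j) = !![0, ee R j; ee R (-j), 0] := rfl

/-- the two-dimensional representation -/
noncomputable def dhom : DihedralGroup n →* Matrix (Fin 2) (Fin 2) (AddMonoidAlgebra R (ZMod n)) where
  toFun := dmat R
  map_one' := by
    rw [one_def, dmat_r, neg_zero, ee_zero, Matrix.one_fin_two]
  map_mul' := by
    rintro (i | i) (j | j)
    · rw [r_mul_r, dmat_r, dmat_r, dmat_r, Matrix.mul_fin_two]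
      simp only [mul_zero, zero_mul, add_zero, zero_add, ee_mul, neg_add]
    · rw [r_mul_sr, dmat_r, dmat_sr, dmat_sr, Matrix.mul_fin_two]
      simp only [mul_zero, zero_mul, add_zero, zero_add, ee_mul, neg_sub]
      rw [neg_add_eq_sub, sub_eq_add_neg i j]
    · rw [sr_mul_r, dmat_r, dmat_sr, dmat_sr, Matrix.mul_fin_two]
      simp only [mul_zero, zero_mul, add_zero, zero_add, ee_mul, neg_add]
    · rw [sr_mul_sr, dmat_r, dmat_sr, dmat_sr, Matrix.mul_fin_two]
      simp only [mul_zero, zero_mul, add_zero, zero_add, ee_mul, neg_sub]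
      rw [← sub_eq_add_neg, neg_add_eq_sub]

theorem dhom_apply (g : DihedralGroup n) : dhom R g = dmat R g := rfl

/-- the algebra homomorphism -/
noncomputable def rho : MonoidAlgebra R (DihedralGroup n) →ₐ[R]
    Matrix (Fin 2) (Fin 2) (AddMonoidAlgebra R (ZMod n)) :=
  MonoidAlgebra.lift R _ (DihedralGroup n) (dhom R)

/-- the four entries of `rho τ` -/
theorem rho_entries (τ : MonoidAlgebra R (DihedralGroup n)) :
    (∀ i : ZMod n, ((rho R τ) 1 1).coeff i = τ.coeff (r i)) ∧
    (∀ i : ZMod n, ((rho R τ) 0 0).coeff i = τ.coeff (r (-i))) ∧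
    (∀ j : ZMod n, ((rho R τ) 0 1).coeff j = τ.coeff (sr j)) ∧
    (∀ j : ZMod n, ((rho R τ) 1 0).coeff j = τ.coeff (sr (-j))) := by
  induction τ using MonoidAlgebra.induction_on with
  | of g =>
    unfold rho
    rw [MonoidAlgebra.lift_of, dhom_apply]
    rcases g with a | a
    · rw [dmat_r]
      simp only [Matrix.of_apply, Matrix.cons_val', Matrix.cons_val_zero, Matrix.cons_val_one,
        Matrix.empty_val', Matrix.cons_val_fin_one, MonoidAlgebra.of_apply,
        MonoidAlgebra.coeff_single, Finsupp.single_apply, coeff_ee, AddMonoidAlgebra.coeff_zero,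
        Finsupp.coe_zero, Pi.zero_apply, r.injEq]
      refine ⟨fun i => trivial, fun i => ?_, fun j => ?_, fun j => ?_⟩
      · by_cases h : a = -i
        · rw [if_pos h, if_pos (by rw [h, neg_neg])]
        · rw [if_neg h, if_neg (fun h' => h (by rw [← h', neg_neg]))]
      · simp
      · simp
    · rw [dmat_sr]
      simp only [Matrix.of_apply, Matrix.cons_val', Matrix.cons_val_zero, Matrix.cons_val_one,
        Matrix.empty_val', Matrix.cons_val_fin_one, MonoidAlgebra.of_apply,
        MonoidAlgebra.coeff_single, Finsupp.single_apply, coeff_ee, AddMonoidAlgebra.coeff_zero,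
        Finsupp.coe_zero, Pi.zero_apply, sr.injEq]
      refine ⟨fun i => ?_, fun i => ?_, fun j => trivial, fun j => ?_⟩
      · simp
      · simp
      · by_cases h : a = -j
        · rw [if_pos h, if_pos (by rw [h, neg_neg])]
        · rw [if_neg h, if_neg (fun h' => h (by rw [← h', neg_neg]))]
  | add x y hx hy =>
    simp only [map_add, Matrix.add_apply, AddMonoidAlgebra.coeff_add, MonoidAlgebra.coeff_add,
      Finsupp.add_apply]
    exact ⟨fun i => by rw [hx.1, hy.1], fun i => by rw [hx.2.1, hy.2.1],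
      fun i => by rw [hx.2.2.1, hy.2.2.1], fun i => by rw [hx.2.2.2, hy.2.2.2]⟩
  | smul c x hx =>
    simp only [map_smul, Matrix.smul_apply, AddMonoidAlgebra.coeff_smul, MonoidAlgebra.coeff_smul,
      Finsupp.smul_apply]
    exact ⟨fun i => by rw [hx.1], fun i => by rw [hx.2.1],
      fun i => by rw [hx.2.2.1], fun i => by rw [hx.2.2.2]⟩

theorem coeff_eta (T : Finset (DihedralGroup n)) (g : DihedralGroup n) :
    (eta R T).coeff g = if g ∈ T then 1 else 0 := by
  unfold eta
  rw [MonoidAlgebra.coeff_sum, Finsupp.finsetSum_apply]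
  simp only [MonoidAlgebra.coeff_single, Finsupp.single_apply]
  rw [Finset.sum_ite_eq' T g]

theorem coeff_ind' (S : Finset (ZMod n)) (i : ZMod n) :
    (ind R S).coeff i = if i ∈ S then 1 else 0 :=
  Cfsg.Agent.Lib.Helper7.DHBALG.coeff_ind S i

/-- the matrix of `η(T)` for a symmetric rotation part -/
theorem rho_eta (T : Finset (DihedralGroup n)) (hX : ∀ i ∈ XX T, -i ∈ XX T) :
    rho R (eta R T) = !![ind R (XX T), ind R (YY T); ind R ((YY T).image Neg.neg), ind R (XX T)] := by
  obtain ⟨h11, h00, h01, h10⟩ := rho_entries R (eta R T)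
  ext a b : 1
  apply AddMonoidAlgebra.ext
  ext i
  fin_cases a <;> fin_cases b
  · show ((rho R (eta R T)) 0 0).coeff i = (ind R (XX T)).coeff i
    rw [h00, coeff_eta, coeff_ind']
    have : r (-i) ∈ T ↔ i ∈ XX T := by
      rw [← mem_XX]
      constructor
      · intro h; have := hX _ h; rwa [neg_neg] at this
      · exact hX i
    simp only [this]
  · show ((rho R (eta R T)) 0 1).coeff i = (ind R (YY T)).coeff i
    rw [h01, coeff_eta, coeff_ind']
    simp only [mem_YY]
  · show ((rho R (eta R T)) 1 0).coeff i = (ind R ((YY T).image Neg.neg)).coeff i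
    rw [h10, coeff_eta, coeff_ind']
    have : sr (-i) ∈ T ↔ i ∈ (YY T).image Neg.neg := by
      rw [← mem_YY, Finset.mem_image]
      constructor
      · intro h; exact ⟨-i, h, neg_neg i⟩
      · rintro ⟨j, hj, rfl⟩; rwa [neg_neg]
    simp only [this]
  · show ((rho R (eta R T)) 1 1).coeff i = (ind R (XX T)).coeff i
    rw [h11, coeff_eta, coeff_ind']
    simp only [mem_XX]

end rep

variable {n : ℕ} [NeZero n] {U : Type*} [Group U] {star : U → DihedralGroup n → DihedralGroup n}
variable {T T' T₁ T₂ : Finset (DihedralGroup n)}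

/-- the matrix of `η(T)^p` -/
theorem rho_eta_pow {p : ℕ} [Fact p.Prime] (hp2 : p ≠ 2) (T : Finset (DihedralGroup n))
    (hX : ∀ i ∈ XX T, -i ∈ XX T) :
    rho (ZMod p) ((eta (ZMod p) T) ^ p) =
      ((ind (ZMod p) (XX T)) ^ p) • (1 : Matrix (Fin 2) (Fin 2) (AddMonoidAlgebra (ZMod p) (ZMod n))) +
        (ind (ZMod p) (YY T) * ind (ZMod p) ((YY T).image Neg.neg)) ^ ((p - 1) / 2) •
          (!![0, ind (ZMod p) (YY T); ind (ZMod p) ((YY T).image Neg.neg), 0] :
            Matrix (Fin 2) (Fin 2) (AddMonoidAlgebra (ZMod p) (ZMod n))) := by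
  have := Cfsg.Agent.Lib.Helper7.DHBFROB.charP_alg (n := n) (p := p)
  rw [map_pow, rho_eta (ZMod p) T hX, Cfsg.Agent.Lib.Helper7.DHBFROB.M_pow_p hp2]

/-- `τ^p = x^(p) + (y y*)^((p-1)/2) y b` mod `p`, rotation coefficients. -/
theorem frob_r {p : ℕ} [Fact p.Prime] (hp2 : p ≠ 2) (T : Finset (DihedralGroup n)) (hX : ∀ i ∈ XX T, -i ∈ XX T)
    (i : ZMod n) :
    ((eta (ZMod p) T) ^ p).coeff (r i) = (((XX T).filter (fun s => p • s = i)).card : ZMod p) := by
  rw [← (rho_entries (ZMod p) ((eta (ZMod p) T) ^ p)).1 i, rho_eta_pow hp2 T hX]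
  simp only [Matrix.add_apply, Matrix.smul_apply, Matrix.one_apply_eq, Matrix.of_apply,
    Matrix.cons_val', Matrix.cons_val_one, Matrix.empty_val', Matrix.cons_val_fin_one,
    smul_eq_mul, mul_one, mul_zero, add_zero]
  rw [Cfsg.Agent.Lib.Helper7.DHBFROB.ind_pow_p, AddMonoidAlgebra.coeff_sum, Finsupp.finsetSum_apply]
  simp only [AddMonoidAlgebra.coeff_single, Finsupp.single_apply]
  rw [Finset.card_filter]
  push_cast
  rfl

/-- reflection coefficients of `τ^p` mod `p`. -/
theorem frob_sr {p : ℕ} [Fact p.Prime] (hp2 : p ≠ 2) (T : Finset (DihedralGroup n)) (hX : ∀ i ∈ XX T, -i ∈ XX T)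
    (j : ZMod n) :
    ((eta (ZMod p) T) ^ p).coeff (sr j) =
      ((ind (ZMod p) (YY T) * ind (ZMod p) ((YY T).image Neg.neg)) ^ ((p - 1) / 2) * ind (ZMod p) (YY T)).coeff j := by
  rw [← (rho_entries (ZMod p) ((eta (ZMod p) T) ^ p)).2.2.1 j, rho_eta_pow hp2 T hX]
  simp only [Matrix.add_apply, Matrix.smul_apply, Matrix.of_apply,
    Matrix.cons_val', Matrix.cons_val_one, Matrix.cons_val_zero, Matrix.empty_val',
    Matrix.cons_val_fin_one, smul_eq_mul]
  rw [Matrix.one_apply_ne (by decide : (0 : Fin 2) ≠ 1), mul_zero, zero_add]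

end Cfsg.Agent.Lib.Helper15.WDLeaf
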