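/-
helper15: leaves SQ of helper29's S3572 market "WD" (`notes/S3572_leaves.lean`):
coefficients of `η(T)²` in `MonoidAlgebra ℕ (DihedralGroup n)`.
-/
import Mathlib
import Cfsg.Agent.Lib.Helper29.WDDefs
import Cfsg.Agent.Lib.Helper7.DHBGP
import Cfsg.Agent.Lib.Helper7.DHB2S

set_option autoImplicit false
set_option linter.unusedSectionVars false
set_option linter.unusedVariables false

namespace Cfsg.Agent.Lib.Helper15.WDLeaf

open Finset DihedralGroup
open Cfsg.Agent.Lib.Helper19.SchurCyclic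
open Cfsg.Agent.Lib.Helper7.DHB
open Cfsg.Agent.Lib.Helper29.WD

/-- coefficients of `η(T)²`, any finite group -/
theorem coeff_eta_sq {H : Type*} [Group H] [Fintype H] [DecidableEq H] (T : Finset H) (g : H) :
    ((eta ℕ T) ^ 2).coeff g = ((T ×ˢ T).filter (fun q => q.1 * q.2 = g)).card := by
  unfold eta
  rw [pow_two, Finset.sum_mul_sum]
  simp only [MonoidAlgebra.single_mul_single, mul_one]
  rw [MonoidAlgebra.coeff_sum, Finsupp.finsetSum_apply]
  simp only [MonoidAlgebra.coeff_sum, Finsupp.finsetSum_apply, MonoidAlgebra.coeff_single,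
    Finsupp.single_apply]
  rw [← Finset.sum_product', Finset.card_filter]

variable {n : ℕ} [NeZero n] {U : Type*} [Group U] {star : U → DihedralGroup n → DihedralGroup n}
variable {T T' T₁ T₂ : Finset (DihedralGroup n)}

/-- the pairs of `T × T` with a given product, split by the type of the first factor -/
theorem card_pairs_split (T : Finset (DihedralGroup n)) (g : DihedralGroup n) :
    ((T ×ˢ T).filter (fun q => q.1 * q.2 = g)).card =
      (((XX T) ×ˢ T).filter (fun q => r q.1 * q.2 = g)).card +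
      (((YY T) ×ˢ T).filter (fun q => sr q.1 * q.2 = g)).card := by
  classical
  have hdisj : Disjoint
      ((((XX T) ×ˢ T).filter (fun q => r q.1 * q.2 = g)).image
        (fun q => ((r q.1 : DihedralGroup n), q.2)))
      ((((YY T) ×ˢ T).filter (fun q => sr q.1 * q.2 = g)).image
        (fun q => ((sr q.1 : DihedralGroup n), q.2))) := by
    rw [Finset.disjoint_left]
    intro q h1 h2
    rw [Finset.mem_image] at h1 h2
    obtain ⟨a, -, rfl⟩ := h1
    obtain ⟨b, -, hb⟩ := h2
    have := congrArg Prod.fst hb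
    simp at this
  have hunion : (T ×ˢ T).filter (fun q => q.1 * q.2 = g) =
      ((((XX T) ×ˢ T).filter (fun q => r q.1 * q.2 = g)).image
        (fun q => ((r q.1 : DihedralGroup n), q.2))) ∪
      ((((YY T) ×ˢ T).filter (fun q => sr q.1 * q.2 = g)).image
        (fun q => ((sr q.1 : DihedralGroup n), q.2))) := by
    ext ⟨s, t⟩
    simp only [Finset.mem_filter, Finset.mem_product, Finset.mem_union, Finset.mem_image,
      Prod.mk.injEq, Prod.exists, mem_XX, mem_YY]
    constructor
    · rintro ⟨⟨hs, ht⟩, hst⟩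
      rcases s with i | i
      · left; exact ⟨i, t, ⟨⟨hs, ht⟩, hst⟩, rfl, rfl⟩
      · right; exact ⟨i, t, ⟨⟨hs, ht⟩, hst⟩, rfl, rfl⟩
    · rintro (⟨i, t', ⟨⟨hs, ht⟩, hst⟩, rfl, rfl⟩ | ⟨i, t', ⟨⟨hs, ht⟩, hst⟩, rfl, rfl⟩)
      · exact ⟨⟨hs, ht⟩, hst⟩
      · exact ⟨⟨hs, ht⟩, hst⟩
  rw [hunion, Finset.card_union_of_disjoint hdisj, Finset.card_image_of_injective,
    Finset.card_image_of_injective]
  · intro a b hab
    simp only [Prod.mk.injEq, sr.injEq] at hab
    exact Prod.ext hab.1 hab.2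
  · intro a b hab
    simp only [Prod.mk.injEq, r.injEq] at hab
    exact Prod.ext hab.1 hab.2

/-- pairs `(i, t) ∈ X × T` with a condition on `t`, split by the type of `t` -/
theorem card_split_snd (X : Finset (ZMod n)) (T : Finset (DihedralGroup n))
    (P : ZMod n → DihedralGroup n → Prop) [∀ i t, Decidable (P i t)] :
    ((X ×ˢ T).filter (fun q => P q.1 q.2)).card =
      ((X ×ˢ (XX T)).filter (fun q => P q.1 (r q.2))).card +
      ((X ×ˢ (YY T)).filter (fun q => P q.1 (sr q.2))).card := by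
  classical
  have hdisj : Disjoint
      (((X ×ˢ (XX T)).filter (fun q => P q.1 (r q.2))).image
        (fun q => (q.1, (r q.2 : DihedralGroup n))))
      (((X ×ˢ (YY T)).filter (fun q => P q.1 (sr q.2))).image
        (fun q => (q.1, (sr q.2 : DihedralGroup n)))) := by
    rw [Finset.disjoint_left]
    intro q h1 h2
    rw [Finset.mem_image] at h1 h2
    obtain ⟨a, -, rfl⟩ := h1
    obtain ⟨b, -, hb⟩ := h2
    have := congrArg Prod.snd hb
    simp at this
  have hunion : (X ×ˢ T).filter (fun q => P q.1 q.2) =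
      (((X ×ˢ (XX T)).filter (fun q => P q.1 (r q.2))).image
        (fun q => (q.1, (r q.2 : DihedralGroup n)))) ∪
      (((X ×ˢ (YY T)).filter (fun q => P q.1 (sr q.2))).image
        (fun q => (q.1, (sr q.2 : DihedralGroup n)))) := by
    ext ⟨s, t⟩
    simp only [Finset.mem_filter, Finset.mem_product, Finset.mem_union, Finset.mem_image,
      Prod.mk.injEq, Prod.exists, mem_XX, mem_YY]
    constructor
    · rintro ⟨⟨hs, ht⟩, hst⟩
      rcases t with i | i
      · left; exact ⟨s, i, ⟨⟨hs, ht⟩, hst⟩, rfl, rfl⟩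
      · right; exact ⟨s, i, ⟨⟨hs, ht⟩, hst⟩, rfl, rfl⟩
    · rintro (⟨s', i, ⟨⟨hs, ht⟩, hst⟩, rfl, rfl⟩ | ⟨s', i, ⟨⟨hs, ht⟩, hst⟩, rfl, rfl⟩)
      · exact ⟨⟨hs, ht⟩, hst⟩
      · exact ⟨⟨hs, ht⟩, hst⟩
  rw [hunion, Finset.card_union_of_disjoint hdisj, Finset.card_image_of_injective,
    Finset.card_image_of_injective]
  · intro a b hab
    simp only [Prod.mk.injEq, sr.injEq] at hab
    exact Prod.ext hab.1 hab.2
  · intro a b hab
    simp only [Prod.mk.injEq, r.injEq] at hab
    exact Prod.ext hab.1 hab.2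

/-! ## SQ -/

theorem coeff_sq_r (T : Finset (DihedralGroup n)) (i : ZMod n) :
    ((eta ℕ T) ^ 2).coeff (r i) = rep (XX T) (XX T) i + dif (YY T) (YY T) i := by
  rw [coeff_eta_sq, card_pairs_split,
    card_split_snd (XX T) T (fun a t => r a * t = r i),
    card_split_snd (YY T) T (fun a t => sr a * t = r i)]
  have h1 : ((XX T ×ˢ YY T).filter (fun q => r q.1 * sr q.2 = r i)).card = 0 := by
    rw [Finset.card_eq_zero, Finset.filter_eq_empty_iff]
    intro q _
    rw [r_mul_sr]
    simp
  have h2 : ((YY T ×ˢ XX T).filter (fun q => sr q.1 * r q.2 = r i)).card = 0 := by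
    rw [Finset.card_eq_zero, Finset.filter_eq_empty_iff]
    intro q _
    rw [sr_mul_r]
    simp
  rw [h1, h2, add_zero, zero_add]
  unfold rep dif
  congr 2
  · ext q
    simp only [Finset.mem_filter, r_mul_r, r.injEq]
  · ext q
    simp only [Finset.mem_filter, sr_mul_sr, r.injEq]

theorem coeff_sq_sr (T : Finset (DihedralGroup n)) (hX : ∀ i ∈ XX T, -i ∈ XX T) (j : ZMod n) :
    ((eta ℕ T) ^ 2).coeff (sr j) = 2 * rep (XX T) (YY T) j := by
  rw [coeff_eta_sq, card_pairs_split,
    card_split_snd (XX T) T (fun a t => r a * t = sr j),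
    card_split_snd (YY T) T (fun a t => sr a * t = sr j)]
  have h1 : ((XX T ×ˢ XX T).filter (fun q => r q.1 * r q.2 = sr j)).card = 0 := by
    rw [Finset.card_eq_zero, Finset.filter_eq_empty_iff]
    intro q _
    rw [r_mul_r]
    simp
  have h2 : ((YY T ×ˢ YY T).filter (fun q => sr q.1 * sr q.2 = sr j)).card = 0 := by
    rw [Finset.card_eq_zero, Finset.filter_eq_empty_iff]
    intro q _
    rw [sr_mul_sr]
    simp
  rw [h1, h2, add_zero, zero_add]
  have h3 : ((XX T ×ˢ YY T).filter (fun q => r q.1 * sr q.2 = sr j)).card =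
      rep (XX T) (YY T) j := by
    unfold rep
    apply Finset.card_bij (fun q _ => (-q.1, q.2))
    · intro q hq
      rw [Finset.mem_filter, Finset.mem_product] at hq ⊢
      obtain ⟨⟨ha, hb⟩, hab⟩ := hq
      rw [r_mul_sr, sr.injEq] at hab
      refine ⟨⟨hX _ ha, hb⟩, ?_⟩
      show -q.1 + q.2 = j
      rw [← hab]; ring
    · intro q _ q' _ h
      simp only [Prod.mk.injEq, neg_inj] at h
      exact Prod.ext h.1 h.2
    · intro q hq
      rw [Finset.mem_filter, Finset.mem_product] at hq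
      obtain ⟨⟨ha, hb⟩, hab⟩ := hq
      refine ⟨(-q.1, q.2), ?_, ?_⟩
      · rw [Finset.mem_filter, Finset.mem_product]
        refine ⟨⟨hX _ ha, hb⟩, ?_⟩
        rw [r_mul_sr, sr.injEq]
        show q.2 - -q.1 = j
        rw [← hab]; ring
      · simp
  have h4 : ((YY T ×ˢ XX T).filter (fun q => sr q.1 * r q.2 = sr j)).card =
      rep (XX T) (YY T) j := by
    unfold rep
    apply Finset.card_bij (fun q _ => (q.2, q.1))
    · intro q hq
      rw [Finset.mem_filter, Finset.mem_product] at hq ⊢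
      obtain ⟨⟨ha, hb⟩, hab⟩ := hq
      rw [sr_mul_r, sr.injEq] at hab
      refine ⟨⟨hb, ha⟩, ?_⟩
      show q.2 + q.1 = j
      rw [← hab]; ring
    · intro q _ q' _ h
      simp only [Prod.mk.injEq] at h
      exact Prod.ext h.2 h.1
    · intro q hq
      rw [Finset.mem_filter, Finset.mem_product] at hq
      obtain ⟨⟨ha, hb⟩, hab⟩ := hq
      refine ⟨(q.2, q.1), ?_, ?_⟩
      · rw [Finset.mem_filter, Finset.mem_product]
        refine ⟨⟨hb, ha⟩, ?_⟩
        rw [sr_mul_r, sr.injEq]
        show q.2 + q.1 = j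
        rw [← hab]; ring
      · simp
  rw [h3, h4]
  ring

end Cfsg.Agent.Lib.Helper15.WDLeaf
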