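/-
S4504 CORE step (VI) (sub-planner helper23), leaf BRVI-CLS `cls_facts` (frozen statement in
notes/S4504_VI_leaves.lean): the two classes of elements of order `p`.  `P = ⟨x0⟩` of order `p`,
`F ≤ (ℤ/p)ˣ` the image of `N_G(P)`, of index `2`, `c ∉ F`: `x0 ≁ x0^c`, `c² ∈ F`, `(x0^c)^c ~ x0`, and
`∑_{a ∈ P \ 1} g(a) = f (g(x0) + g(x0^c))` for class functions `g`.
-/
import Mathlib
import Cfsg.Prelude.Def_BlockRank
import Cfsg.Agent.Lib.Helper27.DODefs
import Cfsg.Agent.Lib.Helper29.DOTI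

set_option autoImplicit false
set_option linter.unusedSectionVars false

namespace Cfsg.Agent.Lib.Helper15.BRVICLS

open Cfsg Cfsg.Agent.Lib.Helper8.DOM Cfsg.Agent.Lib.Helper27.DO

universe u

variable {G : Type u} [Group G] [Finite G] {p : ℕ} [Fact p.Prime]

/-- `x0 ^ (u w).val = (x0 ^ u.val) ^ w.val` when `x0 ^ p = 1` -/
theorem pow_val_mul (x0 : G) (hx0p : x0 ^ p = 1) (u w : (ZMod p)ˣ) :
    x0 ^ ((u * w : (ZMod p)ˣ) : ZMod p).val = (x0 ^ (u : ZMod p).val) ^ (w : ZMod p).val := by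
  rw [← pow_mul, Units.val_mul, ZMod.val_mul]
  conv_rhs => rw [← Nat.mod_add_div ((u : ZMod p).val * (w : ZMod p).val) p]
  rw [pow_add, pow_mul, hx0p, one_pow, mul_one]

/-- CLS : the two classes of elements of order `p`. -/
theorem cls_facts (P : Subgroup G) (hP : Nat.card P = p) (x0 : G) (hx0 : P = Subgroup.zpowers x0)
    (F : Subgroup (ZMod p)ˣ)
    (hF : ∀ u : (ZMod p)ˣ, u ∈ F ↔ ∃ n ∈ Nz P, n * x0 * n⁻¹ = x0 ^ (u : ZMod p).val)
    (f : ℕ) (hFcard : Nat.card F = f) (h2f : 2 * f = p - 1) (c : (ZMod p)ˣ) (hc : c ∉ F) :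
    ¬ IsConj x0 (x0 ^ (c : ZMod p).val) ∧ c * c ∈ F ∧
    (∀ g : G → ℂ, IsClassFunction G g → g ((x0 ^ (c : ZMod p).val) ^ (c : ZMod p).val) = g x0) ∧
    (∀ g : G → ℂ, IsClassFunction G g →
      ∑ᶠ a ∈ {a : G | a ∈ P ∧ a ≠ 1}, g a = (f : ℂ) * (g x0 + g (x0 ^ (c : ZMod p).val))) := by
  classical
  have hp : p.Prime := Fact.out
  have hx0P : x0 ∈ P := by rw [hx0]; exact Subgroup.mem_zpowers x0
  have hord : orderOf x0 = p := by rw [← hP, hx0, Nat.card_zpowers]
  have hx01 : x0 ≠ 1 := by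
    intro e
    rw [e, orderOf_one] at hord
    exact hp.one_lt.ne hord
  have hx0p : x0 ^ p = 1 := by rw [← hord]; exact pow_orderOf_eq_one x0
  have hpowP : ∀ k : ℕ, x0 ^ k ∈ P := fun k => P.pow_mem hx0P k
  -- the index of `F`
  have hcardU : Nat.card (ZMod p)ˣ = p - 1 := by
    rw [Nat.card_eq_fintype_card, ZMod.card_units p]
  have hfpos : 0 < f := by rw [← hFcard]; exact Nat.card_pos
  have hidx : F.index = 2 := by
    have h1 := F.card_mul_index
    rw [hFcard, hcardU, ← h2f, mul_comm 2 f] at h1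
    exact Nat.eq_of_mul_eq_mul_left hfpos h1
  -- conjugation by the elements of `N_G(P)` belonging to `F`
  have hconj : ∀ w ∈ F, ∀ u : (ZMod p)ˣ, ∀ g : G → ℂ, IsClassFunction G g →
      g (x0 ^ ((w * u : (ZMod p)ˣ) : ZMod p).val) = g (x0 ^ (u : ZMod p).val) := by
    intro w hw u g hg
    obtain ⟨n, -, hn⟩ := (hF w).mp hw
    rw [pow_val_mul x0 hx0p w u, ← hn]
    have : (n * x0 * n⁻¹) ^ (u : ZMod p).val = n * x0 ^ (u : ZMod p).val * n⁻¹ := by
      rw [conj_pow]
    rw [this, hg]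
  have hone : ((1 : (ZMod p)ˣ) : ZMod p).val = 1 := by
    rw [Units.val_one]
    have : Fact (1 < p) := ⟨hp.one_lt⟩
    exact ZMod.val_one p
  have hcc : c * c ∈ F := Subgroup.mul_self_mem_of_index_two hidx c
  refine ⟨?_, hcc, ?_, ?_⟩
  · -- `x0 ≁ x0^c`
    intro hconj'
    rw [isConj_iff] at hconj'
    obtain ⟨t, ht⟩ := hconj'
    apply hc
    rw [hF c]
    refine ⟨t, ?_, ht⟩
    exact Cfsg.Agent.Lib.Helper29.DOTI.mem_Nz_of_conj_mem_P P hP hx0P hx01 (by rw [ht]; exact hpowP _)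
  · -- `(x0^c)^c ~ x0`
    intro g hg
    rw [← pow_val_mul x0 hx0p c c]
    have := hconj (c * c) hcc 1 g hg
    rw [mul_one, hone, pow_one] at this
    exact this
  · -- the sum over `P \ 1`
    intro g hg
    -- the bijection `(ℤ/p)ˣ → P \ 1`
    have hbij : Set.BijOn (fun u : (ZMod p)ˣ => x0 ^ (u : ZMod p).val) Set.univ
        {a : G | a ∈ P ∧ a ≠ 1} := by
      refine ⟨?_, ?_, ?_⟩
      · intro u _
        refine ⟨hpowP _, ?_⟩
        intro e
        have h1 : p ∣ (u : ZMod p).val := by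
          have := orderOf_dvd_of_pow_eq_one e
          rwa [hord] at this
        have h2 : ((u : ZMod p).val : ZMod p) = 0 := (ZMod.natCast_eq_zero_iff _ _).mpr h1
        rw [ZMod.natCast_zmod_val] at h2
        exact u.ne_zero h2
      · intro u _ u' _ e
        have e' : x0 ^ (u : ZMod p).val = x0 ^ (u' : ZMod p).val := e
        rw [pow_eq_pow_iff_modEq, hord] at e'
        have h1 : (u : ZMod p).val = (u' : ZMod p).val :=
          Nat.ModEq.eq_of_lt_of_lt e' (ZMod.val_lt _) (ZMod.val_lt _)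
        exact Units.ext (ZMod.val_injective p h1)
      · rintro a ⟨haP, ha1⟩
        rw [hx0] at haP
        obtain ⟨k, rfl⟩ := Subgroup.mem_zpowers_iff.mp haP
        -- the residue of `k`
        have hk0 : ((k : ℤ) : ZMod p) ≠ 0 := by
          intro e
          apply ha1
          have : (p : ℤ) ∣ k := (ZMod.intCast_zmod_eq_zero_iff_dvd k p).mp e
          obtain ⟨m, rfl⟩ := this
          rw [zpow_mul, zpow_natCast, hx0p, one_zpow]
        refine ⟨Units.mk0 ((k : ℤ) : ZMod p) hk0, Set.mem_univ _, ?_⟩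
        show x0 ^ ((Units.mk0 ((k : ℤ) : ZMod p) hk0 : (ZMod p)ˣ) : ZMod p).val = x0 ^ k
        rw [Units.val_mk0, ← zpow_natCast]
        have h3 : (((k : ZMod p).val : ℕ) : ℤ) ≡ k [ZMOD (p : ℤ)] := by
          rw [← ZMod.intCast_eq_intCast_iff]
          push_cast
          rw [ZMod.natCast_zmod_val]
        have h4 := h3.dvd
        obtain ⟨m, hm⟩ := h4
        have : (k : ℤ) = (((k : ZMod p).val : ℕ) : ℤ) + (p : ℤ) * m := by rw [← hm]; ring
        conv_rhs => rw [this]
        rw [zpow_add, zpow_mul, zpow_natCast x0 p, hx0p, one_zpow, mul_one]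
    rw [← finsum_mem_eq_of_bijOn (fun u : (ZMod p)ˣ => x0 ^ (u : ZMod p).val) hbij
      (f := fun u : (ZMod p)ˣ => g (x0 ^ (u : ZMod p).val)) (fun u _ => rfl),
      finsum_mem_univ, finsum_eq_sum_of_fintype]
    -- split according to `u ∈ F`
    have hval : ∀ u : (ZMod p)ˣ, g (x0 ^ (u : ZMod p).val) =
        if u ∈ F then g x0 else g (x0 ^ (c : ZMod p).val) := by
      intro u
      split_ifs with hu
      · have := hconj u hu 1 g hg
        rw [mul_one, hone, pow_one] at this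
        exact this
      · have hcinv : c⁻¹ ∉ F := fun h => hc (by simpa using F.inv_mem h)
        have hw : u * c⁻¹ ∈ F := by
          rw [Subgroup.mul_mem_iff_of_index_two hidx]
          exact ⟨fun h => absurd h hu, fun h => absurd h hcinv⟩
        have := hconj (u * c⁻¹) hw c g hg
        rw [inv_mul_cancel_right] at this
        exact this
    rw [Finset.sum_congr rfl (fun u _ => hval u)]
    rw [Finset.sum_ite, Finset.sum_const, Finset.sum_const, nsmul_eq_mul, nsmul_eq_mul]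
    have hc1 : (Finset.univ.filter (fun u : (ZMod p)ˣ => u ∈ F)).card = f := by
      rw [← hFcard, Nat.card_eq_fintype_card, Fintype.card_subtype]
    have hc2 : (Finset.univ.filter (fun u : (ZMod p)ˣ => ¬ u ∈ F)).card = f := by
      have h1 := Finset.card_filter_add_card_filter_not (s := (Finset.univ : Finset (ZMod p)ˣ))
        (fun u : (ZMod p)ˣ => u ∈ F)
      rw [hc1, Finset.card_univ, ZMod.card_units p, ← h2f] at h1
      omega
    rw [hc1, hc2]
    ring

end Cfsg.Agent.Lib.Helper15.BRVICLS
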