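/-
S4504 CORE step (VI) (sub-planner helper23), leaf BRVI-FIN `card_sylow_of_le` (frozen statement in
notes/S4504_VI_leaves.lean): the Sylow count.  `|C_G(P)| = p |Z|` (BRP-CCZ), `|N_G(P)| = f p |Z|`,
`|Syl_p G| = |G : N_G(P)| ≤ p + 1`, `≡ 1 (mod p)`, `≠ 1`.
-/
import Mathlib
import Cfsg.Prelude.Def_BlockRank
import Cfsg.Agent.Lib.Helper27.DODefs
import Cfsg.Agent.Lib.Helper29.DOTI
import Cfsg.Agent.Lib.Helper15.BRPCCZ

set_option autoImplicit false
set_option linter.unusedSectionVars false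

namespace Cfsg.Agent.Lib.Helper15.BRVIFIN

open Cfsg Cfsg.Agent.Lib.Helper8.DOM Cfsg.Agent.Lib.Helper27.DO

universe u

variable {G : Type u} [Group G] [Finite G] {p : ℕ} [Fact p.Prime]

/-- FIN : the Sylow count. -/
theorem card_sylow_of_le (P : Subgroup G) (hP : Nat.card P = p) (hSyl : ¬ p ∣ P.index) (hnn : ¬ P.Normal)
    (hV : ∀ y ∈ Cz P, ¬ p ∣ orderOf y → y ∈ Subgroup.center G)
    (hle : Nat.card G ≤ Nat.card (Subgroup.center G) * p * (Cz P).relIndex (Nz P) * (p + 1)) :
    Nat.card (Sylow p G) = p + 1 := by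
  classical
  have hp : p.Prime := Fact.out
  have hPp : IsPGroup p P := Cfsg.Agent.Lib.Helper29.DOTI.isPGroup_of_card P hP
  set Q : Sylow p G := hPp.toSylow hSyl with hQ
  have hQP : (Q : Subgroup G) = P := IsPGroup.toSylow_coe hPp hSyl
  -- `|C| = p |Z|`, `|N| = f |C|`
  have hC : Nat.card (Cz P) = p * Nat.card (Subgroup.center G) :=
    Cfsg.Agent.Lib.Helper15.BRPCCZ.card_Cz_eq P hP hSyl hnn hV
  have hCN : Cz P ≤ Nz P := Subgroup.centralizer_le_normalizer _
  have hN : (Cz P).relIndex (Nz P) * Nat.card (Cz P) = Nat.card (Nz P) := by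
    rw [Subgroup.relIndex, ← Subgroup.card_mul_index ((Cz P).subgroupOf (Nz P)), mul_comm,
      Nat.card_congr (Subgroup.subgroupOfEquivOfLe hCN).toEquiv]
  -- `|Syl| * |N| = |G|`
  have hS : Nat.card (Sylow p G) * Nat.card (Nz P) = Nat.card G := by
    have e : Subgroup.normalizer (Q : Set G) = Nz P := by
      have : (Q : Set G) = (P : Set G) := by rw [← hQP]; rfl
      rw [this]
    rw [Sylow.card_eq_index_normalizer Q, e, mul_comm]
    exact Subgroup.card_mul_index (Nz P)
  have hNpos : 0 < Nat.card (Nz P) := Nat.card_pos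
  have hbound : Nat.card (Sylow p G) ≤ p + 1 := by
    have h1 : Nat.card (Sylow p G) * Nat.card (Nz P) ≤ (p + 1) * Nat.card (Nz P) := by
      rw [hS, ← hN, hC]
      calc Nat.card G ≤ Nat.card (Subgroup.center G) * p * (Cz P).relIndex (Nz P) * (p + 1) := hle
        _ = (p + 1) * ((Cz P).relIndex (Nz P) * (p * Nat.card (Subgroup.center G))) := by ring
    exact Nat.le_of_mul_le_mul_right h1 hNpos
  have hmod : Nat.card (Sylow p G) ≡ 1 [MOD p] := card_sylow_modEq_one p G
  have hne1 : Nat.card (Sylow p G) ≠ 1 := by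
    intro h1
    apply hnn
    have hsub : Subsingleton (Sylow p G) := (Nat.card_eq_one_iff_unique.mp h1).1
    have := Sylow.normal_of_subsingleton Q
    rwa [hQP] at this
  have hpos : 0 < Nat.card (Sylow p G) := Nat.card_pos
  -- `1 < s ≤ p + 1`, `s ≡ 1 mod p`
  have h2 : p ∣ Nat.card (Sylow p G) - 1 := (Nat.modEq_iff_dvd' hpos).mp hmod.symm
  obtain ⟨k, hk⟩ := h2
  have hk1 : 1 ≤ k := by
    rcases Nat.eq_zero_or_pos k with h0 | h0
    · rw [h0, mul_zero] at hk
      omega
    · exact h0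
  have hk2 : k ≤ 1 := by
    by_contra hgt
    rw [not_le] at hgt
    have : p * 2 ≤ p * k := Nat.mul_le_mul_left p hgt
    have hp2 := hp.two_le
    omega
  have : k = 1 := le_antisymm hk2 hk1
  rw [this, mul_one] at hk
  omega

end Cfsg.Agent.Lib.Helper15.BRVIFIN
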