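import Mathlib
import Cfsg.Prelude.Def_Characters
import Cfsg.Agent.Lib.Helper24.BSWDefs

/-!
helper15: leaf M1 `normalizer_D` of helper24's S3282 market (Brauer-Suzuki-Wall, abstract form), in `_of` form over the
conclusions of the leaves G2 (`invCount_eq_card`) and G4 (`normalizer_struct`).
-/

set_option autoImplicit false
open Cfsg Cfsg.Agent.Lib.Helper24.BSW

namespace Cfsg.Agent.Lib.Helper15.BSWM1Of

variable {G : Type*} [Group G] [Finite G]

omit [Finite G] in
/-- an involution inverting `d` normalizes `C(d)`. -/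
theorem mem_normalizer_centralizer {d u : G} (hu2 : orderOf u = 2) (hud : u * d * u⁻¹ = d⁻¹) :
    u ∈ Subgroup.normalizer ((Subgroup.centralizer ({d} : Set G) : Subgroup G) : Set G) := by
  have huu : u * u = 1 := by rw [← sq, ← hu2]; exact pow_orderOf_eq_one u
  have huinv : u⁻¹ = u := inv_eq_of_mul_eq_one_left huu
  have hud' : u * d * u = d⁻¹ := by rw [← hud, huinv]
  rw [Subgroup.mem_normalizer_iff]
  intro c
  rw [Subgroup.mem_centralizer_singleton_iff, Subgroup.mem_centralizer_singleton_iff, huinv]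
  have hd1 : d * u = u * d⁻¹ := by
    have : u * (u * d * u) = u * d⁻¹ := by rw [hud']
    rw [← mul_assoc, ← mul_assoc, huu, one_mul] at this
    exact this
  have hd2 : u * d = d⁻¹ * u := by
    have : (u * d * u) * u = d⁻¹ * u := by rw [hud']
    rw [mul_assoc, huu, mul_one] at this
    exact this
  constructor
  · intro hc
    -- c d = d c ⊢ u c u d = d u c u
    have hc' : c * d⁻¹ = d⁻¹ * c := by
      have := congrArg (fun z => d⁻¹ * z * d⁻¹) hc
      simp only [mul_assoc, mul_inv_cancel, mul_one] at this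
      rw [← mul_assoc, ← mul_assoc, inv_mul_cancel, one_mul] at this
      exact this.symm
    calc u * c * u * d = u * c * (u * d) := by group
      _ = u * c * (d⁻¹ * u) := by rw [hd2]
      _ = u * (c * d⁻¹) * u := by group
      _ = u * (d⁻¹ * c) * u := by rw [hc']
      _ = (u * d⁻¹) * c * u := by group
      _ = (d * u) * c * u := by rw [hd1]
      _ = d * (u * c * u) := by group
  · intro hc
    -- u c u d = d u c u ⊢ c d = d c
    have h1 : u * (u * c * u * d) * u = u * (d * (u * c * u)) * u := by rw [hc]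
    have e1 : u * (u * c * u * d) * u = c * (u * d * u) := by
      calc u * (u * c * u * d) * u = (u * u) * c * (u * d * u) := by group
        _ = c * (u * d * u) := by rw [huu, one_mul]
    have e2 : u * (d * (u * c * u)) * u = (u * d * u) * c := by
      calc u * (d * (u * c * u)) * u = (u * d * u) * c * (u * u) := by group
        _ = (u * d * u) * c := by rw [huu, mul_one]
    rw [e1, e2, hud'] at h1
    -- c d⁻¹ = d⁻¹ c
    have := congrArg (fun z => d * z * d) h1
    simp only [mul_assoc, inv_mul_cancel, mul_one] at this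
    rw [← mul_assoc, ← mul_assoc, mul_inv_cancel, one_mul] at this
    exact this.symm

/-- **M1**, `_of` form. -/
theorem normalizer_D_of {t s : G} {K : Subgroup G} (h : Hyp t s K) (hk : 4 ≤ Nat.card K)
    {X : G → ℂ} (hM : DataM K X)
    (hG2 : ∀ y ∈ RR K, ∀ u : G, orderOf u = 2 → u * y * u⁻¹ = y⁻¹ →
      invCount y = Nat.card (Subgroup.centralizer ({y} : Set G)))
    (hG4 : ∀ y ∈ RR K, ∀ u : G, orderOf u = 2 → u * y * u⁻¹ = y⁻¹ →
      Nat.card (Subgroup.normalizer ((Subgroup.centralizer ({y} : Set G) : Subgroup G) : Set G)) =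
        Nat.card (Subgroup.centralizer ({y} : Set G)) *
          Nat.card ↥(Subgroup.normalizer ((Subgroup.centralizer ({y} : Set G) : Subgroup G) : Set G)
            ⊓ Subgroup.centralizer ({u} : Set G)) ∧
      (∀ x : G, x * t * x⁻¹ = u →
        Subgroup.normalizer ((Subgroup.centralizer ({y} : Set G) : Subgroup G) : Set G)
            ⊓ Subgroup.centralizer ({u} : Set G) ≤ K.map (MulAut.conj x).toMonoidHom) ∧
      Nat.card ↥(Subgroup.normalizer ((Subgroup.centralizer ({y} : Set G) : Subgroup G) : Set G)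
            ⊓ Subgroup.centralizer ({u} : Set G)) ∣
        Nat.card (Subgroup.centralizer ({y} : Set G)) - 1) :
    ∀ d ∈ RR K, ∀ u : G, orderOf u = 2 → u * d * u⁻¹ = d⁻¹ →
      Nat.card (Subgroup.centralizer ({d} : Set G)) = Nat.card K - 1 ∧
      Subgroup.normalizer ((Subgroup.centralizer ({d} : Set G) : Subgroup G) : Set G) =
        Subgroup.centralizer ({d} : Set G) ⊔ Subgroup.zpowers u := by
  intro d hd u hu2 hud
  -- invCount d ≠ 0
  have hne : invCount d ≠ 0 := by
    unfold invCount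
    have : Nonempty {v : G // orderOf v = 2 ∧ v * d * v⁻¹ = d⁻¹} := ⟨⟨u, hu2, hud⟩⟩
    exact Nat.card_pos.ne'
  have hinv : invCount d = Nat.card K - 1 := by
    rcases hM.onRR d hd with ⟨-, h0⟩ | ⟨-, h1⟩
    · exact absurd h0 hne
    · exact h1
  have hcardC : Nat.card (Subgroup.centralizer ({d} : Set G)) = Nat.card K - 1 := by
    rw [← hG2 d hd u hu2 hud]; exact hinv
  refine ⟨hcardC, ?_⟩
  obtain ⟨hN, hE, hdiv⟩ := hG4 d hd u hu2 hud
  obtain ⟨x, hx⟩ := isConj_iff.mp (h.hconj t u h.ht hu2)
  -- abbreviations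
  obtain ⟨C, hC⟩ : ∃ C : Subgroup G, C = Subgroup.centralizer ({d} : Set G) := ⟨_, rfl⟩
  obtain ⟨E, hEdef⟩ : ∃ E : Subgroup G, E = Subgroup.normalizer (C : Set G) ⊓ Subgroup.centralizer ({u} : Set G) :=
    ⟨_, rfl⟩
  rw [← hC] at hcardC hN hE hdiv ⊢
  rw [← hEdef] at hN hdiv
  have hEK : E ≤ K.map (MulAut.conj x).toMonoidHom := hEdef ▸ hE x hx
  have hcardmap : Nat.card (K.map (MulAut.conj x).toMonoidHom) = Nat.card K :=
    Subgroup.card_map_of_injective (MulAut.conj x).injective
  have hd1 : Nat.card E ∣ Nat.card K := hcardmap ▸ Subgroup.card_dvd_of_le hEK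
  have hd2 : Nat.card E ∣ Nat.card K - 2 := by
    have : Nat.card K - 1 - 1 = Nat.card K - 2 := by omega
    rw [hcardC, this] at hdiv; exact hdiv
  have hd3 : Nat.card E ∣ 2 := by
    have := Nat.dvd_sub hd1 hd2
    have e : Nat.card K - (Nat.card K - 2) = 2 := by omega
    rwa [e] at this
  have huN : u ∈ Subgroup.normalizer (C : Set G) := hC ▸ mem_normalizer_centralizer hu2 hud
  have huE : u ∈ E := by
    rw [hEdef]
    exact ⟨huN, Subgroup.mem_centralizer_singleton_iff.mpr rfl⟩
  have hu1 : u ≠ 1 := by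
    intro h1; rw [h1, orderOf_one] at hu2; omega
  have hE2 : Nat.card E = 2 := by
    rcases (Nat.dvd_prime Nat.prime_two).mp hd3 with h1 | h2
    · exfalso
      have : E = ⊥ := Subgroup.card_eq_one.mp h1
      rw [this, Subgroup.mem_bot] at huE
      exact hu1 huE
    · exact h2
  rw [hE2] at hN
  -- `u ∉ C`
  have huC : u ∉ C := by
    intro hmem
    rw [hC, Subgroup.mem_centralizer_singleton_iff] at hmem
    -- u d = d u, so d = d⁻¹
    have h1 : d = d⁻¹ := by
      rw [← hud, hmem, mul_assoc, mul_inv_cancel, mul_one]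
    have h2 : d * d = 1 := by
      nth_rewrite 2 [h1]; exact mul_inv_cancel d
    have hd1' : d ≠ 1 := hd.1
    have h3 : orderOf d = 2 := orderOf_eq_prime (by rw [sq]; exact h2) hd1'
    obtain ⟨c, hc⟩ := isConj_iff.mp (h.hconj t d h.ht h3)
    apply hd.2 c⁻¹
    have : c⁻¹ * d * c⁻¹⁻¹ = t := by rw [← hc]; group
    rw [this]; exact h.htK
  -- the sup
  have hSN : C ⊔ Subgroup.zpowers u ≤ Subgroup.normalizer (C : Set G) :=
    sup_le Subgroup.le_normalizer (by rw [Subgroup.zpowers_le]; exact huN)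
  have hCS : C ≤ C ⊔ Subgroup.zpowers u := le_sup_left
  obtain ⟨m, hm⟩ := Subgroup.card_dvd_of_le hCS
  have hcpos : 0 < Nat.card C := Nat.card_pos
  have hm2 : m ∣ 2 := by
    have h1 : Nat.card (C ⊔ Subgroup.zpowers u : Subgroup G) ∣ Nat.card C * 2 :=
      hN ▸ Subgroup.card_dvd_of_le hSN
    rw [hm] at h1
    exact (Nat.mul_dvd_mul_iff_left hcpos).mp h1
  have hm1 : m ≠ 1 := by
    intro h1
    rw [h1, mul_one] at hm
    have : C = C ⊔ Subgroup.zpowers u := Subgroup.eq_of_le_of_card_ge hCS (le_of_eq hm)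
    apply huC
    rw [this]
    exact le_sup_right (a := C) (Subgroup.mem_zpowers u)
  have hm2' : m = 2 := by
    rcases (Nat.dvd_prime Nat.prime_two).mp hm2 with h1 | h2
    · exact absurd h1 hm1
    · exact h2
  rw [hm2'] at hm
  exact (Subgroup.eq_of_le_of_card_ge hSN (by rw [hN, hm])).symm

end Cfsg.Agent.Lib.Helper15.BSWM1Of
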