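import Mathlib
import Cfsg.Prelude.Def_Characters
import Cfsg.Agent.Lib.Helper24.BSWDefs

/-!
helper15: leaf M2 `last_clause_D` of helper24's S3282 market (Brauer-Suzuki-Wall, abstract form), in `_of` form over the
conclusions of the leaves G1 (`inverts_centralizer`), G3 (`centralizer_eq_of_mem`) and M1 (`normalizer_D`).
-/

set_option autoImplicit false
open Cfsg Cfsg.Agent.Lib.Helper24.BSW

namespace Cfsg.Agent.Lib.Helper15.BSWM2Of

variable {G : Type*} [Group G]

/-- an involution inverting `d ∈ RR K` does not centralize `d`. -/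
theorem not_mem_centralizer_of_inverts {t s : G} {K : Subgroup G} (h : Hyp t s K) {d u : G}
    (hd : d ∈ RR K) (hud : u * d * u⁻¹ = d⁻¹) : u ∉ Subgroup.centralizer ({d} : Set G) := by
  intro hmem
  rw [Subgroup.mem_centralizer_singleton_iff] at hmem
  have h1 : d = d⁻¹ := by
    rw [← hud, hmem, mul_assoc, mul_inv_cancel, mul_one]
  have h2 : d * d = 1 := by
    nth_rewrite 2 [h1]; exact mul_inv_cancel d
  have h3 : orderOf d = 2 := orderOf_eq_prime (by rw [sq]; exact h2) hd.1
  obtain ⟨c, hc⟩ := isConj_iff.mp (h.hconj t d h.ht h3)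
  apply hd.2 c⁻¹
  have : c⁻¹ * d * c⁻¹⁻¹ = t := by rw [← hc]; group
  rw [this]; exact h.htK

/-- **M2**, `_of` form. -/
theorem last_clause_D_of {t s : G} {K : Subgroup G} (h : Hyp t s K)
    (hG1 : ∀ y ∈ RR K, ∀ u : G, orderOf u = 2 → u * y * u⁻¹ = y⁻¹ →
      ∀ c ∈ Subgroup.centralizer ({y} : Set G), u * c * u⁻¹ = c⁻¹)
    (hG3 : ∀ y ∈ RR K, ∀ u : G, orderOf u = 2 → u * y * u⁻¹ = y⁻¹ →
      (∀ a ∈ Subgroup.centralizer ({y} : Set G), ∀ b ∈ Subgroup.centralizer ({y} : Set G),
        a * b = b * a) ∧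
      ∀ z ∈ Subgroup.centralizer ({y} : Set G), z ≠ 1 →
        Subgroup.centralizer ({z} : Set G) = Subgroup.centralizer ({y} : Set G))
    (hM1 : ∀ d ∈ RR K, ∀ u : G, orderOf u = 2 → u * d * u⁻¹ = d⁻¹ →
      Nat.card (Subgroup.centralizer ({d} : Set G)) = Nat.card K - 1 ∧
      Subgroup.normalizer ((Subgroup.centralizer ({d} : Set G) : Subgroup G) : Set G) =
        Subgroup.centralizer ({d} : Set G) ⊔ Subgroup.zpowers u) :
    ∀ d ∈ RR K, ∀ u : G, orderOf u = 2 → u * d * u⁻¹ = d⁻¹ →
      ∀ Y : Subgroup G, Y ≤ Subgroup.centralizer ({d} : Set G) → Y ≠ ⊥ →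
        Subgroup.normalizer (Y : Set G) =
          Subgroup.normalizer ((Subgroup.centralizer ({d} : Set G) : Subgroup G) : Set G) ∧
        ∃ u' : G, orderOf u' = 2 ∧ u' ∉ Subgroup.centralizer ({d} : Set G) ∧
          (∀ c ∈ Subgroup.centralizer ({d} : Set G), u' * c * u'⁻¹ = c⁻¹) ∧
          Subgroup.normalizer ((Subgroup.centralizer ({d} : Set G) : Subgroup G) : Set G) =
            Subgroup.centralizer ({d} : Set G) ⊔ Subgroup.zpowers u' := by
  intro d hd u hu2 hud Y hY hY1
  have hinvD := hG1 d hd u hu2 hud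
  obtain ⟨hab, hcz⟩ := hG3 d hd u hu2 hud
  obtain ⟨-, hND⟩ := hM1 d hd u hu2 hud
  have huu : u * u = 1 := by rw [← sq, ← hu2]; exact pow_orderOf_eq_one u
  have huinv : u⁻¹ = u := inv_eq_of_mul_eq_one_left huu
  refine ⟨?_, u, hu2, not_mem_centralizer_of_inverts h hd hud, hinvD, hND⟩
  apply le_antisymm
  · -- N(Y) ≤ N(D)
    intro g hg
    obtain ⟨z, hzY, hz1⟩ : ∃ z ∈ Y, z ≠ 1 := by
      by_contra hcon
      push Not at hcon
      exact hY1 ((Subgroup.eq_bot_iff_forall _).mpr hcon)
    have hgz : g * z * g⁻¹ ∈ Y := (Subgroup.mem_normalizer_iff.mp hg z).mp hzY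
    have hgz1 : g * z * g⁻¹ ≠ 1 := by
      intro h1
      apply hz1
      have : z = g⁻¹ * (g * z * g⁻¹) * g := by group
      rw [this, h1]; group
    have hCz := hcz z (hY hzY) hz1
    have hCgz := hcz (g * z * g⁻¹) (hY hgz) hgz1
    rw [Subgroup.mem_normalizer_iff]
    intro c
    have e1 : c ∈ Subgroup.centralizer ({d} : Set G) ↔ c * z = z * c := by
      rw [← hCz, Subgroup.mem_centralizer_singleton_iff]
    have e2 : g * c * g⁻¹ ∈ Subgroup.centralizer ({d} : Set G) ↔
        g * c * g⁻¹ * (g * z * g⁻¹) = g * z * g⁻¹ * (g * c * g⁻¹) := by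
      rw [← hCgz, Subgroup.mem_centralizer_singleton_iff]
    rw [e1, e2]
    constructor
    · intro hc
      calc g * c * g⁻¹ * (g * z * g⁻¹) = g * (c * z) * g⁻¹ := by group
        _ = g * (z * c) * g⁻¹ := by rw [hc]
        _ = g * z * g⁻¹ * (g * c * g⁻¹) := by group
    · intro hc
      have : g⁻¹ * (g * c * g⁻¹ * (g * z * g⁻¹)) * g = g⁻¹ * (g * z * g⁻¹ * (g * c * g⁻¹)) * g := by rw [hc]
      have e1 : g⁻¹ * (g * c * g⁻¹ * (g * z * g⁻¹)) * g = c * z := by group
      have e2 : g⁻¹ * (g * z * g⁻¹ * (g * c * g⁻¹)) * g = z * c := by group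
      rw [e1, e2] at this
      exact this
  · -- N(D) ≤ N(Y)
    rw [hND]
    apply sup_le
    · intro c hc
      rw [Subgroup.mem_normalizer_iff]
      intro y
      constructor
      · intro hy
        have : c * y * c⁻¹ = y := by
          rw [hab c hc y (hY hy), mul_assoc, mul_inv_cancel, mul_one]
        rw [this]; exact hy
      · intro hy
        have hc' : c⁻¹ ∈ Subgroup.centralizer ({d} : Set G) := Subgroup.inv_mem _ hc
        have : y = c * y * c⁻¹ := by
          have e := hab c⁻¹ hc' (c * y * c⁻¹) (hY hy)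
          -- c⁻¹ * (c y c⁻¹) = (c y c⁻¹) * c⁻¹
          have e1 : c⁻¹ * (c * y * c⁻¹) = y * c⁻¹ := by group
          rw [e1] at e
          have := congrArg (fun w => w * c) e
          simp only [inv_mul_cancel_right] at this
          exact this
        rw [this]; exact hy
    · rw [Subgroup.zpowers_le, Subgroup.mem_normalizer_iff]
      intro y
      constructor
      · intro hy
        rw [hinvD y (hY hy)]
        exact Y.inv_mem hy
      · intro hy
        have h1 := hinvD (u * y * u⁻¹) (hY hy)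
        have h2 : u * (u * y * u⁻¹) * u⁻¹ = y := by
          rw [huinv]
          calc u * (u * y * u) * u = (u * u) * y * (u * u) := by group
            _ = y := by rw [huu, one_mul, mul_one]
        rw [h2] at h1
        rw [h1]
        exact Y.inv_mem hy

end Cfsg.Agent.Lib.Helper15.BSWM2Of
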