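import Cfsg.Agent.Lib.Helper15.SuzukiOrder

/-!
# The Sylow 2-subgroup of the Suzuki group (helper15)
-/

set_option autoImplicit false

namespace Cfsg.Agent.Lib.Helper15.SuzukiSylow

open Cfsg.Agent.Lib.Helper15.SuzukiAlg Cfsg.Agent.Lib.Helper15.SuzukiOvoid
  Cfsg.Agent.Lib.Helper15.SuzukiForm Cfsg.Agent.Lib.Helper15.SuzukiMat
  Cfsg.Agent.Lib.Helper15.SuzukiGroup Cfsg.Agent.Lib.Helper15.SuzukiOrder Matrix
open scoped Pointwise commutatorElement

/-! ### general transport lemmas -/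

theorem mem_center_equiv {G H : Type*} [Group G] [Group H] (e : G ≃* H) (x : G) :
    x ∈ Subgroup.center G ↔ e x ∈ Subgroup.center H := by
  simp only [Subgroup.mem_center_iff]
  constructor
  · intro hx y
    obtain ⟨y', rfl⟩ := e.surjective y
    rw [← map_mul, ← map_mul, hx]
  · intro hx y
    apply e.injective
    rw [map_mul, map_mul, hx]

theorem mem_commutator_equiv {G H : Type*} [Group G] [Group H] (e : G ≃* H) (x : G) :
    x ∈ commutator G ↔ e x ∈ commutator H := by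
  have h1 : commutator H = (commutator G).map e.toMonoidHom := by
    rw [commutator_def, commutator_def, Subgroup.map_commutator,
      Subgroup.map_top_of_surjective _ e.surjective]
  rw [h1]
  constructor
  · intro hx
    exact ⟨x, hx, rfl⟩
  · rintro ⟨y, hy, hxy⟩
    have : y = x := e.injective hxy
    rw [← this]; exact hy

theorem center_eq_commutator_of_equiv {G H : Type*} [Group G] [Group H] (e : G ≃* H)
    (h : Subgroup.center H = commutator H) : Subgroup.center G = commutator G := by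
  ext x
  rw [mem_center_equiv e, mem_commutator_equiv e, h]

variable {F : Type*} [Field F] [Fintype F] {m : ℕ} (hF : Fintype.card F = 2 ^ (2 * m + 1))

include hF in
theorem T_inj {a b a' b' : F}
    (h : T (two_eq_zero hF) m a b = T (two_eq_zero hF) m a' b') : a = a' ∧ b = b' := by
  have h1 := congrArg (fun g : Matrix.SpecialLinearGroup (Fin 4) F =>
    (g : Matrix (Fin 4) (Fin 4) F) 2 3) h
  have h3 := congrArg (fun g : Matrix.SpecialLinearGroup (Fin 4) F =>
    (g : Matrix (Fin 4) (Fin 4) F) 1 3) h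
  exact ⟨h1, h3⟩

/-- the subgroup of translations -/
def QS : Subgroup (Matrix.SpecialLinearGroup (Fin 4) F) where
  carrier := {g | ∃ a b, g = T (two_eq_zero hF) m a b}
  mul_mem' := by
    rintro _ _ ⟨a, b, rfl⟩ ⟨c, d, rfl⟩
    exact ⟨_, _, T_mul hF a b c d⟩
  one_mem' := ⟨0, 0, (T_zero _ m).symm⟩
  inv_mem' := by
    rintro _ ⟨a, b, rfl⟩
    exact ⟨_, _, T_inv hF a b⟩

theorem mem_QS (g : Matrix.SpecialLinearGroup (Fin 4) F) :
    g ∈ QS hF ↔ ∃ a b, g = T (two_eq_zero hF) m a b := Iff.rfl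

theorem QS_le : QS hF ≤ Cfsg.Sz F m := by
  rintro _ ⟨a, b, rfl⟩
  exact T_mem hF a b

/-- the translations as elements of `QS` -/
def Tq (a b : F) : QS hF := ⟨T (two_eq_zero hF) m a b, a, b, rfl⟩

theorem Tq_surj (x : QS hF) : ∃ a b, x = Tq hF a b := by
  obtain ⟨g, a, b, rfl⟩ := x
  exact ⟨a, b, rfl⟩

theorem Tq_inj {a b a' b' : F} (h : Tq hF a b = Tq hF a' b') : a = a' ∧ b = b' :=
  T_inj hF (congrArg Subtype.val h)

theorem Tq_mul (a b c d : F) :
    Tq hF a b * Tq hF c d = Tq hF (a + c) (b + d + sig (two_eq_zero hF) m a * c) :=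
  Subtype.ext (T_mul hF a b c d)

theorem Tq_zero : Tq hF 0 0 = 1 := Subtype.ext (T_zero _ m)

theorem card_QS : Nat.card (QS hF) = (2 ^ (2 * m + 1)) ^ 2 := by
  have hbij : Function.Bijective (fun p : F × F => Tq hF p.1 p.2) := by
    constructor
    · rintro ⟨a, b⟩ ⟨a', b'⟩ h
      obtain ⟨rfl, rfl⟩ := Tq_inj hF h
      rfl
    · intro x
      obtain ⟨a, b, rfl⟩ := Tq_surj hF x
      exact ⟨(a, b), rfl⟩
  rw [← Nat.card_congr (Equiv.ofBijective _ hbij), Nat.card_prod, Nat.card_eq_fintype_card, hF]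
  ring

theorem Tq_sq (a b : F) : Tq hF a b * Tq hF a b = Tq hF 0 (a * sig (two_eq_zero hF) m a) := by
  have h2 := two_eq_zero hF
  rw [Tq_mul]
  have e1 : a + a = 0 := add_self h2 a
  have e2 : b + b + sig h2 m a * a = a * sig h2 m a := by rw [add_self h2 b, zero_add, mul_comm]
  rw [e1, e2]

theorem Tq_zero_sq (c : F) : Tq hF 0 c * Tq hF 0 c = 1 := by
  rw [Tq_sq, zero_mul, Tq_zero]

theorem pow_four (x : QS hF) : x ^ 4 = 1 := by
  obtain ⟨a, b, rfl⟩ := Tq_surj hF x
  have : Tq hF a b ^ 4 = (Tq hF a b * Tq hF a b) * (Tq hF a b * Tq hF a b) := by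
    simp only [pow_succ, pow_zero, one_mul, mul_assoc]
  rw [this, Tq_sq, Tq_zero_sq]

theorem exponent_QS : Monoid.exponent (QS hF) = 4 := by
  have h2 := two_eq_zero hF
  have hdvd : Monoid.exponent (QS hF) ∣ 4 := Monoid.exponent_dvd_of_forall_pow_eq_one (pow_four hF)
  have hnot : ¬ Monoid.exponent (QS hF) ∣ 2 := by
    intro h
    have h1 : Tq hF 1 0 ^ 2 = 1 := by
      obtain ⟨k, hk⟩ := h
      rw [hk, pow_mul, Monoid.pow_exponent_eq_one, one_pow]
    rw [pow_two, Tq_sq, ← Tq_zero hF] at h1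
    have := (Tq_inj hF h1).2
    simp at this
  have hdvd' : Monoid.exponent (QS hF) ∣ 2 ^ 2 := hdvd
  rw [Nat.dvd_prime_pow Nat.prime_two] at hdvd'
  obtain ⟨k, hk, hk'⟩ := hdvd'
  interval_cases k
  · exfalso; apply hnot; rw [hk']; norm_num
  · exfalso; apply hnot; rw [hk', pow_one]
  · rw [hk']; norm_num

/-- the centre of the translation group, as a set -/
def ZS : Subgroup (QS hF) where
  carrier := {x | ∃ c, x = Tq hF 0 c}
  mul_mem' := by
    rintro _ _ ⟨c, rfl⟩ ⟨d, rfl⟩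
    refine ⟨c + d, ?_⟩
    rw [Tq_mul]
    simp
  one_mem' := ⟨0, (Tq_zero hF).symm⟩
  inv_mem' := by
    rintro _ ⟨c, rfl⟩
    refine ⟨c, ?_⟩
    exact inv_eq_of_mul_eq_one_right (Tq_zero_sq hF c)

theorem card_ZS : Nat.card (ZS hF) = 2 ^ (2 * m + 1) := by
  have hbij : Function.Bijective (fun c : F => (⟨Tq hF 0 c, c, rfl⟩ : ZS hF)) := by
    constructor
    · intro c d h
      have h1 : Tq hF 0 c = Tq hF 0 d := congrArg Subtype.val h
      exact (Tq_inj hF h1).2
    · rintro ⟨_, c, rfl⟩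
      exact ⟨c, rfl⟩
  rw [← Nat.card_congr (Equiv.ofBijective _ hbij), Nat.card_eq_fintype_card, hF]

theorem commutatorElement_Tq (a b c d : F) :
    ⁅Tq hF a b, Tq hF c d⁆ =
      Tq hF 0 (sig (two_eq_zero hF) m a * c + sig (two_eq_zero hF) m c * a) := by
  have h2 := two_eq_zero hF
  rw [commutatorElement_def]
  have h1 : Tq hF a b * Tq hF c d =
      Tq hF 0 (sig h2 m a * c + sig h2 m c * a) * (Tq hF c d * Tq hF a b) := by
    rw [Tq_mul, Tq_mul, Tq_mul]
    have e1 : 0 + (c + a) = a + c := by ring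
    have e2 : sig h2 m a * c + sig h2 m c * a + (d + b + sig h2 m c * a) +
        sig h2 m 0 * (c + a) = b + d + sig h2 m a * c := by
      rw [map_zero, zero_mul, add_zero]
      have := add_self h2 (sig h2 m c * a)
      grind
    rw [e1, e2]
  rw [h1]
  group

include hF in
theorem exists_sig_ne_self (hm : 1 ≤ m) : ∃ t : F, sig (two_eq_zero hF) m t + t ≠ 0 := by
  have h2 := two_eq_zero hF
  obtain ⟨t, ht⟩ := exists_sig_ne hF hm
  by_contra hcon
  push Not at hcon
  have h1 : ∀ t : F, sig h2 m t = t := fun t => eq_of_add_eq_zero h2 (hcon t)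
  apply ht
  rw [← sig_sig h2 hF t, h1, h1]

theorem center_QS (hm : 1 ≤ m) : Subgroup.center (QS hF) = ZS hF := by
  have h2 := two_eq_zero hF
  ext x
  obtain ⟨a, b, rfl⟩ := Tq_surj hF x
  rw [Subgroup.mem_center_iff]
  constructor
  · intro h
    have h1 : ∀ c : F, sig h2 m a * c = sig h2 m c * a := by
      intro c
      have := h (Tq hF c 0)
      rw [Tq_mul, Tq_mul] at this
      have h3 := (Tq_inj hF this).2
      have h4 : (0 : F) + b + sig h2 m c * a = b + 0 + sig h2 m a * c := h3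
      have h5 : sig h2 m c * a = sig h2 m a * c := by
        have : b + sig h2 m c * a = b + sig h2 m a * c := by simpa using h4
        exact add_left_cancel this
      exact h5.symm
    have ha : a = 0 := by
      by_contra ha
      obtain ⟨t, ht⟩ := exists_sig_ne_self hF hm
      have h3 := h1 1
      rw [map_one, mul_one, one_mul] at h3
      have h4 := h1 t
      rw [h3] at h4
      apply ht
      have h5 : a * (sig h2 m t + t) = 0 := by
        rw [mul_add, mul_comm a (sig h2 m t), ← h4]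
        exact add_self h2 _
      rcases mul_eq_zero.mp h5 with h6 | h6
      · exact absurd h6 ha
      · exact h6
    subst ha
    exact ⟨b, rfl⟩
  · rintro ⟨c, hc⟩
    obtain ⟨rfl, rfl⟩ := Tq_inj hF hc
    intro y
    obtain ⟨c', d', rfl⟩ := Tq_surj hF y
    rw [Tq_mul, Tq_mul]
    congr 1
    · ring
    · simp
      ring

theorem commutator_QS (hm : 1 ≤ m) : commutator (QS hF) = ZS hF := by
  have h2 := two_eq_zero hF
  have hσ := sig_sig h2 hF
  apply le_antisymm
  · rw [commutator_def, Subgroup.commutator_le]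
    intro x _ y _
    obtain ⟨a, b, rfl⟩ := Tq_surj hF x
    obtain ⟨c, d, rfl⟩ := Tq_surj hF y
    rw [commutatorElement_Tq]
    exact ⟨_, rfl⟩
  · rintro _ ⟨b, rfl⟩
    by_cases hb : b = 0
    · rw [hb, Tq_zero]; exact Subgroup.one_mem _
    obtain ⟨t, ht⟩ := exists_sig_ne_self hF hm
    obtain ⟨w, hw⟩ : ∃ w, w = sig h2 m t + t := ⟨_, rfl⟩
    rw [← hw] at ht
    obtain ⟨κ, hκ⟩ : ∃ κ, κ = b / w := ⟨_, rfl⟩
    have hκ0 : κ ≠ 0 := by rw [hκ]; exact div_ne_zero hb ht
    have hsκ : sig h2 m κ ≠ 0 := fun h => hκ0 ((map_eq_zero _).mp h)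
    obtain ⟨c, hc⟩ : ∃ c, c = sig h2 m κ / κ := ⟨_, rfl⟩
    have hcc : c * sig h2 m c = κ := by
      rw [hc, map_div₀, hσ]
      field_simp
    have key : sig h2 m (t * c) * c + sig h2 m c * (t * c) = b := by
      rw [map_mul]
      have : sig h2 m t * sig h2 m c * c + sig h2 m c * (t * c) = (c * sig h2 m c) * w := by
        rw [hw]; ring
      rw [this, hcc, hκ]
      field_simp
    have h1 := commutatorElement_Tq hF (t * c) 0 c 0
    rw [key] at h1
    rw [← h1, commutator_def]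
    exact Subgroup.commutator_mem_commutator (Subgroup.mem_top _) (Subgroup.mem_top _)

theorem factorization_two_aux (k r : ℕ) (hr : ¬ 2 ∣ r) : (2 ^ k * r).factorization 2 = k := by
  have hr0 : r ≠ 0 := by
    intro h; rw [h] at hr; exact hr (dvd_zero 2)
  rw [Nat.factorization_mul (by positivity) hr0, Nat.Prime.factorization_pow Nat.prime_two]
  simp only [Finsupp.coe_add, Pi.add_apply, Finsupp.single_eq_same]
  rw [Nat.factorization_eq_zero_of_not_dvd hr, add_zero]

theorem factorization_two (m : ℕ) :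
    ((2 ^ (2 * m + 1)) ^ 2 * ((2 ^ (2 * m + 1)) ^ 2 + 1) * (2 ^ (2 * m + 1) - 1)).factorization 2 =
      2 * (2 * m + 1) := by
  obtain ⟨j, hj, hq⟩ : ∃ j : ℕ, 1 ≤ j ∧ 2 ^ (2 * m + 1) = 2 * j :=
    ⟨2 ^ (2 * m), Nat.one_le_two_pow, by rw [pow_succ]; ring⟩
  have hr : ¬ 2 ∣ ((2 ^ (2 * m + 1)) ^ 2 + 1) * (2 ^ (2 * m + 1) - 1) := by
    intro h
    rcases (Nat.Prime.dvd_mul Nat.prime_two).mp h with h1 | h1
    · rw [hq] at h1
      have : (2 * j) ^ 2 + 1 = 2 * (2 * j * j) + 1 := by ring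
      rw [this] at h1
      omega
    · rw [hq] at h1
      omega
  have := factorization_two_aux (2 * (2 * m + 1)) _ hr
  rw [← this]
  congr 2
  rw [mul_assoc]
  congr 1
  rw [← pow_mul, mul_comm]

include hF in
theorem sylow_structure (hm : 1 ≤ m) (P : Sylow 2 (Cfsg.Sz F m)) :
    Nat.card P = (2 ^ (2 * m + 1)) ^ 2 ∧ Monoid.exponent P = 4 ∧
      Subgroup.center P = commutator P ∧ Nat.card (Subgroup.center P) = 2 ^ (2 * m + 1) := by
  have eQ : (QS hF).subgroupOf (Cfsg.Sz F m) ≃* QS hF := Subgroup.subgroupOfEquivOfLe (QS_le hF)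
  have hcardQ : Nat.card ((QS hF).subgroupOf (Cfsg.Sz F m)) = (2 ^ (2 * m + 1)) ^ 2 := by
    rw [Nat.card_congr eQ.toEquiv, card_QS]
  have hcard : Nat.card ((QS hF).subgroupOf (Cfsg.Sz F m)) =
      2 ^ (Nat.card (Cfsg.Sz F m)).factorization 2 := by
    rw [hcardQ, card_Sz hF hm, factorization_two, ← pow_mul, mul_comm]
  let QSyl : Sylow 2 (Cfsg.Sz F m) := Sylow.ofCard _ hcard
  have e : P ≃* QS hF := (Sylow.equiv P QSyl).trans eQ
  refine ⟨?_, ?_, ?_, ?_⟩
  · rw [Nat.card_congr e.toEquiv, card_QS]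
  · rw [Monoid.exponent_eq_of_mulEquiv e, exponent_QS]
  · exact center_eq_commutator_of_equiv e ((center_QS hF hm).trans (commutator_QS hF hm).symm)
  · rw [Nat.card_congr (Subgroup.centerCongr e).toEquiv, center_QS hF hm, card_ZS]

end Cfsg.Agent.Lib.Helper15.SuzukiSylow
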