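/-
helper15: leaf szEA of helper16's S2752 market "SF" (`notes/S2752_leaves.lean`):
elementary abelian `2`-subgroups of `Sz(q)` have order `≤ q` (all involutions of the Sylow `2`-subgroup
`QS = {T a b}` lie in its centre `ZS = {T 0 c}`).
-/
import Mathlib
import Cfsg.Prelude.Def_Sz
import Cfsg.Prelude.Def_Transfer
import Cfsg.Agent.Lib.Helper15.SuzukiSylow
import Cfsg.Agent.Lib.Helper15.SuzukiLie

set_option autoImplicit false

namespace Cfsg.Agent.Lib.Helper15.SFLeaf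

open Cfsg.Agent.Lib.Helper15.SuzukiAlg Cfsg.Agent.Lib.Helper15.SuzukiOvoid
  Cfsg.Agent.Lib.Helper15.SuzukiForm Cfsg.Agent.Lib.Helper15.SuzukiMat
  Cfsg.Agent.Lib.Helper15.SuzukiGroup Cfsg.Agent.Lib.Helper15.SuzukiOrder
  Cfsg.Agent.Lib.Helper15.SuzukiSylow

section
variable {F : Type*} [Field F] [Fintype F] {m : ℕ} (hF : Fintype.card F = 2 ^ (2 * m + 1))

/-- an element of square one of `QS` lies in `ZS` -/
theorem mem_ZS_of_sq (x : QS hF) (hx : x * x = 1) : x ∈ ZS hF := by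
  obtain ⟨a, b, rfl⟩ := Tq_surj hF x
  rw [Tq_sq, ← Tq_zero hF] at hx
  have h1 := (Tq_inj hF hx).2
  have ha : a = 0 := by
    rcases mul_eq_zero.mp h1 with h | h
    · exact h
    · exact (map_eq_zero (sig (two_eq_zero hF) m)).mp h
  exact ⟨b, by rw [ha]⟩

include hF in
/-- every Sylow `2`-subgroup of `Sz F m` is isomorphic to `QS` -/
theorem nonempty_sylow_equiv_QS (hm : 1 ≤ m) (P : Sylow 2 (Cfsg.Sz F m)) :
    Nonempty (↥(P : Subgroup (Cfsg.Sz F m)) ≃* QS hF) := by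
  have eQ : (QS hF).subgroupOf (Cfsg.Sz F m) ≃* QS hF := Subgroup.subgroupOfEquivOfLe (QS_le hF)
  have hcardQ : Nat.card ((QS hF).subgroupOf (Cfsg.Sz F m)) = (2 ^ (2 * m + 1)) ^ 2 := by
    rw [Nat.card_congr eQ.toEquiv, card_QS]
  have hcard : Nat.card ((QS hF).subgroupOf (Cfsg.Sz F m)) =
      2 ^ (Nat.card (Cfsg.Sz F m)).factorization 2 := by
    rw [hcardQ, card_Sz hF hm, factorization_two, ← pow_mul, mul_comm]
  let QSyl : Sylow 2 (Cfsg.Sz F m) := Sylow.ofCard _ hcard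
  exact ⟨(Sylow.equiv P QSyl).trans eQ⟩

include hF in
/-- a subgroup of `Sz F m` all of whose elements have square one has at most `q` elements -/
theorem card_le_of_sq (hm : 1 ≤ m) (E : Subgroup (Cfsg.Sz F m)) (hE : ∀ x ∈ E, x * x = 1) :
    Nat.card E ≤ 2 ^ (2 * m + 1) := by
  have hp : IsPGroup 2 E := by
    intro x
    refine ⟨1, ?_⟩
    apply Subtype.ext
    rw [pow_one, pow_two]
    exact hE x.1 x.2
  obtain ⟨P, hEP⟩ := hp.exists_le_sylow
  obtain ⟨e⟩ := nonempty_sylow_equiv_QS hF hm P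
  -- transport `E` into `QS`
  let E1 : Subgroup ↥(P : Subgroup (Cfsg.Sz F m)) := E.subgroupOf (P : Subgroup (Cfsg.Sz F m))
  let E2 : Subgroup (QS hF) := E1.map e.toMonoidHom
  have h1 : Nat.card E = Nat.card E1 :=
    (Nat.card_congr (Subgroup.subgroupOfEquivOfLe hEP).toEquiv).symm
  have h2 : Nat.card E1 = Nat.card E2 := Nat.card_congr (e.subgroupMap E1).toEquiv
  have h3 : E2 ≤ ZS hF := by
    rintro _ ⟨x, hx, rfl⟩
    apply mem_ZS_of_sq
    have hx' : (x : Cfsg.Sz F m) ∈ E := hx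
    have h4 : x * x = 1 := by
      apply Subtype.ext
      exact hE _ hx'
    show e x * e x = 1
    rw [← map_mul, h4, map_one]
  have : Finite (QS hF) := Nat.finite_of_card_ne_zero (by rw [card_QS]; positivity)
  calc Nat.card E = Nat.card E2 := h1.trans h2
    _ ≤ Nat.card (ZS hF) := Subgroup.card_le_of_le h3
    _ = 2 ^ (2 * m + 1) := card_ZS hF

end

/-- **szEA**: elementary abelian `2`-subgroups of `Sz(q)` have order `≤ q`. -/
theorem szEA {F : Type} [Field F] [Fintype F] (m : ℕ) (hm : 1 ≤ m)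
    (hF : Fintype.card F = 2 ^ (2 * m + 1)) (E : Subgroup ↥(Cfsg.Lie.Sz F (2 ^ (m + 1))))
    (hE : Cfsg.IsElementaryAbelian 2 E) : Nat.card E ≤ 2 ^ (2 * m + 1) := by
  let e := Cfsg.Agent.Lib.Helper15.SuzukiLie.equivLie hF hm
  let E' : Subgroup (Cfsg.Sz F m) := E.map e.symm.toMonoidHom
  have h1 : Nat.card E = Nat.card E' := Nat.card_congr (e.symm.subgroupMap E).toEquiv
  rw [h1]
  apply card_le_of_sq hF hm E'
  rintro _ ⟨y, hy, rfl⟩
  have h2 : y ^ 2 = 1 := hE.2 y hy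
  show e.symm y * e.symm y = 1
  rw [← map_mul, ← pow_two, h2, map_one]

end Cfsg.Agent.Lib.Helper15.SFLeaf
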