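/-
helper15: leaf szOutOdd of helper16's S2752 market "SF" (`notes/S2752_leaves.lean`):
an involutory automorphism of `Sz(q)` is inner (`|Out(Sz(q))| = 2m + 1` is odd: `Cfsg.Agent.S2126.result`).
-/
import Mathlib
import Cfsg.Prelude.Def_Sz
import Cfsg.Prelude.Def_KGroupFacts
import Cfsg.Agent.S2126

set_option autoImplicit false

namespace Cfsg.Agent.Lib.Helper15.SFLeaf

/-- in a group with `Out` of odd order, an automorphism of square `1` is inner -/
theorem inner_of_sq_eq_one_of_odd_out {G : Type*} [Group G] (hodd : Odd (Nat.card (Cfsg.Out G)))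
    (α : MulAut G) (h2 : α * α = 1) : ∃ s : G, α = MulAut.conj s := by
  have hfin : Finite (Cfsg.Out G) := by
    apply Nat.finite_of_card_ne_zero
    intro h0
    rw [h0] at hodd
    exact absurd hodd (by decide)
  set a : Cfsg.Out G := QuotientGroup.mk α with ha
  have h1 : a ^ 2 = 1 := by
    rw [ha, ← QuotientGroup.mk_pow, pow_two, h2]
    rfl
  have h3 : a ^ Nat.card (Cfsg.Out G) = 1 := pow_card_eq_one'
  have hcop : Nat.Coprime 2 (Nat.card (Cfsg.Out G)) := (Nat.coprime_two_left).mpr hodd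
  have h4 : a = 1 := (pow_eq_one_iff_of_coprime hcop).mp ⟨h1, h3⟩
  have h5 : α ∈ Cfsg.Inn G := by
    rw [← QuotientGroup.eq_one_iff]
    exact h4
  obtain ⟨s, hs⟩ := h5
  exact ⟨s, hs.symm⟩

/-- **szOutOdd**: an involutory automorphism of `Sz(q)` is inner (`|Out| = 2m+1`, `Cfsg.Agent.S2126.result`). -/
theorem szOutOdd {F : Type} [Field F] [Fintype F] (m : ℕ) (hm : 1 ≤ m)
    (hF : Fintype.card F = 2 ^ (2 * m + 1)) (α : MulAut ↥(Cfsg.Lie.Sz F (2 ^ (m + 1)))) (h2 : α * α = 1) :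
    ∃ s : ↥(Cfsg.Lie.Sz F (2 ^ (m + 1))), α = MulAut.conj s := by
  have h := Cfsg.Agent.S2126.result hm hF
  exact inner_of_sq_eq_one_of_odd_out (by rw [h]; exact ⟨m, rfl⟩) α h2

end Cfsg.Agent.Lib.Helper15.SFLeaf
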