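import Mathlib
import Cfsg.Prelude.Def_ClassicalGeometry
import Cfsg.Prelude.Def_GeometricClasses
import Cfsg.Agent.Lib.Helper2.SOTDefs
import Cfsg.Agent.Lib.Helper2.SOTGDefs
import Cfsg.Agent.Lib.Helper4.SOTS
import Cfsg.Agent.Lib.Helper7.SpTN
import Cfsg.Agent.Lib.Helper27.SOTLADefs

/-!
helper15: S5666 (LA) leaf FCB1 (`ker_ne_im`) of notes/S5666_LA_leaves.lean, exact signature.
By-products: `EN_mulVec`, `one_kron_mulVec`.
-/

set_option autoImplicit false
set_option linter.unusedSectionVars false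
set_option linter.unusedVariables false

namespace Cfsg.Agent.Lib.Helper15.SOTLALeaf
open Matrix
open Cfsg.Agent.Lib.Helper25.Tens Cfsg.Agent.Lib.Helper25.SpT Cfsg.Agent.Lib.Helper19.OSub
open Cfsg.Agent.Lib.Helper2.SOT Cfsg.Agent.Lib.Helper27.SOTLA
open scoped Kronecker

variable {F : Type*} [Field F] [Fintype F] {a b : ℕ} {G : Matrix (Fin b) (Fin b) F}
  {M : Subgroup (GL (Idx a b) F)}

/-- the action of `N = E_{o,o'} ⊗ 1` -/
lemma EN_mulVec (o o' : Fin a) (v : Idx a b → F) :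
    (EN o o' : Matrix (Idx a b) (Idx a b) F) *ᵥ v = fun p => if p.1 = o then v (o', p.2) else 0 := by
  ext ⟨i, k⟩
  simp only [EN, Matrix.mulVec, dotProduct, Matrix.kroneckerMap_apply, Fintype.sum_prod_type,
    Matrix.single_apply, Matrix.one_apply]
  by_cases hi : i = o
  · subst hi
    rw [Finset.sum_eq_single o']
    · rw [Finset.sum_eq_single k]
      · simp
      · intro l _ hl; simp [Ne.symm hl]
      · simp
    · intro j _ hj
      apply Finset.sum_eq_zero; intro l _; simp [Ne.symm hj]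
    · simp
  · simp only [if_neg hi]
    apply Finset.sum_eq_zero; intro j _
    apply Finset.sum_eq_zero; intro l _
    simp [Ne.symm hi]

/-- the action of `1 ⊗ ν` on slices -/
lemma one_kron_mulVec (ν : Matrix (Fin b) (Fin b) F) (v : Idx a b → F) :
    ((1 : Matrix (Fin a) (Fin a) F) ⊗ₖ ν) *ᵥ v = fun p => (ν *ᵥ fun l => v (p.1, l)) p.2 := by
  ext ⟨i, k⟩
  simp only [Matrix.mulVec, dotProduct, Matrix.kroneckerMap_apply, Fintype.sum_prod_type,
    Matrix.one_apply]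
  rw [Finset.sum_eq_single i]
  · simp
  · intro j _ hj
    apply Finset.sum_eq_zero; intro l _; simp [Ne.symm hj]
  · simp

/-- (FC-B1) `Ker ν ≠ Im ν` for `1 ⊗ ν = -m⁻¹ N m`, `a ≥ 3`. -/
theorem ker_ne_im (h3 : 3 ≤ a) {o o' : Fin a} (ho : o.val = 0) (ho' : o'.val = 1)
    (m : GL (Idx a b) F) (ν : Matrix (Fin b) (Fin b) F)
    (hmN : (1 : Matrix (Fin a) (Fin a) F) ⊗ₖ ν =
      -(((m⁻¹ : GL (Idx a b) F) : Matrix (Idx a b) (Idx a b) F) * EN o o' *
        (m : Matrix (Idx a b) (Idx a b) F))) (hb : 0 < b) :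
    ∃ y : Fin b → F, ν *ᵥ y = 0 ∧ ∀ y' : Fin b → F, y ≠ ν *ᵥ y' := by
  by_contra hcon
  push Not at hcon
  -- a middle index
  let i : Fin a := ⟨2, by omega⟩
  have hio : i ≠ o := fun h => by have := congrArg Fin.val h; simp [i] at this; omega
  have hio' : i ≠ o' := fun h => by have := congrArg Fin.val h; simp [i] at this; omega
  let k₀ : Fin b := ⟨0, hb⟩
  let v' : Idx a b → F := pt (Pi.single i 1) (Pi.single k₀ 1)
  have hv'1 : v' (i, k₀) = 1 := by simp [v', pt]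
  have hNv' : (EN o o' : Matrix (Idx a b) (Idx a b) F) *ᵥ v' = 0 := by
    rw [EN_mulVec]
    ext ⟨j, l⟩
    by_cases hj : j = o
    · simp [v', pt, hj, Ne.symm hio']
    · simp [hj]
  set u : Idx a b → F := ((m⁻¹ : GL (Idx a b) F) : Matrix (Idx a b) (Idx a b) F) *ᵥ v' with hu
  have hmu : (m : Matrix (Idx a b) (Idx a b) F) *ᵥ u = v' := by
    rw [hu, Matrix.mulVec_mulVec, ← Units.val_mul, mul_inv_cancel, Units.val_one, Matrix.one_mulVec]
  have h1 : ((1 : Matrix (Fin a) (Fin a) F) ⊗ₖ ν) *ᵥ u = 0 := by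
    rw [hmN, Matrix.neg_mulVec, ← Matrix.mulVec_mulVec, hmu, ← Matrix.mulVec_mulVec, hNv',
      Matrix.mulVec_zero, neg_zero]
  rw [one_kron_mulVec] at h1
  have h2 : ∀ j : Fin a, ν *ᵥ (fun l => u (j, l)) = 0 := by
    intro j
    ext l
    exact congrFun h1 (j, l)
  choose w hw using fun j => hcon _ (h2 j)
  let W : Idx a b → F := fun p => w p.1 p.2
  have h3' : ((1 : Matrix (Fin a) (Fin a) F) ⊗ₖ ν) *ᵥ W = u := by
    rw [one_kron_mulVec]
    ext ⟨j, l⟩
    have := congrFun (hw j) l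
    exact this.symm
  -- `v' = -N (m W)`
  have h4 : v' = -((EN o o' : Matrix (Idx a b) (Idx a b) F) *ᵥ
      ((m : Matrix (Idx a b) (Idx a b) F) *ᵥ W)) := by
    rw [← hmu, ← h3', hmN, Matrix.neg_mulVec, Matrix.mulVec_neg, Matrix.mulVec_mulVec,
      Matrix.mulVec_mulVec, ← Matrix.mul_assoc, ← Matrix.mul_assoc, ← Units.val_mul, mul_inv_cancel,
      Units.val_one, Matrix.one_mul]
  have h5 := congrFun h4 (i, k₀)
  rw [hv'1, EN_mulVec] at h5
  simp only [Pi.neg_apply, if_neg hio, neg_zero] at h5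
  exact one_ne_zero h5

end Cfsg.Agent.Lib.Helper15.SOTLALeaf
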