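import Mathlib
import Cfsg.Prelude.Def_ClassicalGeometry
import Cfsg.Prelude.Def_GeometricClasses
import Cfsg.Agent.Lib.Helper2.SOTDefs
import Cfsg.Agent.Lib.Helper2.SOTGDefs
import Cfsg.Agent.Lib.Helper4.SOTS
import Cfsg.Agent.Lib.Helper7.SpTN
import Cfsg.Agent.Lib.Helper27.SOTLADefs
import Cfsg.Agent.Lib.Helper1.SOTLATools
import Cfsg.Agent.Lib.Helper15.SOTLAFCB1

/-!
helper15: S5666 (LA) leaf FCB2 (`UA_conj_siegel`) of notes/S5666_LA_leaves.lean, exact signature.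
By-products: `UA_of_N` (the direction `⟸` of (U2c)), `ablk_EN`, `siegel_sub_one_mulVec`.
-/

set_option autoImplicit false
set_option linter.unusedSectionVars false
set_option linter.unusedVariables false

namespace Cfsg.Agent.Lib.Helper15.SOTLALeaf
open Matrix
open Cfsg.Agent.Lib.Helper25.Tens Cfsg.Agent.Lib.Helper25.SpT Cfsg.Agent.Lib.Helper19.OSub
open Cfsg.Agent.Lib.Helper2.SOT Cfsg.Agent.Lib.Helper27.SOTLA
open scoped Kronecker

variable {F : Type*} [Field F] [Fintype F] {a b : ℕ} {G : Matrix (Fin b) (Fin b) F}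
  {M : Subgroup (GL (Idx a b) F)}

lemma ablk_EN (o o' i j : Fin a) :
    ablk (EN o o' : Matrix (Idx a b) (Idx a b) F) i j = if i = o ∧ j = o' then 1 else 0 := by
  unfold EN
  rw [ablk_kron, Matrix.single_apply]
  by_cases h : o = i ∧ o' = j
  · rw [if_pos h, if_pos ⟨h.1.symm, h.2.symm⟩, one_smul]
  · rw [if_neg h, if_neg (fun h' => h ⟨h'.1.symm, h'.2.symm⟩), zero_smul]

lemma mat_zero_of_mulVec' {A : Matrix (Fin b) (Fin b) F} (h : ∀ y, A *ᵥ y = 0) : A = 0 := by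
  apply Matrix.toLin'.injective
  apply LinearMap.ext
  intro y
  rw [Matrix.toLin'_apply, h y]
  simp

/-- the direction `⟸` of (U2c) -/
theorem UA_of_N {o o' : Fin a} (hoo' : o ≠ o') (X : Matrix (Idx a b) (Idx a b) F)
    (h1 : EN o o' * (X - 1) = 0) (h2 : (X - 1) * EN o o' = 0)
    (h3 : ∀ v : Idx a b → F, EN o o' *ᵥ v = 0 →
      ∃ v' : Idx a b → F, (X - 1) *ᵥ v = EN o o' *ᵥ v') : UA o o' X := by
  set Y := X - 1 with hY
  have hX : X = Y + 1 := by rw [hY, sub_add_cancel]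
  -- row `o'` of `Y`
  have hrow : ∀ j, ablk Y o' j = 0 := by
    intro j
    have e := congrArg (fun Z => ablk Z o j) h1
    simp only [ablk_zero] at e
    rw [ablk_mul, Finset.sum_eq_single o'] at e
    · rwa [ablk_EN, if_pos ⟨rfl, rfl⟩, one_mul] at e
    · intro i _ hi
      rw [ablk_EN, if_neg (fun h => hi h.2), zero_mul]
    · intro h; exact absurd (Finset.mem_univ o') h
  -- column `o` of `Y`
  have hcol : ∀ i, ablk Y i o = 0 := by
    intro i
    have e := congrArg (fun Z => ablk Z i o') h2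
    simp only [ablk_zero] at e
    rw [ablk_mul, Finset.sum_eq_single o] at e
    · rwa [ablk_EN, if_pos ⟨rfl, rfl⟩, mul_one] at e
    · intro j _ hj
      rw [ablk_EN, if_neg (fun h => hj h.1), mul_zero]
    · intro h; exact absurd (Finset.mem_univ o) h
  have hmid : ∀ i j, i ≠ o → j ≠ o' → ablk Y i j = 0 := by
    intro i j hi hj
    apply mat_zero_of_mulVec'
    intro y
    have hN : (EN o o' : Matrix (Idx a b) (Idx a b) F) *ᵥ pt (Pi.single j 1) y = 0 := by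
      rw [EN_mulVec]
      ext ⟨i', l⟩
      by_cases hi' : i' = o
      · simp [pt, hi', Ne.symm hj]
      · simp [hi']
    obtain ⟨v', hv'⟩ := h3 _ hN
    rw [mulVec_pt_single_left, EN_mulVec] at hv'
    ext k
    have := congrFun hv' (i, k)
    simpa [hi] using this
  refine ⟨?_, ?_, ?_⟩
  · intro i j hi hj
    rw [hX, ablk_add, hmid i j hi hj, zero_add, ablk_one]
  · rw [hX, ablk_add, hcol o, zero_add, ablk_one, if_pos rfl]
  · rw [hX, ablk_add, hrow o', zero_add, ablk_one, if_pos rfl]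

/-- `η_{z,v} - 1` on vectors -/
lemma siegel_sub_one_mulVec (G : Matrix (Fin b) (Fin b) F) (z v y : Fin b → F) :
    (siegel G z v - 1) *ᵥ y =
      fB G y z • v - fB G y v • z - (fB G v v / 2 * fB G y z) • z := by
  unfold siegel
  rw [show (1 + rk1 G v z - rk1 G z v - (fB G v v / 2) • rk1 G z z - 1 : Matrix (Fin b) (Fin b) F) =
    rk1 G v z - rk1 G z v - (fB G v v / 2) • rk1 G z z by abel]
  rw [Matrix.sub_mulVec, Matrix.sub_mulVec, Matrix.smul_mulVec, rk1_mulVec, rk1_mulVec, rk1_mulVec,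
    smul_smul]

/-- (FC-B2) `m (1 ⊗ η_{z,v}) m⁻¹` has `U`-form, `z = ν y₀`, `ν v = 0`. -/
theorem UA_conj_siegel (hG : Gᵀ = G) (h2 : (2 : F) ≠ 0) {o o' : Fin a} (hoo' : o ≠ o')
    (m : GL (Idx a b) F) {ν : Matrix (Fin b) (Fin b) F} (hν : IsSkewAdj G ν) (hν2 : ν * ν = 0)
    (hmN : (1 : Matrix (Fin a) (Fin a) F) ⊗ₖ ν =
      -(((m⁻¹ : GL (Idx a b) F) : Matrix (Idx a b) (Idx a b) F) * EN o o' *
        (m : Matrix (Idx a b) (Idx a b) F))) (y₀ v : Fin b → F) (hv : ν *ᵥ v = 0) :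
    UA o o' ((m : Matrix (Idx a b) (Idx a b) F) *
      ((1 : Matrix (Fin a) (Fin a) F) ⊗ₖ siegel G (ν *ᵥ y₀) v) *
      ((m⁻¹ : GL (Idx a b) F) : Matrix (Idx a b) (Idx a b) F)) := by
  set z := ν *ᵥ y₀ with hz
  set D := siegel G z v - 1 with hD
  set mM := (m : Matrix (Idx a b) (Idx a b) F) with hmM
  set mI := ((m⁻¹ : GL (Idx a b) F) : Matrix (Idx a b) (Idx a b) F) with hmI
  have hMI : mM * mI = 1 := by rw [hmM, hmI, ← Units.val_mul, mul_inv_cancel, Units.val_one]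
  have hIM : mI * mM = 1 := by rw [hmM, hmI, ← Units.val_mul, inv_mul_cancel, Units.val_one]
  have hνz : ν *ᵥ z = 0 := by rw [hz, Matrix.mulVec_mulVec, hν2, Matrix.zero_mulVec]
  have hsk := Cfsg.Agent.Lib.Helper1.SOTLALeaf.skewAdj_fB hν
  -- `ν D = 0`
  have hνD : ν * D = 0 := by
    apply Cfsg.Agent.Lib.Helper1.SOTLALeaf.mat_ext_mulVec
    intro y
    rw [← Matrix.mulVec_mulVec, siegel_sub_one_mulVec, Matrix.mulVec_sub, Matrix.mulVec_sub,
      Matrix.mulVec_smul, Matrix.mulVec_smul, Matrix.mulVec_smul, hv, hνz, Matrix.zero_mulVec]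
    simp
  -- `D ν = 0`
  have hDν : D * ν = 0 := by
    apply Cfsg.Agent.Lib.Helper1.SOTLALeaf.mat_ext_mulVec
    intro y
    rw [← Matrix.mulVec_mulVec, siegel_sub_one_mulVec, hsk, hsk, hv, hνz, Matrix.zero_mulVec]
    simp [fB]
  -- `D = ν λ + μ ν`
  set lam : Matrix (Fin b) (Fin b) F := -rk1 G y₀ v with hlam
  set mu : Matrix (Fin b) (Fin b) F := -rk1 G v y₀ + (fB G v v / 2) • rk1 G z y₀ with hmu
  have hDsplit : D = ν * lam + mu * ν := by
    apply Cfsg.Agent.Lib.Helper1.SOTLALeaf.mat_ext_mulVec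
    intro y
    rw [siegel_sub_one_mulVec, Matrix.add_mulVec, ← Matrix.mulVec_mulVec, ← Matrix.mulVec_mulVec,
      hlam, hmu, Matrix.neg_mulVec, rk1_mulVec, Matrix.add_mulVec, Matrix.neg_mulVec,
      Matrix.smul_mulVec, rk1_mulVec, rk1_mulVec, hsk, Matrix.mulVec_neg, Matrix.mulVec_smul, ← hz]
    ext k
    simp only [Pi.add_apply, Pi.sub_apply, Pi.neg_apply, Pi.smul_apply, smul_eq_mul]
    ring
  -- Kronecker calculus
  have hK : ∀ x y : Matrix (Fin b) (Fin b) F,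
      ((1 : Matrix (Fin a) (Fin a) F) ⊗ₖ x) * ((1 : Matrix (Fin a) (Fin a) F) ⊗ₖ y) =
        (1 : Matrix (Fin a) (Fin a) F) ⊗ₖ (x * y) := by
    intro x y
    rw [← Matrix.mul_kronecker_mul, Matrix.one_mul]
  have hK0 : (1 : Matrix (Fin a) (Fin a) F) ⊗ₖ (0 : Matrix (Fin b) (Fin b) F) = 0 :=
    Matrix.kronecker_zero _
  have hN : (EN o o' : Matrix (Idx a b) (Idx a b) F) =
      -(mM * ((1 : Matrix (Fin a) (Fin a) F) ⊗ₖ ν) * mI) := by
    rw [hmN, Matrix.mul_neg, Matrix.neg_mul, neg_neg]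
    calc (EN o o' : Matrix (Idx a b) (Idx a b) F) = (mM * mI) * EN o o' * (mM * mI) := by
          rw [hMI, Matrix.one_mul, Matrix.mul_one]
      _ = mM * (mI * EN o o' * mM) * mI := by simp only [Matrix.mul_assoc]
  have hXD : mM * ((1 : Matrix (Fin a) (Fin a) F) ⊗ₖ siegel G z v) * mI - 1 =
      mM * ((1 : Matrix (Fin a) (Fin a) F) ⊗ₖ D) * mI := by
    have e1 : siegel G z v = D + 1 := by rw [hD, sub_add_cancel]
    rw [e1, Matrix.kronecker_add, Matrix.one_kronecker_one, Matrix.mul_add, Matrix.add_mul,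
      Matrix.mul_one, hMI, add_sub_cancel_right]
  apply UA_of_N hoo'
  · rw [hXD, hN]
    calc -(mM * ((1 : Matrix (Fin a) (Fin a) F) ⊗ₖ ν) * mI) *
          (mM * ((1 : Matrix (Fin a) (Fin a) F) ⊗ₖ D) * mI)
        = -(mM * (((1 : Matrix (Fin a) (Fin a) F) ⊗ₖ ν) * (mI * mM) *
            ((1 : Matrix (Fin a) (Fin a) F) ⊗ₖ D)) * mI) := by
          simp only [Matrix.mul_assoc, Matrix.neg_mul]
      _ = 0 := by rw [hIM, Matrix.mul_one, hK, hνD, hK0, Matrix.mul_zero, Matrix.zero_mul, neg_zero]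
  · rw [hXD, hN]
    calc (mM * ((1 : Matrix (Fin a) (Fin a) F) ⊗ₖ D) * mI) *
          -(mM * ((1 : Matrix (Fin a) (Fin a) F) ⊗ₖ ν) * mI)
        = -(mM * (((1 : Matrix (Fin a) (Fin a) F) ⊗ₖ D) * (mI * mM) *
            ((1 : Matrix (Fin a) (Fin a) F) ⊗ₖ ν)) * mI) := by
          simp only [Matrix.mul_assoc, Matrix.mul_neg]
      _ = 0 := by rw [hIM, Matrix.mul_one, hK, hDν, hK0, Matrix.mul_zero, Matrix.zero_mul, neg_zero]
  · intro w hw
    rw [hXD]
    -- `(1 ⊗ ν) (m⁻¹ w) = 0`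
    have e1 : ((1 : Matrix (Fin a) (Fin a) F) ⊗ₖ ν) *ᵥ (mI *ᵥ w) = 0 := by
      rw [hN, Matrix.neg_mulVec, neg_eq_zero] at hw
      have := congrArg (fun t => mI *ᵥ t) hw
      simp only [Matrix.mulVec_zero] at this
      rw [Matrix.mulVec_mulVec, ← Matrix.mul_assoc, ← Matrix.mul_assoc, hIM, Matrix.one_mul,
        ← Matrix.mulVec_mulVec] at this
      exact this
    refine ⟨-(mM *ᵥ (((1 : Matrix (Fin a) (Fin a) F) ⊗ₖ lam) *ᵥ (mI *ᵥ w))), ?_⟩
    rw [hN, Matrix.neg_mulVec, Matrix.mulVec_neg, neg_neg, hDsplit, Matrix.kronecker_add, ← hK, ← hK]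
    simp only [← Matrix.mulVec_mulVec, Matrix.add_mulVec, Matrix.mulVec_add]
    rw [e1]
    simp only [Matrix.mulVec_zero, add_zero]
    congr 2
    rw [Matrix.mulVec_mulVec _ mI mM, hIM, Matrix.one_mulVec]

end Cfsg.Agent.Lib.Helper15.SOTLALeaf
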