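import Mathlib
import Cfsg.Agent.Lib.Helper15.AschFormMat
import Cfsg.Agent.Lib.Helper18.AschA89Defs
import Cfsg.Agent.Lib.Helper25.AFTns
import Cfsg.Agent.Lib.Helper19.AFPrf

/-!
GENERIC FORM BLOCKS (market AF, `notes/AschForm_leaves.lean`): the two assemblies
`gram_kron` ([TNS]: the Gram matrix in the tensor basis is a Kronecker product) and
`gram_ptens` ([PRF]: the Gram matrix in the tensor-power basis is a pure tensor), from the landed leaves of
helper25 (`AFTns`: fix_gramIn, adjoin_factor_eq_top, kron_of_invariant, isUnit_det_factor) and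
helper19 (`AFPrf`: adjoin_slot_eq_top, isUnit_det_slot, slot_factor_of_invariant, ptens_of_factors).
-/

set_option autoImplicit false
set_option linter.unusedSectionVars false
set_option linter.unusedVariables false

namespace Cfsg.Agent.Lib.Helper15.AFLeaf
open Matrix Cfsg.Geo Cfsg.Agent.Lib.Helper20.Asch Cfsg.Agent.Lib.Helper7.AschLeaf
open Cfsg.Agent.Lib.Helper15.AschForm Cfsg.Agent.Lib.Helper18.AschA89
open scoped Kronecker

variable {F : Type*} [Field F] [Fintype F] {n : ℕ}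

/-- [TNS] GENERIC CORE: the Gram matrix in the tensor basis is a Kronecker product. -/
theorem gram_kron {σ : F →+* F} {J : Matrix (Fin n) (Fin n) F} {N : Subgroup (GL (Fin n) F)} (hfix : FixJ σ J N)
    {s k : ℕ} (hk : 0 < k) (e : Fin n ≃ Fin s × Fin k) (P : GL (Fin n) F)
    (h1 : ∀ A : Matrix (Fin s) (Fin s) F, conjR e P (A ⊗ₖ (1 : Matrix (Fin k) (Fin k) F)) ∈ Env N)
    (h2 : ∀ T ∈ Env N, ∃ A : Matrix (Fin s) (Fin s) F, T = conjR e P (A ⊗ₖ (1 : Matrix (Fin k) (Fin k) F))) :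
    ∃ (G₁ : Matrix (Fin s) (Fin s) F) (G₂ : Matrix (Fin k) (Fin k) F), gramIn σ J e P = G₁ ⊗ₖ G₂ := by
  refine Cfsg.Agent.Lib.Helper25.AFLeaf.kron_of_invariant (σ := σ) (gramIn σ J e P) _
    (Cfsg.Agent.Lib.Helper25.AFLeaf.adjoin_factor_eq_top e P h1 h2) ?_ ?_
  · rintro R ⟨x, hx, hxR⟩
    exact Cfsg.Agent.Lib.Helper25.AFLeaf.isUnit_det_factor hk e P R x hxR
  · rintro R ⟨x, hx, hxR⟩
    exact Cfsg.Agent.Lib.Helper25.AFLeaf.fix_gramIn σ J e P _ _ hxR (hfix x hx)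

/-- [PRF] GENERIC CORE: the Gram matrix in the tensor-power basis is a pure tensor. -/
theorem gram_ptens {σ : F →+* F} {J : Matrix (Fin n) (Fin n) F} {m r : ℕ} (hm : 0 < m)
    {Nf : Fin r → Subgroup (GL (Fin n) F)} (hfix : ∀ i, FixJ σ J (Nf i)) (e : Fin n ≃ (Fin r → Fin m))
    (P : GL (Fin n) F)
    (h1 : ∀ i, ∀ A : Matrix (Fin m) (Fin m) F, conjR e P (slot m r i A) ∈ Env (Nf i))
    (h2 : ∀ i, ∀ T ∈ Env (Nf i), ∃ A : Matrix (Fin m) (Fin m) F, T = conjR e P (slot m r i A)) :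
    ∃ (c : F) (G : Fin r → Matrix (Fin m) (Fin m) F), gramIn σ J e P = c • ptens m r G := by
  apply Cfsg.Agent.Lib.Helper19.AFLeaf.ptens_of_factors
  intro i
  refine Cfsg.Agent.Lib.Helper19.AFLeaf.slot_factor_of_invariant (σ := σ) i (gramIn σ J e P) _
    (Cfsg.Agent.Lib.Helper19.AFLeaf.adjoin_slot_eq_top i e P (h1 i) (h2 i)) ?_ ?_
  · rintro R ⟨x, hx, hxR⟩
    exact Cfsg.Agent.Lib.Helper19.AFLeaf.isUnit_det_slot hm i e P R x hxR
  · rintro R ⟨x, hx, hxR⟩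
    exact Cfsg.Agent.Lib.Helper25.AFLeaf.fix_gramIn σ J e P _ _ hxR (hfix i x hx)

end Cfsg.Agent.Lib.Helper15.AFLeaf
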