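import Mathlib

/-!
# AP-CT (market "AP" = S3614, planner helper4): the commutator trick

`H ≤ Perm Ω` `t`-transitive, `1 ≠ u ∈ H`, `|supp u| ≤ t < |Ω|`  ⟹  `Alt Ω ≤ H`.
-/

set_option autoImplicit false

namespace Cfsg.Agent.Lib.Helper15.APCT

open Equiv MulAction

variable {Ω : Type*} [Fintype Ω] [DecidableEq Ω]

omit [Fintype Ω] in
/-- the three-cycle computation: if `h` agrees with `swap γ δ` on `supp u`, `γ ∈ supp u`, `δ ∉ supp u`,
then `u⁻¹ * (h * u * h⁻¹) = swap (u⁻¹ γ) γ * swap (u⁻¹ γ) δ`. -/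
theorem conj_comm_eq_swap_mul_swap {u h : Perm Ω} {γ δ : Ω} (hγ : u γ ≠ γ) (hδ : u δ = δ)
    (hh : ∀ p, u p ≠ p → h p = swap γ δ p) :
    u⁻¹ * (h * u * h⁻¹) = swap (u⁻¹ γ) γ * swap (u⁻¹ γ) δ := by
  set a : Ω := u⁻¹ γ with ha
  have hua : u a = γ := by simp [ha]
  have hγδ : γ ≠ δ := by
    rintro rfl
    exact hγ hδ
  have haγ : a ≠ γ := by
    intro h1
    rw [h1] at hua
    exact hγ hua
  have haM : u a ≠ a := by
    rw [hua]
    exact fun h1 => haγ h1.symm
  have haδ : a ≠ δ := by
    rintro h1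
    rw [h1] at haM
    exact haM hδ
  have hhγ : h γ = δ := by
    rw [hh γ hγ, swap_apply_left]
  have hhfix : ∀ p, u p ≠ p → p ≠ γ → h p = p := by
    intro p hp hpγ
    rw [hh p hp, swap_apply_of_ne_of_ne hpγ]
    rintro rfl
    exact hp hδ
  -- it suffices to show `h * u = u * w * h`
  set w : Perm Ω := swap a γ * swap a δ with hw
  have hwa : w a = δ := by
    simp [hw, swap_apply_of_ne_of_ne haδ.symm hγδ.symm]
  have hwδ : w δ = γ := by
    simp [hw]
  have hwγ : w γ = a := by
    simp [hw, swap_apply_of_ne_of_ne haγ.symm hγδ]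
  have hwo : ∀ x, x ≠ a → x ≠ δ → x ≠ γ → w x = x := by
    intro x h1 h2 h3
    simp [hw, swap_apply_of_ne_of_ne h1 h2, swap_apply_of_ne_of_ne h1 h3]
  have key : ∀ y, h (u y) = u (w (h y)) := by
    intro y
    by_cases hy : u y = y
    · -- `y ∉ M`
      rw [hy]
      by_cases h1 : h y = γ
      · rw [h1, hwγ, hua]
      · have h2 : h y ≠ δ := by
          intro h2
          have : y = γ := h.injective (h2.trans hhγ.symm)
          rw [this] at hy
          exact hγ hy
        have h3 : u (h y) = h y := by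
          by_contra h3
          have h4 : h (h y) = h y := hhfix _ h3 h1
          have h5 : h y = y := h.injective h4
          rw [h5] at h3
          exact h3 hy
        have h4 : h y ≠ a := by
          intro h4
          rw [h4] at h3
          exact haM h3
        rw [hwo _ h4 h2 h1, h3]
    · -- `y ∈ M`
      have huy : u (u y) ≠ u y := fun h1 => hy (u.injective h1)
      by_cases h1 : y = γ
      · rw [h1, hhγ, hwδ]
        have : u (u γ) ≠ u γ := fun h2 => hγ (u.injective h2)
        exact hhfix _ this hγ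
      · rw [hhfix y hy h1]
        by_cases h2 : y = a
        · rw [h2, hua, hhγ, hwa, hδ]
        · have h3 : y ≠ δ := by
            rintro rfl
            exact hy hδ
          rw [hwo y h2 h3 h1]
          have h4 : u y ≠ γ := by
            intro h4
            apply h2
            apply u.injective
            rw [h4, hua]
          exact hhfix _ huy h4
  have key2 : h * u = u * w * h := by
    ext y
    simp only [Perm.coe_mul, Function.comp_apply]
    exact key y
  calc u⁻¹ * (h * u * h⁻¹) = u⁻¹ * (u * w * h * h⁻¹) := by rw [key2]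
    _ = w := by group

set_option linter.dupNamespace false in
/-- **AP-CT** (commutator trick). -/
theorem APCT (H : Subgroup (Perm Ω)) (t : ℕ)
    (ht : IsMultiplyPretransitive ↥H Ω t) (htΩ : t < Fintype.card Ω)
    {u : Perm Ω} (hu : u ∈ H) (hu1 : u ≠ 1) (hsupp : u.support.card ≤ t) :
    alternatingGroup Ω ≤ H := by
  classical
  have h2t : 2 ≤ t := le_trans (Perm.two_le_card_support_of_ne_one hu1) hsupp
  have htN : t ≤ Nat.card Ω := by
    rw [Nat.card_eq_fintype_card]
    exact htΩ.le
  -- primitivity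
  have h2 : IsMultiplyPretransitive ↥H Ω 2 := isMultiplyPretransitive_of_le h2t htN
  have hprim : IsPreprimitive ↥H Ω := isPreprimitive_of_is_two_pretransitive h2
  -- `m`-transitivity, `m = |supp u|`
  set M : Finset Ω := u.support with hM
  have hm : IsMultiplyPretransitive ↥H Ω M.card := isMultiplyPretransitive_of_le hsupp htN
  -- `γ ∈ M`, `δ ∉ M`
  obtain ⟨γ, hγM⟩ : M.Nonempty := by
    rw [hM, Finset.nonempty_iff_ne_empty]
    exact fun h1 => hu1 (Equiv.Perm.support_eq_empty_iff.mp h1)
  have hγ : u γ ≠ γ := Perm.mem_support.mp hγM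
  obtain ⟨δ, hδM⟩ : ∃ δ, δ ∉ M := by
    by_contra hcon
    have : M = Finset.univ := Finset.eq_univ_iff_forall.mpr (fun x => by
      by_contra hx
      exact hcon ⟨x, hx⟩)
    rw [this, Finset.card_univ] at hsupp
    omega
  have hδ : u δ = δ := by
    by_contra h1
    exact hδM (Perm.mem_support.mpr h1)
  -- the two tuples
  let x : Fin M.card ↪ Ω := (M.equivFin.symm.toEmbedding).trans (Function.Embedding.subtype _)
  let y : Fin M.card ↪ Ω := x.trans (swap γ δ).toEmbedding
  obtain ⟨g, hg⟩ := hm.exists_smul_eq x y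
  have hh : ∀ p, u p ≠ p → (g : Perm Ω) p = swap γ δ p := by
    intro p hp
    have hpM : p ∈ M := Perm.mem_support.mpr hp
    have h1 := DFunLike.congr_fun hg (M.equivFin ⟨p, hpM⟩)
    have h2 : (g : Perm Ω) p = g • p := rfl
    rw [h2]
    simpa [x, y] using h1
  have h3 := conj_comm_eq_swap_mul_swap hγ hδ hh
  have hmem : u⁻¹ * ((g : Perm Ω) * u * (g : Perm Ω)⁻¹) ∈ H :=
    H.mul_mem (H.inv_mem hu) (H.mul_mem (H.mul_mem g.2 hu) (H.inv_mem g.2))
  have hγδ : γ ≠ δ := by
    rintro rfl
    exact hγ hδ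
  have haγ : u⁻¹ γ ≠ γ := by
    intro h1
    apply hγ
    conv_lhs => rw [← h1]
    simp
  have haδ : u⁻¹ γ ≠ δ := by
    intro h1
    have : u (u⁻¹ γ) = u δ := by rw [h1]
    rw [hδ] at this
    simp at this
    exact hγδ this
  have h3c : (swap (u⁻¹ γ) γ * swap (u⁻¹ γ) δ).IsThreeCycle :=
    Perm.isThreeCycle_swap_mul_swap_same haγ haδ hγδ
  rw [← h3] at h3c
  exact Perm.alternatingGroup_le_of_isPreprimitive_of_isThreeCycle_mem hprim h3c hmem

end Cfsg.Agent.Lib.Helper15.APCT
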