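import Mathlib

/-!
# AP-WITT (market "AP" = S3614, planner helper4): Witt's lemma in "maximal `r`-subgroup" form
-/

set_option autoImplicit false

namespace Cfsg.Agent.Lib.Helper15.APWITT

open Equiv MulAction

/-- a maximal `r`-subgroup of `K` is a Sylow `r`-subgroup of `K`. -/
theorem sylow_of_max {Γ : Type*} [Group Γ] (K S : Subgroup Γ) (r : ℕ) (hSK : S ≤ K)
    (hSp : IsPGroup r ↥S)
    (hmax : ∀ Q : Subgroup Γ, Q ≤ K → IsPGroup r ↥Q → S ≤ Q → Q = S) :
    ∃ P : Sylow r ↥K, (P : Subgroup ↥K) = S.subgroupOf K := by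
  refine ⟨⟨S.subgroupOf K, hSp.comap_subtype, ?_⟩, rfl⟩
  intro Q hQ hle
  have h1 := hmax (Q.map K.subtype) (Subgroup.map_subtype_le Q) (hQ.map _) (by
    intro s hs
    exact ⟨⟨s, hSK hs⟩, hle (by simpa [Subgroup.mem_subgroupOf] using hs), rfl⟩)
  rw [← h1]
  exact (Subgroup.comap_map_eq_self_of_injective K.subtype_injective Q).symm

variable {Ω : Type*} [Fintype Ω] [DecidableEq Ω]

set_option linter.dupNamespace false in
/-- **AP-WITT** (Witt's lemma). -/
theorem APWITT (H : Subgroup (Perm Ω)) (r : ℕ) (hr : r.Prime) (t : ℕ)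
    (ht : IsMultiplyPretransitive ↥H Ω t)
    (S : Subgroup (Perm Ω)) (hSH : S ≤ H) (hSp : IsPGroup r ↥S)
    (hSmax : ∀ x : Fin t ↪ Ω, (∀ s ∈ S, ∀ i, s (x i) = x i) →
      ∀ Q : Subgroup (Perm Ω), Q ≤ H → IsPGroup r ↥Q → S ≤ Q →
        (∀ q ∈ Q, ∀ i, q (x i) = x i) → Q = S)
    (x y : Fin t ↪ Ω) (hx : ∀ s ∈ S, ∀ i, s (x i) = x i) (hy : ∀ s ∈ S, ∀ i, s (y i) = y i) :
    ∃ n ∈ H, n ∈ Subgroup.normalizer (S : Set (Perm Ω)) ∧ ∀ i, n (x i) = y i := by
  classical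
  have : Fact r.Prime := ⟨hr⟩
  obtain ⟨g, hg⟩ := ht.exists_smul_eq x y
  have hgx : ∀ i, (g : Perm Ω) (x i) = y i := fun i => DFunLike.congr_fun hg i
  have hgx' : ∀ i, (g : Perm Ω)⁻¹ (y i) = x i := fun i => by
    rw [← hgx i]; simp
  -- the pointwise stabilizer of `y` in `H`
  let K : Subgroup (Perm Ω) :=
    { carrier := {k | k ∈ H ∧ ∀ i, k (y i) = y i}
      mul_mem' := by
        rintro a b ⟨ha, ha'⟩ ⟨hb, hb'⟩
        refine ⟨H.mul_mem ha hb, fun i => ?_⟩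
        rw [Perm.mul_apply, hb', ha']
      one_mem' := ⟨H.one_mem, fun i => rfl⟩
      inv_mem' := by
        rintro a ⟨ha, ha'⟩
        refine ⟨H.inv_mem ha, fun i => ?_⟩
        rw [Perm.inv_eq_iff_eq, ha'] }
  have hK : ∀ k, k ∈ K ↔ k ∈ H ∧ ∀ i, k (y i) = y i := fun k => Iff.rfl
  -- the conjugate `T = g S g⁻¹`
  let T : Subgroup (Perm Ω) := S.map (MulAut.conj (g : Perm Ω)).toMonoidHom
  have hT : ∀ q, q ∈ T ↔ (g : Perm Ω)⁻¹ * q * (g : Perm Ω) ∈ S := by
    intro q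
    constructor
    · rintro ⟨s, hs, rfl⟩
      simpa [MulAut.conj_apply, mul_assoc] using hs
    · intro hq
      refine ⟨_, hq, ?_⟩
      simp [MulAut.conj_apply, mul_assoc]
  have hSK : S ≤ K := fun s hs => ⟨hSH hs, hy s hs⟩
  have hTK : T ≤ K := by
    intro q hq
    rw [hT] at hq
    refine ⟨?_, fun i => ?_⟩
    · have h1 := H.mul_mem (H.mul_mem g.2 (hSH hq)) (H.inv_mem g.2)
      simpa [mul_assoc] using h1
    · have h1 := hx _ hq i
      simp only [Perm.mul_apply, hgx] at h1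
      have h2 : (g : Perm Ω) ((g : Perm Ω)⁻¹ (q (y i))) = (g : Perm Ω) (x i) := by rw [h1]
      rw [hgx] at h2
      simpa using h2
  have hTp : IsPGroup r ↥T := hSp.map _
  obtain ⟨P1, hP1⟩ := sylow_of_max K S r hSK hSp (by
    intro Q hQK hQp hSQ
    exact hSmax y hy Q (fun q hq => (hQK hq).1) hQp hSQ (fun q hq => (hQK hq).2))
  obtain ⟨P2, hP2⟩ := sylow_of_max K T r hTK hTp (by
    intro Q hQK hQp hTQ
    -- conjugate back
    let Q' : Subgroup (Perm Ω) := Q.map (MulAut.conj (g : Perm Ω)⁻¹).toMonoidHom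
    have hQ' : ∀ q, q ∈ Q' ↔ (g : Perm Ω) * q * (g : Perm Ω)⁻¹ ∈ Q := by
      intro q
      constructor
      · rintro ⟨s, hs, rfl⟩
        simpa [MulAut.conj_apply, mul_assoc] using hs
      · intro hq
        refine ⟨_, hq, ?_⟩
        simp [mul_assoc]
    have h1 : Q' = S := by
      apply hSmax x hx Q'
      · intro q hq
        rw [hQ'] at hq
        have h2 := H.mul_mem (H.mul_mem (H.inv_mem g.2) (hQK hq).1) g.2
        simpa [mul_assoc] using h2
      · exact hQp.map _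
      · intro s hs
        rw [hQ']
        apply hTQ
        rw [hT]
        simpa [mul_assoc] using hs
      · intro q hq i
        rw [hQ'] at hq
        have h2 := (hQK hq).2 i
        simp only [Perm.mul_apply, hgx'] at h2
        have h3 : (g : Perm Ω) (q (x i)) = (g : Perm Ω) (x i) := by rw [h2, hgx]
        exact (g : Perm Ω).injective h3
    ext q
    rw [hT, ← h1, hQ']
    simp [mul_assoc])
  -- Sylow conjugacy in `K`
  obtain ⟨k, hk⟩ := MulAction.exists_smul_eq (↥K) P2 P1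
  have hk2 : ∀ q : ↥K, q ∈ (P1 : Subgroup ↥K) ↔ k⁻¹ * q * k ∈ (P2 : Subgroup ↥K) := by
    intro q
    rw [← hk, Sylow.coe_subgroup_smul, Subgroup.mem_pointwise_smul_iff_inv_smul_mem]
    simp [MulAut.smul_def]
  refine ⟨(k : Perm Ω) * (g : Perm Ω), H.mul_mem k.2.1 g.2, ?_, fun i => ?_⟩
  · rw [Subgroup.mem_normalizer_iff]
    intro s
    constructor
    · intro hs
      -- `k g s g⁻¹ k⁻¹ ∈ S`
      have h1 : (g : Perm Ω) * s * (g : Perm Ω)⁻¹ ∈ T := by
        rw [hT]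
        simpa [mul_assoc] using hs
      have h2 : (k : Perm Ω) * ((g : Perm Ω) * s * (g : Perm Ω)⁻¹) * (k : Perm Ω)⁻¹ ∈ K :=
        K.mul_mem (K.mul_mem k.2 (hTK h1)) (K.inv_mem k.2)
      have h3 := (hk2 ⟨_, h2⟩).mpr (by
        rw [hP2, Subgroup.mem_subgroupOf]
        simpa [mul_assoc] using h1)
      rw [hP1, Subgroup.mem_subgroupOf] at h3
      simpa [mul_assoc] using h3
    · intro hs
      have h2 : (k : Perm Ω) * (g : Perm Ω) * s * ((k : Perm Ω) * (g : Perm Ω))⁻¹ ∈ K := hSK hs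
      have h3 := (hk2 ⟨_, h2⟩).mp (by
        rw [hP1, Subgroup.mem_subgroupOf]
        exact hs)
      rw [hP2, Subgroup.mem_subgroupOf, hT] at h3
      simpa [mul_assoc] using h3
  · rw [Perm.mul_apply, hgx]
    exact k.2.2 i

end Cfsg.Agent.Lib.Helper15.APWITT
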