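import Mathlib
import Cfsg.Prelude.Def_Solvable
import Cfsg.Prelude.Def_Local
import Cfsg.Prelude.Def_Transfer
import Cfsg.Prelude.Def_PLocal
import Cfsg.Agent.Lib.Helper26.AUTQDefs
import Cfsg.Agent.Lib.Helper9.CoprimeSylow

/-!
helper15: leaf `cm2` of helper26's S4411 market (`notes/S4411_leaves.lean`): lifting a Sylow `p`-subgroup of `M ⧸ L` that
normalizes a nontrivial `q`-subgroup to a `{p,q}`-subgroup of `M` containing a Sylow `p`-subgroup and a `q`-element outside `L`.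

Route (no index bookkeeping): `E`/`F` the preimages of `Q'`/`Q' R'`; a Sylow `p`-subgroup `R ≤ F` of `M`; in `M ⧸ H` the image
of `E` is a `p'`-group normalized by the image of `R`, so (coprime action, `Helper9.exists_invariant_sylow`) `R` normalizes the
preimage `T` of a Sylow `q`-subgroup of `E H / H`; `X := T R`; orders of elements of `X` divide `p^a q^b`, Cauchy.
-/

set_option autoImplicit false

namespace Cfsg.Agent.Lib.Helper15.AUTQCM2

open Cfsg Cfsg.Agent.Lib.Helper26.AUTQ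

universe u

/-- `T R = T ⊔ R` elementwise when `R` normalizes `T`. -/
theorem mem_sup_decomp {G : Type*} [Group G] (T R : Subgroup G)
    (h : R ≤ Subgroup.normalizer (T : Set G)) :
    ∀ x ∈ T ⊔ R, ∃ t ∈ T, ∃ r ∈ R, x = t * r := by
  let S : Subgroup G :=
    { carrier := {x | ∃ t ∈ T, ∃ r ∈ R, x = t * r}
      one_mem' := ⟨1, T.one_mem, 1, R.one_mem, by simp⟩
      mul_mem' := by
        rintro _ _ ⟨t, ht, r, hr, rfl⟩ ⟨t', ht', r', hr', rfl⟩
        refine ⟨t * (r * t' * r⁻¹), T.mul_mem ht ?_, r * r', R.mul_mem hr hr', by group⟩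
        exact (Subgroup.mem_normalizer_iff.mp (h hr) t').mp ht'
      inv_mem' := by
        rintro _ ⟨t, ht, r, hr, rfl⟩
        refine ⟨r⁻¹ * t⁻¹ * (r⁻¹)⁻¹, ?_, r⁻¹, R.inv_mem hr, by group⟩
        exact (Subgroup.mem_normalizer_iff.mp (h (R.inv_mem hr)) t⁻¹).mp (T.inv_mem ht) }
  have hle : T ⊔ R ≤ S :=
    sup_le (fun t ht => ⟨t, ht, 1, R.one_mem, by simp⟩) (fun r hr => ⟨1, T.one_mem, r, hr, by simp⟩)
  intro x hx
  exact hle hx

/-- `(t r)^n ∈ T r^n` when `R` normalizes `T`. -/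
theorem pow_decomp {G : Type*} [Group G] (T R : Subgroup G)
    (h : R ≤ Subgroup.normalizer (T : Set G)) {t r : G} (ht : t ∈ T) (hr : r ∈ R) (n : ℕ) :
    ∃ t' ∈ T, (t * r) ^ n = t' * r ^ n := by
  induction n with
  | zero => exact ⟨1, T.one_mem, by simp⟩
  | succ n ih =>
    obtain ⟨t', ht', e⟩ := ih
    refine ⟨t' * (r ^ n * t * (r ^ n)⁻¹), T.mul_mem ht' ?_, ?_⟩
    · exact (Subgroup.mem_normalizer_iff.mp (h (R.pow_mem hr n)) t).mp ht
    · rw [pow_succ, e, pow_succ]; group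

/-- A positive integer all of whose prime divisors are `p` or `q` is `p^a q^b`. -/
theorem eq_pow_mul_pow {p q n : ℕ} (hp : p.Prime) (hq : q.Prime) (hpq : p ≠ q) (hn : n ≠ 0)
    (h : ∀ r : ℕ, r.Prime → r ∣ n → r = p ∨ r = q) : ∃ a b : ℕ, n = p ^ a * q ^ b := by
  refine ⟨n.factorization p, n.factorization q, ?_⟩
  have hne : p ^ n.factorization p * q ^ n.factorization q ≠ 0 :=
    mul_ne_zero (pow_ne_zero _ hp.ne_zero) (pow_ne_zero _ hq.ne_zero)
  apply Nat.eq_of_factorization_eq hn hne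
  intro r
  rw [Nat.factorization_mul (pow_ne_zero _ hp.ne_zero) (pow_ne_zero _ hq.ne_zero),
    hp.factorization_pow, hq.factorization_pow]
  simp only [Finsupp.coe_add, Pi.add_apply, Finsupp.single_apply]
  by_cases hrp : p = r
  · subst hrp
    have : ¬ q = p := fun h => hpq h.symm
    simp [this]
  · by_cases hrq : q = r
    · subst hrq; simp [hrp]
    · simp only [hrp, hrq, if_false, add_zero]
      by_cases hr : r.Prime
      · apply Nat.factorization_eq_zero_of_not_dvd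
        intro hrn
        rcases h r hr hrn with e | e
        · exact hrp e.symm
        · exact hrq e.symm
      · exact Nat.factorization_eq_zero_of_not_prime n hr

/-- A subgroup all of whose elements are killed by some `p^a q^b` has order `p^a q^b`. -/
theorem card_eq_of_orders {G : Type*} [Group G] [Finite G] {p q : ℕ} [hp : Fact p.Prime] [hq : Fact q.Prime]
    (hpq : p ≠ q) (X : Subgroup G) (h : ∀ x ∈ X, ∃ a b : ℕ, x ^ (p ^ a * q ^ b) = 1) :
    ∃ a b : ℕ, Nat.card X = p ^ a * q ^ b := by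
  apply eq_pow_mul_pow hp.out hq.out hpq Nat.card_pos.ne'
  intro r hr hrn
  have := Fact.mk hr
  obtain ⟨x, hx⟩ := exists_prime_orderOf_dvd_card' r hrn
  obtain ⟨a, b, hab⟩ := h x x.2
  have h1 : x ^ (p ^ a * q ^ b) = 1 := Subtype.ext (by simpa using hab)
  have hd : r ∣ p ^ a * q ^ b := hx ▸ orderOf_dvd_of_pow_eq_one h1
  rcases (Nat.Prime.dvd_mul hr).mp hd with h2 | h2
  · left; exact (Nat.prime_dvd_prime_iff_eq hr hp.out).mp (hr.dvd_of_dvd_pow h2)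
  · right; exact (Nat.prime_dvd_prime_iff_eq hr hq.out).mp (hr.dvd_of_dvd_pow h2)

/-- (CM2) lifting. -/
theorem cm2 {M : Type u} [Group M] [Finite M] (p q : ℕ) [Fact p.Prime] [Fact q.Prime] (hpq : p ≠ q)
    (L : Subgroup M) [L.Normal] (H : Subgroup M) [H.Normal] (hH : IsPGroup p H) (hHL : H ≤ L)
    (hsyl : ¬ p ∣ H.relIndex L)
    (R' : Sylow p (M ⧸ L)) (Q' : Subgroup (M ⧸ L)) (hQ' : IsPGroup q Q') (hQ'1 : Q' ≠ ⊥)
    (hRQ : (R' : Subgroup (M ⧸ L)) ≤ Subgroup.normalizer (Q' : Set (M ⧸ L))) :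
    ∃ (R : Sylow p M) (X : Subgroup M), (R : Subgroup M) ≤ X ∧ (∃ a b : ℕ, Nat.card X = p ^ a * q ^ b) ∧
      ∃ y ∈ X, QElt q y ∧ y ∉ L := by
  classical
  have hp : p.Prime := Fact.out
  have hq : q.Prime := Fact.out
  obtain ⟨πL, hπL⟩ : ∃ f : M →* M ⧸ L, f = QuotientGroup.mk' L := ⟨_, rfl⟩
  obtain ⟨πH, hπH⟩ : ∃ f : M →* M ⧸ H, f = QuotientGroup.mk' H := ⟨_, rfl⟩
  have hπLs : Function.Surjective πL := hπL ▸ QuotientGroup.mk'_surjective L
  have hπLk : ∀ x : M, πL x = 1 ↔ x ∈ L := fun x => by rw [hπL]; exact QuotientGroup.eq_one_iff x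
  have hπHk : ∀ x : M, πH x = 1 ↔ x ∈ H := fun x => by rw [hπH]; exact QuotientGroup.eq_one_iff x
  obtain ⟨E, hE⟩ : ∃ E : Subgroup M, E = Q'.comap πL := ⟨_, rfl⟩
  obtain ⟨F, hF⟩ : ∃ F : Subgroup M, F = (Q' ⊔ (R' : Subgroup (M ⧸ L))).comap πL := ⟨_, rfl⟩
  have hmemE : ∀ x : M, x ∈ E ↔ πL x ∈ Q' := fun x => by rw [hE]; exact Subgroup.mem_comap
  have hmemF : ∀ x : M, x ∈ F ↔ πL x ∈ Q' ⊔ (R' : Subgroup (M ⧸ L)) := fun x => by
    rw [hF]; exact Subgroup.mem_comap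
  -- S1 : a Sylow `p`-subgroup of `M` inside `F`
  have hFidx : ¬ p ∣ F.index := by
    rw [hF, Subgroup.index_comap_of_surjective _ hπLs]
    intro hd
    exact R'.not_dvd_index (dvd_trans hd (Subgroup.index_dvd_of_le le_sup_right))
  obtain ⟨R, hRF⟩ : ∃ R : Sylow p M, (R : Subgroup M) ≤ F := by
    obtain ⟨P₀⟩ : Nonempty (Sylow p F) := inferInstance
    have hpg : IsPGroup p ((P₀ : Subgroup F).map F.subtype) := P₀.isPGroup'.map F.subtype
    have hidx2 : ¬ p ∣ ((P₀ : Subgroup F).map F.subtype).index := by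
      rw [Subgroup.index_map_subtype]
      exact Nat.Prime.not_dvd_mul hp P₀.not_dvd_index hFidx
    refine ⟨hpg.toSylow hidx2, ?_⟩
    show (P₀ : Subgroup F).map F.subtype ≤ F
    exact Subgroup.map_subtype_le _
  -- S2 : `F` normalizes `E`
  have hQn : Q' ⊔ (R' : Subgroup (M ⧸ L)) ≤ Subgroup.normalizer (Q' : Set (M ⧸ L)) :=
    sup_le Subgroup.le_normalizer hRQ
  have hFE : F ≤ Subgroup.normalizer (E : Set M) := by
    intro f hf
    have hf' : πL f ∈ Subgroup.normalizer (Q' : Set (M ⧸ L)) := hQn ((hmemF f).mp hf)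
    rw [Subgroup.mem_normalizer_iff] at hf' ⊢
    intro x
    rw [hmemE, hmemE, map_mul, map_mul, map_inv]
    exact hf' (πL x)
  -- S3 : the `p`-elements of `E` lie in `H`
  have hPE : ∀ x ∈ E, (∃ k : ℕ, x ^ (p ^ k) = 1) → x ∈ H := by
    rintro x hx ⟨k, hk⟩
    have hxL : x ∈ L := by
      have h1 : (πL x) ^ (p ^ k) = 1 := by rw [← map_pow, hk, map_one]
      obtain ⟨j, hj⟩ := hQ' ⟨πL x, (hmemE x).mp hx⟩
      have h2 : (πL x) ^ (q ^ j) = 1 := by simpa using congrArg Subtype.val hj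
      have hc : Nat.Coprime (p ^ k) (q ^ j) := Nat.Coprime.pow _ _ ((Nat.coprime_primes hp hq).mpr hpq)
      have h4 : orderOf (πL x) ∣ Nat.gcd (p ^ k) (q ^ j) :=
        Nat.dvd_gcd (orderOf_dvd_of_pow_eq_one h1) (orderOf_dvd_of_pow_eq_one h2)
      rw [hc] at h4
      exact (hπLk x).mp (orderOf_eq_one_iff.mp (Nat.dvd_one.mp h4))
    have hzp : IsPGroup p (Subgroup.zpowers x) := by
      obtain ⟨j, -, hj⟩ := (Nat.dvd_prime_pow hp).mp (orderOf_dvd_of_pow_eq_one hk)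
      exact IsPGroup.of_card (n := j) (by rw [Nat.card_zpowers, hj])
    have hWp : IsPGroup p (Subgroup.zpowers x ⊔ H : Subgroup M) := IsPGroup.to_sup_of_normal_right hzp hH
    have hWL : Subgroup.zpowers x ⊔ H ≤ L := sup_le (by rw [Subgroup.zpowers_le]; exact hxL) hHL
    have hHW : H ≤ Subgroup.zpowers x ⊔ H := le_sup_right
    obtain ⟨n, hn⟩ := hWp.index (H.subgroupOf (Subgroup.zpowers x ⊔ H))
    have hmul := Subgroup.relIndex_mul_relIndex H (Subgroup.zpowers x ⊔ H) L hHW hWL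
    have hrel : H.relIndex (Subgroup.zpowers x ⊔ H) = p ^ n := hn
    have hn0 : n = 0 := by
      by_contra h0
      apply hsyl
      rw [← hmul, hrel]
      exact dvd_mul_of_dvd_left (dvd_pow_self p h0) _
    rw [hn0, pow_zero] at hrel
    have hWH : Subgroup.zpowers x ⊔ H ≤ H := Subgroup.relIndex_eq_one.mp hrel
    exact hWH (le_sup_left (a := Subgroup.zpowers x) (Subgroup.mem_zpowers x))
  -- S4 : pass to `M ⧸ H`
  obtain ⟨Ebar, hEbar⟩ : ∃ Eb : Subgroup (M ⧸ H), Eb = E.map πH := ⟨_, rfl⟩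
  obtain ⟨Rbar, hRbar⟩ : ∃ Rb : Subgroup (M ⧸ H), Rb = (R : Subgroup M).map πH := ⟨_, rfl⟩
  have hRE : Rbar ≤ Subgroup.normalizer (Ebar : Set (M ⧸ H)) := by
    rw [hRbar]
    rintro _ ⟨r, hr, rfl⟩
    have hr' := hFE (hRF hr)
    rw [Subgroup.mem_normalizer_iff] at hr' ⊢
    intro z
    rw [hEbar]
    constructor
    · rintro ⟨e, he, rfl⟩
      exact ⟨r * e * r⁻¹, (hr' e).mp he, by simp⟩
    · rintro ⟨e, he, hez⟩
      refine ⟨r⁻¹ * e * r, ?_, ?_⟩
      · have h1 : r * (r⁻¹ * e * r) * r⁻¹ = e := by group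
        exact (hr' (r⁻¹ * e * r)).mpr (by rw [h1]; exact he)
      · rw [map_mul, map_mul, map_inv, hez]; group
  have hRbarp : IsPGroup p Rbar := by rw [hRbar]; exact R.isPGroup'.map πH
  have hEbar_np : ¬ p ∣ Nat.card Ebar := by
    intro hd
    obtain ⟨z, hz⟩ := exists_prime_orderOf_dvd_card' p hd
    have hz2 : (z : M ⧸ H) ∈ E.map πH := hEbar ▸ z.2
    obtain ⟨e, he, hez⟩ := hz2
    have h1 : (z : M ⧸ H) ^ p = 1 := by
      have : z ^ p = 1 := by rw [← hz]; exact pow_orderOf_eq_one z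
      simpa using congrArg Subtype.val this
    have h2 : e ^ p ∈ H := by
      rw [← hez, ← map_pow] at h1
      exact (hπHk _).mp h1
    obtain ⟨c, hc⟩ := hH ⟨e ^ p, h2⟩
    have h3 : e ^ (p ^ (c + 1)) = 1 := by
      have : (e ^ p) ^ (p ^ c) = 1 := by simpa using congrArg Subtype.val hc
      rw [← pow_mul] at this
      rwa [pow_succ, mul_comm]
    have h4 : e ∈ H := hPE e he ⟨c + 1, h3⟩
    have h5 : (z : M ⧸ H) = 1 := by rw [← hez]; exact (hπHk e).mpr h4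
    have h6 : z = 1 := Subtype.ext h5
    rw [h6, orderOf_one] at hz
    exact hp.one_lt.ne hz
  have hcop : (Nat.card Rbar).Coprime (Nat.card Ebar) := by
    obtain ⟨n, hn⟩ := IsPGroup.exists_card_eq hRbarp
    rw [hn]
    exact Nat.Coprime.pow_left n ((Nat.Prime.coprime_iff_not_dvd hp).mpr hEbar_np)
  have hsolv : Group.IsSolvable Rbar ∨ Group.IsSolvable Ebar := by
    left
    have : Group.IsNilpotent Rbar := hRbarp.isNilpotent
    infer_instance
  -- S5 : an invariant Sylow `q`-subgroup of `Ebar`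
  obtain ⟨Qb, hQb⟩ := Cfsg.Agent.Lib.Helper9.exists_invariant_sylow Rbar Ebar hRE hcop hsolv q
  obtain ⟨Q1, hQ1⟩ : ∃ Q1 : Subgroup (M ⧸ H), Q1 = (Qb : Subgroup Ebar).map Ebar.subtype := ⟨_, rfl⟩
  rw [← hQ1] at hQb
  have hQ1q : IsPGroup q Q1 := by rw [hQ1]; exact Qb.isPGroup'.map _
  -- S6 : `T`, `X`
  obtain ⟨T, hT⟩ : ∃ T : Subgroup M, T = Q1.comap πH := ⟨_, rfl⟩
  have hmemT : ∀ x : M, x ∈ T ↔ πH x ∈ Q1 := fun x => by rw [hT]; exact Subgroup.mem_comap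
  have hRT : (R : Subgroup M) ≤ Subgroup.normalizer (T : Set M) := by
    intro r hr
    have h1 : πH r ∈ Subgroup.normalizer (Q1 : Set (M ⧸ H)) := hQb (hRbar ▸ ⟨r, hr, rfl⟩)
    rw [Subgroup.mem_normalizer_iff] at h1 ⊢
    intro x
    rw [hmemT, hmemT, map_mul, map_mul, map_inv]
    exact h1 (πH x)
  -- S7 : orders of elements
  have hTord : ∀ t ∈ T, ∃ a b : ℕ, t ^ (p ^ a * q ^ b) = 1 := by
    intro t ht
    obtain ⟨j, hj⟩ := hQ1q ⟨πH t, (hmemT t).mp ht⟩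
    have h1 : (πH t) ^ (q ^ j) = 1 := by simpa using congrArg Subtype.val hj
    have h2 : t ^ (q ^ j) ∈ H := by
      rw [← map_pow] at h1; exact (hπHk _).mp h1
    obtain ⟨c, hc⟩ := hH ⟨t ^ (q ^ j), h2⟩
    have h3 : (t ^ (q ^ j)) ^ (p ^ c) = 1 := by simpa using congrArg Subtype.val hc
    exact ⟨c, j, by rw [mul_comm, pow_mul]; exact h3⟩
  have hXord : ∀ x ∈ T ⊔ (R : Subgroup M), ∃ a b : ℕ, x ^ (p ^ a * q ^ b) = 1 := by
    intro x hx
    obtain ⟨t, ht, r, hr, rfl⟩ := mem_sup_decomp T R hRT x hx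
    obtain ⟨m, hm⟩ := R.isPGroup' ⟨r, hr⟩
    have hm' : r ^ (p ^ m) = 1 := by simpa using congrArg Subtype.val hm
    obtain ⟨t', ht', e⟩ := pow_decomp T R hRT ht hr (p ^ m)
    rw [hm', mul_one] at e
    obtain ⟨a, b, hab⟩ := hTord t' ht'
    refine ⟨m + a, b, ?_⟩
    rw [pow_add, mul_assoc, pow_mul, e, hab]
  have hXcard := card_eq_of_orders hpq (T ⊔ (R : Subgroup M)) hXord
  -- S8 : a `q`-element of `E` outside `L`
  obtain ⟨a0, ha0, ha01⟩ : ∃ a ∈ Q', a ≠ 1 := by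
    by_contra hcon
    push Not at hcon
    exact hQ'1 ((Subgroup.eq_bot_iff_forall _).mpr hcon)
  obtain ⟨x0, rfl⟩ := hπLs a0
  have hn0 : orderOf x0 ≠ 0 := (orderOf_pos x0).ne'
  obtain ⟨m, hm⟩ : ∃ m : ℕ, m = orderOf x0 / q ^ (orderOf x0).factorization q := ⟨_, rfl⟩
  have hmq : Nat.Coprime q m := hm ▸ Nat.coprime_ordCompl hq hn0
  have hnm : q ^ (orderOf x0).factorization q * m = orderOf x0 :=
    hm ▸ Nat.ordProj_mul_ordCompl_eq_self (orderOf x0) q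
  have hy1E : x0 ^ m ∈ E := E.pow_mem ((hmemE x0).mpr ha0) m
  have hy1q : (x0 ^ m) ^ (q ^ (orderOf x0).factorization q) = 1 := by
    rw [← pow_mul, mul_comm, hnm]; exact pow_orderOf_eq_one x0
  have hy1L : x0 ^ m ∉ L := by
    intro hL
    have h1 : (πL x0) ^ m = 1 := by rw [← map_pow]; exact (hπLk _).mpr hL
    obtain ⟨i, hi⟩ := hQ' ⟨πL x0, ha0⟩
    have h2 : (πL x0) ^ (q ^ i) = 1 := by simpa using congrArg Subtype.val hi
    have h3 : orderOf (πL x0) ∣ Nat.gcd (q ^ i) m :=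
      Nat.dvd_gcd (orderOf_dvd_of_pow_eq_one h2) (orderOf_dvd_of_pow_eq_one h1)
    have h4 : Nat.gcd (q ^ i) m = 1 := Nat.Coprime.pow_left i hmq
    rw [h4] at h3
    exact ha01 (orderOf_eq_one_iff.mp (Nat.dvd_one.mp h3))
  have hyb : πH (x0 ^ m) ∈ Ebar := hEbar ▸ ⟨x0 ^ m, hy1E, rfl⟩
  have hybq : IsPGroup q (Subgroup.zpowers (⟨πH (x0 ^ m), hyb⟩ : Ebar)) := by
    have h1 : (⟨πH (x0 ^ m), hyb⟩ : Ebar) ^ (q ^ (orderOf x0).factorization q) = 1 := by
      apply Subtype.ext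
      rw [Subgroup.coe_pow, Subgroup.coe_one]
      show (πH (x0 ^ m)) ^ _ = 1
      rw [← map_pow, hy1q, map_one]
    obtain ⟨j, -, hj⟩ := (Nat.dvd_prime_pow hq).mp (orderOf_dvd_of_pow_eq_one h1)
    exact IsPGroup.of_card (n := j) (by rw [Nat.card_zpowers, hj])
  obtain ⟨P, hP⟩ := hybq.exists_le_sylow
  obtain ⟨g, hg⟩ := MulAction.exists_smul_eq Ebar P Qb
  have hmem : g * ⟨πH (x0 ^ m), hyb⟩ * g⁻¹ ∈ (Qb : Subgroup Ebar) := by
    have h0 : (⟨πH (x0 ^ m), hyb⟩ : Ebar) ∈ (P : Subgroup Ebar) := hP (Subgroup.mem_zpowers _)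
    have h1 : MulAut.conj g • (⟨πH (x0 ^ m), hyb⟩ : Ebar) ∈ ((g • P : Sylow q Ebar) : Subgroup Ebar) := by
      rw [Sylow.smul_def, Sylow.pointwise_smul_def]
      exact Subgroup.smul_mem_pointwise_smul _ _ _ h0
    rw [hg] at h1
    simpa [MulAut.smul_def, MulAut.conj_apply] using h1
  have hg2 : (g : M ⧸ H) ∈ E.map πH := hEbar ▸ g.2
  obtain ⟨γ, hγE, hγ⟩ := hg2
  have hyT : γ * x0 ^ m * γ⁻¹ ∈ T := by
    rw [hmemT, map_mul, map_mul, map_inv, hγ, hQ1]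
    exact ⟨g * ⟨πH (x0 ^ m), hyb⟩ * g⁻¹, hmem, by simp⟩
  have hyq : QElt q (γ * x0 ^ m * γ⁻¹) := by
    have h1 : (γ * x0 ^ m * γ⁻¹) ^ (q ^ (orderOf x0).factorization q) = 1 := by
      rw [conj_pow, hy1q]; group
    obtain ⟨j, -, hj⟩ := (Nat.dvd_prime_pow hq).mp (orderOf_dvd_of_pow_eq_one h1)
    exact ⟨j, hj⟩
  have hyL : γ * x0 ^ m * γ⁻¹ ∉ L := by
    intro h
    apply hy1L
    have h1 := (inferInstance : L.Normal).conj_mem _ h γ⁻¹
    have h2 : γ⁻¹ * (γ * x0 ^ m * γ⁻¹) * γ⁻¹⁻¹ = x0 ^ m := by group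
    rwa [h2] at h1
  exact ⟨R, T ⊔ (R : Subgroup M), le_sup_right, hXcard, _, le_sup_left (a := T) hyT, hyq, hyL⟩

end Cfsg.Agent.Lib.Helper15.AUTQCM2
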