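import Mathlib
import Cfsg.Prelude.Def_Solvable
import Cfsg.Prelude.Def_Local
import Cfsg.Prelude.Def_Transfer
import Cfsg.Prelude.Def_PLocal
import Cfsg.Agent.Lib.Helper26.AUTQDefs
import Cfsg.Agent.Lib.Helper15.AUTQCM2

/-!
helper15: leaf `cm` of helper26's S4411 market in `_of` form: (CM) = (CM1) + (CA) + (CM2), with the conclusions of
(CM1) and (CA) for `M ⧸ L` as hypotheses (`Helper15.AUTQCM` instantiates them with the landed leaves).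
-/

set_option autoImplicit false

namespace Cfsg.Agent.Lib.Helper15.AUTQCMOf

open Cfsg Cfsg.Agent.Lib.Helper26.AUTQ

universe u

/-- the image of a `q`-element outside `L` shows `q ∣ |M ⧸ L|`. -/
theorem dvd_card_quotient {M : Type u} [Group M] [Finite M] (q : ℕ) [hq : Fact q.Prime]
    (L : Subgroup M) [L.Normal] (h : ∃ y : M, QElt q y ∧ y ∉ L) : q ∣ Nat.card (M ⧸ L) := by
  obtain ⟨y, ⟨k, hk⟩, hyL⟩ := h
  have h1 : orderOf (QuotientGroup.mk' L y) ∣ q ^ k := hk ▸ orderOf_map_dvd (QuotientGroup.mk' L) y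
  obtain ⟨j, -, hj⟩ := (Nat.dvd_prime_pow hq.out).mp h1
  have hj0 : j ≠ 0 := by
    intro h0
    rw [h0, pow_zero, orderOf_eq_one_iff] at hj
    exact hyL ((QuotientGroup.eq_one_iff y).mp hj)
  have h2 : q ∣ orderOf (QuotientGroup.mk' L y) := hj ▸ dvd_pow_self q hj0
  exact dvd_trans h2 (orderOf_dvd_natCard _)

/-- (CM), `_of` form. -/
theorem cm_of {M : Type u} [Group M] [Finite M] (p q : ℕ) [Fact p.Prime] [Fact q.Prime] (hpq : p ≠ q)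
    (L : Subgroup M) [L.Normal] (H : Subgroup M) [H.Normal] (hH : IsPGroup p H) (hHL : H ≤ L)
    (hsyl : ¬ p ∣ H.relIndex L) (hsol : Cfsg.IsPSolvable p (M ⧸ L)) (hq : ∃ y : M, QElt q y ∧ y ∉ L)
    (hF' : ∀ (R' : Sylow p (M ⧸ L)) (T' : Subgroup (M ⧸ L)), T' ≠ ⊥ → T' ≤ R' →
        (R' : Subgroup (M ⧸ L)) ≤ Subgroup.normalizer (T' : Set (M ⧸ L)) →
        ∀ y ∈ Subgroup.normalizer (T' : Set (M ⧸ L)), QElt q y → y = 1)
    (hca : Cfsg.IsPSolvable p (M ⧸ L) → q ∣ Nat.card (M ⧸ L) →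
        (∀ (R' : Sylow p (M ⧸ L)) (T' : Subgroup (M ⧸ L)), T' ≠ ⊥ → T' ≤ R' →
          (R' : Subgroup (M ⧸ L)) ≤ Subgroup.normalizer (T' : Set (M ⧸ L)) →
          ∀ y ∈ Subgroup.normalizer (T' : Set (M ⧸ L)), QElt q y → y = 1) →
        ∃ (R' : Sylow p (M ⧸ L)) (Q' : Subgroup (M ⧸ L)), IsPGroup q Q' ∧ Q' ≠ ⊥ ∧
          (R' : Subgroup (M ⧸ L)) ≤ Subgroup.normalizer (Q' : Set (M ⧸ L))) :
    ∃ (R : Sylow p M) (X : Subgroup M), (R : Subgroup M) ≤ X ∧ (∃ a b : ℕ, Nat.card X = p ^ a * q ^ b) ∧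
      ∃ y ∈ X, QElt q y ∧ y ∉ L := by
  obtain ⟨R', Q', hQ', hQ'1, hRQ⟩ := hca hsol (dvd_card_quotient q L hq) hF'
  exact Cfsg.Agent.Lib.Helper15.AUTQCM2.cm2 p q hpq L H hH hHL hsyl R' Q' hQ' hQ'1 hRQ

end Cfsg.Agent.Lib.Helper15.AUTQCMOf
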