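import Cfsg.Agent.S2364

set_option autoImplicit false

namespace Cfsg.Agent.Lib.Helper15.PrimeGraphSL

open Matrix Cfsg.Agent.Lib.Helper15.SylowLarge

section grp

/-- lifting two commuting elements of coprime orders through the centre -/
lemma lift_pair {G : Type*} [Group G] [Finite (Subgroup.center G)] (u v : ℕ) (hu : 1 < u)
    (hv : 1 < v) (huv : Nat.Coprime u v)
    (hZu : Nat.Coprime (Nat.card (Subgroup.center G)) u)
    (hZv : Nat.Coprime (Nat.card (Subgroup.center G)) v)
    (a b : G ⧸ Subgroup.center G) (hab : Commute a b) (ha : a ^ u = 1) (hb : b ^ v = 1) :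
    ∃ a' b' : G, (a' : G ⧸ Subgroup.center G) = a ∧ (b' : G ⧸ Subgroup.center G) = b ∧
      a' ^ u = 1 ∧ b' ^ v = 1 ∧ Commute a' b' := by
  obtain ⟨a', ha', ha'u⟩ := Cfsg.Agent.S2364.exists_lift_pow (Subgroup.center G) u hu hZu a ha
  obtain ⟨b', hb', hb'v⟩ := Cfsg.Agent.S2364.exists_lift_pow (Subgroup.center G) v hv hZv b hb
  refine ⟨a', b', ha', hb', ha'u, hb'v, ?_⟩
  apply Cfsg.Agent.S2364.commute_of_central a' b' u v ha'u hb'v huv
  rw [← QuotientGroup.eq_one_iff]
  rw [QuotientGroup.mk_mul, QuotientGroup.mk_mul, QuotientGroup.mk_mul, QuotientGroup.mk_inv,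
    QuotientGroup.mk_inv, ha', hb', hab.eq, mul_inv_cancel_right, mul_inv_cancel]

/-- an element of prime order outside a normal subgroup keeps its order in the quotient -/
lemma orderOf_mk_prime {G : Type*} [Group G] (Z : Subgroup G) [Z.Normal] (x : G) (r : ℕ)
    [hr : Fact r.Prime] (hx : x ^ r = 1) (hxZ : x ∉ Z) : orderOf (x : G ⧸ Z) = r := by
  apply orderOf_eq_prime
  · rw [← QuotientGroup.mk_pow, hx]; rfl
  · intro h
    exact hxZ ((QuotientGroup.eq_one_iff x).mp h)

/-- commuting elements of distinct prime orders outside `Z` give an element of order `r * s`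
in the quotient -/
lemma exists_orderOf_mul {G : Type*} [Group G] (Z : Subgroup G) [Z.Normal] (x y : G) (r s : ℕ)
    [hr : Fact r.Prime] [hs : Fact s.Prime] (hrs : r ≠ s) (hc : Commute x y)
    (hx : x ^ r = 1) (hy : y ^ s = 1) (hxZ : x ∉ Z) (hyZ : y ∉ Z) :
    r * s ∈ Set.range (orderOf : G ⧸ Z → ℕ) := by
  refine ⟨(x : G ⧸ Z) * (y : G ⧸ Z), ?_⟩
  have h1 := orderOf_mk_prime Z x r hx hxZ
  have h2 := orderOf_mk_prime Z y s hy hyZ
  have hc' : Commute (x : G ⧸ Z) (y : G ⧸ Z) := by
    show (x : G ⧸ Z) * (y : G ⧸ Z) = (y : G ⧸ Z) * (x : G ⧸ Z)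
    rw [← QuotientGroup.mk_mul, ← QuotientGroup.mk_mul, hc.eq]
  rw [hc'.orderOf_mul_eq_mul_orderOf_of_coprime (by
    rw [h1, h2]; exact (Nat.coprime_primes hr.out hs.out).mpr hrs), h1, h2]

end grp

section sl

variable {F : Type*} [Field F] [Fintype F]

/-- the order of the centre of `SL_n(F)` divides `q - 1` -/
lemma card_center_dvd (n : ℕ) (hn : 1 ≤ n) :
    Nat.card (Subgroup.center (SpecialLinearGroup (Fin n) F)) ∣ Fintype.card F - 1 := by
  have i0 : Fin n := ⟨0, by omega⟩
  have h1 : Nat.card (Subgroup.center (SpecialLinearGroup (Fin n) F)) =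
      Nat.card (rootsOfUnity (Fintype.card (Fin n)) F) :=
    Nat.card_congr (SpecialLinearGroup.center_equiv_rootsOfUnity' i0).toEquiv
  rw [h1]
  have h2 := Subgroup.card_subgroup_dvd_card (rootsOfUnity (Fintype.card (Fin n)) F)
  rwa [Nat.card_units, Nat.card_eq_fintype_card (α := F)] at h2

/-- a prime not dividing `q - 1` is coprime to the order of the centre -/
lemma center_coprime (n : ℕ) (hn : 1 ≤ n) (r : ℕ) (hr : r.Prime)
    (h : ¬ r ∣ Fintype.card F - 1) :
    Nat.Coprime (Nat.card (Subgroup.center (SpecialLinearGroup (Fin n) F))) r := by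
  apply Nat.Coprime.symm
  rw [Nat.Prime.coprime_iff_not_dvd hr]
  intro h'
  exact h (h'.trans (card_center_dvd n hn))

/-- an element of prime order `r` with `r ∤ q - 1` is not central -/
lemma not_mem_center (n : ℕ) (hn : 1 ≤ n) (r : ℕ)
    (h : ¬ r ∣ Fintype.card F - 1) (x : SpecialLinearGroup (Fin n) F) (hx : orderOf x = r) :
    x ∉ Subgroup.center (SpecialLinearGroup (Fin n) F) := by
  intro hxZ
  have h1 : orderOf (⟨x, hxZ⟩ : Subgroup.center (SpecialLinearGroup (Fin n) F)) = r := by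
    rw [← hx]
    exact (Subgroup.orderOf_coe (⟨x, hxZ⟩ : Subgroup.center (SpecialLinearGroup (Fin n) F))).symm
  have h2 : r ∣ Nat.card (Subgroup.center (SpecialLinearGroup (Fin n) F)) := by
    rw [← h1]; exact orderOf_dvd_natCard _
  exact h (h2.trans (card_center_dvd n hn))

/-- the linear endomorphism attached to a matrix of `SL_n` -/
noncomputable def toEnd {n : ℕ} (g : SpecialLinearGroup (Fin n) F) : Module.End F (Fin n → F) :=
  Matrix.toLinAlgEquiv' (g : Matrix (Fin n) (Fin n) F)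

omit [Fintype F] in
lemma toEnd_pow {n : ℕ} (g : SpecialLinearGroup (Fin n) F) (m : ℕ) (h : g ^ m = 1) :
    toEnd g ^ m = 1 := by
  have h1 : (g : Matrix (Fin n) (Fin n) F) ^ m = 1 := by
    have := congrArg (fun x : SpecialLinearGroup (Fin n) F => (x : Matrix (Fin n) (Fin n) F)) h
    simpa using this
  unfold toEnd
  rw [← map_pow, h1, map_one]

omit [Fintype F] in
lemma toEnd_commute {n : ℕ} (g h : SpecialLinearGroup (Fin n) F) (hc : Commute g h) :
    Commute (toEnd g) (toEnd h) := by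
  show toEnd g * toEnd h = toEnd h * toEnd g
  have h1 : (g : Matrix (Fin n) (Fin n) F) * (h : Matrix (Fin n) (Fin n) F) =
      (h : Matrix (Fin n) (Fin n) F) * (g : Matrix (Fin n) (Fin n) F) := by
    have := congrArg (fun x : SpecialLinearGroup (Fin n) F => (x : Matrix (Fin n) (Fin n) F)) hc.eq
    simpa using this
  unfold toEnd
  rw [← map_mul, ← map_mul, h1]

omit [Fintype F] in
lemma toEnd_eq_one {n : ℕ} (g : SpecialLinearGroup (Fin n) F) (h : toEnd g = 1) : g = 1 := by
  have h1 : (g : Matrix (Fin n) (Fin n) F) = 1 := by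
    apply Matrix.toLinAlgEquiv'.injective
    rw [map_one]; exact h
  exact Subtype.ext h1

end sl

section block

variable {R : Type*} [CommRing R]

/-- reindexing of special linear groups -/
def slReindex {ι κ : Type*} [Fintype ι] [DecidableEq ι] [Fintype κ] [DecidableEq κ]
    (e : ι ≃ κ) : SpecialLinearGroup ι R ≃* SpecialLinearGroup κ R where
  toFun g := ⟨Matrix.reindex e e g.1, by rw [Matrix.det_reindex_self]; exact g.2⟩
  invFun g := ⟨Matrix.reindex e.symm e.symm g.1, by rw [Matrix.det_reindex_self]; exact g.2⟩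
  left_inv g := by
    apply Subtype.ext
    simp
  right_inv g := by
    apply Subtype.ext
    simp
  map_mul' g h := by
    apply Subtype.ext
    show Matrix.reindex e e (g.1 * h.1) = Matrix.reindex e e g.1 * Matrix.reindex e e h.1
    simp only [Matrix.reindex_apply]
    rw [Matrix.submatrix_mul_equiv]

theorem slReindex_coe {ι κ : Type*} [Fintype ι] [DecidableEq ι] [Fintype κ] [DecidableEq κ]
    (e : ι ≃ κ) (g : SpecialLinearGroup ι R) :
    ((slReindex e g : SpecialLinearGroup κ R) : Matrix κ κ R) = Matrix.reindex e e g.1 := rfl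

/-- block diagonal embedding -/
def bd (α δ : Type*) [Fintype α] [DecidableEq α] [Fintype δ] [DecidableEq δ] :
    SpecialLinearGroup α R × SpecialLinearGroup δ R →* SpecialLinearGroup (α ⊕ δ) R where
  toFun x := ⟨Matrix.fromBlocks x.1.1 0 0 x.2.1, by
    rw [Matrix.det_fromBlocks_zero₂₁, x.1.2, x.2.2, one_mul]⟩
  map_one' := by
    apply Subtype.ext
    show Matrix.fromBlocks (1 : Matrix α α R) 0 0 (1 : Matrix δ δ R) = 1
    exact Matrix.fromBlocks_one
  map_mul' x y := by
    apply Subtype.ext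
    show Matrix.fromBlocks (x.1.1 * y.1.1) 0 0 (x.2.1 * y.2.1) =
      Matrix.fromBlocks x.1.1 0 0 x.2.1 * Matrix.fromBlocks y.1.1 0 0 y.2.1
    rw [Matrix.fromBlocks_multiply]
    simp

theorem bd_coe (α δ : Type*) [Fintype α] [DecidableEq α] [Fintype δ] [DecidableEq δ]
    (x : SpecialLinearGroup α R × SpecialLinearGroup δ R) :
    ((bd α δ x : SpecialLinearGroup (α ⊕ δ) R) : Matrix (α ⊕ δ) (α ⊕ δ) R) =
      Matrix.fromBlocks x.1.1 0 0 x.2.1 := rfl

theorem bd_injective (α δ : Type*) [Fintype α] [DecidableEq α] [Fintype δ] [DecidableEq δ] :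
    Function.Injective (bd (R := R) α δ) := by
  intro x y h
  have h1 := congrArg Subtype.val h
  rw [bd_coe, bd_coe, Matrix.fromBlocks_inj] at h1
  exact Prod.ext (Subtype.ext h1.1) (Subtype.ext h1.2.2.2)

/-- the index equivalence used by `emb` -/
noncomputable def embEquiv (a b n : ℕ) (h : a + b ≤ n) :
    Fin a ⊕ (Fin b ⊕ Fin (n - a - b)) ≃ Fin n :=
  Fintype.equivFinOfCardEq (by
    simp only [Fintype.card_sum, Fintype.card_fin]; omega)

/-- the embedding `SL_a × SL_b → SL_n` for `a + b ≤ n` -/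
noncomputable def emb (a b n : ℕ) (h : a + b ≤ n) :
    SpecialLinearGroup (Fin a) R × SpecialLinearGroup (Fin b) R →* SpecialLinearGroup (Fin n) R :=
  (slReindex (embEquiv a b n h)).toMonoidHom.comp
    ((bd (Fin a) (Fin b ⊕ Fin (n - a - b))).comp
      (MonoidHom.prodMap (MonoidHom.id _)
        ((bd (Fin b) (Fin (n - a - b))).comp (MonoidHom.inl _ _))))

theorem emb_coe (a b n : ℕ) (h : a + b ≤ n)
    (x : SpecialLinearGroup (Fin a) R × SpecialLinearGroup (Fin b) R) :
    ((emb a b n h x : SpecialLinearGroup (Fin n) R) : Matrix (Fin n) (Fin n) R) =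
      Matrix.reindex (embEquiv a b n h) (embEquiv a b n h)
        (Matrix.fromBlocks x.1.1 0 0 (Matrix.fromBlocks x.2.1 0 0 1)) := rfl

theorem emb_injective (a b n : ℕ) (h : a + b ≤ n) : Function.Injective (emb (R := R) a b n h) := by
  unfold emb
  intro x y hxy
  have h1 := (slReindex _).injective hxy
  have h2 := bd_injective _ _ h1
  have h3 := congrArg Prod.fst h2
  have h4 := congrArg Prod.snd h2
  simp only [MonoidHom.prodMap_def, MonoidHom.coe_prod, MonoidHom.coe_comp, MonoidHom.coe_fst,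
    MonoidHom.coe_snd] at h3 h4
  have h5 := bd_injective _ _ h4
  have h6 := congrArg Prod.fst h5
  simp only [MonoidHom.inl_apply] at h6
  exact Prod.ext h3 h6

/-- `emb (x, 1)` is central only for `x = 1` (when the second block is non-empty) -/
theorem emb_not_central (a b n : ℕ) (h : a + b ≤ n) (hb : 0 < b)
    (x : SpecialLinearGroup (Fin a) R) (hx : x ≠ 1) :
    emb a b n h (x, 1) ∉ Subgroup.center (SpecialLinearGroup (Fin n) R) := by
  intro hc
  rw [Matrix.SpecialLinearGroup.mem_center_iff] at hc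
  obtain ⟨c, -, hc⟩ := hc
  let j₀ : Fin b := ⟨0, hb⟩
  let i : Fin n := embEquiv a b n h (Sum.inr (Sum.inl j₀))
  have h1 := congrFun (congrFun hc i) i
  rw [emb_coe] at h1
  simp only [Matrix.scalar_apply, Matrix.diagonal_apply_eq, Matrix.reindex_apply,
    Matrix.submatrix_apply] at h1
  have h2 : (embEquiv a b n h).symm i = Sum.inr (Sum.inl j₀) := by simp [i]
  rw [h2] at h1
  simp only [Matrix.fromBlocks_apply₂₂, Matrix.fromBlocks_apply₁₁] at h1
  have h3 : c = 1 := by
    rw [h1]
    exact Matrix.one_apply_eq _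
  rw [h3, map_one] at hc
  have h4 : emb a b n h (x, 1) = 1 := Subtype.ext hc.symm
  have h5 : emb a b n h (x, 1) = emb a b n h (1, 1) := by
    rw [h4]
    exact (map_one _).symm
  exact hx (congrArg Prod.fst (emb_injective a b n h h5))

end block

section singer

variable {F : Type*} [Field F] [Fintype F]

/-- Cauchy in `SL_m(F)` -/
lemma exists_sl_orderOf (m : ℕ) (hm : 2 ≤ m) (r : ℕ) [hr : Fact r.Prime]
    (h : r ∣ Fintype.card F ∨ ∃ j, 2 ≤ j ∧ j ≤ m ∧ r ∣ Fintype.card F ^ j - 1) :
    ∃ x : SpecialLinearGroup (Fin m) F, orderOf x = r :=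
  exists_prime_orderOf_dvd_card' r (Cfsg.Agent.S2364.dvd_card_SL m hm r h)

/-- elements of the Singer cycle with determinant one -/
lemma exists_singer (l : ℕ) (hl : 1 ≤ l) (m : ℕ) (hm : m ∣ Fintype.card F ^ l - 1)
    (hcop : Nat.Coprime m (Fintype.card F - 1)) :
    ∃ g : SpecialLinearGroup (Fin l) F, orderOf g = m := by
  classical
  set q := Fintype.card F with hq
  have hq2 : 2 ≤ q := Fintype.one_lt_card
  obtain ⟨p, hp⟩ := CharP.exists F
  have : Fact p.Prime := ⟨CharP.char_is_prime F p⟩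
  have : NeZero l := ⟨by omega⟩
  let K := FiniteField.Extension F p l
  have hfr : Module.finrank F K = l := FiniteField.finrank_extension F p l
  have hKcard : Nat.card K = q ^ l := by
    rw [FiniteField.natCard_extension, Nat.card_eq_fintype_card]
  have : Fintype K := Fintype.ofFinite K
  have hKu : Nat.card Kˣ = q ^ l - 1 := by
    rw [Nat.card_units, hKcard]
  have hpos : 0 < q ^ l - 1 := by
    have : 2 ^ 1 ≤ q ^ l := (Nat.pow_le_pow_left hq2 1).trans (Nat.pow_le_pow_right (by omega) hl)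
    omega
  have hm0 : m ≠ 0 := by
    rintro rfl
    rw [zero_dvd_iff] at hm
    omega
  obtain ⟨g₀, hg₀⟩ := IsCyclic.exists_ofOrder_eq_natCard (α := Kˣ)
  rw [hKu] at hg₀
  obtain ⟨c, hc⟩ := hm
  have hc0 : c ≠ 0 := by
    rintro rfl
    rw [mul_zero] at hc
    omega
  have hz : orderOf (g₀ ^ c) = m := by
    rw [orderOf_pow_of_dvd hc0 (by rw [hg₀, hc]; exact dvd_mul_left c m), hg₀, hc,
      Nat.mul_div_cancel _ (Nat.pos_of_ne_zero hc0)]
  obtain ⟨τ, hτ⟩ := exists_torus_hom (F := F) K 1 0 l (by rw [hfr]; ring)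
  let ι : Kˣ →* (Fin 1 → Kˣ) := MonoidHom.pi (fun _ => MonoidHom.id Kˣ)
  have hι : Function.Injective ι := by
    intro x y hxy
    exact congrFun hxy 0
  set G₀ := τ (ι (g₀ ^ c)) with hG₀
  have hG₀m : orderOf G₀ = m := by
    rw [hG₀, orderOf_injective τ hτ, orderOf_injective ι hι, hz]
  have hdet : Matrix.GeneralLinearGroup.det G₀ = 1 := by
    set d := Matrix.GeneralLinearGroup.det G₀ with hd
    have h1 : d ^ m = 1 := by
      rw [hd, ← map_pow, ← hG₀m, pow_orderOf_eq_one, map_one]
    have h2 : d ^ (q - 1) = 1 := by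
      have : Nat.card Fˣ = q - 1 := by rw [Nat.card_units, Nat.card_eq_fintype_card]
      rw [← this]
      exact pow_card_eq_one'
    have h3 : orderOf d ∣ 1 := by
      have := Nat.dvd_gcd (orderOf_dvd_of_pow_eq_one h1) (orderOf_dvd_of_pow_eq_one h2)
      rwa [hcop] at this
    exact orderOf_eq_one_iff.mp (Nat.dvd_one.mp h3)
  have hdet' : (G₀ : Matrix (Fin l) (Fin l) F).det = 1 := by
    have := congrArg Units.val hdet
    rwa [Matrix.GeneralLinearGroup.val_det_apply] at this
  obtain ⟨g, hg⟩ : ∃ g : Matrix.SpecialLinearGroup (Fin l) F,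
      Matrix.SpecialLinearGroup.toGL g = G₀ := ⟨⟨_, hdet'⟩, Units.ext rfl⟩
  refine ⟨g, ?_⟩
  rw [← orderOf_injective Matrix.SpecialLinearGroup.toGL
    Matrix.SpecialLinearGroup.toGL_injective, hg, hG₀m]

end singer

end Cfsg.Agent.Lib.Helper15.PrimeGraphSL
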