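import Mathlib
import Cfsg.Agent.Lib.Helper15.BCOrth
import Cfsg.Agent.Lib.Helper25.Siegel
import Cfsg.Agent.S2362
import Cfsg.Agent.S2469

/-!
# The odd semisimple part of the prime graphs of `Ω_{2n+1}(q)` and `PSp_{2n}(q)` (helper15)
-/

set_option autoImplicit false
set_option linter.unusedSectionVars false

namespace Cfsg.Agent.Lib.Helper15.BCCaseA

open Module QuadraticMap Cfsg.Agent.Lib.Helper15.BCPairs Cfsg.Agent.Lib.Helper15.BCOrth
  Cfsg.Agent.Lib.Helper15.OrthReal Cfsg.Agent.Lib.Helper15.SpPairs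
open scoped Matrix

section spec

variable {ι : Type} [Fintype ι] [DecidableEq ι] {F : Type*} [Field F] [Fintype F]
  (Q : QuadraticForm F (ι → F))

/-- elements of odd order lie in `Ω` -/
theorem mem_omega_of_odd (h2 : (2 : F) ≠ 0) (hQ : (polarBilin Q).Nondegenerate)
    (g : ↥(Cfsg.isometryGroup F ⇑Q)) (m : ℕ) (hm : Odd m) (hg : g ^ m = 1) :
    g ∈ Cfsg.Omega F ⇑Q := by
  obtain ⟨j, hj⟩ := hm
  have h1 : g = (g * g) ^ (j + 1) := by
    rw [← pow_two, ← pow_mul]
    have : 2 * (j + 1) = m + 1 := by omega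
    rw [this, pow_succ, hg, one_mul]
  rw [h1]
  exact Subgroup.pow_mem _ (Cfsg.Agent.Lib.Helper25.Siegel.sq_mem_omega Q h2 hQ g) _

/-- the spectrum of `PΩ` when the centre is trivial -/
theorem spec_iff (h2 : (2 : F) ≠ 0) (hQ : (polarBilin Q).Nondegenerate)
    (hn : 4 ≤ Fintype.card ι) (hoddι : Odd (Fintype.card ι)) (m : ℕ) :
    m ∈ Set.range (orderOf : Cfsg.POmega F ⇑Q → ℕ) ↔
      ∃ g : ↥(Cfsg.isometryGroup F ⇑Q), g ∈ Cfsg.Omega F ⇑Q ∧ orderOf g = m := by
  have hbot := Cfsg.Agent.S2362.center_eq_bot Q h2 hQ hn hoddι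
  have hinj : Function.Injective
      (QuotientGroup.mk' (Subgroup.center ↥(Cfsg.Omega F ⇑Q))) := by
    rw [← MonoidHom.ker_eq_bot_iff, QuotientGroup.ker_mk', hbot]
  constructor
  · rintro ⟨g, rfl⟩
    obtain ⟨gh, rfl⟩ := QuotientGroup.mk_surjective g
    refine ⟨gh.1, gh.2, ?_⟩
    rw [Subgroup.orderOf_coe]
    exact (orderOf_injective _ hinj gh).symm
  · rintro ⟨g, hg, rfl⟩
    refine ⟨QuotientGroup.mk' _ ⟨g, hg⟩, ?_⟩
    rw [orderOf_injective _ hinj, ← Subgroup.orderOf_coe]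

end spec

section caseA

variable {F : Type*} [Field F] [Fintype F]

open Cfsg.Agent.S2362 Cfsg.Agent.S2472 in
theorem caseA {p : ℕ} [Fact p.Prime] [CharP F p] (hodd : Odd (Fintype.card F)) (n : ℕ)
    (hn : 2 ≤ n) (r s : ℕ) [hr : Fact r.Prime] [hs : Fact s.Prime] (hrs : r ≠ s) (hr2 : r ≠ 2)
    (hs2 : s ≠ 2) (hrp : r ≠ p) (hsp : s ≠ p) :
    (r * s ∈ Set.range (orderOf : Cfsg.POmega F ⇑(oddQF n (F := F)) → ℕ)) ↔
      (r * s ∈ Set.range (orderOf : Cfsg.PSp n F → ℕ)) := by
  have h2 : (2 : F) ≠ 0 := Cfsg.Agent.Lib.Helper25.Spin.two_ne_zero_of_odd_card hodd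
  have hQ := oddQF_nondegenerate (F := F) h2 n
  have hcard : Fintype.card (Unit ⊕ (Fin n ⊕ Fin n)) = 2 * n + 1 := by
    rw [Fintype.card_sum, Fintype.card_sum, Fintype.card_unit, Fintype.card_fin]
    ring
  have hr1 : 1 < r := hr.out.one_lt
  have hs1 : 1 < s := hs.out.one_lt
  have hcop : Nat.Coprime r s := (Nat.coprime_primes hr.out hs.out).2 hrs
  have hoddrs : Odd (r * s) := (hr.out.odd_of_ne_two hr2).mul (hs.out.odd_of_ne_two hs2)
  have hrs0 : ((r * s : ℕ) : F) ≠ 0 := natCast_mul_ne_zero r s hr.out hs.out hrp hsp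
  rw [spec_iff (oddQF n (F := F)) h2 hQ (by rw [hcard]; omega) (by rw [hcard]; exact ⟨n, rfl⟩)]
  constructor
  · rintro ⟨g, -, hg⟩
    -- the linear maps
    obtain ⟨G, hG⟩ : ∃ G, G = toL (oddQF n (F := F)) g := ⟨_, rfl⟩
    have hGord : orderOf G = r * s := by
      rw [hG, ← hg]
      exact orderOf_injective (toL (oddQF n (F := F))) (toL_injective _) g
    have hGpow : ∀ j, G ^ j = toL (oddQF n (F := F)) (g ^ j) := by
      intro j
      rw [hG, map_pow]
    have hGiso : ∀ j v, (oddQF n (F := F)) ((G ^ j) v) = (oddQF n (F := F)) v := by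
      intro j v
      rw [hGpow]
      exact toL_iso _ _ v
    have hGone : G ^ (r * s) = 1 := by
      rw [← hGord]
      exact pow_orderOf_eq_one G
    have hGne : ∀ j, 0 < j → j < r * s → G ^ j ≠ 1 := by
      intro j hj0 hj h1
      have := orderOf_dvd_of_pow_eq_one h1
      rw [hGord] at this
      have := Nat.le_of_dvd hj0 this
      omega
    obtain ⟨j, hj, hpr⟩ := pairReal_of_orth h2 (oddQF n (F := F)) hQ (G ^ s) (G ^ r)
      (Commute.pow_pow_self G s r) r s hr1 hs1 hcop hoddrs hrs0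
      (by rw [← pow_mul, mul_comm, hGone]) (by rw [← pow_mul, hGone])
      (hGne s (by omega) (by nlinarith)) (hGne r (by omega) (by nlinarith))
      (hGiso s) (hGiso r)
    rw [Module.finrank_fintype_fun_eq_card, hcard] at hj
    have hjn : j ≤ n := by omega
    have h3 := hpr.add_id (n - j)
    have e : 2 * j + 2 * (n - j) = 2 * n := by omega
    rw [e] at h3
    exact Cfsg.Agent.S2469.exists_of_pairReal n hn r s hr2 hs2 hrs h3
  · rintro ⟨g, hg⟩
    have hba : orderOf (g ^ s) = r := by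
      rw [orderOf_pow_of_dvd hs.out.ne_zero (by rw [hg]; exact dvd_mul_left s r), hg,
        Nat.mul_div_cancel _ hs.out.pos]
    have hbb : orderOf (g ^ r) = s := by
      rw [orderOf_pow_of_dvd hr.out.ne_zero (by rw [hg]; exact dvd_mul_right r s), hg,
        Nat.mul_div_cancel_left _ hr.out.pos]
    obtain ⟨A', B', hA', hB', hA'r, hB's, hcomm⟩ :=
      PrimeGraphSL.lift_pair (G := Matrix.symplecticGroup (Fin n) F) r s hr1 hs1 hcop
        (center_coprime_odd n (by omega) r hr.out hr2)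
        (center_coprime_odd n (by omega) s hs.out hs2)
        (g ^ s) (g ^ r) ((Commute.refl g).pow_pow s r)
        (by rw [← hba]; exact pow_orderOf_eq_one _) (by rw [← hbb]; exact pow_orderOf_eq_one _)
    have hA1 : A' ≠ 1 := by
      rintro rfl
      have : g ^ s = 1 := by rw [← hA']; rfl
      rw [this, orderOf_one] at hba
      exact hr.out.one_lt.ne hba
    have hB1 : B' ≠ 1 := by
      rintro rfl
      have : g ^ r = 1 := by rw [← hB']; rfl
      rw [this, orderOf_one] at hbb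
      exact hs.out.one_lt.ne hbb
    obtain ⟨j, hj, hpr⟩ := opairReal_of_symp h2 (Cfsg.Agent.Lib.Helper15.sympBilin n (F := F))
      (Cfsg.Agent.Lib.Helper12.Sp.stdB_alt n) (Cfsg.Agent.Lib.Helper12.Sp.stdB_nd n)
      (toEnd A') (toEnd B') (toEnd_commute A' B' hcomm) r s hr1 hs1 hcop hoddrs hrs0
      (toEnd_pow A' r hA'r) (toEnd_pow B' s hB's)
      (fun h => hA1 (toEnd_eq_one A' h)) (fun h => hB1 (toEnd_eq_one B' h)) (toEnd_iso A')
      (toEnd_iso B')
    rw [Cfsg.Agent.Lib.Helper12.Sp.std_finrank] at hj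
    have hjn : j ≤ n := by omega
    have h3 := OPairReal.add_odd h2 hpr (n - j)
    have e : 2 * j + (2 * (n - j) + 1) = 2 * n + 1 := by omega
    rw [e] at h3
    obtain ⟨x, y, hc, hxr, hys, hx1, hy1⟩ := OPairReal.exists_orth hr.out.pos hs.out.pos h3
    have hQeq : Cfsg.quadFormOdd n F = ⇑(oddQF n (F := F)) :=
      funext (fun v => (oddQF_apply n v).symm)
    revert x y
    rw [hQeq]
    intro x y hc hxr hys hx1 hy1
    have hox : orderOf x = r := orderOf_eq_prime hxr hx1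
    have hoy : orderOf y = s := orderOf_eq_prime hys hy1
    have hoxy : orderOf (x * y) = r * s := by
      rw [hc.orderOf_mul_eq_mul_orderOf_of_coprime (by rw [hox, hoy]; exact hcop), hox, hoy]
    refine ⟨x * y, ?_, hoxy⟩
    apply mem_omega_of_odd (oddQF n (F := F)) h2 hQ (x * y) (r * s) hoddrs
    rw [← hoxy]
    exact pow_orderOf_eq_one _

end caseA

end Cfsg.Agent.Lib.Helper15.BCCaseA
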