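import Mathlib
import Cfsg.Agent.Lib.Helper15.BCCaseA
import Cfsg.Agent.Lib.Helper15.OrthSemi
import Cfsg.Agent.Lib.Helper12.SpE

/-!
# The edges `{r, p}` of the prime graphs of `Ω_{2n+1}(q)` and `PSp_{2n}(q)` (helper15)
-/

set_option autoImplicit false
set_option linter.unusedSectionVars false

namespace Cfsg.Agent.Lib.Helper15.BCCaseB

open Module QuadraticMap Polynomial Cfsg.Agent.Lib.Helper15.BCPairs Cfsg.Agent.Lib.Helper15.BCOrth
  Cfsg.Agent.Lib.Helper15.OrthReal Cfsg.Agent.Lib.Helper15.BCCaseA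
  Cfsg.Agent.Lib.Helper12.Elus Cfsg.Agent.Lib.Helper12.Sp Cfsg.Agent.Lib.Helper15
open scoped Matrix

universe u

section block

variable {F : Type u} [Field F] [Fintype F] {p : ℕ} [Fact p.Prime] [CharP F p]

/-- the orthogonal block polynomial -/
theorem exists_block_poly_orth (r : ℕ) [Fact r.Prime] (hr2 : r ≠ 2) (hrp : r ≠ p) :
    ∃ g : F[X], g.Monic ∧ g.natDegree = blockDim (Fintype.card F) r ∧ g.eval 1 ≠ 0 ∧
      OrthReal r g := by
  have hr : r.Prime := Fact.out
  by_cases hev : Even (orderOf (Fintype.card F : ZMod r))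
  · obtain ⟨h₀, hmon₀, hirr₀, hdeg₀, hdvd₀, hcop₀, hndvd, hstar⟩ :=
      PolarPairs.exists_selfdual_factor (F := F) (p := p) rfl r _ hr hr2 hrp rfl hev
    refine ⟨h₀, hmon₀, by rw [blockDim, if_pos hev, hdeg₀], ?_,
      orthReal_selfdual p r h₀ hmon₀ hirr₀ hstar hdvd₀⟩
    intro h1
    have h2 : (X - C (1 : F)) ∣ h₀ := dvd_iff_isRoot.2 h1
    have h3 : IsUnit (X - C (1 : F)) := by
      rw [C_1] at h2 ⊢
      exact hcop₀.isUnit_of_dvd' (dvd_refl _) h2
    exact Polynomial.not_isUnit_X_sub_C 1 h3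
  · set i := orderOf (Fintype.card F : ZMod r) with hi
    obtain ⟨f, hf, hfix, -⟩ := exists_model (F := F) r hrp i 0 1 (by rw [zero_add, mul_one])
    obtain ⟨C₀, hC₀⟩ : ∃ C₀, C₀ = LinearMap.toMatrix' f := ⟨_, rfl⟩
    have hfC : Matrix.toLin' C₀ = f := by rw [hC₀, Matrix.toLin'_toMatrix']
    have hCr : C₀ ^ r = 1 := by
      apply Matrix.toLin'.injective
      rw [Matrix.toLin'_pow, hfC, hf, Matrix.toLin'_one]
      rfl
    have hCC : C₀ * C₀ ^ (r - 1) = 1 := by
      rw [← pow_succ', Nat.sub_add_cancel hr.pos, hCr]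
    have hcp : C₀.charpoly = f.charpoly := by rw [← hfC, Matrix.charpoly_toLin']
    have hdet : C₀.det ≠ 0 := by
      intro h0
      have := congrArg Matrix.det hCC
      rw [Matrix.det_mul, h0, zero_mul, Matrix.det_one] at this
      exact zero_ne_one this
    have hc0 : C₀.charpoly.coeff 0 ≠ 0 := by
      intro h0
      apply hdet
      rw [Matrix.det_eq_sign_charpoly_coeff, h0, mul_zero]
    have hc1 : C₀.charpoly.eval 1 ≠ 0 := by
      intro h1
      rw [hcp] at h1
      have h2 : Module.End.HasEigenvalue f 1 :=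
        (Module.End.hasEigenvalue_iff_isRoot_charpoly f 1).2 h1
      obtain ⟨v, hv⟩ := h2.exists_hasEigenvector
      have h3 : v ∈ fixE f := by
        rw [mem_fixE]
        have := hv.apply_eq_smul
        rwa [one_smul] at this
      have h4 : fixE f = ⊥ := Submodule.finrank_eq_zero.1 hfix
      rw [h4] at h3
      exact hv.2 ((Submodule.mem_bot F).1 h3)
    have hmon : C₀.charpoly.Monic := Matrix.charpoly_monic C₀
    have hdeg : C₀.charpoly.natDegree = i := by
      rw [Matrix.charpoly_natDegree_eq_dim, Fintype.card_fin]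
    refine ⟨C₀.charpoly * StarPoly.star (RingHom.id F) C₀.charpoly,
      hmon.mul (StarPoly.monic_star _ _ hc0), ?_, ?_,
      orthReal_hyperbolic r i C₀ (C₀ ^ (r - 1)) hCC hCr⟩
    · rw [hmon.natDegree_mul (StarPoly.monic_star _ _ hc0), StarPoly.natDegree_star _ _ hc0, hdeg,
        blockDim, if_neg hev]
      ring
    · rw [eval_mul]
      exact mul_ne_zero hc1 (star_eval_one_ne_zero _ hc0 hc1)

end block

section uni

variable {F : Type u} [Field F] (j : ℕ) (i₀ : Fin j)

/-- a short root element of the standard odd-dimensional orthogonal group -/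
noncomputable def uni (c : F) :
    (Unit ⊕ (Fin j ⊕ Fin j) → F) →ₗ[F] (Unit ⊕ (Fin j ⊕ Fin j) → F) where
  toFun v := fun k => if k = Sum.inl () then v (Sum.inl ()) + c * v (Sum.inr (Sum.inr i₀))
    else if k = Sum.inr (Sum.inl i₀) then
      v (Sum.inr (Sum.inl i₀)) - 2 * c * v (Sum.inl ()) - c ^ 2 * v (Sum.inr (Sum.inr i₀))
    else v k
  map_add' := by
    intro v w
    funext k
    simp only [Pi.add_apply]
    split_ifs <;> ring
  map_smul' := by
    intro a v
    funext k
    simp only [Pi.smul_apply, smul_eq_mul, RingHom.id_apply]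
    split_ifs <;> ring

theorem uni_apply (c : F) (v : Unit ⊕ (Fin j ⊕ Fin j) → F) (k : Unit ⊕ (Fin j ⊕ Fin j)) :
    uni j i₀ c v k = if k = Sum.inl () then v (Sum.inl ()) + c * v (Sum.inr (Sum.inr i₀))
    else if k = Sum.inr (Sum.inl i₀) then
      v (Sum.inr (Sum.inl i₀)) - 2 * c * v (Sum.inl ()) - c ^ 2 * v (Sum.inr (Sum.inr i₀))
    else v k := rfl

theorem uni_e0 (c : F) (v : Unit ⊕ (Fin j ⊕ Fin j) → F) :
    uni j i₀ c v (Sum.inl ()) = v (Sum.inl ()) + c * v (Sum.inr (Sum.inr i₀)) := by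
  rw [uni_apply, if_pos rfl]

theorem uni_ex (c : F) (v : Unit ⊕ (Fin j ⊕ Fin j) → F) :
    uni j i₀ c v (Sum.inr (Sum.inl i₀)) =
      v (Sum.inr (Sum.inl i₀)) - 2 * c * v (Sum.inl ()) - c ^ 2 * v (Sum.inr (Sum.inr i₀)) := by
  rw [uni_apply, if_neg (by simp), if_pos rfl]

theorem uni_other (c : F) (v : Unit ⊕ (Fin j ⊕ Fin j) → F) (k : Unit ⊕ (Fin j ⊕ Fin j))
    (hk0 : k ≠ Sum.inl ()) (hkx : k ≠ Sum.inr (Sum.inl i₀)) : uni j i₀ c v k = v k := by
  rw [uni_apply, if_neg hk0, if_neg hkx]

theorem uni_mul (c d : F) : uni j i₀ c * uni j i₀ d = uni j i₀ (c + d) := by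
  apply LinearMap.ext
  intro v
  funext k
  rw [Module.End.mul_apply]
  by_cases hk0 : k = Sum.inl ()
  · subst hk0
    rw [uni_e0, uni_e0, uni_e0, uni_other j i₀ d v _ (by simp) (by simp)]
    ring
  · by_cases hkx : k = Sum.inr (Sum.inl i₀)
    · subst hkx
      rw [uni_ex, uni_ex, uni_ex, uni_e0, uni_other j i₀ d v (Sum.inr (Sum.inr i₀)) (by simp) (by simp)]
      ring
    · rw [uni_other j i₀ c _ k hk0 hkx, uni_other j i₀ d _ k hk0 hkx,
        uni_other j i₀ (c + d) _ k hk0 hkx]

theorem uni_zero : uni j i₀ (0 : F) = 1 := by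
  apply LinearMap.ext
  intro v
  funext k
  rw [Module.End.one_apply]
  by_cases hk0 : k = Sum.inl ()
  · subst hk0
    rw [uni_e0]
    ring
  · by_cases hkx : k = Sum.inr (Sum.inl i₀)
    · subst hkx
      rw [uni_ex]
      ring
    · rw [uni_other j i₀ 0 _ k hk0 hkx]

theorem uni_pow (c : F) (k : ℕ) : uni j i₀ c ^ k = uni j i₀ ((k : F) * c) := by
  induction k with
  | zero => rw [pow_zero, Nat.cast_zero, zero_mul, uni_zero]
  | succ k ih =>
    rw [pow_succ, ih, uni_mul]
    congr 1
    push_cast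
    ring

theorem uni_ne_one : uni j i₀ (1 : F) ≠ 1 := by
  intro h
  have h1 := congrArg (fun f : Module.End F (Unit ⊕ (Fin j ⊕ Fin j) → F) =>
    f (Pi.single (Sum.inr (Sum.inr i₀)) 1) (Sum.inl ())) h
  simp only [Module.End.one_apply] at h1
  rw [uni_e0] at h1
  simp at h1

theorem uni_iso (c : F) (v : Unit ⊕ (Fin j ⊕ Fin j) → F) :
    oddQF j (uni j i₀ c v) = oddQF j v := by
  rw [oddQF_apply, oddQF_apply]
  unfold Cfsg.quadFormOdd
  rw [uni_e0]
  have h1 : ∀ i : Fin j, uni j i₀ c v (Sum.inr (Sum.inr i)) = v (Sum.inr (Sum.inr i)) := by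
    intro i
    exact uni_other j i₀ c v _ (by simp) (by simp)
  have h2 : ∀ i : Fin j, uni j i₀ c v (Sum.inr (Sum.inl i)) = v (Sum.inr (Sum.inl i)) +
      (if i = i₀ then - 2 * c * v (Sum.inl ()) - c ^ 2 * v (Sum.inr (Sum.inr i₀)) else 0) := by
    intro i
    by_cases hi : i = i₀
    · subst hi
      rw [uni_ex, if_pos rfl]
      ring
    · rw [if_neg hi, add_zero]
      exact uni_other j i₀ c v _ (by simp) (by simpa using hi)
  simp only [h1, h2, add_mul, Finset.sum_add_distrib, ite_mul, zero_mul, Finset.sum_ite_eq',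
    Finset.mem_univ, if_true]
  ring

end uni

section exist

variable {F : Type u} [Field F] [Fintype F] {p : ℕ} [hp : Fact p.Prime] [CharP F p]

/-- an orthogonal pair (semisimple of order `r`, unipotent of order `p`) -/
theorem opairReal_rp (h2 : (2 : F) ≠ 0) (r : ℕ) [hr : Fact r.Prime] (hr2 : r ≠ 2) (hrp : r ≠ p)
    (j : ℕ) (hj : 1 ≤ j) :
    OPairReal F r p (blockDim (Fintype.card F) r + (2 * j + 1)) := by
  obtain ⟨g, hgm, hgdeg, hg1, W, _, _, _, T, β, hsymm, hnd, hinv, hpow, hcp⟩ :=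
    exists_block_poly_orth (F := F) r hr2 hrp
  let Q : QuadraticForm F W := LinearMap.BilinMap.toQuadraticMap β
  have hQ : ∀ v, Q v = β v v := fun v => rfl
  have hpolar : ∀ u v, polar Q u v = 2 * β u v := by
    intro u v
    rw [LinearMap.BilinMap.polar_toQuadraticMap, hsymm v u, two_mul]
  have hQnd : (polarBilin Q).Nondegenerate := by
    constructor
    · intro x hx
      apply hnd
      intro y
      have := hx y
      rw [polarBilin_apply_apply, hpolar] at this
      exact (mul_eq_zero.1 this).resolve_left h2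
    · intro y hy
      apply hnd
      intro x
      have := hy x
      rw [polarBilin_apply_apply, hpolar, hsymm] at this
      exact (mul_eq_zero.1 this).resolve_left h2
  have hfr : finrank F W = blockDim (Fintype.card F) r := by
    rw [← LinearMap.charpoly_natDegree T, hcp, hgdeg]
  have hT1 : T ≠ 1 := by
    intro h1
    apply hg1
    rw [← hcp, h1]
    have hpos : 0 < finrank F W := by rw [hfr]; exact blockDim_pos r hrp
    have : (1 : Module.End F W).charpoly = (X - 1) ^ finrank F W := by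
      have h3 := LinearMap.charpoly_toMatrix (1 : Module.End F W) (Module.finBasis F W)
      rw [← h3, LinearMap.toMatrix_one, Matrix.charpoly_one, Fintype.card_fin]
    rw [this, eval_pow, eval_sub, eval_X, eval_one, sub_self, zero_pow hpos.ne']
  let i₀ : Fin j := ⟨0, hj⟩
  refine ⟨W × (Unit ⊕ (Fin j ⊕ Fin j) → F), inferInstance, inferInstance, inferInstance,
    T.prodMap 1, (1 : Module.End F W).prodMap (uni j i₀ 1), Q.prod (oddQF j),
    QuadReal.nondegenerate_prod Q (oddQF j) hQnd (oddQF_nondegenerate h2 j), ?_, ?_, ?_, ?_, ?_,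
    ?_, ?_, ?_⟩
  · intro x
    show Q (T x.1) + oddQF j x.2 = Q x.1 + oddQF j x.2
    rw [hQ, hQ, hinv]
  · intro x
    show Q x.1 + oddQF j (uni j i₀ 1 x.2) = Q x.1 + oddQF j x.2
    rw [uni_iso]
  · show T.prodMap 1 * (1 : Module.End F W).prodMap (uni j i₀ 1) =
      (1 : Module.End F W).prodMap (uni j i₀ 1) * T.prodMap 1
    rw [LinearMap.prodMap_mul, LinearMap.prodMap_mul, mul_one, one_mul, mul_one, one_mul]
  · rw [SpReal.prodMap_pow', hpow, one_pow]
    exact LinearMap.prodMap_one
  · rw [SpReal.prodMap_pow', one_pow, uni_pow, CharP.cast_eq_zero F p, zero_mul, uni_zero]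
    exact LinearMap.prodMap_one
  · intro h1
    apply hT1
    apply LinearMap.ext
    intro w
    have := congrArg (fun f : Module.End F (W × (Unit ⊕ (Fin j ⊕ Fin j) → F)) => (f (w, 0)).1) h1
    exact this
  · intro h1
    apply uni_ne_one (F := F) j i₀
    apply LinearMap.ext
    intro w
    have := congrArg (fun f : Module.End F (W × (Unit ⊕ (Fin j ⊕ Fin j) → F)) => (f (0, w)).2) h1
    exact this
  · rw [Module.finrank_prod, hfr, Module.finrank_fintype_fun_eq_card, Fintype.card_sum,
      Fintype.card_sum, Fintype.card_unit, Fintype.card_fin]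
    ring

end exist

section main

variable {F : Type*} [Field F] [Fintype F] {p : ℕ} [hp : Fact p.Prime] [CharP F p]

open Cfsg.Agent.S2362 Cfsg.Agent.Lib.Helper15.OrthSemi Cfsg.Agent.Lib.Helper15.HermPair

/-- a product of commuting isometries of coprime odd orders gives an element of `PΩ` -/
theorem spec_of_opair (hodd : Odd (Fintype.card F)) (n : ℕ) (hn : 2 ≤ n) (a b : ℕ)
    [ha : Fact a.Prime] [hb : Fact b.Prime] (hab : a ≠ b) (ha2 : a ≠ 2) (hb2 : b ≠ 2)
    (h : OPairReal F a b (2 * n + 1)) :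
    a * b ∈ Set.range (orderOf : Cfsg.POmega F ⇑(oddQF n (F := F)) → ℕ) := by
  have h2 : (2 : F) ≠ 0 := Cfsg.Agent.Lib.Helper25.Spin.two_ne_zero_of_odd_card hodd
  have hQ := oddQF_nondegenerate (F := F) h2 n
  have hcard : Fintype.card (Unit ⊕ (Fin n ⊕ Fin n)) = 2 * n + 1 := by
    rw [Fintype.card_sum, Fintype.card_sum, Fintype.card_unit, Fintype.card_fin]
    ring
  have hcop : Nat.Coprime a b := (Nat.coprime_primes ha.out hb.out).2 hab
  have hoddab : Odd (a * b) := (ha.out.odd_of_ne_two ha2).mul (hb.out.odd_of_ne_two hb2)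
  rw [spec_iff (oddQF n (F := F)) h2 hQ (by rw [hcard]; omega) (by rw [hcard]; exact ⟨n, rfl⟩)]
  obtain ⟨x, y, hc, hxr, hys, hx1, hy1⟩ := OPairReal.exists_orth ha.out.pos hb.out.pos h
  have hQeq : Cfsg.quadFormOdd n F = ⇑(oddQF n (F := F)) :=
    funext (fun v => (oddQF_apply n v).symm)
  revert x y
  rw [hQeq]
  intro x y hc hxr hys hx1 hy1
  have hox : orderOf x = a := orderOf_eq_prime hxr hx1
  have hoy : orderOf y = b := orderOf_eq_prime hys hy1
  have hoxy : orderOf (x * y) = a * b := by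
    rw [hc.orderOf_mul_eq_mul_orderOf_of_coprime (by rw [hox, hoy]; exact hcop), hox, hoy]
  refine ⟨x * y, ?_, hoxy⟩
  apply mem_omega_of_odd (oddQF n (F := F)) h2 hQ (x * y) (a * b) hoddab
  rw [← hoxy]
  exact pow_orderOf_eq_one _

theorem caseB_exists (hodd : Odd (Fintype.card F)) (n : ℕ) (hn : 2 ≤ n) (r : ℕ)
    [hr : Fact r.Prime] (hr2 : r ≠ 2) (hrp : r ≠ p)
    (hsmall : blockDim (Fintype.card F) r + 2 ≤ 2 * n) :
    r * p ∈ Set.range (orderOf : Cfsg.POmega F ⇑(oddQF n (F := F)) → ℕ) := by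
  have h2 : (2 : F) ≠ 0 := Cfsg.Agent.Lib.Helper25.Spin.two_ne_zero_of_odd_card hodd
  have hp2 : p ≠ 2 := by
    rintro rfl
    apply h2
    have := CharP.cast_eq_zero F 2
    exact_mod_cast this
  obtain ⟨c, hc⟩ := even_blockDim r (Fintype.card F)
  have h1 := opairReal_rp (F := F) h2 r hr2 hrp (n - c) (by omega)
  have e : blockDim (Fintype.card F) r + (2 * (n - c) + 1) = 2 * n + 1 := by omega
  rw [e] at h1
  exact spec_of_opair hodd n hn r p hrp hr2 hp2 h1

/-- no element of order `r p` when the block of `r` fills the space -/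
theorem caseB_none (hodd : Odd (Fintype.card F)) (n : ℕ) (hn : 2 ≤ n) (r : ℕ)
    [hr : Fact r.Prime] (hr2 : r ≠ 2) (hrp : r ≠ p)
    (hbig : 2 * n ≤ blockDim (Fintype.card F) r)
    (g : ↥(Cfsg.isometryGroup F ⇑(oddQF n (F := F)))) (hg : orderOf g = r * p) : False := by
  have h2 : (2 : F) ≠ 0 := Cfsg.Agent.Lib.Helper25.Spin.two_ne_zero_of_odd_card hodd
  have hQ := oddQF_nondegenerate (F := F) h2 n
  have hcard : Fintype.card (Unit ⊕ (Fin n ⊕ Fin n)) = 2 * n + 1 := by
    rw [Fintype.card_sum, Fintype.card_sum, Fintype.card_unit, Fintype.card_fin]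
    ring
  have hr0 : (r : F) ≠ 0 := by
    rw [Ne, CharP.cast_eq_zero_iff F p]
    intro hd
    exact hrp ((Nat.prime_dvd_prime_iff_eq hp.out hr.out).1 hd).symm
  obtain ⟨G, hG⟩ : ∃ G, G = toL (oddQF n (F := F)) g := ⟨_, rfl⟩
  have hGord : orderOf G = r * p := by
    rw [hG, ← hg]
    exact orderOf_injective (toL (oddQF n (F := F))) (toL_injective _) g
  have hGpow : ∀ j, G ^ j = toL (oddQF n (F := F)) (g ^ j) := by
    intro j
    rw [hG, map_pow]
  have hGiso : ∀ j v, (oddQF n (F := F)) ((G ^ j) v) = (oddQF n (F := F)) v := by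
    intro j v
    rw [hGpow]
    exact toL_iso _ _ v
  have hGone : G ^ (r * p) = 1 := by
    rw [← hGord]
    exact pow_orderOf_eq_one G
  have hGne : ∀ j, 0 < j → j < r * p → G ^ j ≠ 1 := by
    intro j hj0 hj h1
    have := orderOf_dvd_of_pow_eq_one h1
    rw [hGord] at this
    have := Nat.le_of_dvd hj0 this
    omega
  have hr1 : 1 < r := hr.out.one_lt
  have hp1 : 1 < p := hp.out.one_lt
  obtain ⟨x, hxdef⟩ : ∃ x, x = G ^ p := ⟨_, rfl⟩
  obtain ⟨u, hudef⟩ : ∃ u, u = G ^ r := ⟨_, rfl⟩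
  have hxr : x ^ r = 1 := by rw [hxdef, ← pow_mul, mul_comm, hGone]
  have hx1 : x ≠ 1 := by
    rw [hxdef]
    exact hGne p (by omega) (by nlinarith)
  have hup : u ^ p = 1 := by rw [hudef, ← pow_mul, hGone]
  have hu1 : u ≠ 1 := by
    rw [hudef]
    exact hGne r (by omega) (by nlinarith)
  have hx : ∀ v, (oddQF n (F := F)) (x v) = (oddQF n (F := F)) v := by rw [hxdef]; exact hGiso _
  have hu : ∀ v, (oddQF n (F := F)) (u v) = (oddQF n (F := F)) v := by rw [hudef]; exact hGiso _
  have hxu : ∀ v, x (u v) = u (x v) := by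
    intro v
    rw [hxdef, hudef, ← Module.End.mul_apply, ← Module.End.mul_apply,
      (Commute.pow_pow_self G p r).eq]
  have hnd : NdOn (oddQF n (F := F)) ⊤ := ndOn_top _ hQ
  have hdimV : finrank F (Unit ⊕ (Fin n ⊕ Fin n) → F) = 2 * n + 1 := by
    rw [Module.finrank_fintype_fun_eq_card, hcard]
  have hWnd : NdOn (oddQF n (F := F)) (movR x) := ndOn_mov _ hnd x hx r hxr hr0
  -- the dimension of the commutator space
  have hkpos : 0 < orderOf (Fintype.card F : ZMod r) := orderOf_card_pos r hrp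
  have hdim : finrank F (movR x) = 2 * n ∧
      (orderOf (Fintype.card F : ZMod r) = 2 * n ∨
        (orderOf (Fintype.card F : ZMod r) = n ∧ Odd n)) := by
    have h1 := orderOf_dvd_finrank_of_le_movR x r hxr hr0 (movR x) (movR_invariant x) le_rfl
    have h3 := even_finrank_of_fpf _ x hx r hr2 hxr hr0 (movR x) (movR_invariant x) le_rfl hWnd
    have h4 : finrank F (movR x) ≤ 2 * n + 1 := by
      rw [← hdimV]
      exact Submodule.finrank_le _
    have h5 : finrank F (movR x) ≠ 0 := by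
      intro h0
      apply hx1
      have hb : movR x = ⊥ := Submodule.finrank_eq_zero.1 h0
      refine LinearMap.ext fun v => ?_
      have hv : (x - 1) v ∈ movR x := ⟨v, rfl⟩
      rw [hb, Submodule.mem_bot, LinearMap.sub_apply, sub_eq_zero] at hv
      exact hv
    obtain ⟨c, hc⟩ := h3
    obtain ⟨d, hd⟩ := h1
    rw [blockDim] at hbig
    split_ifs at hbig with hev
    · -- even order
      have hd1 : d = 1 := by
        rcases Nat.lt_or_ge d 2 with hlt | hge
        · interval_cases d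
          · omega
          · rfl
        · have : orderOf (Fintype.card F : ZMod r) * 2 ≤ orderOf (Fintype.card F : ZMod r) * d :=
            Nat.mul_le_mul_left _ hge
          omega
      rw [hd1, mul_one] at hd
      obtain ⟨e, he⟩ := hev
      constructor
      · omega
      · left; omega
    · rw [Nat.not_even_iff_odd] at hev
      obtain ⟨e, he⟩ := hev
      have hd2 : d = 2 := by
        rcases Nat.lt_or_ge d 3 with hlt | hge
        · interval_cases d
          · omega
          · omega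
          · rfl
        · have : orderOf (Fintype.card F : ZMod r) * 3 ≤ orderOf (Fintype.card F : ZMod r) * d :=
            Nat.mul_le_mul_left _ hge
          omega
      rw [hd2] at hd
      constructor
      · omega
      · right
        constructor
        · omega
        · exact ⟨e, by omega⟩
  have huW := eq_self_on_mov _ h2 hnd x u hxu hx hu r hxr hr0 hup n hdim.1 hdim.2
  have hfixdim : finrank F (fixE x) ≤ 1 := by
    have := finrank_fix_add_mov x
    rw [hdimV, hdim.1] at this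
    omega
  have huA := eq_self_of_finrank_le_one p u hup (fixE x) (fix_inv_of_comm x u hxu) hfixdim
  apply hu1
  refine LinearMap.ext fun v => ?_
  have hv : v ∈ fixE x ⊔ movR x := by
    rw [fix_sup_mov x r hxr hr0]
    exact Submodule.mem_top
  obtain ⟨a, ha, w, hw, rfl⟩ := Submodule.mem_sup.1 hv
  rw [map_add, huA a ha, huW w hw, Module.End.one_apply]

open Cfsg.Agent.S2472 in
theorem caseB (hodd : Odd (Fintype.card F)) (n : ℕ) (hn : 2 ≤ n) (r : ℕ)
    [hr : Fact r.Prime] (hr2 : r ≠ 2) (hrp : r ≠ p) :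
    (r * p ∈ Set.range (orderOf : Cfsg.POmega F ⇑(oddQF n (F := F)) → ℕ)) ↔
      (r * p ∈ Set.range (orderOf : Cfsg.PSp n F → ℕ)) := by
  have h2 : (2 : F) ≠ 0 := Cfsg.Agent.Lib.Helper25.Spin.two_ne_zero_of_odd_card hodd
  have hQ := oddQF_nondegenerate (F := F) h2 n
  have hcard : Fintype.card (Unit ⊕ (Fin n ⊕ Fin n)) = 2 * n + 1 := by
    rw [Fintype.card_sum, Fintype.card_sum, Fintype.card_unit, Fintype.card_fin]
    ring
  obtain ⟨c, hc⟩ := even_blockDim r (Fintype.card F)
  rcases Nat.lt_or_ge (blockDim (Fintype.card F) r) (2 * n) with hlt | hge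
  · have hsmall : blockDim (Fintype.card F) r + 2 ≤ 2 * n := by omega
    constructor
    · intro _
      exact exists_elt p n hn r hr2 hrp hsmall
    · intro _
      exact caseB_exists hodd n hn r hr2 hrp hsmall
  · constructor
    · intro h
      exfalso
      rw [spec_iff (oddQF n (F := F)) h2 hQ (by rw [hcard]; omega)
        (by rw [hcard]; exact ⟨n, rfl⟩)] at h
      obtain ⟨g, -, hg⟩ := h
      exact caseB_none hodd n hn r hr2 hrp hge g hg
    · rintro ⟨g, hg⟩
      exfalso
      exact no_elt p n hn r hr2 hrp hge g hg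

end main

end Cfsg.Agent.Lib.Helper15.BCCaseB
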