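import Mathlib
import Cfsg.Agent.Lib.Helper15.BCCaseB

/-!
# Semisimple elements of the standard odd-dimensional orthogonal group (helper15)
-/

set_option autoImplicit false
set_option linter.unusedSectionVars false

namespace Cfsg.Agent.Lib.Helper15.BCExist

open Module QuadraticMap Polynomial Cfsg.Agent.Lib.Helper15.BCPairs Cfsg.Agent.Lib.Helper15.BCOrth
  Cfsg.Agent.Lib.Helper15.OrthReal Cfsg.Agent.Lib.Helper15.BCCaseA
  Cfsg.Agent.Lib.Helper15.BCCaseB
  Cfsg.Agent.Lib.Helper12.Elus Cfsg.Agent.Lib.Helper12.Sp Cfsg.Agent.Lib.Helper15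
open scoped Matrix

universe u

section exist

variable {F : Type u} [Field F] [Fintype F] {p : ℕ} [hp : Fact p.Prime] [CharP F p]

/-- a semisimple isometry of order `r` of the standard space with a large fixed space -/
theorem exists_orth_elt (h2 : (2 : F) ≠ 0) (r : ℕ) [hr : Fact r.Prime] (hr2 : r ≠ 2) (hrp : r ≠ p)
    (n j : ℕ) (hnj : 2 * n + 1 = blockDim (Fintype.card F) r + (2 * j + 1)) :
    ∃ x : ↥(Cfsg.isometryGroup F (Cfsg.quadFormOdd n F)), x ^ r = 1 ∧ x ≠ 1 ∧
      2 * j + 1 ≤ finrank F (fixE (Matrix.toLin'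
        ((x : GL (Unit ⊕ (Fin n ⊕ Fin n)) F) :
          Matrix (Unit ⊕ (Fin n ⊕ Fin n)) (Unit ⊕ (Fin n ⊕ Fin n)) F))) := by
  obtain ⟨g, hgm, hgdeg, hg1, W, _, _, _, T, β, hsymm, hnd, hinv, hpow, hcp⟩ :=
    exists_block_poly_orth (F := F) r hr2 hrp
  let Q : QuadraticForm F W := LinearMap.BilinMap.toQuadraticMap β
  have hQ : ∀ v, Q v = β v v := fun v => rfl
  have hpolar : ∀ u v, polar Q u v = 2 * β u v := by
    intro u v
    rw [LinearMap.BilinMap.polar_toQuadraticMap, hsymm v u, two_mul]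
  have hQnd : (polarBilin Q).Nondegenerate := by
    constructor
    · intro x hx
      apply hnd
      intro y
      have := hx y
      rw [polarBilin_apply_apply, hpolar] at this
      exact (mul_eq_zero.1 this).resolve_left h2
    · intro y hy
      apply hnd
      intro x
      have := hy x
      rw [polarBilin_apply_apply, hpolar, hsymm] at this
      exact (mul_eq_zero.1 this).resolve_left h2
  have hfr : finrank F W = blockDim (Fintype.card F) r := by
    rw [← LinearMap.charpoly_natDegree T, hcp, hgdeg]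
  have hT1 : T ≠ 1 := by
    intro h1
    apply hg1
    rw [← hcp, h1]
    have hpos : 0 < finrank F W := by rw [hfr]; exact blockDim_pos r hrp
    have : (1 : Module.End F W).charpoly = (X - 1) ^ finrank F W := by
      have h3 := LinearMap.charpoly_toMatrix (1 : Module.End F W) (Module.finBasis F W)
      rw [← h3, LinearMap.toMatrix_one, Matrix.charpoly_one, Fintype.card_fin]
    rw [this, eval_pow, eval_sub, eval_X, eval_one, sub_self, zero_pow hpos.ne']
  obtain ⟨T', hT'⟩ : ∃ T' : Module.End F (W × (Unit ⊕ (Fin j ⊕ Fin j) → F)),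
      T' = T.prodMap 1 := ⟨_, rfl⟩
  have hQ'nd := QuadReal.nondegenerate_prod Q (oddQF j) hQnd (oddQF_nondegenerate h2 j)
  have hdim : finrank F (W × (Unit ⊕ (Fin j ⊕ Fin j) → F)) = 2 * n + 1 := by
    rw [Module.finrank_prod, hfr, Module.finrank_fintype_fun_eq_card, Fintype.card_sum,
      Fintype.card_sum, Fintype.card_unit, Fintype.card_fin, hnj]
    ring
  have hT'iso : ∀ u, (Q.prod (oddQF j)) (T' u) = (Q.prod (oddQF j)) u := by
    intro u
    rw [hT']
    show Q (T u.1) + oddQF j u.2 = Q u.1 + oddQF j u.2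
    rw [hQ, hQ, hinv]
  have hT'pow : T' ^ r = 1 := by
    rw [hT', SpReal.prodMap_pow', hpow, one_pow]
    exact LinearMap.prodMap_one
  have hT'1 : T' ≠ 1 := by
    intro h1
    apply hT1
    apply LinearMap.ext
    intro w
    rw [hT'] at h1
    have := congrArg (fun f : Module.End F (W × (Unit ⊕ (Fin j ⊕ Fin j) → F)) => (f (w, 0)).1) h1
    exact this
  obtain ⟨c, E, hc0, hE⟩ := exists_equiv_odd (Q.prod (oddQF j)) hQ'nd n hdim
  obtain ⟨x, hx⟩ := exists_isom (Q.prod (oddQF j)) c hc0 E hE T' hT'iso r hr.out.pos hT'pow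
  refine ⟨x, ?_, ?_, ?_⟩
  · apply ext_isom
    rw [coe_pow_isom, hx, ← gmat_pow, hT'pow, gmat_one]
    rfl
  · intro h1
    apply hT'1
    apply gmat_injective E
    rw [gmat_one, ← hx, h1]
    rfl
  · have hle : Submodule.map E.toLinearMap
        (LinearMap.range (LinearMap.inr F W (Unit ⊕ (Fin j ⊕ Fin j) → F))) ≤
        fixE (Matrix.toLin' ((x : GL (Unit ⊕ (Fin n ⊕ Fin n)) F) :
          Matrix (Unit ⊕ (Fin n ⊕ Fin n)) (Unit ⊕ (Fin n ⊕ Fin n)) F)) := by
      rintro _ ⟨_, ⟨u, rfl⟩, rfl⟩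
      rw [mem_fixE, Matrix.toLin'_apply, hx, gmat_mulVec]
      show E (T' (E.symm (E _))) = E _
      rw [LinearEquiv.symm_apply_apply, hT']
      congr 1
      show (T 0, u) = (0, u)
      rw [map_zero]
    have h1 := Submodule.finrank_mono hle
    rw [LinearEquiv.finrank_map_eq, LinearMap.finrank_range_of_inj LinearMap.inr_injective,
      Module.finrank_fintype_fun_eq_card, Fintype.card_sum, Fintype.card_sum, Fintype.card_unit,
      Fintype.card_fin] at h1
    omega

end exist

end Cfsg.Agent.Lib.Helper15.BCExist
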