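import Mathlib
import Cfsg.Agent.Lib.Helper15.OrthSemi
import Cfsg.Agent.Lib.Helper15.QuadType
import Cfsg.Agent.Lib.Helper15.QuadReal
import Cfsg.Agent.Lib.Helper12.SpA
import Cfsg.Agent.Lib.Helper5.AltSim

/-!
# Involutions and elements of order four commuting with a one-block semisimple element (helper15)
-/

set_option autoImplicit false
set_option linter.unusedSectionVars false

namespace Cfsg.Agent.Lib.Helper15.BCInvol

open Module QuadraticMap Cfsg.Agent.Lib.Helper15 Cfsg.Agent.Lib.Helper15.HermPair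
  Cfsg.Agent.Lib.Helper12.Elus Cfsg.Agent.Lib.Helper15.OrthSemi

section grp

/-- two commuting elements of distinct prime orders modulo `Z` -/
theorem spec_pair {G : Type*} [Group G] (Z : Subgroup G) [Z.Normal] (x z : G) (a b : ℕ)
    [ha : Fact a.Prime] [hb : Fact b.Prime] (hab : a ≠ b) (hc : Commute x z)
    (hx : x ^ a ∈ Z) (hz : z ^ b ∈ Z) (hxZ : x ∉ Z) (hzZ : z ∉ Z) :
    a * b ∈ Set.range (orderOf : G ⧸ Z → ℕ) := by
  refine ⟨(x : G ⧸ Z) * (z : G ⧸ Z), ?_⟩
  have h1 : orderOf (x : G ⧸ Z) = a := by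
    apply orderOf_eq_prime
    · rw [← QuotientGroup.mk_pow]
      exact (QuotientGroup.eq_one_iff _).2 hx
    · rwa [Ne, QuotientGroup.eq_one_iff]
  have h2 : orderOf (z : G ⧸ Z) = b := by
    apply orderOf_eq_prime
    · rw [← QuotientGroup.mk_pow]
      exact (QuotientGroup.eq_one_iff _).2 hz
    · rwa [Ne, QuotientGroup.eq_one_iff]
  have hc' : Commute (x : G ⧸ Z) (z : G ⧸ Z) := by
    show (x : G ⧸ Z) * (z : G ⧸ Z) = (z : G ⧸ Z) * (x : G ⧸ Z)
    rw [← QuotientGroup.mk_mul, ← QuotientGroup.mk_mul, hc.eq]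
  rw [hc'.orderOf_mul_eq_mul_orderOf_of_coprime (by
    rw [h1, h2]; exact (Nat.coprime_primes ha.out hb.out).mpr hab), h1, h2]

/-- a permutation of order four all of whose orbits are regular -/
theorem four_dvd_card {α : Type*} [Finite α] (σ : α → α)
    (h4 : ∀ v, σ (σ (σ (σ v))) = v) (h2 : ∀ v, σ (σ v) ≠ v) : 4 ∣ Nat.card α := by
  classical
  rcases isEmpty_or_nonempty α with he | ⟨⟨v₀⟩⟩
  · rw [Nat.card_eq_zero.2 (Or.inl he)]
    exact dvd_zero 4
  let τ : Equiv.Perm α := ⟨σ, fun v => σ (σ (σ v)), fun v => h4 v, fun v => by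
    show σ (σ (σ (σ v))) = v
    exact h4 v⟩
  have hτ : ∀ v, τ v = σ v := fun v => rfl
  have hτ4 : τ ^ 4 = 1 := by
    ext v
    show τ (τ (τ (τ v))) = v
    rw [hτ, hτ, hτ, hτ, h4]
  have hτ2 : ¬ τ ^ 2 ^ 1 = 1 := by
    intro h
    have := congrArg (fun f : Equiv.Perm α => f v₀) h
    exact h2 v₀ this
  have : Fact (Nat.Prime 2) := ⟨Nat.prime_two⟩
  have hord : orderOf τ = 4 := orderOf_eq_prime_pow hτ2 hτ4
  have hstab : ∀ b : α, MulAction.stabilizer (Subgroup.zpowers τ) b = ⊥ := by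
    intro b
    rw [eq_bot_iff]
    rintro ⟨g, hg⟩ hgb
    rw [MulAction.mem_stabilizer_iff] at hgb
    rw [Subgroup.mem_bot]
    apply Subtype.ext
    show g = 1
    obtain ⟨j, rfl⟩ := Subgroup.mem_zpowers_iff.1 hg
    have hgb' : (τ ^ j) b = b := hgb
    rw [← zpow_mod_orderOf, hord] at hgb' ⊢
    have hnn : 0 ≤ j % ((4 : ℕ) : ℤ) := Int.emod_nonneg _ (by norm_num)
    have hlt : j % ((4 : ℕ) : ℤ) < 4 := Int.emod_lt_of_pos _ (by norm_num)
    obtain ⟨m, hm⟩ : ∃ m : ℕ, (m : ℤ) = j % ((4 : ℕ) : ℤ) := ⟨(j % ((4 : ℕ) : ℤ)).toNat, Int.toNat_of_nonneg hnn⟩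
    rw [← hm] at hgb' hlt ⊢
    rw [zpow_natCast] at hgb' ⊢
    have hm4 : m < 4 := by omega
    interval_cases m
    · rfl
    · exfalso
      rw [pow_one, hτ] at hgb'
      apply h2 b
      rw [hgb', hgb']
    · exfalso
      exact h2 b hgb'
    · exfalso
      have h3 : σ (σ (σ b)) = b := hgb'
      have h5 := h4 b
      rw [h3] at h5
      apply h2 b
      rw [h5, h5]
  have e := MulAction.selfEquivOrbitsQuotientProd hstab
  have hc := Nat.card_congr e
  rw [Nat.card_prod, Nat.card_zpowers, hord] at hc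
  rw [hc]
  exact dvd_mul_left 4 _

end grp

section symp

variable {F V : Type*} [Field F] [Fintype F] [AddCommGroup V] [Module F V] [FiniteDimensional F V]
  (β : LinearMap.BilinForm F V)

/-- the commutator space of a nontrivial semisimple element whose block fills the space -/
theorem symp_mov_top (halt : ∀ v, β v v = 0) (hnd : ∀ u, (∀ v, β u v = 0) → u = 0)
    (x : V →ₗ[F] V) (hx : ∀ u v, β (x u) (x v) = β u v) (r : ℕ) [Fact r.Prime] (hxr : x ^ r = 1)
    (hr0 : (r : F) ≠ 0) (hx1 : x ≠ 1) (n : ℕ) (hn : 0 < n) (hdimV : finrank F V = 2 * n)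
    (he : orderOf (Fintype.card F : ZMod r) = 2 * n ∨
      (orderOf (Fintype.card F : ZMod r) = n ∧ Odd n)) :
    movR x = ⊤ := by
  have h1 := orderOf_dvd_finrank_of_le_movR x r hxr hr0 (movR x) (movR_invariant x) le_rfl
  have h3 := Cfsg.Agent.Lib.Helper5.AltSim.even_finrank_movR β halt hnd x hx
    (fix_inf_mov x r hxr hr0)
  have h4 : finrank F (movR x) ≤ 2 * n := by
    rw [← hdimV]
    exact Submodule.finrank_le _
  rcases dim_cases _ _ n hn h1 h3 h4 he with h5 | h5
  · exfalso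
    apply hx1
    have hb : movR x = ⊥ := Submodule.finrank_eq_zero.1 h5
    refine LinearMap.ext fun v => ?_
    have hv : (x - 1) v ∈ movR x := ⟨v, rfl⟩
    rw [hb, Submodule.mem_bot, LinearMap.sub_apply, sub_eq_zero] at hv
    exact hv
  · apply Submodule.eq_top_of_finrank_eq
    rw [h5, hdimV]

/-- an isometric involution commuting with such an element is central -/
theorem symp_invol_central (h2 : (2 : F) ≠ 0) (halt : ∀ v, β v v = 0)
    (hnd : ∀ u, (∀ v, β u v = 0) → u = 0)
    (x t : V →ₗ[F] V) (hxt : ∀ v, x (t v) = t (x v)) (hx : ∀ u v, β (x u) (x v) = β u v)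
    (ht : ∀ u v, β (t u) (t v) = β u v) (r : ℕ) [Fact r.Prime] (hxr : x ^ r = 1)
    (hr0 : (r : F) ≠ 0) (hx1 : x ≠ 1) (htt : ∀ v, t (t v) = v) (n : ℕ) (hn : 0 < n)
    (hdimV : finrank F V = 2 * n)
    (he : orderOf (Fintype.card F : ZMod r) = 2 * n ∨
      (orderOf (Fintype.card F : ZMod r) = n ∧ Odd n)) :
    (∀ v, t v = v) ∨ (∀ v, t v = -v) := by
  have htop := symp_mov_top β halt hnd x hx r hxr hr0 hx1 n hn hdimV he
  have hsplit := invol_split h2 t htt ⊤ (fun _ _ => Submodule.mem_top)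
  rw [top_inf_eq, top_inf_eq] at hsplit
  have hsum := invol_finrank h2 t htt ⊤ (fun _ _ => Submodule.mem_top)
  rw [top_inf_eq, top_inf_eq, finrank_top, hdimV] at hsum
  have hEpx : ∀ v ∈ LinearMap.ker (t - LinearMap.id), x v ∈ LinearMap.ker (t - LinearMap.id) := by
    intro v hv
    rw [mem_ker_sub_id] at hv ⊢
    rw [← hxt, hv]
  have horth : ∀ a ∈ LinearMap.ker (t - LinearMap.id), ∀ c ∈ LinearMap.ker (t + LinearMap.id),
      β a c = 0 := by
    intro a ha c hc
    rw [mem_ker_sub_id] at ha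
    rw [mem_ker_add_id] at hc
    have h1 := ht a c
    rw [ha, hc, map_neg] at h1
    have h3 : (2 : F) * β a c = 0 := by linear_combination -h1
    exact (mul_eq_zero.1 h3).resolve_left h2
  have hVnd : Cfsg.Agent.Lib.Helper12.Sp.NdOn β ⊤ := by
    intro u _ hu0
    by_contra hcon
    push Not at hcon
    exact hu0 (hnd u (fun v => hcon v Submodule.mem_top))
  have hEpnd := Cfsg.Agent.Lib.Helper12.Sp.ndOn_of_orth_sum β _ _ ⊤ hsplit horth hVnd
  have h1 := orderOf_dvd_finrank_of_le_movR x r hxr hr0 _ hEpx (by rw [htop]; exact le_top)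
  have h3 := Cfsg.Agent.Lib.Helper12.Sp.even_finrank_of_ndOn β halt _ hEpnd
  rcases dim_cases _ _ n hn h1 h3 (by omega) he with h5 | h5
  · right
    intro v
    have hb : LinearMap.ker (t - LinearMap.id) = ⊥ := Submodule.finrank_eq_zero.1 h5
    rw [hb, bot_sup_eq] at hsplit
    have hv : v ∈ LinearMap.ker (t + LinearMap.id) := by rw [hsplit]; exact Submodule.mem_top
    exact (mem_ker_add_id t v).1 hv
  · left
    intro v
    have hb : LinearMap.ker (t - LinearMap.id) = ⊤ := by
      apply Submodule.eq_top_of_finrank_eq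
      rw [h5, hdimV]
    have hv : v ∈ LinearMap.ker (t - LinearMap.id) := by rw [hb]; exact Submodule.mem_top
    exact (mem_ker_sub_id t v).1 hv

end symp

section four

variable {F V : Type*} [Field F] [Fintype F] [AddCommGroup V] [Module F V] [FiniteDimensional F V]
  (β : LinearMap.BilinForm F V)

/-- an isometry `t` with `t ^ 2 = -1` commuting with a one-block semisimple element forces
`4 ∣ q ^ n ∓ 1` -/
theorem symp_four (hodd : Odd (Fintype.card F)) (h2 : (2 : F) ≠ 0) (halt : ∀ v, β v v = 0)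
    (hnd : ∀ u, (∀ v, β u v = 0) → u = 0)
    (x t : V →ₗ[F] V) (hxt : ∀ v, x (t v) = t (x v)) (hx : ∀ u v, β (x u) (x v) = β u v)
    (ht : ∀ u v, β (t u) (t v) = β u v) (r : ℕ) [hr : Fact r.Prime] (hr2 : r ≠ 2)
    (hxr : x ^ r = 1) (hr0 : (r : F) ≠ 0) (hrq : ¬ r ∣ Fintype.card F) (hx1 : x ≠ 1)
    (htt : ∀ v, t (t v) = -v) (n : ℕ) (hn : 0 < n)
    (hdimV : finrank F V = 2 * n)
    (he : orderOf (Fintype.card F : ZMod r) = 2 * n ∨
      (orderOf (Fintype.card F : ZMod r) = n ∧ Odd n)) :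
    (orderOf (Fintype.card F : ZMod r) = 2 * n ∧ Fintype.card F ^ n % 4 = 3) ∨
      (orderOf (Fintype.card F : ZMod r) = n ∧ Fintype.card F ^ n % 4 = 1) := by
  classical
  have : Finite V := Module.finite_of_finite F
  have htop := symp_mov_top β halt hnd x hx r hxr hr0 hx1 n hn hdimV he
  have hswap : ∀ u v, β u v = - β v u := Cfsg.Agent.Lib.Helper12.Sp.alt_swap β halt
  obtain ⟨Q, hQdef⟩ : ∃ Q : QuadraticForm F V, Q = LinearMap.BilinMap.toQuadraticMap (β.compl₂ t) :=
    ⟨_, rfl⟩
  have hQ : ∀ v, Q v = β v (t v) := by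
    intro v
    rw [hQdef, LinearMap.BilinMap.toQuadraticMap_apply, LinearMap.compl₂_apply]
  have hsym : ∀ v w, β w (t v) = β v (t w) := by
    intro v w
    rw [← ht w (t v), htt, map_neg, hswap (t w) v, neg_neg]
  have hpolar : ∀ v w, polar Q v w = 2 * β v (t w) := by
    intro v w
    rw [hQdef, LinearMap.BilinMap.polar_toQuadraticMap, LinearMap.compl₂_apply,
      LinearMap.compl₂_apply, hsym v w, two_mul]
  have hleft : ∀ v, (∀ w, polar Q v w = 0) → v = 0 := by
    intro v hv
    apply hnd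
    intro w'
    have h1 := hv (t (-w'))
    rw [hpolar, htt, neg_neg] at h1
    exact (mul_eq_zero.1 h1).resolve_left h2
  have hQnd : (polarBilin Q).Nondegenerate := by
    constructor
    · intro v hv
      exact hleft v (fun w => by have := hv w; rwa [polarBilin_apply_apply] at this)
    · intro w hw
      exact hleft w (fun v => by
        have := hw v
        rwa [polarBilin_apply_apply, polar_comm] at this)
  have hxiso : ∀ v, Q (x v) = Q v := by
    intro v
    rw [hQ, hQ, ← hxt, hx]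
  have htiso : ∀ v, Q (t v) = Q v := by
    intro v
    rw [hQ, hQ, ht]
  have hfix : ∀ v, x v = v → v = 0 := by
    intro v hv
    have h1 : v ∈ fixE x ⊓ movR x := ⟨(mem_fixE x v).2 hv, by rw [htop]; exact Submodule.mem_top⟩
    rw [fix_inf_mov x r hxr hr0] at h1
    exact (Submodule.mem_bot F).1 h1
  obtain ⟨ε, hε, hT⟩ := Cfsg.Agent.Lib.Helper15.QuadType.hasType_of_nondeg Q hQnd n hdimV
  have hrdvd := Cfsg.Agent.Lib.Helper15.QuadReal.dvd_card_level Q x r hr.out hxr hxiso hfix 1
    one_ne_zero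
  have hz := hT.zmod r hrdvd hrq
  have h4 : 4 ∣ Nat.card {v : V // Q v = 1} := by
    apply four_dvd_card (fun v : {v : V // Q v = 1} => ⟨t v.1, by rw [htiso]; exact v.2⟩)
    · intro v
      apply Subtype.ext
      show t (t (t (t v.1))) = v.1
      rw [htt, htt, neg_neg]
    · intro v hv
      have h1 : t (t v.1) = v.1 := congrArg Subtype.val hv
      rw [htt] at h1
      have h3 : (2 : F) • v.1 = 0 := by
        rw [two_smul]
        nth_rewrite 1 [← h1]
        exact neg_add_cancel v.1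
      have h5 : v.1 = 0 := (smul_eq_zero.1 h3).resolve_left h2
      have h6 := v.2
      rw [h5, QuadraticMap.map_zero] at h6
      exact zero_ne_one h6
  have hcount := hT.2 1 one_ne_zero
  have hcop : IsCoprime (4 : ℤ) ((Fintype.card F : ℤ) ^ n) := by
    have h1 : Nat.Coprime (2 ^ 2) (Fintype.card F ^ n) :=
      ((Nat.coprime_two_left.2 hodd).pow_left 2).pow_right n
    have := Nat.isCoprime_iff_coprime.2 h1
    push_cast at this
    exact this
  have hdvd : (4 : ℤ) ∣ (Fintype.card F : ℤ) ^ n - ε := by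
    have h1 : (4 : ℤ) ∣ (Fintype.card F : ℤ) * (Nat.card {v : V // Q v = 1} : ℤ) := by
      apply Dvd.dvd.mul_left
      exact_mod_cast h4
    rw [hcount] at h1
    have h3 : (Fintype.card F : ℤ) ^ (2 * n) - ε * (Fintype.card F : ℤ) ^ n =
        (Fintype.card F : ℤ) ^ n * ((Fintype.card F : ℤ) ^ n - ε) := by ring
    rw [h3] at h1
    exact hcop.dvd_of_dvd_mul_left h1
  have hq0 : (Fintype.card F : ZMod r) ≠ 0 := by
    rw [Ne, ZMod.natCast_eq_zero_iff]
    exact hrq
  rcases he with he | ⟨he, hno⟩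
  · left
    refine ⟨he, ?_⟩
    have hne : (Fintype.card F : ZMod r) ^ n ≠ 1 := by
      intro h1
      have := orderOf_dvd_of_pow_eq_one h1
      rw [he] at this
      have := Nat.le_of_dvd hn this
      omega
    have hε' : ε = -1 := by
      rcases hε with h | h
      · exfalso
        apply hne
        rw [hz, h]
        simp
      · exact h
    rw [hε'] at hdvd
    have h5 : (4 : ℤ) ∣ ((Fintype.card F ^ n + 1 : ℕ) : ℤ) := by
      push_cast
      have : (Fintype.card F : ℤ) ^ n - -1 = (Fintype.card F : ℤ) ^ n + 1 := by ring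
      rwa [this] at hdvd
    have h6 : 4 ∣ Fintype.card F ^ n + 1 := by exact_mod_cast h5
    omega
  · right
    refine ⟨he, ?_⟩
    have h1 : (Fintype.card F : ZMod r) ^ n = 1 := by
      rw [← he]
      exact pow_orderOf_eq_one _
    have hε' : ε = 1 := by
      rcases hε with h | h
      · exact h
      · exfalso
        rw [hz, h] at h1
        have h3 : ((2 : ℕ) : ZMod r) = 0 := by
          push_cast at h1 ⊢
          linear_combination -h1
        rw [ZMod.natCast_eq_zero_iff] at h3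
        exact hr2 ((Nat.prime_dvd_prime_iff_eq hr.out Nat.prime_two).1 h3)
    rw [hε'] at hdvd
    have hpos : 1 ≤ Fintype.card F ^ n := Nat.one_le_pow _ _ Fintype.card_pos
    have h5 : (4 : ℤ) ∣ ((Fintype.card F ^ n - 1 : ℕ) : ℤ) := by
      rw [Nat.cast_sub hpos]
      push_cast
      exact hdvd
    have h6 : 4 ∣ Fintype.card F ^ n - 1 := by exact_mod_cast h5
    omega

end four

section involone

variable {F V : Type*} [Field F] [Fintype F] [AddCommGroup V] [Module F V] [FiniteDimensional F V]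
  (Q : QuadraticForm F V)

/-- the dimension of the commutator space of a nontrivial semisimple isometry whose block
fills an odd-dimensional space -/
theorem orth_mov_dim (hQ : NdOn Q ⊤) (x : V →ₗ[F] V)
    (hx : ∀ v, Q (x v) = Q v) (r : ℕ) [hr : Fact r.Prime] (hr2 : r ≠ 2) (hxr : x ^ r = 1)
    (hr0 : (r : F) ≠ 0) (hx1 : x ≠ 1) (n : ℕ) (hn : 0 < n) (hdimV : finrank F V = 2 * n + 1)
    (he : orderOf (Fintype.card F : ZMod r) = 2 * n ∨
      (orderOf (Fintype.card F : ZMod r) = n ∧ Odd n)) :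
    finrank F (movR x) = 2 * n := by
  have hWnd : NdOn Q (movR x) := ndOn_mov Q hQ x hx r hxr hr0
  have h1 := orderOf_dvd_finrank_of_le_movR x r hxr hr0 (movR x) (movR_invariant x) le_rfl
  have h3 := even_finrank_of_fpf Q x hx r hr2 hxr hr0 (movR x) (movR_invariant x) le_rfl hWnd
  have h4 : finrank F (movR x) ≤ 2 * n := by
    have h5 : finrank F (movR x) ≤ 2 * n + 1 := by
      rw [← hdimV]
      exact Submodule.finrank_le _
    obtain ⟨c, hc⟩ := h3
    omega
  rcases dim_cases _ _ n hn h1 h3 h4 he with h5 | h5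
  · exfalso
    apply hx1
    have hb : movR x = ⊥ := Submodule.finrank_eq_zero.1 h5
    refine LinearMap.ext fun v => ?_
    have hv : (x - 1) v ∈ movR x := ⟨v, rfl⟩
    rw [hb, Submodule.mem_bot, LinearMap.sub_apply, sub_eq_zero] at hv
    exact hv
  · exact h5

open Cfsg.Agent.Lib.Helper25.GraphSplit in
/-- an involution of determinant one commuting with `x` (semisimple, one block of codimension 1)
is `-1` on `[V, x]` and `1` on `C_V(x)` -/
theorem invol_structure_one (h2 : (2 : F) ≠ 0) (hQ : NdOn Q ⊤) (x t : V →ₗ[F] V)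
    (hxt : ∀ v, x (t v) = t (x v))
    (hx : ∀ v, Q (x v) = Q v) (ht : ∀ v, Q (t v) = Q v)
    (r : ℕ) [Fact r.Prime] (hr2 : r ≠ 2) (hxr : x ^ r = 1) (hr0 : (r : F) ≠ 0)
    (htt : ∀ v, t (t v) = v) (hdet : LinearMap.det t = 1)
    (k : ℕ) (hk : 0 < k) (hdimV : finrank F V = 2 * k + 1) (hdim : finrank F (movR x) = 2 * k)
    (he : orderOf (Fintype.card F : ZMod r) = 2 * k ∨
      (orderOf (Fintype.card F : ZMod r) = k ∧ Odd k)) :
    (∀ v, t v = v) ∨ ((∀ w ∈ movR x, t w = -w) ∧ ∀ a ∈ fixE x, t a = a) := by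
  have hWnd := ndOn_mov Q hQ x hx r hxr hr0
  have hWt : ∀ v ∈ movR x, t v ∈ movR x := mov_inv_of_comm x t hxt
  have hV3t : ∀ v ∈ fixE x, t v ∈ fixE x := fix_inv_of_comm x t hxt
  have hEpx : ∀ v ∈ LinearMap.ker (t - LinearMap.id), x v ∈ LinearMap.ker (t - LinearMap.id) := by
    intro v hv
    rw [mem_ker_sub_id] at hv ⊢
    rw [← hxt, hv]
  have hEmx : ∀ v ∈ LinearMap.ker (t + LinearMap.id), x v ∈ LinearMap.ker (t + LinearMap.id) := by
    intro v hv
    rw [mem_ker_add_id] at hv ⊢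
    rw [← hxt, hv, map_neg]
  have horthW : ∀ a ∈ movR x ⊓ LinearMap.ker (t - LinearMap.id),
      ∀ c ∈ movR x ⊓ LinearMap.ker (t + LinearMap.id), polar Q a c = 0 := fun a ha c hc =>
    invol_orth Q h2 t ht a c ((mem_ker_sub_id t a).1 ha.2) ((mem_ker_add_id t c).1 hc.2)
  have hWpnd := ndOn_left_of_orth Q _ _ _ (invol_split h2 t htt (movR x) hWt) horthW hWnd
  have hsumW := invol_finrank h2 t htt (movR x) hWt
  have hsumV := invol_finrank h2 t htt (fixE x) hV3t
  have hfixdim : finrank F (fixE x) = 1 := by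
    have := finrank_fix_add_mov x
    omega
  rw [hdim] at hsumW
  rw [hfixdim] at hsumV
  have hWp : finrank F ↥(movR x ⊓ LinearMap.ker (t - LinearMap.id)) = 0 ∨
      finrank F ↥(movR x ⊓ LinearMap.ker (t - LinearMap.id)) = 2 * k := by
    apply dim_cases _ _ k hk _ _ (by omega) he
    · exact orderOf_dvd_finrank_of_le_movR x r hxr hr0 _
        (fun v hv => ⟨movR_invariant x v hv.1, hEpx v hv.2⟩) inf_le_left
    · exact even_finrank_of_fpf Q x hx r hr2 hxr hr0 _
        (fun v hv => ⟨movR_invariant x v hv.1, hEpx v hv.2⟩) inf_le_left hWpnd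
  have hEm : finrank F (LinearMap.ker (t + LinearMap.id)) =
      finrank F ↥(fixE x ⊓ LinearMap.ker (t + LinearMap.id)) +
        finrank F ↥(movR x ⊓ LinearMap.ker (t + LinearMap.id)) := by
    have h1 := Cfsg.Agent.Lib.Helper12.Sp.inv_split x r hxr hr0
      (LinearMap.ker (t + LinearMap.id)) hEmx
    have h3 := Submodule.finrank_sup_add_finrank_inf_eq
      (LinearMap.ker (t + LinearMap.id) ⊓ fixE x) (LinearMap.ker (t + LinearMap.id) ⊓ movR x)
    have h4 : (LinearMap.ker (t + LinearMap.id) ⊓ fixE x) ⊓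
        (LinearMap.ker (t + LinearMap.id) ⊓ movR x) = ⊥ := by
      rw [eq_bot_iff, ← fix_inf_mov x r hxr hr0]
      exact inf_le_inf inf_le_right inf_le_right
    rw [h1, h4, finrank_bot, add_zero] at h3
    rw [h3, inf_comm (LinearMap.ker (t + LinearMap.id)) (fixE x),
      inf_comm (LinearMap.ker (t + LinearMap.id)) (movR x)]
  have hEmeven : Even (finrank F (LinearMap.ker (t + LinearMap.id))) := by
    have h1 := det_invol h2 t htt
    rw [hdet] at h1
    have hne : (-1 : F) ≠ 1 := by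
      intro h
      apply h2
      linear_combination -h
    exact (neg_one_pow_eq_one_iff_even hne).1 h1.symm
  have hVm_cases : finrank F ↥(fixE x ⊓ LinearMap.ker (t + LinearMap.id)) = 0 := by
    rw [hEm] at hEmeven
    obtain ⟨c, hc⟩ := hEmeven
    rcases hWp with h | h <;> omega
  have hVm_bot : fixE x ⊓ LinearMap.ker (t + LinearMap.id) = ⊥ :=
    Submodule.finrank_eq_zero.1 hVm_cases
  have htV3 : ∀ a ∈ fixE x, t a = a := by
    intro a ha
    have h1 := invol_split h2 t htt (fixE x) hV3t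
    rw [hVm_bot, sup_bot_eq] at h1
    rw [← h1] at ha
    exact (mem_ker_sub_id t a).1 ha.2
  rcases hWp with h | h
  · right
    refine ⟨?_, htV3⟩
    intro w hw
    have h1 := invol_split h2 t htt (movR x) hWt
    rw [Submodule.finrank_eq_zero.1 h, bot_sup_eq] at h1
    rw [← h1] at hw
    exact (mem_ker_add_id t w).1 hw.2
  · left
    have hWm0 : finrank F ↥(movR x ⊓ LinearMap.ker (t + LinearMap.id)) = 0 := by omega
    have htW : ∀ w ∈ movR x, t w = w := by
      intro w hw
      have h1 := invol_split h2 t htt (movR x) hWt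
      rw [Submodule.finrank_eq_zero.1 hWm0, sup_bot_eq] at h1
      rw [← h1] at hw
      exact (mem_ker_sub_id t w).1 hw.2
    intro v
    have hv : v ∈ fixE x ⊔ movR x := by rw [fix_sup_mov x r hxr hr0]; trivial
    obtain ⟨a, ha, b, hb, rfl⟩ := Submodule.mem_sup.1 hv
    rw [map_add, htV3 a ha, htW b hb]

end involone

end Cfsg.Agent.Lib.Helper15.BCInvol
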