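import Mathlib
import Cfsg.Agent.Lib.Helper15.BCExist
import Cfsg.Agent.Lib.Helper15.BCInvol
import Cfsg.Agent.Lib.Helper15.OrthDisc
import Cfsg.Agent.Lib.Helper25.ReflF3

/-!
# The edges `{2, r}` of the prime graph of `Ω_{2n+1}(q)` (helper15)
-/

set_option autoImplicit false
set_option linter.unusedSectionVars false

namespace Cfsg.Agent.Lib.Helper15.BCCaseCO

open Module QuadraticMap Cfsg.Agent.Lib.Helper15.BCPairs Cfsg.Agent.Lib.Helper15.BCOrth
  Cfsg.Agent.Lib.Helper15.OrthReal Cfsg.Agent.Lib.Helper15.BCCaseA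
  Cfsg.Agent.Lib.Helper15.BCCaseB Cfsg.Agent.Lib.Helper15.BCExist
  Cfsg.Agent.Lib.Helper15.BCInvol Cfsg.Agent.Lib.Helper15.BCTwist
  Cfsg.Agent.Lib.Helper12.Elus Cfsg.Agent.Lib.Helper12.Sp Cfsg.Agent.Lib.Helper15
  Cfsg.Agent.Lib.Helper15.OrthSemi Cfsg.Agent.Lib.Helper15.OrthDisc
  Cfsg.Agent.Lib.Helper15.HermPair Cfsg.Agent.S2362
open scoped Matrix

section negon

variable {F V : Type*} [Field F] [AddCommGroup V] [Module F V]

/-- the map `-1` on `[V, X]` and `1` on `C_V(X)` -/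
noncomputable def negOn (X : V →ₗ[F] V) (r : ℕ) : V →ₗ[F] V :=
  (2 : F) • ((r : F)⁻¹ • ∑ i ∈ Finset.range r, X ^ i) - 1

theorem negOn_fix (X : V →ₗ[F] V) (r : ℕ) (hr0 : (r : F) ≠ 0) (a : V) (ha : X a = a) :
    negOn X r a = a := by
  unfold negOn
  rw [LinearMap.sub_apply, LinearMap.smul_apply, LinearMap.smul_apply, LinearMap.sum_apply,
    Module.End.one_apply]
  have h1 : ∑ i ∈ Finset.range r, (X ^ i) a = (r : F) • a := by
    rw [Finset.sum_congr rfl (fun i _ => pow_apply_fixed X a ha i), Finset.sum_const,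
      Finset.card_range, Nat.cast_smul_eq_nsmul]
  rw [h1, smul_smul, smul_smul, mul_assoc, inv_mul_cancel₀ hr0, mul_one, two_smul]
  abel

theorem negOn_mov (X : V →ₗ[F] V) (r : ℕ) (hXr : X ^ r = 1) (w : V) (hw : w ∈ movR X) :
    negOn X r w = -w := by
  obtain ⟨v, rfl⟩ := hw
  unfold negOn
  rw [LinearMap.sub_apply, LinearMap.smul_apply, LinearMap.smul_apply, Module.End.one_apply]
  have h1 : (∑ i ∈ Finset.range r, X ^ i) ((X - 1) v) = 0 := by
    rw [← Module.End.mul_apply, geom_sum_mul, hXr, sub_self, LinearMap.zero_apply]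
  rw [h1, smul_zero, smul_zero, zero_sub]

theorem eq_negOn [FiniteDimensional F V] (X : V →ₗ[F] V) (r : ℕ) (hXr : X ^ r = 1)
    (hr0 : (r : F) ≠ 0) (t : V →ₗ[F] V) (htW : ∀ w ∈ movR X, t w = -w)
    (htA : ∀ a ∈ fixE X, t a = a) : t = negOn X r := by
  refine LinearMap.ext fun v => ?_
  have hv : v ∈ fixE X ⊔ movR X := by
    rw [fix_sup_mov_gen X r hXr hr0]
    exact Submodule.mem_top
  obtain ⟨a, ha, w, hw, rfl⟩ := Submodule.mem_sup.1 hv
  rw [map_add, map_add, htA a ha, htW w hw, negOn_fix X r hr0 a ((mem_fixE X a).1 ha),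
    negOn_mov X r hXr w hw]

theorem negOn_comm [FiniteDimensional F V] (X : V →ₗ[F] V) (r : ℕ) (hXr : X ^ r = 1)
    (hr0 : (r : F) ≠ 0) (v : V) : X (negOn X r v) = negOn X r (X v) := by
  have hv : v ∈ fixE X ⊔ movR X := by
    rw [fix_sup_mov_gen X r hXr hr0]
    exact Submodule.mem_top
  obtain ⟨a, ha, w, hw, rfl⟩ := Submodule.mem_sup.1 hv
  have ha' : X a = a := (mem_fixE X a).1 ha
  rw [map_add, map_add, map_add, map_add, negOn_fix X r hr0 a ha', negOn_mov X r hXr w hw, ha',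
    negOn_fix X r hr0 a ha', negOn_mov X r hXr (X w) (movR_invariant X w hw), map_neg]

theorem negOn_negOn [FiniteDimensional F V] (X : V →ₗ[F] V) (r : ℕ) (hXr : X ^ r = 1)
    (hr0 : (r : F) ≠ 0) (v : V) : negOn X r (negOn X r v) = v := by
  have hv : v ∈ fixE X ⊔ movR X := by
    rw [fix_sup_mov_gen X r hXr hr0]
    exact Submodule.mem_top
  obtain ⟨a, ha, w, hw, rfl⟩ := Submodule.mem_sup.1 hv
  have ha' : X a = a := (mem_fixE X a).1 ha
  rw [map_add, negOn_fix X r hr0 a ha', negOn_mov X r hXr w hw, map_add,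
    negOn_fix X r hr0 a ha', map_neg, negOn_mov X r hXr w hw, neg_neg]

end negon

section spec

variable {ι : Type} [Fintype ι] [DecidableEq ι] {F : Type*} [Field F] [Fintype F]
  (Q : QuadraticForm F (ι → F))

/-- a semisimple element of order `r` times a commuting involution of `Ω` -/
theorem spec_two_r (h2 : (2 : F) ≠ 0) (hQ : (polarBilin Q).Nondegenerate)
    (hn : 4 ≤ Fintype.card ι) (hoddι : Odd (Fintype.card ι)) (r : ℕ) [hr : Fact r.Prime]
    (hr2 : r ≠ 2) (x g : ↥(Cfsg.isometryGroup F ⇑Q)) (hxr : x ^ r = 1) (hx1 : x ≠ 1)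
    (hg : g ∈ Cfsg.Omega F ⇑Q) (hc : Commute x g) (hgg : g * g = 1) (hg1 : g ≠ 1) :
    2 * r ∈ Set.range (orderOf : Cfsg.POmega F ⇑Q → ℕ) := by
  rw [spec_iff Q h2 hQ hn hoddι]
  have hox : orderOf x = r := orderOf_eq_prime hxr hx1
  have : Fact (Nat.Prime 2) := ⟨Nat.prime_two⟩
  have hog : orderOf g = 2 := orderOf_eq_prime (by rw [pow_two, hgg]) hg1
  have hcop : Nat.Coprime r 2 := (Nat.coprime_primes hr.out Nat.prime_two).2 hr2
  refine ⟨x * g, ?_, ?_⟩
  · apply Subgroup.mul_mem _ _ hg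
    exact mem_omega_of_odd Q h2 hQ x r (hr.out.odd_of_ne_two hr2) hxr
  · rw [hc.orderOf_mul_eq_mul_orderOf_of_coprime (by rw [hox, hog]; exact hcop), hox, hog,
      mul_comm]

end spec

section disc

variable {ι : Type} [Fintype ι] [DecidableEq ι] {F : Type*} [Field F] [Fintype F]
  (Q : QuadraticForm F (ι → F))

theorem not_dvd_card {p : ℕ} [hp : Fact p.Prime] [CharP F p] (r : ℕ) [hr : Fact r.Prime]
    (hrp : r ≠ p) : ¬ r ∣ Fintype.card F := by
  obtain ⟨f, -, hf⟩ := FiniteField.card F p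
  intro h
  rw [hf] at h
  exact hrp ((Nat.prime_dvd_prime_iff_eq hr.out hp.out).1 (hr.out.dvd_of_dvd_pow h))

theorem natCast_ne_zero' {p : ℕ} [hp : Fact p.Prime] [CharP F p] (r : ℕ) [hr : Fact r.Prime]
    (hrp : r ≠ p) : (r : F) ≠ 0 := by
  rw [Ne, CharP.cast_eq_zero_iff F p]
  intro hd
  exact hrp ((Nat.prime_dvd_prime_iff_eq hp.out hr.out).1 hd).symm

/-- the spinor norm of `-1` on the commutator space of a one-block semisimple element -/
theorem disc_iff {p : ℕ} [hp : Fact p.Prime] [CharP F p] (hodd : Odd (Fintype.card F))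
    (h2 : (2 : F) ≠ 0) (hQ : (polarBilin Q).Nondegenerate) (n : ℕ) (hn : 0 < n)
    (hcard : Fintype.card ι = 2 * n + 1) (r : ℕ) [hr : Fact r.Prime] (hr2 : r ≠ 2) (hrp : r ≠ p)
    (X : Module.End F (ι → F)) (hX : ∀ v, Q (X v) = Q v) (hXr : X ^ r = 1) (hX1 : X ≠ 1)
    (he : orderOf (Fintype.card F : ZMod r) = 2 * n ∨
      (orderOf (Fintype.card F : ZMod r) = n ∧ Odd n)) :
    (∃ g : ↥(Cfsg.isometryGroup F ⇑Q), g ∈ Cfsg.Omega F ⇑Q ∧
      ((g : GL ι F) : Matrix ι ι F) = LinearMap.toMatrix' (negOn X r)) ↔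
    ((orderOf (Fintype.card F : ZMod r) = 2 * n ∧ Fintype.card F ^ n % 4 = 3) ∨
      (orderOf (Fintype.card F : ZMod r) = n ∧ Fintype.card F ^ n % 4 = 1)) := by
  have hr0 : (r : F) ≠ 0 := natCast_ne_zero' r hrp
  have hrq : ¬ r ∣ Fintype.card F := not_dvd_card r hrp
  have hnd : NdOn Q ⊤ := ndOn_top Q hQ
  have hdimV : finrank F (ι → F) = 2 * n + 1 := by
    rw [Module.finrank_fintype_fun_eq_card, hcard]
  have hdim := orth_mov_dim Q hnd X hX r hr2 hXr hr0 hX1 n hn hdimV he
  have hWnd : NdOn Q (movR X) := ndOn_mov Q hnd X hX r hXr hr0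
  obtain ⟨m, b, hb0, hiff⟩ := neg_on_mem_omega_iff Q h2 hQ (movR X) (fixE X) hWnd n hn hdim
    (fix_sup_mov X r hXr hr0)
    (fun a ha w hw => by
      obtain ⟨w', rfl⟩ := hw
      exact fix_perp_mov Q X hX a ((mem_fixE X a).1 ha) w')
    (LinearMap.toMatrix' (negOn X r))
    (fun w hw => by
      rw [LinearMap.toMatrix'_mulVec]
      exact negOn_mov X r hXr w hw)
    (fun a ha => by
      rw [LinearMap.toMatrix'_mulVec]
      exact negOn_fix X r hr0 a ((mem_fixE X a).1 ha))
  rw [hiff]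
  have hS : LinearMap.BilinForm.IsSymm (polarBilin (resQ Q (movR X))) := by
    constructor
    intro a c
    simp [polar_comm]
  have hN := nondegenerate_resQ Q (movR X) hWnd
  have h7 : ((-1 : F) ^ n) ≠ 0 := pow_ne_zero _ (neg_ne_zero.2 one_ne_zero)
  rcases he with he1 | ⟨he1, hno⟩
  · have hnoiso : ¬ IsSquare ((-1 : F) ^ n *
        (LinearMap.BilinForm.toMatrix b (polarBilin (resQ Q (movR X)))).det) := by
      intro h6
      obtain ⟨X', hX', hti⟩ := Cfsg.Agent.Lib.Helper25.DiscType.exists_isotropic_of_isSquare h2 b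
        (polarBilin (resQ Q (movR X))) hS hN n hdim h6
      refine no_isotropic Q h2 (movR X) hWnd n hdim X hX (movR_invariant X) r hr.out hXr ?_ hrq ?_
        X' hX' hti
      · intro w hw hxw
        have h1 : w ∈ fixE X ⊓ movR X := ⟨(mem_fixE X w).2 hxw, hw⟩
        rw [fix_inf_mov X r hXr hr0] at h1
        exact (Submodule.mem_bot F).1 h1
      · intro hdvd
        have h8 := orderOf_dvd_of_dvd_pow_sub_one r _ n Fintype.card_pos hdvd
        rw [he1] at h8
        have := Nat.le_of_dvd hn h8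
        omega
    constructor
    · intro hsq
      left
      refine ⟨he1, ?_⟩
      rw [← Cfsg.Agent.Lib.Helper25.Spin.not_isSquare_neg_one_pow_iff rfl hodd n]
      intro h5
      exact hnoiso (h5.mul hsq)
    · rintro (⟨-, h3⟩ | ⟨h1, -⟩)
      · have h6 := (Cfsg.Agent.Lib.Helper25.Spin.not_isSquare_neg_one_pow_iff rfl hodd n).2 h3
        by_contra hns
        apply hnoiso
        rw [Cfsg.Agent.Lib.Helper25.Spin.isSquare_mul_iff h7 hb0]
        exact ⟨fun h => absurd h h6, fun h => absurd h hns⟩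
      · exfalso
        omega
  · obtain ⟨X', hX', hti⟩ := exists_isotropic Q X hX r hr2 hrp hXr n hno he1 hdim
    have h5 := Cfsg.Agent.Lib.Helper25.DiscType.isSquare_of_isotropic b
      (polarBilin (resQ Q (movR X))) hS n hdim X' hX' hti
    rw [Cfsg.Agent.Lib.Helper25.Spin.isSquare_mul_iff h7 hb0] at h5
    constructor
    · intro hsq
      right
      exact ⟨he1, (Cfsg.Agent.Lib.Helper25.Spin.isSquare_neg_one_pow_iff rfl hodd n).1 (h5.2 hsq)⟩
    · rintro (⟨h1, -⟩ | ⟨-, h3⟩)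
      · exfalso
        omega
      · exact h5.1 ((Cfsg.Agent.Lib.Helper25.Spin.isSquare_neg_one_pow_iff rfl hodd n).2 h3)

end disc

section main

variable {F : Type*} [Field F] [Fintype F] {p : ℕ} [hp : Fact p.Prime] [CharP F p]

theorem blockDim_eq_of (r : ℕ) (n : ℕ) (_hn : 0 < n)
    (he : orderOf (Fintype.card F : ZMod r) = 2 * n ∨
      (orderOf (Fintype.card F : ZMod r) = n ∧ Odd n)) :
    blockDim (Fintype.card F) r = 2 * n := by
  unfold blockDim
  rcases he with h | ⟨h, ho⟩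
  · rw [h, if_pos ⟨n, by ring⟩]
  · rw [h, if_neg (Nat.not_even_iff_odd.2 ho)]

theorem cases_of_blockDim (r : ℕ) (n : ℕ)
    (hb : blockDim (Fintype.card F) r = 2 * n) :
    orderOf (Fintype.card F : ZMod r) = 2 * n ∨
      (orderOf (Fintype.card F : ZMod r) = n ∧ Odd n) := by
  unfold blockDim at hb
  split_ifs at hb with hev
  · left; exact hb
  · right
    have h1 : orderOf (Fintype.card F : ZMod r) = n := by omega
    exact ⟨h1, by rw [← h1]; exact Nat.not_even_iff_odd.1 hev⟩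

/-- elements of order `2 r` of `Ω_{2n+1}(q)` when the block of `r` fills the space -/
theorem caseC2_omega (hodd : Odd (Fintype.card F)) (n : ℕ) (hn : 2 ≤ n) (r : ℕ)
    [hr : Fact r.Prime] (hr2 : r ≠ 2) (hrp : r ≠ p)
    (he : orderOf (Fintype.card F : ZMod r) = 2 * n ∨
      (orderOf (Fintype.card F : ZMod r) = n ∧ Odd n)) :
    (2 * r ∈ Set.range (orderOf : Cfsg.POmega F ⇑(oddQF n (F := F)) → ℕ)) ↔
    ((orderOf (Fintype.card F : ZMod r) = 2 * n ∧ Fintype.card F ^ n % 4 = 3) ∨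
      (orderOf (Fintype.card F : ZMod r) = n ∧ Fintype.card F ^ n % 4 = 1)) := by
  have h2 : (2 : F) ≠ 0 := Cfsg.Agent.Lib.Helper25.Spin.two_ne_zero_of_odd_card hodd
  have hQ := oddQF_nondegenerate (F := F) h2 n
  have hcard : Fintype.card (Unit ⊕ (Fin n ⊕ Fin n)) = 2 * n + 1 := by
    rw [Fintype.card_sum, Fintype.card_sum, Fintype.card_unit, Fintype.card_fin]
    ring
  have hr0 : (r : F) ≠ 0 := natCast_ne_zero' r hrp
  have hr3 : 3 ≤ r := by
    have := hr.out.two_le
    omega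
  have hnd : NdOn (oddQF n (F := F)) ⊤ := ndOn_top _ hQ
  have hdimV : finrank F (Unit ⊕ (Fin n ⊕ Fin n) → F) = 2 * n + 1 := by
    rw [Module.finrank_fintype_fun_eq_card, hcard]
  constructor
  · intro h
    rw [spec_iff (oddQF n (F := F)) h2 hQ (by rw [hcard]; omega)
      (by rw [hcard]; exact ⟨n, rfl⟩)] at h
    obtain ⟨g, hgΩ, hg⟩ := h
    obtain ⟨G, hG⟩ : ∃ G, G = toL (oddQF n (F := F)) g := ⟨_, rfl⟩
    have hGord : orderOf G = 2 * r := by
      rw [hG, ← hg]
      exact orderOf_injective (toL (oddQF n (F := F))) (toL_injective _) g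
    have hGpow : ∀ j, G ^ j = toL (oddQF n (F := F)) (g ^ j) := by
      intro j
      rw [hG, map_pow]
    have hGiso : ∀ j v, (oddQF n (F := F)) ((G ^ j) v) = (oddQF n (F := F)) v := by
      intro j v
      rw [hGpow]
      exact toL_iso _ _ v
    have hGone : G ^ (2 * r) = 1 := by
      rw [← hGord]
      exact pow_orderOf_eq_one G
    have hGne : ∀ j, 0 < j → j < 2 * r → G ^ j ≠ 1 := by
      intro j hj0 hj h1
      have := orderOf_dvd_of_pow_eq_one h1
      rw [hGord] at this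
      have := Nat.le_of_dvd hj0 this
      omega
    obtain ⟨x, hxdef⟩ : ∃ x, x = G ^ 2 := ⟨_, rfl⟩
    obtain ⟨t, htdef⟩ : ∃ t, t = G ^ r := ⟨_, rfl⟩
    have hxr : x ^ r = 1 := by rw [hxdef, ← pow_mul, hGone]
    have hx1 : x ≠ 1 := by
      rw [hxdef]
      exact hGne 2 (by omega) (by omega)
    have htt : ∀ v, t (t v) = v := by
      intro v
      rw [← Module.End.mul_apply, htdef, ← pow_add, ← two_mul, hGone, Module.End.one_apply]
    have ht1 : t ≠ 1 := by
      rw [htdef]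
      exact hGne r (by omega) (by omega)
    have hx : ∀ v, (oddQF n (F := F)) (x v) = (oddQF n (F := F)) v := by
      rw [hxdef]; exact hGiso _
    have ht : ∀ v, (oddQF n (F := F)) (t v) = (oddQF n (F := F)) v := by
      rw [htdef]; exact hGiso _
    have hxt : ∀ v, x (t v) = t (x v) := by
      intro v
      rw [hxdef, htdef, ← Module.End.mul_apply, ← Module.End.mul_apply,
        (Commute.pow_pow_self G 2 r).eq]
    have hgt : g ^ r ∈ Cfsg.Omega F ⇑(oddQF n (F := F)) := Subgroup.pow_mem _ hgΩ _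
    have hdet : LinearMap.det t = 1 := by
      rw [htdef, hGpow, det_toL]
      exact det_of_mem_omega _ h2 hQ _ hgt
    have hdim := orth_mov_dim _ hnd x hx r hr2 hxr hr0 hx1 n (by omega) hdimV he
    have hstr := invol_structure_one _ h2 hnd x t hxt hx ht r hr2 hxr hr0 htt hdet n (by omega)
      hdimV hdim he
    rcases hstr with hall | ⟨htW, htA⟩
    · exfalso
      apply ht1
      exact LinearMap.ext fun v => hall v
    have hteq := eq_negOn x r hxr hr0 t htW htA
    refine (disc_iff (oddQF n (F := F)) hodd h2 hQ n (by omega) hcard r hr2 hrp x hx hxr hx1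
      he).1 ⟨g ^ r, hgt, ?_⟩
    rw [← hteq, htdef, hGpow]
    exact (LinearMap.toMatrix'_toLin' _).symm
  · intro hgood
    have hb := blockDim_eq_of (F := F) r n (by omega) he
    obtain ⟨x, hx⟩ := exists_orth_elt (F := F) h2 r hr2 hrp n 0 (by rw [hb])
    have hQeq : Cfsg.quadFormOdd n F = ⇑(oddQF n (F := F)) :=
      funext (fun v => (oddQF_apply n v).symm)
    revert x
    rw [hQeq]
    rintro x ⟨hxr, hx1, -⟩
    obtain ⟨X, hXdef⟩ : ∃ X, X = toL (oddQF n (F := F)) x := ⟨_, rfl⟩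
    have hX : ∀ v, (oddQF n (F := F)) (X v) = (oddQF n (F := F)) v := by
      intro v
      rw [hXdef]
      exact toL_iso _ _ v
    have hXr : X ^ r = 1 := by rw [hXdef, ← map_pow, hxr, map_one]
    have hX1 : X ≠ 1 := by
      intro h
      apply hx1
      apply toL_injective (oddQF n (F := F))
      rw [← hXdef, h, map_one]
    obtain ⟨g, hgΩ, hgD⟩ := (disc_iff (oddQF n (F := F)) hodd h2 hQ n (by omega) hcard r hr2 hrp
      X hX hXr hX1 he).2 hgood
    have hgL : toL (oddQF n (F := F)) g = negOn X r := by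
      show Matrix.toLin' _ = _
      rw [hgD, Matrix.toLin'_toMatrix']
    apply spec_two_r (oddQF n (F := F)) h2 hQ (by rw [hcard]; omega)
      (by rw [hcard]; exact ⟨n, rfl⟩) r hr2 x g hxr hx1 hgΩ
    · show x * g = g * x
      apply toL_injective (oddQF n (F := F))
      rw [map_mul, map_mul, hgL, ← hXdef]
      exact LinearMap.ext fun v => negOn_comm X r hXr hr0 v
    · apply toL_injective (oddQF n (F := F))
      rw [map_mul, map_one, hgL]
      exact LinearMap.ext fun v => negOn_negOn X r hXr hr0 v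
    · intro h
      have h1 : negOn X r = 1 := by rw [← hgL, h, map_one]
      have hdim := orth_mov_dim _ hnd X hX r hr2 hXr hr0 hX1 n (by omega) hdimV he
      have hne : movR X ≠ ⊥ := by
        intro hb'
        rw [hb', finrank_bot] at hdim
        omega
      obtain ⟨w, hw, hw0⟩ := Submodule.exists_mem_ne_zero_of_ne_bot hne
      have h3 := negOn_mov X r hXr w hw
      rw [h1, Module.End.one_apply] at h3
      have h4 : (2 : F) • w = 0 := by
        rw [two_smul]
        nth_rewrite 1 [h3]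
        exact neg_add_cancel w
      exact hw0 ((smul_eq_zero.1 h4).resolve_left h2)

open Cfsg.Agent.Lib.Helper25.CD Cfsg.Agent.Lib.Helper25.Spin in
/-- elements of order `2 r` of `Ω_{2n+1}(q)` when the block of `r` leaves room -/
theorem caseC1_omega (hodd : Odd (Fintype.card F)) (n : ℕ) (hn : 2 ≤ n) (r : ℕ)
    [hr : Fact r.Prime] (hr2 : r ≠ 2) (hrp : r ≠ p)
    (hsmall : blockDim (Fintype.card F) r + 2 ≤ 2 * n) :
    2 * r ∈ Set.range (orderOf : Cfsg.POmega F ⇑(oddQF n (F := F)) → ℕ) := by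
  have h2 : (2 : F) ≠ 0 := Cfsg.Agent.Lib.Helper25.Spin.two_ne_zero_of_odd_card hodd
  have hQ := oddQF_nondegenerate (F := F) h2 n
  have hcard : Fintype.card (Unit ⊕ (Fin n ⊕ Fin n)) = 2 * n + 1 := by
    rw [Fintype.card_sum, Fintype.card_sum, Fintype.card_unit, Fintype.card_fin]
    ring
  have hr0 : (r : F) ≠ 0 := natCast_ne_zero' r hrp
  have hnd : NdOn (oddQF n (F := F)) ⊤ := ndOn_top _ hQ
  obtain ⟨c, hc⟩ := even_blockDim r (Fintype.card F)
  obtain ⟨x, hx⟩ := exists_orth_elt (F := F) h2 r hr2 hrp n (n - c) (by omega)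
  have hQeq : Cfsg.quadFormOdd n F = ⇑(oddQF n (F := F)) :=
    funext (fun v => (oddQF_apply n v).symm)
  revert x
  rw [hQeq]
  rintro x ⟨hxr, hx1, hfix⟩
  obtain ⟨X, hXdef⟩ : ∃ X, X = toL (oddQF n (F := F)) x := ⟨_, rfl⟩
  have hfix' : 3 ≤ finrank F (fixE X) := by
    have : 2 * (n - c) + 1 ≤ finrank F (fixE X) := by
      rw [hXdef]
      exact hfix
    omega
  have hX : ∀ v, (oddQF n (F := F)) (X v) = (oddQF n (F := F)) v := by
    intro v
    rw [hXdef]
    exact toL_iso _ _ v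
  have hXr : X ^ r = 1 := by rw [hXdef, ← map_pow, hxr, map_one]
  have hAnd := ndOn_fix (oddQF n (F := F)) hnd X hX r hXr hr0
  obtain ⟨m, hm⟩ : ∃ m, finrank F (fixE X) = m + 1 := ⟨finrank F (fixE X) - 1, by omega⟩
  obtain ⟨w, hwA, hworth, hwone, -⟩ := orth_family h2 (oddQF n (F := F)) m (fixE X) hAnd hm
  obtain ⟨u, hu⟩ : ∃ u, u = w ⟨0, by omega⟩ := ⟨_, rfl⟩
  obtain ⟨v, hv⟩ : ∃ v, v = w ⟨1, by omega⟩ := ⟨_, rfl⟩
  have hQu : (oddQF n (F := F)) u = 1 := by
    rw [hu]
    apply hwone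
    intro h
    have := congrArg Fin.val h
    simp at this
    omega
  have hQv : (oddQF n (F := F)) v = 1 := by
    rw [hv]
    apply hwone
    intro h
    have := congrArg Fin.val h
    simp at this
    omega
  have huv : polar (oddQF n (F := F)) u v = 0 := by
    rw [hu, hv]
    apply hworth
    intro h
    have := congrArg Fin.val h
    simp at this
  have hxu : ((x : GL (Unit ⊕ (Fin n ⊕ Fin n)) F) :
      Matrix (Unit ⊕ (Fin n ⊕ Fin n)) (Unit ⊕ (Fin n ⊕ Fin n)) F) *ᵥ u = u := by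
    rw [← toL_apply, ← hXdef, hu]
    exact (mem_fixE X _).1 (hwA _)
  have hxv : ((x : GL (Unit ⊕ (Fin n ⊕ Fin n)) F) :
      Matrix (Unit ⊕ (Fin n ⊕ Fin n)) (Unit ⊕ (Fin n ⊕ Fin n)) F) *ᵥ v = v := by
    rw [← toL_apply, ← hXdef, hv]
    exact (mem_fixE X _).1 (hwA _)
  have hcu : x * reflM (oddQF n (F := F)) u = reflM (oddQF n (F := F)) u * x := by
    have h1 := conj_reflM (oddQF n (F := F)) x u
    rw [hxu] at h1
    exact mul_inv_eq_iff_eq_mul.1 h1
  have hcv : x * reflM (oddQF n (F := F)) v = reflM (oddQF n (F := F)) v * x := by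
    have h1 := conj_reflM (oddQF n (F := F)) x v
    rw [hxv] at h1
    exact mul_inv_eq_iff_eq_mul.1 h1
  have hvs : ∀ z ∈ [u, v], (oddQF n (F := F)) z ≠ 0 := by
    intro z hz
    rcases List.mem_pair.1 hz with rfl | rfl
    · rw [hQu]; exact one_ne_zero
    · rw [hQv]; exact one_ne_zero
  have htΩ : wordG (oddQF n (F := F)) [u, v] ∈ Cfsg.Omega F ⇑(oddQF n (F := F)) := by
    rw [mem_omega_iff (oddQF n (F := F)) h2 hQ hvs]
    refine ⟨⟨1, rfl⟩, ?_⟩
    rw [normProd_cons, normProd_cons, hQu, hQv]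
    simp [normProd]
  have hteq : wordG (oddQF n (F := F)) [u, v] =
      reflM (oddQF n (F := F)) u * reflM (oddQF n (F := F)) v := by
    rw [wordG_cons, wordG_cons, wordG_nil, mul_one]
  rw [hteq] at htΩ
  have hperp := Cfsg.Agent.Lib.Helper25.ReflClass.reflM_comm_of_perp (oddQF n (F := F)) huv
  apply spec_two_r (oddQF n (F := F)) h2 hQ (by rw [hcard]; omega)
    (by rw [hcard]; exact ⟨n, rfl⟩) r hr2 x _ hxr hx1 htΩ
  · show x * (reflM (oddQF n (F := F)) u * reflM (oddQF n (F := F)) v) =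
      reflM (oddQF n (F := F)) u * reflM (oddQF n (F := F)) v * x
    rw [← mul_assoc, hcu, mul_assoc, hcv, mul_assoc]
  · calc reflM (oddQF n (F := F)) u * reflM (oddQF n (F := F)) v *
          (reflM (oddQF n (F := F)) u * reflM (oddQF n (F := F)) v)
        = reflM (oddQF n (F := F)) u * (reflM (oddQF n (F := F)) v *
          reflM (oddQF n (F := F)) u) * reflM (oddQF n (F := F)) v := by group
      _ = reflM (oddQF n (F := F)) u * (reflM (oddQF n (F := F)) u *
          reflM (oddQF n (F := F)) v) * reflM (oddQF n (F := F)) v := by rw [hperp]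
      _ = (reflM (oddQF n (F := F)) u * reflM (oddQF n (F := F)) u) *
          (reflM (oddQF n (F := F)) v * reflM (oddQF n (F := F)) v) := by group
      _ = 1 := by rw [reflM_mul_self, reflM_mul_self, mul_one]
  · intro h
    have h1 : reflM (oddQF n (F := F)) u = reflM (oddQF n (F := F)) v := by
      have h3 := reflM_mul_self (oddQF n (F := F)) v
      calc reflM (oddQF n (F := F)) u
          = reflM (oddQF n (F := F)) u * (reflM (oddQF n (F := F)) v *
            reflM (oddQF n (F := F)) v) := by rw [h3, mul_one]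
        _ = reflM (oddQF n (F := F)) u * reflM (oddQF n (F := F)) v *
            reflM (oddQF n (F := F)) v := by rw [mul_assoc]
        _ = reflM (oddQF n (F := F)) v := by rw [h, one_mul]
    have h3 := congrArg (fun k => toOG (oddQF n (F := F)) k u) h1
    simp only [toOG_reflM] at h3
    have h3a : reflE (oddQF n (F := F)) v u = u :=
      reflE_of_perp (oddQF n (F := F)) (by rw [polar_comm]; exact huv)
    have h3b := reflE_apply (oddQF n (F := F)) u u
    rw [h3a, h3b, polar_self, hQu] at h3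
    have h4 : (2 : F) • u = 0 := by
      have h5 : ((1 : F)⁻¹ * (2 • (1 : F))) = 2 := by norm_num
      rw [h5] at h3
      rw [two_smul] at h3 ⊢
      have h6 : u + u = u - (u - (u + u)) := by abel
      rw [h6, h3]
      abel
    have hu0 : u = 0 := (smul_eq_zero.1 h4).resolve_left h2
    rw [hu0, QuadraticMap.map_zero] at hQu
    exact zero_ne_one hQu

/-- an element of order `r` forces the block of `r` to fit -/
theorem omega_block_le (hodd : Odd (Fintype.card F)) (n : ℕ) (hn : 2 ≤ n) (r : ℕ)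
    [hr : Fact r.Prime] (hr2 : r ≠ 2) (hrp : r ≠ p)
    (h : 2 * r ∈ Set.range (orderOf : Cfsg.POmega F ⇑(oddQF n (F := F)) → ℕ)) :
    blockDim (Fintype.card F) r ≤ 2 * n := by
  have h2 : (2 : F) ≠ 0 := Cfsg.Agent.Lib.Helper25.Spin.two_ne_zero_of_odd_card hodd
  have hQ := oddQF_nondegenerate (F := F) h2 n
  have hcard : Fintype.card (Unit ⊕ (Fin n ⊕ Fin n)) = 2 * n + 1 := by
    rw [Fintype.card_sum, Fintype.card_sum, Fintype.card_unit, Fintype.card_fin]
    ring
  have hr0 : (r : F) ≠ 0 := natCast_ne_zero' r hrp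
  have hr3 : 3 ≤ r := by
    have := hr.out.two_le
    omega
  have hnd : NdOn (oddQF n (F := F)) ⊤ := ndOn_top _ hQ
  have hdimV : finrank F (Unit ⊕ (Fin n ⊕ Fin n) → F) = 2 * n + 1 := by
    rw [Module.finrank_fintype_fun_eq_card, hcard]
  rw [spec_iff (oddQF n (F := F)) h2 hQ (by rw [hcard]; omega)
    (by rw [hcard]; exact ⟨n, rfl⟩)] at h
  obtain ⟨g, -, hg⟩ := h
  obtain ⟨G, hG⟩ : ∃ G, G = toL (oddQF n (F := F)) g := ⟨_, rfl⟩
  have hGord : orderOf G = 2 * r := by
    rw [hG, ← hg]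
    exact orderOf_injective (toL (oddQF n (F := F))) (toL_injective _) g
  have hGpow : ∀ j, G ^ j = toL (oddQF n (F := F)) (g ^ j) := by
    intro j
    rw [hG, map_pow]
  have hGiso : ∀ j v, (oddQF n (F := F)) ((G ^ j) v) = (oddQF n (F := F)) v := by
    intro j v
    rw [hGpow]
    exact toL_iso _ _ v
  have hGone : G ^ (2 * r) = 1 := by
    rw [← hGord]
    exact pow_orderOf_eq_one G
  have hGne : ∀ j, 0 < j → j < 2 * r → G ^ j ≠ 1 := by
    intro j hj0 hj h1
    have := orderOf_dvd_of_pow_eq_one h1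
    rw [hGord] at this
    have := Nat.le_of_dvd hj0 this
    omega
  obtain ⟨x, hxdef⟩ : ∃ x, x = G ^ 2 := ⟨_, rfl⟩
  have hxr : x ^ r = 1 := by rw [hxdef, ← pow_mul, hGone]
  have hx1 : x ≠ 1 := by
    rw [hxdef]
    exact hGne 2 (by omega) (by omega)
  have hx : ∀ v, (oddQF n (F := F)) (x v) = (oddQF n (F := F)) v := by
    rw [hxdef]; exact hGiso _
  have hWnd : NdOn (oddQF n (F := F)) (movR x) := ndOn_mov _ hnd x hx r hxr hr0
  have h1 := orderOf_dvd_finrank_of_le_movR x r hxr hr0 (movR x) (movR_invariant x) le_rfl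
  have h3 := even_finrank_of_fpf _ x hx r hr2 hxr hr0 (movR x) (movR_invariant x) le_rfl hWnd
  have h4 : finrank F (movR x) ≤ 2 * n + 1 := by
    rw [← hdimV]
    exact Submodule.finrank_le _
  have h5 : finrank F (movR x) ≠ 0 := by
    intro h0
    apply hx1
    have hb : movR x = ⊥ := Submodule.finrank_eq_zero.1 h0
    refine LinearMap.ext fun v => ?_
    have hv : (x - 1) v ∈ movR x := ⟨v, rfl⟩
    rw [hb, Submodule.mem_bot, LinearMap.sub_apply, sub_eq_zero] at hv
    exact hv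
  obtain ⟨c, hc⟩ := h3
  obtain ⟨d, hd⟩ := h1
  have hd0 : d ≠ 0 := by
    rintro rfl
    rw [mul_zero] at hd
    exact h5 hd
  unfold blockDim
  split_ifs with hev
  · have : orderOf (Fintype.card F : ZMod r) * 1 ≤ orderOf (Fintype.card F : ZMod r) * d :=
      Nat.mul_le_mul_left _ (by omega)
    omega
  · rw [Nat.not_even_iff_odd] at hev
    obtain ⟨e, he⟩ := hev
    have hd2 : 2 ≤ d := by
      by_contra hlt
      have hd1 : d = 1 := by omega
      rw [hd1, mul_one] at hd
      omega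
    have : orderOf (Fintype.card F : ZMod r) * 2 ≤ orderOf (Fintype.card F : ZMod r) * d :=
      Nat.mul_le_mul_left _ hd2
    omega

/-- the edge `{2, r}` of the prime graph of `Ω_{2n+1}(q)` -/
theorem caseC_omega (hodd : Odd (Fintype.card F)) (n : ℕ) (hn : 2 ≤ n) (r : ℕ)
    [hr : Fact r.Prime] (hr2 : r ≠ 2) (hrp : r ≠ p) :
    (2 * r ∈ Set.range (orderOf : Cfsg.POmega F ⇑(oddQF n (F := F)) → ℕ)) ↔
    (blockDim (Fintype.card F) r + 2 ≤ 2 * n ∨
      ((orderOf (Fintype.card F : ZMod r) = 2 * n ∧ Fintype.card F ^ n % 4 = 3) ∨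
      (orderOf (Fintype.card F : ZMod r) = n ∧ Fintype.card F ^ n % 4 = 1))) := by
  obtain ⟨c, hc⟩ := even_blockDim r (Fintype.card F)
  constructor
  · intro h
    have hle := omega_block_le hodd n hn r hr2 hrp h
    rcases Nat.lt_or_ge (blockDim (Fintype.card F) r) (2 * n) with hlt | hge
    · left; omega
    · right
      have hb : blockDim (Fintype.card F) r = 2 * n := by omega
      exact (caseC2_omega hodd n hn r hr2 hrp (cases_of_blockDim r n hb)).1 h
  · rintro (h | h)
    · exact caseC1_omega hodd n hn r hr2 hrp h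
    · rcases h with ⟨h1, h3⟩ | ⟨h1, h3⟩
      · exact (caseC2_omega hodd n hn r hr2 hrp (Or.inl h1)).2 (Or.inl ⟨h1, h3⟩)
      · rcases Nat.even_or_odd n with hev | hno
        · apply caseC1_omega hodd n hn r hr2 hrp
          unfold blockDim
          rw [h1, if_pos hev]
          omega
        · exact (caseC2_omega hodd n hn r hr2 hrp (Or.inr ⟨h1, hno⟩)).2 (Or.inr ⟨h1, h3⟩)

end main

end Cfsg.Agent.Lib.Helper15.BCCaseCO
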