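import Mathlib
import Cfsg.Agent.Lib.Helper15.BCInvol
import Cfsg.Agent.Lib.Helper15.BCCaseCO
import Cfsg.Agent.S2472
import Cfsg.Agent.S2362
import Cfsg.Agent.Lib.Helper15.SpPairs

/-!
# The edges `{2, r}` of the prime graph of `PSp_{2n}(q)` (helper15)
-/

set_option autoImplicit false
set_option linter.unusedSectionVars false

namespace Cfsg.Agent.Lib.Helper15.BCCaseCS

open Module Cfsg.Agent.Lib.Helper15.BCInvol Cfsg.Agent.Lib.Helper15.BCCaseCO
  Cfsg.Agent.Lib.Helper12.Elus Cfsg.Agent.Lib.Helper12.Sp Cfsg.Agent.Lib.Helper15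
  Cfsg.Agent.Lib.Helper15.OrthSemi Cfsg.Agent.Lib.Helper15.HermPair Cfsg.Agent.S2472
open scoped Matrix

section lift

variable {F : Type*} [Field F] [Fintype F]

theorem toEnd_pow' {n : ℕ} (g : Matrix.symplecticGroup (Fin n) F) (j : ℕ) :
    toEnd (g ^ j) = toEnd g ^ j := by
  unfold toEnd
  rw [SubmonoidClass.coe_pow, map_pow]

theorem mem_center_of_scalar {n : ℕ} (z : Matrix.symplecticGroup (Fin n) F)
    (hz : (z : Matrix (Fin n ⊕ Fin n) (Fin n ⊕ Fin n) F) = 1 ∨
      (z : Matrix (Fin n ⊕ Fin n) (Fin n ⊕ Fin n) F) = -1) :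
    z ∈ Subgroup.center (Matrix.symplecticGroup (Fin n) F) := by
  rw [Subgroup.mem_center_iff]
  intro g
  apply Subtype.ext
  show (g : Matrix (Fin n ⊕ Fin n) (Fin n ⊕ Fin n) F) * z.1 = z.1 * g.1
  rcases hz with h | h <;> rw [h] <;> simp

theorem toEnd_eq_neg_one {n : ℕ} (g : Matrix.symplecticGroup (Fin n) F) (h : toEnd g = -1) :
    (g : Matrix (Fin n ⊕ Fin n) (Fin n ⊕ Fin n) F) = -1 := by
  apply Matrix.toLinAlgEquiv'.injective
  rw [map_neg, map_one]
  exact h

theorem toEnd_of_eq_neg_one {n : ℕ} (g : Matrix.symplecticGroup (Fin n) F)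
    (h : (g : Matrix (Fin n ⊕ Fin n) (Fin n ⊕ Fin n) F) = -1) : toEnd g = -1 := by
  unfold toEnd
  rw [h, map_neg, map_one]

theorem toEnd_one {n : ℕ} : toEnd (1 : Matrix.symplecticGroup (Fin n) F) = 1 := by
  unfold toEnd
  rw [OneMemClass.coe_one, map_one]

/-- a linear lift of an element of order `2 r` of `PSp` -/
theorem sp_lift (n : ℕ) (hn : 1 ≤ n) (r : ℕ) (hr3 : 3 ≤ r) (g : Cfsg.PSp n F)
    (hg : orderOf g = 2 * r) :
    ∃ E : Module.End F (Fin n ⊕ Fin n → F),
      (∀ u v, sympBilin n (F := F) (E u) (E v) = sympBilin n u v) ∧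
      (E ^ (2 * r) = 1 ∨ E ^ (2 * r) = -1) ∧ E ^ 4 ≠ 1 ∧ E ^ r ≠ 1 ∧ E ^ r ≠ -1 := by
  obtain ⟨G, rfl⟩ := QuotientGroup.mk_surjective g
  have hGne : ∀ j, 0 < j → j < 2 * r →
      G ^ j ∉ Subgroup.center (Matrix.symplecticGroup (Fin n) F) := by
    intro j hj0 hj h1
    have h3 : (QuotientGroup.mk G : Cfsg.PSp n F) ^ j = 1 := by
      rw [← QuotientGroup.mk_pow]
      exact (QuotientGroup.eq_one_iff _).2 h1
    have := orderOf_dvd_of_pow_eq_one h3
    rw [hg] at this
    have := Nat.le_of_dvd hj0 this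
    omega
  have hGone : G ^ (2 * r) ∈ Subgroup.center (Matrix.symplecticGroup (Fin n) F) := by
    rw [← QuotientGroup.eq_one_iff, QuotientGroup.mk_pow, ← hg]
    exact pow_orderOf_eq_one _
  refine ⟨toEnd G, toEnd_iso G, ?_, ?_, ?_, ?_⟩
  · rcases Cfsg.Agent.S0246.center_scalar n hn _ hGone with h | h
    · left
      rw [← toEnd_pow']
      have : G ^ (2 * r) = 1 := Subtype.ext h
      rw [this, toEnd_one]
    · right
      rw [← toEnd_pow']
      exact toEnd_of_eq_neg_one _ h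
  · intro h
    rw [← toEnd_pow'] at h
    apply hGne 4 (by omega) (by omega)
    rw [toEnd_eq_one _ h]
    exact one_mem _
  · intro h
    rw [← toEnd_pow'] at h
    apply hGne r (by omega) (by omega)
    rw [toEnd_eq_one _ h]
    exact one_mem _
  · intro h
    rw [← toEnd_pow'] at h
    apply hGne r (by omega) (by omega)
    exact mem_center_of_scalar _ (Or.inr (toEnd_eq_neg_one _ h))

end lift

section forward

variable {F : Type*} [Field F] [Fintype F] {p : ℕ} [hp : Fact p.Prime] [CharP F p]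

/-- an element of order `2 r` of `PSp` forces the block of `r` to fit -/
theorem sp_block_le (n : ℕ) (hn : 1 ≤ n) (r : ℕ)
    [hr : Fact r.Prime] (hr2 : r ≠ 2) (hrp : r ≠ p)
    (h : 2 * r ∈ Set.range (orderOf : Cfsg.PSp n F → ℕ)) :
    blockDim (Fintype.card F) r ≤ 2 * n := by
  have hr0 : (r : F) ≠ 0 := natCast_ne_zero' r hrp
  have hr3 : 3 ≤ r := by
    have := hr.out.two_le
    omega
  obtain ⟨g, hg⟩ := h
  obtain ⟨E, hE, hE2r, hE4, -, -⟩ := sp_lift n hn r hr3 g hg
  obtain ⟨x, hxdef⟩ : ∃ x, x = E ^ 4 := ⟨_, rfl⟩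
  have hxr : x ^ r = 1 := by
    rw [hxdef, ← pow_mul, show 4 * r = 2 * r * 2 by ring, pow_mul]
    rcases hE2r with h | h
    · rw [h, one_pow]
    · rw [h]
      exact neg_one_sq (R := Module.End F (Fin n ⊕ Fin n → F))
  have hx1 : x ≠ 1 := by rw [hxdef]; exact hE4
  have hx : ∀ u v, sympBilin n (F := F) (x u) (x v) = sympBilin n u v := by
    rw [hxdef]
    exact iso_pow _ E hE 4
  have h1 := orderOf_dvd_finrank_of_le_movR x r hxr hr0 (movR x) (movR_invariant x) le_rfl
  have h3 := Cfsg.Agent.Lib.Helper5.AltSim.even_finrank_movR (sympBilin n (F := F)) (stdB_alt n)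
    (stdB_nd n) x hx (fix_inf_mov x r hxr hr0)
  have h4 : finrank F (movR x) ≤ 2 * n := by
    rw [← std_finrank (F := F) n]
    exact Submodule.finrank_le _
  have h5 : finrank F (movR x) ≠ 0 := by
    intro h0
    apply hx1
    have hb : movR x = ⊥ := Submodule.finrank_eq_zero.1 h0
    refine LinearMap.ext fun v => ?_
    have hv : (x - 1) v ∈ movR x := ⟨v, rfl⟩
    rw [hb, Submodule.mem_bot, LinearMap.sub_apply, sub_eq_zero] at hv
    exact hv
  obtain ⟨c, hc⟩ := h3
  obtain ⟨d, hd⟩ := h1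
  have hd0 : d ≠ 0 := by
    rintro rfl
    rw [mul_zero] at hd
    exact h5 hd
  unfold blockDim
  split_ifs with hev
  · have : orderOf (Fintype.card F : ZMod r) * 1 ≤ orderOf (Fintype.card F : ZMod r) * d :=
      Nat.mul_le_mul_left _ (by omega)
    omega
  · rw [Nat.not_even_iff_odd] at hev
    obtain ⟨e, he⟩ := hev
    have hd2 : 2 ≤ d := by
      by_contra hlt
      have hd1 : d = 1 := by omega
      rw [hd1, mul_one] at hd
      omega
    have : orderOf (Fintype.card F : ZMod r) * 2 ≤ orderOf (Fintype.card F : ZMod r) * d :=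
      Nat.mul_le_mul_left _ hd2
    omega

/-- elements of order `2 r` of `PSp_{2n}(q)` when the block of `r` fills the space: necessity -/
theorem caseC2_sp_forward (hodd : Odd (Fintype.card F)) (n : ℕ) (hn : 1 ≤ n) (r : ℕ)
    [hr : Fact r.Prime] (hr2 : r ≠ 2) (hrp : r ≠ p)
    (he : orderOf (Fintype.card F : ZMod r) = 2 * n ∨
      (orderOf (Fintype.card F : ZMod r) = n ∧ Odd n))
    (h : 2 * r ∈ Set.range (orderOf : Cfsg.PSp n F → ℕ)) :
    ((orderOf (Fintype.card F : ZMod r) = 2 * n ∧ Fintype.card F ^ n % 4 = 3) ∨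
      (orderOf (Fintype.card F : ZMod r) = n ∧ Fintype.card F ^ n % 4 = 1)) := by
  have h2 : (2 : F) ≠ 0 := Cfsg.Agent.Lib.Helper25.Spin.two_ne_zero_of_odd_card hodd
  have hr0 : (r : F) ≠ 0 := natCast_ne_zero' r hrp
  have hrq : ¬ r ∣ Fintype.card F := not_dvd_card r hrp
  have hr3 : 3 ≤ r := by
    have := hr.out.two_le
    omega
  obtain ⟨g, hg⟩ := h
  obtain ⟨E, hE, hE2r, hE4, hEr1, hErn⟩ := sp_lift n hn r hr3 g hg
  obtain ⟨x, hxdef⟩ : ∃ x, x = E ^ 4 := ⟨_, rfl⟩
  obtain ⟨t, htdef⟩ : ∃ t, t = E ^ r := ⟨_, rfl⟩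
  have hxr : x ^ r = 1 := by
    rw [hxdef, ← pow_mul, show 4 * r = 2 * r * 2 by ring, pow_mul]
    rcases hE2r with h | h
    · rw [h, one_pow]
    · rw [h]
      exact neg_one_sq (R := Module.End F (Fin n ⊕ Fin n → F))
  have hx1 : x ≠ 1 := by rw [hxdef]; exact hE4
  have hx : ∀ u v, sympBilin n (F := F) (x u) (x v) = sympBilin n u v := by
    rw [hxdef]
    exact iso_pow _ E hE 4
  have ht : ∀ u v, sympBilin n (F := F) (t u) (t v) = sympBilin n u v := by
    rw [htdef]
    exact iso_pow _ E hE r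
  have hxt : ∀ v, x (t v) = t (x v) := by
    intro v
    rw [hxdef, htdef, ← Module.End.mul_apply, ← Module.End.mul_apply,
      (Commute.pow_pow_self E 4 r).eq]
  have htsq : t * t = E ^ (2 * r) := by rw [htdef, ← pow_add, two_mul]
  rcases hE2r with h | h
  · exfalso
    have htt : ∀ v, t (t v) = v := by
      intro v
      rw [← Module.End.mul_apply, htsq, h, Module.End.one_apply]
    rcases symp_invol_central (sympBilin n (F := F)) h2 (stdB_alt n) (stdB_nd n) x t hxt hx ht r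
      hxr hr0 hx1 htt n (by omega) (std_finrank n) he with h5 | h5
    · apply hEr1
      rw [← htdef]
      exact LinearMap.ext fun v => h5 v
    · apply hErn
      rw [← htdef]
      exact LinearMap.ext fun v => h5 v
  · have htt : ∀ v, t (t v) = -v := by
      intro v
      rw [← Module.End.mul_apply, htsq, h]
      rfl
    exact symp_four (sympBilin n (F := F)) hodd h2 (stdB_alt n) (stdB_nd n) x t hxt hx ht r hr2
      hxr hr0 hrq hx1 htt n (by omega) (std_finrank n) he

end forward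

section exist

variable {F : Type*} [Field F] [Fintype F] {p : ℕ} [hp : Fact p.Prime] [CharP F p]

open Cfsg.Agent.Lib.Helper5 in
/-- elements of order `2 r` of `PSp_{2n}(q)` when the block of `r` leaves room -/
theorem caseC1_sp (hodd : Odd (Fintype.card F)) (n : ℕ) (hn : 2 ≤ n) (r : ℕ)
    [hr : Fact r.Prime] (hr2 : r ≠ 2) (hrp : r ≠ p)
    (hsmall : blockDim (Fintype.card F) r + 2 ≤ 2 * n) :
    2 * r ∈ Set.range (orderOf : Cfsg.PSp n F → ℕ) := by
  classical
  have h2 : (2 : F) ≠ 0 := Cfsg.Agent.Lib.Helper25.Spin.two_ne_zero_of_odd_card hodd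
  have hr0 : (r : F) ≠ 0 := natCast_ne_zero' r hrp
  obtain ⟨A₀, hA₀mem, hA₀r, hfix, -⟩ := exists_sp_model (F := F) r hr2 hrp n
    (2 * n - blockDim (Fintype.card F) r) 1 (by omega)
  have hfixpos : 0 < finrank F (fixE (Matrix.toLin' A₀)) := by rw [hfix]; omega
  obtain ⟨⟨v, hvfix⟩, hv0'⟩ := finrank_pos_iff_exists_ne_zero.1 hfixpos
  have hv0 : v ≠ 0 := fun h => hv0' (Subtype.ext h)
  have hA₀v : A₀ *ᵥ v = v := by
    rw [mem_fixE, Matrix.toLin'_apply] at hvfix
    exact hvfix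
  have hbpos := blockDim_pos (F := F) r hrp
  have hA₀1 : A₀ ≠ 1 := by
    intro h1
    have h3 : fixE (Matrix.toLin' A₀) = ⊤ := by
      rw [eq_top_iff]
      intro w _
      rw [mem_fixE, h1, Matrix.toLin'_one]
      rfl
    rw [h3, finrank_top, std_finrank] at hfix
    omega
  obtain ⟨w, hw⟩ : ∃ w, A₀ *ᵥ w ≠ w := by
    by_contra hcon
    push Not at hcon
    apply hA₀1
    apply SpMax.mat_eq_of_mulVec
    intro x
    rw [hcon x, Matrix.one_mulVec]
  obtain ⟨Z, hZmem, hZZ, hZcomm, hZfix, hZmov⟩ :=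
    Cfsg.Agent.S2362.exists_invol n A₀ hA₀mem r hA₀r hr0
  obtain ⟨x, hx⟩ : ∃ x : Matrix.symplecticGroup (Fin n) F, x = ⟨A₀, hA₀mem⟩ := ⟨_, rfl⟩
  obtain ⟨z, hz⟩ : ∃ z : Matrix.symplecticGroup (Fin n) F, z = ⟨Z, hZmem⟩ := ⟨_, rfl⟩
  have hxr : x ^ r = 1 := by
    apply Subtype.ext
    rw [SubmonoidClass.coe_pow, hx]
    exact hA₀r
  have hx1 : x ≠ 1 := by
    intro h
    apply hA₀1
    have := congrArg Subtype.val h
    rw [hx] at this
    exact this
  have hzz : z ^ 2 = 1 := by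
    apply Subtype.ext
    rw [SubmonoidClass.coe_pow, hz, pow_two]
    exact hZZ
  have hc : Commute x z := by
    show x * z = z * x
    apply Subtype.ext
    rw [hx, hz]
    exact (hZcomm A₀ rfl).symm
  have hzZ : z ∉ Subgroup.center (Matrix.symplecticGroup (Fin n) F) := by
    intro hmem
    rcases Cfsg.Agent.S0246.center_scalar n (by omega) z hmem with h | h
    · rw [hz] at h
      have h1 := hZmov w
      rw [show Z = 1 from h, Matrix.one_mulVec] at h1
      have h3 : (2 : F) • (A₀ *ᵥ w - w) = 0 := by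
        rw [two_smul]
        nth_rewrite 1 [h1]
        exact neg_add_cancel _
      have h4 := (smul_eq_zero.1 h3).resolve_left h2
      exact hw (sub_eq_zero.1 h4)
    · rw [hz] at h
      have h1 := hZfix v hA₀v
      rw [show Z = -1 from h, Matrix.neg_mulVec, Matrix.one_mulVec] at h1
      have h3 : (2 : F) • v = 0 := by
        rw [two_smul]
        nth_rewrite 1 [← h1]
        exact neg_add_cancel _
      exact hv0 ((smul_eq_zero.1 h3).resolve_left h2)
  have : Fact (Nat.Prime 2) := ⟨Nat.prime_two⟩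
  have h := spec_pair (Subgroup.center (Matrix.symplecticGroup (Fin n) F)) x z r 2 hr2 hc
    (by rw [hxr]; exact one_mem _) (by rw [hzz]; exact one_mem _)
    (not_mem_center_of r (center_coprime_odd n (by omega) r hr.out hr2) x hxr hx1) hzZ
  rw [mul_comm] at h
  exact h

end exist

section cyclo

variable {F : Type*} [Field F] [Fintype F] {p : ℕ} [hp : Fact p.Prime] [CharP F p]

open Polynomial Cfsg.Agent.Lib.Helper15.SpPairs Cfsg.Agent.Lib.Helper15.SpReal

/-- the degree of the irreducible factors of the `4 r`-th cyclotomic polynomial -/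
theorem natDegree_cyclo_four (r : ℕ) [hr : Fact r.Prime] (hr2 : r ≠ 2) (hrp : r ≠ p)
    (hp2 : p ≠ 2) (h : F[X]) (hirr : Irreducible h) (hdvd : h ∣ cyclotomic (4 * r) F)
    (ho4 : orderOf ((Fintype.card F : ℕ) : ZMod 4) ∣ orderOf ((Fintype.card F : ℕ) : ZMod r)) :
    h.natDegree = orderOf ((Fintype.card F : ℕ) : ZMod r) := by
  have hp' : p.Prime := hp.out
  obtain ⟨f, -, hf⟩ := FiniteField.card F p
  have hcop : p.Coprime (4 * r) := by
    apply Nat.Coprime.mul_right
    · exact ((Nat.coprime_primes hp' Nat.prime_two).2 hp2).pow_right 2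
    · exact (Nat.coprime_primes hp' hr.out).2 (Ne.symm hrp)
  rw [natDegree_of_dvd_cyclotomic_of_irreducible hf hcop hdvd hirr, ← orderOf_units,
    ZMod.coe_unitOfCoprime, ← hf]
  have hrs' : Nat.Coprime 4 r :=
    ((Nat.coprime_primes Nat.prime_two hr.out).2 (Ne.symm hr2)).pow_left 2
  have h1 := (ZMod.chineseRemainder hrs').toMulEquiv.orderOf_eq
    ((Fintype.card F : ℕ) : ZMod (4 * r))
  rw [← h1]
  have h2 : (ZMod.chineseRemainder hrs').toMulEquiv ((Fintype.card F : ℕ) : ZMod (4 * r)) =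
      (((Fintype.card F : ℕ) : ZMod 4), ((Fintype.card F : ℕ) : ZMod r)) := by
    show (ZMod.chineseRemainder hrs') ((Fintype.card F : ℕ) : ZMod (4 * r)) = _
    rw [map_natCast]
    rfl
  rw [h2, Prod.orderOf]
  exact Nat.lcm_eq_right ho4

/-- a symplectic matrix whose characteristic polynomial has a primitive `4 r`-th cyclotomic
factor gives an element of order `2 r` of `PSp` -/
theorem spec_of_cyclo (hodd : Odd (Fintype.card F)) (n : ℕ) (hn : 1 ≤ n) (r : ℕ)
    [hr : Fact r.Prime] (hr2 : r ≠ 2) (hrp : r ≠ p)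
    (he : orderOf (Fintype.card F : ZMod r) = 2 * n ∨
      (orderOf (Fintype.card F : ZMod r) = n ∧ Odd n))
    (B : Matrix (Fin n ⊕ Fin n) (Fin n ⊕ Fin n) F)
    (hBmem : B ∈ Matrix.symplecticGroup (Fin n) F) (hBN : B ^ (4 * r) = 1) (h : F[X])
    (hirr : Irreducible h) (hc : h ∣ cyclotomic (4 * r) F) (hB : h ∣ B.charpoly) :
    2 * r ∈ Set.range (orderOf : Cfsg.PSp n F → ℕ) := by
  have h2 : (2 : F) ≠ 0 := Cfsg.Agent.Lib.Helper25.Spin.two_ne_zero_of_odd_card hodd
  have hr0 : (r : F) ≠ 0 := natCast_ne_zero' r hrp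
  have hr3 : 3 ≤ r := by
    have := hr.out.two_le
    omega
  have hN0 : ((4 * r : ℕ) : F) ≠ 0 := by
    push_cast
    refine mul_ne_zero ?_ hr0
    have : (4 : F) = 2 * 2 := by norm_num
    rw [this]
    exact mul_ne_zero h2 h2
  obtain ⟨b, hb⟩ : ∃ b : Matrix.symplecticGroup (Fin n) F, b = ⟨B, hBmem⟩ := ⟨_, rfl⟩
  have hb4r : b ^ (4 * r) = 1 := by
    apply Subtype.ext
    rw [SubmonoidClass.coe_pow, hb]
    exact hBN
  obtain ⟨E, hEdef⟩ : ∃ E, E = toEnd b := ⟨_, rfl⟩
  have hEcp : E.charpoly = B.charpoly := by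
    have : E = Matrix.toLin' B := by rw [hEdef, hb]; rfl
    rw [this, Matrix.charpoly_toLin']
  have hE : ∀ u v, sympBilin n (F := F) (E u) (E v) = sympBilin n u v := by
    rw [hEdef]; exact toEnd_iso b
  have hE4r : E ^ (4 * r) = 1 := by rw [hEdef]; exact toEnd_pow b _ hb4r
  have hnot : ∀ d ∈ (4 * r).properDivisors, E ^ d ≠ 1 := by
    intro d hd h1
    exact cyclo_factor_not_dvd (4 * r) d hN0 hd h hirr hc
      (dvd_of_irreducible_of_pow_eq_one E d h1 h hirr (by rw [hEcp]; exact hB))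
  obtain ⟨x, hxdef⟩ : ∃ x, x = E ^ 4 := ⟨_, rfl⟩
  obtain ⟨t, htdef⟩ : ∃ t, t = E ^ (2 * r) := ⟨_, rfl⟩
  have hxr : x ^ r = 1 := by rw [hxdef, ← pow_mul, hE4r]
  have hx1 : x ≠ 1 := by
    rw [hxdef]
    exact hnot 4 (Nat.mem_properDivisors.2 ⟨dvd_mul_right 4 r, by omega⟩)
  have h2r : E ^ (2 * r) ≠ 1 :=
    hnot (2 * r) (Nat.mem_properDivisors.2 ⟨⟨2, by ring⟩, by omega⟩)
  have hx : ∀ u v, sympBilin n (F := F) (x u) (x v) = sympBilin n u v := by
    rw [hxdef]
    exact iso_pow _ E hE 4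
  have ht : ∀ u v, sympBilin n (F := F) (t u) (t v) = sympBilin n u v := by
    rw [htdef]
    exact iso_pow _ E hE _
  have hxt : ∀ v, x (t v) = t (x v) := by
    intro v
    rw [hxdef, htdef, ← Module.End.mul_apply, ← Module.End.mul_apply,
      (Commute.pow_pow_self E 4 (2 * r)).eq]
  have htt : ∀ v, t (t v) = v := by
    intro v
    rw [← Module.End.mul_apply, htdef, ← pow_add, show 2 * r + 2 * r = 4 * r by ring, hE4r,
      Module.End.one_apply]
  have htneg : ∀ v, t v = -v := by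
    rcases symp_invol_central (sympBilin n (F := F)) h2 (stdB_alt n) (stdB_nd n) x t hxt hx ht r
      hxr hr0 hx1 htt n (by omega) (std_finrank n) he with h5 | h5
    · exfalso
      apply h2r
      rw [← htdef]
      exact LinearMap.ext fun v => h5 v
    · exact h5
  have hcen : b ^ (2 * r) ∈ Subgroup.center (Matrix.symplecticGroup (Fin n) F) := by
    apply mem_center_of_scalar
    right
    apply toEnd_eq_neg_one
    rw [toEnd_pow', ← hEdef, ← htdef]
    exact LinearMap.ext fun v => htneg v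
  have hbr : b ^ r ∉ Subgroup.center (Matrix.symplecticGroup (Fin n) F) := by
    intro hmem
    apply h2r
    have h5 : E ^ r = 1 ∨ E ^ r = -1 := by
      rcases Cfsg.Agent.S0246.center_scalar n hn _ hmem with h | h
      · left
        rw [hEdef, ← toEnd_pow']
        have : b ^ r = 1 := Subtype.ext h
        rw [this, toEnd_one]
      · right
        rw [hEdef, ← toEnd_pow']
        exact toEnd_of_eq_neg_one _ h
    rw [mul_comm, pow_mul]
    rcases h5 with h | h
    · rw [h, one_pow]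
    · rw [h]
      exact neg_one_sq (R := Module.End F (Fin n ⊕ Fin n → F))
  have hb4 : b ^ 4 ≠ 1 := by
    intro h
    apply hx1
    rw [hxdef, hEdef, ← toEnd_pow', h, toEnd_one]
  have : Fact (Nat.Prime 2) := ⟨Nat.prime_two⟩
  have hfin := spec_pair (Subgroup.center (Matrix.symplecticGroup (Fin n) F)) (b ^ 4) (b ^ r) r 2
    hr2 ((Commute.refl b).pow_pow 4 r)
    (by rw [← pow_mul, hb4r]; exact one_mem _)
    (by rw [← pow_mul, mul_comm]; exact hcen)
    (not_mem_center_of r (center_coprime_odd n hn r hr.out hr2) (b ^ 4)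
      (by rw [← pow_mul, hb4r]) hb4) hbr
  rw [mul_comm] at hfin
  exact hfin

/-- elements of order `2 r` of `PSp_{2n}(q)` when the block of `r` fills the space: existence -/
theorem caseC2_sp_exists (hodd : Odd (Fintype.card F)) (n : ℕ) (hn : 1 ≤ n) (r : ℕ)
    [hr : Fact r.Prime] (hr2 : r ≠ 2) (hrp : r ≠ p)
    (he : orderOf (Fintype.card F : ZMod r) = 2 * n ∨
      (orderOf (Fintype.card F : ZMod r) = n ∧ Odd n))
    (hgood : (orderOf (Fintype.card F : ZMod r) = 2 * n ∧ Fintype.card F ^ n % 4 = 3) ∨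
      (orderOf (Fintype.card F : ZMod r) = n ∧ Fintype.card F ^ n % 4 = 1)) :
    2 * r ∈ Set.range (orderOf : Cfsg.PSp n F → ℕ) := by
  have h2 : (2 : F) ≠ 0 := Cfsg.Agent.Lib.Helper25.Spin.two_ne_zero_of_odd_card hodd
  have hr0 : (r : F) ≠ 0 := natCast_ne_zero' r hrp
  have hp2 : p ≠ 2 := by
    rintro rfl
    apply h2
    have := CharP.cast_eq_zero F 2
    exact_mod_cast this
  have hr3 : 3 ≤ r := by
    have := hr.out.two_le
    omega
  have hpos : 0 < 4 * r := by omega
  have hN0 : ((4 * r : ℕ) : F) ≠ 0 := by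
    push_cast
    refine mul_ne_zero ?_ hr0
    have : (4 : F) = 2 * 2 := by norm_num
    rw [this]
    exact mul_ne_zero h2 h2
  obtain ⟨h, hm, hirr, hc⟩ := exists_cyclo_factor (F := F) (4 * r) hpos
  have hX : h ∣ X ^ (4 * r) - 1 := hc.trans (cyclotomic.dvd_X_pow_sub_one _ F)
  have hq4 : ∀ j, Fintype.card F ^ j % 4 = 1 → ((Fintype.card F : ℕ) : ZMod 4) ^ j = 1 := by
    intro j hj
    have h5 : ((Fintype.card F ^ j : ℕ) : ZMod 4) = ((1 : ℕ) : ZMod 4) :=
      (ZMod.natCast_eq_natCast_iff' _ _ _).2 (by rw [hj])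
    push_cast at h5
    exact h5
  have hcop4r : Nat.Coprime 4 r :=
    ((Nat.coprime_primes Nat.prime_two hr.out).2 (Ne.symm hr2)).pow_left 2
  rcases hgood with ⟨h1, h3⟩ | ⟨h1, h3⟩
  · have ho4 : orderOf ((Fintype.card F : ℕ) : ZMod 4) ∣
        orderOf ((Fintype.card F : ℕ) : ZMod r) := by
      rw [h1]
      apply orderOf_dvd_of_pow_eq_one
      apply hq4
      rw [pow_mul', Nat.pow_mod, h3]
    have hdeg := natDegree_cyclo_four r hr2 hrp hp2 h hirr hc ho4
    have hrdvd : r ∣ 1 + Fintype.card F ^ n := by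
      obtain ⟨y, hy⟩ : ∃ y, y = ((Fintype.card F : ℕ) : ZMod r) ^ n := ⟨_, rfl⟩
      have hyy : y * y = 1 := by
        rw [hy, ← pow_add, ← two_mul, ← h1]
        exact pow_orderOf_eq_one _
      have hy1 : y ≠ 1 := by
        intro h5
        rw [hy] at h5
        have := orderOf_dvd_of_pow_eq_one h5
        rw [h1] at this
        have := Nat.le_of_dvd (by omega) this
        omega
      have h5 : (y - 1) * (y + 1) = 0 := by linear_combination hyy
      have h6 : y + 1 = 0 := by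
        rcases mul_eq_zero.1 h5 with h7 | h7
        · exact absurd (sub_eq_zero.1 h7) hy1
        · exact h7
      rw [← ZMod.natCast_eq_zero_iff]
      push_cast
      rw [← hy]
      linear_combination h6
    have hNm : 4 * r ∣ 1 + Fintype.card F ^ n :=
      Nat.Coprime.mul_dvd_of_dvd_of_dvd hcop4r (by omega) hrdvd
    have hstar := star_eq_self_of_dvd p (4 * r) n hpos hNm h hm hirr hX
    have hnd2 : ¬ h ∣ X ^ 2 - 1 := cyclo_factor_not_dvd (4 * r) 2 hN0
      (Nat.mem_properDivisors.2 ⟨⟨2 * r, by ring⟩, by omega⟩) h hirr hc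
    have hS := sympReal_selfdual p (4 * r) h hm hirr hstar hX hnd2
    obtain ⟨B, hBmem, hBcp, hBN⟩ := exists_symplectic hS n (by rw [hdeg, h1]; ring)
    exact spec_of_cyclo hodd n hn r hr2 hrp he B hBmem hBN h hirr hc (by rw [hBcp])
  · have ho4 : orderOf ((Fintype.card F : ℕ) : ZMod 4) ∣
        orderOf ((Fintype.card F : ℕ) : ZMod r) := by
      rw [h1]
      exact orderOf_dvd_of_pow_eq_one (hq4 n h3)
    have hdeg := natDegree_cyclo_four r hr2 hrp hp2 h hirr hc ho4
    obtain ⟨M, hMc, hMN⟩ := Cfsg.Agent.S2568.exists_matrix_pow_eq_one n (4 * r) 1 hpos h hm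
      (hdeg.trans h1) (by rw [pow_one]; exact hX)
    have h1' : M * M ^ (4 * r - 1) = 1 := by
      rw [← pow_succ', Nat.sub_add_cancel hpos, hMN]
    have hS := sympReal_hyperbolic (4 * r) _ M (M ^ (4 * r - 1)) h1' hMN
    rw [hMc] at hS
    have h0 : h.coeff 0 ≠ 0 := by
      intro hc0
      rw [coeff_zero_eq_eval_zero] at hc0
      obtain ⟨g, hg⟩ := hX
      have := congrArg (eval 0) hg
      rw [eval_mul, hc0, zero_mul, eval_sub, eval_pow, eval_X, eval_one, zero_pow hpos.ne',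
        zero_sub] at this
      exact one_ne_zero (neg_eq_zero.1 this)
    obtain ⟨B, hBmem, hBcp, hBN⟩ := exists_symplectic hS n (by
      rw [hm.natDegree_mul (StarPoly.monic_star _ _ h0), StarPoly.natDegree_star _ _ h0, hdeg, h1])
    exact spec_of_cyclo hodd n hn r hr2 hrp he B hBmem hBN h hirr hc
      (by rw [hBcp]; exact dvd_mul_right h _)

end cyclo

section main

variable {F : Type*} [Field F] [Fintype F] {p : ℕ} [hp : Fact p.Prime] [CharP F p]

/-- the edge `{2, r}` of the prime graph of `PSp_{2n}(q)` -/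
theorem caseC_sp (hodd : Odd (Fintype.card F)) (n : ℕ) (hn : 2 ≤ n) (r : ℕ)
    [hr : Fact r.Prime] (hr2 : r ≠ 2) (hrp : r ≠ p) :
    (2 * r ∈ Set.range (orderOf : Cfsg.PSp n F → ℕ)) ↔
    (blockDim (Fintype.card F) r + 2 ≤ 2 * n ∨
      ((orderOf (Fintype.card F : ZMod r) = 2 * n ∧ Fintype.card F ^ n % 4 = 3) ∨
      (orderOf (Fintype.card F : ZMod r) = n ∧ Fintype.card F ^ n % 4 = 1))) := by
  obtain ⟨c, hc⟩ := even_blockDim r (Fintype.card F)
  constructor
  · intro h
    have hle := sp_block_le n (by omega) r hr2 hrp h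
    rcases Nat.lt_or_ge (blockDim (Fintype.card F) r) (2 * n) with hlt | hge
    · left; omega
    · right
      have hb : blockDim (Fintype.card F) r = 2 * n := by omega
      exact caseC2_sp_forward hodd n (by omega) r hr2 hrp (cases_of_blockDim r n hb) h
  · rintro (h | h)
    · exact caseC1_sp hodd n hn r hr2 hrp h
    · rcases h with ⟨h1, h3⟩ | ⟨h1, h3⟩
      · exact caseC2_sp_exists hodd n (by omega) r hr2 hrp (Or.inl h1) (Or.inl ⟨h1, h3⟩)
      · rcases Nat.even_or_odd n with hev | hno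
        · apply caseC1_sp hodd n hn r hr2 hrp
          unfold blockDim
          rw [h1, if_pos hev]
          omega
        · exact caseC2_sp_exists hodd n (by omega) r hr2 hrp (Or.inr ⟨h1, hno⟩)
            (Or.inr ⟨h1, h3⟩)

/-- the edges `{2, r}` of the prime graphs of `Ω_{2n+1}(q)` and `PSp_{2n}(q)` agree -/
theorem caseC (hodd : Odd (Fintype.card F)) (n : ℕ) (hn : 2 ≤ n) (r : ℕ)
    [hr : Fact r.Prime] (hr2 : r ≠ 2) (hrp : r ≠ p) :
    (2 * r ∈ Set.range (orderOf : Cfsg.POmega F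
      ⇑(Cfsg.Agent.Lib.Helper15.OrthReal.oddQF n (F := F)) → ℕ)) ↔
      (2 * r ∈ Set.range (orderOf : Cfsg.PSp n F → ℕ)) :=
  (caseC_omega hodd n hn r hr2 hrp).trans (caseC_sp hodd n hn r hr2 hrp).symm

end main

end Cfsg.Agent.Lib.Helper15.BCCaseCS
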