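import Mathlib
import Cfsg.Agent.Lib.Helper15.BCCaseCS

/-!
# The edge `{2, p}` of the prime graphs of `Ω_{2n+1}(q)` and `PSp_{2n}(q)` (helper15)
-/

set_option autoImplicit false
set_option linter.unusedSectionVars false

namespace Cfsg.Agent.Lib.Helper15.BCCaseD

open Module QuadraticMap Cfsg.Agent.Lib.Helper15.BCPairs Cfsg.Agent.Lib.Helper15.BCOrth
  Cfsg.Agent.Lib.Helper15.OrthReal Cfsg.Agent.Lib.Helper15.BCCaseA
  Cfsg.Agent.Lib.Helper15.BCCaseB Cfsg.Agent.Lib.Helper15.BCInvol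
  Cfsg.Agent.Lib.Helper15.BCCaseCO Cfsg.Agent.Lib.Helper15.BCCaseCS
  Cfsg.Agent.Lib.Helper12.Elus Cfsg.Agent.Lib.Helper12.Sp Cfsg.Agent.Lib.Helper15
open scoped Matrix

section rot

variable {F : Type*} [Field F]

/-- the dot product on the plane -/
noncomputable def dotB : LinearMap.BilinForm F (F × F) :=
  LinearMap.mk₂ F (fun x y => x.1 * y.1 + x.2 * y.2)
    (by intro x x' y; simp only [Prod.fst_add, Prod.snd_add]; ring)
    (by intro c x y; simp only [Prod.smul_fst, Prod.smul_snd, smul_eq_mul]; ring)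
    (by intro x y y'; simp only [Prod.fst_add, Prod.snd_add]; ring)
    (by intro c x y; simp only [Prod.smul_fst, Prod.smul_snd, smul_eq_mul]; ring)

theorem dotB_apply (x y : F × F) : dotB x y = x.1 * y.1 + x.2 * y.2 := rfl

/-- the sum of two squares -/
noncomputable def sqQF : QuadraticForm F (F × F) := LinearMap.BilinMap.toQuadraticMap dotB

theorem sqQF_apply (v : F × F) : sqQF v = v.1 * v.1 + v.2 * v.2 := rfl

theorem sqQF_nondegenerate (h2 : (2 : F) ≠ 0) : (polarBilin (sqQF (F := F))).Nondegenerate := by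
  have hp : ∀ a b : F × F, polar (sqQF (F := F)) a b = 2 * (a.1 * b.1 + a.2 * b.2) := by
    intro a b
    unfold sqQF
    rw [LinearMap.BilinMap.polar_toQuadraticMap, dotB_apply, dotB_apply]
    ring
  have hleft : ∀ a : F × F, (∀ b, polar (sqQF (F := F)) a b = 0) → a = 0 := by
    intro a ha
    have h1 := ha (1, 0)
    have h3 := ha (0, 1)
    rw [hp] at h1 h3
    simp only [mul_one, mul_zero, add_zero, zero_add] at h1 h3
    exact Prod.ext ((mul_eq_zero.1 h1).resolve_left h2) ((mul_eq_zero.1 h3).resolve_left h2)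
  constructor
  · intro a ha
    exact hleft a (fun b => by have := ha b; rwa [polarBilin_apply_apply] at this)
  · intro b hb
    exact hleft b (fun a => by
      have := hb a
      rwa [polarBilin_apply_apply, polar_comm] at this)

/-- the rotation of order four -/
noncomputable def rot : (F × F) →ₗ[F] (F × F) :=
  LinearMap.prod (-LinearMap.snd F F F) (LinearMap.fst F F F)

theorem rot_apply (v : F × F) : rot v = (-v.2, v.1) := rfl

theorem rot_iso (v : F × F) : sqQF (rot v) = sqQF v := by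
  rw [sqQF_apply, sqQF_apply, rot_apply]
  ring

theorem rot_sq (v : F × F) : (rot ^ 2) v = -v := by
  rw [pow_two, Module.End.mul_apply, rot_apply, rot_apply]
  rfl

theorem rot_four : (rot : (F × F) →ₗ[F] (F × F)) ^ 4 = 1 := by
  apply LinearMap.ext
  intro v
  rw [show 4 = 2 * 2 by norm_num, pow_mul, pow_two (rot ^ 2), Module.End.mul_apply, rot_sq, rot_sq,
    neg_neg, Module.End.one_apply]

end rot

section omega

variable {F : Type*} [Field F] [Fintype F] {p : ℕ} [hp : Fact p.Prime] [CharP F p]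

open Cfsg.Agent.S2362 in
/-- elements of order `2 p` of `Ω_{2n+1}(q)` -/
theorem caseD_omega (hodd : Odd (Fintype.card F)) (n : ℕ) (hn : 2 ≤ n) :
    2 * p ∈ Set.range (orderOf : Cfsg.POmega F ⇑(oddQF n (F := F)) → ℕ) := by
  have h2 : (2 : F) ≠ 0 := Cfsg.Agent.Lib.Helper25.Spin.two_ne_zero_of_odd_card hodd
  have hQ := oddQF_nondegenerate (F := F) h2 n
  have hcard : Fintype.card (Unit ⊕ (Fin n ⊕ Fin n)) = 2 * n + 1 := by
    rw [Fintype.card_sum, Fintype.card_sum, Fintype.card_unit, Fintype.card_fin]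
    ring
  have hp2 : p ≠ 2 := by
    rintro rfl
    apply h2
    have := CharP.cast_eq_zero F 2
    exact_mod_cast this
  obtain ⟨j, hj⟩ : ∃ j, n = j + 1 := ⟨n - 1, by omega⟩
  have hj1 : 1 ≤ j := by omega
  let i₀ : Fin j := ⟨0, hj1⟩
  obtain ⟨T₁, hT₁⟩ : ∃ T₁ : Module.End F ((F × F) × (Unit ⊕ (Fin j ⊕ Fin j) → F)),
      T₁ = (1 : Module.End F (F × F)).prodMap (uni j i₀ 1) := ⟨_, rfl⟩
  obtain ⟨T₂, hT₂⟩ : ∃ T₂ : Module.End F ((F × F) × (Unit ⊕ (Fin j ⊕ Fin j) → F)),
      T₂ = (rot : Module.End F (F × F)).prodMap 1 := ⟨_, rfl⟩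
  have hQ'nd := QuadReal.nondegenerate_prod (sqQF (F := F)) (oddQF j) (sqQF_nondegenerate h2)
    (oddQF_nondegenerate h2 j)
  have hdim : finrank F ((F × F) × (Unit ⊕ (Fin j ⊕ Fin j) → F)) = 2 * n + 1 := by
    rw [Module.finrank_prod, Module.finrank_prod, Module.finrank_self,
      Module.finrank_fintype_fun_eq_card, Fintype.card_sum,
      Fintype.card_sum, Fintype.card_unit, Fintype.card_fin, hj]
    ring
  have hi₁ : ∀ u, ((sqQF (F := F)).prod (oddQF j)) (T₁ u) = ((sqQF (F := F)).prod (oddQF j)) u := by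
    intro u
    rw [hT₁]
    show sqQF u.1 + oddQF j (uni j i₀ 1 u.2) = sqQF u.1 + oddQF j u.2
    rw [uni_iso]
  have hi₂ : ∀ u, ((sqQF (F := F)).prod (oddQF j)) (T₂ u) = ((sqQF (F := F)).prod (oddQF j)) u := by
    intro u
    rw [hT₂]
    show sqQF (rot u.1) + oddQF j u.2 = sqQF u.1 + oddQF j u.2
    rw [rot_iso]
  have hc : T₁ * T₂ = T₂ * T₁ := by
    rw [hT₁, hT₂, LinearMap.prodMap_mul, LinearMap.prodMap_mul, mul_one, one_mul, mul_one, one_mul]
  have hp₁ : T₁ ^ p = 1 := by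
    rw [hT₁, SpReal.prodMap_pow', one_pow, uni_pow, CharP.cast_eq_zero F p, zero_mul, uni_zero]
    exact LinearMap.prodMap_one
  have hp₂ : T₂ ^ 4 = 1 := by
    rw [hT₂, SpReal.prodMap_pow', one_pow, rot_four]
    exact LinearMap.prodMap_one
  have hn₁ : T₁ ≠ 1 := by
    intro h1
    apply uni_ne_one (F := F) j i₀
    apply LinearMap.ext
    intro w
    rw [hT₁] at h1
    have := congrArg (fun f : Module.End F ((F × F) × (Unit ⊕ (Fin j ⊕ Fin j) → F)) =>
      (f (0, w)).2) h1
    exact this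
  have hn₂ : T₂ ^ 2 ≠ 1 := by
    intro h1
    rw [hT₂, SpReal.prodMap_pow'] at h1
    have h3 := congrArg (fun f : Module.End F ((F × F) × (Unit ⊕ (Fin j ⊕ Fin j) → F)) =>
      (f ((1, 0), 0)).1.1) h1
    simp only [LinearMap.prodMap_apply, Module.End.one_apply] at h3
    rw [rot_sq] at h3
    simp only [Prod.neg_mk, neg_zero] at h3
    apply h2
    linear_combination -h3
  obtain ⟨c, E, hc0, hE⟩ := exists_equiv_odd ((sqQF (F := F)).prod (oddQF j)) hQ'nd n hdim
  obtain ⟨x, hx⟩ := exists_isom _ c hc0 E hE T₁ hi₁ p hp.out.pos hp₁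
  obtain ⟨y, hy⟩ := exists_isom _ c hc0 E hE T₂ hi₂ 4 (by norm_num) hp₂
  have hQeq : Cfsg.quadFormOdd n F = ⇑(oddQF n (F := F)) :=
    funext (fun v => (oddQF_apply n v).symm)
  have hxp : x ^ p = 1 := by
    apply ext_isom
    rw [coe_pow_isom, hx, ← gmat_pow, hp₁, gmat_one]
    rfl
  have hx1 : x ≠ 1 := by
    intro h1
    apply hn₁
    apply gmat_injective E
    rw [gmat_one, ← hx, h1]
    rfl
  have hy4 : y ^ 4 = 1 := by
    apply ext_isom
    rw [coe_pow_isom, hy, ← gmat_pow, hp₂, gmat_one]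
    rfl
  have hy2 : y ^ 2 ≠ 1 := by
    intro h1
    apply hn₂
    apply gmat_injective E
    rw [gmat_one, gmat_pow, ← hy, ← coe_pow_isom, h1]
    rfl
  have hxy : Commute x y := by
    apply ext_isom
    show x.1.1 * y.1.1 = y.1.1 * x.1.1
    have hx' : x.1.1 = gmat E T₁ := hx
    have hy' : y.1.1 = gmat E T₂ := hy
    rw [hx', hy', ← gmat_mul, ← gmat_mul, hc]
  clear hx hy
  revert x y
  rw [hQeq]
  intro x y hxp hx1 hy4 hy2 hxy
  rw [spec_iff (oddQF n (F := F)) h2 hQ (by rw [hcard]; omega) (by rw [hcard]; exact ⟨n, rfl⟩)]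
  have hox : orderOf x = p := orderOf_eq_prime hxp hx1
  have : Fact (Nat.Prime 2) := ⟨Nat.prime_two⟩
  have hog : orderOf (y ^ 2) = 2 := orderOf_eq_prime (by rw [← pow_mul, hy4]) hy2
  have hcop : Nat.Coprime p 2 := (Nat.coprime_primes hp.out Nat.prime_two).2 hp2
  have hc' : Commute x (y ^ 2) := hxy.pow_right 2
  refine ⟨x * y ^ 2, ?_, ?_⟩
  · apply Subgroup.mul_mem
    · exact mem_omega_of_odd _ h2 hQ x p (hp.out.odd_of_ne_two hp2) hxp
    · rw [pow_two]
      exact Cfsg.Agent.Lib.Helper25.Siegel.sq_mem_omega _ h2 hQ y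
  · rw [hc'.orderOf_mul_eq_mul_orderOf_of_coprime (by rw [hox, hog]; exact hcop), hox, hog,
      mul_comm]

end omega

section sp

variable {F : Type*} [Field F] [Fintype F] {p : ℕ} [hp : Fact p.Prime] [CharP F p]

open Cfsg.Agent.S2472 Cfsg.Agent.Lib.Helper5 in
/-- elements of order `2 p` of `PSp_{2n}(q)` -/
theorem caseD_sp (hodd : Odd (Fintype.card F)) (n : ℕ) (hn : 2 ≤ n) :
    2 * p ∈ Set.range (orderOf : Cfsg.PSp n F → ℕ) := by
  classical
  have h2 : (2 : F) ≠ 0 := Cfsg.Agent.Lib.Helper25.Spin.two_ne_zero_of_odd_card hodd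
  have hp2 : p ≠ 2 := by
    rintro rfl
    apply h2
    have := CharP.cast_eq_zero F 2
    exact_mod_cast this
  let i₀ : Fin n := ⟨0, by omega⟩
  let i₁ : Fin n := ⟨1, by omega⟩
  have hi : i₁ ≠ i₀ := by
    intro h
    have := congrArg Fin.val h
    simp [i₀, i₁] at this
  obtain ⟨s, hs⟩ : ∃ s : Fin n → F, s = fun a => if a = i₀ then -1 else 1 := ⟨_, rfl⟩
  have hss : ∀ a, s a * s a = 1 := by
    intro a
    rw [hs]
    by_cases h : a = i₀
    · simp [h]
    · simp [h]
  obtain ⟨d, hd⟩ : ∃ d : Fin n ⊕ Fin n → F, d = Sum.elim s s := ⟨_, rfl⟩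
  have hdd : ∀ k, d k * d k = 1 := by
    intro k
    rw [hd]
    rcases k with a | a
    · exact hss a
    · exact hss a
  obtain ⟨A₀, hA₀⟩ : ∃ A₀ : Matrix (Fin n ⊕ Fin n) (Fin n ⊕ Fin n) F, A₀ = Matrix.diagonal d :=
    ⟨_, rfl⟩
  have hA₀v : ∀ u k, (A₀ *ᵥ u) k = d k * u k := by
    intro u k
    rw [hA₀, Matrix.mulVec_diagonal]
  have hA₀mem : A₀ ∈ Matrix.symplecticGroup (Fin n) F := by
    apply mem_symplectic_of_preserves
    intro u v
    rw [sympForm_eq, sympForm_eq]
    apply Finset.sum_congr rfl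
    intro a _
    rw [hA₀v, hA₀v, hA₀v, hA₀v, hd]
    simp only [Sum.elim_inl, Sum.elim_inr]
    have := hss a
    linear_combination (u (Sum.inr a) * v (Sum.inl a) - u (Sum.inl a) * v (Sum.inr a)) * this
  have hA₀sq : A₀ * A₀ = 1 := by
    rw [hA₀, Matrix.diagonal_mul_diagonal]
    have : (fun k => d k * d k) = fun _ => (1 : F) := funext hdd
    rw [this, Matrix.diagonal_one]
  obtain ⟨v, hv⟩ : ∃ v : Fin n ⊕ Fin n → F, v = Pi.single (Sum.inl i₁) 1 := ⟨_, rfl⟩
  have hv0 : v ≠ 0 := by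
    intro h
    have := congrFun h (Sum.inl i₁)
    rw [hv] at this
    simp at this
  have hA₀fix : A₀ *ᵥ v = v := by
    funext k
    rw [hA₀v, hv]
    by_cases hk : k = Sum.inl i₁
    · subst hk
      rw [hd]
      simp only [Sum.elim_inl, Pi.single_eq_same, mul_one]
      rw [hs]
      simp [hi]
    · rw [Pi.single_eq_of_ne hk, mul_zero]
  obtain ⟨t, ht⟩ : ∃ t, t = Cfsg.sympTransvection n v (1 : F) := ⟨_, rfl⟩
  have htmem : t ∈ Matrix.symplecticGroup (Fin n) F := by
    rw [ht]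
    exact sympTransvection_mem n v 1
  have htp : t ^ p = 1 := by
    rw [ht, transv_pow, CharP.cast_eq_zero F p, zero_mul]
    unfold Cfsg.sympTransvection
    rw [zero_smul, add_zero]
  have htv : ∀ x, t *ᵥ x = x + Cfsg.sympForm n F x v • v := by
    intro x
    rw [ht, sympTransvection_mulVec, one_mul]
  have ht1 : t ≠ 1 := by
    intro h1
    obtain ⟨a, ha⟩ := sympForm_nondeg v hv0
    have h3 := htv a
    rw [h1, Matrix.one_mulVec] at h3
    have h4 : Cfsg.sympForm n F a v • v = 0 := by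
      have := h3.symm
      rwa [add_eq_left] at this
    rcases smul_eq_zero.1 h4 with h5 | h5
    · apply ha
      rw [sympForm_swap, h5, neg_zero]
    · exact hv0 h5
  have hcomm : A₀ * t = t * A₀ := by
    apply SpMax.mat_eq_of_mulVec
    intro x
    rw [← Matrix.mulVec_mulVec, ← Matrix.mulVec_mulVec, htv, htv, Matrix.mulVec_add,
      Matrix.mulVec_smul, hA₀fix]
    congr 2
    conv_lhs => rw [← sympForm_mulVec_of_mem hA₀mem x v, hA₀fix]
  obtain ⟨z, hz⟩ : ∃ z : Matrix.symplecticGroup (Fin n) F, z = ⟨A₀, hA₀mem⟩ := ⟨_, rfl⟩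
  obtain ⟨y, hy⟩ : ∃ y : Matrix.symplecticGroup (Fin n) F, y = ⟨t, htmem⟩ := ⟨_, rfl⟩
  have hzz : z ^ 2 = 1 := by
    apply Subtype.ext
    rw [SubmonoidClass.coe_pow, hz, pow_two]
    exact hA₀sq
  have hyp : y ^ p = 1 := by
    apply Subtype.ext
    rw [SubmonoidClass.coe_pow, hy]
    exact htp
  have hy1 : y ≠ 1 := by
    intro h
    apply ht1
    have := congrArg Subtype.val h
    rw [hy] at this
    exact this
  have hc : Commute y z := by
    show y * z = z * y
    apply Subtype.ext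
    rw [hz, hy]
    exact hcomm.symm
  have hzZ : z ∉ Subgroup.center (Matrix.symplecticGroup (Fin n) F) := by
    intro hmem
    rcases Cfsg.Agent.S0246.center_scalar n (by omega) z hmem with h | h
    · rw [hz] at h
      have h1 : A₀ (Sum.inl i₀) (Sum.inl i₀) = 1 := by rw [show A₀ = 1 from h, Matrix.one_apply_eq]
      rw [hA₀, Matrix.diagonal_apply_eq, hd] at h1
      simp only [Sum.elim_inl] at h1
      rw [hs] at h1
      simp only [if_true] at h1
      apply h2
      linear_combination -h1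
    · rw [hz] at h
      have h1 : A₀ (Sum.inl i₁) (Sum.inl i₁) = -1 := by
        rw [show A₀ = -1 from h, Matrix.neg_apply, Matrix.one_apply_eq]
      rw [hA₀, Matrix.diagonal_apply_eq, hd] at h1
      simp only [Sum.elim_inl] at h1
      rw [hs] at h1
      simp only [hi, if_false] at h1
      apply h2
      linear_combination h1
  have : Fact (Nat.Prime 2) := ⟨Nat.prime_two⟩
  have h := spec_pair (Subgroup.center (Matrix.symplecticGroup (Fin n) F)) y z p 2 hp2 hc
    (by rw [hyp]; exact one_mem _) (by rw [hzz]; exact one_mem _)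
    (not_mem_center_of p (center_coprime_char p n (by omega)) y hyp hy1) hzZ
  rw [mul_comm] at h
  exact h

end sp

end Cfsg.Agent.Lib.Helper15.BCCaseD
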