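/-
helper15: S4482-LOC sub-leaf JMEM `J_mem_zpowers` (helper20's sub-market).
-/
import Mathlib

set_option autoImplicit false

namespace Cfsg.Agent.Lib.Helper15.BOFLJMEM

universe u

open DihedralGroup

/-- (LOC-JMEM) the involution of `⟨σ⟩` lies in every nontrivial subgroup `⟨σ^l⟩`. -/
theorem J_mem_zpowers {X : Type u} [Group X] (n : ℕ) (hn : 2 ≤ n) (σ : X) (hσo : orderOf σ = 2 ^ (n - 1))
    (l : ℕ) (hl0 : 0 < l) (hl : l < 2 ^ (n - 1)) : σ ^ (2 ^ (n - 2)) ∈ Subgroup.zpowers (σ ^ l) := by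
  obtain ⟨e, u, hu, rfl⟩ := Nat.exists_eq_two_pow_mul_odd hl0.ne'
  have he : e < n - 1 := by
    have h1 : 2 ^ e ≤ 2 ^ e * u := Nat.le_mul_of_pos_right _ hu.pos
    have h2 : 2 ^ e < 2 ^ (n - 1) := lt_of_le_of_lt h1 hl
    exact (Nat.pow_lt_pow_iff_right (by norm_num)).mp h2
  have hJ2 : (σ ^ (2 ^ (n - 2))) ^ 2 = 1 := by
    rw [← pow_mul, ← pow_succ]
    have : n - 2 + 1 = n - 1 := by omega
    rw [this, ← hσo, pow_orderOf_eq_one]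
  obtain ⟨w, rfl⟩ := hu
  refine ⟨((2 ^ (n - 2 - e) : ℕ) : ℤ), ?_⟩
  show (σ ^ (2 ^ e * (2 * w + 1))) ^ ((2 ^ (n - 2 - e) : ℕ) : ℤ) = σ ^ (2 ^ (n - 2))
  rw [zpow_natCast, ← pow_mul]
  have h3 : 2 ^ e * (2 * w + 1) * 2 ^ (n - 2 - e) = 2 ^ (n - 2) * (2 * w + 1) := by
    have : 2 ^ (n - 2) = 2 ^ e * 2 ^ (n - 2 - e) := by
      rw [← pow_add]
      congr 1
      omega
    rw [this]
    ring
  rw [h3, pow_mul, pow_succ, pow_mul, hJ2, one_pow, one_mul]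

end Cfsg.Agent.Lib.Helper15.BOFLJMEM
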