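/-
helper15: S4482-LOC sub-leaf NOTKER `J_not_mem_of_mem` (helper20's sub-market).
-/
import Mathlib

set_option autoImplicit false

namespace Cfsg.Agent.Lib.Helper15.BOFLNOTKER

universe u

open DihedralGroup

/-- (LOC-NOTKER) `J` has order 2, `N` has odd order. -/
theorem J_not_mem_of_mem {X : Type u} [Group X] [Finite X] (n : ℕ) (hn : 2 ≤ n)
    (N : Subgroup X) (hNodd : Odd (Nat.card N)) (σ : X) (hσo : orderOf σ = 2 ^ (n - 1))
    (g : X) (hg : g ∈ N) : σ ^ (2 ^ (n - 2)) ∉ Subgroup.zpowers g := by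
  intro hJ
  have hJN : σ ^ (2 ^ (n - 2)) ∈ N := (Subgroup.zpowers_le.mpr hg) hJ
  have ho : orderOf (σ ^ (2 ^ (n - 2))) = 2 := by
    rw [orderOf_pow' σ (by positivity), hσo]
    have h1 : Nat.gcd (2 ^ (n - 1)) (2 ^ (n - 2)) = 2 ^ (n - 2) :=
      Nat.gcd_eq_right (pow_dvd_pow 2 (by omega))
    rw [h1, Nat.pow_div (by omega) (by norm_num)]
    have : n - 1 - (n - 2) = 1 := by omega
    rw [this, pow_one]
  have hdvd := Subgroup.orderOf_dvd_natCard N hJN
  rw [ho] at hdvd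
  rcases hNodd with ⟨k, hk⟩
  omega

end Cfsg.Agent.Lib.Helper15.BOFLNOTKER
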