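/-
helper15: S4482-LOC sub-leaf NOTSR `J_not_mem_of_sr` (helper20's sub-market).
-/
import Mathlib

set_option autoImplicit false

namespace Cfsg.Agent.Lib.Helper15.BOFLNOTSR

universe u

open DihedralGroup

/-- (LOC-NOTSR) `κ J = r (2^(n-2)) ∉ {1, sr i} = κ ⟨g⟩`. -/
theorem J_not_mem_of_sr {X : Type u} [Group X] (n : ℕ) (hn : 2 ≤ n) (σ : X)
    (κ : X →* DihedralGroup (2 ^ (n - 1))) (hκσ : κ σ = r 1)
    (g : X) (i : ZMod (2 ^ (n - 1))) (hg : κ g = sr i) : σ ^ (2 ^ (n - 2)) ∉ Subgroup.zpowers g := by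
  rintro ⟨k, hk⟩
  have hk' : g ^ k = σ ^ (2 ^ (n - 2)) := hk
  have h1 := congrArg κ hk'
  rw [map_zpow, map_pow, hg, hκσ, r_one_pow] at h1
  have hsr2 : (sr i : DihedralGroup (2 ^ (n - 1))) ^ 2 = 1 := by
    rw [pow_two, sr_mul_self]
  have hne0 : ((2 ^ (n - 2) : ℕ) : ZMod (2 ^ (n - 1))) ≠ 0 := by
    intro h0
    rw [ZMod.natCast_eq_zero_iff] at h0
    have h3 : 2 ^ (n - 1) ≤ 2 ^ (n - 2) := Nat.le_of_dvd (by positivity) h0
    have h4 : 2 ^ (n - 2) < 2 ^ (n - 1) := Nat.pow_lt_pow_right (by norm_num) (by omega)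
    omega
  rcases Int.even_or_odd' k with ⟨c, hc | hc⟩
  · rw [hc, zpow_mul, zpow_two, sr_mul_self, one_zpow] at h1
    have h5 : (r 0 : DihedralGroup (2 ^ (n - 1))) = r ((2 ^ (n - 2) : ℕ) : ZMod (2 ^ (n - 1))) := h1
    exact hne0 (r.inj h5).symm
  · rw [hc, zpow_add, zpow_one, zpow_mul, zpow_two, sr_mul_self, one_zpow, one_mul] at h1
    cases h1

end Cfsg.Agent.Lib.Helper15.BOFLNOTSR
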