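/-
helper15: S4482-LOC sub-leaf POW `mem_zpowers_mul_of_coprime` (helper20's sub-market).
-/
import Mathlib

set_option autoImplicit false

namespace Cfsg.Agent.Lib.Helper15.BOFLPOW

universe u

open DihedralGroup

/-- (LOC-POW) `x` is a power of `x y` when `x, y` commute and have coprime orders. -/
theorem mem_zpowers_mul_of_coprime {X : Type u} [Group X] (x y : X) (h : Commute x y)
    (hc : (orderOf x).Coprime (orderOf y)) : x ∈ Subgroup.zpowers (x * y) := by
  have hb := Nat.gcd_eq_gcd_ab (orderOf x) (orderOf y)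
  rw [hc.gcd_eq_one] at hb
  refine ⟨(orderOf y : ℤ) * Nat.gcdB (orderOf x) (orderOf y), ?_⟩
  show (x * y) ^ ((orderOf y : ℤ) * Nat.gcdB (orderOf x) (orderOf y)) = x
  have h1 : (orderOf y : ℤ) * Nat.gcdB (orderOf x) (orderOf y) =
      1 - (orderOf x : ℤ) * Nat.gcdA (orderOf x) (orderOf y) := by
    push_cast at hb
    linarith
  rw [h.mul_zpow, zpow_mul y, zpow_natCast, pow_orderOf_eq_one, one_zpow, mul_one, h1, zpow_sub,
    zpow_one, zpow_mul, zpow_natCast, pow_orderOf_eq_one, one_zpow, inv_one, mul_one]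

end Cfsg.Agent.Lib.Helper15.BOFLPOW
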