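/-
helper15: S4482-LOC sub-leaf SHIFT `card_type_add_two` (helper20's sub-market).
-/
import Mathlib

set_option autoImplicit false

namespace Cfsg.Agent.Lib.Helper15.BOFLSHIFT

universe u

open DihedralGroup

/-- (LOC-SHIFT) conjugation by `σ` maps the involutions of type `i + 2` onto those of type `i`
(`r 1 * sr j * r (-1) = sr (j - 2)`). -/
theorem card_type_add_two {X : Type u} [Group X] (n : ℕ) (σ : X)
    (κ : X →* DihedralGroup (2 ^ (n - 1))) (hκσ : κ σ = r 1) (i : ZMod (2 ^ (n - 1))) :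
    Nat.card {x : X // orderOf x = 2 ∧ κ x = sr (i + 2)} =
      Nat.card {x : X // orderOf x = 2 ∧ κ x = sr i} := by
  apply Nat.card_congr
  refine (MulAut.conj σ).toEquiv.subtypeEquiv (fun x => ?_)
  have hconj : (MulAut.conj σ).toEquiv x = σ * x * σ⁻¹ := rfl
  rw [hconj]
  have ho : orderOf (σ * x * σ⁻¹) = orderOf x := by
    have := MulEquiv.orderOf_eq (MulAut.conj σ) x
    rwa [MulAut.conj_apply] at this
  rw [ho, map_mul, map_mul, map_inv, hκσ]
  constructor
  · rintro ⟨h1, h2⟩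
    refine ⟨h1, ?_⟩
    rw [h2, inv_r, r_mul_sr, sr_mul_r]
    congr 1
    ring
  · rintro ⟨h1, h2⟩
    refine ⟨h1, ?_⟩
    have h3 : κ x = (r 1 : DihedralGroup (2 ^ (n - 1)))⁻¹ * sr i * r 1 := by
      rw [← h2]
      group
    rw [h3, inv_r, r_mul_sr, sr_mul_r]
    congr 1
    ring

end Cfsg.Agent.Lib.Helper15.BOFLSHIFT
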