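/-
helper15: S4482-LOC sub-leaf WSUM `weight_sum` (helper20's sub-market).
-/
import Mathlib

set_option autoImplicit false

namespace Cfsg.Agent.Lib.Helper15.BOFLWSUM

universe u

open DihedralGroup

/-- (LOC-WSUM) `∑ c i c j ζ^(j-i) = (∑ c j ζ^j) (∑ c i ζ^(-i))` and `∑ c j ζ^j = 0` (shift by two),
`∑ c i = 2^(n-2) (c 0 + c 1)`. -/
theorem weight_sum (n : ℕ) (hn : 3 ≤ n) (ζ : ℂ) (hζ : IsPrimitiveRoot ζ (2 ^ (n - 1)))
    (c : ZMod (2 ^ (n - 1)) → ℂ) (hc : ∀ i, c (i + 2) = c i) :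
    ∑ i : ZMod (2 ^ (n - 1)), ∑ j : ZMod (2 ^ (n - 1)),
      c i * c j * (2 - ζ ^ (j - i).val - (ζ ^ (j - i).val)⁻¹) =
      2 * ((2 : ℂ) ^ (n - 2) * (c 0 + c 1)) ^ 2 := by
  have hm4 : 4 ≤ 2 ^ (n - 1) := by
    calc 4 = 2 ^ 2 := by norm_num
      _ ≤ 2 ^ (n - 1) := Nat.pow_le_pow_right (by norm_num) (by omega)
  have hζ0 : ζ ≠ 0 := hζ.ne_zero (by omega)
  set χ : ZMod (2 ^ (n - 1)) → ℂ := fun x => ζ ^ x.val with hχ
  have hχadd : ∀ x y, χ (x + y) = χ x * χ y := by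
    intro x y
    show ζ ^ (x + y).val = ζ ^ x.val * ζ ^ y.val
    rw [ZMod.val_add, ← pow_eq_pow_mod _ hζ.pow_eq_one, pow_add]
  have hχ0 : ∀ x, χ x ≠ 0 := fun x => pow_ne_zero _ hζ0
  have hχsub : ∀ i j, χ (j - i) = χ j * (χ i)⁻¹ := by
    intro i j
    have h1 := hχadd (j - i) i
    rw [sub_add_cancel] at h1
    rw [h1, mul_assoc, mul_inv_cancel₀ (hχ0 i), mul_one]
  -- the twisted sum vanishes
  have hS : ∑ j, c j * χ j = 0 := by
    have h1 : ∑ j, c (j + 2) * χ (j + 2) = ∑ j, c j * χ j :=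
      Equiv.sum_comp (Equiv.addRight (2 : ZMod (2 ^ (n - 1)))) (fun j => c j * χ j)
    have hχ2 : χ 2 = ζ ^ 2 := by
      show ζ ^ (2 : ZMod (2 ^ (n - 1))).val = ζ ^ 2
      rw [ZMod.val_two_eq_two_mod, Nat.mod_eq_of_lt (by omega)]
    have h3 : ∑ j, c (j + 2) * χ (j + 2) = ζ ^ 2 * ∑ j, c j * χ j := by
      rw [Finset.mul_sum]
      apply Finset.sum_congr rfl
      intro j _
      rw [hc, hχadd, hχ2]
      ring
    have hne : ζ ^ 2 ≠ 1 := hζ.pow_ne_one_of_pos_of_lt (by norm_num) (by omega)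
    have h4 : (ζ ^ 2 - 1) * ∑ j, c j * χ j = 0 := by
      rw [sub_mul, one_mul, ← h3, h1, sub_self]
    exact (mul_eq_zero.mp h4).resolve_left (sub_ne_zero.mpr hne)
  -- the plain sum
  have hA : ∑ j, c j = (2 : ℂ) ^ (n - 2) * (c 0 + c 1) := by
    have hd : ∀ j, c (j + 1) + c (j + 1 + 1) = c j + c (j + 1) := by
      intro j
      rw [add_assoc j 1 1, one_add_one_eq_two, hc, add_comm]
    have hdk : ∀ k : ℕ, c ((k : ZMod (2 ^ (n - 1)))) + c ((k : ZMod (2 ^ (n - 1))) + 1) =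
        c 0 + c 1 := by
      intro k
      induction k with
      | zero => simp
      | succ k ih =>
        rw [Nat.cast_succ, hd, ih]
    have hdj : ∀ j : ZMod (2 ^ (n - 1)), c j + c (j + 1) = c 0 + c 1 := by
      intro j
      have := hdk j.val
      rwa [ZMod.natCast_zmod_val] at this
    have h1 : ∑ j, c (j + 1) = ∑ j, c j :=
      Equiv.sum_comp (Equiv.addRight (1 : ZMod (2 ^ (n - 1)))) c
    have h2 : 2 * ∑ j, c j = ((2 ^ (n - 1) : ℕ) : ℂ) * (c 0 + c 1) := by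
      calc 2 * ∑ j, c j = ∑ j, c j + ∑ j, c (j + 1) := by rw [h1]; ring
        _ = ∑ j, (c j + c (j + 1)) := by rw [Finset.sum_add_distrib]
        _ = ∑ _j : ZMod (2 ^ (n - 1)), (c 0 + c 1) := Finset.sum_congr rfl (fun j _ => hdj j)
        _ = ((2 ^ (n - 1) : ℕ) : ℂ) * (c 0 + c 1) := by
          rw [Finset.sum_const, Finset.card_univ, ZMod.card, nsmul_eq_mul]
    have h3 : ((2 ^ (n - 1) : ℕ) : ℂ) = 2 * (2 : ℂ) ^ (n - 2) := by
      have : n - 1 = (n - 2) + 1 := by omega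
      rw [this]
      push_cast
      ring
    rw [h3] at h2
    have h4 : (2 : ℂ) * ∑ j, c j = 2 * ((2 : ℂ) ^ (n - 2) * (c 0 + c 1)) := by
      rw [h2]; ring
    exact mul_left_cancel₀ two_ne_zero h4
  have key : ∀ i j, c i * c j * (2 - ζ ^ (j - i).val - (ζ ^ (j - i).val)⁻¹) =
      2 * (c i * c j) - (c i * (χ i)⁻¹) * (c j * χ j) - (c i * χ i) * (c j * (χ j)⁻¹) := by
    intro i j
    have h1 : ζ ^ (j - i).val = χ j * (χ i)⁻¹ := hχsub i j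
    rw [h1, mul_inv, inv_inv]
    ring
  have e1 : ∑ i, ∑ j, 2 * (c i * c j) = 2 * ((∑ i, c i) * ∑ j, c j) := by
    rw [Finset.sum_mul_sum, Finset.mul_sum]
    apply Finset.sum_congr rfl
    intro i _
    rw [Finset.mul_sum]
  have e2 : ∑ i, ∑ j, (c i * (χ i)⁻¹) * (c j * χ j) = (∑ i, c i * (χ i)⁻¹) * ∑ j, c j * χ j := by
    rw [Finset.sum_mul_sum]
  have e3 : ∑ i, ∑ j, (c i * χ i) * (c j * (χ j)⁻¹) = (∑ i, c i * χ i) * ∑ j, c j * (χ j)⁻¹ := by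
    rw [Finset.sum_mul_sum]
  simp_rw [key, Finset.sum_sub_distrib]
  rw [e1, e2, e3, hS, hA]
  ring
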