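import Mathlib

/-!
# S4501 market "BQ": leaf BQ-KILLP2 (`kill_p2`) — helper15

Pure arithmetic: the pattern `(p², p², 2p²+1)` contradicts the Klein order formula.
-/

set_option autoImplicit false

namespace Cfsg.Agent.Lib.Helper15.BQKILLP2

/-- `p ≥ 5` an odd prime: `p² + 1 = 2 m` with `m` odd, `m > 1`, and `p² ≡ 1 mod 3`. -/
theorem half_sq_add_one (p : ℕ) (hp : p.Prime) (hp5 : 5 ≤ p) :
    ∃ m : ℕ, p ^ 2 + 1 = 2 * m ∧ m % 2 = 1 ∧ 1 < m ∧ p ^ 2 % 3 = 1 := by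
  have h2 : p % 2 = 1 := by
    rcases hp.eq_two_or_odd with h | h
    · omega
    · exact h
  have h3 : p % 3 ≠ 0 := by
    intro h
    have : 3 ∣ p := Nat.dvd_of_mod_eq_zero h
    have := (Nat.prime_dvd_prime_iff_eq Nat.prime_three hp).1 this
    omega
  have hmod3 : p ^ 2 % 3 = 1 := by
    have : p % 3 = 1 ∨ p % 3 = 2 := by omega
    rcases this with h | h <;> simp [Nat.pow_mod, h]
  obtain ⟨j, hj⟩ : ∃ j, p = 2 * j + 1 := ⟨p / 2, by omega⟩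
  refine ⟨2 * (j * (j + 1)) + 1, ?_, by omega, ?_, hmod3⟩
  · subst hj; ring
  · have : 2 ≤ j := by omega
    have : 1 ≤ j * (j + 1) := Nat.mul_pos (by omega) (by omega)
    omega

/-- BQ-KILLP2. -/
theorem kill_p2 (p b d₂ d₃ d₄ k k' : ℕ) (ε : ℤ) (hp : p.Prime) (hp5 : 5 ≤ p)
    (hpat : ε = 1 ∧ d₂ = p ^ 2 ∧ d₃ = p ^ 2 ∧ d₄ = 2 * p ^ 2 + 1)
    (hk : k ∣ p ^ 2 * 3 ^ b)
    (hform : ((p ^ 2 * 3 ^ b : ℕ) : ℤ) * (((d₂ : ℤ) + 1) * ((d₃ : ℤ) + ε) * ((d₄ : ℤ) - 1)) * (k' : ℤ) ^ 2 =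
      8 * ((d₂ : ℤ) * (d₃ : ℤ) * (d₄ : ℤ)) * (k : ℤ) ^ 3) : False := by
  obtain ⟨rfl, rfl, rfl, rfl⟩ := hpat
  obtain ⟨m, hm, hmodd, hm1, hmod3⟩ := half_sq_add_one p hp hp5
  -- the formula over ℕ
  have hN : (p ^ 2 * 3 ^ b) * ((p ^ 2 + 1) * (p ^ 2 + 1) * (2 * p ^ 2)) * k' ^ 2 =
      8 * (p ^ 2 * p ^ 2 * (2 * p ^ 2 + 1)) * k ^ 3 := by
    have h4 : ((2 * p ^ 2 + 1 : ℕ) : ℤ) - 1 = ((2 * p ^ 2 : ℕ) : ℤ) := by push_cast; ring
    rw [h4] at hform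
    exact_mod_cast hform
  -- a prime divisor of `m`
  have hm1' : m ≠ 1 := by omega
  obtain ⟨l, hl, hlm⟩ := Nat.exists_prime_and_dvd hm1'
  have hl2 : l ≠ 2 := by
    rintro rfl
    omega
  have hlq : l ∣ p ^ 2 + 1 := by rw [hm]; exact Dvd.dvd.mul_left hlm 2
  have hlp : ¬ l ∣ p := by
    intro h
    have h1 : l ∣ p ^ 2 := Dvd.dvd.pow h (by norm_num)
    have h2 : l ∣ 1 := (Nat.dvd_add_right h1).1 hlq
    exact hl.one_lt.ne' (Nat.dvd_one.1 h2)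
  have hl3 : l ≠ 3 := by
    rintro rfl
    omega
  have hl21 : ¬ l ∣ 2 * p ^ 2 + 1 := by
    intro h
    have h1 : l ∣ 2 * (p ^ 2 + 1) := Dvd.dvd.mul_left hlq 2
    have h2 : 2 * (p ^ 2 + 1) = (2 * p ^ 2 + 1) + 1 := by ring
    rw [h2] at h1
    have h3 : l ∣ 1 := (Nat.dvd_add_right h).1 h1
    exact hl.one_lt.ne' (Nat.dvd_one.1 h3)
  -- `l` divides the left side, hence the right side
  have hL : l ∣ 8 * (p ^ 2 * p ^ 2 * (2 * p ^ 2 + 1)) * k ^ 3 := by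
    rw [← hN]
    exact Dvd.dvd.mul_right (Dvd.dvd.mul_left (Dvd.dvd.mul_right (Dvd.dvd.mul_right hlq _) _) _) _
  have hlk : l ∣ k := by
    rcases (Nat.Prime.dvd_mul hl).1 hL with h | h
    · rcases (Nat.Prime.dvd_mul hl).1 h with h | h
      · exfalso
        have h8 : (8 : ℕ) = 2 ^ 3 := by norm_num
        rw [h8] at h
        have := (Nat.prime_dvd_prime_iff_eq hl Nat.prime_two).1 (hl.dvd_of_dvd_pow h)
        exact hl2 this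
      · exfalso
        rcases (Nat.Prime.dvd_mul hl).1 h with h | h
        · rcases (Nat.Prime.dvd_mul hl).1 h with h | h
          · exact hlp (hl.dvd_of_dvd_pow h)
          · exact hlp (hl.dvd_of_dvd_pow h)
        · exact hl21 h
    · exact hl.dvd_of_dvd_pow h
  have hlast : l ∣ p ^ 2 * 3 ^ b := hlk.trans hk
  rcases (Nat.Prime.dvd_mul hl).1 hlast with h | h
  · exact hlp (hl.dvd_of_dvd_pow h)
  · exact hl3 ((Nat.prime_dvd_prime_iff_eq hl Nat.prime_three).1 (hl.dvd_of_dvd_pow h))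

end Cfsg.Agent.Lib.Helper15.BQKILLP2
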