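import Mathlib

/-!
# S4501 market "BQ": leaf BQ-PAT36 (`pattern_36`) — helper15 (twin)

Pure arithmetic: the degree patterns of the principal 2-block when `|G| = 36 q^b`, `q ≥ 5`.
-/

set_option autoImplicit false

namespace Cfsg.Agent.Lib.Helper15.BQPAT36

theorem dvd_nine_cases (d : ℕ) (h : d ∣ 9) : d = 1 ∨ d = 3 ∨ d = 9 := by
  have := Nat.le_of_dvd (by norm_num) h
  interval_cases d <;> omega

theorem dvd_nine_of_not_dvd (q b d : ℕ) (hq : q.Prime) (hd : d ∣ 9 * q ^ b) (h : ¬ q ∣ d) : d ∣ 9 := by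
  have hc : Nat.Coprime d (q ^ b) :=
    Nat.Coprime.pow_right b ((Nat.Prime.coprime_iff_not_dvd hq).2 h).symm
  exact hc.dvd_of_dvd_mul_right hd

/-- The core Diophantine step: `x` and `10 + x` both divide `9 q^b`, `x ≡ 1 mod 4`, a power of 3 among them is 9. -/
theorem core (q b x : ℕ) (hq : q.Prime) (hq5 : 5 ≤ q) (hx1 : 1 < x) (hx : x ∣ 9 * q ^ b)
    (hy : 10 + x ∣ 9 * q ^ b) (hx4 : x % 4 = 1)
    (hVx : ∀ i : ℕ, x = 3 ^ i → 3 ^ i = 9) :
    (q = 19 ∧ x = 9) ∨ (q = 5 ∧ x = 5) := by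
  by_cases hqx : q ∣ x
  · have hqy : q ∣ 10 + x := by
      by_contra hqy
      have h9 := dvd_nine_of_not_dvd q b _ hq hy hqy
      have := Nat.le_of_dvd (by norm_num) h9
      omega
    have hq10 : q ∣ 10 := (Nat.dvd_add_left hqx).1 hqy
    have hqle : q ≤ 10 := Nat.le_of_dvd (by norm_num) hq10
    have hq5' : q = 5 := by
      interval_cases q
      · rfl
      · exfalso; omega
      · exfalso; omega
      · exfalso; omega
      · exfalso; omega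
      · exfalso; revert hq; norm_num
    subst hq5'
    right
    refine ⟨rfl, ?_⟩
    obtain ⟨x', rfl⟩ := hqx
    obtain ⟨y', hy'⟩ := hqy
    have hyx : y' = x' + 2 := by omega
    subst hyx
    have hx'd : x' ∣ 9 * 5 ^ b := (Dvd.intro_left 5 rfl).trans hx
    have hy'd : x' + 2 ∣ 9 * 5 ^ b := by
      have h1 : x' + 2 ∣ 10 + 5 * x' := ⟨5, by ring⟩
      exact h1.trans hy
    by_cases h5 : 5 ∣ x'
    · have h5' : ¬ 5 ∣ x' + 2 := by omega
      have := dvd_nine_cases _ (dvd_nine_of_not_dvd 5 b _ (by norm_num) hy'd h5')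
      omega
    · have h3 := dvd_nine_cases _ (dvd_nine_of_not_dvd 5 b _ (by norm_num) hx'd h5)
      rcases h3 with h | h | h
      · omega
      · omega
      · exfalso
        subst h
        have h11 : (11 : ℕ) ∣ 9 * 5 ^ b := hy'd
        have hp11 : Nat.Prime 11 := by norm_num
        rcases (Nat.Prime.dvd_mul hp11).1 h11 with h | h
        · omega
        · have := (Nat.prime_dvd_prime_iff_eq hp11 (by norm_num : Nat.Prime 5)).1
            (hp11.dvd_of_dvd_pow h)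
          omega
  · have h3 := dvd_nine_cases _ (dvd_nine_of_not_dvd q b x hq hx hqx)
    rcases h3 with h | h | h
    · omega
    · exfalso
      have := hVx 1 (by simpa using h)
      omega
    · left
      subst h
      refine ⟨?_, rfl⟩
      have h19 : (19 : ℕ) ∣ 9 * q ^ b := hy
      have hp19 : Nat.Prime 19 := by norm_num
      rcases (Nat.Prime.dvd_mul hp19).1 h19 with h | h
      · omega
      · exact ((Nat.prime_dvd_prime_iff_eq hp19 hq).1 (hp19.dvd_of_dvd_pow h)).symm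

/-- A divisor `> 1` of `9 q^b` prime to `q` is `9`, if `3` is excluded. -/
theorem eq_nine (q b d : ℕ) (hq : q.Prime) (h1 : 1 < d) (hd : d ∣ 9 * q ^ b) (hqd : ¬ q ∣ d)
    (hV : ∀ i : ℕ, d = 3 ^ i → 3 ^ i = 9) : d = 9 := by
  rcases dvd_nine_cases _ (dvd_nine_of_not_dvd q b d hq hd hqd) with h | h | h
  · omega
  · exfalso
    have := hV 1 (by simpa using h)
    omega
  · exact h

/-- BQ-PAT36. -/
theorem pattern_36 (q b d₂ d₃ d₄ : ℕ) (ε : ℤ) (hq : q.Prime) (hq5 : 5 ≤ q) (hε : ε = 1 ∨ ε = -1)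
    (h2 : 1 < d₂) (h3 : 1 < d₃) (h4 : 1 < d₄) (hd2 : d₂ ∣ 9 * q ^ b) (hd3 : d₃ ∣ 9 * q ^ b) (hd4 : d₄ ∣ 9 * q ^ b)
    (hV : ∀ i : ℕ, (d₂ = 3 ^ i ∨ d₃ = 3 ^ i ∨ d₄ = 3 ^ i) → 3 ^ i = 9)
    (hm2 : (4 : ℤ) ∣ (d₂ : ℤ) - 1) (hm3 : (4 : ℤ) ∣ (d₃ : ℤ) - ε) (hm4 : (4 : ℤ) ∣ (d₄ : ℤ) + 1)
    (hrel : 1 + (d₂ : ℤ) + ε * (d₃ : ℤ) - (d₄ : ℤ) = 0) :
    ε = 1 ∧ ((q = 19 ∧ d₂ = 9 ∧ d₃ = 9 ∧ d₄ = 19) ∨ (q = 5 ∧ d₂ = 9 ∧ d₃ = 5 ∧ d₄ = 15) ∨
      (q = 5 ∧ d₂ = 5 ∧ d₃ = 9 ∧ d₄ = 15)) := by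
  have hsome : ¬ q ∣ d₂ ∨ ¬ q ∣ d₃ ∨ ¬ q ∣ d₄ := by
    by_contra hcon
    simp only [not_or, not_not] at hcon
    obtain ⟨a2, a3, a4⟩ := hcon
    have e2 : (q : ℤ) ∣ (d₂ : ℤ) := Int.natCast_dvd_natCast.2 a2
    have e3 : (q : ℤ) ∣ (d₃ : ℤ) := Int.natCast_dvd_natCast.2 a3
    have e4 : (q : ℤ) ∣ (d₄ : ℤ) := Int.natCast_dvd_natCast.2 a4
    have h1 : (q : ℤ) ∣ 1 := by
      have h1 : (1 : ℤ) = (d₄ : ℤ) - (d₂ : ℤ) - ε * (d₃ : ℤ) := by linarith
      rw [h1]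
      exact dvd_sub (dvd_sub e4 e2) (Dvd.dvd.mul_left e3 ε)
    have h1' : q ∣ 1 := Int.natCast_dvd_natCast.1 (by simpa using h1)
    have := Nat.le_of_dvd one_pos h1'
    omega
  rcases hsome with hq2 | hq3 | hq4
  · -- `d₂ = 9`
    have e2 : d₂ = 9 := eq_nine q b d₂ hq h2 hd2 hq2 (fun i hi => hV i (Or.inl hi))
    subst e2
    rcases hε with rfl | rfl
    · refine ⟨rfl, ?_⟩
      have e4 : d₄ = 10 + d₃ := by omega
      subst e4
      have hx4 : d₃ % 4 = 1 := by omega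
      rcases core q b d₃ hq hq5 h3 hd3 hd4 hx4 (fun i hi => hV i (Or.inr (Or.inl hi))) with
        ⟨hq19, hx⟩ | ⟨hq5', hx⟩
      · left; subst hx; exact ⟨hq19, rfl, rfl, rfl⟩
      · right; left; subst hx; exact ⟨hq5', rfl, rfl, rfl⟩
    · exfalso
      have hsum : d₃ + d₄ = 10 := by omega
      have h33 : d₃ % 4 = 3 := by omega
      have h43 : d₄ % 4 = 3 := by omega
      have hcase : d₃ = 3 ∨ d₄ = 3 := by omega
      rcases hcase with h | h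
      · have := hV 1 (Or.inr (Or.inl (by simpa using h)))
        omega
      · have := hV 1 (Or.inr (Or.inr (by simpa using h)))
        omega
  · -- `d₃ = 9`
    have e3 : d₃ = 9 := eq_nine q b d₃ hq h3 hd3 hq3 (fun i hi => hV i (Or.inr (Or.inl hi)))
    subst e3
    have hε1 : ε = 1 := by
      rcases hε with rfl | rfl
      · rfl
      · exfalso; omega
    subst hε1
    refine ⟨rfl, ?_⟩
    have e4 : d₄ = 10 + d₂ := by omega
    subst e4
    have hx4 : d₂ % 4 = 1 := by omega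
    rcases core q b d₂ hq hq5 h2 hd2 hd4 hx4 (fun i hi => hV i (Or.inl hi)) with
      ⟨hq19, hx⟩ | ⟨hq5', hx⟩
    · left; subst hx; exact ⟨hq19, rfl, rfl, rfl⟩
    · right; right; subst hx; exact ⟨hq5', rfl, rfl, rfl⟩
  · -- `d₄ = 9` contradicts `d₄ ≡ 3 mod 4`
    exfalso
    have e4 : d₄ = 9 := eq_nine q b d₄ hq h4 hd4 hq4 (fun i hi => hV i (Or.inr (Or.inr hi)))
    subst e4
    omega

end Cfsg.Agent.Lib.Helper15.BQPAT36
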