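import Mathlib

/-!
# S4501 market "BQ": leaf BQ-PATP2 (`pattern_p2`) — helper15

Pure arithmetic: the degree pattern of the principal 2-block when `|G| = 4 p² 3^b`, `p ≥ 5`.
-/

set_option autoImplicit false

namespace Cfsg.Agent.Lib.Helper15.BQPATP2

/-- A divisor of `p² 3^b` is divisible by 3 or is a power of `p`. -/
theorem three_dvd_or_pow (p b d : ℕ) (hp : p.Prime) (hd : d ∣ p ^ 2 * 3 ^ b) :
    (3 ∣ d) ∨ ∃ i : ℕ, d = p ^ i := by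
  by_cases h3 : 3 ∣ d
  · exact Or.inl h3
  · right
    have hc : Nat.Coprime d (3 ^ b) :=
      Nat.Coprime.pow_right b (((Nat.Prime.coprime_iff_not_dvd Nat.prime_three).2 h3).symm)
    have h2 : d ∣ p ^ 2 := hc.dvd_of_dvd_mul_right hd
    obtain ⟨i, _, hi⟩ := (Nat.dvd_prime_pow hp).1 h2
    exact ⟨i, hi⟩

/-- `p ≥ 5` prime: `p² ≡ 1` modulo 4 and modulo 3. -/
theorem sq_mod (p : ℕ) (hp : p.Prime) (hp5 : 5 ≤ p) : p ^ 2 % 4 = 1 ∧ p ^ 2 % 3 = 1 := by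
  have h2 : p % 2 = 1 := by
    rcases hp.eq_two_or_odd with h | h
    · omega
    · exact h
  have h3 : p % 3 ≠ 0 := by
    intro h
    have : 3 ∣ p := Nat.dvd_of_mod_eq_zero h
    have := (Nat.prime_dvd_prime_iff_eq Nat.prime_three hp).1 this
    omega
  constructor
  · have : p % 4 = 1 ∨ p % 4 = 3 := by omega
    rcases this with h | h <;> simp [Nat.pow_mod, h]
  · have : p % 3 = 1 ∨ p % 3 = 2 := by omega
    rcases this with h | h <;> simp [Nat.pow_mod, h]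

/-- BQ-PATP2. -/
theorem pattern_p2 (p b d₂ d₃ d₄ : ℕ) (ε : ℤ) (hp : p.Prime) (hp5 : 5 ≤ p) (hε : ε = 1 ∨ ε = -1)
    (h2 : 1 < d₂) (h3 : 1 < d₃) (h4 : 1 < d₄) (hd2 : d₂ ∣ p ^ 2 * 3 ^ b) (hd3 : d₃ ∣ p ^ 2 * 3 ^ b) (hd4 : d₄ ∣ p ^ 2 * 3 ^ b)
    (hV : ∀ i : ℕ, (d₂ = p ^ i ∨ d₃ = p ^ i ∨ d₄ = p ^ i) → p ^ i = p ^ 2)
    (hm2 : (4 : ℤ) ∣ (d₂ : ℤ) - 1) (hm3 : (4 : ℤ) ∣ (d₃ : ℤ) - ε) (hm4 : (4 : ℤ) ∣ (d₄ : ℤ) + 1)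
    (hrel : 1 + (d₂ : ℤ) + ε * (d₃ : ℤ) - (d₄ : ℤ) = 0) :
    ε = 1 ∧ d₂ = p ^ 2 ∧ d₃ = p ^ 2 ∧ d₄ = 2 * p ^ 2 + 1 := by
  obtain ⟨hP4, hP3⟩ := sq_mod p hp hp5
  have k2 : (3 ∣ d₂) ∨ d₂ = p ^ 2 := by
    rcases three_dvd_or_pow p b d₂ hp hd2 with h | ⟨i, hi⟩
    · exact Or.inl h
    · exact Or.inr (hi.trans (hV i (Or.inl hi)))
  have k3 : (3 ∣ d₃) ∨ d₃ = p ^ 2 := by
    rcases three_dvd_or_pow p b d₃ hp hd3 with h | ⟨i, hi⟩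
    · exact Or.inl h
    · exact Or.inr (hi.trans (hV i (Or.inr (Or.inl hi))))
  have k4 : (3 ∣ d₄) ∨ d₄ = p ^ 2 := by
    rcases three_dvd_or_pow p b d₄ hp hd4 with h | ⟨i, hi⟩
    · exact Or.inl h
    · exact Or.inr (hi.trans (hV i (Or.inr (Or.inr hi))))
  generalize p ^ 2 = P2 at *
  rcases hε with rfl | rfl <;> rcases k2 with k2 | k2 <;> rcases k3 with k3 | k3 <;>
    rcases k4 with k4 | k4 <;> refine ⟨?_, ?_, ?_, ?_⟩ <;> omega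

end Cfsg.Agent.Lib.Helper15.BQPATP2
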