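import Mathlib

/-!
# S4501 market "BQ": leaf BQ-SYL5 (`card_eq_sixty`) — helper15

A simple group of order `12 · 5^b` has order 60.  Mathlib only: a simple group embeds into the symmetric
group on its Sylow `p`-subgroups as soon as there is more than one of them.
-/

set_option autoImplicit false

namespace Cfsg.Agent.Lib.Helper15.BQSYL5

universe u

variable {G : Type u} [Group G] [Finite G]

/-- `|G| = m p^b`, `p ∤ m`: a Sylow `p`-subgroup has order `p^b` and index `m`. -/
theorem card_sylow_of_card (p m b : ℕ) [hp : Fact p.Prime] (hm : ¬ p ∣ m) (hG : Nat.card G = m * p ^ b)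
    (P : Sylow p G) : Nat.card (P : Subgroup G) = p ^ b ∧ (P : Subgroup G).index = m := by
  have hm0 : m ≠ 0 := by
    rintro rfl
    exact hm (dvd_zero p)
  have hfac : (m * p ^ b).factorization p = b := by
    rw [Nat.factorization_mul hm0 (pow_ne_zero b hp.out.ne_zero), Nat.factorization_pow]
    simp [Nat.factorization_eq_zero_of_not_dvd hm, Nat.Prime.factorization_self hp.out]
  have h1 : Nat.card (P : Subgroup G) = p ^ b := by
    rw [Sylow.card_eq_multiplicity, hG, hfac]
  refine ⟨h1, ?_⟩
  have h2 := Subgroup.card_mul_index (P : Subgroup G)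
  rw [h1, hG, mul_comm m] at h2
  exact Nat.eq_of_mul_eq_mul_left (pow_pos hp.out.pos b) h2

/-- A simple group with more than one Sylow `p`-subgroup embeds into the symmetric group on them. -/
theorem card_dvd_factorial [IsSimpleGroup G] (p : ℕ) [Fact p.Prime] (h1 : Nat.card (Sylow p G) ≠ 1) :
    Nat.card G ∣ (Nat.card (Sylow p G)).factorial := by
  let φ : G →* Equiv.Perm (Sylow p G) := MulAction.toPermHom G (Sylow p G)
  rcases (inferInstance : φ.ker.Normal).eq_bot_or_eq_top with hb | ht
  · have hinj : Function.Injective φ := (MonoidHom.ker_eq_bot_iff φ).1 hb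
    have h := Subgroup.card_dvd_of_injective φ hinj
    rwa [Nat.card_perm] at h
  · exfalso
    apply h1
    have htriv : ∀ (g : G) (P : Sylow p G), g • P = P := by
      intro g P
      have hg : g ∈ φ.ker := by rw [ht]; exact Subgroup.mem_top g
      have h2 : φ g = 1 := MonoidHom.mem_ker.1 hg
      have h3 : (φ g) P = P := by rw [h2]; rfl
      exact h3
    have : Subsingleton (Sylow p G) := ⟨fun P Q => by
      obtain ⟨g, hg⟩ := MulAction.exists_smul_eq G P Q
      rw [← hg, htriv]⟩
    obtain ⟨P⟩ : Nonempty (Sylow p G) := inferInstance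
    exact Nat.card_of_subsingleton P

/-- In a simple group of order `m p^b` (`p ∤ m`, `1 < m`, `0 < b`) the number `n` of Sylow `p`-subgroups
divides `m`, is `≡ 1 mod p`, is not `1`, and `|G|` divides `n!`. -/
theorem sylow_count [IsSimpleGroup G] (p m b : ℕ) [hp : Fact p.Prime] (hm : ¬ p ∣ m) (hm1 : 1 < m) (hb : 0 < b)
    (hG : Nat.card G = m * p ^ b) :
    ∃ n : ℕ, n ∣ m ∧ n % p = 1 ∧ n ≠ 1 ∧ Nat.card G ∣ n.factorial := by
  obtain ⟨P⟩ : Nonempty (Sylow p G) := inferInstance
  obtain ⟨hc, hi⟩ := card_sylow_of_card p m b hm hG P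
  have hn1 : Nat.card (Sylow p G) ≠ 1 := by
    intro h
    have : Subsingleton (Sylow p G) := (Nat.card_eq_one_iff_unique.1 h).1
    have hN : (P : Subgroup G).Normal := Sylow.normal_of_subsingleton P
    rcases hN.eq_bot_or_eq_top with hb' | ht
    · rw [hb', Subgroup.card_bot] at hc
      have : 1 < p ^ b := Nat.one_lt_pow hb.ne' hp.out.one_lt
      omega
    · rw [ht, Subgroup.card_top, hG] at hc
      have hpos : 0 < p ^ b := pow_pos hp.out.pos b
      have : m * p ^ b = 1 * p ^ b := by rw [one_mul]; exact hc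
      have := Nat.eq_of_mul_eq_mul_right hpos this
      omega
  refine ⟨Nat.card (Sylow p G), ?_, ?_, hn1, card_dvd_factorial p hn1⟩
  · have := Sylow.card_dvd_index P
    rwa [hi] at this
  · have h := card_sylow_modEq_one p G
    have h2 : Nat.card (Sylow p G) % p = 1 % p := h
    rwa [Nat.mod_eq_of_lt hp.out.one_lt] at h2

/-- BQ-SYL5. -/
theorem card_eq_sixty [IsSimpleGroup G] (hna : ∃ x y : G, x * y ≠ y * x) (b : ℕ) (hG : Nat.card G = 12 * 5 ^ b) :
    Nat.card G = 60 := by
  have : Fact (Nat.Prime 2) := ⟨Nat.prime_two⟩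
  have : Fact (Nat.Prime 5) := ⟨by norm_num⟩
  rcases Nat.eq_zero_or_pos b with hb0 | hbpos
  · -- `|G| = 12 = 3 · 2²`
    exfalso
    subst hb0
    have hG' : Nat.card G = 3 * 2 ^ 2 := by rw [hG]; norm_num
    obtain ⟨n, hn3, hn2, hn1, hdvd⟩ := sylow_count (G := G) 2 3 2 (by norm_num) (by norm_num) (by norm_num) hG'
    have hle : n ≤ 3 := Nat.le_of_dvd (by norm_num) hn3
    have hn : n = 3 := by interval_cases n <;> omega
    subst hn
    rw [hG'] at hdvd
    norm_num [Nat.factorial] at hdvd
  · obtain ⟨n, hn12, hn5, hn1, hdvd⟩ := sylow_count (G := G) 5 12 b (by norm_num) (by norm_num) hbpos hG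
    have hle : n ≤ 12 := Nat.le_of_dvd (by norm_num) hn12
    have hn : n = 6 := by interval_cases n <;> omega
    subst hn
    have h720 : (6 : ℕ).factorial = 720 := by norm_num [Nat.factorial]
    rw [h720, hG] at hdvd
    rcases Nat.lt_or_ge b 2 with hb2 | hb2
    · have hb1 : b = 1 := by omega
      rw [hG, hb1]; norm_num
    · exfalso
      obtain ⟨c, rfl⟩ : ∃ c, b = 2 + c := ⟨b - 2, by omega⟩
      have h25 : 25 ∣ 12 * 5 ^ (2 + c) := by
        rw [pow_add]
        exact Dvd.dvd.mul_left (Dvd.dvd.mul_right (by norm_num) _) _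
      have := h25.trans hdvd
      omega

end Cfsg.Agent.Lib.Helper15.BQSYL5
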