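/-
helper15: S4504 step (VI) (sub-planner helper23, `notes/S4504_VI_leaves.lean`), leaf BRVI-ESIDE `e_side`:
the second orthogonality relation `∑_{S₁} |χ(x) + χ(x')|² = 2p = 4 f + 2` is exhausted by `X ∪ Y ⊆ S₁`,
so every other `χ ∈ S₁` has `χ(x) + χ(x') = 0`, and the sum of the four untwisted constants is
`4 ∑_X conj η(y)/η(1) + ∑_Y conj ξ(y)/ξ(1)`.
-/
import Mathlib
import Cfsg.Prelude.Def_BlockRank
import Cfsg.Agent.Lib.Helper6.BRHDefs
import Cfsg.Agent.Lib.Helper23.BRVIDefs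

set_option autoImplicit false

namespace Cfsg.Agent.Lib.Helper15.BRVIESIDE

open Cfsg Cfsg.Agent.Lib.Helper8.DOM Cfsg.Agent.Lib.Helper27.DO Cfsg.Agent.CharLib
open Cfsg.Agent.Lib.Helper6.BRH Cfsg.Agent.Lib.Helper23.BRVI
open scoped ComplexConjugate

universe u

variable {G : Type u} [Group G] [Finite G] {p : ℕ} [Fact p.Prime]

/-- a finite sum of non-negative reals over a finite set that vanishes has all its terms zero -/
theorem finsum_mem_eq_zero_imp {α : Type*} {s : Set α} (hs : s.Finite) (g : α → ℝ) (h0 : ∀ a ∈ s, 0 ≤ g a)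
    (h : ∑ᶠ a ∈ s, g a = 0) : ∀ a ∈ s, g a = 0 := by
  classical
  rw [finsum_mem_eq_finite_toFinset_sum g hs] at h
  intro a ha
  have := (Finset.sum_eq_zero_iff_of_nonneg (fun i hi => h0 i ((Set.Finite.mem_toFinset hs).1 hi))).1 h
  exact this a ((Set.Finite.mem_toFinset hs).2 ha)

/-- a constant `finsum` over a finite set -/
theorem finsum_mem_const_real {α : Type*} {s : Set α} (hs : s.Finite) (c : ℝ) :
    ∑ᶠ _a ∈ s, c = (Nat.card s : ℝ) * c := by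
  classical
  rw [finsum_mem_eq_finite_toFinset_sum _ hs, Finset.sum_const, nsmul_eq_mul,
    Nat.card_eq_card_finite_toFinset hs]

/-- ESIDE : the sum of the untwisted constants over `Irr(G / Z)`. -/
theorem e_side (P : Subgroup G) (hP : Nat.card P = p) (h2f : 2 * (Cz P).relIndex (Nz P) = p - 1)
    (X Y : Set (IrrCharacter G)) (v : IrrCharacter G → ℤ) (ε : ℤ) (d : B0 p P X Y v ε)
    (hsub : X ∪ Y ⊆ cset (trivIrr G)) (x x' y : G) (hxs : p ∣ orderOf x) (hxs' : p ∣ orderOf x')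
    (hY : ∀ ξ ∈ Y, (ξ : G → ℂ) x + (ξ : G → ℂ) x' = -(ε : ℂ))
    (hcol : ∑ᶠ χ ∈ cset (trivIrr G), Complex.normSq ((χ : G → ℂ) x + (χ : G → ℂ) x') = 2 * (p : ℝ)) :
    Tc (cset (trivIrr G)) x x y + Tc (cset (trivIrr G)) x x' y + Tc (cset (trivIrr G)) x' x y +
        Tc (cset (trivIrr G)) x' x' y =
      4 * ∑ᶠ η ∈ X, conj ((η : G → ℂ) y) / (η : G → ℂ) 1 + ∑ᶠ ξ ∈ Y, conj ((ξ : G → ℂ) y) / (ξ : G → ℂ) 1 := by
  classical
  have hfin : ∀ s : Set (IrrCharacter G), s.Finite := fun s => Set.toFinite s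
  set S₁ : Set (IrrCharacter G) := cset (trivIrr G) with hS₁
  set f : ℕ := (Cz P).relIndex (Nz P) with hf
  have hp2 : 2 ≤ p := (Fact.out : p.Prime).two_le
  have hf1 : 1 ≤ f := by
    rcases Nat.eq_zero_or_pos f with h0 | h0
    · rw [h0] at h2f
      have hp3 : p = 2 := by omega
      omega
    · exact h0
  have hp : p = 2 * f + 1 := by omega
  have hcY : Nat.card Y = 2 := by
    rw [d.cardY, ← hf, ← h2f, Nat.mul_div_cancel _ hf1]
  have hcX : Nat.card X = f := d.cardX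
  -- the values on X and Y
  have hvX : ∀ η ∈ X, (η : G → ℂ) x + (η : G → ℂ) x' = 2 * (v η : ℂ) := by
    intro η hη
    rw [d.valX η hη x hxs, d.valX η hη x' hxs']
    ring
  have hv2 : ∀ η ∈ X, ((v η : ℤ) : ℂ) ^ 2 = 1 := by
    intro η hη
    rcases d.sgnX η hη with h | h <;> rw [h] <;> norm_num
  have hε2 : ((ε : ℤ) : ℂ) ^ 2 = 1 := by
    rcases d.sgn with h | h <;> rw [h] <;> norm_num
  have hnX : ∀ η ∈ X, Complex.normSq ((η : G → ℂ) x + (η : G → ℂ) x') = 4 := by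
    intro η hη
    rw [hvX η hη]
    rcases d.sgnX η hη with h | h <;> rw [h] <;> simp [Complex.normSq_apply] <;> norm_num
  have hnY : ∀ ξ ∈ Y, Complex.normSq ((ξ : G → ℂ) x + (ξ : G → ℂ) x') = 1 := by
    intro ξ hξ
    rw [hY ξ hξ]
    rcases d.sgn with h | h <;> rw [h] <;> simp
  -- split S₁
  have hsplit : S₁ = (X ∪ Y) ∪ (S₁ \ (X ∪ Y)) := (Set.union_sdiff_cancel hsub).symm
  have hdisj2 : Disjoint (X ∪ Y) (S₁ \ (X ∪ Y)) := Set.disjoint_sdiff_right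
  -- vanishing off X ∪ Y
  have hrest : ∑ᶠ χ ∈ S₁ \ (X ∪ Y), Complex.normSq ((χ : G → ℂ) x + (χ : G → ℂ) x') = 0 := by
    have h1 := hcol
    rw [hsplit, finsum_mem_union hdisj2 (hfin _) (hfin _), finsum_mem_union d.disj (hfin _) (hfin _),
      finsum_mem_congr rfl hnX, finsum_mem_congr rfl hnY, finsum_mem_const_real (hfin _),
      finsum_mem_const_real (hfin _), hcX, hcY, hp] at h1
    push_cast at h1
    linarith
  have hzero : ∀ χ ∈ S₁ \ (X ∪ Y), (χ : G → ℂ) x + (χ : G → ℂ) x' = 0 := by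
    intro χ hχ
    have := finsum_mem_eq_zero_imp (hfin _) _ (fun a _ => Complex.normSq_nonneg _) hrest χ hχ
    exact Complex.normSq_eq_zero.1 this
  -- the left side as a single sum
  have hL : Tc S₁ x x y + Tc S₁ x x' y + Tc S₁ x' x y + Tc S₁ x' x' y =
      ∑ᶠ χ ∈ S₁, ((χ : G → ℂ) x + (χ : G → ℂ) x') ^ 2 * (conj ((χ : G → ℂ) y) / (χ : G → ℂ) 1) := by
    unfold Tc
    rw [← finsum_mem_add_distrib (hfin _), ← finsum_mem_add_distrib (hfin _),
      ← finsum_mem_add_distrib (hfin _)]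
    apply finsum_mem_congr rfl
    intro χ _
    ring
  rw [hL, hsplit, finsum_mem_union hdisj2 (hfin _) (hfin _), finsum_mem_union d.disj (hfin _) (hfin _)]
  have h3 : ∑ᶠ χ ∈ S₁ \ (X ∪ Y),
      ((χ : G → ℂ) x + (χ : G → ℂ) x') ^ 2 * (conj ((χ : G → ℂ) y) / (χ : G → ℂ) 1) = 0 := by
    apply finsum_mem_eq_zero_of_forall_eq_zero
    intro χ hχ
    rw [hzero χ hχ]
    ring
  have h1 : ∑ᶠ χ ∈ X, ((χ : G → ℂ) x + (χ : G → ℂ) x') ^ 2 * (conj ((χ : G → ℂ) y) / (χ : G → ℂ) 1) =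
      4 * ∑ᶠ η ∈ X, conj ((η : G → ℂ) y) / (η : G → ℂ) 1 := by
    rw [mul_finsum_mem]
    apply finsum_mem_congr rfl
    intro η hη
    rw [hvX η hη, mul_pow, hv2 η hη]
    ring
  have h2 : ∑ᶠ χ ∈ Y, ((χ : G → ℂ) x + (χ : G → ℂ) x') ^ 2 * (conj ((χ : G → ℂ) y) / (χ : G → ℂ) 1) =
      ∑ᶠ ξ ∈ Y, conj ((ξ : G → ℂ) y) / (ξ : G → ℂ) 1 := by
    apply finsum_mem_congr rfl
    intro ξ hξ
    rw [hY ξ hξ, neg_sq, hε2, one_mul]
  rw [h1, h2, h3, add_zero]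

end Cfsg.Agent.Lib.Helper15.BRVIESIDE
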