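/-
helper15: S4700 + S0996 (planner helper27, `notes/S4700_S_leaves.lean` v2), leaf BRW-DEGEN `no_degenerate`:
when `f = p - 1` no `η ∈ X` of sign `-1` has degree `(p-1)(1+np) = |G : C_G(P)|`.
`Y = {ξ}`; `ε ξ(1) = ∑_{η' ∈ X} v η' · η'(1)`; `X ∋ 1_G, η` and `p - 3` others, each with `v η' · η'(1) ≤ 1 + n p`;
so the right side is `≤ 1 - (p-1)(1+np) + (p-3)(1+np) = 1 - 2(1+np)`, the left side is `≥ -(1+np)`.
-/
import Mathlib
import Cfsg.Prelude.Def_BlockRank
import Cfsg.Agent.Lib.Helper6.BRHDefs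

set_option autoImplicit false

namespace Cfsg.Agent.Lib.Helper15.BRWDEGEN

open Cfsg Cfsg.Agent.Lib.Helper8.DOM Cfsg.Agent.Lib.Helper27.DO Cfsg.Agent.CharLib
open Cfsg.Agent.Lib.Helper6.BRH
open scoped ComplexConjugate

universe u

variable {G : Type u} [Group G] [Finite G] {p : ℕ} [Fact p.Prime]

/-- elements of `P \ 1` have order `p` -/
theorem orderOf_eq_of_mem (P : Subgroup G) (hP : Nat.card P = p) (x : G) (hx : x ∈ P) (hx1 : x ≠ 1) :
    orderOf x = p := by
  have hpp : p.Prime := Fact.out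
  have h1 : orderOf (⟨x, hx⟩ : P) ∣ p := hP ▸ orderOf_dvd_natCard (⟨x, hx⟩ : P)
  rw [Subgroup.orderOf_mk] at h1
  rcases (Nat.dvd_prime hpp).mp h1 with h | h
  · exact absurd (orderOf_eq_one_iff.mp h) hx1
  · exact h

/-- `x y` is `p`-singular for `x ∈ P \ 1`, `y ∈ C_G(P)` `p`-regular -/
theorem dvd_orderOf_mul (P : Subgroup G) (hP : Nat.card P = p) (x : G) (hx : x ∈ P) (hx1 : x ≠ 1)
    (y : G) (hy : y ∈ Cz P) (hyreg : ¬ p ∣ orderOf y) : p ∣ orderOf (x * y) := by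
  have hpp : p.Prime := Fact.out
  have hcomm : Commute x y := (Subgroup.mem_centralizer_iff.mp hy x hx)
  have hco : (orderOf x).Coprime (orderOf y) := by
    rw [orderOf_eq_of_mem P hP x hx hx1]; exact (Nat.Prime.coprime_iff_not_dvd hpp).mpr hyreg
  rw [hcomm.orderOf_mul_eq_mul_orderOf_of_coprime hco, orderOf_eq_of_mem P hP x hx hx1]
  exact dvd_mul_right _ _

/-- there is a non-trivial element in `P` -/
theorem exists_ne_one (P : Subgroup G) (hP : Nat.card P = p) : ∃ x ∈ P, x ≠ 1 := by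
  have hpp : p.Prime := Fact.out
  have h1 : 1 < Nat.card P := hP ▸ hpp.one_lt
  have : Nontrivial P := (Finite.one_lt_card_iff_nontrivial).mp h1
  obtain ⟨x, hx⟩ := exists_ne (1 : P)
  exact ⟨x, x.2, fun h => hx (Subtype.ext h)⟩

/-- DEGEN : when `f = p - 1` no `η ∈ X` of sign `-1` has degree `(p-1)(1+np) = |G : C_G(P)|`. -/
theorem no_degenerate (P : Subgroup G) (hP : Nat.card P = p) (n : ℕ) (hn : 1 ≤ n)
    (hidx : (Nz P).index = 1 + n * p) (hfeq : (Cz P).relIndex (Nz P) = p - 1)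
    (hf2 : 2 ≤ (Cz P).relIndex (Nz P))
    (X Y : Set (IrrCharacter G)) (v : IrrCharacter G → ℤ) (ε : ℤ) (d : B0 p P X Y v ε)
    (hfrob : ∀ χ : IrrCharacter G,
      (∀ x ∈ P, x ≠ 1 → ∀ y ∈ Cz P, ¬ p ∣ orderOf y → (χ : G → ℂ) (x * y) = 1) →
      charDegree (χ : G → ℂ) ≤ (Nz P).index)
    (η : IrrCharacter G) (hη : η ∈ X) (hv : v η = -1)
    (hdeg : charDegree (η : G → ℂ) = (p - 1) * (1 + n * p)) : False := by
  classical
  have hpp : p.Prime := Fact.out
  have hp3 : 3 ≤ p := by omega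
  have hXfin : X.Finite := Set.toFinite X
  have hYfin : Y.Finite := Set.toFinite Y
  -- a `p`-singular element
  obtain ⟨x0, hx0, hx01⟩ := exists_ne_one P hP
  have hx0s : p ∣ orderOf x0 := by rw [orderOf_eq_of_mem P hP x0 hx0 hx01]
  -- `Y = {ξ}`
  have hcY : Nat.card Y = 1 := by
    rw [d.cardY, hfeq]
    exact Nat.div_self (by omega)
  obtain ⟨ξ, hYξ⟩ : ∃ ξ, Y = {ξ} := by
    have := (Nat.card_eq_one_iff_exists.mp hcY)
    obtain ⟨a, ha⟩ := this
    refine ⟨a.1, Set.eq_singleton_iff_unique_mem.mpr ⟨a.2, fun b hb => ?_⟩⟩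
    have := ha ⟨b, hb⟩
    exact congrArg Subtype.val this
  have hξY : ξ ∈ Y := by rw [hYξ]; exact Set.mem_singleton ξ
  -- the sign of the trivial character
  have hv1 : v (trivIrr G) = 1 := by
    have h := d.valX (trivIrr G) d.trivX x0 hx0s
    have h1 : ((trivIrr G : IrrCharacter G) : G → ℂ) x0 = 1 := rfl
    rw [h1] at h
    exact_mod_cast h.symm
  have hne : trivIrr G ≠ η := by
    intro h
    rw [← h, hv1] at hv
    norm_num at hv
  have hdeg1 : charDegree ((trivIrr G : IrrCharacter G) : G → ℂ) = 1 := by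
    apply charDegree_eq_of_apply_one
    have h1 : ((trivIrr G : IrrCharacter G) : G → ℂ) 1 = 1 := rfl
    rw [h1]; norm_num
  -- every term is `≤ 1 + n p`
  have hterm : ∀ η' ∈ X, v η' * (charDegree (η' : G → ℂ) : ℤ) ≤ ((1 + n * p : ℕ) : ℤ) := by
    intro η' hη'
    rcases d.sgnX η' hη' with h | h
    · rw [h, one_mul]
      have := hfrob η' (fun x hx hx1 y hy hyr => by
        rw [d.valX η' hη' (x * y) (dvd_orderOf_mul P hP x hx hx1 y hy hyr), h]; norm_num)
      rw [hidx] at this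
      exact_mod_cast this
    · rw [h]
      have : (0 : ℤ) ≤ (charDegree (η' : G → ℂ) : ℤ) := Int.natCast_nonneg _
      have h2 : (0 : ℤ) ≤ ((1 + n * p : ℕ) : ℤ) := Int.natCast_nonneg _
      linarith
  -- the left side
  have hleft : -((1 + n * p : ℕ) : ℤ) ≤ ε * (charDegree (ξ : G → ℂ) : ℤ) := by
    rcases d.sgn with h | h
    · rw [h, one_mul]
      have : (0 : ℤ) ≤ (charDegree (ξ : G → ℂ) : ℤ) := Int.natCast_nonneg _
      have h2 : (0 : ℤ) ≤ ((1 + n * p : ℕ) : ℤ) := Int.natCast_nonneg _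
      linarith
    · rw [h]
      have hξ1 : ∀ g : G, p ∣ orderOf g → (ξ : G → ℂ) g = 1 := by
        intro g hg
        have := d.sumY g hg
        rw [hYξ, finsum_mem_singleton, h] at this
        rw [this]; norm_num
      have := hfrob ξ (fun x hx hx1 y hy hyr => hξ1 _ (dvd_orderOf_mul P hP x hx hx1 y hy hyr))
      rw [hidx] at this
      have h3 : ((charDegree (ξ : G → ℂ) : ℕ) : ℤ) ≤ ((1 + n * p : ℕ) : ℤ) := by exact_mod_cast this
      linarith
  -- the right side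
  have hsum := d.degY ξ hξY
  rw [finsum_mem_eq_finite_toFinset_sum _ hXfin] at hsum
  set XF := hXfin.toFinset with hXF
  have hcXF : XF.card = p - 1 := by
    rw [← Nat.card_eq_card_finite_toFinset hXfin, d.cardX, hfeq]
  have h1mem : trivIrr G ∈ XF := hXfin.mem_toFinset.mpr d.trivX
  have hηmem : η ∈ XF.erase (trivIrr G) := Finset.mem_erase.mpr ⟨hne.symm, hXfin.mem_toFinset.mpr hη⟩
  rw [← Finset.add_sum_erase XF _ h1mem, ← Finset.add_sum_erase (XF.erase (trivIrr G)) _ hηmem, hv1, hv,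
    hdeg1, hdeg] at hsum
  have hcard : ((XF.erase (trivIrr G)).erase η).card = p - 3 := by
    rw [Finset.card_erase_of_mem hηmem, Finset.card_erase_of_mem h1mem, hcXF]
    omega
  have hrest : ∑ i ∈ (XF.erase (trivIrr G)).erase η, v i * (charDegree (i : G → ℂ) : ℤ) ≤
      ((p - 3 : ℕ) : ℤ) * ((1 + n * p : ℕ) : ℤ) := by
    have := Finset.sum_le_card_nsmul ((XF.erase (trivIrr G)).erase η)
      (fun i => v i * (charDegree (i : G → ℂ) : ℤ)) ((1 + n * p : ℕ) : ℤ) (fun i hi => by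
        have hiX : i ∈ X := hXfin.mem_toFinset.mp (Finset.mem_of_mem_erase (Finset.mem_of_mem_erase hi))
        exact hterm i hiX)
    rw [hcard, nsmul_eq_mul] at this
    exact this
  -- arithmetic
  have hnp : 1 ≤ n * p := Nat.mul_pos hn hpp.pos
  have hp3' : ((p - 3 : ℕ) : ℤ) = (p : ℤ) - 3 := by
    rw [Nat.cast_sub hp3]; norm_num
  have hp1' : ((p - 1 : ℕ) : ℤ) = (p : ℤ) - 1 := by
    rw [Nat.cast_sub (by omega)]; norm_num
  rw [hp3'] at hrest
  push_cast at hsum hrest hleft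
  rw [hp1'] at hsum
  have hnp' : (1 : ℤ) ≤ (n : ℤ) * (p : ℤ) := by exact_mod_cast hnp
  nlinarith

end Cfsg.Agent.Lib.Helper15.BRWDEGEN
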