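/-
helper15: S4705 (planner helper6, `notes/S4705_leaves.lean`), leaf BS-INVOL `exists_invol`:
for `|N_G(P) : C_G(P)| = 2` there is a `p`-regular `w ∈ N \ C` inverting `P`, with `w² ∈ Z(G)` and `N = C ∪ wC`.
-/
import Mathlib
import Cfsg.Prelude.Def_BlockRank
import Cfsg.Agent.Lib.Helper6.BRHDefs
import Cfsg.Agent.Lib.Helper29.DOTI

set_option autoImplicit false

namespace Cfsg.Agent.Lib.Helper15.BSINVOL

open Cfsg Cfsg.Agent.Lib.Helper8.DOM Cfsg.Agent.Lib.Helper27.DO Cfsg.Agent.CharLib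
open Cfsg.Agent.Lib.Helper6.BRH
open scoped ComplexConjugate

universe u

variable {G : Type u} [Group G] [Finite G] {p : ℕ} [Fact p.Prime]

/-- elements of `P \ 1` have order `p` -/
theorem orderOf_eq_of_mem' (P : Subgroup G) (hP : Nat.card P = p) (x : G) (hx : x ∈ P) (hx1 : x ≠ 1) :
    orderOf x = p := by
  have hpp : p.Prime := Fact.out
  have h1 : orderOf (⟨x, hx⟩ : P) ∣ p := hP ▸ orderOf_dvd_natCard (⟨x, hx⟩ : P)
  rw [Subgroup.orderOf_mk] at h1
  rcases (Nat.dvd_prime hpp).mp h1 with h | h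
  · exact absurd (orderOf_eq_one_iff.mp h) hx1
  · exact h

/-- there is a non-trivial element in `P` -/
theorem exists_ne_one' (P : Subgroup G) (hP : Nat.card P = p) : ∃ x ∈ P, x ≠ 1 := by
  have hpp : p.Prime := Fact.out
  have h1 : 1 < Nat.card P := hP ▸ hpp.one_lt
  have : Nontrivial P := (Finite.one_lt_card_iff_nontrivial).mp h1
  obtain ⟨x, hx⟩ := exists_ne (1 : P)
  exact ⟨x, x.2, fun h => hx (Subtype.ext h)⟩

/-- in a relative index-two situation membership is multiplicative -/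
theorem mul_mem_iff_of_relIndex_two {C N : Subgroup G} (h : C.relIndex N = 2) {a b : G} (ha : a ∈ N)
    (hb : b ∈ N) : a * b ∈ C ↔ (a ∈ C ↔ b ∈ C) := by
  have h2 : (C.subgroupOf N).index = 2 := h
  have := Subgroup.mul_mem_iff_of_index_two h2 (a := (⟨a, ha⟩ : N)) (b := (⟨b, hb⟩ : N))
  simpa [Subgroup.mem_subgroupOf] using this

/-- BS-INVOL : an element of `N_G(P) \ C_G(P)`. -/
theorem exists_invol (hp2 : p ≠ 2) (P : Subgroup G) (hP : Nat.card P = p) (hSyl : ¬ p ∣ P.index)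
    (hnn : ¬ P.Normal) (hf : (Cz P).relIndex (Nz P) = 2)
    (hV : ∀ y ∈ Cz P, ¬ p ∣ orderOf y → y ∈ Subgroup.center G) :
    ∃ w : G, w ∈ Nz P ∧ w ∉ Cz P ∧ (∀ x ∈ P, w * x * w⁻¹ = x⁻¹) ∧ w * w ∈ Subgroup.center G ∧
      ¬ p ∣ orderOf w ∧ (∀ n ∈ Nz P, n ∈ Cz P ∨ w⁻¹ * n ∈ Cz P) := by
  classical
  have hpp : p.Prime := Fact.out
  have key : ∀ {a b : G}, a ∈ Nz P → b ∈ Nz P → (a * b ∈ Cz P ↔ (a ∈ Cz P ↔ b ∈ Cz P)) :=
    fun ha hb => mul_mem_iff_of_relIndex_two hf ha hb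
  -- an element of `N \ C`
  have hnle : ¬ Nz P ≤ Cz P := by
    intro hle
    have := (Subgroup.relIndex_eq_one (H := Cz P) (K := Nz P)).mpr hle
    rw [hf] at this
    exact absurd this (by norm_num)
  obtain ⟨w0, hw0N, hw0C⟩ := SetLike.not_le_iff_exists.mp hnle
  -- odd powers of `w0` stay in `N \ C`
  have hsq : w0 * w0 ∈ Cz P := (key hw0N hw0N).mpr Iff.rfl
  have hodd : ∀ m : ℕ, Odd m → w0 ^ m ∉ Cz P := by
    rintro m ⟨j, rfl⟩
    have h1 : w0 ^ (2 * j + 1) = (w0 * w0) ^ j * w0 := by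
      rw [pow_succ, pow_mul, pow_two]
    rw [h1, key ((Nz P).pow_mem ((Nz P).mul_mem hw0N hw0N) j) hw0N]
    intro h
    exact hw0C (h.mp ((Cz P).pow_mem hsq j))
  -- the `p`-regular part
  set k := (orderOf w0).factorization p with hk
  have ho0 : orderOf w0 ≠ 0 := (orderOf_pos w0).ne'
  set w := w0 ^ (p ^ k) with hw
  have hwN : w ∈ Nz P := (Nz P).pow_mem hw0N _
  have hwC : w ∉ Cz P := hodd _ (Odd.pow (hpp.odd_of_ne_two hp2))
  have hwreg : ¬ p ∣ orderOf w := by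
    rw [hw, orderOf_pow_of_dvd (pow_ne_zero _ hpp.ne_zero) (Nat.ordProj_dvd _ _)]
    exact Nat.not_dvd_ordCompl hpp ho0
  have hwsq : w * w ∈ Cz P := (key hwN hwN).mpr Iff.rfl
  -- `w` inverts `P`
  obtain ⟨x0, hx0, hx01⟩ := exists_ne_one' P hP
  have hox0 : orderOf x0 = p := orderOf_eq_of_mem' P hP x0 hx0 hx01
  have hconjP : ∀ x ∈ P, w * x * w⁻¹ ∈ P := by
    intro x hx
    exact (Subgroup.mem_normalizer_iff.mp hwN x).mp hx
  obtain ⟨j, hj⟩ := Cfsg.Agent.Lib.Helper29.DOTI.exists_pow_eq_of_mem P hP hx0 hx01 (hconjP x0 hx0)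
  -- conjugation by `w` is `x ↦ x ^ j` on powers of `x0`
  have hconj_zpow : ∀ i : ℤ, w * x0 ^ i * w⁻¹ = (x0 ^ j) ^ i := by
    intro i
    rw [hj]
    have := (MulAut.conj w).toMonoidHom.map_zpow x0 i
    simpa using this
  have hww : (w * w) * x0 * (w * w)⁻¹ = x0 := by
    have := Subgroup.mem_centralizer_iff.mp hwsq x0 hx0
    rw [← this]; group
  have hjj : x0 ^ (j * j) = x0 := by
    have h1 : (w * w) * x0 * (w * w)⁻¹ = w * (w * x0 * w⁻¹) * w⁻¹ := by group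
    rw [h1, ← hj, hconj_zpow j, ← zpow_mul] at hww
    exact hww
  have hdvd : (p : ℤ) ∣ j * j - 1 := by
    have h1 : x0 ^ (j * j - 1) = 1 := by
      rw [zpow_sub, zpow_one, hjj, mul_inv_cancel]
    have := (orderOf_dvd_iff_zpow_eq_one (x := x0)).mpr h1
    rwa [hox0] at this
  have hfac : j * j - 1 = (j - 1) * (j + 1) := by ring
  rw [hfac] at hdvd
  have hpZ : Prime (p : ℤ) := Nat.prime_iff_prime_int.mp hpp
  have hjm : x0 ^ j = x0⁻¹ := by
    rcases hpZ.dvd_or_dvd hdvd with h | h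
    · -- `j ≡ 1`: then `w` centralizes `P`
      exfalso
      have h1 : x0 ^ (j - 1) = 1 := by
        have := (orderOf_dvd_iff_zpow_eq_one (x := x0) (i := j - 1)).mp (by rw [hox0]; exact h)
        exact this
      have hjx : x0 ^ j = x0 := by
        have : x0 ^ j = x0 ^ (j - 1) * x0 := by rw [← zpow_add_one]; congr 1; ring
        rw [this, h1, one_mul]
      apply hwC
      rw [Subgroup.mem_centralizer_iff]
      intro y hy
      obtain ⟨i, rfl⟩ := Cfsg.Agent.Lib.Helper29.DOTI.exists_pow_eq_of_mem P hP hx0 hx01 hy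
      have := hconj_zpow i
      rw [hjx] at this
      calc x0 ^ i * w = (w * x0 ^ i * w⁻¹) * w := by rw [this]
        _ = w * x0 ^ i := by group
    · have h1 : x0 ^ (j + 1) = 1 :=
        (orderOf_dvd_iff_zpow_eq_one (x := x0) (i := j + 1)).mp (by rw [hox0]; exact h)
      have : x0 ^ j * x0 = 1 := by rw [← zpow_add_one]; exact h1
      exact eq_inv_of_mul_eq_one_left this
  have hinv : ∀ x ∈ P, w * x * w⁻¹ = x⁻¹ := by
    intro x hx
    obtain ⟨i, rfl⟩ := Cfsg.Agent.Lib.Helper29.DOTI.exists_pow_eq_of_mem P hP hx0 hx01 hx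
    rw [hconj_zpow i, hjm, inv_zpow]
  -- `w²` is central
  have hwwreg : ¬ p ∣ orderOf (w * w) := by
    intro h
    apply hwreg
    have : orderOf (w * w) ∣ orderOf w := by
      rw [← pow_two]; exact orderOf_pow_dvd 2
    exact dvd_trans h this
  refine ⟨w, hwN, hwC, hinv, hV _ hwsq hwwreg, hwreg, ?_⟩
  intro n hn
  by_cases hnC : n ∈ Cz P
  · exact Or.inl hnC
  · right
    have hwi : w⁻¹ ∈ Nz P := (Nz P).inv_mem hwN
    rw [key hwi hn]
    constructor
    · intro h; exact absurd ((Cz P).inv_mem_iff.mp h) hwC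
    · intro h; exact absurd h hnC

end Cfsg.Agent.Lib.Helper15.BSINVOL
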