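import Mathlib

/-!
helper15: leaf ARITH `arith` (pure number theory) of helper1's S3282 batch-2 market (`notes/S3282_leaves2.lean`).
`k ≥ 4` even, `x = b k + ε ≥ 1`, `j` odd and `2 k j (x - ε)² = 4 k³ x (x + ε)` force `b = 2`.
-/

set_option autoImplicit false

namespace Cfsg.Agent.Lib.Helper15.BSWCARITH

/-- **ARITH** -/
theorem arith (k j b x ε : ℤ) (hk : 4 ≤ k) (hk2 : Even k) (hj : Odd j) (hε : ε = 1 ∨ ε = -1)
    (hx : x = b * k + ε) (hx1 : 1 ≤ x)
    (heq : 2 * k * j * (x - ε) ^ 2 = 4 * k ^ 3 * x * (x + ε)) : b = 2 := by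
  have hk0 : (2 * k ^ 3 : ℤ) ≠ 0 := by positivity
  -- `j b² = 2 x (x + ε)`
  have h1 : j * b ^ 2 = 2 * x * (x + ε) := by
    apply mul_left_cancel₀ hk0
    have hxe : x - ε = b * k := by rw [hx]; ring
    rw [hxe] at heq
    linear_combination heq
  -- `b` is coprime to `x`
  have hcop : IsCoprime b x := by
    rcases hε with he | he
    · exact ⟨-k, 1, by rw [hx, he]; ring⟩
    · exact ⟨k, -1, by rw [hx, he]; ring⟩
  have hd1 : b ∣ x * (2 * (x + ε)) := ⟨j * b, by linear_combination -h1⟩
  have hd2 : b ∣ 2 * (x + ε) := hcop.dvd_of_dvd_mul_left hd1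
  have hd3 : b ∣ 4 := by
    have e : (2 * (x + ε) : ℤ) = b * (2 * k) + 4 * ε := by rw [hx]; ring
    rw [e] at hd2
    have hd4 : b ∣ 4 * ε := (Int.dvd_add_right (Dvd.intro _ rfl)).mp hd2
    rcases hε with he | he
    · rw [he, mul_one] at hd4; exact hd4
    · rw [he] at hd4
      have : (4 * (-1) : ℤ) = -4 := by norm_num
      rw [this] at hd4
      exact (Int.dvd_neg).mp hd4
  have hb0 : b ≠ 0 := by
    intro h0
    rw [h0] at hd3
    norm_num at hd3
  have hble : b ≤ 4 := Int.le_of_dvd (by norm_num) hd3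
  have hbge : -4 ≤ b := by
    have : -b ∣ 4 := (Int.neg_dvd).mpr hd3
    have := Int.le_of_dvd (by norm_num) this
    omega
  -- negative `b` gives `x < 1`
  have hbpos : 0 < b := by
    by_contra hneg
    have hb1 : b ≤ -1 := by omega
    have : b * k ≤ -1 * k := Int.mul_le_mul_of_nonneg_right hb1 (by omega)
    rcases hε with he | he <;> omega
  interval_cases b
  · -- b = 1
    exfalso
    have : Even j := ⟨x * (x + ε), by linear_combination h1⟩
    exact (Int.not_even_iff_odd.mpr hj) this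
  · rfl
  · exfalso; norm_num at hd3
  · -- b = 4
    exfalso
    obtain ⟨c, hc⟩ := hk2
    rcases hε with he | he
    · rw [hx, he, hc] at h1
      have h3 : 16 * j = 8 * (16 * (c * c) + 6 * c) + 4 := by linear_combination h1
      generalize c * c = C2 at h3
      omega
    · rw [hx, he, hc] at h1
      have h3 : 16 * j = 8 * (16 * (c * c) - 6 * c) + 4 := by linear_combination h1
      generalize c * c = C2 at h3
      omega

end Cfsg.Agent.Lib.Helper15.BSWCARITH
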