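/-
S3282 batch 2, sub-leaf LAT-G `lat_good` of helper9's split of LAT `lattice_main`
(notes/S3282_LAT_leaves.lean): the good case of the integer-lattice argument (all rows share the signed
constituent `ε X`): signs, degrees and `y₁ = y₂` from the degree + test equations.  Pure integers.
-/
import Mathlib

set_option autoImplicit false

namespace Cfsg.Agent.Lib.Helper15.BSWCLATG

variable {B I : Type*} [Fintype B] [DecidableEq B] [Fintype I] [DecidableEq I]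

/-- evaluation of a sum against a 3-term indicator row -/
theorem sum_row3 {R : Type*} [CommRing R] (t X b : B) (ε φ : R) (F : B → R) :
    ∑ χ, ((if χ = t then 1 else 0) + (if χ = X then ε else 0) + (if χ = b then φ else 0)) * F χ
      = F t + ε * F X + φ * F b := by
  simp [add_mul, Finset.sum_add_distrib, ite_mul, Finset.sum_ite_eq']

/-- evaluation of a sum against a 4-term indicator row -/
theorem sum_row4 {R : Type*} [CommRing R] (t X Y₁ Y₂ : B) (ε e₂ e₃ : R) (F : B → R) :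
    ∑ χ, ((if χ = t then 1 else 0) + (if χ = X then ε else 0) + (if χ = Y₁ then e₂ else 0)
        + (if χ = Y₂ then e₃ else 0)) * F χ
      = F t + ε * F X + e₂ * F Y₁ + e₃ * F Y₂ := by
  simp [add_mul, Finset.sum_add_distrib, ite_mul, Finset.sum_ite_eq']

/-- the final arithmetic -/
theorem arith_core (ε e₂ e₃ x y₁ y₂ : ℤ) (hε : ε = 1 ∨ ε = -1) (he₂ : e₂ = 1 ∨ e₂ = -1)
    (he₃ : e₃ = 1 ∨ e₃ = -1) (hy₁ : 0 < y₁) (hy₂ : 0 < y₂) (hs : 0 < x + ε)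
    (hdeg : 1 + ε * x + e₂ * y₁ + e₃ * y₂ = 0)
    (htest : -(ε : ℚ) * (4 / ((x : ℚ) + ε)) = (e₂ : ℚ) * (1 / y₁) + (e₃ : ℚ) * (1 / y₂)) :
    e₂ = -ε ∧ e₃ = -ε ∧ y₁ = y₂ ∧ 2 * y₁ = x + ε := by
  have hy₁' : (y₁ : ℚ) ≠ 0 := by exact_mod_cast hy₁.ne'
  have hy₂' : (y₂ : ℚ) ≠ 0 := by exact_mod_cast hy₂.ne'
  have hs' : ((x : ℚ) + ε) ≠ 0 := by exact_mod_cast hs.ne'
  have ht : -ε * 4 * y₁ * y₂ = (e₂ * y₂ + e₃ * y₁) * (x + ε) := by
    have : -(ε : ℚ) * 4 * y₁ * y₂ = (e₂ * y₂ + e₃ * y₁) * ((x : ℚ) + ε) := by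
      field_simp at htest
      linarith
    exact_mod_cast this
  have hp := mul_pos hy₁ hy₂
  have hss := mul_pos hs hs
  rcases hε with rfl | rfl <;> rcases he₂ with rfl | rfl <;> rcases he₃ with rfl | rfl
  · exfalso; linarith
  · exfalso; nlinarith
  · exfalso; nlinarith
  · have h1 : y₁ + y₂ = x + 1 := by linarith
    have h2 : (y₁ - y₂) ^ 2 = 0 := by nlinarith
    have h3 : y₁ = y₂ := by
      have := pow_eq_zero_iff (two_ne_zero) |>.1 h2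
      linarith
    refine ⟨rfl, rfl, h3, by linarith⟩
  · have h1 : y₁ + y₂ = x + -1 := by linarith
    have h2 : (y₁ - y₂) ^ 2 = 0 := by nlinarith
    have h3 : y₁ = y₂ := by
      have := pow_eq_zero_iff (two_ne_zero) |>.1 h2
      linarith
    refine ⟨by norm_num, by norm_num, h3, by linarith⟩
  · exfalso; nlinarith
  · exfalso; nlinarith
  · exfalso; linarith


/-- **LAT-G** (the good case: all `m i`, `i ≠ ν`, and `m ν` share the signed constituent `ε X`). -/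
theorem lat_good (inv : I → I) (hinv : ∀ i, inv (inv i) = i) (ν : I) (hν : ∀ i, inv i = i ↔ i = ν)
    (hI : ∃ i, i ≠ ν) (m : I → B → ℤ) (triv : B)
    (f : B → ℤ) (hf : ∀ χ, 0 < f χ) (hftriv : f triv = 1) (hdeg : ∀ i, ∑ χ, m i χ * f χ = 0)
    (σ : I → ℤ) (hσ : ∀ i, σ i = 1 ∨ σ i = -1) (hσinv : ∀ i, σ (inv i) = σ i)
    (hσsum : ∑ i, σ i = -1)
    (htest : ∀ i j, ∑ χ, (m i χ : ℚ) * ((∑ l, m l χ * σ l : ℤ) : ℚ) ^ 2 / (f χ : ℚ) =
      ∑ χ, (m j χ : ℚ) * ((∑ l, m l χ * σ l : ℤ) : ℚ) ^ 2 / (f χ : ℚ))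
    (ε e₂ e₃ : ℤ) (hε : ε = 1 ∨ ε = -1) (he₂ : e₂ = 1 ∨ e₂ = -1) (he₃ : e₃ = 1 ∨ e₃ = -1)
    (X Y₁ Y₂ : B) (hX : X ≠ triv) (hY₁ : Y₁ ≠ triv) (hY₂ : Y₂ ≠ triv) (hY₁X : Y₁ ≠ X)
    (hY₂X : Y₂ ≠ X) (hY : Y₁ ≠ Y₂)
    (hmν : ∀ χ, m ν χ = (if χ = triv then 1 else 0) + (if χ = X then ε else 0)
        + (if χ = Y₁ then e₂ else 0) + (if χ = Y₂ then e₃ else 0))
    (b : I → B) (fs : I → ℤ)
    (hb : ∀ i, i ≠ ν → (fs i = 1 ∨ fs i = -1) ∧ b i ≠ triv ∧ b i ≠ X ∧ b i ≠ Y₁ ∧ b i ≠ Y₂ ∧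
        ∀ χ, m i χ = (if χ = triv then 1 else 0) + (if χ = X then ε else 0)
          + (if χ = b i then fs i else 0))
    (hbb : ∀ i j, i ≠ ν → j ≠ ν → (b i = b j ↔ j = i ∨ j = inv i)) :
    ∃ (ε : ℤ) (X : B) (L : I → B) (Y₁ Y₂ : B), (ε = 1 ∨ ε = -1) ∧
      (∀ i, i ≠ ν → ∀ χ, m i χ = (if χ = triv then 1 else 0) + (if χ = X then ε else 0)
        - (if χ = L i then ε else 0)) ∧
      (∀ χ, m ν χ = (if χ = triv then 1 else 0) + (if χ = X then ε else 0)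
        - (if χ = Y₁ then ε else 0) - (if χ = Y₂ then ε else 0)) ∧
      X ≠ triv ∧ Y₁ ≠ Y₂ ∧ Y₁ ≠ triv ∧ Y₂ ≠ triv ∧ Y₁ ≠ X ∧ Y₂ ≠ X ∧
      (∀ i, i ≠ ν → L i ≠ triv ∧ L i ≠ X ∧ L i ≠ Y₁ ∧ L i ≠ Y₂) ∧
      (∀ i j, i ≠ ν → j ≠ ν → (L i = L j ↔ j = i ∨ j = inv i)) ∧
      (∀ i, i ≠ ν → f (L i) = f X + ε) ∧ f Y₁ = f Y₂ ∧ 2 * f Y₁ = f X + ε := by
  obtain ⟨i₀, hi₀⟩ := hI
  have hεsq : ε * ε = 1 := by rcases hε with h | h <;> rw [h] <;> norm_num
  have hσsq : ∀ i, σ i * σ i = 1 := by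
    intro i; rcases hσ i with h | h <;> rw [h] <;> norm_num
  have hinvν : ∀ i, i ≠ ν → inv i ≠ ν := by
    intro i hi h
    apply hi
    have h1 := hinv i
    rw [h, (hν ν).2 rfl] at h1
    exact h1.symm
  have hinvne : ∀ i, i ≠ ν → inv i ≠ i := fun i hi h => hi ((hν i).1 h)
  -- degree equation for `i ≠ ν`
  have hdegi : ∀ i, i ≠ ν → 1 + ε * f X + fs i * f (b i) = 0 := by
    intro i hi
    obtain ⟨_, _, _, _, _, hm⟩ := hb i hi
    have h1 := hdeg i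
    simp only [hm] at h1
    rw [sum_row3, hftriv] at h1
    exact h1
  have hfs : ∀ i, i ≠ ν → fs i = -ε ∧ f (b i) = f X + ε := by
    intro i hi
    have h1 := hdegi i hi
    have hx := hf X
    have hbi := hf (b i)
    rcases (hb i hi).1 with h | h <;> rcases hε with h' | h' <;> rw [h, h'] at h1 <;> rw [h, h']
    · exfalso; linarith
    · exact ⟨by norm_num, by linarith⟩
    · exact ⟨by norm_num, by linarith⟩
    · exfalso; linarith
  have hs : 0 < f X + ε := by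
    rw [← (hfs i₀ hi₀).2]; exact hf _
  -- the rows at special points
  have hmt : ∀ l, m l triv = 1 := by
    intro l
    by_cases hl : l = ν
    · subst hl; rw [hmν]; simp [hX.symm, hY₁.symm, hY₂.symm]
    · obtain ⟨_, h2, h3, _, _, hm⟩ := hb l hl
      rw [hm]; simp [hX.symm, h2.symm]
  have hmX : ∀ l, m l X = ε := by
    intro l
    by_cases hl : l = ν
    · subst hl; rw [hmν]; simp [hX, hY₁X.symm, hY₂X.symm]
    · obtain ⟨_, h2, h3, _, _, hm⟩ := hb l hl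
      rw [hm]; simp [hX, h3.symm]
  have hmY₁ : ∀ l, m l Y₁ = if l = ν then e₂ else 0 := by
    intro l
    by_cases hl : l = ν
    · subst hl; rw [hmν]; simp [hY₁, hY₁X, hY]
    · obtain ⟨_, h2, h3, h4, h5, hm⟩ := hb l hl
      rw [hm]; simp [hY₁, hY₁X, h4.symm, hl]
  have hmY₂ : ∀ l, m l Y₂ = if l = ν then e₃ else 0 := by
    intro l
    by_cases hl : l = ν
    · subst hl; rw [hmν]; simp [hY₂, hY₂X, hY.symm]
    · obtain ⟨_, h2, h3, h4, h5, hm⟩ := hb l hl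
      rw [hm]; simp [hY₂, hY₂X, h5.symm, hl]
  have hmb : ∀ i, i ≠ ν → ∀ l, m l (b i) =
      (if l = i then -ε else 0) + (if l = inv i then -ε else 0) := by
    intro i hi l
    obtain ⟨_, h2, h3, h4, h5, _⟩ := hb i hi
    by_cases hl : l = ν
    · subst hl
      rw [hmν]
      have e1 : l ≠ i := fun h => hi h.symm
      have e2 : l ≠ inv i := fun h => hinvν i hi h.symm
      simp [h2, h3, h4, h5, e1, e2]
    · obtain ⟨_, _, _, _, _, hm⟩ := hb l hl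
      rw [hm, (hfs l hl).1]
      have key := hbb i l hi hl
      by_cases h1 : l = i
      · have e2 : l ≠ inv i := fun h => hinvne i hi (h.symm.trans h1)
        have e3 : b i = b l := by rw [h1]
        rw [if_neg h2, if_neg h3, if_pos e3, if_pos h1, if_neg e2]; ring
      · by_cases h2' : l = inv i
        · have e3 : b i = b l := key.2 (Or.inr h2')
          rw [if_neg h2, if_neg h3, if_pos e3, if_neg h1, if_pos h2']; ring
        · have e3 : b i ≠ b l := fun h => by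
            rcases key.1 h with h | h
            · exact h1 h
            · exact h2' h
          rw [if_neg h2, if_neg h3, if_neg e3, if_neg h1, if_neg h2']; ring
  -- the values `val χ`
  have hvt : ∑ l, m l triv * σ l = -1 := by
    simp only [hmt, one_mul]; exact hσsum
  have hvX : ∑ l, m l X * σ l = -ε := by
    simp only [hmX]; rw [← Finset.mul_sum, hσsum]; ring
  have hvY₁ : ∑ l, m l Y₁ * σ l = e₂ * σ ν := by
    simp only [hmY₁]; simp [ite_mul, Finset.sum_ite_eq']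
  have hvY₂ : ∑ l, m l Y₂ * σ l = e₃ * σ ν := by
    simp only [hmY₂]; simp [ite_mul, Finset.sum_ite_eq']
  have hvb : ∀ i, i ≠ ν → ∑ l, m l (b i) * σ l = -2 * ε * σ i := by
    intro i hi
    simp only [hmb i hi]
    simp only [add_mul, Finset.sum_add_distrib, ite_mul, zero_mul, Finset.sum_ite_eq',
      Finset.mem_univ, if_true, hσinv]
    ring
  -- the test equation
  obtain ⟨V, hV⟩ : ∃ V : B → ℚ, ∀ χ, V χ = ((∑ l, m l χ * σ l : ℤ) : ℚ) ^ 2 / (f χ : ℚ) :=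
    ⟨_, fun _ => rfl⟩
  have htest' : ∀ i j, ∑ χ, (m i χ : ℚ) * V χ = ∑ χ, (m j χ : ℚ) * V χ := by
    intro i j
    simp only [hV]
    simpa only [mul_div_assoc] using htest i j
  have hεq : (ε : ℚ) * ε = 1 := by exact_mod_cast hεsq
  have hσq : ∀ i, (σ i : ℚ) * σ i = 1 := fun i => by exact_mod_cast hσsq i
  have he₂q : (e₂ : ℚ) * e₂ = 1 := by
    rcases he₂ with h | h <;> rw [h] <;> norm_num
  have he₃q : (e₃ : ℚ) * e₃ = 1 := by
    rcases he₃ with h | h <;> rw [h] <;> norm_num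
  have hVt : V triv = 1 := by
    rw [hV, hvt, hftriv]; norm_num
  have hVX : V X = 1 / (f X : ℚ) := by
    rw [hV, hvX]
    push_cast
    have : (-(ε : ℚ)) ^ 2 = (ε : ℚ) * ε := by ring
    rw [this, hεq]
  have hVb : V (b i₀) = 4 / ((f X : ℚ) + ε) := by
    rw [hV, hvb i₀ hi₀, (hfs i₀ hi₀).2]
    push_cast
    have : (-2 * (ε : ℚ) * σ i₀) ^ 2 = 4 * ((ε : ℚ) * ε) * ((σ i₀ : ℚ) * σ i₀) := by ring
    rw [this, hεq, hσq]; norm_num
  have hVY₁ : V Y₁ = 1 / (f Y₁ : ℚ) := by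
    rw [hV, hvY₁]
    push_cast
    have : ((e₂ : ℚ) * σ ν) ^ 2 = ((e₂ : ℚ) * e₂) * ((σ ν : ℚ) * σ ν) := by ring
    rw [this, he₂q, hσq]; norm_num
  have hVY₂ : V Y₂ = 1 / (f Y₂ : ℚ) := by
    rw [hV, hvY₂]
    push_cast
    have : ((e₃ : ℚ) * σ ν) ^ 2 = ((e₃ : ℚ) * e₃) * ((σ ν : ℚ) * σ ν) := by ring
    rw [this, he₃q, hσq]; norm_num
  have hTi : ∑ χ, (m i₀ χ : ℚ) * V χ =
      1 + (ε : ℚ) * (1 / (f X : ℚ)) + (-ε : ℚ) * (4 / ((f X : ℚ) + ε)) := by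
    obtain ⟨_, _, _, _, _, hm⟩ := hb i₀ hi₀
    simp only [hm]
    push_cast
    rw [sum_row3, hVt, hVX, hVb, (hfs i₀ hi₀).1]
    push_cast
    rfl
  have hTν : ∑ χ, (m ν χ : ℚ) * V χ =
      1 + (ε : ℚ) * (1 / (f X : ℚ)) + (e₂ : ℚ) * (1 / (f Y₁ : ℚ)) + (e₃ : ℚ) * (1 / (f Y₂ : ℚ)) := by
    simp only [hmν]
    push_cast
    rw [sum_row4, hVt, hVX, hVY₁, hVY₂]
  have hmain := htest' i₀ ν
  rw [hTi, hTν] at hmain
  have hcore := arith_core ε e₂ e₃ (f X) (f Y₁) (f Y₂) hε he₂ he₃ (hf _) (hf _) hs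
    (by
      have h1 := hdeg ν
      simp only [hmν] at h1
      rw [sum_row4, hftriv] at h1
      exact h1)
    (by linarith)
  obtain ⟨hc1, hc2, hc3, hc4⟩ := hcore
  refine ⟨ε, X, b, Y₁, Y₂, hε, ?_, ?_, hX, hY, hY₁, hY₂, hY₁X, hY₂X, ?_, hbb, ?_, hc3, hc4⟩
  · intro i hi χ
    obtain ⟨_, _, _, _, _, hm⟩ := hb i hi
    rw [hm, (hfs i hi).1]
    split_ifs <;> ring
  · intro χ
    rw [hmν, hc1, hc2]
    split_ifs <;> ring
  · intro i hi
    obtain ⟨_, h2, h3, h4, h5, _⟩ := hb i hi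
    exact ⟨h2, h3, h4, h5⟩
  · intro i hi
    exact (hfs i hi).2

end Cfsg.Agent.Lib.Helper15.BSWCLATG
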