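import Mathlib
import Cfsg.Prelude.Def_Characters
import Cfsg.Agent.Lib.Helper24.BSWDefs
import Cfsg.Agent.Lib.Helper15.BSWM1Of
import Cfsg.Agent.Lib.Helper2.BSWG2
import Cfsg.Agent.Lib.Helper2.BSWG4

/-!
helper15: leaf M1 `normalizer_D` of helper24's S3282 market, EXACT form (`BSWM1Of.normalizer_D_of` over helper2's landed
G2 `invCount_eq_card` and G4 `normalizer_struct`).
-/

set_option autoImplicit false
open Cfsg Cfsg.Agent.Lib.Helper24.BSW

namespace Cfsg.Agent.Lib.Helper15.BSWM1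

variable {G : Type*} [Group G] [Finite G]

/-- **M1** -/
theorem normalizer_D {t s : G} {K : Subgroup G} (h : Hyp t s K) (hk : 4 ≤ Nat.card K)
    {X : G → ℂ} (hM : DataM K X) :
    ∀ d ∈ RR K, ∀ u : G, orderOf u = 2 → u * d * u⁻¹ = d⁻¹ →
      Nat.card (Subgroup.centralizer ({d} : Set G)) = Nat.card K - 1 ∧
      Subgroup.normalizer ((Subgroup.centralizer ({d} : Set G) : Subgroup G) : Set G) =
        Subgroup.centralizer ({d} : Set G) ⊔ Subgroup.zpowers u :=
  Cfsg.Agent.Lib.Helper15.BSWM1Of.normalizer_D_of h hk hM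
    (Cfsg.Agent.Lib.Helper2.BSWG2.invCount_eq_card h)
    (Cfsg.Agent.Lib.Helper2.BSWG4.normalizer_struct h)

end Cfsg.Agent.Lib.Helper15.BSWM1
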