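import Mathlib
import Cfsg.Prelude.Def_Characters
import Cfsg.Agent.Lib.Helper24.BSWDefs
import Cfsg.Agent.Lib.Helper15.BSWM2Of
import Cfsg.Agent.Lib.Helper15.BSWM1
import Cfsg.Agent.Lib.Helper2.BSWG1
import Cfsg.Agent.Lib.Helper2.BSWG3

/-!
helper15: leaf M2 `last_clause_D` of helper24's S3282 market, EXACT form (`BSWM2Of.last_clause_D_of` over helper2's landed
G1 `inverts_centralizer`, G3 `centralizer_eq_of_mem` and my M1).
-/

set_option autoImplicit false
open Cfsg Cfsg.Agent.Lib.Helper24.BSW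

namespace Cfsg.Agent.Lib.Helper15.BSWM2

variable {G : Type*} [Group G] [Finite G]

/-- **M2** -/
theorem last_clause_D {t s : G} {K : Subgroup G} (h : Hyp t s K) (hk : 4 ≤ Nat.card K)
    {X : G → ℂ} (hM : DataM K X) :
    ∀ d ∈ RR K, ∀ u : G, orderOf u = 2 → u * d * u⁻¹ = d⁻¹ →
      ∀ Y : Subgroup G, Y ≤ Subgroup.centralizer ({d} : Set G) → Y ≠ ⊥ →
        Subgroup.normalizer (Y : Set G) =
          Subgroup.normalizer ((Subgroup.centralizer ({d} : Set G) : Subgroup G) : Set G) ∧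
        ∃ u' : G, orderOf u' = 2 ∧ u' ∉ Subgroup.centralizer ({d} : Set G) ∧
          (∀ c ∈ Subgroup.centralizer ({d} : Set G), u' * c * u'⁻¹ = c⁻¹) ∧
          Subgroup.normalizer ((Subgroup.centralizer ({d} : Set G) : Subgroup G) : Set G) =
            Subgroup.centralizer ({d} : Set G) ⊔ Subgroup.zpowers u' :=
  Cfsg.Agent.Lib.Helper15.BSWM2Of.last_clause_D_of h
    (Cfsg.Agent.Lib.Helper2.BSWG1.inverts_centralizer h)
    (Cfsg.Agent.Lib.Helper2.BSWG3.centralizer_eq_of_mem h)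
    (Cfsg.Agent.Lib.Helper15.BSWM1.normalizer_D h hk hM)

end Cfsg.Agent.Lib.Helper15.BSWM2
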