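import Mathlib
import Cfsg.Prelude.Def_Characters
import Cfsg.Agent.Lib.Helper24.BSWDefs
import Cfsg.Agent.Lib.Helper16.BSWT1Defs

/-!
helper15: sub-leaf TI (pure counting) of helper16's S3282-T1 sub-market (`notes/S3282_T1_leaves.lean`).
-/

set_option autoImplicit false
set_option linter.style.haveILetI false
open Cfsg Cfsg.Agent.Lib.Helper24.BSW Cfsg.Agent.Lib.Helper16.BSWT1

namespace Cfsg.Agent.Lib.Helper15.BSWT1TI

/-- fibrewise count of a relation. -/
theorem card_rel_eq_sum {α β : Type*} [Finite α] [Fintype β] (q : α → β → Prop) :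
    Nat.card {p : α × β // q p.1 p.2} = ∑ y : β, Nat.card {u : α // q u y} := by
  classical
  have e : {p : α × β // q p.1 p.2} ≃ Σ y : β, {u : α // q u y} :=
    { toFun := fun p => ⟨p.1.2, ⟨p.1.1, p.2⟩⟩
      invFun := fun s => ⟨(s.2.1, s.1), s.2.2⟩
      left_inv := fun p => by rcases p with ⟨⟨a, b⟩, hp⟩; rfl
      right_inv := fun s => by rcases s with ⟨b, ⟨a, ha⟩⟩; rfl }
  rw [Nat.card_congr e, Nat.card_sigma]

/-- **TI** (pure counting) -/
theorem card_pairs_two {α β : Type*} [Finite α] [Finite β] (S S1 S2 : Set β)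
    (r : α → β → Prop) (m1 m2 : ℕ) (h1 : S1 ⊆ S) (h2 : S2 ⊆ S) (hd : Disjoint S1 S2)
    (hm1 : ∀ y ∈ S1, Nat.card {u : α // r u y} = m1)
    (hm2 : ∀ y ∈ S2, Nat.card {u : α // r u y} = m2)
    (h0 : ∀ y ∈ S, y ∉ S1 → y ∉ S2 → Nat.card {u : α // r u y} = 0) :
    Nat.card {p : α × β // p.2 ∈ S ∧ r p.1 p.2} = Nat.card S1 * m1 + Nat.card S2 * m2 := by
  classical
  haveI : Fintype β := Fintype.ofFinite β
  rw [card_rel_eq_sum (fun u y => y ∈ S ∧ r u y)]
  have hterm : ∀ y : β, Nat.card {u : α // y ∈ S ∧ r u y} =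
      (if y ∈ S1 then m1 else 0) + (if y ∈ S2 then m2 else 0) := by
    intro y
    by_cases hy1 : y ∈ S1
    · have hy2 : y ∉ S2 := fun hy2 => (Set.disjoint_left.mp hd hy1 hy2)
      rw [if_pos hy1, if_neg hy2, add_zero, ← hm1 y hy1]
      exact Nat.card_congr (Equiv.subtypeEquivRight fun u => by simp [h1 hy1])
    · by_cases hy2 : y ∈ S2
      · rw [if_neg hy1, if_pos hy2, zero_add, ← hm2 y hy2]
        exact Nat.card_congr (Equiv.subtypeEquivRight fun u => by simp [h2 hy2])
      · rw [if_neg hy1, if_neg hy2, add_zero]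
        by_cases hyS : y ∈ S
        · rw [← h0 y hyS hy1 hy2]
          exact Nat.card_congr (Equiv.subtypeEquivRight fun u => by simp [hyS])
        · haveI : IsEmpty {u : α // y ∈ S ∧ r u y} := ⟨fun u => hyS u.2.1⟩
          exact Nat.card_of_isEmpty
  rw [Finset.sum_congr rfl (fun y _ => hterm y), Finset.sum_add_distrib]
  have hcount : ∀ (T : Set β) (m : ℕ), (∑ y : β, if y ∈ T then m else 0) = Nat.card T * m := by
    intro T m
    rw [← Finset.sum_filter, Finset.sum_const, smul_eq_mul, Nat.card_eq_fintype_card,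
      Fintype.card_subtype]
  rw [hcount S1 m1, hcount S2 m2]

end Cfsg.Agent.Lib.Helper15.BSWT1TI
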