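import Mathlib
import Cfsg.Prelude.Def_Characters
import Cfsg.Agent.Lib.Helper24.BSWDefs
import Cfsg.Agent.Lib.Helper16.BSWT1Defs
import Cfsg.Agent.Lib.Helper15.BSWT1TI

/-!
helper15: sub-leaf TG (pure group theory) of helper16's S3282-T1 sub-market (`notes/S3282_T1_leaves.lean`): the union of the
conjugates of a subgroup `M` with `C(z) = M` for all `1 ≠ z ∈ M` (double count of `{(g, z) | z ≠ 1, g z g⁻¹ ∈ M}`).
-/

set_option autoImplicit false
set_option linter.style.haveILetI false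
open Cfsg Cfsg.Agent.Lib.Helper24.BSW Cfsg.Agent.Lib.Helper16.BSWT1

namespace Cfsg.Agent.Lib.Helper15.BSWT1TG

/-- if `a, n a n⁻¹ ∈ M \ 1` and `C(z) = M` on `M \ 1` then `n ∈ N(M)`. -/
theorem mem_normalizer_of_conj_mem {G : Type*} [Group G] (M : Subgroup G)
    (hM : ∀ z ∈ M, z ≠ 1 → Subgroup.centralizer ({z} : Set G) = M) {a n : G} (ha : a ∈ M) (ha1 : a ≠ 1)
    (hb : n * a * n⁻¹ ∈ M) : n ∈ Subgroup.normalizer (M : Set G) := by
  have hb1 : n * a * n⁻¹ ≠ 1 := by
    intro h1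
    apply ha1
    have : a = n⁻¹ * (n * a * n⁻¹) * n := by group
    rw [this, h1]; group
  have hCa := hM a ha ha1
  have hCb := hM _ hb hb1
  rw [Subgroup.mem_normalizer_iff]
  intro c
  have e1 : c ∈ M ↔ c * a = a * c := by
    rw [← hCa, Subgroup.mem_centralizer_singleton_iff]
  have e2 : n * c * n⁻¹ ∈ M ↔ n * c * n⁻¹ * (n * a * n⁻¹) = n * a * n⁻¹ * (n * c * n⁻¹) := by
    rw [← hCb, Subgroup.mem_centralizer_singleton_iff]
  rw [e1, e2]
  constructor
  · intro hc
    calc n * c * n⁻¹ * (n * a * n⁻¹) = n * (c * a) * n⁻¹ := by group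
      _ = n * (a * c) * n⁻¹ := by rw [hc]
      _ = n * a * n⁻¹ * (n * c * n⁻¹) := by group
  · intro hc
    have : n⁻¹ * (n * c * n⁻¹ * (n * a * n⁻¹)) * n = n⁻¹ * (n * a * n⁻¹ * (n * c * n⁻¹)) * n := by rw [hc]
    have e3 : n⁻¹ * (n * c * n⁻¹ * (n * a * n⁻¹)) * n = c * a := by group
    have e4 : n⁻¹ * (n * a * n⁻¹ * (n * c * n⁻¹)) * n = a * c := by group
    rw [e3, e4] at this
    exact this

/-- **TG** -/
theorem card_conj_union {G : Type*} [Group G] [Finite G] (M : Subgroup G)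
    (hM : ∀ z ∈ M, z ≠ 1 → Subgroup.centralizer ({z} : Set G) = M) :
    Nat.card {z : G // z ≠ 1 ∧ ∃ g : G, g * z * g⁻¹ ∈ M} *
        Nat.card (Subgroup.normalizer (M : Set G)) =
      Nat.card G * (Nat.card M - 1) := by
  classical
  haveI : Fintype G := Fintype.ofFinite G
  -- count 1 : over `g`
  have hA : Nat.card {p : G × G // p.1 ≠ 1 ∧ p.2 * p.1 * p.2⁻¹ ∈ M} = Nat.card G * (Nat.card M - 1) := by
    rw [Cfsg.Agent.Lib.Helper15.BSWT1TI.card_rel_eq_sum (fun z g : G => z ≠ 1 ∧ g * z * g⁻¹ ∈ M)]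
    have hfib : ∀ g : G, Nat.card {z : G // z ≠ 1 ∧ g * z * g⁻¹ ∈ M} = Nat.card M - 1 := by
      intro g
      have e : {z : G // z ≠ 1 ∧ g * z * g⁻¹ ∈ M} ≃ {a : M // a ≠ 1} :=
        { toFun := fun z => ⟨⟨g * z.1 * g⁻¹, z.2.2⟩, fun h1 => z.2.1 (by
            have h2 : g * z.1 * g⁻¹ = 1 := congrArg Subtype.val h1
            have : z.1 = g⁻¹ * (g * z.1 * g⁻¹) * g := by group
            rw [this, h2]; group)⟩
          invFun := fun a => ⟨g⁻¹ * a.1.1 * g, fun h1 => a.2 (by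
            apply Subtype.ext
            have : a.1.1 = g * (g⁻¹ * a.1.1 * g) * g⁻¹ := by group
            rw [this, h1]; simp), by
            have : g * (g⁻¹ * a.1.1 * g) * g⁻¹ = a.1.1 := by group
            rw [this]; exact a.1.2⟩
          left_inv := fun z => by
            apply Subtype.ext
            show g⁻¹ * (g * z.1 * g⁻¹) * g = z.1
            group
          right_inv := fun a => by
            apply Subtype.ext
            apply Subtype.ext
            show g * (g⁻¹ * a.1.1 * g) * g⁻¹ = a.1.1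
            group }
      rw [Nat.card_congr e]
      haveI : Fintype M := Fintype.ofFinite M
      rw [Nat.card_eq_fintype_card, Nat.card_eq_fintype_card]
      exact Set.card_ne_eq (1 : M)
    rw [Finset.sum_congr rfl (fun g _ => hfib g), Finset.sum_const, smul_eq_mul, Finset.card_univ,
      Nat.card_eq_fintype_card (α := G)]
  -- count 2 : over `z`
  have hB : Nat.card {p : G × G // p.2 ≠ 1 ∧ p.1 * p.2 * p.1⁻¹ ∈ M} =
      Nat.card {z : G // z ≠ 1 ∧ ∃ g : G, g * z * g⁻¹ ∈ M} * Nat.card (Subgroup.normalizer (M : Set G)) := by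
    rw [Cfsg.Agent.Lib.Helper15.BSWT1TI.card_rel_eq_sum (fun g z : G => z ≠ 1 ∧ g * z * g⁻¹ ∈ M)]
    have hfib : ∀ z : G, Nat.card {g : G // z ≠ 1 ∧ g * z * g⁻¹ ∈ M} =
        if (z ≠ 1 ∧ ∃ g : G, g * z * g⁻¹ ∈ M) then Nat.card (Subgroup.normalizer (M : Set G)) else 0 := by
      intro z
      by_cases hz : z ≠ 1 ∧ ∃ g : G, g * z * g⁻¹ ∈ M
      · rw [if_pos hz]
        obtain ⟨hz1, g₀, hg₀⟩ := hz
        have ha1 : g₀ * z * g₀⁻¹ ≠ 1 := by
          intro h1
          apply hz1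
          have : z = g₀⁻¹ * (g₀ * z * g₀⁻¹) * g₀ := by group
          rw [this, h1]; group
        have e : {g : G // z ≠ 1 ∧ g * z * g⁻¹ ∈ M} ≃ Subgroup.normalizer (M : Set G) :=
          { toFun := fun g => ⟨g.1 * g₀⁻¹, by
              apply mem_normalizer_of_conj_mem M hM hg₀ ha1
              have : g.1 * g₀⁻¹ * (g₀ * z * g₀⁻¹) * (g.1 * g₀⁻¹)⁻¹ = g.1 * z * g.1⁻¹ := by group
              rw [this]; exact g.2.2⟩
            invFun := fun n => ⟨n.1 * g₀, hz1, by
              have : n.1 * g₀ * z * (n.1 * g₀)⁻¹ = n.1 * (g₀ * z * g₀⁻¹) * n.1⁻¹ := by group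
              rw [this]
              exact (Subgroup.mem_normalizer_iff.mp n.2 _).mp hg₀⟩
            left_inv := fun g => by
              apply Subtype.ext
              show g.1 * g₀⁻¹ * g₀ = g.1
              group
            right_inv := fun n => by
              apply Subtype.ext
              show n.1 * g₀ * g₀⁻¹ = n.1
              group }
        exact Nat.card_congr e
      · rw [if_neg hz]
        haveI : IsEmpty {g : G // z ≠ 1 ∧ g * z * g⁻¹ ∈ M} := ⟨fun g => hz ⟨g.2.1, g.1, g.2.2⟩⟩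
        exact Nat.card_of_isEmpty
    rw [Finset.sum_congr rfl (fun z _ => hfib z), ← Finset.sum_filter, Finset.sum_const, smul_eq_mul,
      Nat.card_eq_fintype_card (α := {z : G // z ≠ 1 ∧ ∃ g : G, g * z * g⁻¹ ∈ M}), Fintype.card_subtype]
  -- the two sets of pairs correspond under the swap
  have hswap : Nat.card {p : G × G // p.1 ≠ 1 ∧ p.2 * p.1 * p.2⁻¹ ∈ M} =
      Nat.card {p : G × G // p.2 ≠ 1 ∧ p.1 * p.2 * p.1⁻¹ ∈ M} :=
    Nat.card_congr ((Equiv.prodComm G G).subtypeEquiv (fun p => by simp))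
  rw [← hB, ← hswap, hA]

end Cfsg.Agent.Lib.Helper15.BSWT1TG
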