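import Mathlib
import Cfsg.Prelude.Def_Characters
import Cfsg.Agent.Lib.Helper24.BSWDefs
import Cfsg.Agent.Lib.Helper16.BSWT1Defs

/-!
helper15: sub-leaf TJ (arithmetic) of helper16's S3282-T1 sub-market (`notes/S3282_T1_leaves.lean`).
-/

set_option autoImplicit false
set_option linter.unusedVariables false
open Cfsg Cfsg.Agent.Lib.Helper24.BSW Cfsg.Agent.Lib.Helper16.BSWT1

namespace Cfsg.Agent.Lib.Helper15.BSWT1TJ

/-- **TJ** arithmetic. -/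
theorem arith_one (j m : ℕ) (hm : 3 ≤ m) (hmj : m ∣ j) (hj : j = 3 + 2 * (m - 1)) : False := by
  obtain ⟨c, hc⟩ := hmj
  have hj' : j = 2 * m + 1 := by omega
  rw [hc] at hj'
  rcases Nat.lt_or_ge c 3 with h3 | h3
  · have : m * c ≤ m * 2 := Nat.mul_le_mul_left m (by omega)
    omega
  · have : m * 3 ≤ m * c := Nat.mul_le_mul_left m h3
    omega

/-- the ordered case of `arith_two`. -/
theorem arith_two_le (j m1 m2 : ℕ) (h1 : 3 ≤ m1) (h12 : m1 ≤ m2)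
    (d1 : m1 ∣ j) (d2 : m2 ∣ j) (hj : j = 3 + 2 * (m1 - 1) + 2 * (m2 - 1)) :
    j = 15 ∧ m1 = 3 ∧ m2 = 5 := by
  have hj' : j = 2 * m1 + 2 * m2 - 1 := by omega
  obtain ⟨b, hb⟩ := d2
  obtain ⟨a, ha⟩ := d1
  -- `b = 3`
  have hb3 : b = 3 := by
    have hlt : m2 * b < m2 * 4 := by rw [← hb]; omega
    have hgt : m2 * 2 < m2 * b := by rw [← hb]; omega
    have h4 : b < 4 := Nat.lt_of_mul_lt_mul_left hlt
    have h2 : 2 < b := Nat.lt_of_mul_lt_mul_left hgt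
    omega
  rw [hb3] at hb
  have hm2 : m2 = 2 * m1 - 1 := by omega
  -- `a = 5`
  have hja : m1 * a = 6 * m1 - 3 := by rw [← ha]; omega
  have ha6 : a < 6 := by
    have : m1 * a < m1 * 6 := by rw [hja]; omega
    exact Nat.lt_of_mul_lt_mul_left this
  have ha4 : 4 < a := by
    by_contra hle
    push Not at hle
    have : m1 * a ≤ m1 * 4 := Nat.mul_le_mul_left m1 hle
    omega
  have ha5 : a = 5 := by omega
  rw [ha5] at hja
  have hm1 : m1 = 3 := by omega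
  refine ⟨by omega, hm1, by omega⟩

theorem arith_two (j m1 m2 : ℕ) (h1 : 3 ≤ m1) (h2 : 3 ≤ m2) (o1 : Odd m1) (o2 : Odd m2)
    (d1 : m1 ∣ j) (d2 : m2 ∣ j) (hj : j = 3 + 2 * (m1 - 1) + 2 * (m2 - 1)) :
    j = 15 ∧ ((m1 = 3 ∧ m2 = 5) ∨ (m1 = 5 ∧ m2 = 3)) := by
  rcases Nat.le_total m1 m2 with h | h
  · obtain ⟨hj15, e1, e2⟩ := arith_two_le j m1 m2 h1 h d1 d2 hj
    exact ⟨hj15, Or.inl ⟨e1, e2⟩⟩
  · obtain ⟨hj15, e1, e2⟩ := arith_two_le j m2 m1 h2 h d2 d1 (by omega)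
    exact ⟨hj15, Or.inr ⟨e2, e1⟩⟩

theorem arith_class_lower (T j m : ℕ) (hm : 3 ≤ m) (hT : T * (2 * m) = 4 * j * (m - 1)) :
    4 * j ≤ 3 * T := by
  obtain ⟨n, rfl⟩ : ∃ n, m = n + 3 := ⟨m - 3, by omega⟩
  have e : n + 3 - 1 = n + 2 := by omega
  rw [e] at hT
  have hpos : 0 < 2 * (n + 3) := by omega
  apply Nat.le_of_mul_le_mul_right _ hpos
  have h3 : 3 * T * (2 * (n + 3)) = 3 * (4 * j * (n + 2)) := by rw [mul_assoc, hT]
  rw [h3]
  nlinarith [Nat.zero_le (j * n)]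

end Cfsg.Agent.Lib.Helper15.BSWT1TJ
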