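import Mathlib
import Cfsg.Prelude.Def_Characters
import Cfsg.Agent.Lib.Helper24.BSWDefs
import Cfsg.Agent.Lib.Helper5.BSWB1

/-!
helper15: leaf T2 `concl_of_twelve` of helper24's S3282 market (Brauer-Suzuki-Wall, abstract form): `|K| = 2`, `|G| = 12`,
no real element in `RR K`: `Q` a Sylow 3-subgroup, `D = ⊥`.  Uses only B1 (`|C(t)| = 4`).
-/

set_option autoImplicit false
open Cfsg Cfsg.Agent.Lib.Helper24.BSW

namespace Cfsg.Agent.Lib.Helper15.BSWT2

variable {G : Type*} [Group G] [Finite G]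

/-- no involution commutes with an element of order 3 when `|C(t)| = 4`. -/
theorem not_commute_of_order_three {t s : G} {K : Subgroup G} (h : Hyp t s K) (hk : Nat.card K = 2)
    {x v : G} (hx : orderOf x = 3) (hv : orderOf v = 2) : v * x ≠ x * v := by
  intro hcomm
  obtain ⟨c, hc⟩ := isConj_iff.mp (h.hconj t v h.ht hv)
  have hcard : Nat.card (Subgroup.centralizer ({t} : Set G)) = 4 := by
    rw [(Cfsg.Agent.Lib.Helper5.BSWB1.card_centralizer h).1, hk]
  have hmem : c⁻¹ * x * c ∈ Subgroup.centralizer ({t} : Set G) := by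
    rw [Subgroup.mem_centralizer_singleton_iff]
    have ht : t = c⁻¹ * v * c := by rw [← hc]; group
    rw [ht]
    calc c⁻¹ * x * c * (c⁻¹ * v * c) = c⁻¹ * (x * v) * c := by group
      _ = c⁻¹ * (v * x) * c := by rw [hcomm]
      _ = c⁻¹ * v * c * (c⁻¹ * x * c) := by group
  have hord : orderOf (c⁻¹ * x * c) = 3 := by
    have := (MulAut.conj c⁻¹).orderOf_eq x
    rw [MulAut.conj_apply, inv_inv] at this
    rw [this, hx]
  have hdvd : orderOf (⟨c⁻¹ * x * c, hmem⟩ : Subgroup.centralizer ({t} : Set G)) ∣ 4 :=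
    hcard ▸ orderOf_dvd_natCard _
  rw [← Subgroup.orderOf_coe, hord] at hdvd
  omega

omit [Finite G] in
/-- elements of order 3 are in `RR K` when `|K| = 2`. -/
theorem mem_RR_of_order_three {K : Subgroup G} (hk : Nat.card K = 2) {x : G} (hx : orderOf x = 3) :
    x ∈ RR K := by
  refine ⟨fun h1 => by rw [h1, orderOf_one] at hx; omega, fun g hg => ?_⟩
  have hord : orderOf (g * x * g⁻¹) = 3 := by
    have := (MulAut.conj g).orderOf_eq x
    rw [MulAut.conj_apply] at this
    rw [this, hx]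
  have hdvd : orderOf (⟨g * x * g⁻¹, hg⟩ : K) ∣ 2 := hk ▸ orderOf_dvd_natCard _
  rw [← Subgroup.orderOf_coe, hord] at hdvd
  omega

/-- **T2** -/
theorem concl_of_twelve {t s : G} {K : Subgroup G} (h : Hyp t s K) (hk : Nat.card K = 2)
    (h12 : Nat.card G = 12) (hnr : ∀ y ∈ RR K, invCount y = 0) : Concl G := by
  have : Fact (Nat.Prime 3) := ⟨Nat.prime_three⟩
  have : Fact (Nat.Prime 2) := ⟨Nat.prime_two⟩
  obtain ⟨P⟩ : Nonempty (Sylow 3 G) := inferInstance
  -- `|P| = 3`
  have hP3 : Nat.card (P : Subgroup G) = 3 := by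
    obtain ⟨n, hn⟩ := IsPGroup.exists_card_eq P.isPGroup'
    have hdvd : Nat.card (P : Subgroup G) ∣ 12 := h12 ▸ Subgroup.card_subgroup_dvd_card _
    have hidx : ¬ 3 ∣ (P : Subgroup G).index := P.not_dvd_index
    have hmul : Nat.card (P : Subgroup G) * (P : Subgroup G).index = 12 :=
      h12 ▸ Subgroup.card_mul_index _
    rw [hn] at hdvd hmul ⊢
    have hn2 : n ≤ 2 := by
      by_contra hlt
      push Not at hlt
      have : 3 ^ 3 ∣ 12 := dvd_trans (pow_dvd_pow 3 hlt) hdvd
      omega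
    interval_cases n
    · exfalso; apply hidx; simp at hmul; rw [hmul]; decide
    · rfl
    · exfalso; omega
  obtain ⟨Q, hQ⟩ : ∃ Q : Subgroup G, Q = (P : Subgroup G) := ⟨_, rfl⟩
  rw [← hQ] at hP3
  -- order 3 elements
  have hord : ∀ x ∈ Q, x ≠ 1 → orderOf x = 3 := by
    intro x hx hx1
    have hdvd : orderOf (⟨x, hx⟩ : Q) ∣ 3 := hP3 ▸ orderOf_dvd_natCard _
    rw [← Subgroup.orderOf_coe] at hdvd
    rcases (Nat.dvd_prime Nat.prime_three).mp hdvd with h1 | h3
    · exact absurd (orderOf_eq_one_iff.mp h1) hx1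
    · exact h3
  have hzp : ∀ x ∈ Q, x ≠ 1 → Subgroup.zpowers x = Q := by
    intro x hx hx1
    apply Subgroup.eq_of_le_of_card_ge (by rw [Subgroup.zpowers_le]; exact hx)
    rw [Nat.card_zpowers, hord x hx hx1, hP3]
  have hcommQ : ∀ x ∈ Q, ∀ y ∈ Q, y * x = x * y := by
    intro x hx y hy
    by_cases hx1 : x = 1
    · rw [hx1, mul_one, one_mul]
    · rw [← hzp x hx hx1] at hy
      obtain ⟨k, rfl⟩ := Subgroup.mem_zpowers_iff.mp hy
      exact ((Commute.refl x).zpow_left k).eq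
  -- odd subgroups of order dividing 12 containing `Q` equal `Q`
  have hkey : ∀ S : Subgroup G, Q ≤ S → (∀ v ∈ S, orderOf v ≠ 2) → S = Q := by
    intro S hQS hno
    have hodd : ¬ 2 ∣ Nat.card S := by
      intro h2
      obtain ⟨v, hv⟩ := exists_prime_orderOf_dvd_card' 2 h2
      exact hno v v.2 (by rw [← Subgroup.orderOf_coe] at hv; exact hv)
    have hdvd : Nat.card S ∣ 4 * 3 := by
      have : Nat.card S ∣ 12 := h12 ▸ Subgroup.card_subgroup_dvd_card _
      exact this
    have hcop : Nat.Coprime (Nat.card S) 4 := by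
      have : Nat.Coprime (Nat.card S) 2 := ((Nat.Prime.coprime_iff_not_dvd Nat.prime_two).mpr hodd).symm
      exact Nat.Coprime.pow_right 2 this
    have h3 : Nat.card S ∣ 3 := hcop.dvd_of_dvd_mul_left hdvd
    have hle : Nat.card S ≤ Nat.card Q := by rw [hP3]; exact Nat.le_of_dvd (by norm_num) h3
    exact (Subgroup.eq_of_le_of_card_ge hQS hle).symm
  -- centralizers
  have hcent : ∀ x ∈ Q, x ≠ 1 → Subgroup.centralizer ({x} : Set G) = Q := by
    intro x hx hx1
    apply hkey
    · intro y hy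
      rw [Subgroup.mem_centralizer_singleton_iff]
      exact hcommQ x hx y hy
    · intro v hv hv2
      rw [Subgroup.mem_centralizer_singleton_iff] at hv
      exact not_commute_of_order_three h hk (hord x hx hx1) hv2 hv
  -- normalizer
  have hnorm : Subgroup.normalizer (Q : Set G) = Q := by
    apply hkey _ Subgroup.le_normalizer
    intro v hv hv2
    obtain ⟨x, hxQ, hx1⟩ : ∃ x ∈ Q, x ≠ 1 := by
      by_contra hcon
      push Not at hcon
      have : Q = ⊥ := (Subgroup.eq_bot_iff_forall _).mpr hcon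
      rw [this, Subgroup.card_bot] at hP3
      omega
    have hvv : v * v = 1 := by rw [← sq, ← hv2]; exact pow_orderOf_eq_one v
    have hvinv : v⁻¹ = v := inv_eq_of_mul_eq_one_left hvv
    have hvx : v * x * v⁻¹ ∈ Q := (Subgroup.mem_normalizer_iff.mp hv x).mp hxQ
    -- w := x * (v x v⁻¹) is fixed by v
    have hw : x * (v * x * v⁻¹) ∈ Q := Q.mul_mem hxQ hvx
    have hvw : v * (x * (v * x * v⁻¹)) = (x * (v * x * v⁻¹)) * v := by
      have e1 : v * (x * (v * x * v⁻¹)) = (v * x * v⁻¹) * (v * v) * x * v⁻¹ := by group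
      rw [e1, hvv, mul_one, hcommQ x hxQ _ hvx, hvinv]
    by_cases hw1 : x * (v * x * v⁻¹) = 1
    · -- v inverts x
      have hinvx : v * x * v⁻¹ = x⁻¹ := (eq_inv_of_mul_eq_one_right hw1)
      have hxRR : x ∈ RR K := mem_RR_of_order_three hk (hord x hxQ hx1)
      have h0 := hnr x hxRR
      unfold invCount at h0
      have : Nonempty {u : G // orderOf u = 2 ∧ u * x * u⁻¹ = x⁻¹} := ⟨⟨v, hv2, hinvx⟩⟩
      exact Nat.card_pos.ne' h0
    · exact not_commute_of_order_three h hk (hord _ hw hw1) hv2 hvw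
  -- assemble
  refine ⟨Q, ⊥, ?_, hcent, ⟨⟨fun a b => Subsingleton.elim _ _⟩⟩, ?_, inf_bot_eq _, ?_, ?_⟩
  · rw [h12, hP3]
  · rw [Subgroup.card_bot, hP3]
  · rw [hnorm, sup_bot_eq]
  · intro X hX hX1
    exact absurd (le_bot_iff.mp hX) hX1

end Cfsg.Agent.Lib.Helper15.BSWT2
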