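import Mathlib
import Cfsg.Prelude.Def_ClassicalGeometry
import Cfsg.Prelude.Def_GeometricClasses
import Cfsg.Agent.Lib.Helper18.T23.H2.SOTDefs
import Cfsg.Agent.Lib.Helper18.T23.H2.SOTGDefs
import Cfsg.Agent.Lib.Helper18.T23.H27.SOTLADefs
import Cfsg.Agent.Lib.Helper18.T23.H27.SOTLAFCcore

/-!
S5804 conjunct (7), market C4 of helper18, leaf **N3** `fc_caseB_two_three`:
`m⁻¹ (kA e_o 1) m = 1 ⊗ β₂` is impossible on `F² ⊗ F³`.

With `ν := β₂ - 1`: `(k - 1) m = m (1 ⊗ ν)`, `ν² = 0`, so `W := ker ν` has dimension `≥ 2`; for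
`x, y ∈ W` the vector `m (e_o ⊗ x + e_o' ⊗ y)` is killed by `k - 1 = -E_{o,o'} ⊗ 1`, i.e. its `o'`-row
vanishes, so `(x, y) ↦ (o-row of m (e_o ⊗ x + e_o' ⊗ y))` is an injective linear map `W × W → F³`:
`4 ≤ 3`.
-/

set_option autoImplicit false
set_option linter.unusedSectionVars false
set_option linter.unusedVariables false

namespace Cfsg.Agent.Lib.Helper15.C4Leaf
open Matrix Module
open Cfsg.Agent.Lib.Helper25.Tens Cfsg.Agent.Lib.Helper25.SpT Cfsg.Agent.Lib.Helper19.OSub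
open Cfsg.Agent.Lib.Helper18.T23.H2.SOT Cfsg.Agent.Lib.Helper18.T23.H27.SOTLA
open Cfsg.Agent.Lib.Helper18.T23.H27.SOTLALeaf
open scoped Kronecker

variable {F : Type*} [Field F] [Fintype F] {a b : ℕ} {G : Matrix (Fin b) (Fin b) F}
  {M : Subgroup (GL (Idx a b) F)}

/-- a nilpotent `ν` of square zero on `F³` has a kernel of dimension at least `2` -/
lemma two_le_finrank_ker_of_sq_zero (ν : Matrix (Fin 3) (Fin 3) F) (hν : ν * ν = 0) :
    2 ≤ finrank F (LinearMap.ker (Matrix.mulVecLin ν)) := by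
  have hrk := LinearMap.finrank_range_add_finrank_ker (Matrix.mulVecLin ν)
  have hle : LinearMap.range (Matrix.mulVecLin ν) ≤ LinearMap.ker (Matrix.mulVecLin ν) := by
    rintro _ ⟨v, rfl⟩
    rw [LinearMap.mem_ker, Matrix.mulVecLin_apply, Matrix.mulVecLin_apply, Matrix.mulVec_mulVec, hν,
      Matrix.zero_mulVec]
  have h1 := Submodule.finrank_mono hle
  have h3 : finrank F (Fin 3 → F) = 3 := by simp
  omega

/-- **N3** -/
theorem fc_caseB_two_three {G : Matrix (Fin 3) (Fin 3) F} (h : Ctx 2 3 G) {o o' : Fin 2}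
    (ho : o.val = 0) (ho' : o'.val = 1) (m : GL (Idx 2 3) F) (β₂ : Matrix (Fin 3) (Fin 3) F)
    (hk : ((m⁻¹ * (kA (Pi.single o 1) 1 : GL (Idx 2 3) F) * m : GL (Idx 2 3) F) :
      Matrix (Idx 2 3) (Idx 2 3) F) = (1 : Matrix (Fin 2) (Fin 2) F) ⊗ₖ β₂) : False := by
  classical
  have ea : Even 2 := ⟨1, rfl⟩
  have hoo' : o ≠ o' := fun h => by rw [h] at ho; omega
  have hall : ∀ i : Fin 2, i = o ∨ i = o' := by
    intro i
    have hi := i.isLt
    by_cases h0 : i.val = 0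
    · left; exact Fin.ext (by omega)
    · right; exact Fin.ext (by omega)
  obtain ⟨kM, hkM⟩ : ∃ kM : Matrix (Idx 2 3) (Idx 2 3) F,
      kM = ((kA (Pi.single o 1) 1 : GL (Idx 2 3) F) : Matrix (Idx 2 3) (Idx 2 3) F) := ⟨_, rfl⟩
  obtain ⟨ν, hν⟩ : ∃ ν : Matrix (Fin 3) (Fin 3) F, ν = β₂ - 1 := ⟨_, rfl⟩
  have hβ : β₂ = ν + 1 := by rw [hν, sub_add_cancel]
  have hkron : (1 : Matrix (Fin 2) (Fin 2) F) ⊗ₖ β₂ =
      (1 : Matrix (Fin 2) (Fin 2) F) ⊗ₖ ν + 1 := by
    rw [hβ, Matrix.kronecker_add, Matrix.one_kronecker_one]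
  -- entries of `kM - 1`
  have hK : ∀ (i j : Fin 2), ablk (kM - 1) i j =
      if i = o ∧ j = o' then -(1 : F) • (1 : Matrix (Fin 3) (Fin 3) F) else 0 := by
    intro i j
    rw [hkM, Cfsg.Agent.Lib.Helper18.T23.H27.SOTLALeaf.kA_single_eq ea ho ho', ablk_sub,
      ablk_uMat_gen, ablk_one]
    simp
  -- the conjugation relation
  have h1 : ((m⁻¹ : GL (Idx 2 3) F) : Matrix (Idx 2 3) (Idx 2 3) F) * kM *
      (m : Matrix (Idx 2 3) (Idx 2 3) F) = (1 : Matrix (Fin 2) (Fin 2) F) ⊗ₖ β₂ := by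
    rw [← hk, hkM]; simp only [Units.val_mul]
  have h2 : kM * (m : Matrix (Idx 2 3) (Idx 2 3) F) =
      (m : Matrix (Idx 2 3) (Idx 2 3) F) * ((1 : Matrix (Fin 2) (Fin 2) F) ⊗ₖ β₂) := by
    rw [← h1, ← Matrix.mul_assoc, ← Matrix.mul_assoc, ← Units.val_mul, mul_inv_cancel,
      Units.val_one, Matrix.one_mul]
  have hconj : (kM - 1) * (m : Matrix (Idx 2 3) (Idx 2 3) F) =
      (m : Matrix (Idx 2 3) (Idx 2 3) F) * ((1 : Matrix (Fin 2) (Fin 2) F) ⊗ₖ ν) := by
    rw [Matrix.sub_mul, Matrix.one_mul, h2, hkron, Matrix.mul_add, Matrix.mul_one,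
      add_sub_cancel_right]
  -- `ν² = 0`
  have hνsq : ν * ν = 0 := by
    have hsq := Cfsg.Agent.Lib.Helper18.T23.H27.SOTLALeaf.conj_sub_one_sq m (kA (Pi.single o 1) 1)
      (Cfsg.Agent.Lib.Helper18.T23.H27.SOTLALeaf.kA_single_sub_one_sq ea ho ho' 1)
    rw [hk] at hsq
    have h3 : (1 : Matrix (Fin 2) (Fin 2) F) ⊗ₖ β₂ - 1 = (1 : Matrix (Fin 2) (Fin 2) F) ⊗ₖ ν := by
      rw [hkron, add_sub_cancel_right]
    rw [h3, ← Matrix.mul_kronecker_mul, Matrix.one_mul] at hsq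
    ext r s
    have := congrFun (congrFun hsq (o, r)) (o, s)
    simpa [Matrix.kroneckerMap_apply] using this
  -- (F1) the `o'`-row of `m (x ⊗ y)` vanishes for `y ∈ ker ν`
  have hF1 : ∀ (x : Fin 2 → F) (y : Fin 3 → F), ν *ᵥ y = 0 → ∀ r : Fin 3,
      ((m : Matrix (Idx 2 3) (Idx 2 3) F) *ᵥ pt x y) (o', r) = 0 := by
    intro x y hy r
    have e1 : (kM - 1) *ᵥ ((m : Matrix (Idx 2 3) (Idx 2 3) F) *ᵥ pt x y) = 0 := by
      rw [Matrix.mulVec_mulVec, hconj, ← Matrix.mulVec_mulVec, kron_mulVec_pt, hy, pt_zero_right,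
        Matrix.mulVec_zero]
    have e2 := congrFun e1 (o, r)
    rw [Matrix.mulVec, dotProduct, Fintype.sum_prod_type] at e2
    have e3 : ∀ (j : Fin 2) (s : Fin 3), (kM - 1) (o, r) (j, s) =
        if j = o' then (if r = s then -1 else 0) else 0 := by
      intro j s
      have := congrFun (congrFun (hK o j) r) s
      rw [ablk_apply] at this
      rw [this]
      by_cases hj : j = o'
      · simp [hj, Matrix.one_apply]
      · simp [hj]
    have e4 : ∑ j : Fin 2, ∑ s : Fin 3,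
        (kM - 1) (o, r) (j, s) * ((m : Matrix (Idx 2 3) (Idx 2 3) F) *ᵥ pt x y) (j, s) =
        - ((m : Matrix (Idx 2 3) (Idx 2 3) F) *ᵥ pt x y) (o', r) := by
      rw [Finset.sum_eq_single o', Finset.sum_eq_single r]
      · rw [e3, if_pos rfl, if_pos rfl, neg_one_mul]
      · intro s _ hs
        rw [e3, if_pos rfl, if_neg (Ne.symm hs), zero_mul]
      · intro hr; exact absurd (Finset.mem_univ r) hr
      · intro j _ hj
        apply Finset.sum_eq_zero
        intro s _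
        rw [e3, if_neg hj, zero_mul]
      · intro hr; exact absurd (Finset.mem_univ o') hr
    rw [e4] at e2
    have e5 : (0 : Idx 2 3 → F) (o, r) = 0 := rfl
    rw [e5, neg_eq_zero] at e2
    exact e2
  -- the kernel and the injective map
  obtain ⟨W, hW⟩ : ∃ W : Submodule F (Fin 3 → F), W = LinearMap.ker (Matrix.mulVecLin ν) :=
    ⟨_, rfl⟩
  have hWmem' : ∀ y : Fin 3 → F, y ∈ W → ν *ᵥ y = 0 := by
    intro y hy
    rw [hW, LinearMap.mem_ker, Matrix.mulVecLin_apply] at hy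
    exact hy
  have hWmem : ∀ y : W, ν *ᵥ (y : Fin 3 → F) = 0 := fun y => hWmem' y y.2
  have hdim : 2 ≤ finrank F W := by rw [hW]; exact two_le_finrank_ker_of_sq_zero ν hνsq
  let inc : (W × W) →ₗ[F] (Idx 2 3 → F) :=
    (ptR (b := 3) (Pi.single o (1 : F))).comp (W.subtype.comp (LinearMap.fst F W W)) +
      (ptR (b := 3) (Pi.single o' (1 : F))).comp (W.subtype.comp (LinearMap.snd F W W))
  let prj : (Idx 2 3 → F) →ₗ[F] (Fin 3 → F) := LinearMap.funLeft F F (fun r : Fin 3 => (o, r))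
  let Ψ : (W × W) →ₗ[F] (Fin 3 → F) :=
    prj.comp ((Matrix.mulVecLin (m : Matrix (Idx 2 3) (Idx 2 3) F)).comp inc)
  have hinc : ∀ p : W × W, inc p =
      pt (Pi.single o (1 : F)) (p.1 : Fin 3 → F) + pt (Pi.single o' (1 : F)) (p.2 : Fin 3 → F) := by
    intro p; rfl
  have hΨ : ∀ (p : W × W) (r : Fin 3),
      Ψ p r = ((m : Matrix (Idx 2 3) (Idx 2 3) F) *ᵥ inc p) (o, r) := by
    intro p r; rfl
  have hinj : Function.Injective Ψ := by
    rw [← LinearMap.ker_eq_bot, LinearMap.ker_eq_bot']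
    intro p hp
    have hmv : (m : Matrix (Idx 2 3) (Idx 2 3) F) *ᵥ inc p = 0 := by
      ext ⟨i, r⟩
      rcases hall i with rfl | rfl
      · rw [← hΨ, hp]; rfl
      · rw [hinc, Matrix.mulVec_add, Pi.add_apply, hF1 _ _ (hWmem p.1) r, hF1 _ _ (hWmem p.2) r,
          add_zero]; rfl
    have hv : inc p = 0 := by
      have := congrArg (fun w => ((m⁻¹ : GL (Idx 2 3) F) : Matrix (Idx 2 3) (Idx 2 3) F) *ᵥ w) hmv
      simp only [Matrix.mulVec_mulVec, Matrix.mulVec_zero] at this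
      rwa [← Units.val_mul, inv_mul_cancel, Units.val_one, Matrix.one_mulVec] at this
    rw [hinc] at hv
    have hp1 : (p.1 : Fin 3 → F) = 0 := by
      ext r
      have := congrFun hv (o, r)
      simpa [pt, Pi.single_apply, hoo'] using this
    have hp2 : (p.2 : Fin 3 → F) = 0 := by
      ext r
      have := congrFun hv (o', r)
      simpa [pt, Pi.single_apply, hoo'.symm] using this
    apply Prod.ext
    · exact Subtype.ext hp1
    · exact Subtype.ext hp2
  have hle := LinearMap.finrank_le_finrank_of_injective hinj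
  rw [Module.finrank_prod] at hle
  have h3 : finrank F (Fin 3 → F) = 3 := by simp
  omega

end Cfsg.Agent.Lib.Helper15.C4Leaf
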