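/-
helper15 (S2441, leaf L3): if every `p`-regular element of `C_G(P)` is trivial, then the right hand side of
S0953 (the `N_G(P)`-classes of `p`-regular elements of `C_G(P)`) has exactly one element.
-/
import Mathlib

set_option autoImplicit false

namespace Cfsg.Agent.Lib.Helper15.ClassCountOne

variable {G : Type*} [Group G]

/-- the generic form: `H ≤ G`, `Cn ≤ G`, every element of `Cn` whose order is prime to `p` is `1` -/
theorem card_classes_eq_one_of_forall (p : ℕ) (hp : 1 < p) (H Cn : Subgroup G)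
    (h : ∀ x ∈ Cn, ¬ p ∣ orderOf x → x = 1) :
    Nat.card {C : ConjClasses H // ∀ n : H, ConjClasses.mk n = C →
      ¬ p ∣ orderOf n ∧ (n : G) ∈ Cn} = 1 := by
  rw [Nat.card_eq_one_iff_unique]
  have hone : ∀ n : H, ConjClasses.mk n = ConjClasses.mk (1 : H) →
      ¬ p ∣ orderOf n ∧ (n : G) ∈ Cn := by
    intro n hn
    have hn1 : n = 1 := by
      have := ConjClasses.mk_eq_mk_iff_isConj.mp hn
      exact isConj_one_left.mp this
    subst hn1
    refine ⟨?_, Cn.one_mem⟩
    rw [orderOf_one]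
    intro hdvd
    exact absurd (Nat.le_of_dvd one_pos hdvd) (not_le.mpr hp)
  refine ⟨⟨?_⟩, ⟨⟨ConjClasses.mk 1, hone⟩⟩⟩
  rintro ⟨C, hC⟩ ⟨C', hC'⟩
  apply Subtype.ext
  show C = C'
  have key : ∀ (E : ConjClasses H), (∀ n : H, ConjClasses.mk n = E →
      ¬ p ∣ orderOf n ∧ (n : G) ∈ Cn) → E = ConjClasses.mk 1 := by
    intro E hE
    obtain ⟨n, rfl⟩ := ConjClasses.mk_surjective E
    obtain ⟨h1, h2⟩ := hE n rfl
    have h3 : ¬ p ∣ orderOf (n : G) := by
      rw [Subgroup.orderOf_coe]; exact h1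
    have h4 : (n : G) = 1 := h (n : G) h2 h3
    have h5 : n = 1 := Subtype.ext h4
    rw [h5]
  rw [key C hC, key C' hC']

/-- **L3**: the right hand side of the frozen S0953, when the only `p`-regular element of `C_G(P)` is `1` -/
theorem card_pregular_classes_eq_one [Finite G] (p : ℕ) [Fact p.Prime] (P : Sylow p G)
    (h : ∀ x ∈ Subgroup.centralizer ((P : Subgroup G) : Set G), ¬ p ∣ orderOf x → x = 1) :
    Nat.card {C : ConjClasses (Subgroup.normalizer ((P : Subgroup G) : Set G)) //
      ∀ n : Subgroup.normalizer ((P : Subgroup G) : Set G), ConjClasses.mk n = C →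
        ¬ p ∣ orderOf n ∧ (n : G) ∈ Subgroup.centralizer ((P : Subgroup G) : Set G)} = 1 :=
  card_classes_eq_one_of_forall p (Fact.out : p.Prime).one_lt _ _ h

end Cfsg.Agent.Lib.Helper15.ClassCountOne
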