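import Mathlib

/-! Every square matrix over a field is similar to its transpose (via the structure theorem for
f.g. torsion modules over `F[X]`). Helper15 library. -/

open Polynomial

namespace Cfsg.Agent.Lib.Helper15

section cyclic
variable {F : Type*} [Field F]

/-- functional on `AdjoinRoot f` (`f` monic): top coefficient of the reduced representative. -/
noncomputable def topCoeff {f : F[X]} (hf : f.Monic) : AdjoinRoot f →ₗ[F] F :=
  (Polynomial.lcoeff F (f.natDegree - 1)) ∘ₗ (AdjoinRoot.modByMonicHom hf)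

theorem topCoeff_nondeg {f : F[X]} (hf : f.Monic) (u : AdjoinRoot f) (hu : u ≠ 0) :
    ∃ v, topCoeff hf (u * v) ≠ 0 := by
  set g := AdjoinRoot.modByMonicHom hf u with hg
  have hug : AdjoinRoot.mk f g = u := AdjoinRoot.mk_leftInverse hf u
  have hg0 : g ≠ 0 := by
    intro h0
    apply hu
    rw [← hug, h0, map_zero]
  have hg' : g = g %ₘ f := by
    conv_lhs => rw [hg, ← hug, AdjoinRoot.modByMonicHom_mk hf g]
  have hdeg : g.degree < f.degree := by
    rw [hg']
    exact Polynomial.degree_modByMonic_lt _ hf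
  have hnat : g.natDegree < f.natDegree := Polynomial.natDegree_lt_natDegree hg0 hdeg
  obtain ⟨k, hk⟩ : ∃ k, f.natDegree - 1 = g.natDegree + k := ⟨f.natDegree - 1 - g.natDegree, by omega⟩
  refine ⟨AdjoinRoot.mk f (X ^ k), ?_⟩
  rw [← hug, ← map_mul]
  unfold topCoeff
  rw [LinearMap.comp_apply, AdjoinRoot.modByMonicHom_mk]
  have hlt : (g * X ^ k).degree < f.degree := by
    rw [Polynomial.degree_mul, Polynomial.degree_X_pow, Polynomial.degree_eq_natDegree hg0,
      Polynomial.degree_eq_natDegree hf.ne_zero]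
    norm_cast
    omega
  rw [(Polynomial.modByMonic_eq_self_iff hf).mpr hlt]
  rw [Polynomial.lcoeff_apply, hk, Polynomial.coeff_mul_X_pow]
  simpa using hg0

theorem dvd_monic_iff (f : F[X]) (hf : f ≠ 0) (g : F[X]) : f * C f.leadingCoeff⁻¹ ∣ g ↔ f ∣ g := by
  have hu : IsUnit (C f.leadingCoeff⁻¹) := by
    rw [Polynomial.isUnit_C]
    exact (inv_ne_zero (leadingCoeff_ne_zero.mpr hf)).isUnit
  exact hu.mul_right_dvd

/-- the comparison map from the quotient module to `AdjoinRoot` of the monic associate. -/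
noncomputable def toAdj (f : F[X]) (hf : f ≠ 0) :
    (F[X] ⧸ F[X] ∙ f) → AdjoinRoot (f * C f.leadingCoeff⁻¹) :=
  Quotient.lift (fun g : F[X] => AdjoinRoot.mk (f * C f.leadingCoeff⁻¹) g) (by
    intro a b hab
    have hab' : a - b ∈ F[X] ∙ f := (Submodule.quotientRel_def _).mp hab
    rw [Submodule.mem_span_singleton] at hab'
    obtain ⟨c, hc⟩ := hab'
    show AdjoinRoot.mk (f * C f.leadingCoeff⁻¹) a = AdjoinRoot.mk (f * C f.leadingCoeff⁻¹) b
    rw [← sub_eq_zero, ← map_sub, AdjoinRoot.mk_eq_zero, dvd_monic_iff f hf, ← hc]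
    exact Dvd.intro_left _ rfl)

theorem toAdj_mk (f : F[X]) (hf : f ≠ 0) (g : F[X]) :
    toAdj f hf (Submodule.Quotient.mk g) = AdjoinRoot.mk (f * C f.leadingCoeff⁻¹) g := rfl

theorem toAdj_add (f : F[X]) (hf : f ≠ 0) (u v : F[X] ⧸ F[X] ∙ f) :
    toAdj f hf (u + v) = toAdj f hf u + toAdj f hf v := by
  induction u using Submodule.Quotient.induction_on with | _ a => ?_
  induction v using Submodule.Quotient.induction_on with | _ b => ?_
  rw [← Submodule.Quotient.mk_add, toAdj_mk, toAdj_mk, toAdj_mk, map_add]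

theorem toAdj_smul (f : F[X]) (hf : f ≠ 0) (p : F[X]) (u : F[X] ⧸ F[X] ∙ f) :
    toAdj f hf (p • u) = AdjoinRoot.mk _ p * toAdj f hf u := by
  induction u using Submodule.Quotient.induction_on with | _ a => ?_
  rw [← Submodule.Quotient.mk_smul, toAdj_mk, toAdj_mk, smul_eq_mul, map_mul]

theorem toAdj_eq_zero (f : F[X]) (hf : f ≠ 0) (u : F[X] ⧸ F[X] ∙ f) (h : toAdj f hf u = 0) :
    u = 0 := by
  induction u using Submodule.Quotient.induction_on with | _ a => ?_
  rw [toAdj_mk, AdjoinRoot.mk_eq_zero, dvd_monic_iff f hf] at h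
  rw [Submodule.Quotient.mk_eq_zero, Submodule.mem_span_singleton]
  obtain ⟨c, hc⟩ := h
  exact ⟨c, by rw [hc, smul_eq_mul, mul_comm]⟩

theorem cyclic_form (f : F[X]) (hf : f ≠ 0) :
    ∃ β : (F[X] ⧸ F[X] ∙ f) → (F[X] ⧸ F[X] ∙ f) → F,
      (∀ u u' v, β (u + u') v = β u v + β u' v) ∧
      (∀ u v, β u v = β v u) ∧
      (∀ (p : F[X]) u v, β (p • u) v = β u (p • v)) ∧
      (∀ (c : F) u v, β (C c • u) v = c * β u v) ∧
      (∀ u, (∀ v, β u v = 0) → u = 0) := by
  have hm : (f * C f.leadingCoeff⁻¹).Monic := monic_mul_leadingCoeff_inv hf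
  refine ⟨fun u v => topCoeff hm (toAdj f hf u * toAdj f hf v), ?_, ?_, ?_, ?_, ?_⟩
  · intro u u' v
    simp only [toAdj_add, add_mul, map_add]
  · intro u v
    simp only [mul_comm]
  · intro p u v
    simp only [toAdj_smul]
    congr 1
    ring
  · intro c u v
    simp only [toAdj_smul, AdjoinRoot.mk_C, mul_assoc]
    rw [← AdjoinRoot.algebraMap_eq, ← Algebra.smul_def, map_smul, smul_eq_mul]
  · intro u hu
    apply toAdj_eq_zero f hf
    by_contra hne
    obtain ⟨w, hw⟩ := topCoeff_nondeg hm _ hne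
    obtain ⟨q, rfl⟩ := AdjoinRoot.mk_surjective w
    apply hw
    exact hu (Submodule.Quotient.mk q)

theorem exists_selfadjoint_form {n : Type*} [Fintype n] [DecidableEq n] (A : Matrix n n F) :
    ∃ G : Matrix n n F, G.det ≠ 0 ∧ G * A = A.transpose * G := by
  classical
  set φ : (n → F) →ₗ[F] (n → F) := Matrix.toLin' A with hφ
  have hT : Module.IsTorsion F[X] (Module.AEval' φ) :=
    Module.AEval.isTorsion_of_finiteDimensional F (n → F) φ
  obtain ⟨ι, _, p, hp, e, ⟨E⟩⟩ := Module.equiv_directSum_of_isTorsion hT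
  let E' : Module.AEval' φ ≃ₗ[F[X]] (∀ i, F[X] ⧸ F[X] ∙ p i ^ e i) :=
    E.trans (DirectSum.linearEquivFunOnFintype F[X] ι _)
  have hne : ∀ i, p i ^ e i ≠ 0 := fun i => pow_ne_zero _ (hp i).ne_zero
  choose β hadd hsymm hself hsmul hnd using fun i => cyclic_form (p i ^ e i) (hne i)
  let ofφ := Module.AEval'.of φ
  have hC : ∀ (c : F) (u : n → F), ofφ (c • u) = (C c : F[X]) • ofφ u := by
    intro c u
    rw [map_smul, Module.AEval.C_smul]
  have hX : ∀ (u : n → F), ofφ (φ u) = (X : F[X]) • ofφ u := by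
    intro u
    rw [Module.AEval'.X_smul_of]
  let b : (n → F) → (n → F) → F := fun u v => ∑ i, β i (E' (ofφ u) i) (E' (ofφ v) i)
  have bsymm : ∀ u v, b u v = b v u := by
    intro u v
    exact Finset.sum_congr rfl fun i _ => hsymm i _ _
  have badd : ∀ u u' v, b (u + u') v = b u v + b u' v := by
    intro u u' v
    simp only [b, map_add, Pi.add_apply, hadd, Finset.sum_add_distrib]
  have bsmul : ∀ (c : F) u v, b (c • u) v = c • b u v := by
    intro c u v
    simp only [b, hC, map_smul, Pi.smul_apply, hsmul, smul_eq_mul, Finset.mul_sum]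
  have bX : ∀ u v, b (φ u) v = b u (φ v) := by
    intro u v
    simp only [b, hX, map_smul, Pi.smul_apply, hself]
  let B : (n → F) →ₗ[F] (n → F) →ₗ[F] F := LinearMap.mk₂ F b badd bsmul
    (fun u v v' => by rw [bsymm, badd, bsymm v u, bsymm v' u])
    (fun c u v => by rw [bsymm, bsmul, bsymm v u])
  have hB : ∀ u v, B u v = b u v := fun u v => rfl
  have hsep : B.SeparatingLeft := by
    intro u hu
    have h1 : E' (ofφ u) = 0 := by
      funext i
      apply hnd i
      intro w
      have h2 := hu (ofφ.symm (E'.symm (Pi.single i w)))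
      rw [hB] at h2
      simp only [b, LinearEquiv.apply_symm_apply] at h2
      rw [Finset.sum_eq_single i] at h2
      · simpa using h2
      · intro j _ hji
        rw [Pi.single_eq_of_ne hji, hsymm]
        have := hsmul j 0 0 (E' (ofφ u) j)
        simpa using this
      · intro h; exact absurd (Finset.mem_univ i) h
    have h3 : ofφ u = 0 := by simpa using h1
    simpa using h3
  refine ⟨LinearMap.toMatrix₂' F B, ?_, ?_⟩
  · rw [← Matrix.separatingLeft_iff_det_ne_zero, LinearMap.separatingLeft_toMatrix₂'_iff]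
    exact hsep
  · have h1 : B.compl₂ φ = B.comp φ := by
      refine LinearMap.ext fun u => LinearMap.ext fun v => ?_
      simp only [LinearMap.compl₂_apply, LinearMap.comp_apply, hB, bX]
    have h2 := congrArg (LinearMap.toMatrix₂' F) h1
    rw [LinearMap.toMatrix₂'_compl₂, LinearMap.toMatrix₂'_comp, hφ, LinearMap.toMatrix'_toLin'] at h2
    exact h2

/-- Every square matrix over a field is conjugate (in the monoid of matrices) to its transpose. -/
theorem isConj_transpose {n : Type*} [Fintype n] [DecidableEq n] (A : Matrix n n F) :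
    IsConj A A.transpose := by
  obtain ⟨G, hdet, hG⟩ := exists_selfadjoint_form A
  have hu : IsUnit G := (Matrix.isUnit_iff_isUnit_det G).mpr (IsUnit.mk0 _ hdet)
  exact ⟨hu.unit, by simpa [SemiconjBy] using hG⟩


end cyclic
end Cfsg.Agent.Lib.Helper15
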