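/-
helper15: S4481 (helper6's market), common Fourier tools for the leaves FORTH, REG, DEG, SYM:
orthogonality of the characters of `ℤ/2h`, Fourier inversion for `DihData`, and the key sum
`∑ χ, mu χ i * Y χ = (2h)⁻¹ ∑ χ, X χ 0 * Y χ` for every column `Y` orthogonal to the columns `σ^k`,
`0 < k < 2h`.
-/
import Mathlib
import Cfsg.Agent.Lib.Helper6.DihBlkDefs

set_option autoImplicit false

namespace Cfsg.Agent.Lib.Helper15.DIHFou

open Cfsg.Agent.Lib.Helper6.DihBlk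
open scoped ComplexConjugate

variable {B : Type*} [Fintype B] {h : ℕ} {ζ : ℂ}

theorem conj_pow_eq_inv (hh : 2 ≤ h) (hζ : IsPrimitiveRoot ζ (2 * h)) (m : ℕ) :
    conj (ζ ^ m) = (ζ ^ m)⁻¹ := by
  have hn : ‖ζ‖ = 1 := hζ.norm'_eq_one (by omega)
  have h1 : ‖ζ ^ m‖ = 1 := by rw [norm_pow, hn, one_pow]
  exact (Complex.inv_eq_conj h1).symm

/-- orthogonality of the characters of `ℤ/2h` -/
theorem sum_pow_mul_conj (hh : 2 ≤ h) (hζ : IsPrimitiveRoot ζ (2 * h)) (i i' : ℕ) (hi : i < 2 * h)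
    (hi' : i' < 2 * h) :
    ∑ k ∈ Finset.range (2 * h), ζ ^ (i' * k) * conj (ζ ^ (i * k)) =
      if i' = i then ((2 * h : ℕ) : ℂ) else 0 := by
  have hζ0 : ζ ≠ 0 := hζ.ne_zero (by omega)
  have hterm : ∀ k, ζ ^ (i' * k) * conj (ζ ^ (i * k)) = (ζ ^ i' * (ζ ^ i)⁻¹) ^ k := by
    intro k
    rw [conj_pow_eq_inv hh hζ, pow_mul, pow_mul, mul_pow, inv_pow]
  rw [Finset.sum_congr rfl (fun k _ => hterm k)]
  split_ifs with hii
  · rw [hii, mul_inv_cancel₀ (pow_ne_zero _ hζ0)]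
    simp
  · have hw1 : ζ ^ i' * (ζ ^ i)⁻¹ ≠ 1 := by
      intro hw
      apply hii
      have h3 : ζ ^ i' = ζ ^ i := by
        have := congrArg (fun z => z * ζ ^ i) hw
        simpa [mul_assoc, inv_mul_cancel₀ (pow_ne_zero i hζ0)] using this
      exact hζ.pow_inj hi' hi h3
    have hpw : ∀ m : ℕ, (ζ ^ m) ^ (2 * h) = 1 := by
      intro m
      rw [← pow_mul, mul_comm m, pow_mul, hζ.pow_eq_one, one_pow]
    have hwN : (ζ ^ i' * (ζ ^ i)⁻¹) ^ (2 * h) = 1 := by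
      rw [mul_pow, inv_pow, hpw, hpw, inv_one, mul_one]
    rw [geom_sum_eq hw1, hwN, sub_self, zero_div]

/-- Fourier inversion on `ℤ/2h` (own copy of the leaf INV) -/
theorem mu_eq_sum' (hh : 2 ≤ h) (hζ : IsPrimitiveRoot ζ (2 * h)) (D : DihData B h ζ) (χ : B)
    (i : ℕ) (hi : i < 2 * h) :
    (D.mu χ i : ℂ) =
      ((2 * h : ℕ) : ℂ)⁻¹ * ∑ k ∈ Finset.range (2 * h), D.X χ k * conj (ζ ^ (i * k)) := by
  have hN : ((2 * h : ℕ) : ℂ) ≠ 0 := by
    have : 2 * h ≠ 0 := by omega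
    exact_mod_cast this
  have h1 : ∑ k ∈ Finset.range (2 * h), D.X χ k * conj (ζ ^ (i * k)) =
      (D.mu χ i : ℂ) * ((2 * h : ℕ) : ℂ) := by
    have e1 : ∀ k, D.X χ k * conj (ζ ^ (i * k)) =
        ∑ i' ∈ Finset.range (2 * h), (D.mu χ i' : ℂ) * (ζ ^ (i' * k) * conj (ζ ^ (i * k))) := by
      intro k
      rw [D.hexp χ k, Finset.sum_mul]
      apply Finset.sum_congr rfl
      intro i' _
      ring
    rw [Finset.sum_congr rfl (fun k _ => e1 k), Finset.sum_comm]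
    have e2 : ∀ i' ∈ Finset.range (2 * h),
        ∑ k ∈ Finset.range (2 * h), (D.mu χ i' : ℂ) * (ζ ^ (i' * k) * conj (ζ ^ (i * k))) =
          (D.mu χ i' : ℂ) * (if i' = i then ((2 * h : ℕ) : ℂ) else 0) := by
      intro i' hi'
      rw [← Finset.mul_sum, sum_pow_mul_conj hh hζ i i' hi (Finset.mem_range.mp hi')]
    rw [Finset.sum_congr rfl e2, Finset.sum_eq_single i]
    · rw [if_pos rfl]
    · intro i' _ hne
      rw [if_neg hne, mul_zero]
    · intro hni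
      exact absurd (Finset.mem_range.mpr hi) hni
  rw [h1, mul_comm, mul_assoc, mul_inv_cancel₀ hN, mul_one]

/-- the key sum: only the column `k = 0` survives -/
theorem sum_mu_mul (hh : 2 ≤ h) (hζ : IsPrimitiveRoot ζ (2 * h)) (D : DihData B h ζ) (Y : B → ℂ)
    (hY : ∀ k, 0 < k → k < 2 * h → ∑ χ, D.X χ k * Y χ = 0) (i : ℕ) (hi : i < 2 * h) :
    ∑ χ, (D.mu χ i : ℂ) * Y χ = ((2 * h : ℕ) : ℂ)⁻¹ * ∑ χ, D.X χ 0 * Y χ := by
  have e1 : ∀ χ, (D.mu χ i : ℂ) * Y χ = ((2 * h : ℕ) : ℂ)⁻¹ *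
      ∑ k ∈ Finset.range (2 * h), conj (ζ ^ (i * k)) * (D.X χ k * Y χ) := by
    intro χ
    rw [mu_eq_sum' hh hζ D χ i hi, mul_assoc, Finset.sum_mul]
    congr 1
    apply Finset.sum_congr rfl
    intro k _
    ring
  rw [Finset.sum_congr rfl (fun χ _ => e1 χ), ← Finset.mul_sum, Finset.sum_comm]
  congr 1
  rw [Finset.sum_eq_single 0]
  · rw [← Finset.mul_sum, mul_zero, pow_zero, map_one, one_mul]
  · intro k hk hk0
    rw [← Finset.mul_sum, hY k (Nat.pos_of_ne_zero hk0) (Finset.mem_range.mp hk), mul_zero]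
  · intro h0
    exact absurd (Finset.mem_range.mpr (by omega)) h0

/-- the degree is the value at `1` -/
theorem deg_eq_X (D : DihData B h ζ) (χ : B) : (D.deg χ : ℂ) = D.X χ 0 := by
  rw [D.hexp χ 0, DihData.deg, Nat.cast_sum]
  apply Finset.sum_congr rfl
  intro i _
  rw [mul_zero, pow_zero, mul_one]

/-- the degree column is orthogonal (without conjugation) to the columns `σ^k` -/
theorem sum_X_mul_deg (D : DihData B h ζ) (k : ℕ) (hk0 : 0 < k) (hk : k < 2 * h) :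
    ∑ χ, D.X χ k * (D.deg χ : ℂ) = 0 := by
  have h1 := D.horth0 k hk0 hk
  have h3 := congrArg conj h1
  rw [map_sum, map_zero] at h3
  rw [← h3]
  apply Finset.sum_congr rfl
  intro χ _
  rw [map_mul, Complex.conj_conj, ← deg_eq_X, Complex.conj_natCast, mul_comm]

end Cfsg.Agent.Lib.Helper15.DIHFou
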