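/-
helper15: S4481 leaf DEG `deg_facts` (helper6's market): degrees are positive, `deg b₀ = 1`,
`mu b₀ i = [i = 0]`.
-/
import Mathlib
import Cfsg.Agent.Lib.Helper6.DihBlkDefs
import Cfsg.Agent.Lib.Helper15.DIHFou

set_option autoImplicit false
set_option linter.unusedSectionVars false

namespace Cfsg.Agent.Lib.Helper15.DIHDEG

open Cfsg.Agent.Lib.Helper6.DihBlk Cfsg.Agent.Lib.Helper15.DIHFou
open scoped ComplexConjugate

variable {B : Type*} [Fintype B] [DecidableEq B] {h : ℕ} {ζ : ℂ}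

/-- **DEG** degrees are positive and `deg b₀ = 1`, `mu b₀ i = [i = 0]`. -/
theorem deg_facts (hh : 2 ≤ h) (hζ : IsPrimitiveRoot ζ (2 * h)) (D : DihData B h ζ) :
    (∀ χ, 0 < D.deg χ) ∧ D.deg D.b₀ = 1 ∧ D.mu D.b₀ 0 = 1 ∧ ∀ i, 0 < i → i < 2 * h → D.mu D.b₀ i = 0 := by
  have hN : ((2 * h : ℕ) : ℂ) ≠ 0 := by
    have : 2 * h ≠ 0 := by omega
    exact_mod_cast this
  have hmu : ∀ i, i < 2 * h → (D.mu D.b₀ i : ℂ) = if i = 0 then 1 else 0 := by
    intro i hi
    rw [mu_eq_sum' hh hζ D D.b₀ i hi]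
    have e : ∀ k, D.X D.b₀ k * conj (ζ ^ (i * k)) = ζ ^ (0 * k) * conj (ζ ^ (i * k)) := by
      intro k
      rw [D.htriv, zero_mul, pow_zero]
    rw [Finset.sum_congr rfl (fun k _ => e k), sum_pow_mul_conj hh hζ i 0 hi (by omega)]
    by_cases h0 : i = 0
    · rw [if_pos h0, if_pos h0.symm, inv_mul_cancel₀ hN]
    · rw [if_neg h0, if_neg (fun h' => h0 h'.symm), mul_zero]
  have hmu0 : D.mu D.b₀ 0 = 1 := by
    have := hmu 0 (by omega)
    rw [if_pos rfl] at this
    exact_mod_cast this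
  have hmui : ∀ i, 0 < i → i < 2 * h → D.mu D.b₀ i = 0 := by
    intro i hi0 hi
    have := hmu i hi
    rw [if_neg (by omega)] at this
    exact_mod_cast this
  refine ⟨?_, ?_, hmu0, hmui⟩
  · intro χ
    by_contra hd
    have hd0 : D.deg χ = 0 := by omega
    unfold DihData.deg at hd0
    have hall : ∀ i ∈ Finset.range (2 * h), D.mu χ i = 0 := Finset.sum_eq_zero_iff.mp hd0
    apply D.hz χ
    rw [D.hexp χ h]
    apply Finset.sum_eq_zero
    intro i hi
    rw [hall i hi, Nat.cast_zero, zero_mul]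
  · unfold DihData.deg
    rw [Finset.sum_eq_single 0, hmu0]
    · intro i hi hi0
      exact hmui i (Nat.pos_of_ne_zero hi0) (Finset.mem_range.mp hi)
    · intro h0
      exact absurd (Finset.mem_range.mpr (by omega)) h0

end Cfsg.Agent.Lib.Helper15.DIHDEG
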