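/-
helper15: S4481 leaf FORTH `sum_sub_mul_deg` (helper6's market): differences of multiplicity vectors are
orthogonal to the degrees.
-/
import Mathlib
import Cfsg.Agent.Lib.Helper6.DihBlkDefs
import Cfsg.Agent.Lib.Helper15.DIHFou

set_option autoImplicit false
set_option linter.unusedSectionVars false

namespace Cfsg.Agent.Lib.Helper15.DIHFORTH

open Cfsg.Agent.Lib.Helper6.DihBlk Cfsg.Agent.Lib.Helper15.DIHFou
open scoped ComplexConjugate

variable {B : Type*} [Fintype B] [DecidableEq B] {h : ℕ} {ζ : ℂ}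

/-- **FORTH** differences of multiplicity vectors are orthogonal to the degrees. -/
theorem sum_sub_mul_deg (hh : 2 ≤ h) (hζ : IsPrimitiveRoot ζ (2 * h)) (D : DihData B h ζ) (i j : ℕ)
    (hi : i < 2 * h) (hj : j < 2 * h) :
    ∑ χ, ((D.mu χ i : ℤ) - (D.mu χ j : ℤ)) * (D.deg χ : ℤ) = 0 := by
  have hY := sum_X_mul_deg D
  have h1 := sum_mu_mul hh hζ D (fun χ => (D.deg χ : ℂ)) hY i hi
  have h2 := sum_mu_mul hh hζ D (fun χ => (D.deg χ : ℂ)) hY j hj
  have h3 : ((∑ χ, ((D.mu χ i : ℤ) - (D.mu χ j : ℤ)) * (D.deg χ : ℤ) : ℤ) : ℂ) = 0 := by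
    push_cast
    simp only [sub_mul, Finset.sum_sub_distrib]
    rw [h1, h2, sub_self]
  exact_mod_cast h3

end Cfsg.Agent.Lib.Helper15.DIHFORTH
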