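/-
helper15: S4481 leaf REG `sum_sub_mul_reg` (helper6's market): differences of multiplicity vectors are
orthogonal to every column orthogonal to the columns of `σ^k`, `0 < k < 2h`.
-/
import Mathlib
import Cfsg.Agent.Lib.Helper6.DihBlkDefs
import Cfsg.Agent.Lib.Helper15.DIHFou

set_option autoImplicit false
set_option linter.unusedSectionVars false

namespace Cfsg.Agent.Lib.Helper15.DIHREG

open Cfsg.Agent.Lib.Helper6.DihBlk Cfsg.Agent.Lib.Helper15.DIHFou
open scoped ComplexConjugate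

variable {B : Type*} [Fintype B] [DecidableEq B] {h : ℕ} {ζ : ℂ}

/-- **REG** differences of multiplicity vectors are orthogonal to every column orthogonal to the columns of
`σ^k`, `0 < k < 2h` (the 2-regular columns). -/
theorem sum_sub_mul_reg (hh : 2 ≤ h) (hζ : IsPrimitiveRoot ζ (2 * h)) (D : DihData B h ζ) (Y : B → ℂ)
    (hY : ∀ k, 0 < k → k < 2 * h → ∑ χ, D.X χ k * Y χ = 0) (i j : ℕ) (hi : i < 2 * h) (hj : j < 2 * h) :
    ∑ χ, (((D.mu χ i : ℤ) - (D.mu χ j : ℤ) : ℤ) : ℂ) * Y χ = 0 := by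
  have h1 := sum_mu_mul hh hζ D Y hY i hi
  have h2 := sum_mu_mul hh hζ D Y hY j hj
  push_cast
  simp only [sub_mul, Finset.sum_sub_distrib]
  rw [h1, h2, sub_self]

end Cfsg.Agent.Lib.Helper15.DIHREG
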