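/-
helper15: S4481 leaf SYM `mu_symm` (helper6's market) in `_of` form over GRAM: `mu χ (2h - i) = mu χ i`.
-/
import Mathlib
import Cfsg.Agent.Lib.Helper6.DihBlkDefs

set_option autoImplicit false
set_option linter.unusedSectionVars false

namespace Cfsg.Agent.Lib.Helper15.DIHSYM

open Cfsg.Agent.Lib.Helper6.DihBlk
open scoped ComplexConjugate

variable {B : Type*} [Fintype B] [DecidableEq B] {h : ℕ} {ζ : ℂ}

/-- **SYM** in `_of` form: `mu χ (2h - i) = mu χ i` from the Gram matrix (leaf GRAM). -/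
theorem mu_symm_of (hh : 2 ≤ h) (D : DihData B h ζ)
    (hG : ∃ t : ℤ, ∀ i j, i < 2 * h → j < 2 * h →
      ∑ χ, (D.mu χ i : ℤ) * (D.mu χ j : ℤ) =
        t + (if i = j then 1 else 0) + (if (i + j) % (2 * h) = 0 then 1 else 0))
    (χ : B) (i : ℕ) (hi0 : 0 < i) (hi : i < 2 * h) : D.mu χ (2 * h - i) = D.mu χ i := by
  by_cases hih : i = h
  · rw [hih]
    congr 1
    omega
  obtain ⟨t, hG⟩ := hG
  have hi' : 2 * h - i < 2 * h := by omega
  have hne : 2 * h - i ≠ i := by omega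
  have hmod1 : (2 * h - i + i) % (2 * h) = 0 := by
    have : 2 * h - i + i = 2 * h := by omega
    rw [this, Nat.mod_self]
  have hmodne : ∀ a : ℕ, 0 < a → a < 2 * h → a ≠ h → (a + a) % (2 * h) ≠ 0 := by
    intro a ha0 ha hah hmod
    by_cases hlt : a + a < 2 * h
    · rw [Nat.mod_eq_of_lt hlt] at hmod
      omega
    · rw [Nat.mod_eq_sub_mod (by omega), Nat.mod_eq_of_lt (by omega)] at hmod
      omega
  have h11 := hG (2 * h - i) (2 * h - i) hi' hi'
  have h12 := hG (2 * h - i) i hi' hi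
  have h22 := hG i i hi hi
  rw [if_pos rfl, if_neg (hmodne _ (by omega) hi' (by omega))] at h11
  rw [if_neg hne, if_pos hmod1] at h12
  rw [if_pos rfl, if_neg (hmodne _ hi0 hi hih)] at h22
  have hsum : ∑ χ, ((D.mu χ (2 * h - i) : ℤ) - (D.mu χ i : ℤ)) ^ 2 = 0 := by
    have e : ∀ χ, ((D.mu χ (2 * h - i) : ℤ) - (D.mu χ i : ℤ)) ^ 2 =
        (D.mu χ (2 * h - i) : ℤ) * (D.mu χ (2 * h - i) : ℤ) -
          2 * ((D.mu χ (2 * h - i) : ℤ) * (D.mu χ i : ℤ)) + (D.mu χ i : ℤ) * (D.mu χ i : ℤ) := by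
      intro χ
      ring
    rw [Finset.sum_congr rfl (fun χ _ => e χ), Finset.sum_add_distrib, Finset.sum_sub_distrib,
      ← Finset.mul_sum, h11, h12, h22]
    ring
  have hzero := (Finset.sum_eq_zero_iff_of_nonneg (fun χ _ => sq_nonneg _)).mp hsum χ (Finset.mem_univ _)
  have h3 : (D.mu χ (2 * h - i) : ℤ) - (D.mu χ i : ℤ) = 0 := by
    exact pow_eq_zero_iff (two_ne_zero) |>.mp hzero
  have h4 : (D.mu χ (2 * h - i) : ℤ) = (D.mu χ i : ℤ) := sub_eq_zero.mp h3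
  exact_mod_cast h4

end Cfsg.Agent.Lib.Helper15.DIHSYM
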