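/-
helper15: S4481 leaf SYM `mu_symm`, exact form (helper6's market): `mu χ (2h - i) = mu χ i`,
from `DIHSYM.mu_symm_of` and helper9's GRAM.
-/
import Mathlib
import Cfsg.Agent.Lib.Helper6.DihBlkDefs
import Cfsg.Agent.Lib.Helper9.DIHGRAM
import Cfsg.Agent.Lib.Helper15.DIHSYM

set_option autoImplicit false
set_option linter.unusedSectionVars false

namespace Cfsg.Agent.Lib.Helper15.DIHSYMX

open Cfsg.Agent.Lib.Helper6.DihBlk
open scoped ComplexConjugate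

variable {B : Type*} [Fintype B] [DecidableEq B] {h : ℕ} {ζ : ℂ}

/-- **SYM** `mu χ (2h - i) = mu χ i`. -/
theorem mu_symm (hh : 2 ≤ h) (hζ : IsPrimitiveRoot ζ (2 * h)) (D : DihData B h ζ) (χ : B) (i : ℕ)
    (hi0 : 0 < i) (hi : i < 2 * h) : D.mu χ (2 * h - i) = D.mu χ i :=
  Cfsg.Agent.Lib.Helper15.DIHSYM.mu_symm_of hh D (Cfsg.Agent.Lib.Helper9.DIHGRAM.gram hh hζ D) χ i hi0 hi

end Cfsg.Agent.Lib.Helper15.DIHSYMX
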