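/-
DEFECT-ONE CLUSTER, Part O (planner helper27), leaf DO-SUPP `supp_main` (frozen statement in
`notes/S4442_O_leaves.lean`), EXACT: `Helper15.DOSUPPOf.supp_main_of` over helper12's landed DO-VAL `val_main`.
-/
import Mathlib
import Cfsg.Prelude.Def_BlockRank
import Cfsg.Agent.Lib.Helper27.DODefs
import Cfsg.Agent.Lib.Helper27.BlkAlgDefs2
import Cfsg.Agent.Lib.Helper15.DOSUPPOf
import Cfsg.Agent.Lib.Helper12.DOVAL

set_option autoImplicit false

namespace Cfsg.Agent.Lib.Helper15.DOSUPP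

open Cfsg Cfsg.Agent.Lib.Helper8.DOM Cfsg.Agent.Lib.Helper27.DO Cfsg.Agent.Lib.Helper27.BlkAlg
open scoped ComplexConjugate

universe u

variable {G : Type u} [Group G] [Finite G] {p : ℕ} [Fact p.Prime] {M : Ideal AlgInt}
  {P : Subgroup G} {B : Set (IrrCharacter G)} {θ : IrrCharacter (Cz P)} {T : Subgroup G} {x0 : G}

/-- SUPP : no row vanishes. -/
theorem supp_main (c : Ctx p M P B θ T x0) (χ : IrrCharacter G) (hχ : χ ∈ B) :
    ∃ i : (ZMod p)ˣ, muZ p M P θ x0 χ i - muZ p M P θ x0 χ 0 ≠ 0 :=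
  Cfsg.Agent.Lib.Helper15.DOSUPPOf.supp_main_of c (Cfsg.Agent.Lib.Helper12.DOVAL.val_main c) χ hχ

end Cfsg.Agent.Lib.Helper15.DOSUPP
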