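import Mathlib
import Cfsg.Agent.Lib.Helper15.UnBNA
import Cfsg.Agent.Lib.Helper15.IsometryTransport
import Cfsg.Agent.Lib.Helper2.IsomReindex
import Cfsg.Agent.Lib.Helper16.FusSUL

/-!
helper15: the isometry group of the quadratic form `quadFormOdd m F` (odd characteristic) is
isomorphic to the group `GUJ (RingHom.id F) (2 * m + 1)` of the matrices preserving the symmetric
bilinear form with antidiagonal Gram matrix.
-/

set_option autoImplicit false

namespace Cfsg.Agent.Lib.Helper15.OrBN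

open Matrix Cfsg Cfsg.Agent.Lib.Helper15.UnBN
open Cfsg.Agent.Lib.Helper16.FusSU (adj adj_apply adj_eq Jm Jm_apply Jm_mul_Jm st st_apply)

variable {F : Type*} [Field F]

/-! ### the index bijection -/

/-- the index map: the anisotropic coordinate goes to the middle, the hyperbolic pairs to the pairs
`(i, rev i)` -/
def oddIdx (m : ℕ) : Unit ⊕ (Fin m ⊕ Fin m) → Fin (2 * m + 1) :=
  Sum.elim (fun _ => ⟨m, by omega⟩)
    (Sum.elim (fun i => ⟨i.val, by omega⟩) (fun i => ⟨2 * m - i.val, by omega⟩))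

lemma oddIdx_bijective (m : ℕ) : Function.Bijective (oddIdx m) := by
  rw [Fintype.bijective_iff_injective_and_card]
  constructor
  · intro a b h
    have hv := congrArg Fin.val h
    rcases a with _ | i | i <;> rcases b with _ | j | j <;> simp only [oddIdx, Sum.elim_inl,
      Sum.elim_inr] at hv
    · rfl
    · have := j.2; omega
    · have := j.2; omega
    · have := i.2; omega
    · have : i = j := Fin.ext hv
      rw [this]
    · have := i.2; have := j.2; omega
    · have := i.2; omega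
    · have := i.2; have := j.2; omega
    · have : i = j := Fin.ext (by have := i.2; have := j.2; omega)
      rw [this]
  · simp only [Fintype.card_sum, Fintype.card_unit, Fintype.card_fin]
    omega

/-- the index bijection, as an equivalence -/
noncomputable def oddEquiv (m : ℕ) : Unit ⊕ (Fin m ⊕ Fin m) ≃ Fin (2 * m + 1) :=
  Equiv.ofBijective (oddIdx m) (oddIdx_bijective m)

lemma oddEquiv_apply (m : ℕ) (a : Unit ⊕ (Fin m ⊕ Fin m)) : oddEquiv m a = oddIdx m a := rfl

lemma oddIdx_mid_rev (m : ℕ) : (oddIdx m (Sum.inl ())).rev = oddIdx m (Sum.inl ()) := by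
  apply Fin.ext
  rw [Fin.val_rev]
  simp only [oddIdx, Sum.elim_inl]
  omega

lemma oddIdx_inl_rev (m : ℕ) (i : Fin m) :
    (oddIdx m (Sum.inr (Sum.inl i))).rev = oddIdx m (Sum.inr (Sum.inr i)) := by
  apply Fin.ext
  rw [Fin.val_rev]
  simp only [oddIdx, Sum.elim_inl, Sum.elim_inr]
  have := i.2
  omega

lemma oddIdx_inr_rev (m : ℕ) (i : Fin m) :
    (oddIdx m (Sum.inr (Sum.inr i))).rev = oddIdx m (Sum.inr (Sum.inl i)) := by
  rw [← oddIdx_inl_rev, Fin.rev_rev]

/-! ### the quadratic form of the antidiagonal matrix -/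

/-- the quadratic form with antidiagonal Gram matrix -/
def QJ (F : Type*) [Field F] (n : ℕ) (v : Fin n → F) : F := v ⬝ᵥ Jm F n *ᵥ v

lemma QJ_eq (n : ℕ) (v : Fin n → F) : QJ F n v = ∑ j, v j * v j.rev := by
  unfold QJ
  rw [dotProduct]
  apply Finset.sum_congr rfl
  intro j _
  congr 1
  rw [Matrix.mulVec, dotProduct, Finset.sum_eq_single j.rev]
  · rw [Jm_apply, if_pos rfl, one_mul]
  · intro l _ hl
    rw [Jm_apply, if_neg hl, zero_mul]
  · intro h
    exact absurd (Finset.mem_univ _) h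

lemma QJ_split (m : ℕ) (v : Fin (2 * m + 1) → F) :
    QJ F (2 * m + 1) v = v (oddIdx m (Sum.inl ())) ^ 2 +
      2 * ∑ i : Fin m, v (oddIdx m (Sum.inr (Sum.inl i))) * v (oddIdx m (Sum.inr (Sum.inr i))) := by
  rw [QJ_eq, ← (oddIdx_bijective m).sum_comp (fun j => v j * v j.rev), Fintype.sum_sum_type,
    Fintype.sum_sum_type]
  simp only [Finset.univ_unique, Finset.sum_singleton]
  rw [show (default : Unit) = () from rfl, oddIdx_mid_rev]
  have e1 : ∀ i : Fin m, v (oddIdx m (Sum.inr (Sum.inl i))) * v (oddIdx m (Sum.inr (Sum.inl i))).rev =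
      v (oddIdx m (Sum.inr (Sum.inl i))) * v (oddIdx m (Sum.inr (Sum.inr i))) := by
    intro i; rw [oddIdx_inl_rev]
  have e2 : ∀ i : Fin m, v (oddIdx m (Sum.inr (Sum.inr i))) * v (oddIdx m (Sum.inr (Sum.inr i))).rev =
      v (oddIdx m (Sum.inr (Sum.inl i))) * v (oddIdx m (Sum.inr (Sum.inr i))) := by
    intro i; rw [oddIdx_inr_rev, mul_comm]
  rw [Finset.sum_congr rfl (fun i _ => e1 i), Finset.sum_congr rfl (fun i _ => e2 i)]
  ring

/-- the scaling vector -/
noncomputable def oddScale (F : Type*) [Field F] (m : ℕ) (j : Fin (2 * m + 1)) : F :=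
  if m < j.val then (2 : F)⁻¹ else 1

lemma oddScale_mid (m : ℕ) : oddScale F m (oddIdx m (Sum.inl ())) = 1 := by
  unfold oddScale
  rw [if_neg]
  simp only [oddIdx, Sum.elim_inl]
  omega

lemma oddScale_inl (m : ℕ) (i : Fin m) : oddScale F m (oddIdx m (Sum.inr (Sum.inl i))) = 1 := by
  unfold oddScale
  rw [if_neg]
  simp only [oddIdx, Sum.elim_inl, Sum.elim_inr]
  have := i.2
  omega

lemma oddScale_inr (m : ℕ) (i : Fin m) :
    oddScale F m (oddIdx m (Sum.inr (Sum.inr i))) = (2 : F)⁻¹ := by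
  unfold oddScale
  rw [if_pos]
  simp only [oddIdx, Sum.elim_inr]
  have := i.2
  omega

lemma QJ_scale (h2 : (2 : F) ≠ 0) (m : ℕ) (w : Fin (2 * m + 1) → F) :
    QJ F (2 * m + 1) (Matrix.diagonal (oddScale F m) *ᵥ w) =
      Cfsg.quadFormOdd m F (w ∘ oddEquiv m) := by
  rw [QJ_split]
  unfold Cfsg.quadFormOdd
  simp only [Matrix.mulVec_diagonal, Function.comp_apply, oddEquiv_apply, oddScale_mid,
    oddScale_inl, oddScale_inr, one_mul]
  congr 1
  rw [Finset.mul_sum]
  apply Finset.sum_congr rfl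
  intro i _
  field_simp

/-! ### the isometry group of `QJ` -/

lemma Jm_transpose (n : ℕ) : (Jm F n)ᵀ = Jm F n := by
  ext i j
  rw [Matrix.transpose_apply, Jm_apply, Jm_apply]
  by_cases h : i = j.rev
  · rw [if_pos h, if_pos (by rw [h, Fin.rev_rev])]
  · rw [if_neg h, if_neg]
    intro h'
    apply h
    rw [h', Fin.rev_rev]

lemma adj_id_eq (n : ℕ) (M : Matrix (Fin n) (Fin n) F) :
    adj (RingHom.id F) M = Jm F n * Mᵀ * Jm F n := by
  rw [adj_eq]
  rfl

theorem isometryGroup_QJ (h2 : (2 : F) ≠ 0) (n : ℕ) :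
    Cfsg.isometryGroup F (QJ F n) = GUJ (RingHom.id F) n := by
  ext g
  rw [Cfsg.Agent.Lib.Helper15.mem_isometryGroup_iff,
    Cfsg.Agent.Lib.Helper15.isometry_iff_alt (Jm F n) (QJ F n) (fun v => rfl), mem_GUJ, adj_id_eq]
  set A : Matrix (Fin n) (Fin n) F := (g : Matrix (Fin n) (Fin n) F) with hA
  constructor
  · rintro ⟨-, h⟩
    have hsymm : (Aᵀ * Jm F n * A - Jm F n)ᵀ = Aᵀ * Jm F n * A - Jm F n := by
      rw [Matrix.transpose_sub, Matrix.transpose_mul, Matrix.transpose_mul, Matrix.transpose_transpose,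
        Jm_transpose, Matrix.mul_assoc]
    have hD : Aᵀ * Jm F n * A - Jm F n = 0 := by
      ext i j
      have h1 := h i j
      have h3 : (Aᵀ * Jm F n * A - Jm F n) j i = (Aᵀ * Jm F n * A - Jm F n) i j := by
        conv_lhs => rw [← hsymm]
        rfl
      rw [h3] at h1
      have h4 : (2 : F) * (Aᵀ * Jm F n * A - Jm F n) i j = 0 := by linear_combination h1
      rcases mul_eq_zero.mp h4 with h5 | h5
      · exact absurd h5 h2
      · exact h5
    have hE : Aᵀ * Jm F n * A = Jm F n := sub_eq_zero.mp hD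
    have h6 : (Jm F n * Aᵀ * Jm F n) * A = 1 := by
      rw [Matrix.mul_assoc, Matrix.mul_assoc, ← Matrix.mul_assoc Aᵀ, hE, Jm_mul_Jm]
    exact _root_.mul_eq_one_comm.mp h6
  · intro h
    have h6 : (Jm F n * Aᵀ * Jm F n) * A = 1 := _root_.mul_eq_one_comm.mp h
    have hE : Aᵀ * Jm F n * A = Jm F n := by
      have := congrArg (fun M => Jm F n * M) h6
      simp only [Matrix.mul_one] at this
      rw [Matrix.mul_assoc, Matrix.mul_assoc, ← Matrix.mul_assoc (Jm F n), Jm_mul_Jm,
        Matrix.one_mul, ← Matrix.mul_assoc] at this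
      exact this
    rw [hE, sub_self]
    exact ⟨fun i => rfl, fun i j => by simp⟩

/-! ### the isomorphism -/

section iso

variable [Finite F]

instance instFiniteGLIdx {ι : Type} [Fintype ι] [DecidableEq ι] : Finite (GL ι F) :=
  Finite.of_injective (fun g : GL ι F => (g : Matrix ι ι F)) Units.val_injective

/-- the isometry group of `quadFormOdd m F` is isomorphic to the orthogonal group of the
antidiagonal form -/
theorem nonempty_isometry_equiv (h2 : (2 : F) ≠ 0) (m : ℕ) :
    Nonempty (↥(Cfsg.isometryGroup F (Cfsg.quadFormOdd m F)) ≃*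
      ↥(GUJ (RingHom.id F) (2 * m + 1))) := by
  obtain ⟨e1⟩ := Cfsg.Agent.Lib.Helper2.isometryGroup_reindex (F := F) (oddEquiv m)
    (Cfsg.quadFormOdd m F)
  have hd : ∀ j, oddScale F m j ≠ 0 := by
    intro j
    unfold oddScale
    split_ifs
    · exact inv_ne_zero h2
    · exact one_ne_zero
  have hPP' : Matrix.diagonal (oddScale F m) * Matrix.diagonal (fun j => (oddScale F m j)⁻¹) = 1 := by
    rw [Matrix.diagonal_mul_diagonal, ← Matrix.diagonal_one]
    congr 1
    funext j
    exact mul_inv_cancel₀ (hd j)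
  have hP'P : Matrix.diagonal (fun j => (oddScale F m j)⁻¹) * Matrix.diagonal (oddScale F m) = 1 := by
    rw [Matrix.diagonal_mul_diagonal, ← Matrix.diagonal_one]
    congr 1
    funext j
    exact inv_mul_cancel₀ (hd j)
  obtain ⟨Φ, hΦ⟩ := Cfsg.Agent.Lib.Helper15.transport_isometry
    (fun v : Fin (2 * m + 1) → F => Cfsg.quadFormOdd m F (v ∘ oddEquiv m)) (QJ F (2 * m + 1))
    (Matrix.diagonal (oddScale F m)) (Matrix.diagonal (fun j => (oddScale F m j)⁻¹)) hPP' hP'P
    (fun w => QJ_scale h2 m w)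
  obtain ⟨Ψ, hΨ⟩ := Cfsg.Agent.Lib.Helper15.transport_isometry
    (QJ F (2 * m + 1)) (fun v : Fin (2 * m + 1) → F => Cfsg.quadFormOdd m F (v ∘ oddEquiv m))
    (Matrix.diagonal (fun j => (oddScale F m j)⁻¹)) (Matrix.diagonal (oddScale F m)) hP'P hPP'
    (fun w => by
      rw [← QJ_scale h2 m, Matrix.mulVec_mulVec, hPP', Matrix.one_mulVec])
  have hbij : Function.Bijective Φ :=
    hΦ.bijective_of_nat_card_le (Nat.card_le_card_of_injective Ψ hΨ)
  exact ⟨(e1.trans (MulEquiv.ofBijective Φ hbij)).trans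
    (MulEquiv.subgroupCongr (isometryGroup_QJ h2 (2 * m + 1)))⟩

end iso

end Cfsg.Agent.Lib.Helper15.OrBN
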