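import Mathlib
import Cfsg.Agent.Lib.Helper15.UnBNE
import Cfsg.Agent.Lib.Helper15.OrBNE

/-!
helper15: the orthogonal group `OQ F n` of the hyperbolic quadratic form
`∑_{i < rev i} v i * v (rev i)` on `F^n` (`n` even, all characteristics), inside `GL (Fin n) F`:
membership criterion (the matrix preserves the antidiagonal bilinear form and its columns are
singular), root elements, monomial elements, reflections.
-/

set_option autoImplicit false

namespace Cfsg.Agent.Lib.Helper15.DnBN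

open Matrix Equiv Cfsg Cfsg.Agent.Lib.Helper6.GLBN Cfsg.Agent.Lib.Helper15.UnBN
open Cfsg.Agent.Lib.Helper16.FusSU (adj adj_apply adj_eq Jm Jm_apply Jm_mul_Jm)
open Cfsg.Agent.Lib.Helper15.OrBN (Jm_transpose adj_id_eq)

variable {n : ℕ} {F : Type*} [Field F]

/-- the hyperbolic quadratic form -/
def QH (F : Type*) [Field F] (n : ℕ) (v : Fin n → F) : F :=
  ∑ i : Fin n, if i < i.rev then v i * v i.rev else 0

/-- the (non-symmetric) Gram matrix of the hyperbolic quadratic form -/
def LamH (F : Type*) [Field F] (n : ℕ) : Matrix (Fin n) (Fin n) F :=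
  fun i j => if j = i.rev ∧ i < i.rev then 1 else 0

lemma LamH_mulVec (v : Fin n → F) (i : Fin n) :
    (LamH F n *ᵥ v) i = if i < i.rev then v i.rev else 0 := by
  rw [Matrix.mulVec, dotProduct, Finset.sum_eq_single i.rev]
  · unfold LamH
    by_cases h : i < i.rev
    · rw [if_pos ⟨rfl, h⟩, if_pos h, one_mul]
    · rw [if_neg (fun h' => h h'.2), if_neg h, zero_mul]
  · intro l _ hl
    unfold LamH
    rw [if_neg (fun h' => hl h'.1), zero_mul]
  · intro h
    exact absurd (Finset.mem_univ _) h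

lemma QH_eq (v : Fin n → F) : QH F n v = v ⬝ᵥ LamH F n *ᵥ v := by
  unfold QH
  rw [dotProduct]
  apply Finset.sum_congr rfl
  intro i _
  rw [LamH_mulVec]
  split_ifs
  · rfl
  · rw [mul_zero]

lemma ne_rev (hn : Even n) (i : Fin n) : i ≠ i.rev := by
  intro h
  have h1 := congrArg Fin.val h
  rw [Fin.val_rev] at h1
  obtain ⟨r, hr⟩ := hn
  have := i.2
  omega

lemma LamH_add_transpose (hn : Even n) : LamH F n + (LamH F n)ᵀ = Jm F n := by
  ext i j
  rw [Matrix.add_apply, Matrix.transpose_apply, Jm_apply]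
  unfold LamH
  by_cases h : j = i.rev
  · subst h
    rw [if_pos rfl, Fin.rev_rev]
    have hne := ne_rev hn i
    rcases lt_or_gt_of_ne hne with h1 | h1
    · rw [if_pos ⟨rfl, h1⟩, if_neg (fun h' => absurd h'.2 (not_lt.mpr h1.le)), add_zero]
    · rw [if_neg (fun h' => absurd h'.2 (not_lt.mpr h1.le)), if_pos ⟨rfl, h1⟩, zero_add]
  · rw [if_neg h, if_neg (fun h' => h h'.1), if_neg, add_zero]
    rintro ⟨h1, -⟩
    apply h
    rw [h1, Fin.rev_rev]

/-- the orthogonal group of the hyperbolic quadratic form -/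
def OQ (F : Type*) [Field F] (n : ℕ) : Subgroup (GL (Fin n) F) := Cfsg.isometryGroup F (QH F n)

/-- the columns are singular vectors -/
def ColQ (A : Matrix (Fin n) (Fin n) F) : Prop :=
  ∀ j : Fin n, ∑ i : Fin n, (if i < i.rev then A i j * A i.rev j else 0) = 0

lemma diag_LamH (A : Matrix (Fin n) (Fin n) F) (j : Fin n) :
    (Aᵀ * LamH F n * A - LamH F n) j j =
      ∑ i : Fin n, (if i < i.rev then A i j * A i.rev j else 0) := by
  have h0 : LamH F n j j = 0 := by
    unfold LamH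
    rw [if_neg]
    rintro ⟨h1, h2⟩
    rw [← h1] at h2
    exact lt_irrefl _ h2
  rw [Matrix.sub_apply, h0, sub_zero, Matrix.mul_assoc, Matrix.mul_apply]
  apply Finset.sum_congr rfl
  intro i _
  rw [Matrix.transpose_apply]
  have : (LamH F n * A) i j = (LamH F n *ᵥ (fun l => A l j)) i := rfl
  rw [this, LamH_mulVec]
  split_ifs
  · rfl
  · rw [mul_zero]

theorem mem_OQ_iff (hn : Even n) {g : GL (Fin n) F} :
    g ∈ OQ F n ↔ g ∈ GUJ (RingHom.id F) n ∧ ColQ (g : Matrix (Fin n) (Fin n) F) := by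
  unfold OQ
  rw [Cfsg.Agent.Lib.Helper15.mem_isometryGroup_iff,
    Cfsg.Agent.Lib.Helper15.isometry_iff_alt (LamH F n) (QH F n) QH_eq, mem_GUJ, adj_id_eq]
  set A : Matrix (Fin n) (Fin n) F := (g : Matrix (Fin n) (Fin n) F) with hA
  have hM : (Aᵀ * LamH F n * A - LamH F n) + (Aᵀ * LamH F n * A - LamH F n)ᵀ =
      Aᵀ * Jm F n * A - Jm F n := by
    rw [Matrix.transpose_sub, Matrix.transpose_mul, Matrix.transpose_mul,
      Matrix.transpose_transpose, ← LamH_add_transpose hn]
    simp only [Matrix.mul_add, Matrix.add_mul, Matrix.mul_assoc]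
    abel
  have hsum : ∀ i j : Fin n, (Aᵀ * LamH F n * A - LamH F n) i j +
      (Aᵀ * LamH F n * A - LamH F n) j i = (Aᵀ * Jm F n * A - Jm F n) i j := by
    intro i j
    rw [← hM]
    rfl
  have hGU : (∀ i j : Fin n, (Aᵀ * LamH F n * A - LamH F n) i j +
      (Aᵀ * LamH F n * A - LamH F n) j i = 0) ↔ A * (Jm F n * Aᵀ * Jm F n) = 1 := by
    constructor
    · intro h
      have hE : Aᵀ * Jm F n * A = Jm F n := by
        apply sub_eq_zero.mp
        ext i j
        rw [← hsum, h]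
        rfl
      have h6 : (Jm F n * Aᵀ * Jm F n) * A = 1 := by
        rw [Matrix.mul_assoc, Matrix.mul_assoc, ← Matrix.mul_assoc Aᵀ, hE, Jm_mul_Jm]
      exact _root_.mul_eq_one_comm.mp h6
    · intro h i j
      have h6 : (Jm F n * Aᵀ * Jm F n) * A = 1 := _root_.mul_eq_one_comm.mp h
      have hE : Aᵀ * Jm F n * A = Jm F n := by
        have := congrArg (fun M => Jm F n * M) h6
        simp only [Matrix.mul_one] at this
        rw [Matrix.mul_assoc, Matrix.mul_assoc, ← Matrix.mul_assoc (Jm F n), Jm_mul_Jm,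
          Matrix.one_mul, ← Matrix.mul_assoc] at this
        exact this
      rw [hsum, hE, sub_self]
      rfl
  rw [hGU]
  constructor
  · rintro ⟨h1, h2⟩
    refine ⟨h2, fun j => ?_⟩
    rw [← diag_LamH]
    exact h1 j
  · rintro ⟨h1, h2⟩
    refine ⟨fun j => ?_, h1⟩
    rw [diag_LamH]
    exact h2 j

lemma OQ_le_GUJ (hn : Even n) : OQ F n ≤ GUJ (RingHom.id F) n :=
  fun _ hg => ((mem_OQ_iff hn).mp hg).1

local notation "σ₀" => RingHom.id F

/-! ### root elements -/

lemma xsU_apply_ne_zero {p q : Fin n} (hpq : p ≠ q) (hq : q ≠ q.rev) (t : F) {i j : Fin n}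
    (h : ((xsU σ₀ p q hpq t : GL (Fin n) F) : Matrix (Fin n) (Fin n) F) i j ≠ 0) :
    i = j ∨ (i = q.rev ∧ j = p.rev) ∨ (i = p ∧ j = q) := by
  by_contra hcon
  rw [not_or, not_or] at hcon
  apply h
  rw [xsU_apply hpq hq, if_neg hcon.1, if_neg hcon.2.1, if_neg hcon.2.2, add_zero, add_zero]

theorem xsU_mem_OQ (hn : Even n) {p q : Fin n} (hpq : p ≠ q) (hpq' : p ≠ q.rev) (t : F) :
    xsU σ₀ p q hpq t ∈ OQ F n := by
  have hp := ne_rev hn p
  have hq := ne_rev hn q
  rw [mem_OQ_iff hn]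
  refine ⟨xsU_mem (fun _ => rfl) hpq hp hq t, fun j => ?_⟩
  apply Finset.sum_eq_zero
  intro i _
  split_ifs with hi
  · by_contra hne
    have h1 : ((xsU σ₀ p q hpq t : GL (Fin n) F) : Matrix (Fin n) (Fin n) F) i j ≠ 0 :=
      fun e => hne (by rw [e, zero_mul])
    have h2 : ((xsU σ₀ p q hpq t : GL (Fin n) F) : Matrix (Fin n) (Fin n) F) i.rev j ≠ 0 :=
      fun e => hne (by rw [e, mul_zero])
    have c1 := xsU_apply_ne_zero hpq hq t h1
    have c2 := xsU_apply_ne_zero hpq hq t h2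
    have hii := ne_rev hn i
    simp only [Fin.ext_iff, Fin.val_rev, ne_eq] at c1 c2 hpq hpq' hii
    have := i.2
    have := j.2
    have := p.2
    have := q.2
    omega
  · rfl

/-! ### monomial elements -/

theorem monoGL_mem_OQ_iff (hn : Even n) (π : Perm (Fin n)) (c : Fin n → Fˣ) :
    monoGL π c ∈ OQ F n ↔ (∀ a, π a.rev = (π a).rev) ∧ ∀ a, (c a : F) * (c a.rev : F) = 1 := by
  rw [mem_OQ_iff hn, monoGL_mem_GUJ_iff]
  constructor
  · rintro ⟨h, -⟩
    exact h
  · intro h
    refine ⟨h, fun j => ?_⟩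
    apply Finset.sum_eq_zero
    intro i _
    split_ifs with hi
    · rw [coe_monoGL, mono_apply, mono_apply]
      by_cases h1 : i = π j
      · have h2 : ¬ (i.rev = π j) := by
          intro h2
          rw [← h1] at h2
          exact ne_rev hn i h2.symm
        rw [if_neg h2, mul_zero]
      · rw [if_neg h1, zero_mul]
    · rfl

lemma sG_rev_mem_OQ (hn : Even n) (k : Fin n) : (sG k k.rev : GL (Fin n) F) ∈ OQ F n := by
  have h := sG_rev_mem (σ := σ₀) k
  unfold sG at h ⊢
  rw [monoGL_mem_GUJ_iff] at h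
  rw [monoGL_mem_OQ_iff hn]
  exact h

/-- the product of two mirror transpositions commutes with the reversal -/
lemma swap_swap_rev_comm {k k' : Fin n} (h1 : k ≠ k') (h2 : k ≠ k'.rev) (h3 : k ≠ k.rev)
    (h4 : k' ≠ k'.rev) (a : Fin n) :
    (swap k k' * swap k'.rev k.rev) a.rev = ((swap k k' * swap k'.rev k.rev) a).rev := by
  have h5 : k' ≠ k.rev := fun e => h2 (by rw [e, Fin.rev_rev])
  have h6 : k'.rev ≠ k.rev := fun e => h1 (Fin.rev_injective e).symm
  have hR : ∀ x y : Fin n, (Fin.revPerm : Perm (Fin n)) * swap x y =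
      swap x.rev y.rev * Fin.revPerm := by
    intro x y
    rw [Equiv.mul_swap_eq_swap_mul]
    rfl
  have hcomm : (Fin.revPerm : Perm (Fin n)) * (swap k k' * swap k'.rev k.rev) =
      (swap k k' * swap k'.rev k.rev) * Fin.revPerm := by
    rw [← mul_assoc, hR, mul_assoc, hR, Fin.rev_rev, Fin.rev_rev, ← mul_assoc]
    congr 1
    rw [swap_comm k.rev k'.rev, swap_comm k' k]
    refine ((Equiv.Perm.disjoint_swap_swap ?_).commute.eq).symm
    simp only [List.nodup_cons, List.mem_cons, List.not_mem_nil, or_false, not_or, List.nodup_nil,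
      and_true, not_false_eq_true]
    exact ⟨⟨h1, h2, h3⟩, ⟨h4, h5⟩, h6⟩
  have := congrArg (fun τ : Perm (Fin n) => τ a) hcomm
  simp only [Perm.mul_apply, Fin.revPerm_apply] at this
  exact this.symm

theorem sS_mem_OQ (hn : Even n) {k k' : Fin n} (h1 : k ≠ k') (h2 : k ≠ k'.rev) :
    (sS k k' : GL (Fin n) F) ∈ OQ F n := by
  rw [sS_eq_monoGL, monoGL_mem_OQ_iff hn]
  exact ⟨swap_swap_rev_comm h1 h2 (ne_rev hn k) (ne_rev hn k'), fun a => by simp⟩

end Cfsg.Agent.Lib.Helper15.DnBN
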