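import Mathlib

/-!
helper15: a subgroup of odd order normalised by commuting involutions whose common centraliser in
it is trivial lies in the commutator subgroup.
-/

set_option autoImplicit false

namespace Cfsg.Agent.Lib.Helper15.OrBN

variable {G : Type*} [Group G]

/-- splitting an element with respect to an involution `t`: if the commutator `x = u t u⁻¹ t⁻¹` has
odd order, then `(x ^ k)⁻¹ * u` commutes with `t` for a suitable `k` -/
lemma exists_split_of_involution {t u : G} (ht : t * t = 1)
    (hodd : Odd (orderOf (u * t * u⁻¹ * t⁻¹))) :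
    ∃ k : ℕ, t * (((u * t * u⁻¹ * t⁻¹) ^ k)⁻¹ * u) = (((u * t * u⁻¹ * t⁻¹) ^ k)⁻¹ * u) * t := by
  obtain ⟨j, hj⟩ := hodd
  set x : G := u * t * u⁻¹ * t⁻¹ with hx
  have hti : t⁻¹ = t := inv_eq_of_mul_eq_one_right ht
  have hconj : t * x * t⁻¹ = x⁻¹ := by
    have e1 : t * x * t⁻¹ = t * u * t * u⁻¹ * (t * t)⁻¹ := by rw [hx]; group
    have e2 : x⁻¹ = t * u * t⁻¹ * u⁻¹ := by rw [hx]; group
    rw [e1, e2, ht, inv_one, mul_one, hti]
  have hpow : x ^ (2 * j + 1) = 1 := by rw [← hj]; exact pow_orderOf_eq_one x
  refine ⟨j + 1, ?_⟩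
  have h1 : t * (x ^ (j + 1))⁻¹ * t⁻¹ = x ^ (j + 1) := by
    have := conj_pow (a := t) (b := x⁻¹) (i := j + 1)
    rw [inv_pow] at this
    rw [← this]
    have e : t * x⁻¹ * t⁻¹ = x := by
      have := congrArg (fun g => g⁻¹) hconj
      simp only [mul_inv_rev, inv_inv] at this
      rw [← mul_assoc] at this
      exact this
    rw [e]
  have h2 : t * u * t⁻¹ = x⁻¹ * u := by
    rw [hx]; group
  have h3 : x ^ (j + 1) * x⁻¹ = (x ^ (j + 1))⁻¹ := by
    rw [eq_inv_iff_mul_eq_one]
    have : x ^ (j + 1) * x⁻¹ * x ^ (j + 1) = x ^ (2 * j + 1) := by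
      rw [pow_succ x j, mul_inv_cancel_right, ← pow_succ, ← pow_add]
      congr 1; ring
    rw [this, hpow]
  have h4 : t * ((x ^ (j + 1))⁻¹ * u) * t⁻¹ = (x ^ (j + 1))⁻¹ * u := by
    have : t * ((x ^ (j + 1))⁻¹ * u) * t⁻¹ = (t * (x ^ (j + 1))⁻¹ * t⁻¹) * (t * u * t⁻¹) := by
      group
    rw [this, h1, h2, ← mul_assoc, h3]
  have := congrArg (fun g => g * t) h4
  simp only [inv_mul_cancel_right] at this
  exact this

/-- a subgroup all of whose elements have odd order, normalised by a list of commuting involutions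
with trivial common centraliser (more generally: common centraliser inside the commutator
subgroup), lies in the commutator subgroup -/
theorem mem_commutator_of_involutions (U : Subgroup G) (hodd : ∀ u ∈ U, Odd (orderOf u)) :
    ∀ (L : List G) (C : Set G),
      (∀ t ∈ L, t * t = 1) → (∀ t ∈ L, ∀ u ∈ U, t * u * t⁻¹ ∈ U) →
      (∀ s ∈ L, ∀ t ∈ L, s * t = t * s) → (∀ t ∈ L, ∀ s ∈ C, s * t = t * s) →
      (∀ u ∈ U, (∀ s ∈ C, s * u = u * s) → (∀ t ∈ L, t * u = u * t) → u ∈ commutator G) →
      ∀ u ∈ U, (∀ s ∈ C, s * u = u * s) → u ∈ commutator G := by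
  intro L
  induction L with
  | nil =>
    intro C _ _ _ _ hbase u hu hC
    exact hbase u hu hC (fun t ht => absurd ht (List.not_mem_nil))
  | cons t L ih =>
    intro C hinv hnorm hpair hLC hbase u hu hC
    have ht : t * t = 1 := hinv t List.mem_cons_self
    have H1 : ∀ v ∈ U, (∀ s ∈ insert t C, s * v = v * s) → v ∈ commutator G := by
      apply ih (insert t C)
      · intro t' ht'
        exact hinv t' (List.mem_cons_of_mem _ ht')
      · intro t' ht'
        exact hnorm t' (List.mem_cons_of_mem _ ht')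
      · intro s hs t' ht'
        exact hpair s (List.mem_cons_of_mem _ hs) t' (List.mem_cons_of_mem _ ht')
      · intro t' ht' s hs
        rcases Set.mem_insert_iff.mp hs with rfl | hs
        · exact hpair _ List.mem_cons_self t' (List.mem_cons_of_mem _ ht')
        · exact hLC t' (List.mem_cons_of_mem _ ht') s hs
      · intro v hv hvC hvL
        apply hbase v hv
        · intro s hs
          exact hvC s (Set.mem_insert_of_mem _ hs)
        · intro t' ht'
          rcases List.mem_cons.mp ht' with rfl | ht'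
          · exact hvC _ (Set.mem_insert _ _)
          · exact hvL t' ht'
    set x : G := u * t * u⁻¹ * t⁻¹ with hx
    have hxU : x ∈ U := by
      have h1 := hnorm t List.mem_cons_self u⁻¹ (U.inv_mem hu)
      have : x = u * (t * u⁻¹ * t⁻¹) := by rw [hx]; group
      rw [this]
      exact U.mul_mem hu h1
    have hxc : x ∈ commutator G := by
      rw [commutator_def]
      exact Subgroup.commutator_mem_commutator (Subgroup.mem_top u) (Subgroup.mem_top t)
    obtain ⟨k, hk⟩ := exists_split_of_involution ht (hodd x hxU)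
    have hcU : (x ^ k)⁻¹ * u ∈ U := U.mul_mem (U.inv_mem (U.pow_mem hxU k)) hu
    have hcC : (x ^ k)⁻¹ * u ∈ commutator G := by
      apply H1 _ hcU
      intro s hs
      rcases Set.mem_insert_iff.mp hs with rfl | hs
      · exact hk
      · have c1 : Commute s u := hC s hs
        have c2 : Commute s t := hLC t List.mem_cons_self s hs
        have c3 : Commute s x :=
          ((c1.mul_right c2).mul_right c1.inv_right).mul_right c2.inv_right
        exact ((c3.pow_right k).inv_right.mul_right c1).eq
    have : u = x ^ k * ((x ^ k)⁻¹ * u) := by group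
    rw [this]
    exact Subgroup.mul_mem _ (Subgroup.pow_mem _ hxc k) hcC

end Cfsg.Agent.Lib.Helper15.OrBN
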