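import Mathlib
import Cfsg.Agent.Lib.Helper15.UnBNJ
import Cfsg.Agent.Lib.Helper15.OrBNA
import Cfsg.Agent.Lib.Helper18.PSLnUnitri

/-!
helper15: the orthogonal group `GUJ (RingHom.id F) n` of the antidiagonal symmetric form in odd
characteristic: the unitriangular subgroup is a `p`-group and lies in the commutator subgroup
(diagonal involutions with trivial common centraliser).
-/

set_option autoImplicit false

namespace Cfsg.Agent.Lib.Helper15.OrBN

open Matrix Equiv Cfsg Cfsg.Agent.Lib.Helper6.GLBN Cfsg.Agent.Lib.Helper6.GLSt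
  Cfsg.Agent.Lib.Helper15.UnBN
open Cfsg.Agent.Lib.Helper18.PSLnAut (IsUni unitri mem_unitri isPGroup_unitri)
open Cfsg.Agent.Lib.Helper15.UnBN (sum_eq_two)

variable {n : ℕ} {F : Type*} [Field F] {σ : F →+* F}

/-! ### the unitriangular group is a `p`-group -/

section pgroup

variable [Fintype F] (p : ℕ) [Fact p.Prime] [CharP F p]

/-- the embedding of the unitriangular group of `GUJ` into that of `SL` -/
def UGtoUni (σ : F →+* F) (n : ℕ) : UG σ n →* unitri n F where
  toFun g := ⟨⟨((g : ↥(GUJ σ n)) : GL (Fin n) F).1,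
    IsUni.det ⟨fun i j hji => (mem_Bup.mp g.2.1) i j hji, g.2.2⟩⟩,
    ⟨fun i j hji => (mem_Bup.mp g.2.1) i j hji, g.2.2⟩⟩
  map_one' := rfl
  map_mul' _ _ := rfl

lemma UGtoUni_injective : Function.Injective (UGtoUni σ n) := by
  intro a b h
  have h1 : ((a : ↥(GUJ σ n)) : GL (Fin n) F).1 = ((b : ↥(GUJ σ n)) : GL (Fin n) F).1 :=
    congrArg (fun u : unitri n F =>
      ((u : SpecialLinearGroup (Fin n) F) : Matrix (Fin n) (Fin n) F)) h
  exact Subtype.ext (Subtype.ext (Units.ext h1))

theorem isPGroup_UG : IsPGroup p (UG σ n) :=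
  (isPGroup_unitri (n := n) (F := F) p).of_injective (UGtoUni σ n) UGtoUni_injective

/-- in odd characteristic the elements of the unitriangular group have odd order -/
theorem odd_orderOf_of_mem_UG (hp2 : p ≠ 2) {u : ↥(GUJ σ n)} (hu : u ∈ UG σ n) :
    Odd (orderOf u) := by
  have hp : p.Prime := Fact.out
  obtain ⟨k, hk⟩ := (isPGroup_UG (σ := σ) (n := n) p) ⟨u, hu⟩
  have h1 : u ^ p ^ k = 1 := by
    have := congrArg (fun x : UG σ n => (x : ↥(GUJ σ n))) hk
    exact this
  have h2 : orderOf u ∣ p ^ k := orderOf_dvd_of_pow_eq_one h1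
  have hodd : Odd (p ^ k) := (hp.odd_of_ne_two hp2).pow
  exact Odd.of_dvd_nat hodd h2

end pgroup

/-! ### conjugation of the unitriangular group by the Borel subgroup -/

lemma UG_conj_mem {b u : ↥(GUJ σ n)} (hb : b ∈ BG σ n) (hu : u ∈ UG σ n) :
    b * u * b⁻¹ ∈ UG σ n := by
  have hb' := mem_BG.mp hb
  refine ⟨Subgroup.mul_mem _ (Subgroup.mul_mem _ hb' hu.1) (Subgroup.inv_mem _ hb'), fun i => ?_⟩
  show ((((b : GL (Fin n) F) * (u : GL (Fin n) F) * (b : GL (Fin n) F)⁻¹ :
    GL (Fin n) F)) : Matrix (Fin n) (Fin n) F) i i = 1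
  rw [Bup_mul_diag (Subgroup.mul_mem _ hb' hu.1) (Subgroup.inv_mem _ hb'),
    Bup_mul_diag hb' hu.1, hu.2 i, mul_one, mul_comm]
  exact Bup_inv_diag hb' i

/-! ### the diagonal involutions -/

/-- the coefficients of the diagonal involution attached to `i` -/
def tIc (F : Type*) [Field F] (i : Fin n) (j : Fin n) : Fˣ := if j = i ∨ j = i.rev then -1 else 1

/-- the diagonal involution with the entries `-1` at the positions `i` and `i.rev` -/
def tI (F : Type*) [Field F] (i : Fin n) : GL (Fin n) F := monoGL 1 (tIc F i)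

lemma tIc_rev (i j : Fin n) : tIc F i j.rev = tIc F i j := by
  unfold tIc
  have e : (j.rev = i ∨ j.rev = i.rev) ↔ (j = i ∨ j = i.rev) := by
    constructor
    · rintro (h | h)
      · right; rw [← h, Fin.rev_rev]
      · left; exact Fin.rev_injective h
    · rintro (h | h)
      · right; rw [h]
      · left; rw [h, Fin.rev_rev]
  by_cases h : j = i ∨ j = i.rev
  · rw [if_pos h, if_pos (e.mpr h)]
  · rw [if_neg h, if_neg (fun h' => h (e.mp h'))]

lemma tIc_mul_self (i j : Fin n) : tIc F i j * tIc F i j = 1 := by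
  unfold tIc
  split_ifs <;> simp

lemma tI_mem (i : Fin n) : tI F i ∈ GUJ σ n := by
  unfold tI
  rw [monoGL_mem_GUJ_iff]
  refine ⟨fun a => rfl, fun a => ?_⟩
  rw [tIc_rev]
  have h := tIc_mul_self (F := F) i a
  unfold tIc at h ⊢
  split_ifs <;> simp

lemma tI_mul_self (i : Fin n) : tI F i * tI F i = 1 := by
  unfold tI
  rw [monoGL_mul, mul_one, ← monoGL_one]
  congr 1
  funext j
  exact tIc_mul_self i j

lemma tI_comm (i j : Fin n) : tI F i * tI F j = tI F j * tI F i := by
  unfold tI
  rw [monoGL_mul, monoGL_mul]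
  congr 1
  funext l
  exact mul_comm _ _

lemma tI_mem_Bup (i : Fin n) : tI F i ∈ Bup n F := by
  unfold tI
  rw [monoGL_mem_Bup_iff]

lemma tI_mul_apply (i : Fin n) (X : GL (Fin n) F) (a b : Fin n) :
    ((tI F i * X : GL (Fin n) F) : Matrix (Fin n) (Fin n) F) a b =
      (tIc F i a : F) * (X : Matrix (Fin n) (Fin n) F) a b := by
  unfold tI
  rw [Units.val_mul, coe_monoGL, mono_mul_apply]
  rfl

lemma mul_tI_apply (i : Fin n) (X : GL (Fin n) F) (a b : Fin n) :
    ((X * tI F i : GL (Fin n) F) : Matrix (Fin n) (Fin n) F) a b =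
      (X : Matrix (Fin n) (Fin n) F) a b * (tIc F i b : F) := by
  unfold tI
  rw [Units.val_mul, coe_monoGL, mul_mono_apply]
  rfl

/-- an element commuting with the diagonal involutions has non-zero entries only at the positions
`(a, a)` and `(a, a.rev)` -/
lemma entry_zero_of_comm (h2 : (2 : F) ≠ 0) {X : GL (Fin n) F}
    (h : ∀ i : Fin n, tI F i * X = X * tI F i) {a b : Fin n} (hab : b ≠ a) (hab' : b ≠ a.rev) :
    (X : Matrix (Fin n) (Fin n) F) a b = 0 := by
  have h1 := congrArg (fun Y : GL (Fin n) F => (Y : Matrix (Fin n) (Fin n) F) a b) (h a)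
  beta_reduce at h1
  rw [tI_mul_apply, mul_tI_apply] at h1
  have e1 : (tIc F a a : F) = -1 := by
    unfold tIc
    rw [if_pos (Or.inl rfl)]
    simp
  have e2 : (tIc F a b : F) = 1 := by
    unfold tIc
    rw [if_neg]
    · simp
    · rintro (h | h)
      · exact hab h
      · exact hab' h
  rw [e1, e2, mul_one] at h1
  have h3 : (2 : F) * (X : Matrix (Fin n) (Fin n) F) a b = 0 := by linear_combination -h1
  rcases mul_eq_zero.mp h3 with h4 | h4
  · exact absurd h4 h2
  · exact h4

/-- the common centraliser of the diagonal involutions in the unitriangular subgroup of the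
orthogonal group is trivial -/
lemma eq_one_of_comm_tI (h2 : (2 : F) ≠ 0) {u : ↥(GUJ (RingHom.id F) n)}
    (hu : u ∈ UG (RingHom.id F) n)
    (h : ∀ i : Fin n, tI F i * (u : GL (Fin n) F) = (u : GL (Fin n) F) * tI F i) : u = 1 := by
  apply eq_one_of_offdiag hu
  intro a b hab
  by_cases hb : b = a.rev
  · subst hb
    have hrel := row_relation u.2 (k := a) hab
    rw [sum_eq_two a a.rev hab] at hrel
    · rw [Fin.rev_rev, hu.2 a] at hrel
      simp only [RingHom.id_apply, one_mul, mul_one] at hrel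
      have h3 : (2 : F) * ((u : GL (Fin n) F) : Matrix (Fin n) (Fin n) F) a a.rev = 0 := by
        linear_combination hrel
      rcases mul_eq_zero.mp h3 with h4 | h4
      · exact absurd h4 h2
      · exact h4
    · intro l hl1 hl2
      rw [entry_zero_of_comm h2 h hl1 hl2, zero_mul]
  · exact entry_zero_of_comm h2 h (Ne.symm hab) hb

/-- the list of the diagonal involutions -/
def tList (F : Type*) [Field F] (σ : F →+* F) (n : ℕ) : List ↥(GUJ σ n) :=
  (List.finRange n).map (fun i => (⟨tI F i, tI_mem i⟩ : ↥(GUJ σ n)))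

lemma mem_tList {t : ↥(GUJ σ n)} (ht : t ∈ tList F σ n) :
    ∃ i : Fin n, t = ⟨tI F i, tI_mem i⟩ := by
  unfold tList at ht
  rw [List.mem_map] at ht
  obtain ⟨i, -, hi⟩ := ht
  exact ⟨i, hi.symm⟩

lemma tI_mem_tList (i : Fin n) : (⟨tI F i, tI_mem i⟩ : ↥(GUJ σ n)) ∈ tList F σ n := by
  unfold tList
  rw [List.mem_map]
  exact ⟨i, List.mem_finRange i, rfl⟩

/-- in odd characteristic, the unitriangular subgroup of the orthogonal group lies in the
commutator subgroup -/
theorem UG_le_commutator [Fintype F] (p : ℕ) [Fact p.Prime] [CharP F p] (hp2 : p ≠ 2)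
    (h2 : (2 : F) ≠ 0) :
    UG (RingHom.id F) n ≤ commutator ↥(GUJ (RingHom.id F) n) := by
  intro u hu
  apply mem_commutator_of_involutions (UG (RingHom.id F) n)
    (fun v hv => odd_orderOf_of_mem_UG p hp2 hv) (tList F (RingHom.id F) n) ∅
  · intro t ht
    obtain ⟨i, rfl⟩ := mem_tList ht
    apply Subtype.ext
    exact tI_mul_self i
  · intro t ht v hv
    obtain ⟨i, rfl⟩ := mem_tList ht
    apply UG_conj_mem _ hv
    rw [mem_BG]
    exact tI_mem_Bup i
  · intro s hs t ht
    obtain ⟨i, rfl⟩ := mem_tList hs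
    obtain ⟨j, rfl⟩ := mem_tList ht
    apply Subtype.ext
    exact tI_comm i j
  · intro t _ s hs
    exact absurd hs (Set.notMem_empty s)
  · intro v hv _ hL
    have : v = 1 := by
      apply eq_one_of_comm_tI h2 hv
      intro i
      have := hL _ (tI_mem_tList (σ := RingHom.id F) i)
      exact congrArg (fun x : ↥(GUJ (RingHom.id F) n) => (x : GL (Fin n) F)) this
    rw [this]
    exact Subgroup.one_mem _
  · exact hu
  · intro s hs
    exact absurd hs (Set.notMem_empty s)

end Cfsg.Agent.Lib.Helper15.OrBN
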