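import Mathlib
import Cfsg.Agent.Lib.Helper15.SpBNA
import Cfsg.Agent.Lib.Helper14.SpPerfect
import Cfsg.Agent.Lib.Helper5.SympGen2

/-!
helper15: the isomorphism `SpG m F ≃* Matrix.symplecticGroup (Fin m) F` and the symplectic
transvections inside `SpG m F`.
-/

set_option autoImplicit false

namespace Cfsg.Agent.Lib.Helper15.SpBN

open Matrix Equiv Cfsg.Agent.Lib.Helper6.GLBN

variable {m : ℕ} {F : Type*} [Field F]

/-- the index bijection: `inl i ↦ i`, `inr i ↦ 2m - 1 - i` -/
def idx (m : ℕ) : Fin m ⊕ Fin m ≃ Fin (m + m) :=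
  (Equiv.sumCongr (Equiv.refl _) Fin.revPerm).trans finSumFinEquiv

lemma idx_inl_val (i : Fin m) : (idx m (Sum.inl i)).val = i.val := by
  simp [idx]

lemma idx_inr_val (i : Fin m) : (idx m (Sum.inr i)).val = m + (m - 1 - i.val) := by
  simp [idx, Fin.val_rev]
  omega

lemma rev_idx_inl (i : Fin m) : (idx m (Sum.inl i)).rev = idx m (Sum.inr i) := by
  apply Fin.ext
  rw [Fin.val_rev, idx_inl_val, idx_inr_val]
  have := i.2
  omega

lemma rev_idx_inr (i : Fin m) : (idx m (Sum.inr i)).rev = idx m (Sum.inl i) := by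
  rw [← rev_idx_inl, Fin.rev_rev]

lemma eta_idx_inl (i : Fin m) : eta m F (idx m (Sum.inl i)) = -1 := by
  apply eta_of_lt
  rw [idx_inl_val]
  exact i.2

lemma eta_idx_inr (i : Fin m) : eta m F (idx m (Sum.inr i)) = 1 := by
  apply eta_of_ge
  rw [idx_inr_val]
  omega

/-- the Gram matrices correspond -/
lemma J_eq_submatrix : Matrix.J (Fin m) F = (Om m F).submatrix (idx m) (idx m) := by
  ext x y
  rw [Matrix.submatrix_apply, Om_apply]
  rcases x with i | i <;> rcases y with j | j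
  · rw [rev_idx_inl, if_neg (by simp), Matrix.J, Matrix.fromBlocks_apply₁₁, Matrix.zero_apply]
  · rw [rev_idx_inl, eta_idx_inl, Matrix.J, Matrix.fromBlocks_apply₁₂, Matrix.neg_apply,
      Matrix.one_apply]
    by_cases h : i = j
    · subst h
      rw [if_pos rfl, if_pos rfl]
    · rw [if_neg h, if_neg, neg_zero]
      intro h1
      apply h
      have := (idx m).injective h1
      exact (Sum.inr.inj this).symm
  · rw [rev_idx_inr, eta_idx_inr, Matrix.J, Matrix.fromBlocks_apply₂₁, Matrix.one_apply]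
    by_cases h : i = j
    · subst h
      rw [if_pos rfl, if_pos rfl]
    · rw [if_neg h, if_neg]
      intro h1
      apply h
      have := (idx m).injective h1
      exact (Sum.inl.inj this).symm
  · rw [rev_idx_inr, if_neg (by simp), Matrix.J, Matrix.fromBlocks_apply₂₂, Matrix.zero_apply]

lemma Om_eq_submatrix : Om m F = (Matrix.J (Fin m) F).submatrix (idx m).symm (idx m).symm := by
  rw [J_eq_submatrix]
  ext i j
  simp

/-- from `SpG` to Mathlib's symplectic group -/
def toSp (m : ℕ) (F : Type*) [Field F] : ↥(SpG m F) →* ↥(Matrix.symplecticGroup (Fin m) F) where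
  toFun g := ⟨((g : GL (Fin (m + m)) F) : Matrix (Fin (m + m)) (Fin (m + m)) F).submatrix
      (idx m) (idx m), by
    rw [SymplecticGroup.mem_iff, J_eq_submatrix, Matrix.transpose_submatrix,
      Matrix.submatrix_mul_equiv, Matrix.submatrix_mul_equiv]
    congr 1
    exact g.2⟩
  map_one' := by
    apply Subtype.ext
    show ((1 : GL (Fin (m + m)) F) : Matrix (Fin (m + m)) (Fin (m + m)) F).submatrix
      (idx m) (idx m) = 1
    rw [Units.val_one, Matrix.submatrix_one_equiv]
  map_mul' := by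
    intro a b
    apply Subtype.ext
    show (((a * b : ↥(SpG m F)) : GL (Fin (m + m)) F) : Matrix (Fin (m + m)) (Fin (m + m)) F).submatrix (idx m) (idx m) =
      ((a : GL (Fin (m + m)) F) : Matrix (Fin (m + m)) (Fin (m + m)) F).submatrix (idx m) (idx m) *
      ((b : GL (Fin (m + m)) F) : Matrix (Fin (m + m)) (Fin (m + m)) F).submatrix (idx m) (idx m)
    rw [Matrix.submatrix_mul_equiv]
    rfl

lemma toSp_coe (g : ↥(SpG m F)) :
    ((toSp m F g : ↥(Matrix.symplecticGroup (Fin m) F)) :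
      Matrix (Fin m ⊕ Fin m) (Fin m ⊕ Fin m) F) =
    ((g : GL (Fin (m + m)) F) : Matrix (Fin (m + m)) (Fin (m + m)) F).submatrix (idx m) (idx m) :=
  rfl

lemma toSp_injective : Function.Injective (toSp m F) := by
  intro a b h
  have h1 := congrArg Subtype.val h
  rw [toSp_coe, toSp_coe] at h1
  apply Subtype.ext
  apply Units.ext
  ext i j
  have h2 := congrFun (congrFun h1 ((idx m).symm i)) ((idx m).symm j)
  simpa using h2

lemma toSp_surjective : Function.Surjective (toSp m F) := by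
  intro A
  have h1 : (A : Matrix (Fin m ⊕ Fin m) (Fin m ⊕ Fin m) F) *
      ((A⁻¹ : ↥(Matrix.symplecticGroup (Fin m) F)) : Matrix (Fin m ⊕ Fin m) (Fin m ⊕ Fin m) F) = 1 := by
    rw [← Submonoid.coe_mul, mul_inv_cancel]
    rfl
  have h2 : ((A⁻¹ : ↥(Matrix.symplecticGroup (Fin m) F)) :
      Matrix (Fin m ⊕ Fin m) (Fin m ⊕ Fin m) F) *
      (A : Matrix (Fin m ⊕ Fin m) (Fin m ⊕ Fin m) F) = 1 := by
    rw [← Submonoid.coe_mul, inv_mul_cancel]
    rfl
  let g : GL (Fin (m + m)) F :=
    ⟨(A : Matrix (Fin m ⊕ Fin m) (Fin m ⊕ Fin m) F).submatrix (idx m).symm (idx m).symm,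
      ((A⁻¹ : ↥(Matrix.symplecticGroup (Fin m) F)) :
        Matrix (Fin m ⊕ Fin m) (Fin m ⊕ Fin m) F).submatrix (idx m).symm (idx m).symm,
      by rw [Matrix.submatrix_mul_equiv, h1, Matrix.submatrix_one_equiv],
      by rw [Matrix.submatrix_mul_equiv, h2, Matrix.submatrix_one_equiv]⟩
  have hg : g ∈ SpG m F := by
    rw [mem_SpG, Om_eq_submatrix]
    show (A : Matrix (Fin m ⊕ Fin m) (Fin m ⊕ Fin m) F).submatrix (idx m).symm (idx m).symm *
      (Matrix.J (Fin m) F).submatrix (idx m).symm (idx m).symm *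
      ((A : Matrix (Fin m ⊕ Fin m) (Fin m ⊕ Fin m) F).submatrix (idx m).symm (idx m).symm)ᵀ = _
    rw [Matrix.transpose_submatrix, Matrix.submatrix_mul_equiv, Matrix.submatrix_mul_equiv]
    congr 1
    exact (SymplecticGroup.mem_iff.mp A.2)
  refine ⟨⟨g, hg⟩, ?_⟩
  apply Subtype.ext
  rw [toSp_coe]
  ext x y
  simp [g]

/-- the isomorphism with Mathlib's symplectic group -/
noncomputable def toSpEquiv (m : ℕ) (F : Type*) [Field F] :
    ↥(SpG m F) ≃* ↥(Matrix.symplecticGroup (Fin m) F) :=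
  MulEquiv.ofBijective (toSp m F) ⟨toSp_injective, toSp_surjective⟩

lemma toSpEquiv_apply (g : ↥(SpG m F)) : toSpEquiv m F g = toSp m F g := rfl

lemma coe_symm_apply (A : ↥(Matrix.symplecticGroup (Fin m) F)) (i j : Fin (m + m)) :
    ((((toSpEquiv m F).symm A : ↥(SpG m F)) : GL (Fin (m + m)) F) : Matrix (Fin (m + m)) (Fin (m + m)) F) i j =
      (A : Matrix (Fin m ⊕ Fin m) (Fin m ⊕ Fin m) F) ((idx m).symm i) ((idx m).symm j) := by
  have h : toSp m F ((toSpEquiv m F).symm A) = A := (toSpEquiv m F).apply_symm_apply A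
  have h1 := congrArg Subtype.val h
  rw [toSp_coe] at h1
  have h2 := congrFun (congrFun h1 ((idx m).symm i)) ((idx m).symm j)
  simpa using h2


/-! ### symplectic transvections in `SpG` -/

open Cfsg.Agent.Lib.Helper14.SpPerfect Cfsg.Agent.Lib.Helper5

lemma Om_mulVec (u : Fin (m + m) → F) (i : Fin (m + m)) :
    (Om m F *ᵥ u) i = eta m F i * u i.rev := by
  rw [Matrix.mulVec, dotProduct, Finset.sum_eq_single i.rev]
  · rw [Om_apply, if_pos rfl]
  · intro k _ hk
    rw [Om_apply, if_neg hk, zero_mul]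
  · intro h; exact absurd (Finset.mem_univ _) h

lemma J_mulVec_comp (v : Fin (m + m) → F) (y : Fin m ⊕ Fin m) :
    (Matrix.J (Fin m) F *ᵥ (v ∘ idx m)) y = eta m F (idx m y) * v (idx m y).rev := by
  rw [J_eq_submatrix, ← Om_mulVec]
  rw [Matrix.mulVec, Matrix.mulVec, dotProduct, dotProduct]
  rw [← Equiv.sum_comp (idx m)]
  rfl

/-- the symplectic transvection along `v`, as an element of `SpG` -/
noncomputable def tv (v : Fin (m + m) → F) (c : F) : ↥(SpG m F) :=
  (toSpEquiv m F).symm (Tr (v ∘ idx m) c)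

lemma toSpEquiv_tv (v : Fin (m + m) → F) (c : F) : toSpEquiv m F (tv v c) = Tr (v ∘ idx m) c :=
  (toSpEquiv m F).apply_symm_apply _

lemma tv_apply (v : Fin (m + m) → F) (c : F) (i j : Fin (m + m)) :
    (((tv v c : ↥(SpG m F)) : GL (Fin (m + m)) F) : Matrix (Fin (m + m)) (Fin (m + m)) F) i j =
      (if i = j then 1 else 0) + c * (v i * (eta m F j * v j.rev)) := by
  unfold tv
  rw [coe_symm_apply]
  show Cfsg.sympTransvection m (v ∘ idx m) c ((idx m).symm i) ((idx m).symm j) = _
  unfold Cfsg.sympTransvection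
  rw [Matrix.add_apply, Matrix.smul_apply, Matrix.vecMulVec_apply, J_mulVec_comp, Matrix.one_apply,
    smul_eq_mul]
  simp only [Function.comp_apply, Equiv.apply_symm_apply, EmbeddingLike.apply_eq_iff_eq]

lemma submatrix_mulVec_comp (M : Matrix (Fin (m + m)) (Fin (m + m)) F) (v : Fin (m + m) → F) :
    (M.submatrix (idx m) (idx m)) *ᵥ (v ∘ idx m) = (M *ᵥ v) ∘ idx m := by
  ext x
  rw [Function.comp_apply, Matrix.mulVec, Matrix.mulVec, dotProduct, dotProduct,
    ← Equiv.sum_comp (idx m)]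
  rfl

/-- conjugation of transvections -/
lemma conj_tv (h : ↥(SpG m F)) (v : Fin (m + m) → F) (c : F) :
    h * tv v c * h⁻¹ =
      tv (((h : GL (Fin (m + m)) F) : Matrix (Fin (m + m)) (Fin (m + m)) F) *ᵥ v) c := by
  apply (toSpEquiv m F).injective
  rw [map_mul, map_mul, map_inv, toSpEquiv_tv, toSpEquiv_tv, conj_Tr, toSpEquiv_apply, toSp_coe,
    submatrix_mulVec_comp]

/-- a subgroup containing all transvections is everything -/
lemma eq_top_of_tv_mem (H : Subgroup ↥(SpG m F)) (h : ∀ v c, tv v c ∈ H) : H = ⊤ := by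
  rw [eq_top_iff]
  intro g _
  have h1 : toSpEquiv m F g ∈ transvGroup m F := by
    rw [transvGroup_eq_top]
    trivial
  have h2 : transvGroup m F ≤ H.map (toSpEquiv m F).toMonoidHom := by
    unfold transvGroup
    rw [Subgroup.closure_le]
    rintro A ⟨w, c, hA⟩
    refine ⟨tv (w ∘ (idx m).symm) c, h _ _, ?_⟩
    show toSpEquiv m F (tv (w ∘ (idx m).symm) c) = A
    rw [toSpEquiv_tv]
    apply Subtype.ext
    rw [hA]
    have : (w ∘ (idx m).symm) ∘ idx m = w := by
      ext x
      simp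
    rw [this]
    rfl
  obtain ⟨g', hg', hgg'⟩ := h2 h1
  have : g' = g := (toSpEquiv m F).injective hgg'
  rw [← this]
  exact hg'

end Cfsg.Agent.Lib.Helper15.SpBN
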