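/-
helper15: the (B,N)-pair of the symplectic group `SpG m F`: generation by `B` and `N`, and the
(B,N)-pair itself.
-/
import Mathlib
import Cfsg.Agent.Lib.Helper15.SpBND
import Cfsg.Agent.Lib.Helper15.SpBNB

set_option autoImplicit false

namespace Cfsg.Agent.Lib.Helper15.SpBN

open Matrix Equiv Cfsg.Agent.Lib.Helper6.GLBN

variable {m : ℕ} {F : Type*} [Field F]

lemma tv_mem_of_conj {H : Subgroup ↥(SpG m F)} {h : ↥(SpG m F)} (hh : h ∈ H)
    {v : Fin (m + m) → F} {c : F}
    (ht : tv (((h : GL (Fin (m + m)) F) : Matrix (Fin (m + m)) (Fin (m + m)) F) *ᵥ v) c ∈ H) :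
    tv v c ∈ H := by
  have h1 := conj_tv h v c
  have e : tv v c = h⁻¹ * (h * tv v c * h⁻¹) * h := by group
  rw [e, h1]
  exact H.mul_mem (H.mul_mem (H.inv_mem hh) ht) hh

lemma tv_mem_BG_of_first_half {v : Fin (m + m) → F} (hv : ∀ l : Fin (m + m), m ≤ l.val → v l = 0)
    (c : F) : tv v c ∈ BG m F := by
  rw [mem_BG, mem_Bup]
  intro i j hji
  rw [tv_apply, if_neg (ne_of_gt hji), zero_add]
  by_cases hi : m ≤ i.val
  · rw [hv i hi]; ring
  · have : m ≤ j.rev.val := by
      rw [Fin.val_rev]; rw [Fin.lt_def] at hji; have := i.2; omega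
    rw [hv _ this]; ring

lemma bubble_step (H : Subgroup ↥(SpG m F)) (r : ℕ) (j j' : Fin (m + m)) (hj' : j'.val = r)
    (hj : j.val + 1 = r) (X Y : F → ↥(SpG m F)) (hX : ∀ t, X t ∈ H) (hY : ∀ u, Y u ∈ H)
    (ε ε' : F) (hε : ε ≠ 0) (hε' : ε' ≠ 0)
    (hXv : ∀ (t : F) (v : Fin (m + m) → F), (∀ l : Fin (m + m), r < l.val → v l = 0) →
      (∀ l : Fin (m + m), r < l.val →
        (((X t : GL (Fin (m + m)) F) : Matrix (Fin (m + m)) (Fin (m + m)) F) *ᵥ v) l = 0) ∧
      (((X t : GL (Fin (m + m)) F) : Matrix (Fin (m + m)) (Fin (m + m)) F) *ᵥ v) j =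
        v j + ε * t * v j')
    (hYv : ∀ (u : F) (v : Fin (m + m) → F), (∀ l : Fin (m + m), r < l.val → v l = 0) →
      (∀ l : Fin (m + m), r < l.val →
        (((Y u : GL (Fin (m + m)) F) : Matrix (Fin (m + m)) (Fin (m + m)) F) *ᵥ v) l = 0) ∧
      (((Y u : GL (Fin (m + m)) F) : Matrix (Fin (m + m)) (Fin (m + m)) F) *ᵥ v) j' =
        v j' + ε' * u * v j)
    (ih : ∀ v : Fin (m + m) → F, (∀ l : Fin (m + m), r - 1 < l.val → v l = 0) →
      ∀ c, tv v c ∈ H) :
    ∀ v : Fin (m + m) → F, (∀ l : Fin (m + m), r < l.val → v l = 0) → ∀ c, tv v c ∈ H := by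
  have key : ∀ v : Fin (m + m) → F, (∀ l : Fin (m + m), r < l.val → v l = 0) → v j ≠ 0 →
      ∀ c, tv v c ∈ H := by
    intro v hv hvj c
    set u : F := - v j' / (ε' * v j) with hu
    obtain ⟨h1, h2⟩ := hYv u v hv
    apply tv_mem_of_conj (hY u)
    apply ih
    intro l hl
    by_cases hlr : l.val = r
    · have : l = j' := Fin.ext (by omega)
      rw [this, h2, hu]
      field_simp
      ring
    · exact h1 l (by omega)
  intro v hv c
  by_cases hvj : v j = 0
  · by_cases hvj' : v j' = 0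
    · apply ih
      intro l hl
      by_cases hlr : l.val = r
      · have : l = j' := Fin.ext (by omega)
        rw [this]
        exact hvj'
      · exact hv l (by omega)
    · obtain ⟨h1, h2⟩ := hXv 1 v hv
      apply tv_mem_of_conj (hX 1)
      apply key _ h1
      rw [h2, hvj, zero_add]
      exact mul_ne_zero (mul_ne_zero hε one_ne_zero) hvj'
  · exact key v hv hvj c

/-! ### negative root elements -/

lemma xGL_long_mem' (k : Fin (m + m)) (h2 : k.rev ≠ k) (u : F) : xGL k.rev k h2 u ∈ SpG m F := by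
  have := xGL_long_mem (F := F) k.rev u
  have e : ∀ (q : Fin (m + m)) (hq : k.rev ≠ q), q = k →
      xGL k.rev q hq u = xGL k.rev k h2 u := by
    intro q hq e; subst e; rfl
  rw [e _ _ (Fin.rev_rev k)] at this
  exact this

lemma neg_long_mem {k : Fin (m + m)} (hk : k.val + 1 = m) (h2 : k.rev ≠ k) (u : F) :
    (⟨xGL k.rev k h2 u, xGL_long_mem' k h2 u⟩ : ↥(SpG m F)) ∈ BG m F ⊔ NG m F := by
  by_cases hu : u = 0
  · have : (⟨xGL k.rev k h2 u, xGL_long_mem' k h2 u⟩ : ↥(SpG m F)) = 1 := by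
      apply Subtype.ext
      show xGL k.rev k h2 u = 1
      rw [hu, xGL_zero]
    rw [this]
    exact Subgroup.one_mem _
  · obtain ⟨h1, -, h3, h4⟩ := long_idx hk
    have hlt : k < k.rev := by rw [Fin.lt_def]; omega
    have ht : (-u⁻¹ : F) ≠ 0 := neg_ne_zero.mpr (inv_ne_zero hu)
    have hr := long_rank_one (F := F) hk h2.symm ht
    have eu : (-(-u⁻¹)⁻¹ : F) = u := by rw [inv_neg, inv_inv, neg_neg]
    rw [eu] at hr
    set s : ↥(SpG m F) := ⟨sL k, sL_mem hk⟩ with hs
    set x : ↥(SpG m F) := ⟨xGL k k.rev h2.symm (-u⁻¹), xGL_long_mem _ _⟩ with hx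
    set y : ↥(SpG m F) := ⟨xGL k.rev k h2 u, xGL_long_mem' k h2 u⟩ with hy
    have hsN : s ∈ NG m F := SG_subset_NG (Or.inr ⟨k, hk, rfl⟩)
    have hxB : x ∈ BG m F := by
      rw [mem_BG]
      exact xGL_mem_Bup hlt _
    have hb : s * x * y ∈ BG m F := by
      rw [mem_BG]
      exact hr
    have e : y = x⁻¹ * s⁻¹ * (s * x * y) := by group
    rw [e]
    exact Subgroup.mul_mem _ (Subgroup.mul_mem _
      (Subgroup.inv_mem _ (Subgroup.mem_sup_left hxB))
      (Subgroup.inv_mem _ (Subgroup.mem_sup_right hsN))) (Subgroup.mem_sup_left hb)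

lemma neg_short_mem {k k' : Fin (m + m)} (hk : k'.val = k.val + 1) (hkm : k'.val < m)
    (h1 : k' ≠ k) (u : F) :
    (⟨xsGL k' k h1 u, xsGL_mem _ _ _ _⟩ : ↥(SpG m F)) ∈ BG m F ⊔ NG m F := by
  by_cases hu : u = 0
  · have : (⟨xsGL k' k h1 u, xsGL_mem _ _ _ _⟩ : ↥(SpG m F)) = 1 := by
      apply Subtype.ext
      show xsGL k' k h1 u = 1
      rw [hu, xsGL_zero]
    rw [this]
    exact Subgroup.one_mem _
  · obtain ⟨-, g2, g3, g4, g5, g6, g7, g8⟩ := short_idx hk hkm
    have hlt : k < k' := by rw [Fin.lt_def]; omega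
    have hlt' : k'.rev < k.rev := by rw [Fin.lt_def]; omega
    have ht : (-u⁻¹ : F) ≠ 0 := neg_ne_zero.mpr (inv_ne_zero hu)
    have hr := short_rank_one (F := F) hk hkm h1.symm ht
    have eu : (-(-u⁻¹)⁻¹ : F) = u := by rw [inv_neg, inv_inv, neg_neg]
    rw [eu] at hr
    set s : ↥(SpG m F) := ⟨sS k k', sS_mem hk hkm⟩ with hs
    set x : ↥(SpG m F) := ⟨xsGL k k' h1.symm (-u⁻¹), xsGL_mem _ _ _ _⟩ with hx
    set y : ↥(SpG m F) := ⟨xsGL k' k h1 u, xsGL_mem _ _ _ _⟩ with hy
    have hsN : s ∈ NG m F := SG_subset_NG (Or.inl ⟨k, k', hk, hkm, rfl⟩)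
    have hxB : x ∈ BG m F := by
      rw [mem_BG]
      show xsGL k k' h1.symm (-u⁻¹) ∈ Bup (m + m) F
      unfold xsGL
      exact Subgroup.mul_mem _ (xGL_mem_Bup hlt _) (xGL_mem_Bup hlt' _)
    have hb : s * x * y ∈ BG m F := by
      rw [mem_BG]
      exact hr
    have e : y = x⁻¹ * s⁻¹ * (s * x * y) := by group
    rw [e]
    exact Subgroup.mul_mem _ (Subgroup.mul_mem _
      (Subgroup.inv_mem _ (Subgroup.mem_sup_left hxB))
      (Subgroup.inv_mem _ (Subgroup.mem_sup_right hsN))) (Subgroup.mem_sup_left hb)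

/-! ### the two kinds of steps -/

/-- the vanishing pattern -/
def Pr (H : Subgroup ↥(SpG m F)) (r : ℕ) : Prop :=
  ∀ v : Fin (m + m) → F, (∀ l : Fin (m + m), r < l.val → v l = 0) → ∀ c, tv v c ∈ H

lemma long_step {k : Fin (m + m)} (hk : k.val + 1 = m) (ih : Pr (BG m F ⊔ NG m F) (m - 1)) :
    Pr (BG m F ⊔ NG m F) m := by
  obtain ⟨h1, h2, h3, h4⟩ := long_idx hk
  have hlt : k < k.rev := by rw [Fin.lt_def]; omega
  refine bubble_step (BG m F ⊔ NG m F) m k k.rev (by omega) hk
    (fun t => ⟨xGL k k.rev h2 t, xGL_long_mem _ _⟩)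
    (fun u => ⟨xGL k.rev k h2.symm u, xGL_long_mem' k h2.symm u⟩) ?_ ?_ 1 1 one_ne_zero one_ne_zero
    ?_ ?_ ih
  · intro t
    apply Subgroup.mem_sup_left
    rw [mem_BG]
    exact xGL_mem_Bup hlt _
  · intro u
    exact neg_long_mem hk h2.symm u
  · intro t v hv
    constructor
    · intro l hl
      show ((xGL k k.rev h2 t : GL (Fin (m + m)) F) : Matrix (Fin (m + m)) (Fin (m + m)) F).mulVec v l = 0
      rw [coe_xGL, transvection_mulVec, if_neg, add_zero]
      · exact hv l hl
      · intro h; rw [h] at hl; omega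
    · show ((xGL k k.rev h2 t : GL (Fin (m + m)) F) : Matrix (Fin (m + m)) (Fin (m + m)) F).mulVec v k = _
      rw [coe_xGL, transvection_mulVec, if_pos rfl, one_mul]
  · intro u v hv
    constructor
    · intro l hl
      show ((xGL k.rev k h2.symm u : GL (Fin (m + m)) F) :
        Matrix (Fin (m + m)) (Fin (m + m)) F).mulVec v l = 0
      rw [coe_xGL, transvection_mulVec, if_neg, add_zero]
      · exact hv l hl
      · intro h; rw [h] at hl; omega
    · show ((xGL k.rev k h2.symm u : GL (Fin (m + m)) F) :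
        Matrix (Fin (m + m)) (Fin (m + m)) F).mulVec v k.rev = _
      rw [coe_xGL, transvection_mulVec, if_pos rfl, one_mul]

lemma short_step {k k' : Fin (m + m)} (hk : k'.val = k.val + 1) (hkm : k'.val < m)
    (ih : Pr (BG m F ⊔ NG m F) (k.rev.val - 1)) : Pr (BG m F ⊔ NG m F) k.rev.val := by
  obtain ⟨g1, g2, g3, g4, g5, g6, g7, g8⟩ := short_idx hk hkm
  have hlt : k < k' := by rw [Fin.lt_def]; omega
  have hlt' : k'.rev < k.rev := by rw [Fin.lt_def]; omega
  have hv1 := Fin.val_rev k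
  have hv2 := Fin.val_rev k'
  have hk2 := k.2
  refine bubble_step (BG m F ⊔ NG m F) k.rev.val k'.rev k.rev rfl (by omega)
    (fun t => ⟨xsGL k k' g1 t, xsGL_mem _ _ _ _⟩)
    (fun u => ⟨xsGL k' k g1.symm u, xsGL_mem _ _ _ _⟩) ?_ ?_ (-1) (-1)
    (neg_ne_zero.mpr one_ne_zero) (neg_ne_zero.mpr one_ne_zero) ?_ ?_ ih
  · intro t
    apply Subgroup.mem_sup_left
    rw [mem_BG]
    show xsGL k k' g1 t ∈ Bup (m + m) F
    unfold xsGL
    exact Subgroup.mul_mem _ (xGL_mem_Bup hlt _) (xGL_mem_Bup hlt' _)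
  · intro u
    exact neg_short_mem hk hkm g1.symm u
  · intro t v hv
    constructor
    · intro l hl
      show ((xsGL k k' g1 t : GL (Fin (m + m)) F) :
        Matrix (Fin (m + m)) (Fin (m + m)) F).mulVec v l = 0
      rw [xsGL_mulVec, if_neg, if_neg, add_zero, add_zero]
      · exact hv l hl
      · intro h; rw [h] at hl; omega
      · intro h; rw [h] at hl; omega
    · show ((xsGL k k' g1 t : GL (Fin (m + m)) F) :
        Matrix (Fin (m + m)) (Fin (m + m)) F).mulVec v k'.rev = _
      rw [xsGL_mulVec, if_pos rfl, if_neg (Ne.symm g2), add_zero, eta_of_lt g8, eta_of_lt hkm]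
      ring
  · intro u v hv
    constructor
    · intro l hl
      show ((xsGL k' k g1.symm u : GL (Fin (m + m)) F) :
        Matrix (Fin (m + m)) (Fin (m + m)) F).mulVec v l = 0
      rw [xsGL_mulVec, if_neg, if_neg, add_zero, add_zero]
      · exact hv l hl
      · intro h; rw [h] at hl; omega
      · intro h; rw [h] at hl; omega
    · show ((xsGL k' k g1.symm u : GL (Fin (m + m)) F) :
        Matrix (Fin (m + m)) (Fin (m + m)) F).mulVec v k.rev = _
      rw [xsGL_mulVec, if_pos rfl, if_neg (Ne.symm g5), add_zero, eta_of_lt g8, eta_of_lt hkm]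
      ring

lemma Pr_all (r : ℕ) : Pr (BG m F ⊔ NG m F) r := by
  induction r with
  | zero =>
    intro v hv c
    apply Subgroup.mem_sup_left
    apply tv_mem_BG_of_first_half
    intro l hl
    rcases Nat.eq_zero_or_pos m with h0 | hpos
    · have := l.2; omega
    · exact hv l (by omega)
  | succ r ih =>
    by_cases h1 : r + 1 < m
    · intro v hv c
      apply Subgroup.mem_sup_left
      apply tv_mem_BG_of_first_half
      intro l hl
      exact hv l (by omega)
    · by_cases h2 : r + 1 = m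
      · have hlt : r < m + m := by omega
        have e : m - 1 = r := by omega
        have := long_step (F := F) (k := ⟨r, hlt⟩) h2 (by rw [e]; exact ih)
        rw [h2]
        exact this
      · by_cases h3 : r + 1 < m + m
        · -- a mirrored short pair
          have hklt : m + m - 1 - (r + 1) < m + m := by omega
          have hk'lt : m + m - 1 - r < m + m := by omega
          have hk : (⟨m + m - 1 - r, hk'lt⟩ : Fin (m + m)).val =
              (⟨m + m - 1 - (r + 1), hklt⟩ : Fin (m + m)).val + 1 := by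
            show m + m - 1 - r = m + m - 1 - (r + 1) + 1
            omega
          have hkm : (⟨m + m - 1 - r, hk'lt⟩ : Fin (m + m)).val < m := by
            show m + m - 1 - r < m
            omega
          have hrev : (⟨m + m - 1 - (r + 1), hklt⟩ : Fin (m + m)).rev.val = r + 1 := by
            rw [Fin.val_rev]
            show m + m - (m + m - 1 - (r + 1) + 1) = r + 1
            omega
          have := short_step (F := F) hk hkm (by rw [hrev]; exact ih)
          rw [hrev] at this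
          exact this
        · intro v hv c
          apply ih v _ c
          intro l hl
          have := l.2
          omega

theorem BG_sup_NG : BG m F ⊔ NG m F = ⊤ := by
  apply eq_top_of_tv_mem
  intro v c
  apply Pr_all (m + m) v _ c
  intro l hl
  have := l.2
  omega

/-- the `(B,N)`-pair of the symplectic group -/
def spBN (m : ℕ) (F : Type*) [Field F] : Cfsg.BNPair ↥(SpG m F) where
  B := BG m F
  N := NG m F
  S := SG m F
  sup_eq_top := BG_sup_NG
  conj_mem := fun _ hn _ ht => NG_conj_mem hn ht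
  subset := SG_subset_NG
  sq_mem := fun _ hs => SG_sq_mem hs
  inj := fun _ hs _ hs' h => SG_inj hs hs' h
  closure_sup := by
    rw [BG_inf_NG]
    rfl
  mul_mem_union := by
    intro s hs n hn b hb
    obtain ⟨k, k', hk, hkm, hd⟩ := exists_simpleData hs
    have hkk' : k ≠ k' := by
      apply Fin.ne_of_val_ne; omega
    exact hd.main hkk' hb hn
  conj_ne := fun _ hs => SG_conj_ne hs

theorem spBN_B : (spBN m F).B = BG m F := rfl
theorem spBN_N : (spBN m F).N = NG m F := rfl
theorem spBN_S : (spBN m F).S = SG m F := rfl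

end Cfsg.Agent.Lib.Helper15.SpBN
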