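/-
helper15: the (B,N)-pair of the symplectic group `SpG m F`: the longest element of the Weyl group
is represented by a monomial matrix with the antidiagonal permutation, and `B ∩ n₀ B n₀⁻¹` consists
of the diagonal matrices.
-/
import Mathlib
import Cfsg.Agent.Lib.Helper15.SpBNE
import Cfsg.Agent.Lib.Helper6.BNResA

set_option autoImplicit false

namespace Cfsg.Agent.Lib.Helper15.SpBN

open Matrix Equiv Cfsg Cfsg.Agent.Lib.Helper3.BN Cfsg.Agent.Lib.Helper6.BNSt
  Cfsg.Agent.Lib.Helper6.GLBN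

variable {m : ℕ} {F : Type*} [Field F]

instance instFiniteSpG [Finite F] : Finite ↥(SpG m F) := by
  have : Finite (GL (Fin (m + m)) F) :=
    Finite.of_injective (fun g : GL (Fin (m + m)) F =>
      (g : Matrix (Fin (m + m)) (Fin (m + m)) F)) Units.val_injective
  infer_instance

/-- a monomial representative of an element of `N` whose Weyl group element has all simple
reflections as left descents reverses the order of every simple pair -/
lemma lt_of_descent {s : ↥(SpG m F)} (hs : s ∈ (spBN m F).S) {k k' : Fin (m + m)}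
    (hd : SimpleData s k k') (hkk' : k ≠ k') {n : ↥(SpG m F)} (hn : n ∈ (spBN m F).N)
    (hg : ∃ g ∈ C (spBN m F) (mkW (spBN m F) n hn), s * g ∈ C (spBN m F) (mkW (spBN m F) n hn))
    {σ : Perm (Fin (m + m))} {c : Fin (m + m) → Fˣ}
    (hσ : (n : GL (Fin (m + m)) F) = monoGL σ c) : σ⁻¹ k' < σ⁻¹ k := by
  have hne : σ⁻¹ k ≠ σ⁻¹ k' := fun h => hkk' (σ⁻¹.injective h)
  rcases lt_or_gt_of_ne hne with hlt | hgt
  · exfalso
    obtain ⟨g, hg1, hg2⟩ := hg
    rw [mem_C_mk, mem_dc] at hg1
    obtain ⟨b1, hb1, b2, hb2, rfl⟩ := hg1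
    have h1 : s * b1 * n ∈ dc (spBN m F) (s * n) := hd.pos hb1 hσ hlt
    have hsn : s * n ∈ (spBN m F).N := (spBN m F).N.mul_mem ((spBN m F).subset hs) hn
    have h2 : s * (b1 * n * b2) ∈ C (spBN m F) (mkW (spBN m F) (s * n) hsn) := by
      rw [mem_C_mk]
      have e : s * (b1 * n * b2) = s * b1 * n * b2 := by group
      rw [e]
      exact dc_mul_right (spBN m F) h1 hb2
    have h3 := eq_of_common (spBN m F) h2 hg2
    rw [mkW_mul (spBN m F) ((spBN m F).subset hs) hn] at h3
    exact sb_ne_one (spBN m F) hs (mul_eq_right.mp h3)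
  · exact hgt

section longest

variable [Finite F]

local notation "P" => spBN m F

lemma exists_descent {s : ↥(SpG m F)} (hs : s ∈ (spBN m F).S) :
    ∃ g ∈ C (spBN m F) (mkW (spBN m F) (repW (spBN m F) (w0 (spBN m F))) (repW_mem _ _)),
      s * g ∈ C (spBN m F) (mkW (spBN m F) (repW (spBN m F) (w0 (spBN m F))) (repW_mem _ _)) := by
  rw [mkW_repW]
  apply B_lemma (spBN m F) hs
  exact le_of_lt (w0_left (spBN m F) _ (sb_mem (spBN m F) hs))

/-- the permutation of a representative of the longest element is the antidiagonal one -/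
theorem repW_w0_eq : ∃ c : Fin (m + m) → Fˣ,
    ((repW (spBN m F) (w0 (spBN m F)) : ↥(SpG m F)) : GL (Fin (m + m)) F) =
      monoGL Fin.revPerm c := by
  have hn : repW (spBN m F) (w0 (spBN m F)) ∈ NG m F := repW_mem (spBN m F) _
  obtain ⟨σ, c, hσ⟩ := exists_monoGL hn
  refine ⟨c, ?_⟩
  rw [hσ]
  congr 1
  have hcomm := perm_comm_of_mem hσ
  -- all adjacent pairs are reversed
  have hadj : ∀ i i' : Fin (m + m), i'.val = i.val + 1 → σ⁻¹ i' < σ⁻¹ i := by
    intro i i' hi
    by_cases h1 : i'.val < m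
    · obtain ⟨g1, -⟩ := short_idx hi h1
      have hsS : (⟨sS i i', sS_mem hi h1⟩ : ↥(SpG m F)) ∈ (spBN m F).S :=
        Or.inl ⟨i, i', hi, h1, rfl⟩
      exact lt_of_descent hsS (simpleData_short hi h1 rfl) g1 hn (exists_descent hsS) hσ
    · by_cases h2 : i'.val = m
      · have hk : i.val + 1 = m := by omega
        obtain ⟨g1, g2, g3, g4⟩ := long_idx hk
        have hi' : i' = i.rev := Fin.ext (by omega)
        subst hi'
        have hsS : (⟨sL i, sL_mem hk⟩ : ↥(SpG m F)) ∈ (spBN m F).S :=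
          Or.inr ⟨i, hk, rfl⟩
        exact lt_of_descent hsS (simpleData_long hk rfl) g2 hn (exists_descent hsS) hσ
      · -- a mirrored pair
        have hv1 := Fin.val_rev i
        have hv2 := Fin.val_rev i'
        have hi2 := i'.2
        have hk : i.rev.val = i'.rev.val + 1 := by omega
        have hkm : i.rev.val < m := by omega
        obtain ⟨g1, -⟩ := short_idx hk hkm
        have hsS : (⟨sS i'.rev i.rev, sS_mem hk hkm⟩ : ↥(SpG m F)) ∈ (spBN m F).S :=
          Or.inl ⟨i'.rev, i.rev, hk, hkm, rfl⟩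
        have := lt_of_descent hsS (simpleData_short hk hkm rfl) g1 hn (exists_descent hsS) hσ
        rw [inv_rev_of_comm hcomm, inv_rev_of_comm hcomm, Fin.rev_lt_rev] at this
        exact this
  -- hence `σ⁻¹ ∘ rev` is increasing on adjacent pairs
  have h1 : σ⁻¹ * Fin.revPerm = 1 := by
    apply perm_eq_one_of_adj
    intro i j hij
    rw [Perm.mul_apply, Perm.mul_apply, Fin.revPerm_apply, Fin.revPerm_apply]
    apply hadj
    rw [Fin.val_rev, Fin.val_rev]
    have := j.2
    omega
  have h2 : σ⁻¹ = (Fin.revPerm : Perm (Fin (m + m)))⁻¹ := eq_inv_of_mul_eq_one_left h1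
  exact inv_injective h2

/-- `B ∩ n₀ B n₀⁻¹`, as a subgroup of `B`, consists of the diagonal matrices -/
theorem mem_BStab_w0 (b : (spBN m F).B) :
    b ∈ BStab (spBN m F) (repW (spBN m F) (w0 (spBN m F))) ↔
      ∀ i j : Fin (m + m), i ≠ j →
        (((b : ↥(SpG m F)) : GL (Fin (m + m)) F) : Matrix (Fin (m + m)) (Fin (m + m)) F) i j = 0 := by
  obtain ⟨c, hc⟩ := repW_w0_eq (m := m) (F := F)
  rw [mem_BStab]
  show _ ∈ BG m F ↔ _
  rw [mem_BG, coe_conj, hc, conj_monoGL_mem_Bup_iff]
  have hb : ((b : ↥(SpG m F)) : GL (Fin (m + m)) F) ∈ Bup (m + m) F := mem_BG.mp b.2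
  constructor
  · intro h i j hij
    rcases lt_or_gt_of_ne hij with hlt | hgt
    · have := h i.rev j.rev (Fin.rev_lt_rev.mpr hlt)
      rw [Fin.revPerm_apply, Fin.revPerm_apply, Fin.rev_rev, Fin.rev_rev] at this
      exact this
    · exact (mem_Bup.mp hb) i j hgt
  · intro h i j hji
    apply h
    rw [Fin.revPerm_apply, Fin.revPerm_apply]
    intro he
    exact (ne_of_gt hji) (Fin.rev_injective he)

end longest

end Cfsg.Agent.Lib.Helper15.SpBN
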