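/-
helper15: the Steinberg function of the symplectic group `SpG m F`, `F` finite: it vanishes at the
non-identity upper unitriangular elements and its degree is the order of the unitriangular group.
-/
import Mathlib
import Cfsg.Agent.Lib.Helper15.SpBNF
import Cfsg.Agent.Lib.Helper6.GLStA

set_option autoImplicit false

namespace Cfsg.Agent.Lib.Helper15.SpBN

open Matrix Equiv Cfsg Cfsg.Agent.Lib.Helper3.BN Cfsg.Agent.Lib.Helper6.BNSt
  Cfsg.Agent.Lib.Helper6.GLBN Cfsg.Agent.Lib.Helper6.GLSt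

variable {m : ℕ} {F : Type*} [Field F]

/-- the upper unitriangular subgroup of the symplectic group -/
def UG (m : ℕ) (F : Type*) [Field F] : Subgroup ↥(SpG m F) where
  carrier := {g | (g : GL (Fin (m + m)) F) ∈ Bup (m + m) F ∧
    ∀ i, ((g : GL (Fin (m + m)) F) : Matrix (Fin (m + m)) (Fin (m + m)) F) i i = 1}
  mul_mem' := by
    rintro a b ⟨ha, ha1⟩ ⟨hb, hb1⟩
    refine ⟨Subgroup.mul_mem _ ha hb, fun i => ?_⟩
    show (((a : GL (Fin (m + m)) F) * (b : GL (Fin (m + m)) F) : GL (Fin (m + m)) F) :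
      Matrix (Fin (m + m)) (Fin (m + m)) F) i i = 1
    rw [Bup_mul_diag ha hb, ha1, hb1, mul_one]
  one_mem' := ⟨Subgroup.one_mem _, fun i => by simp⟩
  inv_mem' := by
    rintro a ⟨ha, ha1⟩
    refine ⟨Subgroup.inv_mem _ ha, fun i => ?_⟩
    have := Bup_inv_diag ha i
    rw [ha1, mul_one] at this
    exact this

lemma mem_UG {g : ↥(SpG m F)} : g ∈ UG m F ↔ (g : GL (Fin (m + m)) F) ∈ Bup (m + m) F ∧
    ∀ i, ((g : GL (Fin (m + m)) F) : Matrix (Fin (m + m)) (Fin (m + m)) F) i i = 1 := Iff.rfl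

lemma UG_le_BG : UG m F ≤ BG m F := fun _ hg => mem_BG.mpr hg.1

/-- an element of `UG` with vanishing off-diagonal entries is trivial -/
lemma eq_one_of_offdiag {g : ↥(SpG m F)} (hg : g ∈ UG m F)
    (h : ∀ i j : Fin (m + m), i ≠ j →
      ((g : GL (Fin (m + m)) F) : Matrix (Fin (m + m)) (Fin (m + m)) F) i j = 0) : g = 1 := by
  apply Subtype.ext
  apply Units.ext
  ext i j
  show ((g : GL (Fin (m + m)) F) : Matrix (Fin (m + m)) (Fin (m + m)) F) i j =
    (1 : Matrix (Fin (m + m)) (Fin (m + m)) F) i j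
  rw [Matrix.one_apply]
  by_cases hij : i = j
  · subst hij
    rw [if_pos rfl]
    exact hg.2 i
  · rw [if_neg hij]
    exact h i j hij

section steinberg

variable [Finite F]

/-- the simple reflections, as a finset -/
noncomputable def SfinSp (m : ℕ) (F : Type*) [Field F] [Finite F] : Finset ↥(SpG m F) :=
  (Set.toFinite (SG m F)).toFinset

theorem coe_SfinSp : ((SfinSp m F : Finset ↥(SpG m F)) : Set ↥(SpG m F)) = (spBN m F).S :=
  Set.Finite.coe_toFinset _

/-- the Steinberg function of the symplectic group -/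
noncomputable def stSp (m : ℕ) (F : Type*) [Field F] [Finite F] : ↥(SpG m F) → ℂ :=
  stFun (spBN m F) (SfinSp m F)

theorem stSp_apply_B (b : (spBN m F).B) :
    stSp m F (b : ↥(SpG m F)) =
      (Nat.card (MulAction.fixedBy ((spBN m F).B ⧸
        BStab (spBN m F) (repW (spBN m F) (w0 (spBN m F)))) b) : ℂ) := by
  unfold stSp
  rw [stFun_apply_B (spBN m F) (SfinSp m F) coe_SfinSp b]

/-- vanishing at the non-identity unitriangular matrices -/
theorem stSp_unipotent {u : ↥(SpG m F)} (hu : u ∈ UG m F) (hne : u ≠ 1) : stSp m F u = 0 := by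
  have huB : u ∈ (spBN m F).B := UG_le_BG hu
  have h : stSp m F u = _ := stSp_apply_B (m := m) (F := F) ⟨u, huB⟩
  rw [h]
  have hemp : IsEmpty (MulAction.fixedBy ((spBN m F).B ⧸
      BStab (spBN m F) (repW (spBN m F) (w0 (spBN m F)))) (⟨u, huB⟩ : (spBN m F).B)) := by
    constructor
    rintro ⟨x, hx⟩
    obtain ⟨c, rfl⟩ := QuotientGroup.mk_surjective x
    rw [MulAction.mem_fixedBy] at hx
    have hx' : (((⟨u, huB⟩ : (spBN m F).B) * c : (spBN m F).B) :
        (spBN m F).B ⧸ BStab (spBN m F) (repW (spBN m F) (w0 (spBN m F)))) =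
        (c : (spBN m F).B ⧸ _) := hx
    rw [QuotientGroup.eq] at hx'
    have e : ((⟨u, huB⟩ : (spBN m F).B) * c)⁻¹ * c = c⁻¹ * (⟨u, huB⟩ : (spBN m F).B)⁻¹ * c := by
      group
    rw [e, mem_BStab_w0] at hx'
    have hcU : (c : ↥(SpG m F))⁻¹ * u⁻¹ * (c : ↥(SpG m F)) ∈ UG m F := by
      have hc : ((c : ↥(SpG m F)) : GL (Fin (m + m)) F) ∈ Bup (m + m) F := mem_BG.mp c.2
      have hu' := (UG m F).inv_mem hu
      refine ⟨?_, fun i => ?_⟩
      · exact Subgroup.mul_mem _ (Subgroup.mul_mem _ (Subgroup.inv_mem _ hc) hu'.1) hc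
      · show ((((c : ↥(SpG m F)) : GL (Fin (m + m)) F)⁻¹ * ((u⁻¹ : ↥(SpG m F)) : GL (Fin (m + m)) F) *
          ((c : ↥(SpG m F)) : GL (Fin (m + m)) F) : GL (Fin (m + m)) F) :
            Matrix (Fin (m + m)) (Fin (m + m)) F) i i = 1
        rw [Bup_mul_diag (Subgroup.mul_mem _ (Subgroup.inv_mem _ hc) hu'.1) hc,
          Bup_mul_diag (Subgroup.inv_mem _ hc) hu'.1, hu'.2 i, mul_one]
        exact Bup_inv_diag hc i
    have hone : (c : ↥(SpG m F))⁻¹ * u⁻¹ * (c : ↥(SpG m F)) = 1 := eq_one_of_offdiag hcU hx'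
    apply hne
    have : u⁻¹ = 1 := by
      have e' : u⁻¹ = (c : ↥(SpG m F)) * ((c : ↥(SpG m F))⁻¹ * u⁻¹ * (c : ↥(SpG m F))) *
          (c : ↥(SpG m F))⁻¹ := by group
      rw [e', hone]; group
    exact inv_eq_one.mp this
  rw [Nat.card_of_isEmpty, Nat.cast_zero]

/-- the map `U → B/T` -/
noncomputable def uniToQuot (u : UG m F) :
    (spBN m F).B ⧸ BStab (spBN m F) (repW (spBN m F) (w0 (spBN m F))) :=
  QuotientGroup.mk (⟨u.1, UG_le_BG u.2⟩ : (spBN m F).B)

theorem uniToQuot_bijective : Function.Bijective (uniToQuot (m := m) (F := F)) := by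
  constructor
  · intro u u' h
    unfold uniToQuot at h
    rw [QuotientGroup.eq, mem_BStab_w0] at h
    have hmem : (u⁻¹ * u' : UG m F).1 ∈ UG m F := (u⁻¹ * u').2
    have hone : ((u⁻¹ * u' : UG m F) : ↥(SpG m F)) = 1 := eq_one_of_offdiag hmem h
    have : u⁻¹ * u' = 1 := Subtype.ext hone
    exact inv_mul_eq_one.mp this
  · intro x
    obtain ⟨b, rfl⟩ := QuotientGroup.mk_surjective x
    have hb : ((b : ↥(SpG m F)) : GL (Fin (m + m)) F) ∈ Bup (m + m) F := mem_BG.mp b.2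
    have hbS : ((b : ↥(SpG m F)) : GL (Fin (m + m)) F) ∈ SpG m F := (b : ↥(SpG m F)).2
    let c : Fin (m + m) → Fˣ := fun j => Units.mk0 _ (diag_ne_zero hb j)
    have hdS : (monoGL 1 c : GL (Fin (m + m)) F) ∈ SpG m F := by
      rw [monoGL_mem_SpG_iff]
      refine ⟨fun a => rfl, fun a => ?_⟩
      rw [Perm.one_apply]
      show ((b : ↥(SpG m F)) : GL (Fin (m + m)) F).1 a a *
        ((b : ↥(SpG m F)) : GL (Fin (m + m)) F).1 a.rev a.rev * eta m F a = eta m F a
      rw [diag_mul_diag_rev hbS hb, one_mul]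
    have hdB : (monoGL 1 c : GL (Fin (m + m)) F) ∈ Bup (m + m) F := by
      rw [monoGL_mem_Bup_iff]
    set d : ↥(SpG m F) := ⟨monoGL 1 c, hdS⟩ with hd
    have huU : (b : ↥(SpG m F)) * d⁻¹ ∈ UG m F := by
      refine ⟨Subgroup.mul_mem _ hb (Subgroup.inv_mem _ hdB), fun i => ?_⟩
      show ((((b : ↥(SpG m F)) : GL (Fin (m + m)) F) * (monoGL 1 c)⁻¹ : GL (Fin (m + m)) F) :
        Matrix (Fin (m + m)) (Fin (m + m)) F) i i = 1
      rw [Bup_mul_diag hb (Subgroup.inv_mem _ hdB)]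
      have h1 := Bup_inv_diag hdB i
      have h2 : ((monoGL 1 c : GL (Fin (m + m)) F) : Matrix (Fin (m + m)) (Fin (m + m)) F) i i =
          ((b : ↥(SpG m F)) : GL (Fin (m + m)) F).1 i i := by
        rw [coe_monoGL, mono_apply, Perm.one_apply, if_pos rfl]
        rfl
      rw [h2] at h1
      rw [mul_comm]
      exact h1
    refine ⟨⟨(b : ↥(SpG m F)) * d⁻¹, huU⟩, ?_⟩
    unfold uniToQuot
    rw [QuotientGroup.eq, mem_BStab_w0]
    intro i j hij
    have hcoe : (((⟨(b : ↥(SpG m F)) * d⁻¹, UG_le_BG huU⟩ : (spBN m F).B)⁻¹ * b : (spBN m F).B) :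
        ↥(SpG m F)) = d := by
      show ((b : ↥(SpG m F)) * d⁻¹)⁻¹ * (b : ↥(SpG m F)) = d
      group
    rw [hcoe, hd]
    show ((monoGL 1 c : GL (Fin (m + m)) F) : Matrix (Fin (m + m)) (Fin (m + m)) F) i j = 0
    rw [coe_monoGL, mono_apply, if_neg]
    rw [Perm.one_apply]
    exact hij

/-- the degree -/
theorem stSp_one : stSp m F 1 = (Nat.card (UG m F) : ℂ) := by
  unfold stSp
  rw [stFun_one (spBN m F) (SfinSp m F) coe_SfinSp,
    Nat.card_congr (Equiv.ofBijective _ (uniToQuot_bijective (m := m) (F := F)))]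

end steinberg

end Cfsg.Agent.Lib.Helper15.SpBN
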