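/-
helper15: the unitriangular subgroup of the symplectic group `SpG m F` over a finite field of
characteristic `p` is a Sylow `p`-subgroup; central elements are diagonal.
-/
import Mathlib
import Cfsg.Agent.Lib.Helper15.SpBNG
import Cfsg.Agent.Lib.Helper18.PSLnUnitri

set_option autoImplicit false

namespace Cfsg.Agent.Lib.Helper15.SpBN

open Matrix Equiv Cfsg Cfsg.Agent.Lib.Helper3.BN Cfsg.Agent.Lib.Helper6.BNSt
  Cfsg.Agent.Lib.Helper6.GLBN Cfsg.Agent.Lib.Helper6.GLSt Cfsg.Agent.Lib.Helper18.PSLnAut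

variable {m : ℕ} {F : Type*} [Field F]

/-! ### central elements -/

lemma center_le_BG {z : ↥(SpG m F)} (hz : z ∈ Subgroup.center ↥(SpG m F)) : z ∈ BG m F := by
  rw [mem_BG, mem_Bup]
  intro i q hqi
  have hiq : i ≠ q := ne_of_gt hqi
  set v : Fin (m + m) → F := Pi.single q 1 with hv
  have h1 : z * tv v 1 * z⁻¹ = tv v 1 := by
    have := (Subgroup.mem_center_iff.mp hz) (tv v 1)
    rw [← this]; group
  rw [conj_tv] at h1
  have h2 := congrArg (fun g : ↥(SpG m F) =>
    ((g : GL (Fin (m + m)) F) : Matrix (Fin (m + m)) (Fin (m + m)) F) i i.rev) h1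
  beta_reduce at h2
  rw [tv_apply, tv_apply, Fin.rev_rev] at h2
  have hvi : v i = 0 := by rw [hv, Pi.single_apply, if_neg hiq]
  rw [hvi, zero_mul, mul_zero, add_zero] at h2
  have h3 : (1 : F) * ((((z : GL (Fin (m + m)) F) : Matrix (Fin (m + m)) (Fin (m + m)) F) *ᵥ v) i *
      (eta m F i.rev * (((z : GL (Fin (m + m)) F) : Matrix (Fin (m + m)) (Fin (m + m)) F) *ᵥ v) i)) = 0 := by
    linear_combination h2
  rw [one_mul] at h3
  have h4 : (((z : GL (Fin (m + m)) F) : Matrix (Fin (m + m)) (Fin (m + m)) F) *ᵥ v) i = 0 := by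
    rcases mul_eq_zero.mp h3 with h | h
    · exact h
    · rcases mul_eq_zero.mp h with h' | h'
      · exact absurd h' (eta_ne_zero _)
      · exact h'
  rw [hv, Matrix.mulVec_single_one] at h4
  exact h4

/-! ### the unitriangular group is a `p`-group -/

section pgroup

variable [Fintype F] (p : ℕ) [Fact p.Prime] [CharP F p]

/-- the embedding of the unitriangular group of `SpG` into that of `SL` -/
def UGtoUni (m : ℕ) (F : Type*) [Field F] [Fintype F] : UG m F →* unitri (m + m) F where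
  toFun g := ⟨⟨((g : ↥(SpG m F)) : GL (Fin (m + m)) F).1,
    IsUni.det ⟨fun i j hji => (mem_Bup.mp g.2.1) i j hji, g.2.2⟩⟩,
    ⟨fun i j hji => (mem_Bup.mp g.2.1) i j hji, g.2.2⟩⟩
  map_one' := rfl
  map_mul' _ _ := rfl

lemma UGtoUni_injective : Function.Injective (UGtoUni m F) := by
  intro a b h
  have h1 : ((a : ↥(SpG m F)) : GL (Fin (m + m)) F).1 = ((b : ↥(SpG m F)) : GL (Fin (m + m)) F).1 :=
    congrArg (fun u : unitri (m + m) F =>
      ((u : SpecialLinearGroup (Fin (m + m)) F) : Matrix (Fin (m + m)) (Fin (m + m)) F)) h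
  exact Subtype.ext (Subtype.ext (Units.ext h1))

theorem isPGroup_UG : IsPGroup p (UG m F) :=
  (isPGroup_unitri (n := m + m) (F := F) p).of_injective (UGtoUni m F) UGtoUni_injective

end pgroup

/-! ### the diagonal homomorphism -/

/-- the diagonal of an upper triangular matrix -/
noncomputable def diagHom (m : ℕ) (F : Type*) [Field F] : BG m F →* (Fin (m + m) → Fˣ) where
  toFun b i := Units.mk0 _ (diag_ne_zero (mem_BG.mp b.2) i)
  map_one' := by
    funext i
    apply Units.ext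
    simp
  map_mul' a b := by
    funext i
    apply Units.ext
    show ((((a : ↥(SpG m F)) : GL (Fin (m + m)) F) * ((b : ↥(SpG m F)) : GL (Fin (m + m)) F) :
      GL (Fin (m + m)) F) : Matrix (Fin (m + m)) (Fin (m + m)) F) i i = _
    rw [Bup_mul_diag (mem_BG.mp a.2) (mem_BG.mp b.2)]
    rfl

lemma diagHom_ker : (diagHom m F).ker = (UG m F).subgroupOf (BG m F) := by
  ext b
  rw [MonoidHom.mem_ker, Subgroup.mem_subgroupOf, mem_UG]
  constructor
  · intro h
    refine ⟨mem_BG.mp b.2, fun i => ?_⟩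
    have := congrArg (fun f : Fin (m + m) → Fˣ => ((f i : Fˣ) : F)) h
    exact this
  · intro h
    funext i
    apply Units.ext
    exact h.2 i

section index

variable [Fintype F] (p : ℕ) [Fact p.Prime] [CharP F p]

lemma not_dvd_card_units : ¬ p ∣ Fintype.card F - 1 := by
  obtain ⟨k, hp, hk⟩ := FiniteField.card F p
  intro h
  have h1 : p ∣ Fintype.card F := by
    rw [hk]
    exact dvd_pow_self p k.ne_zero
  have hpos : 1 ≤ Fintype.card F := Fintype.card_pos
  have h2 : p ∣ 1 := by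
    have := Nat.dvd_sub h1 h
    rwa [Nat.sub_sub_self hpos] at this
  exact hp.one_lt.ne' (Nat.dvd_one.mp h2)

lemma not_dvd_relIndex : ¬ p ∣ (UG m F).relIndex (BG m F) := by
  classical
  have hp : p.Prime := Fact.out
  unfold Subgroup.relIndex
  rw [← diagHom_ker, Subgroup.index_ker]
  intro h
  have h1 : Nat.card (diagHom m F).range ∣ Nat.card (Fin (m + m) → Fˣ) :=
    Subgroup.card_subgroup_dvd_card _
  have h2 : Nat.card (Fin (m + m) → Fˣ) = (Fintype.card F - 1) ^ (m + m) := by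
    rw [Nat.card_eq_fintype_card, Fintype.card_fun, Fintype.card_units, Fintype.card_fin]
  rw [h2] at h1
  exact not_dvd_card_units (F := F) p (hp.dvd_of_dvd_pow (dvd_trans h h1))

end index

/-! ### fixed points of `U` on `G/B` -/

lemma UG_conj_mem {b u : ↥(SpG m F)} (hb : b ∈ BG m F) (hu : u ∈ UG m F) :
    b * u * b⁻¹ ∈ UG m F := by
  have hb' := mem_BG.mp hb
  refine ⟨Subgroup.mul_mem _ (Subgroup.mul_mem _ hb' hu.1) (Subgroup.inv_mem _ hb'), fun i => ?_⟩
  show ((((b : GL (Fin (m + m)) F) * (u : GL (Fin (m + m)) F) * (b : GL (Fin (m + m)) F)⁻¹ :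
    GL (Fin (m + m)) F)) : Matrix (Fin (m + m)) (Fin (m + m)) F) i i = 1
  rw [Bup_mul_diag (Subgroup.mul_mem _ hb' hu.1) (Subgroup.inv_mem _ hb'),
    Bup_mul_diag hb' hu.1, hu.2 i, mul_one, mul_comm]
  exact Bup_inv_diag hb' i

/-- root elements in `U` with a prescribed non-zero entry -/
lemma exists_UG_entry {p q : Fin (m + m)} (hpq : p < q) :
    ∃ X : ↥(SpG m F), X ∈ UG m F ∧
      ((X : GL (Fin (m + m)) F) : Matrix (Fin (m + m)) (Fin (m + m)) F) p q ≠ 0 := by
  have hne : p ≠ q := ne_of_lt hpq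
  by_cases hq : q = p.rev
  · subst hq
    refine ⟨⟨xGL p p.rev hne 1, xGL_long_mem _ _⟩, ⟨xGL_mem_Bup hpq _, fun i => ?_⟩, ?_⟩
    · show ((xGL p p.rev hne (1 : F) : GL (Fin (m + m)) F) :
        Matrix (Fin (m + m)) (Fin (m + m)) F) i i = 1
      rw [coe_xGL, transvection_apply', if_pos rfl, if_neg, add_zero]
      rintro ⟨h1, h2⟩
      exact hne (h1.symm.trans h2)
    · show ((xGL p p.rev hne (1 : F) : GL (Fin (m + m)) F) :
        Matrix (Fin (m + m)) (Fin (m + m)) F) p p.rev ≠ 0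
      rw [coe_xGL, transvection_apply', if_neg hne, if_pos ⟨rfl, rfl⟩, zero_add]
      exact one_ne_zero
  · have hlt' : q.rev < p.rev := Fin.rev_lt_rev.mpr hpq
    refine ⟨⟨xsGL p q hne 1, xsGL_mem _ _ _ _⟩, ⟨?_, fun i => ?_⟩, ?_⟩
    · show xsGL p q hne (1 : F) ∈ Bup (m + m) F
      unfold xsGL
      exact Subgroup.mul_mem _ (xGL_mem_Bup hpq _) (xGL_mem_Bup hlt' _)
    · show ((xsGL p q hne (1 : F) : GL (Fin (m + m)) F) :
        Matrix (Fin (m + m)) (Fin (m + m)) F) i i = 1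
      rw [xsGL_apply, if_pos rfl, if_neg, if_neg, add_zero, add_zero]
      · rintro ⟨h1, h2⟩
        exact hne (h1.symm.trans h2)
      · rintro ⟨h1, h2⟩
        exact hne (Fin.rev_injective (h2.symm.trans h1))
    · show ((xsGL p q hne (1 : F) : GL (Fin (m + m)) F) :
        Matrix (Fin (m + m)) (Fin (m + m)) F) p q ≠ 0
      rw [xsGL_apply, if_neg hne, if_neg, if_pos ⟨rfl, rfl⟩, zero_add, zero_add]
      · exact one_ne_zero
      · rintro ⟨-, h2⟩
        exact hq h2

/-- an element conjugating `U` into `B` lies in `B` -/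
lemma mem_BG_of_conj_UG {g : ↥(SpG m F)} (h : ∀ u ∈ UG m F, g⁻¹ * u * g ∈ BG m F) :
    g ∈ BG m F := by
  obtain ⟨n, hn, hg⟩ := exists_dc (spBN m F) g
  rw [mem_dc] at hg
  obtain ⟨b, hb, b', hb', rfl⟩ := hg
  have hbB : b ∈ BG m F := hb
  have hb'B : b' ∈ BG m F := hb'
  have hnN : n ∈ NG m F := hn
  obtain ⟨σ, c, hσ⟩ := exists_monoGL hnN
  have key : ∀ u ∈ UG m F, n⁻¹ * u * n ∈ BG m F := by
    intro u hu
    have h1 := h (b * u * b⁻¹) (UG_conj_mem hbB hu)
    have e : n⁻¹ * u * n = b' * ((b * n * b')⁻¹ * (b * u * b⁻¹) * (b * n * b')) * b'⁻¹ := by group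
    rw [e]
    exact Subgroup.mul_mem _ (Subgroup.mul_mem _ hb'B h1) (Subgroup.inv_mem _ hb'B)
  have hσ1 : σ⁻¹ = 1 := by
    apply perm_eq_one_of_adj
    intro i j hij
    have hlt : i < j := by rw [Fin.lt_def]; omega
    obtain ⟨X, hXU, hX⟩ := exists_UG_entry (F := F) hlt
    have h2 := key X hXU
    rw [mem_BG, coe_conj, hσ] at h2
    exact lt_of_conj_mem_Bup h2 (ne_of_lt hlt) hX
  have hσ2 : σ = 1 := by rw [← inv_inv σ, hσ1, inv_one]
  have hnB : n ∈ BG m F := by
    rw [mem_BG, hσ, monoGL_mem_Bup_iff]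
    exact hσ2
  exact Subgroup.mul_mem _ (Subgroup.mul_mem _ hbB hnB) hb'B

section sylow

variable [Fintype F] (p : ℕ) [Fact p.Prime] [CharP F p]

lemma not_dvd_index_BG : ¬ p ∣ (BG m F).index := by
  have hp : p.Prime := Fact.out
  have hmod := (isPGroup_UG (m := m) (F := F) p).card_modEq_card_fixedPoints
    (↥(SpG m F) ⧸ BG m F)
  have hfix : Nat.card (MulAction.fixedPoints (UG m F) (↥(SpG m F) ⧸ BG m F)) = 1 := by
    rw [Nat.card_eq_one_iff_unique]
    constructor
    · constructor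
      rintro ⟨x, hx⟩ ⟨y, hy⟩
      apply Subtype.ext
      show x = y
      have hB : ∀ z : ↥(SpG m F) ⧸ BG m F, z ∈ MulAction.fixedPoints (UG m F) (↥(SpG m F) ⧸ BG m F) →
          z = QuotientGroup.mk 1 := by
        intro z hz
        obtain ⟨g, rfl⟩ := QuotientGroup.mk_surjective z
        have hg : g ∈ BG m F := by
          apply mem_BG_of_conj_UG
          intro u hu
          have h1 := hz ⟨u⁻¹, (UG m F).inv_mem hu⟩
          have h2 : ((u⁻¹ * g : ↥(SpG m F)) : ↥(SpG m F) ⧸ BG m F) = (g : ↥(SpG m F) ⧸ BG m F) := h1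
          rw [QuotientGroup.eq] at h2
          have e : g⁻¹ * u * g = (u⁻¹ * g)⁻¹ * g := by group
          rw [e]
          exact h2
        rw [QuotientGroup.eq, mul_one]
        exact Subgroup.inv_mem _ hg
      rw [hB x hx, hB y hy]
    · refine ⟨⟨QuotientGroup.mk 1, ?_⟩⟩
      intro u
      show (((u : ↥(SpG m F)) * 1 : ↥(SpG m F)) : ↥(SpG m F) ⧸ BG m F) = _
      rw [QuotientGroup.eq, mul_one, mul_one]
      exact Subgroup.inv_mem _ (UG_le_BG u.2)
  rw [hfix] at hmod
  intro hdvd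
  rw [Subgroup.index_eq_card] at hdvd
  have h0 : Nat.card (↥(SpG m F) ⧸ BG m F) ≡ 0 [MOD p] := (Nat.modEq_zero_iff_dvd).mpr hdvd
  have h1 : 1 ≡ 0 [MOD p] := hmod.symm.trans h0
  have := (Nat.modEq_zero_iff_dvd).mp h1
  exact hp.one_lt.ne' (Nat.dvd_one.mp this)

theorem not_dvd_index_UG : ¬ p ∣ (UG m F).index := by
  have hp : p.Prime := Fact.out
  rw [← Subgroup.relIndex_mul_index (UG_le_BG (m := m) (F := F))]
  intro h
  rcases hp.dvd_mul.mp h with h1 | h1
  · exact not_dvd_relIndex p h1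
  · exact not_dvd_index_BG p h1

/-- the unitriangular group as a Sylow subgroup -/
noncomputable def sylowUG (m : ℕ) (F : Type*) [Field F] [Fintype F] (p : ℕ) [Fact p.Prime]
    [CharP F p] : Sylow p ↥(SpG m F) :=
  (isPGroup_UG (m := m) (F := F) p).toSylow (not_dvd_index_UG p)

theorem coe_sylowUG :
    ((sylowUG m F p : Sylow p ↥(SpG m F)) : Subgroup ↥(SpG m F)) = UG m F :=
  IsPGroup.toSylow_coe _ _

end sylow

end Cfsg.Agent.Lib.Helper15.SpBN
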