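import Mathlib
import Cfsg.Agent.Lib.Helper15.OrBNB
import Cfsg.Agent.Lib.Helper15.SpBNH

/-!
helper15: the unitriangular subgroup of the group `GUJ σ n` (odd dimension) over a finite field of
characteristic `p` is a Sylow `p`-subgroup: the only point of `G/B` fixed by it is the base point.
-/

set_option autoImplicit false

namespace Cfsg.Agent.Lib.Helper15.OrBN

open Matrix Equiv Cfsg Cfsg.Agent.Lib.Helper3.BN Cfsg.Agent.Lib.Helper6.BNSt
  Cfsg.Agent.Lib.Helper6.GLBN Cfsg.Agent.Lib.Helper6.GLSt Cfsg.Agent.Lib.Helper15.UnBN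
open Cfsg.Agent.Lib.Helper15.SpBN (perm_eq_one_of_adj lt_of_conj_mem_Bup)
open Cfsg.Agent.Lib.Helper16.FusSU (emb emb_apply_mem emb_apply_of_not_left
  emb_apply_of_not_right)

variable {n : ℕ} {F : Type*} [Field F] {σ : F →+* F}

/-! ### diagonal entries of embedded matrices -/

lemma emb_diag_one {r : ℕ} {ι : Fin r → Fin n} (hι : Function.Injective ι)
    {M : Matrix (Fin r) (Fin r) F} (hM : ∀ α, M α α = 1) (i : Fin n) : emb ι M i i = 1 := by
  by_cases hi : ∃ α, i = ι α
  · obtain ⟨α, rfl⟩ := hi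
    rw [emb_apply_mem hι, hM]
  · rw [emb_apply_of_not_left ι M (fun α => (not_exists.mp hi) α), Matrix.one_apply_eq]

lemma U3_diag (a ab b : F) (α : Fin 3) : U3 a ab b α α = 1 := by
  fin_cases α <;> simp [U3]

lemma L3_diag (c cb d : F) (α : Fin 3) : L3 c cb d α α = 1 := by
  fin_cases α <;> simp [L3]

section odd

variable {k k' : Fin n} (hk : k'.val = k.val + 1) (hn : 2 * k.val + 3 = n)
include hk hn

lemma uO_diag (a ab b : F) (i : Fin n) :
    ((uO hk hn a ab b : GL (Fin n) F) : Matrix (Fin n) (Fin n) F) i i = 1 := by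
  rw [coe_uO]
  exact emb_diag_one (io_strictMono hk hn).injective (U3_diag a ab b) i

lemma lO_diag (c cb d : F) (i : Fin n) :
    ((lO hk hn c cb d : GL (Fin n) F) : Matrix (Fin n) (Fin n) F) i i = 1 := by
  rw [coe_lO]
  exact emb_diag_one (io_strictMono hk hn).injective (L3_diag c cb d) i

lemma uO_apply_k_k' (a ab b : F) :
    ((uO hk hn a ab b : GL (Fin n) F) : Matrix (Fin n) (Fin n) F) k k' = a := by
  rw [coe_uO]
  have := emb_apply_mem (io_strictMono hk hn).injective (U3 a ab b) 0 1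
  simpa [io, U3] using this

lemma uO_apply_k'_rev (a ab b : F) :
    ((uO hk hn a ab b : GL (Fin n) F) : Matrix (Fin n) (Fin n) F) k' k.rev = -ab := by
  rw [coe_uO]
  have := emb_apply_mem (io_strictMono hk hn).injective (U3 a ab b) 1 2
  simpa [io, U3] using this

/-- the lower root elements of the last simple root are lower triangular -/
lemma lO_lower (c cb d : F) {i j : Fin n} (hij : i < j) :
    ((lO hk hn c cb d : GL (Fin n) F) : Matrix (Fin n) (Fin n) F) i j = 0 := by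
  by_contra h
  rw [coe_lO] at h
  obtain ⟨α, β, hαβ, rfl, rfl, hM⟩ := emb_apply_ne (io_strictMono hk hn).injective _ (ne_of_lt hij) h
  have := L3_apply_ne hαβ hM
  exact absurd ((io_strictMono hk hn) this) (not_lt.mpr (le_of_lt hij))

end odd

/-! ### the diagonal homomorphism -/

/-- the diagonal of an upper triangular matrix -/
noncomputable def diagHom (σ : F →+* F) (n : ℕ) : BG σ n →* (Fin n → Fˣ) where
  toFun b i := Units.mk0 _ (diag_ne_zero (mem_BG.mp b.2) i)
  map_one' := by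
    funext i
    apply Units.ext
    simp
  map_mul' a b := by
    funext i
    apply Units.ext
    show ((((a : ↥(GUJ σ n)) : GL (Fin n) F) * ((b : ↥(GUJ σ n)) : GL (Fin n) F) :
      GL (Fin n) F) : Matrix (Fin n) (Fin n) F) i i = _
    rw [Bup_mul_diag (mem_BG.mp a.2) (mem_BG.mp b.2)]
    rfl

lemma diagHom_ker : (diagHom σ n).ker = (UG σ n).subgroupOf (BG σ n) := by
  ext b
  rw [MonoidHom.mem_ker, Subgroup.mem_subgroupOf, mem_UG]
  constructor
  · intro h
    refine ⟨mem_BG.mp b.2, fun i => ?_⟩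
    have := congrArg (fun f : Fin n → Fˣ => ((f i : Fˣ) : F)) h
    exact this
  · intro h
    funext i
    apply Units.ext
    exact h.2 i

section index

variable [Fintype F] (p : ℕ) [Fact p.Prime] [CharP F p]

lemma not_dvd_relIndex : ¬ p ∣ (UG σ n).relIndex (BG σ n) := by
  classical
  have hp : p.Prime := Fact.out
  unfold Subgroup.relIndex
  rw [← diagHom_ker, Subgroup.index_ker]
  intro h
  have h1 : Nat.card (diagHom σ n).range ∣ Nat.card (Fin n → Fˣ) :=
    Subgroup.card_subgroup_dvd_card _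
  have h2 : Nat.card (Fin n → Fˣ) = (Fintype.card F - 1) ^ n := by
    rw [Nat.card_eq_fintype_card, Fintype.card_fun, Fintype.card_units, Fintype.card_fin]
  rw [h2] at h1
  exact Cfsg.Agent.Lib.Helper15.SpBN.not_dvd_card_units (F := F) p
    (hp.dvd_of_dvd_pow (dvd_trans h h1))

end index

/-! ### root elements with a prescribed entry next to the diagonal -/

lemma exists_UG_entry (hσ : ∀ x, σ (σ x) = x) (hodd : Odd n)
    (hac : ∃ a c : F, a ≠ 0 ∧ c + σ c + a * σ a = 0) {p q : Fin n} (hpq : q.val = p.val + 1) :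
    ∃ X : ↥(GUJ σ n), X ∈ UG σ n ∧
      ((X : GL (Fin n) F) : Matrix (Fin n) (Fin n) F) p q ≠ 0 := by
  obtain ⟨m, hm⟩ := hodd
  obtain ⟨a, c, ha, hrel⟩ := hac
  have hσa : σ a ≠ 0 := fun e => ha ((map_eq_zero σ).mp e)
  have hvp := Fin.val_rev p
  have hvq := Fin.val_rev q
  have hlt : p < q := by rw [Fin.lt_def]; omega
  have hne : p ≠ q := ne_of_lt hlt
  by_cases c1 : q.val = m
  · -- `q` is the middle
    have hn3 : 2 * p.val + 3 = n := by omega
    refine ⟨⟨uO hpq hn3 a (σ a) c, uO_mem hpq hn3 hσ hrel⟩, ⟨uO_mem_Bup hpq hn3 _ _ _,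
      fun i => uO_diag hpq hn3 _ _ _ i⟩, ?_⟩
    show ((uO hpq hn3 a (σ a) c : GL (Fin n) F) : Matrix (Fin n) (Fin n) F) p q ≠ 0
    rw [uO_apply_k_k']
    exact ha
  · by_cases c2 : p.val = m
    · -- `p` is the middle
      have hk0 : m - 1 < n := by omega
      set k : Fin n := ⟨m - 1, hk0⟩ with hkdef
      have hkv : k.val = m - 1 := rfl
      have hm1 : 1 ≤ m := by
        have := q.2; omega
      have hkp : p.val = k.val + 1 := by omega
      have hn3 : 2 * k.val + 3 = n := by omega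
      have hq : q = k.rev := by
        apply Fin.ext
        rw [Fin.val_rev]
        omega
      refine ⟨⟨uO hkp hn3 a (σ a) c, uO_mem hkp hn3 hσ hrel⟩, ⟨uO_mem_Bup hkp hn3 _ _ _,
        fun i => uO_diag hkp hn3 _ _ _ i⟩, ?_⟩
      show ((uO hkp hn3 a (σ a) c : GL (Fin n) F) : Matrix (Fin n) (Fin n) F) p q ≠ 0
      rw [hq, uO_apply_k'_rev]
      exact neg_ne_zero.mpr hσa
    · -- neither is the middle
      have hp : p ≠ p.rev := by apply Fin.ne_of_val_ne; omega
      have hq : q ≠ q.rev := by apply Fin.ne_of_val_ne; omega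
      have hlt' : q.rev < p.rev := Fin.rev_lt_rev.mpr hlt
      refine ⟨⟨xsU σ p q hne 1, xsU_mem hσ hne hp hq 1⟩, ⟨?_, fun i => ?_⟩, ?_⟩
      · show xsU σ p q hne (1 : F) ∈ Bup n F
        unfold xsU
        exact Subgroup.mul_mem _ (xGL_mem_Bup hlt _) (xGL_mem_Bup hlt' _)
      · show ((xsU σ p q hne (1 : F) : GL (Fin n) F) : Matrix (Fin n) (Fin n) F) i i = 1
        rw [xsU_apply hne hq, if_pos rfl, if_neg, if_neg, add_zero, add_zero]
        · rintro ⟨h1, h2⟩
          exact hne (h1.symm.trans h2)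
        · rintro ⟨h1, h2⟩
          exact hne (Fin.rev_injective (h2.symm.trans h1))
      · show ((xsU σ p q hne (1 : F) : GL (Fin n) F) : Matrix (Fin n) (Fin n) F) p q ≠ 0
        rw [xsU_apply hne hq, if_neg hne, if_neg, if_pos ⟨rfl, rfl⟩, zero_add, zero_add]
        · exact one_ne_zero
        · rintro ⟨h1, -⟩
          rw [h1, Fin.val_rev] at hpq
          omega

/-! ### fixed points of `U` on `G/B` -/

section fixed

variable (hσ : ∀ x, σ (σ x) = x) (hsk : SkOK σ n)

include hσ hsk in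
/-- an element conjugating `U` into `B` lies in `B` -/
lemma mem_BG_of_conj_UG (hodd : Odd n) (hac : ∃ a c : F, a ≠ 0 ∧ c + σ c + a * σ a = 0)
    {g : ↥(GUJ σ n)} (h : ∀ u ∈ UG σ n, g⁻¹ * u * g ∈ BG σ n) : g ∈ BG σ n := by
  obtain ⟨x, hx, hg⟩ := exists_dc (unBN σ n hσ hsk) g
  rw [mem_dc] at hg
  obtain ⟨b, hb, b', hb', rfl⟩ := hg
  have hbB : b ∈ BG σ n := hb
  have hb'B : b' ∈ BG σ n := hb'
  have hxN : x ∈ NG σ n := hx
  obtain ⟨τ, c, hτ⟩ := exists_monoGL hxN
  have key : ∀ u ∈ UG σ n, x⁻¹ * u * x ∈ BG σ n := by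
    intro u hu
    have h1 := h (b * u * b⁻¹) (UG_conj_mem hbB hu)
    have e : x⁻¹ * u * x = b' * ((b * x * b')⁻¹ * (b * u * b⁻¹) * (b * x * b')) * b'⁻¹ := by
      group
    rw [e]
    exact Subgroup.mul_mem _ (Subgroup.mul_mem _ hb'B h1) (Subgroup.inv_mem _ hb'B)
  have hτ1 : τ⁻¹ = 1 := by
    apply perm_eq_one_of_adj
    intro i j hij
    obtain ⟨X, hXU, hX⟩ := exists_UG_entry hσ hodd hac hij
    have h2 := key X hXU
    rw [mem_BG, coe_conj, hτ] at h2
    have hne : i ≠ j := by apply Fin.ne_of_val_ne; omega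
    exact lt_of_conj_mem_Bup h2 hne hX
  have hτ2 : τ = 1 := by rw [← inv_inv τ, hτ1, inv_one]
  have hxB : x ∈ BG σ n := by
    rw [mem_BG, hτ, monoGL_mem_Bup_iff]
    exact hτ2
  exact Subgroup.mul_mem _ (Subgroup.mul_mem _ hbB hxB) hb'B

variable [Fintype F] (p : ℕ) [Fact p.Prime] [CharP F p]

include hσ hsk in
lemma not_dvd_index_BG (hodd : Odd n) (hac : ∃ a c : F, a ≠ 0 ∧ c + σ c + a * σ a = 0) :
    ¬ p ∣ (BG σ n).index := by
  have hp : p.Prime := Fact.out
  have hmod := (isPGroup_UG (σ := σ) (n := n) p).card_modEq_card_fixedPoints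
    (↥(GUJ σ n) ⧸ BG σ n)
  have hfix : Nat.card (MulAction.fixedPoints (UG σ n) (↥(GUJ σ n) ⧸ BG σ n)) = 1 := by
    rw [Nat.card_eq_one_iff_unique]
    constructor
    · constructor
      rintro ⟨x, hx⟩ ⟨y, hy⟩
      apply Subtype.ext
      show x = y
      have hB : ∀ z : ↥(GUJ σ n) ⧸ BG σ n,
          z ∈ MulAction.fixedPoints (UG σ n) (↥(GUJ σ n) ⧸ BG σ n) →
          z = QuotientGroup.mk 1 := by
        intro z hz
        obtain ⟨g, rfl⟩ := QuotientGroup.mk_surjective z
        have hg : g ∈ BG σ n := by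
          apply mem_BG_of_conj_UG hσ hsk hodd hac
          intro u hu
          have h1 := hz ⟨u⁻¹, (UG σ n).inv_mem hu⟩
          have h2 : ((u⁻¹ * g : ↥(GUJ σ n)) : ↥(GUJ σ n) ⧸ BG σ n) =
              (g : ↥(GUJ σ n) ⧸ BG σ n) := h1
          rw [QuotientGroup.eq] at h2
          have e : g⁻¹ * u * g = (u⁻¹ * g)⁻¹ * g := by group
          rw [e]
          exact h2
        rw [QuotientGroup.eq, mul_one]
        exact Subgroup.inv_mem _ hg
      rw [hB x hx, hB y hy]
    · refine ⟨⟨QuotientGroup.mk 1, ?_⟩⟩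
      intro u
      show (((u : ↥(GUJ σ n)) * 1 : ↥(GUJ σ n)) : ↥(GUJ σ n) ⧸ BG σ n) = _
      rw [QuotientGroup.eq, mul_one, mul_one]
      exact Subgroup.inv_mem _ (UG_le_BG u.2)
  rw [hfix] at hmod
  intro hdvd
  rw [Subgroup.index_eq_card] at hdvd
  have h0 : Nat.card (↥(GUJ σ n) ⧸ BG σ n) ≡ 0 [MOD p] := (Nat.modEq_zero_iff_dvd).mpr hdvd
  have h1 : 1 ≡ 0 [MOD p] := hmod.symm.trans h0
  have := (Nat.modEq_zero_iff_dvd).mp h1
  exact hp.one_lt.ne' (Nat.dvd_one.mp this)

include hσ hsk in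
theorem not_dvd_index_UG (hodd : Odd n) (hac : ∃ a c : F, a ≠ 0 ∧ c + σ c + a * σ a = 0) :
    ¬ p ∣ (UG σ n).index := by
  have hp : p.Prime := Fact.out
  rw [← Subgroup.relIndex_mul_index (UG_le_BG (σ := σ) (n := n))]
  intro h
  rcases hp.dvd_mul.mp h with h1 | h1
  · exact not_dvd_relIndex p h1
  · exact not_dvd_index_BG hσ hsk p hodd hac h1

include hσ hsk in
/-- the order of the unitriangular group is the `p`-part of the order of the group -/
theorem card_UG_eq (hodd : Odd n) (hac : ∃ a c : F, a ≠ 0 ∧ c + σ c + a * σ a = 0) :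
    Nat.card (UG σ n) = p ^ (Nat.card ↥(GUJ σ n)).factorization p := by
  have h := Sylow.card_eq_multiplicity
    ((isPGroup_UG (σ := σ) (n := n) p).toSylow (not_dvd_index_UG hσ hsk p hodd hac))
  rw [← h]
  exact Nat.card_congr (Equiv.setCongr (by rw [IsPGroup.toSylow_coe]))

end fixed

end Cfsg.Agent.Lib.Helper15.OrBN
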