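import Mathlib
import Cfsg.Agent.Lib.Helper15.OrBNC

/-!
helper15: the orthogonal group `GUJ (RingHom.id F) n` of the antidiagonal symmetric form, `n` odd,
odd characteristic: the group is the product of its commutator subgroup and the diagonal torus.
-/

set_option autoImplicit false

namespace Cfsg.Agent.Lib.Helper15.OrBN

open Matrix Equiv Cfsg Cfsg.Agent.Lib.Helper3.BN Cfsg.Agent.Lib.Helper6.BNSt
  Cfsg.Agent.Lib.Helper6.GLBN Cfsg.Agent.Lib.Helper6.GLSt Cfsg.Agent.Lib.Helper15.UnBN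
open Cfsg.Agent.Lib.Helper15.SpBN (conj_monoGL_apply)

variable {n : ℕ} {F : Type*} [Field F] {σ : F →+* F}

/-! ### the hypotheses for the identity automorphism -/

lemma id_invol : ∀ x : F, (RingHom.id F) ((RingHom.id F) x) = x := fun _ => rfl

lemma id_hac (h2 : (2 : F) ≠ 0) :
    ∃ a c : F, a ≠ 0 ∧ c + (RingHom.id F) c + a * (RingHom.id F) a = 0 := by
  refine ⟨1, -(2 : F)⁻¹, one_ne_zero, ?_⟩
  simp only [RingHom.id_apply]
  field_simp
  ring

lemma id_skOK (h2 : (2 : F) ≠ 0) (hodd : Odd n) : SkOK (RingHom.id F) n := by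
  apply skOK_of_odd hodd
  refine ⟨1, -(2 : F)⁻¹, neg_ne_zero.mpr (inv_ne_zero h2), ?_⟩
  simp only [RingHom.id_apply]
  field_simp
  ring

/-! ### the antidiagonal permutation matrix -/

lemma w0_mem : (monoGL Fin.revPerm (fun _ => 1) : GL (Fin n) F) ∈ GUJ σ n := by
  rw [monoGL_mem_GUJ_iff]
  refine ⟨fun a => ?_, fun a => by simp⟩
  rw [Fin.revPerm_apply, Fin.revPerm_apply]

/-- the antidiagonal permutation matrix, as an element of the group -/
def w0G (σ : F →+* F) (n : ℕ) : ↥(GUJ σ n) := ⟨monoGL Fin.revPerm (fun _ => 1), w0_mem⟩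

lemma w0G_conj_apply (X : ↥(GUJ σ n)) (i j : Fin n) :
    (((w0G σ n)⁻¹ * X * w0G σ n : ↥(GUJ σ n)) : GL (Fin n) F).1 i j =
      ((X : GL (Fin n) F) : Matrix (Fin n) (Fin n) F) i.rev j.rev := by
  have := conj_monoGL_apply (Fin.revPerm : Perm (Fin n)) (fun _ => (1 : Fˣ)) (X : GL (Fin n) F) i j
  rw [Fin.revPerm_apply, Fin.revPerm_apply] at this
  simp only [inv_one, Units.val_one, one_mul, mul_one] at this
  exact this

/-- a lower unitriangular element is conjugate to an upper unitriangular one -/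
lemma w0G_conj_mem_UG {y : ↥(GUJ σ n)}
    (h0 : ∀ i j : Fin n, i < j → ((y : GL (Fin n) F) : Matrix (Fin n) (Fin n) F) i j = 0)
    (h1 : ∀ i : Fin n, ((y : GL (Fin n) F) : Matrix (Fin n) (Fin n) F) i i = 1) :
    (w0G σ n)⁻¹ * y * w0G σ n ∈ UG σ n := by
  rw [mem_UG, mem_Bup]
  constructor
  · intro i j hji
    have := w0G_conj_apply y i j
    rw [h0 _ _ (Fin.rev_lt_rev.mpr hji)] at this
    exact this
  · intro i
    have := w0G_conj_apply y i i
    rw [h1] at this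
    exact this

/-! ### the Borel subgroup is the product of the unitriangular group and the torus -/

lemma exists_UG_mul_TG {b : ↥(GUJ σ n)} (hb : b ∈ BG σ n) :
    ∃ u ∈ UG σ n, ∃ d ∈ TG σ n, b = u * d := by
  have hb' : (b : GL (Fin n) F) ∈ Bup n F := mem_BG.mp hb
  have hbS : (b : GL (Fin n) F) ∈ GUJ σ n := b.2
  let c : Fin n → Fˣ := fun j => Units.mk0 _ (diag_ne_zero hb' j)
  have hdS : (monoGL 1 c : GL (Fin n) F) ∈ GUJ σ n := by
    rw [monoGL_mem_GUJ_iff]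
    refine ⟨fun a => rfl, fun a => ?_⟩
    exact diag_mul_diag_rev hbS hb' a
  have hdB : (monoGL 1 c : GL (Fin n) F) ∈ Bup n F := by
    rw [monoGL_mem_Bup_iff]
  set d : ↥(GUJ σ n) := ⟨monoGL 1 c, hdS⟩ with hd
  have huU : b * d⁻¹ ∈ UG σ n := by
    refine ⟨Subgroup.mul_mem _ hb' (Subgroup.inv_mem _ hdB), fun i => ?_⟩
    show (((b : GL (Fin n) F) * (monoGL 1 c)⁻¹ : GL (Fin n) F) :
      Matrix (Fin n) (Fin n) F) i i = 1
    rw [Bup_mul_diag hb' (Subgroup.inv_mem _ hdB)]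
    have h1 := Bup_inv_diag hdB i
    have h2 : ((monoGL 1 c : GL (Fin n) F) : Matrix (Fin n) (Fin n) F) i i =
        (b : GL (Fin n) F).1 i i := by
      rw [coe_monoGL, mono_apply, Perm.one_apply, if_pos rfl]
      rfl
    rw [h2] at h1
    rw [mul_comm]
    exact h1
  refine ⟨b * d⁻¹, huU, d, ?_, by group⟩
  rw [mem_TG]
  exact ⟨c, rfl⟩

/-! ### short root elements -/

lemma xsU_mem_UG (hσ : ∀ x, σ (σ x) = x) {p q : Fin n} (hlt : p < q) (hp : p ≠ p.rev)
    (hq : q ≠ q.rev) (t : F) :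
    (⟨xsU σ p q (ne_of_lt hlt) t, xsU_mem hσ (ne_of_lt hlt) hp hq t⟩ : ↥(GUJ σ n)) ∈ UG σ n := by
  have hne : p ≠ q := ne_of_lt hlt
  have hlt' : q.rev < p.rev := Fin.rev_lt_rev.mpr hlt
  refine ⟨?_, fun i => ?_⟩
  · show xsU σ p q hne t ∈ Bup n F
    unfold xsU
    exact Subgroup.mul_mem _ (xGL_mem_Bup hlt _) (xGL_mem_Bup hlt' _)
  · show ((xsU σ p q hne t : GL (Fin n) F) : Matrix (Fin n) (Fin n) F) i i = 1
    rw [xsU_apply hne hq, if_pos rfl, if_neg, if_neg, add_zero, add_zero]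
    · rintro ⟨h1, h2⟩
      exact hne (h1.symm.trans h2)
    · rintro ⟨h1, h2⟩
      exact hne (Fin.rev_injective (h2.symm.trans h1))

lemma xsU_lower {p q : Fin n} (hlt : q < p) (hq : q ≠ q.rev) (t : F) {i j : Fin n}
    (hij : i < j) :
    ((xsU σ p q (ne_of_gt hlt) t : GL (Fin n) F) : Matrix (Fin n) (Fin n) F) i j = 0 := by
  rw [xsU_apply (ne_of_gt hlt) hq, if_neg (ne_of_lt hij), if_neg, if_neg, add_zero, add_zero]
  · rintro ⟨h1, h2⟩
    rw [h1, h2] at hij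
    exact absurd hij (not_lt.mpr (le_of_lt hlt))
  · rintro ⟨h1, h2⟩
    rw [h1, h2] at hij
    exact absurd (Fin.rev_lt_rev.mp hij) (not_lt.mpr (le_of_lt hlt))

lemma xsU_diag {p q : Fin n} (hpq : p ≠ q) (hq : q ≠ q.rev) (t : F) (i : Fin n) :
    ((xsU σ p q hpq t : GL (Fin n) F) : Matrix (Fin n) (Fin n) F) i i = 1 := by
  rw [xsU_apply hpq hq, if_pos rfl, if_neg, if_neg, add_zero, add_zero]
  · rintro ⟨h1, h2⟩
    exact hpq (h1.symm.trans h2)
  · rintro ⟨h1, h2⟩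
    exact hpq (Fin.rev_injective (h2.symm.trans h1))

end Cfsg.Agent.Lib.Helper15.OrBN
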