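import Mathlib
import Cfsg.Agent.Lib.Helper15.OrBND

/-!
helper15: the orthogonal group `GUJ (RingHom.id F) n`, `n` odd, odd characteristic, is the product
of its commutator subgroup and the diagonal torus; central elements of the commutator subgroup are
scalar.
-/

set_option autoImplicit false

namespace Cfsg.Agent.Lib.Helper15.OrBN

open Matrix Equiv Cfsg Cfsg.Agent.Lib.Helper3.BN Cfsg.Agent.Lib.Helper6.BNSt
  Cfsg.Agent.Lib.Helper6.GLBN Cfsg.Agent.Lib.Helper6.GLSt Cfsg.Agent.Lib.Helper15.UnBN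

open scoped Pointwise

variable {n : ℕ} {F : Type*} [Field F] [Fintype F] (p : ℕ) [Fact p.Prime] [CharP F p]

local notation "σ₀" => RingHom.id F

/-- lower unitriangular elements lie in the commutator subgroup -/
lemma lower_mem_commutator (hp2 : p ≠ 2) (h2 : (2 : F) ≠ 0) {y : ↥(GUJ σ₀ n)}
    (h0 : ∀ i j : Fin n, i < j → ((y : GL (Fin n) F) : Matrix (Fin n) (Fin n) F) i j = 0)
    (h1 : ∀ i : Fin n, ((y : GL (Fin n) F) : Matrix (Fin n) (Fin n) F) i i = 1) :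
    y ∈ commutator ↥(GUJ σ₀ n) := by
  have hu := UG_le_commutator p hp2 h2 (w0G_conj_mem_UG h0 h1)
  have hnorm : (commutator ↥(GUJ σ₀ n)).Normal := inferInstance
  have := hnorm.conj_mem _ hu (w0G σ₀ n)
  have e : w0G σ₀ n * ((w0G σ₀ n)⁻¹ * y * w0G σ₀ n) * (w0G σ₀ n)⁻¹ = y := by group
  rw [e] at this
  exact this

/-- the simple reflections lie in the product of the commutator subgroup and the torus -/
lemma SG_subset_sup (hp2 : p ≠ 2) (h2 : (2 : F) ≠ 0) (hodd : Odd n) {s : ↥(GUJ σ₀ n)}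
    (hs : s ∈ SG σ₀ n) : s ∈ commutator ↥(GUJ σ₀ n) ⊔ TG σ₀ n := by
  have hUle : UG σ₀ n ≤ commutator ↥(GUJ σ₀ n) ⊔ TG σ₀ n :=
    le_trans (UG_le_commutator p hp2 h2) le_sup_left
  have hBle : BG σ₀ n ≤ commutator ↥(GUJ σ₀ n) ⊔ TG σ₀ n := by
    intro b hb
    obtain ⟨u, hu, d, hd, rfl⟩ := exists_UG_mul_TG hb
    exact Subgroup.mul_mem _ (hUle hu) (Subgroup.mem_sup_right hd)
  -- it suffices to produce `x`, `y` in the subgroup with `s * x * y ∈ B`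
  have key : ∀ x y : ↥(GUJ σ₀ n), x ∈ commutator ↥(GUJ σ₀ n) ⊔ TG σ₀ n →
      y ∈ commutator ↥(GUJ σ₀ n) ⊔ TG σ₀ n → s * x * y ∈ BG σ₀ n →
      s ∈ commutator ↥(GUJ σ₀ n) ⊔ TG σ₀ n := by
    intro x y hx hy hb
    have e : s = (s * x * y) * y⁻¹ * x⁻¹ := by group
    rw [e]
    exact Subgroup.mul_mem _ (Subgroup.mul_mem _ (hBle hb) (Subgroup.inv_mem _ hy))
      (Subgroup.inv_mem _ hx)
  obtain ⟨k, hk⟩ := hs
  rcases hk with ⟨k', hk', hkm, hs'⟩ | ⟨hl | ho, hs'⟩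
  · obtain ⟨g1, g2, g3, g4, g5, g6, g7, g8⟩ := short_idx hk' hkm
    have hlt : k < k' := by rw [Fin.lt_def]; omega
    apply key ⟨xsU σ₀ k k' g1 1, xsU_mem id_invol g1 g3 g4 1⟩
      ⟨xsU σ₀ k' k g1.symm (-(1 : F)⁻¹), xsU_mem id_invol g1.symm g4 g3 _⟩
    · exact hUle (xsU_mem_UG id_invol hlt g3 g4 1)
    · apply Subgroup.mem_sup_left
      apply lower_mem_commutator p hp2 h2
      · intro i j hij
        exact xsU_lower hlt g3 _ hij
      · intro i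
        exact xsU_diag g1.symm g3 _ i
    · rw [mem_BG, coe_mul3, hs']
      exact short_rank_one hk' hkm g1 one_ne_zero
  · exfalso
    rw [← hl] at hodd
    exact (Nat.not_even_iff_odd.mpr hodd) ⟨k.val + 1, by ring⟩
  · have hlt : k.val + 1 < n := by omega
    have hk' : (⟨k.val + 1, hlt⟩ : Fin n).val = k.val + 1 := rfl
    have hc0 : (-(2 : F)⁻¹) ≠ 0 := neg_ne_zero.mpr (inv_ne_zero h2)
    have hrel : (-(2 : F)⁻¹) + σ₀ (-(2 : F)⁻¹) + 1 * σ₀ 1 = 0 := by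
      simp only [RingHom.id_apply]
      field_simp
      ring
    have hrel' : (1 / σ₀ (-(2 : F)⁻¹)) + σ₀ (1 / σ₀ (-(2 : F)⁻¹)) +
        (-1 / (-(2 : F)⁻¹)) * σ₀ (-1 / (-(2 : F)⁻¹)) = 0 := by
      simp only [RingHom.id_apply]
      field_simp
      ring
    have hy : lO hk' ho (-1 / (-(2 : F)⁻¹)) (-σ₀ 1 / σ₀ (-(2 : F)⁻¹)) (1 / σ₀ (-(2 : F)⁻¹)) ∈
        GUJ σ₀ n := lO_mem hk' ho id_invol hrel'
    apply key ⟨uO hk' ho 1 (σ₀ 1) (-(2 : F)⁻¹), uO_mem hk' ho id_invol hrel⟩ ⟨_, hy⟩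
    · apply hUle
      exact ⟨uO_mem_Bup hk' ho _ _ _, fun i => uO_diag hk' ho _ _ _ i⟩
    · apply Subgroup.mem_sup_left
      apply lower_mem_commutator p hp2 h2
      · intro i j hij
        exact lO_lower hk' ho _ _ _ hij
      · intro i
        exact lO_diag hk' ho _ _ _ i
    · rw [mem_BG, coe_mul3, hs']
      exact odd_rank_one hk' ho hc0 hc0 hrel

/-- the orthogonal group is the product of its commutator subgroup and the torus -/
theorem commutator_sup_TG (hp2 : p ≠ 2) (h2 : (2 : F) ≠ 0) (hodd : Odd n) :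
    commutator ↥(GUJ σ₀ n) ⊔ TG σ₀ n = ⊤ := by
  rw [eq_top_iff, ← BG_sup_NG (σ := σ₀) (n := n) id_invol]
  apply sup_le
  · intro b hb
    obtain ⟨u, hu, d, hd, rfl⟩ := exists_UG_mul_TG hb
    exact Subgroup.mul_mem _ (Subgroup.mem_sup_left (UG_le_commutator p hp2 h2 hu))
      (Subgroup.mem_sup_right hd)
  · apply sup_le
    · rw [Subgroup.closure_le]
      intro s hs
      exact SG_subset_sup p hp2 h2 hodd hs
    · exact le_sup_right

/-- elementwise form -/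
theorem exists_commutator_mul_torus (hp2 : p ≠ 2) (h2 : (2 : F) ≠ 0) (hodd : Odd n)
    (g : ↥(GUJ σ₀ n)) :
    ∃ h : ↥(commutator ↥(GUJ σ₀ n)), ∃ t ∈ BG σ₀ n ⊓ NG σ₀ n, g = (h : ↥(GUJ σ₀ n)) * t := by
  have hg : g ∈ commutator ↥(GUJ σ₀ n) ⊔ TG σ₀ n := by
    rw [commutator_sup_TG p hp2 h2 hodd]
    exact Subgroup.mem_top g
  have hset : ((commutator ↥(GUJ σ₀ n) ⊔ TG σ₀ n : Subgroup ↥(GUJ σ₀ n)) : Set ↥(GUJ σ₀ n)) =
      (commutator ↥(GUJ σ₀ n) : Set ↥(GUJ σ₀ n)) * (TG σ₀ n : Set ↥(GUJ σ₀ n)) :=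
    Subgroup.normal_mul _ _
  have hg' : g ∈ (commutator ↥(GUJ σ₀ n) : Set ↥(GUJ σ₀ n)) * (TG σ₀ n : Set ↥(GUJ σ₀ n)) := by
    rw [← hset]
    exact hg
  obtain ⟨h, hh, t, ht, rfl⟩ := Set.mem_mul.mp hg'
  refine ⟨⟨h, hh⟩, t, ?_, rfl⟩
  rw [BG_inf_NG]
  exact ht

end Cfsg.Agent.Lib.Helper15.OrBN
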