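import Mathlib
import Cfsg.Agent.Lib.Helper15.OrBNF

/-!
helper15: root elements of the orthogonal group `GUJ (RingHom.id F) n`, `n` odd, in `GL`:
short root elements for every non-central index, their conjugates by monomial matrices, and the
commutator relation producing the long root elements.
-/

set_option autoImplicit false

namespace Cfsg.Agent.Lib.Helper15.OrGen

open Matrix Equiv Cfsg Cfsg.Agent.Lib.Helper6.GLBN Cfsg.Agent.Lib.Helper15.UnBN
  Cfsg.Agent.Lib.Helper15.OrBN
open Cfsg.Agent.Lib.Helper16.FusSU (adj adj_apply adj_mul adj_one emb emb_apply_mem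
  emb_apply_of_not_right emb_apply_of_not_left)

variable {n r : ℕ} {F : Type*} [Field F]

lemma xGL_congr {p q p' q' : Fin n} (hpq : p ≠ q) (hpq' : p' ≠ q') (hp : p = p') (hq : q = q')
    {t t' : F} (ht : t = t') : xGL p q hpq t = xGL p' q' hpq' t' := by
  subst hp hq ht
  rfl

/-- an embedded transvection -/
lemma embGL_xGL {ι : Fin r → Fin n} (hι : Function.Injective ι) (a b : Fin r) (hab : a ≠ b)
    (t : F) : embGL ι hι (xGL a b hab t) = xGL (ι a) (ι b) (hι.ne hab) t := by
  apply Units.ext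
  rw [coe_embGL, coe_xGL, coe_xGL]
  ext i j
  by_cases hi : ∃ α, i = ι α
  · obtain ⟨α, rfl⟩ := hi
    by_cases hj : ∃ β, j = ι β
    · obtain ⟨β, rfl⟩ := hj
      rw [emb_apply_mem hι, transvection_apply', transvection_apply']
      simp only [hι.eq_iff]
    · have hj' : ∀ β, j ≠ ι β := fun β e => hj ⟨β, e⟩
      rw [emb_apply_of_not_right _ _ _ hj', transvection_apply', Matrix.one_apply,
        if_neg (fun h : ι α = ι a ∧ j = ι b => hj' b h.2), add_zero]
  · have hi' : ∀ α, i ≠ ι α := fun α e => hi ⟨α, e⟩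
    rw [emb_apply_of_not_left _ _ hi', transvection_apply', Matrix.one_apply,
      if_neg (fun h : i = ι a ∧ j = ι b => hi' a h.1), add_zero]

/-- conjugating a transvection by a monomial matrix -/
lemma monoGL_conj_xGL (π : Perm (Fin n)) (d : Fin n → Fˣ) (p q : Fin n) (hpq : p ≠ q) (t : F) :
    monoGL π d * xGL p q hpq t * (monoGL π d)⁻¹ =
      xGL (π p) (π q) (π.injective.ne hpq) (t * d p / d q) := by
  rw [mul_inv_eq_iff_eq_mul, xGL_mul_monoGL π d (π p) (π q) (π.injective.ne hpq)]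
  congr 1
  apply xGL_congr
  · simp
  · simp
  · have e1 : π⁻¹ (π p) = p := by simp
    have e2 : π⁻¹ (π q) = q := by simp
    rw [e1, e2]
    field_simp

/-! ### short root elements -/

section short

variable {c : Fin n}

lemma ne_rev_of_ne_mid (hc : c.rev = c) {q : Fin n} (hq : q ≠ c) : q ≠ q.rev := by
  intro h
  apply hq
  have h1 := Fin.val_rev q
  have h2 := Fin.val_rev c
  have e1 : q.rev.val = q.val := by rw [← h]
  have e2 : c.rev.val = c.val := by rw [hc]
  apply Fin.ext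
  omega

lemma mid_ne_rev (hc : c.rev = c) {q : Fin n} (hq : q ≠ c) : c ≠ q.rev := by
  intro h
  apply hq
  rw [← Fin.rev_rev q, ← h, hc]

lemma io_injective (hc : c.rev = c) {q : Fin n} (hq : q ≠ c) : Function.Injective (io q c) := by
  have h1 := ne_rev_of_ne_mid hc hq
  have h2 := mid_ne_rev hc hq
  intro α β hαβ
  fin_cases α <;> fin_cases β <;> simp [io] at hαβ ⊢
  · exact hq hαβ
  · exact h1 hαβ
  · exact hq hαβ.symm
  · exact h2 hαβ
  · exact h1 hαβ.symm
  · exact h2 hαβ.symm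

lemma io_rev' (hc : c.rev = c) (q : Fin n) (α : Fin 3) : io q c α.rev = (io q c α).rev := by
  fin_cases α
  · show io q c 2 = (io q c 0).rev
    simp [io]
  · show io q c 1 = (io q c 1).rev
    simp [io, hc]
  · show io q c 0 = (io q c 2).rev
    simp [io]

/-- the short root element `1 + s (e_{q,c} - e_{c,q'}) - s^2/2 e_{q,q'}` -/
def eS (hc : c.rev = c) (q : Fin n) (hq : q ≠ c) (s : F) : GL (Fin n) F :=
  xGL q c hq s * xGL c q.rev (mid_ne_rev hc hq) (-s) *
    xGL q q.rev (ne_rev_of_ne_mid hc hq) (s ^ 2 / 2)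

lemma U3GL_eq (h2 : (2 : F) ≠ 0) (s : F) : U3GL s s (-(s ^ 2 / 2)) =
    xGL (0 : Fin 3) 1 (by decide) s * xGL (1 : Fin 3) 2 (by decide) (-s) *
      xGL (0 : Fin 3) 2 (by decide) (s ^ 2 / 2) := by
  apply Units.ext
  rw [Units.val_mul, Units.val_mul, coe_xGL, coe_xGL, coe_xGL, coe_U3GL]
  ext i j
  fin_cases i <;> fin_cases j <;>
    simp [U3, Matrix.mul_apply, Fin.sum_univ_three, transvection, Matrix.single_apply]
  field_simp
  ring

lemma eS_eq_embGL (hc : c.rev = c) (h2 : (2 : F) ≠ 0) (q : Fin n) (hq : q ≠ c) (s : F) :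
    eS hc q hq s = embGL (io q c) (io_injective hc hq) (U3GL s s (-(s ^ 2 / 2))) := by
  rw [U3GL_eq h2, map_mul, map_mul, embGL_xGL, embGL_xGL, embGL_xGL]
  rfl

lemma eS_mem (hc : c.rev = c) (h2 : (2 : F) ≠ 0) (q : Fin n) (hq : q ≠ c) (s : F) :
    eS hc q hq s ∈ GUJ (RingHom.id F) n := by
  rw [eS_eq_embGL hc h2]
  apply embGL_mem_GUJ _ (io_rev' hc q)
  have h : -(s ^ 2 / 2) + (RingHom.id F) (-(s ^ 2 / 2)) + s * (RingHom.id F) s = 0 := by
    simp only [RingHom.id_apply]
    field_simp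
    ring
  exact U3GL_mem_GUJ (σ := RingHom.id F) id_invol h

lemma eS_add (hc : c.rev = c) (h2 : (2 : F) ≠ 0) (q : Fin n) (hq : q ≠ c) (s t : F) :
    eS hc q hq (s + t) = eS hc q hq s * eS hc q hq t := by
  rw [eS_eq_embGL hc h2, eS_eq_embGL hc h2, eS_eq_embGL hc h2, ← map_mul, U3GL_mul]
  congr 2
  field_simp
  ring

lemma eS_zero (hc : c.rev = c) (q : Fin n) (hq : q ≠ c) : eS hc q hq (0 : F) = 1 := by
  unfold eS
  rw [neg_zero, xGL_zero, xGL_zero]
  simp [xGL_zero]

lemma eS_inv (hc : c.rev = c) (h2 : (2 : F) ≠ 0) (q : Fin n) (hq : q ≠ c) (s : F) :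
    (eS hc q hq s)⁻¹ = eS hc q hq (-s) := by
  rw [inv_eq_iff_mul_eq_one, ← eS_add hc h2, add_neg_cancel, eS_zero]

lemma eS_congr (hc : c.rev = c) {q q' : Fin n} (hq : q ≠ c) (hq' : q' ≠ c) (h : q = q')
    {s s' : F} (hs : s = s') : eS hc q hq s = eS hc q' hq' s' := by
  subst h hs
  rfl

/-- left multiplication by a short root element -/
lemma eS_mul_apply (hc : c.rev = c) (h2F : (2 : F) ≠ 0) (q : Fin n) (hq : q ≠ c) (s : F)
    (A : Matrix (Fin n) (Fin n) F) (i j : Fin n) :
    (((eS hc q hq s : GL (Fin n) F) : Matrix (Fin n) (Fin n) F) * A) i j =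
      A i j + (if i = q then s * A c j - s ^ 2 / 2 * A q.rev j else 0) +
        (if i = c then -s * A q.rev j else 0) := by
  have h1 := ne_rev_of_ne_mid hc hq
  have h2 := mid_ne_rev hc hq
  unfold eS
  rw [Units.val_mul, Units.val_mul, coe_xGL, coe_xGL, coe_xGL, Matrix.mul_assoc, Matrix.mul_assoc,
    transvection_mul_apply', transvection_mul_apply', transvection_mul_apply',
    transvection_mul_apply', transvection_mul_apply', transvection_mul_apply',
    transvection_mul_apply']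
  have e1 : ¬ (c = q) := fun e => hq e.symm
  have e2 : ¬ (q.rev = q) := fun e => h1 e.symm
  by_cases hi : i = q
  · subst hi
    simp only [if_neg e1, if_neg e2, if_neg hq, if_true]
    field_simp
    ring
  · simp only [if_neg hi, if_neg e2]
    by_cases hic : i = c
    · simp only [if_pos hic]
      ring
    · simp only [if_neg hic]
      ring

lemma conj_mul3 {G : Type*} [Group G] (g x y z : G) :
    g * (x * y * z) * g⁻¹ = (g * x * g⁻¹) * (g * y * g⁻¹) * (g * z * g⁻¹) := by group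

lemma conj_mul2 {G : Type*} [Group G] (g x y : G) :
    g * (x * y) * g⁻¹ = (g * x * g⁻¹) * (g * y * g⁻¹) := by group

/-- conjugating a short root element by a monomial orthogonal matrix -/
lemma monoGL_conj_eS (hc : c.rev = c) (π : Perm (Fin n)) (d : Fin n → Fˣ)
    (hπ : ∀ a, π a.rev = (π a).rev) (hd : ∀ a, (d a : F) * (d a.rev : F) = 1) (hπc : π c = c)
    (q : Fin n) (hq : q ≠ c) (s : F) :
    monoGL π d * eS hc q hq s * (monoGL π d)⁻¹ =
      eS hc (π q) (fun e => hq (π.injective (e.trans hπc.symm)))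
        ((d q : F) / (d c : F) * s) := by
  have hq1 : (d q.rev : F) = (d q : F)⁻¹ := eq_inv_of_mul_eq_one_right (hd q)
  have hc1 : (d c : F) * (d c : F) = 1 := by
    have := hd c
    rwa [hc] at this
  have hdq : (d q : F) ≠ 0 := (d q).ne_zero
  have hdc : (d c : F) ≠ 0 := (d c).ne_zero
  unfold eS
  rw [conj_mul3, monoGL_conj_xGL, monoGL_conj_xGL, monoGL_conj_xGL]
  congr 1
  congr 1
  · apply xGL_congr _ _ rfl hπc
    ring
  · apply xGL_congr _ _ hπc (hπ q)
    rw [hq1]
    field_simp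
    linear_combination (-s) * hc1
  · apply xGL_congr _ _ rfl (hπ q)
    rw [hq1]
    field_simp
    linear_combination (s ^ 2 / 2) * hc1

/-- conjugating a long root element by a monomial orthogonal matrix -/
lemma monoGL_conj_xsU (π : Perm (Fin n)) (d : Fin n → Fˣ)
    (hπ : ∀ a, π a.rev = (π a).rev) (hd : ∀ a, (d a : F) * (d a.rev : F) = 1)
    (p q : Fin n) (hpq : p ≠ q) (t : F) :
    monoGL π d * xsU (RingHom.id F) p q hpq t * (monoGL π d)⁻¹ =
      xsU (RingHom.id F) (π p) (π q) (π.injective.ne hpq) (t * (d p : F) / (d q : F)) := by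
  have hq1 : (d q.rev : F) = (d q : F)⁻¹ := eq_inv_of_mul_eq_one_right (hd q)
  have hp1 : (d p.rev : F) = (d p : F)⁻¹ := eq_inv_of_mul_eq_one_right (hd p)
  have hdq : (d q : F) ≠ 0 := (d q).ne_zero
  have hdp : (d p : F) ≠ 0 := (d p).ne_zero
  unfold xsU
  rw [conj_mul2, monoGL_conj_xGL, monoGL_conj_xGL]
  congr 1
  apply xGL_congr _ _ (hπ q) (hπ p)
  rw [hq1, hp1]
  simp only [RingHom.id_apply]
  field_simp

/-! ### the commutator relation -/

lemma rel5 (s t : F) :
    (xGL (0 : Fin 5) 2 (by decide) s * xGL (2 : Fin 5) 4 (by decide) (-s) *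
        xGL (0 : Fin 5) 4 (by decide) (s ^ 2 / 2)) *
      (xGL (1 : Fin 5) 2 (by decide) t * xGL (2 : Fin 5) 3 (by decide) (-t) *
        xGL (1 : Fin 5) 3 (by decide) (t ^ 2 / 2)) =
    (xGL (0 : Fin 5) 3 (by decide) (-(s * t)) * xGL (1 : Fin 5) 4 (by decide) (-(-(s * t)))) *
      ((xGL (1 : Fin 5) 2 (by decide) t * xGL (2 : Fin 5) 3 (by decide) (-t) *
        xGL (1 : Fin 5) 3 (by decide) (t ^ 2 / 2)) *
      (xGL (0 : Fin 5) 2 (by decide) s * xGL (2 : Fin 5) 4 (by decide) (-s) *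
        xGL (0 : Fin 5) 4 (by decide) (s ^ 2 / 2))) := by
  apply Units.ext
  simp only [Units.val_mul, coe_xGL, Matrix.mul_assoc]
  ext i j
  simp only [transvection_mul_apply', transvection_apply']
  fin_cases i <;> fin_cases j <;> simp <;> ring

/-- the index injection of a `5 × 5` block -/
def i5 (c p q : Fin n) : Fin 5 → Fin n := ![p, q, c, q.rev, p.rev]

lemma i5_injective (hc : c.rev = c) {p q : Fin n} (hp : p ≠ c) (hq : q ≠ c) (hpq : p ≠ q)
    (hpq' : p ≠ q.rev) : Function.Injective (i5 c p q) := by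
  have h1 := Fin.val_rev p
  have h2 := Fin.val_rev q
  have h3 := Fin.val_rev c
  have e3 : c.rev.val = c.val := by rw [hc]
  have a1 : p.val ≠ c.val := fun e => hp (Fin.ext e)
  have a2 : q.val ≠ c.val := fun e => hq (Fin.ext e)
  have a3 : p.val ≠ q.val := fun e => hpq (Fin.ext e)
  have a4 : p.val ≠ q.rev.val := fun e => hpq' (Fin.ext e)
  intro α β hαβ
  fin_cases α <;> fin_cases β <;> simp [i5] at hαβ ⊢ <;>
    (have := congrArg Fin.val hαβ; omega)

/-- the commutator of two short root elements is a long root element -/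
lemma eS_comm_rel (hc : c.rev = c) {p q : Fin n} (hp : p ≠ c) (hq : q ≠ c) (hpq : p ≠ q)
    (hpq' : p ≠ q.rev) (s t : F) :
    eS hc p hp s * eS hc q hq t =
      xsU (RingHom.id F) p q.rev hpq' (-(s * t)) * (eS hc q hq t * eS hc p hp s) := by
  have hinj := i5_injective hc hp hq hpq hpq'
  have E1 : eS hc p hp s = embGL (i5 c p q) hinj
      (xGL (0 : Fin 5) 2 (by decide) s * xGL (2 : Fin 5) 4 (by decide) (-s) *
        xGL (0 : Fin 5) 4 (by decide) (s ^ 2 / 2)) := by
    rw [map_mul, map_mul, embGL_xGL, embGL_xGL, embGL_xGL]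
    rfl
  have E2 : eS hc q hq t = embGL (i5 c p q) hinj
      (xGL (1 : Fin 5) 2 (by decide) t * xGL (2 : Fin 5) 3 (by decide) (-t) *
        xGL (1 : Fin 5) 3 (by decide) (t ^ 2 / 2)) := by
    rw [map_mul, map_mul, embGL_xGL, embGL_xGL, embGL_xGL]
    rfl
  have E3 : xsU (RingHom.id F) p q.rev hpq' (-(s * t)) = embGL (i5 c p q) hinj
      (xGL (0 : Fin 5) 3 (by decide) (-(s * t)) *
        xGL (1 : Fin 5) 4 (by decide) (-(-(s * t)))) := by
    rw [map_mul, embGL_xGL, embGL_xGL]
    unfold xsU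
    congr 1
    apply xGL_congr
    · rw [Fin.rev_rev]
      rfl
    · rfl
    · rfl
  rw [E1, E2, E3, ← map_mul, ← map_mul, ← map_mul, rel5]

end short

end Cfsg.Agent.Lib.Helper15.OrGen
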