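import Mathlib
import Cfsg.Agent.Lib.Helper15.OrGenA

/-!
helper15: root elements of the unitary group `GUJ σ n` in `GL`: the elements of the non-abelian
root groups (odd dimension) for every non-central index, conjugation by monomial matrices, and the
commutator relations.
-/

set_option autoImplicit false

namespace Cfsg.Agent.Lib.Helper15.UnGen

open Matrix Equiv Cfsg Cfsg.Agent.Lib.Helper6.GLBN Cfsg.Agent.Lib.Helper15.UnBN
  Cfsg.Agent.Lib.Helper15.OrBN Cfsg.Agent.Lib.Helper15.OrGen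
open Cfsg.Agent.Lib.Helper16.FusSU (adj adj_apply adj_mul adj_one emb emb_apply_mem
  emb_apply_of_not_right emb_apply_of_not_left)

variable {n : ℕ} {F : Type*} [Field F] {σ : F →+* F}

section odd

variable {c : Fin n}

/-- the elements of the root groups attached to the middle index -/
def eU (hc : c.rev = c) (q : Fin n) (hq : q ≠ c) (a ab b : F) : GL (Fin n) F :=
  xGL q c hq a * xGL c q.rev (mid_ne_rev hc hq) (-ab) *
    xGL q q.rev (ne_rev_of_ne_mid hc hq) (b + a * ab)

lemma U3GL_eq' (a ab b : F) : U3GL a ab b =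
    xGL (0 : Fin 3) 1 (by decide) a * xGL (1 : Fin 3) 2 (by decide) (-ab) *
      xGL (0 : Fin 3) 2 (by decide) (b + a * ab) := by
  apply Units.ext
  rw [Units.val_mul, Units.val_mul, coe_xGL, coe_xGL, coe_xGL, coe_U3GL]
  ext i j
  fin_cases i <;> fin_cases j <;>
    simp [U3, Matrix.mul_apply, Fin.sum_univ_three, transvection, Matrix.single_apply]

lemma eU_eq_embGL (hc : c.rev = c) (q : Fin n) (hq : q ≠ c) (a ab b : F) :
    eU hc q hq a ab b = embGL (io q c) (io_injective hc hq) (U3GL a ab b) := by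
  rw [U3GL_eq', map_mul, map_mul, embGL_xGL, embGL_xGL, embGL_xGL]
  rfl

lemma eU_mem (hc : c.rev = c) (hσ : ∀ x, σ (σ x) = x) (q : Fin n) (hq : q ≠ c) {a b : F}
    (h : b + σ b + a * σ a = 0) : eU hc q hq a (σ a) b ∈ GUJ σ n := by
  rw [eU_eq_embGL]
  exact embGL_mem_GUJ _ (io_rev' hc q) (U3GL_mem_GUJ hσ h)

lemma eU_mul (hc : c.rev = c) (q : Fin n) (hq : q ≠ c) (a ab b a' ab' b' : F) :
    eU hc q hq a ab b * eU hc q hq a' ab' b' =
      eU hc q hq (a + a') (ab + ab') (b + b' - a * ab') := by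
  rw [eU_eq_embGL, eU_eq_embGL, eU_eq_embGL, ← map_mul, U3GL_mul]

lemma eU_zero (hc : c.rev = c) (q : Fin n) (hq : q ≠ c) : eU hc q hq (0 : F) 0 0 = 1 := by
  rw [eU_eq_embGL, U3GL_zero, map_one]

lemma eU_inv (hc : c.rev = c) (q : Fin n) (hq : q ≠ c) (a ab b : F) :
    (eU hc q hq a ab b)⁻¹ = eU hc q hq (-a) (-ab) (-b - a * ab) := by
  rw [eU_eq_embGL, eU_eq_embGL, ← map_inv, U3GL_inv]

lemma eU_congr (hc : c.rev = c) {q q' : Fin n} (hq : q ≠ c) (hq' : q' ≠ c) (h : q = q')
    {a a' ab ab' b b' : F} (ha : a = a') (hab : ab = ab') (hb : b = b') :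
    eU hc q hq a ab b = eU hc q' hq' a' ab' b' := by
  subst h ha hab hb
  rfl

/-- left multiplication by such an element -/
lemma eU_mul_apply (hc : c.rev = c) (q : Fin n) (hq : q ≠ c) (a ab b : F)
    (A : Matrix (Fin n) (Fin n) F) (i j : Fin n) :
    (((eU hc q hq a ab b : GL (Fin n) F) : Matrix (Fin n) (Fin n) F) * A) i j =
      A i j + (if i = q then a * A c j + b * A q.rev j else 0) +
        (if i = c then -ab * A q.rev j else 0) := by
  have h1 := ne_rev_of_ne_mid hc hq
  have h2 := mid_ne_rev hc hq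
  unfold eU
  rw [Units.val_mul, Units.val_mul, coe_xGL, coe_xGL, coe_xGL, Matrix.mul_assoc, Matrix.mul_assoc,
    transvection_mul_apply', transvection_mul_apply', transvection_mul_apply',
    transvection_mul_apply', transvection_mul_apply', transvection_mul_apply',
    transvection_mul_apply']
  have e1 : ¬ (c = q) := fun e => hq e.symm
  have e2 : ¬ (q.rev = q) := fun e => h1 e.symm
  by_cases hi : i = q
  · subst hi
    simp only [if_neg e1, if_neg e2, if_neg hq, if_true]
    ring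
  · simp only [if_neg hi, if_neg e2]
    by_cases hic : i = c
    · simp only [if_pos hic]
      ring
    · simp only [if_neg hic]
      ring

/-- conjugating such an element by a monomial unitary matrix -/
lemma monoGL_conj_eU (hc : c.rev = c) (π : Perm (Fin n)) (d : Fin n → Fˣ)
    (hπ : ∀ a, π a.rev = (π a).rev) (hπc : π c = c)
    (q : Fin n) (hq : q ≠ c) (a ab b : F) :
    monoGL π d * eU hc q hq a ab b * (monoGL π d)⁻¹ =
      eU hc (π q) (fun e => hq (π.injective (e.trans hπc.symm)))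
        (a * (d q : F) / (d c : F)) (ab * (d c : F) / (d q.rev : F))
        (b * (d q : F) / (d q.rev : F)) := by
  have hdq : (d q : F) ≠ 0 := (d q).ne_zero
  have hdc : (d c : F) ≠ 0 := (d c).ne_zero
  have hdq' : (d q.rev : F) ≠ 0 := (d q.rev).ne_zero
  unfold eU
  rw [conj_mul3, monoGL_conj_xGL, monoGL_conj_xGL, monoGL_conj_xGL]
  congr 1
  congr 1
  · apply xGL_congr _ _ rfl hπc
    ring
  · apply xGL_congr _ _ hπc (hπ q)
    ring
  · apply xGL_congr _ _ rfl (hπ q)
    field_simp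

end odd

/-! ### small matrix relations -/

/-- 5x5: commutator of two odd root elements -/
lemma rel5' (a α b a' α' b' : F) :
    (xGL (0 : Fin 5) 2 (by decide) a * xGL (2 : Fin 5) 4 (by decide) (-α) *
        xGL (0 : Fin 5) 4 (by decide) (b + a * α)) *
      (xGL (1 : Fin 5) 2 (by decide) a' * xGL (2 : Fin 5) 3 (by decide) (-α') *
        xGL (1 : Fin 5) 3 (by decide) (b' + a' * α')) =
    (xGL (0 : Fin 5) 3 (by decide) (-(a * α')) * xGL (1 : Fin 5) 4 (by decide) (-(-(α * a')))) *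
      ((xGL (1 : Fin 5) 2 (by decide) a' * xGL (2 : Fin 5) 3 (by decide) (-α') *
        xGL (1 : Fin 5) 3 (by decide) (b' + a' * α')) *
      (xGL (0 : Fin 5) 2 (by decide) a * xGL (2 : Fin 5) 4 (by decide) (-α) *
        xGL (0 : Fin 5) 4 (by decide) (b + a * α))) := by
  apply Units.ext
  simp only [Units.val_mul, coe_xGL, Matrix.mul_assoc]
  ext i j
  simp only [transvection_mul_apply', transvection_apply']
  fin_cases i <;> fin_cases j <;> simp <;> ring

/-- 6x6: commutator of two short root elements -/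
lemma rel6 (s S t T : F) :
    (xGL (0 : Fin 6) 1 (by decide) s * xGL (4 : Fin 6) 5 (by decide) (-S)) *
      (xGL (1 : Fin 6) 2 (by decide) t * xGL (3 : Fin 6) 4 (by decide) (-T)) =
    (xGL (0 : Fin 6) 2 (by decide) (s * t) * xGL (3 : Fin 6) 5 (by decide) (-(S * T))) *
      ((xGL (1 : Fin 6) 2 (by decide) t * xGL (3 : Fin 6) 4 (by decide) (-T)) *
      (xGL (0 : Fin 6) 1 (by decide) s * xGL (4 : Fin 6) 5 (by decide) (-S))) := by
  apply Units.ext
  simp only [Units.val_mul, coe_xGL, Matrix.mul_assoc]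
  ext i j
  simp only [transvection_mul_apply', transvection_apply']
  fin_cases i <;> fin_cases j <;> simp <;> ring

/-- 4x4: a long root element as a commutator of short root elements -/
lemma rel4 (s S t T : F) :
    (xGL (0 : Fin 4) 1 (by decide) s * xGL (2 : Fin 4) 3 (by decide) (-S)) *
      (xGL (1 : Fin 4) 3 (by decide) t * xGL (0 : Fin 4) 2 (by decide) (-T)) =
    xGL (0 : Fin 4) 3 (by decide) (s * t - S * T) *
      ((xGL (1 : Fin 4) 3 (by decide) t * xGL (0 : Fin 4) 2 (by decide) (-T)) *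
      (xGL (0 : Fin 4) 1 (by decide) s * xGL (2 : Fin 4) 3 (by decide) (-S))) := by
  apply Units.ext
  simp only [Units.val_mul, coe_xGL, Matrix.mul_assoc]
  ext i j
  simp only [transvection_mul_apply', transvection_apply']
  fin_cases i <;> fin_cases j <;> simp <;> ring


/-! ### the relations in `GL_n` -/

section relations

/-- the commutator of two odd root elements is a short root element -/
lemma eU_comm_rel (hσ : ∀ x, σ (σ x) = x) {c : Fin n} (hc : c.rev = c) {p q : Fin n} (hp : p ≠ c) (hq : q ≠ c)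
    (hpq : p ≠ q) (hpq' : p ≠ q.rev) (a b a' b' : F) :
    eU hc p hp a (σ a) b * eU hc q hq a' (σ a') b' =
      xsU σ p q.rev hpq' (-(a * σ a')) *
        (eU hc q hq a' (σ a') b' * eU hc p hp a (σ a) b) := by
  have hinj := i5_injective hc hp hq hpq hpq'
  have E1 : eU hc p hp a (σ a) b = embGL (i5 c p q) hinj
      (xGL (0 : Fin 5) 2 (by decide) a * xGL (2 : Fin 5) 4 (by decide) (-σ a) *
        xGL (0 : Fin 5) 4 (by decide) (b + a * σ a)) := by
    rw [map_mul, map_mul, embGL_xGL, embGL_xGL, embGL_xGL]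
    rfl
  have E2 : eU hc q hq a' (σ a') b' = embGL (i5 c p q) hinj
      (xGL (1 : Fin 5) 2 (by decide) a' * xGL (2 : Fin 5) 3 (by decide) (-σ a') *
        xGL (1 : Fin 5) 3 (by decide) (b' + a' * σ a')) := by
    rw [map_mul, map_mul, embGL_xGL, embGL_xGL, embGL_xGL]
    rfl
  have E3 : xsU σ p q.rev hpq' (-(a * σ a')) = embGL (i5 c p q) hinj
      (xGL (0 : Fin 5) 3 (by decide) (-(a * σ a')) *
        xGL (1 : Fin 5) 4 (by decide) (-(-(σ a * a')))) := by
    rw [map_mul, embGL_xGL, embGL_xGL]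
    unfold xsU
    congr 1
    apply xGL_congr
    · rw [Fin.rev_rev]
      rfl
    · rfl
    · rw [map_neg, map_mul, hσ]
  rw [E1, E2, E3, ← map_mul (embGL (i5 c p q) hinj), ← map_mul (embGL (i5 c p q) hinj),
    ← map_mul (embGL (i5 c p q) hinj), rel5']

/-- the index injection of a `6 × 6` block -/
def i6 (p q r : Fin n) : Fin 6 → Fin n := ![p, q, r, r.rev, q.rev, p.rev]

lemma i6_injective {p q r : Fin n} (hpq : p ≠ q) (hpr : p ≠ r) (hqr : q ≠ r)
    (hpp : p ≠ p.rev) (hqq : q ≠ q.rev) (hrr : r ≠ r.rev)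
    (hpq' : p ≠ q.rev) (hpr' : p ≠ r.rev) (hqr' : q ≠ r.rev) :
    Function.Injective (i6 p q r) := by
  have h1 := Fin.val_rev p
  have h2 := Fin.val_rev q
  have h3 := Fin.val_rev r
  have a1 : p.val ≠ q.val := fun e => hpq (Fin.ext e)
  have a2 : p.val ≠ r.val := fun e => hpr (Fin.ext e)
  have a3 : q.val ≠ r.val := fun e => hqr (Fin.ext e)
  have a4 : p.val ≠ p.rev.val := fun e => hpp (Fin.ext e)
  have a5 : q.val ≠ q.rev.val := fun e => hqq (Fin.ext e)
  have a6 : r.val ≠ r.rev.val := fun e => hrr (Fin.ext e)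
  have a7 : p.val ≠ q.rev.val := fun e => hpq' (Fin.ext e)
  have a8 : p.val ≠ r.rev.val := fun e => hpr' (Fin.ext e)
  have a9 : q.val ≠ r.rev.val := fun e => hqr' (Fin.ext e)
  have b1 := p.2
  have b2 := q.2
  have b3 := r.2
  intro α β hαβ
  fin_cases α <;> fin_cases β <;> simp [i6] at hαβ ⊢ <;>
    (have := congrArg Fin.val hαβ; omega)

/-- the commutator of two short root elements, generic case -/
lemma xsU_comm_rel {p q r : Fin n} (hpq : p ≠ q) (hpr : p ≠ r) (hqr : q ≠ r)
    (hpp : p ≠ p.rev) (hqq : q ≠ q.rev) (hrr : r ≠ r.rev)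
    (hpq' : p ≠ q.rev) (hpr' : p ≠ r.rev) (hqr' : q ≠ r.rev) (s t : F) :
    xsU σ p q hpq s * xsU σ q r hqr t =
      xsU σ p r hpr (s * t) * (xsU σ q r hqr t * xsU σ p q hpq s) := by
  have hinj := i6_injective hpq hpr hqr hpp hqq hrr hpq' hpr' hqr'
  have E1 : xsU σ p q hpq s = embGL (i6 p q r) hinj
      (xGL (0 : Fin 6) 1 (by decide) s * xGL (4 : Fin 6) 5 (by decide) (-σ s)) := by
    rw [map_mul, embGL_xGL, embGL_xGL]
    rfl
  have E2 : xsU σ q r hqr t = embGL (i6 p q r) hinj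
      (xGL (1 : Fin 6) 2 (by decide) t * xGL (3 : Fin 6) 4 (by decide) (-σ t)) := by
    rw [map_mul, embGL_xGL, embGL_xGL]
    rfl
  have E3 : xsU σ p r hpr (s * t) = embGL (i6 p q r) hinj
      (xGL (0 : Fin 6) 2 (by decide) (s * t) *
        xGL (3 : Fin 6) 5 (by decide) (-(σ s * σ t))) := by
    rw [map_mul, embGL_xGL, embGL_xGL]
    unfold xsU
    congr 1
    apply xGL_congr
    · rfl
    · rfl
    · rw [map_mul]
  rw [E1, E2, E3, ← map_mul (embGL (i6 p q r) hinj), ← map_mul (embGL (i6 p q r) hinj),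
    ← map_mul (embGL (i6 p q r) hinj), rel6]

/-- the index injection of a `4 × 4` block -/
def i4 (p q : Fin n) : Fin 4 → Fin n := ![p, q, q.rev, p.rev]

lemma i4_injective {p q : Fin n} (hpq : p ≠ q) (hpp : p ≠ p.rev) (hqq : q ≠ q.rev)
    (hpq' : p ≠ q.rev) : Function.Injective (i4 p q) := by
  have h1 := Fin.val_rev p
  have h2 := Fin.val_rev q
  have a1 : p.val ≠ q.val := fun e => hpq (Fin.ext e)
  have a4 : p.val ≠ p.rev.val := fun e => hpp (Fin.ext e)
  have a5 : q.val ≠ q.rev.val := fun e => hqq (Fin.ext e)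
  have a7 : p.val ≠ q.rev.val := fun e => hpq' (Fin.ext e)
  have b1 := p.2
  have b2 := q.2
  intro α β hαβ
  fin_cases α <;> fin_cases β <;> simp [i4] at hαβ ⊢ <;>
    (have := congrArg Fin.val hαβ; omega)

/-- a long root element as a commutator of short root elements -/
lemma xsU_long_rel {p q : Fin n} (hpq : p ≠ q) (hpp : p ≠ p.rev) (hqq : q ≠ q.rev)
    (hpq' : p ≠ q.rev) (s t : F) :
    xsU σ p q hpq s * xsU σ q p.rev (fun e => hpq' (by rw [e, Fin.rev_rev])) t =
      xGL p p.rev hpp (s * t - σ (s * t)) *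
        (xsU σ q p.rev (fun e => hpq' (by rw [e, Fin.rev_rev])) t * xsU σ p q hpq s) := by
  have hinj := i4_injective hpq hpp hqq hpq'
  have E1 : xsU σ p q hpq s = embGL (i4 p q) hinj
      (xGL (0 : Fin 4) 1 (by decide) s * xGL (2 : Fin 4) 3 (by decide) (-σ s)) := by
    rw [map_mul, embGL_xGL, embGL_xGL]
    rfl
  have E2 : xsU σ q p.rev (fun e => hpq' (by rw [e, Fin.rev_rev])) t = embGL (i4 p q) hinj
      (xGL (1 : Fin 4) 3 (by decide) t * xGL (0 : Fin 4) 2 (by decide) (-σ t)) := by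
    rw [map_mul, embGL_xGL, embGL_xGL]
    unfold xsU
    congr 1
    apply xGL_congr
    · rw [Fin.rev_rev]
      rfl
    · rfl
    · rfl
  have E3 : xGL p p.rev hpp (s * t - σ (s * t)) = embGL (i4 p q) hinj
      (xGL (0 : Fin 4) 3 (by decide) (s * t - σ s * σ t)) := by
    rw [embGL_xGL]
    apply xGL_congr
    · rfl
    · rfl
    · rw [map_mul]
  rw [E1, E2, E3, ← map_mul (embGL (i4 p q) hinj), ← map_mul (embGL (i4 p q) hinj),
    ← map_mul (embGL (i4 p q) hinj), rel4]

/-- conjugating a short root element by a monomial unitary matrix -/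
lemma monoGL_conj_xsU' (π : Perm (Fin n)) (d : Fin n → Fˣ)
    (hπ : ∀ a, π a.rev = (π a).rev) (hd : ∀ a, (d a : F) * σ (d a.rev : F) = 1)
    (p q : Fin n) (hpq : p ≠ q) (t : F) :
    monoGL π d * xsU σ p q hpq t * (monoGL π d)⁻¹ =
      xsU σ (π p) (π q) (π.injective.ne hpq) (t * (d p : F) / (d q : F)) := by
  have hq1 : (d q.rev : F) * σ (d q : F) = 1 := by
    have := hd q.rev
    rwa [Fin.rev_rev] at this
  have hp1 : (d p.rev : F) * σ (d p : F) = 1 := by
    have := hd p.rev
    rwa [Fin.rev_rev] at this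
  have hdq : (d q : F) ≠ 0 := (d q).ne_zero
  have hdp : (d p : F) ≠ 0 := (d p).ne_zero
  have hsq : σ (d q : F) ≠ 0 := fun e => hdq ((map_eq_zero σ).mp e)
  have hsp : σ (d p : F) ≠ 0 := fun e => hdp ((map_eq_zero σ).mp e)
  have hq2 : (d q.rev : F) = (σ (d q : F))⁻¹ := eq_inv_of_mul_eq_one_left hq1
  have hp2 : (d p.rev : F) = (σ (d p : F))⁻¹ := eq_inv_of_mul_eq_one_left hp1
  unfold xsU
  rw [conj_mul2, monoGL_conj_xGL, monoGL_conj_xGL]
  congr 1
  apply xGL_congr _ _ (hπ q) (hπ p)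
  rw [hq2, hp2, map_div₀, map_mul]
  field_simp

/-- conjugating a long root element by a monomial unitary matrix -/
lemma monoGL_conj_long (π : Perm (Fin n)) (d : Fin n → Fˣ)
    (hπ : ∀ a, π a.rev = (π a).rev) (k : Fin n) (hk : k ≠ k.rev) (t : F) :
    monoGL π d * xGL k k.rev hk t * (monoGL π d)⁻¹ =
      xGL (π k) (π k).rev (fun e => hk (π.injective (by rw [hπ]; exact e)))
        (t * (d k : F) / (d k.rev : F)) := by
  rw [monoGL_conj_xGL]
  exact xGL_congr _ _ rfl (hπ k) rfl

end relations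

end Cfsg.Agent.Lib.Helper15.UnGen
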