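import Mathlib
import Cfsg.Agent.Lib.Helper15.DnBNA
import Cfsg.Agent.Lib.Helper15.UnGenA

/-!
helper15: the orthogonal group `OQ F n` of the hyperbolic quadratic form: upper triangular
elements (the entry next to the diagonal at the middle vanishes, the middle reflection normalises
the upper triangular subgroup), the simple pairs of type `D`, splitting off a simple root group and
the rank one computation for all simple pairs.
-/

set_option autoImplicit false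

namespace Cfsg.Agent.Lib.Helper15.DnBN

open Matrix Equiv Cfsg Cfsg.Agent.Lib.Helper6.GLBN Cfsg.Agent.Lib.Helper15.UnBN

variable {n : ℕ} {F : Type*} [Field F]

local notation "σ₀" => RingHom.id F

/-! ### the middle of an upper triangular element -/

/-- the entry next to the diagonal at the middle vanishes -/
theorem thin_entry_zero (hn : Even n) {g : GL (Fin n) F} (hg : g ∈ OQ F n) (hb : g ∈ Bup n F)
    {k : Fin n} (hk : 2 * k.val + 2 = n) :
    (g : Matrix (Fin n) (Fin n) F) k k.rev = 0 := by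
  have hv := Fin.val_rev k
  have hlt : k < k.rev := by rw [Fin.lt_def]; omega
  have h := ((mem_OQ_iff hn).mp hg).2 k.rev
  rw [Finset.sum_eq_single k] at h
  · rw [if_pos hlt] at h
    rcases mul_eq_zero.mp h with h1 | h1
    · exact h1
    · exact absurd h1 (diag_ne_zero hb k.rev)
  · intro i _ hi
    split_ifs with hii
    · have hvi := Fin.val_rev i
      have : k.rev < i.rev := by
        rw [Fin.lt_def] at hii ⊢
        have : i.val ≠ k.val := fun e => hi (Fin.ext e)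
        omega
      rw [(mem_Bup.mp hb) i.rev k.rev this, mul_zero]
    · rfl
  · intro h'
    exact absurd (Finset.mem_univ _) h'

/-- the middle reflection normalises the upper triangular subgroup of the orthogonal group -/
theorem sm_conj_mem_Bup (hn : Even n) {g : GL (Fin n) F} (hg : g ∈ OQ F n) (hb : g ∈ Bup n F)
    {k : Fin n} (hk : 2 * k.val + 2 = n) :
    sG k k.rev * g * sG k k.rev ∈ Bup n F := by
  have hv := Fin.val_rev k
  exact sG_conj_mem_Bup (k := k) (k' := k.rev) (by omega) hb (thin_entry_zero hn hg hb hk)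

lemma sm_conj_mem_OQ (hn : Even n) {g : GL (Fin n) F} (hg : g ∈ OQ F n) (k : Fin n) :
    sG k k.rev * g * sG k k.rev ∈ OQ F n :=
  Subgroup.mul_mem _ (Subgroup.mul_mem _ (sG_rev_mem_OQ hn k) hg) (sG_rev_mem_OQ hn k)

/-! ### congruence for root elements -/

lemma xsU_congr {p q p' q' : Fin n} (hpq : p ≠ q) (hpq' : p' ≠ q') (hp : p = p') (hq : q = q')
    {t t' : F} (ht : t = t') : xsU σ₀ p q hpq t = xsU σ₀ p' q' hpq' t' := by
  subst hp hq ht
  rfl

/-- conjugating a root element by a reflection of a mirror pair -/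
lemma sG_conj_xsU (k1 : Fin n) {p q : Fin n} (hpq : p ≠ q) (t : F) :
    sG k1 k1.rev * xsU σ₀ p q hpq t * sG k1 k1.rev =
      xsU σ₀ (swap k1 k1.rev p) (swap k1 k1.rev q) ((swap k1 k1.rev).injective.ne hpq) t := by
  have h := sG_rev_mem (σ := σ₀) k1
  unfold sG at h
  rw [monoGL_mem_GUJ_iff] at h
  have := Cfsg.Agent.Lib.Helper15.UnGen.monoGL_conj_xsU' (σ := σ₀) (swap k1 k1.rev)
    (fun _ => (1 : Fˣ)) h.1 h.2 p q hpq t
  have e : (monoGL (swap k1 k1.rev) (fun _ => (1 : Fˣ)) : GL (Fin n) F)⁻¹ = sG k1 k1.rev :=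
    sG_inv k1 k1.rev
  rw [e] at this
  have e' : (monoGL (swap k1 k1.rev) (fun _ => (1 : Fˣ)) : GL (Fin n) F) = sG k1 k1.rev := rfl
  rw [e'] at this
  rw [this]
  apply xsU_congr _ _ rfl rfl
  simp

/-! ### the simple pairs -/

/-- the simple pairs of type `D`: adjacent positions in the first half, and the pair
`(m - 2, m)` -/
def IsSimpleD (k k' : Fin n) : Prop :=
  (k'.val = k.val + 1 ∧ 2 * k.val + 3 < n) ∨ (k'.val = k.val + 2 ∧ 2 * k.val + 4 = n)

lemma simple_idx {k k' : Fin n} (h : IsSimpleD k k') :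
    k ≠ k' ∧ k ≠ k'.rev ∧ k < k' ∧ k'.rev < k.rev ∧ k' ≠ k.rev ∧ k'.rev ≠ k.rev := by
  have h1 := Fin.val_rev k
  have h2 := Fin.val_rev k'
  have h3 := k.2
  have h4 := k'.2
  rcases h with ⟨a, b⟩ | ⟨a, b⟩
  · refine ⟨?_, ?_, ?_, ?_, ?_, ?_⟩
    · apply Fin.ne_of_val_ne; omega
    · apply Fin.ne_of_val_ne; omega
    · rw [Fin.lt_def]; omega
    · rw [Fin.lt_def]; omega
    · apply Fin.ne_of_val_ne; omega
    · apply Fin.ne_of_val_ne; omega
  · refine ⟨?_, ?_, ?_, ?_, ?_, ?_⟩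
    · apply Fin.ne_of_val_ne; omega
    · apply Fin.ne_of_val_ne; omega
    · rw [Fin.lt_def]; omega
    · rw [Fin.lt_def]; omega
    · apply Fin.ne_of_val_ne; omega
    · apply Fin.ne_of_val_ne; omega

lemma xsU_mem_Bup {p q : Fin n} (hlt : p < q) (t : F) :
    xsU σ₀ p q (ne_of_lt hlt) t ∈ Bup n F := by
  unfold xsU
  exact Subgroup.mul_mem _ (xGL_mem_Bup hlt _) (xGL_mem_Bup (Fin.rev_lt_rev.mpr hlt) _)

/-! ### the node of type `D` -/

section dnode

variable {k k1 : Fin n} (hk : k1.val = k.val + 1) (hn4 : 2 * k.val + 4 = n)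
include hk hn4

lemma dnode_idx : 2 * k.val + 3 < n ∧ 2 * k1.val + 2 = n ∧ k ≠ k1 ∧ k ≠ k1.rev ∧
    k1 ≠ k1.rev ∧ k.rev ≠ k1 ∧ k.rev ≠ k1.rev := by
  have h1 := Fin.val_rev k
  have h2 := Fin.val_rev k1
  have h3 := k.2
  have h4 := k1.2
  refine ⟨by omega, by omega, ?_, ?_, ?_, ?_, ?_⟩
  · apply Fin.ne_of_val_ne; omega
  · apply Fin.ne_of_val_ne; omega
  · apply Fin.ne_of_val_ne; omega
  · apply Fin.ne_of_val_ne; omega
  · apply Fin.ne_of_val_ne; omega

lemma dnode_perm :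
    swap k1 k1.rev * (swap k k1 * swap k1.rev k.rev) * swap k1 k1.rev =
      swap k k1.rev * swap k1.rev.rev k.rev := by
  obtain ⟨-, -, g1, g2, g3, g4, g5⟩ := dnode_idx hk hn4
  have e1 : swap k1 k1.rev * swap k k1 = swap k k1.rev * swap k1 k1.rev := by
    rw [Equiv.mul_swap_eq_swap_mul, swap_apply_of_ne_of_ne g1 g2, swap_apply_left]
  have e2 : swap k1 k1.rev * swap k1.rev k.rev = swap k1 k.rev * swap k1 k1.rev := by
    rw [Equiv.mul_swap_eq_swap_mul, swap_apply_right, swap_apply_of_ne_of_ne g4 g5]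
  rw [Fin.rev_rev, ← mul_assoc, e1, mul_assoc, mul_assoc, ← mul_assoc (swap k1 k1.rev), e2,
    mul_assoc, Equiv.swap_mul_self, mul_one]

lemma dnode_sS : (sG k1 k1.rev : GL (Fin n) F) * sS k k1 * sG k1 k1.rev = sS k k1.rev := by
  rw [sS_eq_monoGL, sS_eq_monoGL]
  unfold sG
  rw [← permGL_apply, ← permGL_apply, ← permGL_apply, ← map_mul, ← map_mul, dnode_perm hk hn4]

omit hk hn4 in
lemma dnode_xsU (h1 : k ≠ k1) (h1' : k ≠ k1.rev) (t : F) :
    sG k1 k1.rev * xsU σ₀ k k1 h1 t * sG k1 k1.rev = xsU σ₀ k k1.rev h1' t := by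
  rw [sG_conj_xsU]
  apply xsU_congr _ _ _ _ rfl
  · exact swap_apply_of_ne_of_ne h1 h1'
  · exact swap_apply_left _ _

omit hk hn4 in
lemma dnode_xsU' (h1 : k1 ≠ k) (h1' : k1.rev ≠ k) (t : F) :
    sG k1 k1.rev * xsU σ₀ k1 k h1 t * sG k1 k1.rev = xsU σ₀ k1.rev k h1' t := by
  rw [sG_conj_xsU]
  apply xsU_congr _ _ _ _ rfl
  · exact swap_apply_left _ _
  · exact swap_apply_of_ne_of_ne h1.symm h1'.symm

lemma dnode_sS_inv : (sS k k1.rev : GL (Fin n) F)⁻¹ = sS k k1.rev := by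
  obtain ⟨hs, -⟩ := dnode_idx hk hn4
  rw [← dnode_sS hk hn4, _root_.mul_inv_rev, _root_.mul_inv_rev, sG_inv, sS_inv hk hs, mul_assoc]

/-- splitting off the root subgroup of the node of type `D` -/
lemma dnode_factor (hn : Even n) (hkk' : k ≠ k1.rev) {b : GL (Fin n) F} (hO : b ∈ OQ F n)
    (hB : b ∈ Bup n F) :
    ∃ t : F, sS k k1.rev * (b * (xsU σ₀ k k1.rev hkk' t)⁻¹) * (sS k k1.rev)⁻¹ ∈ Bup n F := by
  obtain ⟨hs, hm, g1, g2, g3, g4, g5⟩ := dnode_idx hk hn4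
  have hb1O := sm_conj_mem_OQ hn hO k1
  have hb1B := sm_conj_mem_Bup hn hO hB hm
  obtain ⟨t, ht⟩ := short_factor hk hs g1 (OQ_le_GUJ hn hb1O) (fun _ => rfl) hb1B
  refine ⟨t, ?_⟩
  have hcO : sS k k1 * (sG k1 k1.rev * b * sG k1 k1.rev * (xsU σ₀ k k1 g1 t)⁻¹) * (sS k k1)⁻¹ ∈
      OQ F n := by
    have hsO : (sS k k1 : GL (Fin n) F) ∈ OQ F n := sS_mem_OQ hn g1 g2
    exact Subgroup.mul_mem _ (Subgroup.mul_mem _ hsO (Subgroup.mul_mem _ hb1O
      (Subgroup.inv_mem _ (xsU_mem_OQ hn g1 g2 t)))) (Subgroup.inv_mem _ hsO)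
  have h := sm_conj_mem_Bup hn hcO ht hm
  have e : sG k1 k1.rev * (sS k k1 * (sG k1 k1.rev * b * sG k1 k1.rev * (xsU σ₀ k k1 g1 t)⁻¹) *
      (sS k k1)⁻¹) * sG k1 k1.rev =
      (sG k1 k1.rev * sS k k1 * sG k1 k1.rev) *
        ((sG k1 k1.rev * sG k1 k1.rev) * b * (sG k1 k1.rev * sG k1 k1.rev) *
          (sG k1 k1.rev * xsU σ₀ k k1 g1 t * sG k1 k1.rev)⁻¹) *
        (sG k1 k1.rev * sS k k1 * sG k1 k1.rev)⁻¹ := by
    have hi : (sG k1 k1.rev : GL (Fin n) F)⁻¹ = sG k1 k1.rev := sG_inv _ _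
    simp only [_root_.mul_inv_rev, hi, mul_assoc]
    have hss : ∀ x : GL (Fin n) F, sG k1 k1.rev * (sG k1 k1.rev * x) = x := by
      intro x
      rw [← mul_assoc, sG_mul_self, one_mul]
    simp only [hss]
  rw [e, dnode_sS hk hn4, dnode_xsU g1 hkk', sG_mul_self, one_mul, mul_one] at h
  exact h

/-- the rank one computation for the node of type `D` -/
lemma dnode_rank_one (hn : Even n) (hkk' : k ≠ k1.rev) {t : F} (ht : t ≠ 0) :
    sS k k1.rev * xsU σ₀ k k1.rev hkk' t * xsU σ₀ k1.rev k hkk'.symm (-t⁻¹) ∈ Bup n F := by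
  obtain ⟨hs, hm, g1, g2, g3, g4, g5⟩ := dnode_idx hk hn4
  have hr := short_rank_one (σ := σ₀) hk hs g1 ht
  have hrO : sS k k1 * xsU σ₀ k k1 g1 t * xsU σ₀ k1 k g1.symm (-t⁻¹) ∈ OQ F n := by
    refine Subgroup.mul_mem _ (Subgroup.mul_mem _ (sS_mem_OQ hn g1 g2) (xsU_mem_OQ hn g1 g2 t))
      (xsU_mem_OQ hn g1.symm (fun e => g4 e.symm) _)
  have h := sm_conj_mem_Bup hn hrO hr hm
  have e : sG k1 k1.rev * (sS k k1 * xsU σ₀ k k1 g1 t * xsU σ₀ k1 k g1.symm (-t⁻¹)) *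
      sG k1 k1.rev =
      (sG k1 k1.rev * sS k k1 * sG k1 k1.rev) * (sG k1 k1.rev * xsU σ₀ k k1 g1 t * sG k1 k1.rev) *
        (sG k1 k1.rev * xsU σ₀ k1 k g1.symm (-t⁻¹) * sG k1 k1.rev) := by
    have hss : ∀ x : GL (Fin n) F, sG k1 k1.rev * (sG k1 k1.rev * x) = x := by
      intro x
      rw [← mul_assoc, sG_mul_self, one_mul]
    simp only [mul_assoc, hss]
  rw [e, dnode_sS hk hn4, dnode_xsU g1 hkk', dnode_xsU' g1.symm hkk'.symm] at h
  exact h

end dnode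

/-! ### all simple pairs -/

section simple

variable {k k' : Fin n}

lemma simple_sS_inv (h : IsSimpleD k k') : (sS k k' : GL (Fin n) F)⁻¹ = sS k k' := by
  rcases h with ⟨a, b⟩ | ⟨a, b⟩
  · exact sS_inv a b
  · obtain ⟨k1, rfl⟩ : ∃ k1 : Fin n, k' = k1.rev := ⟨k'.rev, (Fin.rev_rev k').symm⟩
    have hv := Fin.val_rev k1
    exact dnode_sS_inv (k := k) (k1 := k1) (by omega) b

lemma simple_sS_mul_self (h : IsSimpleD k k') : (sS k k' : GL (Fin n) F) * sS k k' = 1 := by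
  rw [← eq_inv_iff_mul_eq_one, simple_sS_inv h]

/-- splitting off the root subgroup of a simple pair -/
theorem simple_factor (hn : Even n) (h : IsSimpleD k k') (hkk' : k ≠ k') {b : GL (Fin n) F}
    (hO : b ∈ OQ F n) (hB : b ∈ Bup n F) :
    ∃ t : F, sS k k' * (b * (xsU σ₀ k k' hkk' t)⁻¹) * (sS k k')⁻¹ ∈ Bup n F := by
  rcases h with ⟨a, b'⟩ | ⟨a, b'⟩
  · exact short_factor a b' hkk' (OQ_le_GUJ hn hO) (fun _ => rfl) hB
  · obtain ⟨k1, rfl⟩ : ∃ k1 : Fin n, k' = k1.rev := ⟨k'.rev, (Fin.rev_rev k').symm⟩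
    have hv := Fin.val_rev k1
    exact dnode_factor (k := k) (k1 := k1) (by omega) b' hn hkk' hO hB

/-- the rank one computation for a simple pair -/
theorem simple_rank_one (hn : Even n) (h : IsSimpleD k k') (hkk' : k ≠ k') {t : F} (ht : t ≠ 0) :
    sS k k' * xsU σ₀ k k' hkk' t * xsU σ₀ k' k hkk'.symm (-t⁻¹) ∈ Bup n F := by
  rcases h with ⟨a, b'⟩ | ⟨a, b'⟩
  · exact short_rank_one a b' hkk' ht
  · obtain ⟨k1, rfl⟩ : ∃ k1 : Fin n, k' = k1.rev := ⟨k'.rev, (Fin.rev_rev k').symm⟩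
    have hv := Fin.val_rev k1
    exact dnode_rank_one (k := k) (k1 := k1) (by omega) b' hn hkk' ht

end simple

end Cfsg.Agent.Lib.Helper15.DnBN
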