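import Mathlib
import Cfsg.Prelude.Def_LieExceptional
import Cfsg.Agent.Lib.Helper15.DnBNB
import Cfsg.Agent.Lib.Helper15.SpBND

/-!
helper15: the (B,N)-pair of type `D` of the group `SOQ F n` generated by the upper triangular
subgroup and the even monomial subgroup of the orthogonal group `OQ F n` of the hyperbolic
quadratic form.
-/

set_option autoImplicit false

namespace Cfsg.Agent.Lib.Helper15.DnBN

open Matrix Equiv Cfsg Cfsg.Agent.Lib.Helper6.GLBN Cfsg.Agent.Lib.Helper15.UnBN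
open Cfsg.Agent.Lib.Helper15.SpBN (conj_monoGL_mem_Bup_iff dc_skeleton_pos dc_skeleton_neg
  monoGL_mul_mul_apply)

variable {n : ℕ} {F : Type*} [Field F]

local notation "σ₀" => RingHom.id F

/-- the upper triangular subgroup of the orthogonal group -/
def BQ (F : Type*) [Field F] (n : ℕ) : Subgroup (GL (Fin n) F) := Bup n F ⊓ OQ F n

/-- the diagonal subgroup of the orthogonal group -/
def TQ (F : Type*) [Field F] (n : ℕ) : Subgroup (GL (Fin n) F) := diagSubgroup n F ⊓ OQ F n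

/-- the simple reflections of type `D` -/
def SD (F : Type*) [Field F] (n : ℕ) : Set (GL (Fin n) F) :=
  {s | ∃ k k' : Fin n, IsSimpleD k k' ∧ s = sS k k'}

/-- the even monomial subgroup -/
def NDQ (F : Type*) [Field F] (n : ℕ) : Subgroup (GL (Fin n) F) :=
  Subgroup.closure (SD F n) ⊔ TQ F n

/-- the group with the (B,N)-pair of type `D` -/
def SOQ (F : Type*) [Field F] (n : ℕ) : Subgroup (GL (Fin n) F) := BQ F n ⊔ NDQ F n

lemma BQ_le_SOQ : BQ F n ≤ SOQ F n := le_sup_left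
lemma NDQ_le_SOQ : NDQ F n ≤ SOQ F n := le_sup_right
lemma TQ_le_SOQ : TQ F n ≤ SOQ F n := le_trans le_sup_right NDQ_le_SOQ
lemma SD_subset_SOQ : SD F n ⊆ (SOQ F n : Set (GL (Fin n) F)) := fun _ hs =>
  NDQ_le_SOQ (Subgroup.mem_sup_left (Subgroup.subset_closure hs))

lemma SD_subset_OQ (hn : Even n) : SD F n ⊆ (OQ F n : Set (GL (Fin n) F)) := by
  rintro s ⟨k, k', h, rfl⟩
  obtain ⟨h1, h2, -⟩ := simple_idx h
  exact sS_mem_OQ hn h1 h2

lemma SOQ_le_OQ (hn : Even n) : SOQ F n ≤ OQ F n := by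
  apply sup_le inf_le_right
  apply sup_le _ inf_le_right
  rw [Subgroup.closure_le]
  exact SD_subset_OQ hn

lemma xsU_upper_mem_SOQ {p q : Fin n} (hn : Even n) (hlt : p < q) (hpq' : p ≠ q.rev) (t : F) :
    xsU σ₀ p q (ne_of_lt hlt) t ∈ SOQ F n :=
  BQ_le_SOQ ⟨xsU_mem_Bup hlt t, xsU_mem_OQ hn (ne_of_lt hlt) hpq' t⟩

lemma sS_mem_SOQ {k k' : Fin n} (h : IsSimpleD k k') : (sS k k' : GL (Fin n) F) ∈ SOQ F n :=
  SD_subset_SOQ ⟨k, k', h, rfl⟩

/-- the lower root elements of the simple pairs -/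
lemma xsU_lower_mem_SOQ (hn : Even n) {k k' : Fin n} (h : IsSimpleD k k') (hkk' : k ≠ k')
    (t : F) : xsU σ₀ k' k hkk'.symm t ∈ SOQ F n := by
  obtain ⟨h1, h2, h3, h4, h5, h6⟩ := simple_idx h
  have hs := sS_mem_OQ (F := F) hn h1 h2
  rw [sS_eq_monoGL, monoGL_mem_OQ_iff hn] at hs
  have := Cfsg.Agent.Lib.Helper15.UnGen.monoGL_conj_xsU' (σ := σ₀)
    (swap k k' * swap k'.rev k.rev) (fun _ => (1 : Fˣ)) hs.1 hs.2 k k' hkk' t
  have e1 : (swap k k' * swap k'.rev k.rev) k = k' := by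
    rw [Perm.mul_apply, swap_apply_of_ne_of_ne h2 (ne_rev hn k), swap_apply_left]
  have e2 : (swap k k' * swap k'.rev k.rev) k' = k := by
    rw [Perm.mul_apply, swap_apply_of_ne_of_ne (ne_rev hn k') h5, swap_apply_right]
  have e3 : xsU σ₀ ((swap k k' * swap k'.rev k.rev) k) ((swap k k' * swap k'.rev k.rev) k')
      ((swap k k' * swap k'.rev k.rev).injective.ne hkk')
      (t * ((1 : Fˣ) : F) / ((1 : Fˣ) : F)) = xsU σ₀ k' k hkk'.symm t := by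
    apply xsU_congr _ _ e1 e2
    simp
  rw [e3, ← sS_eq_monoGL] at this
  rw [← this]
  exact Subgroup.mul_mem _ (Subgroup.mul_mem _ (sS_mem_SOQ h)
    (xsU_upper_mem_SOQ hn h3 h2 t)) (Subgroup.inv_mem _ (sS_mem_SOQ h))

/-! ### the subgroups of the (B,N)-pair -/

/-- the Borel subgroup -/
def BK (F : Type*) [Field F] (n : ℕ) : Subgroup ↥(SOQ F n) := (Bup n F).subgroupOf (SOQ F n)

/-- the torus -/
def TK (F : Type*) [Field F] (n : ℕ) : Subgroup ↥(SOQ F n) :=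
  (diagSubgroup n F).subgroupOf (SOQ F n)

/-- the simple reflections -/
def SK (F : Type*) [Field F] (n : ℕ) : Set ↥(SOQ F n) := {s | (s : GL (Fin n) F) ∈ SD F n}

/-- the monomial subgroup -/
def NK (F : Type*) [Field F] (n : ℕ) : Subgroup ↥(SOQ F n) :=
  Subgroup.closure (SK F n) ⊔ TK F n

lemma mem_BK {g : ↥(SOQ F n)} : g ∈ BK F n ↔ (g : GL (Fin n) F) ∈ Bup n F :=
  Subgroup.mem_subgroupOf

lemma mem_TK {g : ↥(SOQ F n)} : g ∈ TK F n ↔ (g : GL (Fin n) F) ∈ diagSubgroup n F :=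
  Subgroup.mem_subgroupOf

lemma TK_le_BK : TK F n ≤ BK F n := by
  intro g hg
  rw [mem_TK] at hg
  rw [mem_BK]
  obtain ⟨c, hc⟩ := hg
  rw [hc, monoGL_mem_Bup_iff]

lemma TK_le_NK : TK F n ≤ NK F n := le_sup_right

lemma SK_subset_NK : SK F n ⊆ (NK F n : Set ↥(SOQ F n)) := fun _ hg =>
  Subgroup.mem_sup_left (Subgroup.subset_closure hg)

lemma NK_le_mono : NK F n ≤ (monoSubgroup n F).subgroupOf (SOQ F n) := by
  apply sup_le
  · rw [Subgroup.closure_le]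
    rintro g ⟨k, k', -, hg⟩
    show g ∈ (monoSubgroup n F).subgroupOf (SOQ F n)
    rw [Subgroup.mem_subgroupOf, hg, sS_eq_monoGL]
    exact ⟨_, _, rfl⟩
  · intro g hg
    rw [mem_TK] at hg
    rw [Subgroup.mem_subgroupOf]
    exact diagSubgroup_le_mono hg

lemma exists_monoGL {g : ↥(SOQ F n)} (hg : g ∈ NK F n) :
    ∃ (τ : Perm (Fin n)) (c : Fin n → Fˣ), (g : GL (Fin n) F) = monoGL τ c := by
  have := NK_le_mono hg
  rw [Subgroup.mem_subgroupOf] at this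
  exact this

lemma coe_mem_OQ (hn : Even n) (g : ↥(SOQ F n)) : (g : GL (Fin n) F) ∈ OQ F n :=
  SOQ_le_OQ hn g.2

lemma perm_comm_of_mem (hn : Even n) {g : ↥(SOQ F n)} {τ : Perm (Fin n)} {c : Fin n → Fˣ}
    (h : (g : GL (Fin n) F) = monoGL τ c) : ∀ a, τ a.rev = (τ a).rev := by
  have := coe_mem_OQ hn g
  rw [h, monoGL_mem_OQ_iff hn] at this
  exact this.1

lemma BK_inf_NK : BK F n ⊓ NK F n = TK F n := by
  apply le_antisymm
  · rintro g ⟨hB, hN⟩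
    obtain ⟨τ, c, hg⟩ := exists_monoGL hN
    have hB' := mem_BK.mp hB
    rw [hg, monoGL_mem_Bup_iff] at hB'
    subst hB'
    rw [mem_TK, hg]
    exact ⟨c, rfl⟩
  · exact le_inf TK_le_BK TK_le_NK

theorem BK_sup_NK : BK F n ⊔ NK F n = ⊤ := by
  rw [eq_top_iff]
  intro g _
  have key : SOQ F n ≤ (BK F n ⊔ NK F n).map (SOQ F n).subtype := by
    apply sup_le
    · intro b hb
      exact ⟨⟨b, BQ_le_SOQ hb⟩, Subgroup.mem_sup_left (mem_BK.mpr hb.1), rfl⟩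
    · apply sup_le
      · rw [Subgroup.closure_le]
        intro s hs
        exact ⟨⟨s, SD_subset_SOQ hs⟩, Subgroup.mem_sup_right (SK_subset_NK hs), rfl⟩
      · intro t ht
        exact ⟨⟨t, TQ_le_SOQ ht⟩,
          Subgroup.mem_sup_right (TK_le_NK (mem_TK.mpr ht.1)), rfl⟩
  obtain ⟨g', hg', he⟩ := key g.2
  have : g' = g := Subtype.ext he
  rw [← this]
  exact hg'

/-! ### the double coset condition -/

/-- the data attached to a simple reflection that are needed for the double coset condition -/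
def SimpleDataK (s : ↥(SOQ F n)) (k k' : Fin n) : Prop :=
  ∀ b ∈ BK F n, ∃ b' x : ↥(SOQ F n), b = b' * x ∧ s * b' * s⁻¹ ∈ BK F n ∧
    (∀ (g : ↥(SOQ F n)) (τ : Perm (Fin n)) (c : Fin n → Fˣ),
      (g : GL (Fin n) F) = monoGL τ c → τ⁻¹ k < τ⁻¹ k' → g⁻¹ * x * g ∈ BK F n) ∧
    (x = 1 ∨ ∃ y : ↥(SOQ F n), s * x * y ∈ BK F n ∧
      ∀ (g : ↥(SOQ F n)) (τ : Perm (Fin n)) (c : Fin n → Fˣ),
        (g : GL (Fin n) F) = monoGL τ c → τ⁻¹ k' < τ⁻¹ k → g⁻¹ * y⁻¹ * g ∈ BK F n)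

lemma SimpleDataK.pos {s : ↥(SOQ F n)} {k k' : Fin n} (hs : SimpleDataK s k k')
    {b : ↥(SOQ F n)} (hb : b ∈ BK F n) {g : ↥(SOQ F n)} {τ : Perm (Fin n)}
    {c : Fin n → Fˣ} (hg : (g : GL (Fin n) F) = monoGL τ c) (hlt : τ⁻¹ k < τ⁻¹ k') :
    s * b * g ∈ DoubleCoset.doubleCoset (s * g) (BK F n : Set ↥(SOQ F n)) (BK F n) := by
  obtain ⟨b', x, rfl, h1, h2, -⟩ := hs b hb
  exact dc_skeleton_pos h1 (h2 g τ c hg hlt)

lemma SimpleDataK.main {s : ↥(SOQ F n)} {k k' : Fin n} (hs : SimpleDataK s k k')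
    (hkk' : k ≠ k') {b : ↥(SOQ F n)} (hb : b ∈ BK F n) {g : ↥(SOQ F n)} (hg : g ∈ NK F n) :
    s * b * g ∈ DoubleCoset.doubleCoset (s * g) (BK F n : Set ↥(SOQ F n)) (BK F n) ∪
      DoubleCoset.doubleCoset g (BK F n : Set ↥(SOQ F n)) (BK F n) := by
  obtain ⟨τ, c, hτ⟩ := exists_monoGL hg
  have hne : τ⁻¹ k ≠ τ⁻¹ k' := fun h => hkk' (τ⁻¹.injective h)
  rcases lt_or_gt_of_ne hne with hlt | hgt
  · left
    exact hs.pos hb hτ hlt
  · obtain ⟨b', x, rfl, h1, h2, h3⟩ := hs b hb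
    rcases h3 with rfl | ⟨y, h4, h5⟩
    · left
      apply dc_skeleton_pos h1
      rw [mul_one, inv_mul_cancel]
      exact Subgroup.one_mem _
    · right
      exact dc_skeleton_neg h1 h4 (h5 g τ c hτ hgt)

lemma coe_mk_mul_inv (s b x : ↥(SOQ F n)) :
    ((s * (b * x⁻¹) * s⁻¹ : ↥(SOQ F n)) : GL (Fin n) F) =
      (s : GL (Fin n) F) * ((b : GL (Fin n) F) * (x : GL (Fin n) F)⁻¹) *
        (s : GL (Fin n) F)⁻¹ := rfl

lemma coe_conj (g x : ↥(SOQ F n)) :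
    ((g⁻¹ * x * g : ↥(SOQ F n)) : GL (Fin n) F) =
      (g : GL (Fin n) F)⁻¹ * (x : GL (Fin n) F) * (g : GL (Fin n) F) := rfl

lemma coe_mul3 (s x y : ↥(SOQ F n)) :
    ((s * x * y : ↥(SOQ F n)) : GL (Fin n) F) =
      (s : GL (Fin n) F) * (x : GL (Fin n) F) * (y : GL (Fin n) F) := rfl

theorem simpleDataK (hn : Even n) {k k' : Fin n} (h : IsSimpleD k k')
    {s : ↥(SOQ F n)} (hs' : (s : GL (Fin n) F) = sS k k') : SimpleDataK s k k' := by
  obtain ⟨h1, h2, h3, h4, h5, h6⟩ := simple_idx h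
  have hkr := ne_rev hn k
  have hk'r := ne_rev hn k'
  intro b hb
  obtain ⟨t, ht⟩ := simple_factor hn h h1 (coe_mem_OQ hn b) (mem_BK.mp hb)
  have hxK : xsU σ₀ k k' h1 t ∈ SOQ F n := xsU_upper_mem_SOQ hn h3 h2 t
  refine ⟨b * (⟨xsU σ₀ k k' h1 t, hxK⟩ : ↥(SOQ F n))⁻¹, ⟨xsU σ₀ k k' h1 t, hxK⟩, by group,
    ?_, ?_, ?_⟩
  · rw [mem_BK, coe_mk_mul_inv, hs']
    exact ht
  · intro g τ c hg hlt
    rw [mem_BK, coe_conj, hg]
    exact conj_xsU_mem_Bup (perm_comm_of_mem hn hg) c h1 hk'r hlt t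
  · by_cases ht0 : t = 0
    · left
      apply Subtype.ext
      show xsU σ₀ k k' h1 t = 1
      rw [ht0, xsU_zero]
    · right
      refine ⟨⟨xsU σ₀ k' k h1.symm (-t⁻¹), xsU_lower_mem_SOQ hn h h1 _⟩, ?_, ?_⟩
      · rw [mem_BK, coe_mul3, hs']
        exact simple_rank_one hn h h1 ht0
      · intro g τ c hg hgt
        rw [mem_BK, coe_conj, hg]
        show (monoGL τ c)⁻¹ * (xsU σ₀ k' k h1.symm (-t⁻¹))⁻¹ * monoGL τ c ∈ Bup n F
        rw [xsU_inv h1.symm hk'r hkr]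
        exact conj_xsU_mem_Bup (perm_comm_of_mem hn hg) c h1.symm hkr hgt _

/-! ### the remaining conditions -/

lemma SK_sq_mem {s : ↥(SOQ F n)} (hs : s ∈ SK F n) : s * s ∈ BK F n := by
  obtain ⟨k, k', h, hs'⟩ := hs
  rw [mem_BK]
  show (s : GL (Fin n) F) * (s : GL (Fin n) F) ∈ Bup n F
  rw [hs', simple_sS_mul_self h]
  exact Subgroup.one_mem _

lemma SK_inj {s s' : ↥(SOQ F n)} (hs : s ∈ SK F n) (hs' : s' ∈ SK F n)
    (h : s⁻¹ * s' ∈ BK F n) : s = s' := by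
  obtain ⟨k, k', -, e⟩ := hs
  obtain ⟨l, l', -, e'⟩ := hs'
  rw [mem_BK] at h
  have h' : (s : GL (Fin n) F)⁻¹ * (s' : GL (Fin n) F) ∈ Bup n F := h
  apply Subtype.ext
  rw [e, e'] at h' ⊢
  rw [sS_eq_monoGL, sS_eq_monoGL] at h' ⊢
  rw [monoGL_inv, monoGL_mul, monoGL_mem_Bup_iff, inv_mul_eq_one] at h'
  rw [h']

lemma SK_conj_ne (hn : Even n) {s : ↥(SOQ F n)} (hs : s ∈ SK F n) :
    (fun b : ↥(SOQ F n) => s * b * s) '' (BK F n : Set ↥(SOQ F n)) ≠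
      (BK F n : Set ↥(SOQ F n)) := by
  obtain ⟨k, k', h, hs'⟩ := hs
  obtain ⟨h1, h2, h3, h4, h5, h6⟩ := simple_idx h
  have hkr := ne_rev hn k
  have hk'r := ne_rev hn k'
  intro heq
  set x : ↥(SOQ F n) := ⟨xsU σ₀ k k' h1 1, xsU_upper_mem_SOQ hn h3 h2 1⟩ with hx
  have hxB : x ∈ BK F n := mem_BK.mpr (xsU_mem_Bup h3 1)
  have hmem : s * x * s ∈ (BK F n : Set ↥(SOQ F n)) := by
    rw [← heq]
    exact ⟨x, hxB, rfl⟩
  have hmem' : (s : GL (Fin n) F) * (x : GL (Fin n) F) * (s : GL (Fin n) F) ∈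
      Bup n F := mem_BK.mp hmem
  have e1 : (swap k k' * swap k'.rev k.rev) k = k' := by
    rw [Perm.mul_apply, swap_apply_of_ne_of_ne h2 hkr, swap_apply_left]
  have := (mem_Bup.mp hmem') k' k h3
  rw [hs', sS_eq_monoGL, monoGL_mul_mul_apply] at this
  have e2 : (swap k k' * swap k'.rev k.rev).symm k' = k := by
    rw [Equiv.symm_apply_eq, e1]
  rw [e2, e1] at this
  have hX : ((x : GL (Fin n) F) : Matrix (Fin n) (Fin n) F) k k' = 1 := by
    show ((xsU σ₀ k k' h1 (1 : F) : GL (Fin n) F) : Matrix (Fin n) (Fin n) F) k k' = 1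
    rw [xsU_apply h1 hk'r, if_neg h1, if_neg (fun h => h2 h.1), if_pos ⟨rfl, rfl⟩, zero_add,
      zero_add]
  rw [hX] at this
  simp at this

lemma NK_conj_mem {g : ↥(SOQ F n)} (hg : g ∈ NK F n) {t : ↥(SOQ F n)}
    (ht : t ∈ BK F n ⊓ NK F n) : g * t * g⁻¹ ∈ BK F n := by
  rw [BK_inf_NK, mem_TK] at ht
  obtain ⟨τ, c, hτ⟩ := exists_monoGL hg
  obtain ⟨d, hd⟩ := ht
  rw [mem_BK]
  show (g : GL (Fin n) F) * (t : GL (Fin n) F) * (g : GL (Fin n) F)⁻¹ ∈ Bup n F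
  rw [hτ, hd, monoGL_inv, monoGL_mul, monoGL_mul, monoGL_mem_Bup_iff]
  simp

/-- the `(B,N)`-pair of type `D` -/
def dnBN (F : Type*) [Field F] (n : ℕ) (hn : Even n) : Cfsg.BNPair ↥(SOQ F n) where
  B := BK F n
  N := NK F n
  S := SK F n
  sup_eq_top := BK_sup_NK
  conj_mem := fun _ hg _ ht => NK_conj_mem hg ht
  subset := SK_subset_NK
  sq_mem := fun _ hs => SK_sq_mem hs
  inj := fun _ hs _ hs' h => SK_inj hs hs' h
  closure_sup := by
    rw [BK_inf_NK]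
    rfl
  mul_mem_union := by
    intro s hs g hg b hb
    obtain ⟨k, k', h, hs'⟩ := hs
    exact (simpleDataK hn h hs').main (simple_idx h).1 hb hg
  conj_ne := fun _ hs => SK_conj_ne hn hs

theorem dnBN_B (hn : Even n) : (dnBN F n hn).B = BK F n := rfl
theorem dnBN_N (hn : Even n) : (dnBN F n hn).N = NK F n := rfl
theorem dnBN_S (hn : Even n) : (dnBN F n hn).S = SK F n := rfl

end Cfsg.Agent.Lib.Helper15.DnBN
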