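import Mathlib
import Cfsg.Agent.Lib.Helper15.DnBNC
import Cfsg.Agent.Lib.Helper15.UnBNJ

/-!
helper15: the (B,N)-pair of type `D` of `SOQ F n`: the longest element of the Weyl group reverses
all pairs of positions except possibly the middle one, `B ∩ n₀ B n₀⁻¹` consists of the diagonal
matrices, and the Steinberg function vanishes at the non-identity upper unitriangular elements, its
degree being the order of the unitriangular group.
-/

set_option autoImplicit false

namespace Cfsg.Agent.Lib.Helper15.DnBN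

open Matrix Equiv Cfsg Cfsg.Agent.Lib.Helper3.BN Cfsg.Agent.Lib.Helper6.BNSt
  Cfsg.Agent.Lib.Helper6.GLBN Cfsg.Agent.Lib.Helper6.GLSt Cfsg.Agent.Lib.Helper15.UnBN
open Cfsg.Agent.Lib.Helper15.SpBN (conj_monoGL_mem_Bup_iff perm_eq_one_of_adj)

variable {n : ℕ} {F : Type*} [Field F]

local notation "σ₀" => RingHom.id F

instance instFiniteSOQ [Finite F] : Finite ↥(SOQ F n) := by
  have : Finite (GL (Fin n) F) :=
    Finite.of_injective (fun g : GL (Fin n) F =>
      (g : Matrix (Fin n) (Fin n) F)) Units.val_injective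
  infer_instance

/-! ### a lemma on permutations -/

/-- a permutation that is increasing on all adjacent pairs except possibly the middle one, and on
the two pairs next to the middle, is the identity or the middle transposition -/
lemma perm_eq_one_or_swap {k : Fin n} (hk : 2 * k.val + 2 = n) {ρ : Perm (Fin n)}
    (hadj : ∀ i j : Fin n, j.val = i.val + 1 → i ≠ k → ρ i < ρ j)
    (h1 : ∀ i : Fin n, i.val + 1 = k.val → ρ i < ρ k.rev)
    (h2 : ∀ j : Fin n, j.val = k.rev.val + 1 → ρ k < ρ j) :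
    ρ = 1 ∨ ρ = swap k k.rev := by
  have hv := Fin.val_rev k
  have hne : k ≠ k.rev := by apply Fin.ne_of_val_ne; omega
  rcases lt_or_gt_of_ne (ρ.injective.ne hne) with hlt | hgt
  · left
    apply perm_eq_one_of_adj
    intro i j hij
    by_cases hi : i = k
    · subst hi
      have : j = i.rev := Fin.ext (by omega)
      subst this
      exact hlt
    · exact hadj i j hij hi
  · right
    have h : ρ * swap k k.rev = 1 := by
      apply perm_eq_one_of_adj
      intro i j hij
      rw [Perm.mul_apply, Perm.mul_apply]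
      by_cases hi : i = k
      · subst hi
        have : j = i.rev := Fin.ext (by omega)
        subst this
        rw [swap_apply_left, swap_apply_right]
        exact hgt
      · by_cases hj : j = k
        · subst hj
          have hi' : i ≠ j.rev := by apply Fin.ne_of_val_ne; omega
          rw [swap_apply_left, swap_apply_of_ne_of_ne hi hi']
          exact h1 i hij.symm
        · by_cases hi' : i = k.rev
          · subst hi'
            have hj' : j ≠ k.rev := by apply Fin.ne_of_val_ne; omega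
            rw [swap_apply_right, swap_apply_of_ne_of_ne hj hj']
            exact h2 j hij
          · have hj' : j ≠ k.rev := by
              intro e
              apply hi
              apply Fin.ext
              rw [e] at hij
              omega
            rw [swap_apply_of_ne_of_ne hi hi', swap_apply_of_ne_of_ne hj hj']
            exact hadj i j hij hi
    have := eq_inv_of_mul_eq_one_left h
    rw [this, Equiv.swap_inv]

/-! ### the longest element -/

variable (hn : Even n)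

/-- a monomial representative of an element of `N` whose Weyl group element has all simple
reflections as left descents reverses the order of every simple pair -/
lemma lt_of_descent {s : ↥(SOQ F n)} (hs : s ∈ (dnBN F n hn).S) {k k' : Fin n}
    (hd : SimpleDataK s k k') (hkk' : k ≠ k') {g : ↥(SOQ F n)} (hg : g ∈ (dnBN F n hn).N)
    (hg' : ∃ x ∈ C (dnBN F n hn) (mkW (dnBN F n hn) g hg),
      s * x ∈ C (dnBN F n hn) (mkW (dnBN F n hn) g hg))
    {τ : Perm (Fin n)} {c : Fin n → Fˣ}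
    (hτ : (g : GL (Fin n) F) = monoGL τ c) : τ⁻¹ k' < τ⁻¹ k := by
  have hne : τ⁻¹ k ≠ τ⁻¹ k' := fun h => hkk' (τ⁻¹.injective h)
  rcases lt_or_gt_of_ne hne with hlt | hgt
  · exfalso
    obtain ⟨x, hg1, hg2⟩ := hg'
    rw [mem_C_mk, mem_dc] at hg1
    obtain ⟨b1, hb1, b2, hb2, rfl⟩ := hg1
    have h1 : s * b1 * g ∈ dc (dnBN F n hn) (s * g) := hd.pos hb1 hτ hlt
    have hsn : s * g ∈ (dnBN F n hn).N :=
      (dnBN F n hn).N.mul_mem ((dnBN F n hn).subset hs) hg
    have h2 : s * (b1 * g * b2) ∈ C (dnBN F n hn) (mkW (dnBN F n hn) (s * g) hsn) := by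
      rw [mem_C_mk]
      have e : s * (b1 * g * b2) = s * b1 * g * b2 := by group
      rw [e]
      exact dc_mul_right (dnBN F n hn) h1 hb2
    have h3 := eq_of_common (dnBN F n hn) h2 hg2
    rw [mkW_mul (dnBN F n hn) ((dnBN F n hn).subset hs) hg] at h3
    exact sb_ne_one (dnBN F n hn) hs (mul_eq_right.mp h3)
  · exact hgt

section longest

variable [Finite F]

lemma exists_descent {s : ↥(SOQ F n)} (hs : s ∈ (dnBN F n hn).S) :
    ∃ g ∈ C (dnBN F n hn) (mkW (dnBN F n hn)
        (repW (dnBN F n hn) (w0 (dnBN F n hn))) (repW_mem _ _)),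
      s * g ∈ C (dnBN F n hn) (mkW (dnBN F n hn)
        (repW (dnBN F n hn) (w0 (dnBN F n hn))) (repW_mem _ _)) := by
  rw [mkW_repW]
  apply B_lemma (dnBN F n hn) hs
  exact le_of_lt (w0_left (dnBN F n hn) _ (sb_mem (dnBN F n hn) hs))

/-- the permutation of a representative of the longest element reverses all pairs of positions
except possibly the middle one -/
theorem repW_w0_rev : ∃ (τ : Perm (Fin n)) (c : Fin n → Fˣ),
    ((repW (dnBN F n hn) (w0 (dnBN F n hn)) : ↥(SOQ F n)) : GL (Fin n) F) = monoGL τ c ∧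
      ∀ p q : Fin n, p < q → ¬ (2 * p.val + 2 = n ∧ q = p.rev) → τ⁻¹ q < τ⁻¹ p := by
  have hN : repW (dnBN F n hn) (w0 (dnBN F n hn)) ∈ NK F n :=
    repW_mem (dnBN F n hn) _
  obtain ⟨τ, c, hτ⟩ := exists_monoGL hN
  refine ⟨τ, c, hτ, ?_⟩
  have hcomm := perm_comm_of_mem hn hτ
  -- the simple pairs are reversed
  have hkey : ∀ a a' : Fin n, IsSimpleD a a' → τ⁻¹ a' < τ⁻¹ a := by
    intro a a' h
    have hsS : (⟨sS a a', sS_mem_SOQ h⟩ : ↥(SOQ F n)) ∈ (dnBN F n hn).S := ⟨a, a', h, rfl⟩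
    exact lt_of_descent hn hsS (simpleDataK hn h rfl) (simple_idx h).1 hN
      (exists_descent hn hsS) hτ
  intro p q hpq hex
  obtain ⟨m, hm⟩ := hn
  have hm1 : 1 ≤ m := by have := p.2; omega
  have hkn : m - 1 < n := by omega
  set k : Fin n := ⟨m - 1, hkn⟩ with hkdef
  have hkv : k.val = m - 1 := rfl
  have hk : 2 * k.val + 2 = n := by omega
  have hv := Fin.val_rev k
  set ρ : Perm (Fin n) := Fin.revPerm * τ⁻¹ with hρ
  have hρa : ∀ i, ρ i = (τ⁻¹ i).rev := fun i => rfl
  have hcases : ρ = 1 ∨ ρ = swap k k.rev := by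
    apply perm_eq_one_or_swap hk
    · intro i j hij hi
      rw [hρa, hρa, Fin.rev_lt_rev]
      have hi' : i.val ≠ k.val := fun e => hi (Fin.ext e)
      by_cases c1 : i.val < k.val
      · exact hkey i j (Or.inl ⟨hij, by omega⟩)
      · have hvi := Fin.val_rev i
        have hvj := Fin.val_rev j
        have hj2 := j.2
        have := hkey j.rev i.rev (Or.inl ⟨by omega, by omega⟩)
        rw [inv_rev_of_comm hcomm, inv_rev_of_comm hcomm, Fin.rev_lt_rev] at this
        exact this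
    · intro i hi
      rw [hρa, hρa, Fin.rev_lt_rev]
      exact hkey i k.rev (Or.inr ⟨by omega, by omega⟩)
    · intro j hj
      rw [hρa, hρa, Fin.rev_lt_rev]
      have hvj := Fin.val_rev j
      have hj2 := j.2
      have := hkey j.rev k.rev (Or.inr ⟨by omega, by omega⟩)
      rw [inv_rev_of_comm hcomm, inv_rev_of_comm hcomm, Fin.rev_lt_rev] at this
      exact this
  have hinv : ∀ i, τ⁻¹ i = (ρ i).rev := fun i => by rw [hρa, Fin.rev_rev]
  rw [hinv, hinv, Fin.rev_lt_rev]
  rcases hcases with h1 | h1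
  · rw [h1]
    exact hpq
  · rw [h1]
    rcases swap_lt_or (k := k) (k' := k.rev) (by omega) hpq with h2 | ⟨h2, h3⟩
    · exact h2
    · exfalso
      apply hex
      rw [h3, h2]
      exact ⟨hk, rfl⟩

/-- `B ∩ n₀ B n₀⁻¹`, as a subgroup of `B`, consists of the diagonal matrices -/
theorem mem_BStab_w0 (b : (dnBN F n hn).B) :
    b ∈ BStab (dnBN F n hn) (repW (dnBN F n hn) (w0 (dnBN F n hn))) ↔
      ∀ i j : Fin n, i ≠ j →
        (((b : ↥(SOQ F n)) : GL (Fin n) F) : Matrix (Fin n) (Fin n) F) i j = 0 := by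
  obtain ⟨τ, c, hc, hrev⟩ := repW_w0_rev (n := n) (F := F) hn
  rw [mem_BStab]
  show _ ∈ BK F n ↔ _
  rw [mem_BK, coe_conj, hc, conj_monoGL_mem_Bup_iff]
  have hb : ((b : ↥(SOQ F n)) : GL (Fin n) F) ∈ Bup n F := mem_BK.mp b.2
  have hbO : ((b : ↥(SOQ F n)) : GL (Fin n) F) ∈ OQ F n := coe_mem_OQ hn _
  constructor
  · intro h i j hij
    rcases lt_or_gt_of_ne hij with hlt | hgt
    · by_cases hex : 2 * i.val + 2 = n ∧ j = i.rev
      · rw [hex.2]
        exact thin_entry_zero hn hbO hb hex.1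
      · have := h (τ⁻¹ i) (τ⁻¹ j) (hrev i j hlt hex)
        simp only [Perm.inv_def, Equiv.apply_symm_apply] at this
        exact this
    · exact (mem_Bup.mp hb) i j hgt
  · intro h i j hji
    apply h
    intro he
    exact (ne_of_gt hji) (τ.injective he)

end longest

/-! ### the unitriangular subgroup -/

/-- the upper unitriangular subgroup -/
def UK (F : Type*) [Field F] (n : ℕ) : Subgroup ↥(SOQ F n) where
  carrier := {g | (g : GL (Fin n) F) ∈ Bup n F ∧
    ∀ i, ((g : GL (Fin n) F) : Matrix (Fin n) (Fin n) F) i i = 1}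
  mul_mem' := by
    rintro a b ⟨ha, ha1⟩ ⟨hb, hb1⟩
    refine ⟨Subgroup.mul_mem _ ha hb, fun i => ?_⟩
    show (((a : GL (Fin n) F) * (b : GL (Fin n) F) : GL (Fin n) F) :
      Matrix (Fin n) (Fin n) F) i i = 1
    rw [Bup_mul_diag ha hb, ha1, hb1, mul_one]
  one_mem' := ⟨Subgroup.one_mem _, fun i => by simp⟩
  inv_mem' := by
    rintro a ⟨ha, ha1⟩
    refine ⟨Subgroup.inv_mem _ ha, fun i => ?_⟩
    have := Bup_inv_diag ha i
    rw [ha1, mul_one] at this
    exact this

lemma mem_UK {g : ↥(SOQ F n)} : g ∈ UK F n ↔ (g : GL (Fin n) F) ∈ Bup n F ∧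
    ∀ i, ((g : GL (Fin n) F) : Matrix (Fin n) (Fin n) F) i i = 1 := Iff.rfl

lemma UK_le_BK : UK F n ≤ BK F n := fun _ hg => mem_BK.mpr hg.1

/-- an element of `UK` with vanishing off-diagonal entries is trivial -/
lemma eq_one_of_offdiagK {g : ↥(SOQ F n)} (hg : g ∈ UK F n)
    (h : ∀ i j : Fin n, i ≠ j →
      ((g : GL (Fin n) F) : Matrix (Fin n) (Fin n) F) i j = 0) : g = 1 := by
  apply Subtype.ext
  apply Units.ext
  ext i j
  show ((g : GL (Fin n) F) : Matrix (Fin n) (Fin n) F) i j =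
    (1 : Matrix (Fin n) (Fin n) F) i j
  rw [Matrix.one_apply]
  by_cases hij : i = j
  · subst hij
    rw [if_pos rfl]
    exact hg.2 i
  · rw [if_neg hij]
    exact h i j hij

lemma UK_conj_mem {b u : ↥(SOQ F n)} (hb : b ∈ BK F n) (hu : u ∈ UK F n) :
    b⁻¹ * u * b ∈ UK F n := by
  have hc : (b : GL (Fin n) F) ∈ Bup n F := mem_BK.mp hb
  refine ⟨?_, fun i => ?_⟩
  · exact Subgroup.mul_mem _ (Subgroup.mul_mem _ (Subgroup.inv_mem _ hc) hu.1) hc
  · show (((b : GL (Fin n) F)⁻¹ * (u : GL (Fin n) F) * (b : GL (Fin n) F) : GL (Fin n) F) :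
        Matrix (Fin n) (Fin n) F) i i = 1
    rw [Bup_mul_diag (Subgroup.mul_mem _ (Subgroup.inv_mem _ hc) hu.1) hc,
      Bup_mul_diag (Subgroup.inv_mem _ hc) hu.1, hu.2 i, mul_one]
    exact Bup_inv_diag hc i

include hn in
/-- the Borel subgroup is the product of the unitriangular group and the torus -/
lemma exists_UK_mul_TK {b : ↥(SOQ F n)} (hb : b ∈ BK F n) :
    ∃ u ∈ UK F n, ∃ d ∈ TK F n, b = u * d := by
  have hb' : (b : GL (Fin n) F) ∈ Bup n F := mem_BK.mp hb
  have hbS : (b : GL (Fin n) F) ∈ GUJ σ₀ n := OQ_le_GUJ hn (coe_mem_OQ hn b)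
  let c : Fin n → Fˣ := fun j => Units.mk0 _ (diag_ne_zero hb' j)
  have hdO : (monoGL 1 c : GL (Fin n) F) ∈ OQ F n := by
    rw [monoGL_mem_OQ_iff hn]
    refine ⟨fun a => rfl, fun a => ?_⟩
    exact diag_mul_diag_rev hbS hb' a
  have hdB : (monoGL 1 c : GL (Fin n) F) ∈ Bup n F := by
    rw [monoGL_mem_Bup_iff]
  have hdK : (monoGL 1 c : GL (Fin n) F) ∈ SOQ F n := TQ_le_SOQ ⟨⟨c, rfl⟩, hdO⟩
  set d : ↥(SOQ F n) := ⟨monoGL 1 c, hdK⟩ with hd
  have huU : b * d⁻¹ ∈ UK F n := by
    refine ⟨Subgroup.mul_mem _ hb' (Subgroup.inv_mem _ hdB), fun i => ?_⟩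
    show (((b : GL (Fin n) F) * (monoGL 1 c)⁻¹ : GL (Fin n) F) :
      Matrix (Fin n) (Fin n) F) i i = 1
    rw [Bup_mul_diag hb' (Subgroup.inv_mem _ hdB)]
    have h1 := Bup_inv_diag hdB i
    have h2 : ((monoGL 1 c : GL (Fin n) F) : Matrix (Fin n) (Fin n) F) i i =
        (b : GL (Fin n) F).1 i i := by
      rw [coe_monoGL, mono_apply, Perm.one_apply, if_pos rfl]
      rfl
    rw [h2] at h1
    rw [mul_comm]
    exact h1
  refine ⟨b * d⁻¹, huU, d, ?_, by group⟩
  rw [mem_TK]
  exact ⟨c, rfl⟩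

/-! ### the Steinberg function -/

section steinberg

variable [Finite F]

/-- the simple reflections, as a finset -/
noncomputable def SfinD (F : Type*) [Field F] [Finite F] (n : ℕ) : Finset ↥(SOQ F n) :=
  (Set.toFinite (SK F n)).toFinset

theorem coe_SfinD : ((SfinD F n : Finset ↥(SOQ F n)) : Set ↥(SOQ F n)) = (dnBN F n hn).S :=
  Set.Finite.coe_toFinset _

/-- the Steinberg function -/
noncomputable def stD (F : Type*) [Field F] [Finite F] (n : ℕ) (hn : Even n) : ↥(SOQ F n) → ℂ :=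
  stFun (dnBN F n hn) (SfinD F n)

theorem stD_apply_B (b : (dnBN F n hn).B) :
    stD F n hn (b : ↥(SOQ F n)) =
      (Nat.card (MulAction.fixedBy ((dnBN F n hn).B ⧸
        BStab (dnBN F n hn) (repW (dnBN F n hn) (w0 (dnBN F n hn)))) b) : ℂ) := by
  unfold stD
  rw [stFun_apply_B (dnBN F n hn) (SfinD F n) (coe_SfinD hn) b]

/-- vanishing at the non-identity unitriangular matrices -/
theorem stD_unipotent {u : ↥(SOQ F n)} (hu : u ∈ UK F n) (hne : u ≠ 1) :
    stD F n hn u = 0 := by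
  have huB : u ∈ (dnBN F n hn).B := UK_le_BK hu
  have h : stD F n hn u = _ := stD_apply_B hn ⟨u, huB⟩
  rw [h]
  have hemp : IsEmpty (MulAction.fixedBy ((dnBN F n hn).B ⧸
      BStab (dnBN F n hn) (repW (dnBN F n hn) (w0 (dnBN F n hn))))
      (⟨u, huB⟩ : (dnBN F n hn).B)) := by
    constructor
    rintro ⟨x, hx⟩
    obtain ⟨c, rfl⟩ := QuotientGroup.mk_surjective x
    rw [MulAction.mem_fixedBy] at hx
    have hx' : (((⟨u, huB⟩ : (dnBN F n hn).B) * c : (dnBN F n hn).B) :
        (dnBN F n hn).B ⧸ BStab (dnBN F n hn)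
          (repW (dnBN F n hn) (w0 (dnBN F n hn)))) =
        (c : (dnBN F n hn).B ⧸ _) := hx
    rw [QuotientGroup.eq] at hx'
    have e : ((⟨u, huB⟩ : (dnBN F n hn).B) * c)⁻¹ * c =
        c⁻¹ * (⟨u, huB⟩ : (dnBN F n hn).B)⁻¹ * c := by
      group
    rw [e, mem_BStab_w0] at hx'
    have hcU : (c : ↥(SOQ F n))⁻¹ * u⁻¹ * (c : ↥(SOQ F n)) ∈ UK F n :=
      UK_conj_mem c.2 ((UK F n).inv_mem hu)
    have hone : (c : ↥(SOQ F n))⁻¹ * u⁻¹ * (c : ↥(SOQ F n)) = 1 := eq_one_of_offdiagK hcU hx'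
    apply hne
    have : u⁻¹ = 1 := by
      have e' : u⁻¹ = (c : ↥(SOQ F n)) * ((c : ↥(SOQ F n))⁻¹ * u⁻¹ * (c : ↥(SOQ F n))) *
          (c : ↥(SOQ F n))⁻¹ := by group
      rw [e', hone]; group
    exact inv_eq_one.mp this
  rw [Nat.card_of_isEmpty, Nat.cast_zero]

/-- the map `U → B/T` -/
noncomputable def uniToQuotD (u : UK F n) :
    (dnBN F n hn).B ⧸ BStab (dnBN F n hn)
      (repW (dnBN F n hn) (w0 (dnBN F n hn))) :=
  QuotientGroup.mk (⟨u.1, UK_le_BK u.2⟩ : (dnBN F n hn).B)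

theorem uniToQuotD_bijective : Function.Bijective (uniToQuotD hn (n := n) (F := F)) := by
  constructor
  · intro u u' h
    unfold uniToQuotD at h
    rw [QuotientGroup.eq, mem_BStab_w0] at h
    have hmem : (u⁻¹ * u' : UK F n).1 ∈ UK F n := (u⁻¹ * u').2
    have hone : ((u⁻¹ * u' : UK F n) : ↥(SOQ F n)) = 1 := eq_one_of_offdiagK hmem h
    have : u⁻¹ * u' = 1 := Subtype.ext hone
    exact inv_mul_eq_one.mp this
  · intro x
    obtain ⟨b, rfl⟩ := QuotientGroup.mk_surjective x
    obtain ⟨u, hu, d, hd, hbud⟩ := exists_UK_mul_TK hn b.2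
    refine ⟨⟨u, hu⟩, ?_⟩
    unfold uniToQuotD
    rw [QuotientGroup.eq, mem_BStab_w0]
    intro i j hij
    have hcoe : (((⟨u, UK_le_BK hu⟩ : (dnBN F n hn).B)⁻¹ * b :
        (dnBN F n hn).B) : ↥(SOQ F n)) = d := by
      show u⁻¹ * (b : ↥(SOQ F n)) = d
      rw [hbud]
      group
    rw [hcoe]
    rw [mem_TK] at hd
    obtain ⟨c, hc⟩ := hd
    rw [hc, coe_monoGL, mono_apply, if_neg]
    rw [Perm.one_apply]
    exact hij

/-- the degree -/
theorem stD_one : stD F n hn 1 = (Nat.card (UK F n) : ℂ) := by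
  unfold stD
  rw [stFun_one (dnBN F n hn) (SfinD F n) (coe_SfinD hn),
    Nat.card_congr (Equiv.ofBijective _ (uniToQuotD_bijective hn (n := n) (F := F)))]

end steinberg

end Cfsg.Agent.Lib.Helper15.DnBN
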