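import Mathlib
import Cfsg.Agent.Lib.Helper15.DnBNC
import Cfsg.Agent.Lib.Helper15.UnBNH

/-!
helper15: the orthogonal group `OQ F n` of the hyperbolic quadratic form is generated by the group
`SOQ F n` (with the (B,N)-pair of type `D`) and the middle reflection; the reduction steps.
-/

set_option autoImplicit false

namespace Cfsg.Agent.Lib.Helper15.DnBN

open Matrix Equiv Cfsg Cfsg.Agent.Lib.Helper6.GLBN Cfsg.Agent.Lib.Helper15.UnBN

variable {n : ℕ} {F : Type*} [Field F]

local notation "σ₀" => RingHom.id F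

/-- the reduction step in the first half of the column -/
lemma step_firstD (hn : Even n) {k l : ℕ} (hkl : k < l) (hl : 2 * l + 1 < n)
    (g : GL (Fin n) F) (hP : Pat (g : Matrix (Fin n) (Fin n) F) k l) :
    ∃ h ∈ SOQ F n, Pat ((h * g : GL (Fin n) F) : Matrix (Fin n) (Fin n) F) k (l - 1) := by
  have hpn : l - 1 < n := by omega
  have hp'n : l < n := by omega
  have hkn : k < n := by omega
  set p : Fin n := ⟨l - 1, hpn⟩ with hp
  set p' : Fin n := ⟨l, hp'n⟩ with hp'
  set kc : Fin n := ⟨k, hkn⟩ with hkc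
  have hk' : p'.val = p.val + 1 := by simp only [hp, hp']; omega
  have hs : 2 * p.val + 3 < n := by simp only [hp]; omega
  obtain ⟨h1, h2, h3, h4, h5, h6, h7, h8⟩ := short_idx hk' hs
  have hvp := Fin.val_rev p
  have hvp' := Fin.val_rev p'
  have hpv : p.val = l - 1 := rfl
  have hp'v : p'.val = l := rfl
  by_cases h0 : (g : Matrix (Fin n) (Fin n) F) p' kc = 0
  · refine ⟨1, Subgroup.one_mem _, ?_⟩
    rw [one_mul]
    apply pat_of_zero hP (by omega)
    intro i j hj hi
    have e1 : i = p' := Fin.ext hi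
    have e2 : j = kc := Fin.ext hj
    rw [e1, e2]
    exact h0
  · set t : F := -((g : Matrix (Fin n) (Fin n) F) p kc) / ((g : Matrix (Fin n) (Fin n) F) p' kc)
      with ht
    have hlt : p < p' := by rw [Fin.lt_def]; omega
    have hxK : xsU σ₀ p p' h1 t ∈ SOQ F n := xsU_upper_mem_SOQ hn hlt h2 t
    have hsK : (sS p p' : GL (Fin n) F) ∈ SOQ F n := sS_mem_SOQ (Or.inl ⟨hk', hs⟩)
    refine ⟨sS p p' * xsU σ₀ p p' h1 t, Subgroup.mul_mem _ hsK hxK, ?_⟩
    have hmat : ((sS p p' * xsU σ₀ p p' h1 t * g : GL (Fin n) F) : Matrix (Fin n) (Fin n) F) =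
        ((sS p p' : GL (Fin n) F) : Matrix (Fin n) (Fin n) F) *
        (((xsU σ₀ p p' h1 t : GL (Fin n) F) : Matrix (Fin n) (Fin n) F) *
          (g : Matrix (Fin n) (Fin n) F)) := by
      rw [Units.val_mul, Units.val_mul, Matrix.mul_assoc]
    rw [hmat]
    constructor
    · apply colTri_mul
      · intro i j hj
        rw [sS_eq_monoGL]
        apply monoGL_one_col
        have g1 : j ≠ p'.rev := by apply Fin.ne_of_val_ne; omega
        have g2 : j ≠ p.rev := by apply Fin.ne_of_val_ne; omega
        have g3 : j ≠ p := by apply Fin.ne_of_val_ne; omega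
        have g4 : j ≠ p' := by apply Fin.ne_of_val_ne; omega
        rw [Perm.mul_apply, swap_apply_of_ne_of_ne g1 g2, swap_apply_of_ne_of_ne g3 g4]
      · apply colTri_mul _ hP.1
        intro i j hj
        apply xsU_col h1 h4
        · apply Fin.ne_of_val_ne; omega
        · apply Fin.ne_of_val_ne; omega
    · intro i j hj hi
      have e2 : j = kc := Fin.ext hj
      rw [e2, sS_eq_monoGL, monoGL_one_mul_apply, xsU_mul_apply h1 h4]
      have hz : ∀ a : Fin n, l < a.val → (g : Matrix (Fin n) (Fin n) F) a kc = 0 :=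
        fun a ha => hP.2 a kc rfl ha
      have hzr : (g : Matrix (Fin n) (Fin n) F) p.rev kc = 0 := hz _ (by omega)
      have hzr' : (g : Matrix (Fin n) (Fin n) F) p'.rev kc = 0 := hz _ (by omega)
      by_cases hi1 : i = p'
      · have e : (swap p p' * swap p'.rev p.rev).symm i = p := by
          rw [Equiv.symm_apply_eq, hi1, Perm.mul_apply, swap_apply_of_ne_of_ne h2 h3,
            swap_apply_left]
        rw [e, if_neg h2, if_pos rfl, add_zero, ht]
        field_simp
        ring
      · by_cases hi2 : i = p'.rev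
        · have e : (swap p p' * swap p'.rev p.rev).symm i = p.rev := by
            rw [Equiv.symm_apply_eq, hi2, Perm.mul_apply, swap_apply_right,
              swap_apply_of_ne_of_ne (Ne.symm h2) (Ne.symm h4)]
          rw [e, if_neg (Ne.symm h6), if_neg (Ne.symm h3), add_zero, add_zero]
          exact hzr
        · by_cases hi3 : i = p.rev
          · have e : (swap p p' * swap p'.rev p.rev).symm i = p'.rev := by
              rw [Equiv.symm_apply_eq, hi3, Perm.mul_apply, swap_apply_left,
                swap_apply_of_ne_of_ne (Ne.symm h3) (Ne.symm h5)]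
            rw [e, if_pos rfl, if_neg (Ne.symm h2), add_zero, hzr, hzr', mul_zero, add_zero]
          · have hi0 : i ≠ p := by apply Fin.ne_of_val_ne; omega
            have e : (swap p p' * swap p'.rev p.rev).symm i = i := by
              rw [Equiv.symm_apply_eq, Perm.mul_apply, swap_apply_of_ne_of_ne hi2 hi3,
                swap_apply_of_ne_of_ne hi0 hi1]
            rw [e, if_neg hi2, if_neg hi0, add_zero, add_zero]
            apply hz
            have : i.val ≠ l := fun e' => hi1 (Fin.ext e')
            omega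

/-- the reduction step in the second half of the column -/
lemma step_lastD (hn : Even n) {k l : ℕ} (hl : n + 1 < 2 * l) (hlk : l + k + 1 ≤ n)
    (g : GL (Fin n) F) (hP : Pat (g : Matrix (Fin n) (Fin n) F) k l) :
    ∃ h ∈ SOQ F n, Pat ((h * g : GL (Fin n) F) : Matrix (Fin n) (Fin n) F) k (l - 1) := by
  have hpn : n - 1 - l < n := by omega
  have hp'n : n - l < n := by omega
  have hkn : k < n := by omega
  set p : Fin n := ⟨n - 1 - l, hpn⟩ with hp
  set p' : Fin n := ⟨n - l, hp'n⟩ with hp'
  set kc : Fin n := ⟨k, hkn⟩ with hkc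
  have hk' : p'.val = p.val + 1 := by simp only [hp, hp']; omega
  have hs : 2 * p.val + 3 < n := by simp only [hp]; omega
  obtain ⟨h1, h2, h3, h4, h5, h6, h7, h8⟩ := short_idx hk' hs
  have hvp := Fin.val_rev p
  have hvp' := Fin.val_rev p'
  have hpv : p.val = n - 1 - l := rfl
  have hp'v : p'.val = n - l := rfl
  by_cases h0 : (g : Matrix (Fin n) (Fin n) F) p.rev kc = 0
  · refine ⟨1, Subgroup.one_mem _, ?_⟩
    rw [one_mul]
    apply pat_of_zero hP (by omega)
    intro i j hj hi
    have e1 : i = p.rev := Fin.ext (by omega)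
    have e2 : j = kc := Fin.ext hj
    rw [e1, e2]
    exact h0
  · set t : F := (g : Matrix (Fin n) (Fin n) F) p'.rev kc / (g : Matrix (Fin n) (Fin n) F) p.rev kc
      with ht
    have hlt : p < p' := by rw [Fin.lt_def]; omega
    have hxK : xsU σ₀ p p' h1 t ∈ SOQ F n := xsU_upper_mem_SOQ hn hlt h2 t
    have hsK : (sS p p' : GL (Fin n) F) ∈ SOQ F n := sS_mem_SOQ (Or.inl ⟨hk', hs⟩)
    refine ⟨sS p p' * xsU σ₀ p p' h1 t, Subgroup.mul_mem _ hsK hxK, ?_⟩
    have hmat : ((sS p p' * xsU σ₀ p p' h1 t * g : GL (Fin n) F) : Matrix (Fin n) (Fin n) F) =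
        ((sS p p' : GL (Fin n) F) : Matrix (Fin n) (Fin n) F) *
        (((xsU σ₀ p p' h1 t : GL (Fin n) F) : Matrix (Fin n) (Fin n) F) *
          (g : Matrix (Fin n) (Fin n) F)) := by
      rw [Units.val_mul, Units.val_mul, Matrix.mul_assoc]
    rw [hmat]
    constructor
    · apply colTri_mul
      · intro i j hj
        rw [sS_eq_monoGL]
        apply monoGL_one_col
        have g1 : j ≠ p'.rev := by apply Fin.ne_of_val_ne; omega
        have g2 : j ≠ p.rev := by apply Fin.ne_of_val_ne; omega
        have g3 : j ≠ p := by apply Fin.ne_of_val_ne; omega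
        have g4 : j ≠ p' := by apply Fin.ne_of_val_ne; omega
        rw [Perm.mul_apply, swap_apply_of_ne_of_ne g1 g2, swap_apply_of_ne_of_ne g3 g4]
      · apply colTri_mul _ hP.1
        intro i j hj
        apply xsU_col h1 h4
        · apply Fin.ne_of_val_ne; omega
        · apply Fin.ne_of_val_ne; omega
    · intro i j hj hi
      have e2 : j = kc := Fin.ext hj
      rw [e2, sS_eq_monoGL, monoGL_one_mul_apply, xsU_mul_apply h1 h4]
      have hz : ∀ a : Fin n, l < a.val → (g : Matrix (Fin n) (Fin n) F) a kc = 0 :=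
        fun a ha => hP.2 a kc rfl ha
      by_cases hi3 : i = p.rev
      · have e : (swap p p' * swap p'.rev p.rev).symm i = p'.rev := by
          rw [Equiv.symm_apply_eq, hi3, Perm.mul_apply, swap_apply_left,
            swap_apply_of_ne_of_ne (Ne.symm h3) (Ne.symm h5)]
        rw [e, if_pos rfl, if_neg (Ne.symm h2), add_zero, ht]
        simp only [RingHom.id_apply]
        field_simp
        ring
      · have hi0 : i ≠ p := by apply Fin.ne_of_val_ne; omega
        have hi1 : i ≠ p' := by apply Fin.ne_of_val_ne; omega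
        have hi2 : i ≠ p'.rev := by apply Fin.ne_of_val_ne; omega
        have e : (swap p p' * swap p'.rev p.rev).symm i = i := by
          rw [Equiv.symm_apply_eq, Perm.mul_apply, swap_apply_of_ne_of_ne hi2 hi3,
            swap_apply_of_ne_of_ne hi0 hi1]
        rw [e, if_neg hi2, if_neg hi0, add_zero, add_zero]
        apply hz
        have : i.val ≠ l := fun e' => hi3 (Fin.ext (by omega))
        omega

/-- the group generated by `SOQ` and the middle reflection -/
def FOQ (F : Type*) [Field F] (n : ℕ) : Subgroup (GL (Fin n) F) :=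
  SOQ F n ⊔ Subgroup.closure {s | ∃ k : Fin n, 2 * k.val + 2 = n ∧ s = sG k k.rev}

lemma SOQ_le_FOQ : SOQ F n ≤ FOQ F n := le_sup_left

lemma FOQ_le_OQ (hn : Even n) : FOQ F n ≤ OQ F n := by
  apply sup_le (SOQ_le_OQ hn)
  rw [Subgroup.closure_le]
  rintro s ⟨k, -, rfl⟩
  exact sG_rev_mem_OQ hn k

/-- the reduction step at the middle: the middle reflection -/
lemma step_midD (hn : Even n) {k l : ℕ} (hkl : k < l) (hl : 2 * l = n)
    (g : GL (Fin n) F) (hg : g ∈ OQ F n) (hP : Pat (g : Matrix (Fin n) (Fin n) F) k l) :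
    ∃ h ∈ FOQ F n, Pat ((h * g : GL (Fin n) F) : Matrix (Fin n) (Fin n) F) k (l - 1) := by
  have hpn : l - 1 < n := by omega
  have hkn : k < n := by omega
  set p : Fin n := ⟨l - 1, hpn⟩ with hp
  set kc : Fin n := ⟨k, hkn⟩ with hkc
  have hl2 : 2 * p.val + 2 = n := by simp only [hp]; omega
  have hvp := Fin.val_rev p
  have hpv : p.val = l - 1 := rfl
  have h2 : p ≠ p.rev := by apply Fin.ne_of_val_ne; omega
  have h3 : p < p.rev := by rw [Fin.lt_def]; omega
  have hz : ∀ a : Fin n, l < a.val → (g : Matrix (Fin n) (Fin n) F) a kc = 0 :=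
    fun a ha => hP.2 a kc rfl ha
  by_cases h0 : (g : Matrix (Fin n) (Fin n) F) p.rev kc = 0
  · refine ⟨1, Subgroup.one_mem _, ?_⟩
    rw [one_mul]
    apply pat_of_zero hP (by omega)
    intro i j hj hi
    have e1 : i = p.rev := Fin.ext (by omega)
    have e2 : j = kc := Fin.ext hj
    rw [e1, e2]
    exact h0
  · have hp0 : (g : Matrix (Fin n) (Fin n) F) p kc = 0 := by
      have hcol := ((mem_OQ_iff hn).mp hg).2 kc
      rw [Finset.sum_eq_single p] at hcol
      · rw [if_pos h3] at hcol
        rcases mul_eq_zero.mp hcol with h | h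
        · exact h
        · exact absurd h h0
      · intro a _ ha
        split_ifs with haa
        · have hva := Fin.val_rev a
          have : (g : Matrix (Fin n) (Fin n) F) a.rev kc = 0 := by
            apply hz
            rw [Fin.lt_def] at haa
            have : a.val ≠ p.val := fun e => ha (Fin.ext e)
            omega
          rw [this, mul_zero]
        · rfl
      · intro h'
        exact absurd (Finset.mem_univ _) h'
    refine ⟨sG p p.rev, Subgroup.mem_sup_right (Subgroup.subset_closure ⟨p, hl2, rfl⟩), ?_⟩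
    rw [Units.val_mul]
    constructor
    · apply colTri_mul _ hP.1
      intro i j hj
      unfold sG
      apply monoGL_one_col
      have g3 : j ≠ p := by apply Fin.ne_of_val_ne; omega
      have g4 : j ≠ p.rev := by apply Fin.ne_of_val_ne; omega
      rw [swap_apply_of_ne_of_ne g3 g4]
    · intro i j hj hi
      have e2 : j = kc := Fin.ext hj
      rw [e2, coe_sG_mul]
      by_cases hi3 : i = p.rev
      · rw [hi3, swap_apply_right]
        exact hp0
      · have hi0 : i ≠ p := by apply Fin.ne_of_val_ne; omega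
        rw [swap_apply_of_ne_of_ne hi0 hi3]
        apply hz
        have : i.val ≠ l := fun e' => hi3 (Fin.ext (by omega))
        omega

/-- one reduction step, in all cases -/
lemma step_allD (hn : Even n) {k l : ℕ} (hkl : k < l) (hlk : l + k + 1 ≤ n)
    (g : GL (Fin n) F) (hg : g ∈ OQ F n) (hP : Pat (g : Matrix (Fin n) (Fin n) F) k l) :
    ∃ h ∈ FOQ F n, Pat ((h * g : GL (Fin n) F) : Matrix (Fin n) (Fin n) F) k (l - 1) := by
  obtain ⟨m, hm⟩ := id hn
  by_cases c1 : 2 * l + 1 < n
  · obtain ⟨h, hh, hP'⟩ := step_firstD hn hkl c1 g hP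
    exact ⟨h, SOQ_le_FOQ hh, hP'⟩
  · by_cases c3 : 2 * l = n
    · exact step_midD hn hkl c3 g hg hP
    · obtain ⟨h, hh, hP'⟩ := step_lastD hn (by omega) hlk g hP
      exact ⟨h, SOQ_le_FOQ hh, hP'⟩

/-- the terminal case: enough triangular columns force upper triangularity -/
lemma mem_FOQ_of_colTri (hn : Even n) {g : GL (Fin n) F} (hg : g ∈ OQ F n) {k : ℕ}
    (hk : n ≤ 2 * k + 1) (hT : ColTri (g : Matrix (Fin n) (Fin n) F) k) : g ∈ FOQ F n := by
  have := mem_BG_of_colTri (σ := σ₀) (⟨g, OQ_le_GUJ hn hg⟩ : ↥(GUJ σ₀ n)) hk hT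
  rw [mem_BG] at this
  exact SOQ_le_FOQ (BQ_le_SOQ ⟨this, hg⟩)

/-- the induction on the rows of the column `k` -/
lemma gen_colD (hn : Even n) (k : ℕ)
    (ih : ∀ g : GL (Fin n) F, g ∈ OQ F n → ColTri (g : Matrix (Fin n) (Fin n) F) (k + 1) →
      g ∈ FOQ F n) :
    ∀ e l : ℕ, l = k + e → l + k + 1 ≤ n → ∀ g : GL (Fin n) F, g ∈ OQ F n →
      Pat (g : Matrix (Fin n) (Fin n) F) k l → g ∈ FOQ F n := by
  intro e
  induction e with
  | zero =>
    intro l hl _ g hg hP
    apply ih g hg
    intro i j hj hji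
    by_cases hjk : j.val < k
    · exact hP.1 i j hjk hji
    · apply hP.2 i j (by omega)
      rw [Fin.lt_def] at hji
      omega
  | succ e ihe =>
    intro l hl hlk g hg hP
    obtain ⟨h, hh, hP'⟩ := step_allD hn (by omega) hlk g hg hP
    have := ihe (l - 1) (by omega) (by omega) (h * g)
      (Subgroup.mul_mem _ (FOQ_le_OQ hn hh) hg) hP'
    have e' : g = h⁻¹ * (h * g) := by group
    rw [e']
    exact Subgroup.mul_mem _ (Subgroup.inv_mem _ hh) this

/-- the induction on the columns -/
lemma gen_allD (hn : Even n) :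
    ∀ d k : ℕ, n ≤ 2 * k + 1 + 2 * d → ∀ g : GL (Fin n) F, g ∈ OQ F n →
      ColTri (g : Matrix (Fin n) (Fin n) F) k → g ∈ FOQ F n := by
  intro d
  induction d with
  | zero =>
    intro k hk g hg hT
    exact mem_FOQ_of_colTri hn hg (by omega) hT
  | succ d ihd =>
    intro k hk g hg hT
    by_cases hk' : n ≤ 2 * k + 1
    · exact mem_FOQ_of_colTri hn hg hk' hT
    · have ih := ihd (k + 1) (by omega)
      apply gen_colD hn k ih (n - 1 - k - k) (n - 1 - k) (by omega) (by omega) g hg
      refine ⟨hT, fun i j hj hi => ?_⟩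
      apply rowTri_of_colTri (σ := σ₀) (⟨g, OQ_le_GUJ hn hg⟩ : ↥(GUJ σ₀ n)) hT i j
      · rw [Fin.val_rev]; have := i.2; omega
      · rw [Fin.lt_def]; omega

theorem OQ_eq_FOQ (hn : Even n) : OQ F n = FOQ F n := by
  apply le_antisymm _ (FOQ_le_OQ hn)
  intro g hg
  apply gen_allD hn n 0 (by omega) g hg
  intro i j hj
  exact absurd hj (Nat.not_lt_zero _)

end Cfsg.Agent.Lib.Helper15.DnBN
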