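import Mathlib
import Cfsg.Agent.Lib.Helper15.DnBNE

/-!
helper15: the middle reflection normalises the group `SOQ F n`, which is therefore a normal
subgroup of the orthogonal group `OQ F n` with cyclic quotient; the commutator subgroup of `OQ F n`
lies in `SOQ F n`.
-/

set_option autoImplicit false

namespace Cfsg.Agent.Lib.Helper15.DnBN

open Matrix Equiv Cfsg Cfsg.Agent.Lib.Helper6.GLBN Cfsg.Agent.Lib.Helper15.UnBN

variable {n : ℕ} {F : Type*} [Field F]

local notation "σ₀" => RingHom.id F

lemma swap_rev_comm (k a : Fin n) :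
    Equiv.swap k k.rev a.rev = (Equiv.swap k k.rev a).rev := by
  rw [← Fin.rev_injective.swap_apply, Fin.rev_rev, Equiv.swap_comm]

/-- conjugating a reflection by the reflection of a mirror pair -/
lemma sm_conj_sS (k a a' : Fin n) :
    (sG k k.rev : GL (Fin n) F) * sS a a' * sG k k.rev =
      sS (Equiv.swap k k.rev a) (Equiv.swap k k.rev a') := by
  rw [sS_eq_monoGL, sS_eq_monoGL]
  unfold sG
  rw [← permGL_apply, ← permGL_apply, ← permGL_apply, ← map_mul, ← map_mul]
  congr 1
  have e1 : Equiv.swap k k.rev * Equiv.swap a a' =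
      Equiv.swap (Equiv.swap k k.rev a) (Equiv.swap k k.rev a') * Equiv.swap k k.rev :=
    Equiv.mul_swap_eq_swap_mul _ _ _
  have e2 : Equiv.swap k k.rev * Equiv.swap a'.rev a.rev =
      Equiv.swap (Equiv.swap k k.rev a').rev (Equiv.swap k k.rev a).rev * Equiv.swap k k.rev := by
    rw [Equiv.mul_swap_eq_swap_mul, swap_rev_comm, swap_rev_comm]
  calc Equiv.swap k k.rev * (Equiv.swap a a' * Equiv.swap a'.rev a.rev) * Equiv.swap k k.rev
      = (Equiv.swap k k.rev * Equiv.swap a a') * Equiv.swap a'.rev a.rev * Equiv.swap k k.rev := by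
        simp only [mul_assoc]
    _ = Equiv.swap (Equiv.swap k k.rev a) (Equiv.swap k k.rev a') *
        (Equiv.swap k k.rev * Equiv.swap a'.rev a.rev) * Equiv.swap k k.rev := by
        rw [e1]; simp only [mul_assoc]
    _ = _ := by
        rw [e2]
        simp only [mul_assoc, Equiv.swap_mul_self, mul_one]

/-- the middle reflection permutes the simple pairs -/
lemma isSimpleD_swap {k : Fin n} (hk : 2 * k.val + 2 = n) {a a' : Fin n} (h : IsSimpleD a a') :
    IsSimpleD (Equiv.swap k k.rev a) (Equiv.swap k k.rev a') := by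
  have hv := Fin.val_rev k
  have ha := a.2
  have ha' := a'.2
  have e1 : Equiv.swap k k.rev a = a := by
    apply swap_apply_of_ne_of_ne
    · apply Fin.ne_of_val_ne
      rcases h with ⟨h1, h2⟩ | ⟨h1, h2⟩ <;> omega
    · apply Fin.ne_of_val_ne
      rcases h with ⟨h1, h2⟩ | ⟨h1, h2⟩ <;> omega
  rw [e1]
  rcases h with ⟨h1, h2⟩ | ⟨h1, h2⟩
  · by_cases c : a' = k
    · rw [c, swap_apply_left]
      right
      rw [c] at h1
      constructor <;> omega
    · have c' : a' ≠ k.rev := by apply Fin.ne_of_val_ne; omega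
      rw [swap_apply_of_ne_of_ne c c']
      exact Or.inl ⟨h1, h2⟩
  · have c : a' = k.rev := Fin.ext (by omega)
    rw [c, swap_apply_right]
    left
    constructor <;> omega

/-- the middle reflection normalises `SOQ` -/
theorem sm_conj_mem_SOQ (hn : Even n) {k : Fin n} (hk : 2 * k.val + 2 = n) {g : GL (Fin n) F}
    (hg : g ∈ SOQ F n) : sG k k.rev * g * sG k k.rev ∈ SOQ F n := by
  have hinv : (sG k k.rev : GL (Fin n) F)⁻¹ = sG k k.rev := sG_inv _ _
  have key : SOQ F n ≤ (SOQ F n).comap (MulAut.conj (sG k k.rev : GL (Fin n) F)).toMonoidHom := by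
    apply sup_le
    · intro b hb
      rw [Subgroup.mem_comap]
      show sG k k.rev * b * (sG k k.rev)⁻¹ ∈ SOQ F n
      rw [hinv]
      exact BQ_le_SOQ ⟨sm_conj_mem_Bup hn hb.2 hb.1 hk, sm_conj_mem_OQ hn hb.2 k⟩
    · apply sup_le
      · rw [Subgroup.closure_le]
        rintro s ⟨a, a', h, rfl⟩
        show sG k k.rev * sS a a' * (sG k k.rev)⁻¹ ∈ SOQ F n
        rw [hinv, sm_conj_sS]
        exact sS_mem_SOQ (isSimpleD_swap hk h)
      · intro t ht
        show sG k k.rev * t * (sG k k.rev)⁻¹ ∈ SOQ F n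
        rw [hinv]
        have hd : sG k k.rev * t * sG k k.rev ∈ diagSubgroup n F := by
          obtain ⟨c, hc⟩ := ht.1
          rw [hc]
          unfold sG
          rw [monoGL_mul, monoGL_mul, mem_diagSubgroup]
          refine ⟨fun j => 1 * c (Equiv.swap k k.rev j) * 1, ?_⟩
          congr 1
          simp
        exact TQ_le_SOQ (Subgroup.mem_inf.mpr ⟨hd, sm_conj_mem_OQ hn ht.2 k⟩)
  have := key hg
  rw [Subgroup.mem_comap] at this
  have h' : sG k k.rev * g * (sG k k.rev)⁻¹ ∈ SOQ F n := this
  rw [hinv] at h'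
  exact h'

/-- the commutator subgroup of the orthogonal group lies in `SOQ` -/
theorem commutator_le_SOQ (hn : Even n) (hn0 : 0 < n) :
    commutator ↥(OQ F n) ≤ (SOQ F n).subgroupOf (OQ F n) := by
  obtain ⟨m, hm⟩ := id hn
  have hkn : m - 1 < n := by omega
  set k : Fin n := ⟨m - 1, hkn⟩ with hkdef
  have hkv : k.val = m - 1 := rfl
  have hk : 2 * k.val + 2 = n := by omega
  set s : ↥(OQ F n) := ⟨sG k k.rev, sG_rev_mem_OQ hn k⟩ with hs
  have hsinv : s⁻¹ = s := by
    apply Subtype.ext
    show (sG k k.rev : GL (Fin n) F)⁻¹ = sG k k.rev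
    exact sG_inv _ _
  set N : Subgroup ↥(OQ F n) := (SOQ F n).subgroupOf (OQ F n) with hN
  have hsN : ∀ h : ↥(OQ F n), h ∈ N → s * h * s⁻¹ ∈ N := by
    intro h hh
    rw [hsinv, hN, Subgroup.mem_subgroupOf]
    exact sm_conj_mem_SOQ hn hk (Subgroup.mem_subgroupOf.mp hh)
  have htop : N ⊔ Subgroup.zpowers s = ⊤ := by
    rw [eq_top_iff]
    intro g _
    have key : FOQ F n ≤ (N ⊔ Subgroup.zpowers s).map (OQ F n).subtype := by
      apply sup_le
      · intro x hx
        exact ⟨⟨x, SOQ_le_OQ hn hx⟩, Subgroup.mem_sup_left (Subgroup.mem_subgroupOf.mpr hx), rfl⟩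
      · rw [Subgroup.closure_le]
        rintro x ⟨k', hk', rfl⟩
        have : k' = k := Fin.ext (by omega)
        subst this
        exact ⟨s, Subgroup.mem_sup_right (Subgroup.mem_zpowers s), rfl⟩
    obtain ⟨g', hg', he⟩ := key ((OQ_eq_FOQ hn).le g.2)
    have : g' = g := Subtype.ext he
    rw [← this]
    exact hg'
  have hnormal : N.Normal := by
    rw [← Subgroup.normalizer_eq_top_iff, eq_top_iff, ← htop]
    apply sup_le Subgroup.le_normalizer
    rw [Subgroup.zpowers_le, Subgroup.mem_normalizer_iff]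
    intro h
    constructor
    · exact hsN h
    · intro hh
      have := hsN _ hh
      have hss : s * s = 1 := by
        have := inv_mul_cancel s
        rw [hsinv] at this
        exact this
      have e : s * (s * h * s⁻¹) * s⁻¹ = h := by
        rw [hsinv]
        calc s * (s * h * s) * s = (s * s) * h * (s * s) := by group
          _ = h := by rw [hss, one_mul, mul_one]
      rw [e] at this
      exact this
  exact Subgroup.Normal.commutator_le_of_self_sup_commutative_eq_top htop
    (Subgroup.zpowers_isMulCommutative s)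

end Cfsg.Agent.Lib.Helper15.DnBN
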