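import Mathlib
import Cfsg.Agent.Lib.Helper15.DnBND
import Cfsg.Agent.Lib.Helper15.OrBND
import Cfsg.Agent.Lib.Helper15.SpBNH
import Cfsg.Agent.Lib.Helper18.PSLnUnitri

/-!
helper15: the unitriangular subgroup of `SOQ F n` over a finite field of characteristic `p` is a
Sylow `p`-subgroup: the only point of `G/B` fixed by it is the base point (the monomial
representatives have even permutations, and the middle transposition is odd).
-/

set_option autoImplicit false

namespace Cfsg.Agent.Lib.Helper15.DnBN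

open Matrix Equiv Cfsg Cfsg.Agent.Lib.Helper3.BN Cfsg.Agent.Lib.Helper6.BNSt
  Cfsg.Agent.Lib.Helper6.GLBN Cfsg.Agent.Lib.Helper6.GLSt Cfsg.Agent.Lib.Helper15.UnBN
open Cfsg.Agent.Lib.Helper15.SpBN (perm_eq_one_of_adj lt_of_conj_mem_Bup)
open Cfsg.Agent.Lib.Helper18.PSLnAut (IsUni unitri mem_unitri isPGroup_unitri)

variable {n : ℕ} {F : Type*} [Field F]

local notation "σ₀" => RingHom.id F

/-! ### the permutations of the monomial elements are even -/

/-- the monomial matrices with even permutation -/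
def evenMono (n : ℕ) (F : Type*) [Field F] : Subgroup (GL (Fin n) F) where
  carrier := {g | ∃ (τ : Perm (Fin n)) (c : Fin n → Fˣ), g = monoGL τ c ∧ Perm.sign τ = 1}
  mul_mem' := by
    rintro _ _ ⟨τ, c, rfl, h⟩ ⟨τ', c', rfl, h'⟩
    exact ⟨τ * τ', _, monoGL_mul τ τ' c c', by rw [map_mul, h, h', one_mul]⟩
  one_mem' := ⟨1, fun _ => 1, monoGL_one.symm, Perm.sign_one⟩
  inv_mem' := by
    rintro _ ⟨τ, c, rfl, h⟩
    exact ⟨τ⁻¹, _, monoGL_inv τ c, by rw [Perm.sign_inv, h]⟩

lemma NK_le_evenMono : NK F n ≤ (evenMono n F).subgroupOf (SOQ F n) := by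
  apply sup_le
  · rw [Subgroup.closure_le]
    rintro g ⟨k, k', h, hg⟩
    show g ∈ (evenMono n F).subgroupOf (SOQ F n)
    rw [Subgroup.mem_subgroupOf, hg, sS_eq_monoGL]
    obtain ⟨h1, h2, h3, h4, h5, h6⟩ := simple_idx h
    refine ⟨_, _, rfl, ?_⟩
    rw [map_mul, Perm.sign_swap h1, Perm.sign_swap h6]
    rfl
  · intro g hg
    rw [mem_TK] at hg
    rw [Subgroup.mem_subgroupOf]
    obtain ⟨c, hc⟩ := hg
    exact ⟨1, c, hc, Perm.sign_one⟩

lemma sign_of_mem_NK {g : ↥(SOQ F n)} (hg : g ∈ NK F n) {τ : Perm (Fin n)}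
    {c : Fin n → Fˣ} (h : (g : GL (Fin n) F) = monoGL τ c) : Perm.sign τ = 1 := by
  have := NK_le_evenMono hg
  rw [Subgroup.mem_subgroupOf] at this
  obtain ⟨τ', c', h', hs⟩ := this
  rw [h] at h'
  rw [monoGL_perm_eq h']
  exact hs

/-- an even permutation that is increasing on all pairs of positions that are not mirror images
of each other is trivial -/
lemma perm_eq_one_of_good (hn : Even n) {π : Perm (Fin n)}
    (h : ∀ p q : Fin n, p < q → q ≠ p.rev → π p < π q) (hs : Perm.sign π = 1) : π = 1 := by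
  rcases Nat.eq_zero_or_pos n with h0 | h0
  · subst h0
    ext i
    exact i.elim0
  obtain ⟨m, hm⟩ := id hn
  have hkn : m - 1 < n := by omega
  set k : Fin n := ⟨m - 1, hkn⟩ with hkdef
  have hkv : k.val = m - 1 := rfl
  have hk : 2 * k.val + 2 = n := by omega
  have hv := Fin.val_rev k
  have hne : k ≠ k.rev := by apply Fin.ne_of_val_ne; omega
  have hcases : π = 1 ∨ π = swap k k.rev := by
    apply perm_eq_one_or_swap hk
    · intro i j hij hi
      apply h i j
      · rw [Fin.lt_def]; omega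
      · apply Fin.ne_of_val_ne
        rw [Fin.val_rev]
        have : i.val ≠ k.val := fun e => hi (Fin.ext e)
        omega
    · intro i hi
      apply h i k.rev
      · rw [Fin.lt_def]; omega
      · apply Fin.ne_of_val_ne
        have hvi := Fin.val_rev i
        omega
    · intro j hj
      apply h k j
      · rw [Fin.lt_def]; omega
      · apply Fin.ne_of_val_ne
        omega
  rcases hcases with h1 | h1
  · exact h1
  · exfalso
    rw [h1, Perm.sign_swap hne] at hs
    exact absurd hs (by decide)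

/-! ### the unitriangular group is a `p`-group -/

section pgroup

variable [Fintype F] (p : ℕ) [Fact p.Prime] [CharP F p]

/-- the embedding of the unitriangular group into that of `SL` -/
def UKtoUni (F : Type*) [Field F] [Fintype F] (n : ℕ) : UK F n →* unitri n F where
  toFun g := ⟨⟨((g : ↥(SOQ F n)) : GL (Fin n) F).1,
    IsUni.det ⟨fun i j hji => (mem_Bup.mp g.2.1) i j hji, g.2.2⟩⟩,
    ⟨fun i j hji => (mem_Bup.mp g.2.1) i j hji, g.2.2⟩⟩
  map_one' := rfl
  map_mul' _ _ := rfl

lemma UKtoUni_injective : Function.Injective (UKtoUni F n) := by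
  intro a b h
  have h1 : ((a : ↥(SOQ F n)) : GL (Fin n) F).1 = ((b : ↥(SOQ F n)) : GL (Fin n) F).1 :=
    congrArg (fun u : unitri n F =>
      ((u : SpecialLinearGroup (Fin n) F) : Matrix (Fin n) (Fin n) F)) h
  exact Subtype.ext (Subtype.ext (Units.ext h1))

omit [Fact (Nat.Prime p)] in
theorem isPGroup_UK : IsPGroup p (UK F n) :=
  (isPGroup_unitri (n := n) (F := F) p).of_injective (UKtoUni F n) UKtoUni_injective

end pgroup

/-! ### the diagonal homomorphism -/

/-- the diagonal of an upper triangular matrix -/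
noncomputable def diagHomK (F : Type*) [Field F] (n : ℕ) : BK F n →* (Fin n → Fˣ) where
  toFun b i := Units.mk0 _ (diag_ne_zero (mem_BK.mp b.2) i)
  map_one' := by
    funext i
    apply Units.ext
    simp
  map_mul' a b := by
    funext i
    apply Units.ext
    show ((((a : ↥(SOQ F n)) : GL (Fin n) F) * ((b : ↥(SOQ F n)) : GL (Fin n) F) :
      GL (Fin n) F) : Matrix (Fin n) (Fin n) F) i i = _
    rw [Bup_mul_diag (mem_BK.mp a.2) (mem_BK.mp b.2)]
    rfl

lemma diagHomK_ker : (diagHomK F n).ker = (UK F n).subgroupOf (BK F n) := by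
  ext b
  rw [MonoidHom.mem_ker, Subgroup.mem_subgroupOf, mem_UK]
  constructor
  · intro h
    refine ⟨mem_BK.mp b.2, fun i => ?_⟩
    have := congrArg (fun f : Fin n → Fˣ => ((f i : Fˣ) : F)) h
    exact this
  · intro h
    funext i
    apply Units.ext
    exact h.2 i

section index

variable [Fintype F] (p : ℕ) [Fact p.Prime] [CharP F p]

lemma not_dvd_relIndexK : ¬ p ∣ (UK F n).relIndex (BK F n) := by
  classical
  have hp : p.Prime := Fact.out
  unfold Subgroup.relIndex
  rw [← diagHomK_ker, Subgroup.index_ker]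
  intro h
  have h1 : Nat.card (diagHomK F n).range ∣ Nat.card (Fin n → Fˣ) :=
    Subgroup.card_subgroup_dvd_card _
  have h2 : Nat.card (Fin n → Fˣ) = (Fintype.card F - 1) ^ n := by
    rw [Nat.card_eq_fintype_card, Fintype.card_fun, Fintype.card_units, Fintype.card_fin]
  rw [h2] at h1
  exact Cfsg.Agent.Lib.Helper15.SpBN.not_dvd_card_units (F := F) p
    (hp.dvd_of_dvd_pow (dvd_trans h h1))

end index

/-! ### fixed points of `U` on `G/B` -/

lemma UK_conj_mem' {b u : ↥(SOQ F n)} (hb : b ∈ BK F n) (hu : u ∈ UK F n) :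
    b * u * b⁻¹ ∈ UK F n := by
  have := UK_conj_mem (Subgroup.inv_mem _ hb) hu
  rw [inv_inv] at this
  exact this

/-- the root elements of the unitriangular group -/
lemma xsU_mem_UK (hn : Even n) {p q : Fin n} (hlt : p < q) (hpq' : p ≠ q.rev) (t : F) :
    (⟨xsU σ₀ p q (ne_of_lt hlt) t, xsU_upper_mem_SOQ hn hlt hpq' t⟩ : ↥(SOQ F n)) ∈ UK F n :=
  ⟨xsU_mem_Bup hlt t, fun i => Cfsg.Agent.Lib.Helper15.OrBN.xsU_diag (ne_of_lt hlt) (ne_rev hn q) t i⟩

variable (hn : Even n)

include hn in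
/-- an element conjugating `U` into `B` lies in `B` -/
lemma mem_BK_of_conj_UK {g : ↥(SOQ F n)} (h : ∀ u ∈ UK F n, g⁻¹ * u * g ∈ BK F n) :
    g ∈ BK F n := by
  obtain ⟨x, hx, hg⟩ := exists_dc (dnBN F n hn) g
  rw [mem_dc] at hg
  obtain ⟨b, hb, b', hb', rfl⟩ := hg
  have hbB : b ∈ BK F n := hb
  have hb'B : b' ∈ BK F n := hb'
  have hxN : x ∈ NK F n := hx
  obtain ⟨τ, c, hτ⟩ := exists_monoGL hxN
  have key : ∀ u ∈ UK F n, x⁻¹ * u * x ∈ BK F n := by
    intro u hu
    have h1 := h (b * u * b⁻¹) (UK_conj_mem' hbB hu)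
    have e : x⁻¹ * u * x = b' * ((b * x * b')⁻¹ * (b * u * b⁻¹) * (b * x * b')) * b'⁻¹ := by
      group
    rw [e]
    exact Subgroup.mul_mem _ (Subgroup.mul_mem _ hb'B h1) (Subgroup.inv_mem _ hb'B)
  have hτ1 : τ⁻¹ = 1 := by
    apply perm_eq_one_of_good hn
    · intro p q hpq hq
      have hpq' : p ≠ q.rev := fun e => hq (by rw [e, Fin.rev_rev])
      have h2 := key _ (xsU_mem_UK hn hpq hpq' 1)
      rw [mem_BK, coe_conj, hτ] at h2
      apply lt_of_conj_mem_Bup h2 (ne_of_lt hpq)
      show ((xsU σ₀ p q (ne_of_lt hpq) (1 : F) : GL (Fin n) F) : Matrix (Fin n) (Fin n) F) p q ≠ 0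
      rw [xsU_apply (ne_of_lt hpq) (ne_rev hn q), if_neg (ne_of_lt hpq),
        if_neg (fun h => hpq' h.1), if_pos ⟨rfl, rfl⟩, zero_add, zero_add]
      exact one_ne_zero
    · rw [Perm.sign_inv]
      exact sign_of_mem_NK hxN hτ
  have hτ2 : τ = 1 := by rw [← inv_inv τ, hτ1, inv_one]
  have hxB : x ∈ BK F n := by
    rw [mem_BK, hτ, monoGL_mem_Bup_iff]
    exact hτ2
  exact Subgroup.mul_mem _ (Subgroup.mul_mem _ hbB hxB) hb'B

variable [Fintype F] (p : ℕ) [Fact p.Prime] [CharP F p]

include hn in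
lemma not_dvd_index_BK : ¬ p ∣ (BK F n).index := by
  have hp : p.Prime := Fact.out
  have hmod := (isPGroup_UK (F := F) (n := n) p).card_modEq_card_fixedPoints
    (↥(SOQ F n) ⧸ BK F n)
  have hfix : Nat.card (MulAction.fixedPoints (UK F n) (↥(SOQ F n) ⧸ BK F n)) = 1 := by
    rw [Nat.card_eq_one_iff_unique]
    constructor
    · constructor
      rintro ⟨x, hx⟩ ⟨y, hy⟩
      apply Subtype.ext
      show x = y
      have hB : ∀ z : ↥(SOQ F n) ⧸ BK F n,
          z ∈ MulAction.fixedPoints (UK F n) (↥(SOQ F n) ⧸ BK F n) →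
          z = QuotientGroup.mk 1 := by
        intro z hz
        obtain ⟨g, rfl⟩ := QuotientGroup.mk_surjective z
        have hg : g ∈ BK F n := by
          apply mem_BK_of_conj_UK hn
          intro u hu
          have h1 := hz ⟨u⁻¹, (UK F n).inv_mem hu⟩
          have h2 : ((u⁻¹ * g : ↥(SOQ F n)) : ↥(SOQ F n) ⧸ BK F n) =
              (g : ↥(SOQ F n) ⧸ BK F n) := h1
          rw [QuotientGroup.eq] at h2
          have e : g⁻¹ * u * g = (u⁻¹ * g)⁻¹ * g := by group
          rw [e]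
          exact h2
        rw [QuotientGroup.eq, mul_one]
        exact Subgroup.inv_mem _ hg
      rw [hB x hx, hB y hy]
    · refine ⟨⟨QuotientGroup.mk 1, ?_⟩⟩
      intro u
      show (((u : ↥(SOQ F n)) * 1 : ↥(SOQ F n)) : ↥(SOQ F n) ⧸ BK F n) = _
      rw [QuotientGroup.eq, mul_one, mul_one]
      exact Subgroup.inv_mem _ (UK_le_BK u.2)
  rw [hfix] at hmod
  intro hdvd
  rw [Subgroup.index_eq_card] at hdvd
  have h0 : Nat.card (↥(SOQ F n) ⧸ BK F n) ≡ 0 [MOD p] := (Nat.modEq_zero_iff_dvd).mpr hdvd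
  have h1 : 1 ≡ 0 [MOD p] := hmod.symm.trans h0
  have := (Nat.modEq_zero_iff_dvd).mp h1
  exact hp.one_lt.ne' (Nat.dvd_one.mp this)

include hn in
theorem not_dvd_index_UK : ¬ p ∣ (UK F n).index := by
  have hp : p.Prime := Fact.out
  rw [← Subgroup.relIndex_mul_index (UK_le_BK (F := F) (n := n))]
  intro h
  rcases hp.dvd_mul.mp h with h1 | h1
  · exact not_dvd_relIndexK p h1
  · exact not_dvd_index_BK hn p h1

include hn in
/-- the order of the unitriangular group is the `p`-part of the order of the group -/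
theorem card_UK_eq : Nat.card (UK F n) = p ^ (Nat.card ↥(SOQ F n)).factorization p := by
  have h := Sylow.card_eq_multiplicity
    ((isPGroup_UK (F := F) (n := n) p).toSylow (not_dvd_index_UK hn p))
  rw [← h]
  exact Nat.card_congr (Equiv.setCongr (by rw [IsPGroup.toSylow_coe]))

end Cfsg.Agent.Lib.Helper15.DnBN
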