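import Mathlib
import Cfsg.Agent.Lib.Helper15.DnBNC
import Cfsg.Agent.Lib.Helper15.OrBND
import Cfsg.Agent.Lib.Helper6.GLStA

/-!
helper15: the orthogonal group `OQ F n` of the hyperbolic quadratic form: the upper unitriangular
subgroup is generated by root elements, and the root elements lie in the commutator subgroup
(if the field has more than two elements, or the dimension is at least six).
-/

set_option autoImplicit false

namespace Cfsg.Agent.Lib.Helper15.DnBN

open Matrix Equiv Cfsg Cfsg.Agent.Lib.Helper6.GLBN Cfsg.Agent.Lib.Helper6.GLSt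
  Cfsg.Agent.Lib.Helper15.UnBN
open Cfsg.Agent.Lib.Helper16.FusSU (adj adj_apply)

variable {n : ℕ} {F : Type*} [Field F]

local notation "σ₀" => RingHom.id F

/-! ### the unitriangular subgroup is generated by root elements -/

/-- the upper unitriangular subgroup of the orthogonal group -/
def UQ (F : Type*) [Field F] (n : ℕ) : Subgroup (GL (Fin n) F) where
  carrier := {g | g ∈ OQ F n ∧ g ∈ Bup n F ∧ ∀ i, (g : Matrix (Fin n) (Fin n) F) i i = 1}
  mul_mem' := by
    rintro a b ⟨ha0, ha, ha1⟩ ⟨hb0, hb, hb1⟩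
    refine ⟨Subgroup.mul_mem _ ha0 hb0, Subgroup.mul_mem _ ha hb, fun i => ?_⟩
    rw [Bup_mul_diag ha hb, ha1, hb1, mul_one]
  one_mem' := ⟨Subgroup.one_mem _, Subgroup.one_mem _, fun i => by simp⟩
  inv_mem' := by
    rintro a ⟨ha0, ha, ha1⟩
    refine ⟨Subgroup.inv_mem _ ha0, Subgroup.inv_mem _ ha, fun i => ?_⟩
    have := Bup_inv_diag ha i
    rw [ha1, mul_one] at this
    exact this

lemma mem_UQ {g : GL (Fin n) F} : g ∈ UQ F n ↔ g ∈ OQ F n ∧ g ∈ Bup n F ∧
    ∀ i, (g : Matrix (Fin n) (Fin n) F) i i = 1 := Iff.rfl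

/-- the upper root elements -/
def RootU (F : Type*) [Field F] (n : ℕ) : Set (GL (Fin n) F) :=
  {x | ∃ (p q : Fin n) (hlt : p < q), p ≠ q.rev ∧
    ∃ t : F, x = xsU (RingHom.id F) p q (ne_of_lt hlt) t}

lemma RootU_subset_UQ (hn : Even n) : RootU F n ⊆ (UQ F n : Set (GL (Fin n) F)) := by
  rintro x ⟨p, q, hlt, hpq', t, rfl⟩
  exact ⟨xsU_mem_OQ hn (ne_of_lt hlt) hpq' t, xsU_mem_Bup hlt t,
    fun i => Cfsg.Agent.Lib.Helper15.OrBN.xsU_diag (ne_of_lt hlt) (ne_rev hn q) t i⟩

lemma closure_RootU_le_UQ (hn : Even n) : Subgroup.closure (RootU F n) ≤ UQ F n := by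
  rw [Subgroup.closure_le]
  exact RootU_subset_UQ hn

/-- right multiplication by a root element -/
lemma mul_xsU_apply {p q : Fin n} (hpq : p ≠ q) (hq : q ≠ q.rev) (t : F)
    (A : Matrix (Fin n) (Fin n) F) (i c : Fin n) :
    (A * ((xsU σ₀ p q hpq t : GL (Fin n) F) : Matrix (Fin n) (Fin n) F)) i c =
      A i c + (if c = q then t * A i p else 0) + (if c = p.rev then -t * A i q.rev else 0) := by
  rw [coe_xsU, ← Matrix.mul_assoc, mul_transvection_apply', mul_transvection_apply',
    mul_transvection_apply', if_neg hq.symm, add_zero]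
  rfl

/-- the first `r` rows are those of the identity -/
def RowTriv (A : Matrix (Fin n) (Fin n) F) (r : ℕ) : Prop :=
  ∀ i j : Fin n, i.val < r → A i j = (1 : Matrix (Fin n) (Fin n) F) i j

/-- if the first rows of an orthogonal matrix are trivial, so are the last columns -/
lemma colTriv_of_rowTriv {g : GL (Fin n) F} (hg : g ∈ GUJ σ₀ n) {r : ℕ}
    (h : RowTriv (g : Matrix (Fin n) (Fin n) F) r) (a b : Fin n) (hb : b.rev.val < r) :
    (g : Matrix (Fin n) (Fin n) F) a b = (1 : Matrix (Fin n) (Fin n) F) a b := by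
  have hinv : ∀ l : Fin n, ((g⁻¹ : GL (Fin n) F) : Matrix (Fin n) (Fin n) F) l b =
      (1 : Matrix (Fin n) (Fin n) F) l b := by
    intro l
    rw [GUJ_inv_coe hg, adj_apply, h b.rev l.rev hb, Matrix.one_apply, Matrix.one_apply]
    simp only [RingHom.id_apply]
    by_cases e : l = b
    · rw [if_pos e, if_pos (by rw [e])]
    · rw [if_neg e, if_neg (fun e' => e (Fin.rev_injective e').symm)]
  have h1 : (g : Matrix (Fin n) (Fin n) F) a b =
      ((g : Matrix (Fin n) (Fin n) F) * ((g⁻¹ : GL (Fin n) F) : Matrix (Fin n) (Fin n) F)) a b := by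
    rw [Matrix.mul_apply, Finset.sum_eq_single b]
    · rw [hinv, Matrix.one_apply_eq, mul_one]
    · intro l _ hl
      rw [hinv, Matrix.one_apply_ne hl, mul_zero]
    · intro h'
      exact absurd (Finset.mem_univ _) h'
  rw [h1, ← Units.val_mul, mul_inv_cancel, Units.val_one]

/-- the entry at the mirror position of a row that is otherwise trivial vanishes -/
lemma rev_entry_zero (hn : Even n) {g : GL (Fin n) F} (hg : g ∈ OQ F n) {r : Fin n}
    (hr : r < r.rev) (h1 : (g : Matrix (Fin n) (Fin n) F) r r = 1)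
    (h0 : ∀ c : Fin n, c ≠ r → c ≠ r.rev → (g : Matrix (Fin n) (Fin n) F) r c = 0) :
    (g : Matrix (Fin n) (Fin n) F) r r.rev = 0 := by
  have hgi : g⁻¹ ∈ OQ F n := Subgroup.inv_mem _ hg
  have hcol := ((mem_OQ_iff hn).mp hgi).2 r.rev
  have hentry : ∀ i : Fin n, ((g⁻¹ : GL (Fin n) F) : Matrix (Fin n) (Fin n) F) i r.rev =
      (g : Matrix (Fin n) (Fin n) F) r i.rev := by
    intro i
    rw [GUJ_inv_coe (OQ_le_GUJ hn hg), adj_apply, Fin.rev_rev]
    rfl
  rw [Finset.sum_eq_single r] at hcol
  · rw [if_pos hr, hentry, hentry, Fin.rev_rev, h1, mul_one] at hcol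
    exact hcol
  · intro i _ hi
    split_ifs with hii
    · rw [hentry, hentry, Fin.rev_rev]
      by_cases e : i = r.rev
      · exfalso
        rw [e, Fin.rev_rev] at hii
        exact absurd hr (not_lt.mpr hii.le)
      · rw [h0 i hi e, mul_zero]
    · rfl
  · intro h'
    exact absurd (Finset.mem_univ _) h'

/-- clearing the row `r` between the diagonal and the mirror position -/
lemma clear_row (hn : Even n) {r : ℕ} (rr : Fin n) (hrr : rr.val = r) (hr2 : 2 * r + 2 ≤ n) :
    ∀ e J : ℕ, J + e = rr.rev.val → r < J → ∀ g ∈ UQ F n,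
      RowTriv (g : Matrix (Fin n) (Fin n) F) r →
      (∀ c : Fin n, rr < c → c.val < J → (g : Matrix (Fin n) (Fin n) F) rr c = 0) →
      ∃ y ∈ Subgroup.closure (RootU F n),
        RowTriv ((g * y : GL (Fin n) F) : Matrix (Fin n) (Fin n) F) (r + 1) := by
  have hv := Fin.val_rev rr
  have hlt : rr < rr.rev := by rw [Fin.lt_def]; omega
  intro e
  induction e with
  | zero =>
    intro J hJ hrJ g hg hT h0
    refine ⟨1, Subgroup.one_mem _, ?_⟩
    rw [mul_one]
    obtain ⟨hgO, hgB, hg1⟩ := hg
    have hrow : ∀ c : Fin n, c ≠ rr → c ≠ rr.rev →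
        (g : Matrix (Fin n) (Fin n) F) rr c = 0 := by
      intro c hc1 hc2
      rcases lt_or_gt_of_ne hc1 with h | h
      · exact (mem_Bup.mp hgB) rr c h
      · by_cases hcJ : c.val < J
        · exact h0 c h hcJ
        · have hvc := Fin.val_rev c
          have : c.val ≠ rr.rev.val := fun e' => hc2 (Fin.ext e')
          rw [colTriv_of_rowTriv (OQ_le_GUJ hn hgO) hT rr c (by omega),
            Matrix.one_apply_ne hc1.symm]
    have hrev := rev_entry_zero hn hgO hlt (hg1 rr) hrow
    intro i j hi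
    by_cases hir : i.val < r
    · exact hT i j hir
    · have : i = rr := Fin.ext (by omega)
      subst this
      rw [Matrix.one_apply]
      by_cases hij : i = j
      · rw [if_pos hij, ← hij]
        exact hg1 i
      · rw [if_neg hij]
        by_cases hj2 : j = i.rev
        · rw [hj2]
          exact hrev
        · exact hrow j (Ne.symm hij) hj2
  | succ e ih =>
    intro J hJ hrJ g hg hT h0
    have hJn : J < n := by omega
    set j : Fin n := ⟨J, hJn⟩ with hj
    have hjv : j.val = J := rfl
    have hrj : rr < j := by rw [Fin.lt_def]; omega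
    have hjr : j < rr.rev := by rw [Fin.lt_def]; omega
    have hvj := Fin.val_rev j
    have hne : rr ≠ j := ne_of_lt hrj
    have hne' : rr ≠ j.rev := by apply Fin.ne_of_val_ne; omega
    set t : F := -((g : Matrix (Fin n) (Fin n) F) rr j) with ht
    have hxR : xsU σ₀ rr j hne t ∈ RootU F n := ⟨rr, j, hrj, hne', t, rfl⟩
    have hxU : xsU σ₀ rr j hne t ∈ UQ F n := RootU_subset_UQ hn hxR
    obtain ⟨hgO, hgB, hg1⟩ := id hg
    have hentry : ∀ i c : Fin n,
        ((g * xsU σ₀ rr j hne t : GL (Fin n) F) : Matrix (Fin n) (Fin n) F) i c =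
          (g : Matrix (Fin n) (Fin n) F) i c +
            (if c = j then t * (g : Matrix (Fin n) (Fin n) F) i rr else 0) +
            (if c = rr.rev then -t * (g : Matrix (Fin n) (Fin n) F) i j.rev else 0) := by
      intro i c
      rw [Units.val_mul, mul_xsU_apply hne (ne_rev hn j)]
    obtain ⟨y, hy, hyT⟩ := ih (J + 1) (by omega) (by omega) (g * xsU σ₀ rr j hne t)
      (Subgroup.mul_mem _ hg hxU) (by
        intro i c hi
        rw [hentry, hT i c hi, hT i rr hi, hT i j.rev hi]
        have e1 : i ≠ rr := by apply Fin.ne_of_val_ne; omega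
        have e2 : i ≠ j.rev := by apply Fin.ne_of_val_ne; omega
        rw [Matrix.one_apply_ne e1, Matrix.one_apply_ne e2, mul_zero, mul_zero]
        simp) (by
        intro c hc hcJ
        rw [hentry, hg1 rr]
        have e3 : c ≠ rr.rev := by apply Fin.ne_of_val_ne; omega
        rw [if_neg e3, add_zero]
        by_cases hcj : c = j
        · rw [if_pos hcj, hcj, ht]
          ring
        · rw [if_neg hcj, add_zero]
          apply h0 c hc
          have : c.val ≠ J := fun e' => hcj (Fin.ext e')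
          omega)
    refine ⟨xsU σ₀ rr j hne t * y,
      Subgroup.mul_mem _ (Subgroup.subset_closure hxR) hy, ?_⟩
    rw [← mul_assoc]
    exact hyT

/-- the unitriangular subgroup is generated by the root elements -/
theorem UQ_le_closure (hn : Even n) : UQ F n ≤ Subgroup.closure (RootU F n) := by
  obtain ⟨m, hm⟩ := id hn
  have key : ∀ e r : ℕ, r + e = m → ∀ g ∈ UQ F n,
      RowTriv (g : Matrix (Fin n) (Fin n) F) r → g ∈ Subgroup.closure (RootU F n) := by
    intro e
    induction e with
    | zero =>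
      intro r hr g hg hT
      obtain ⟨hgO, hgB, hg1⟩ := hg
      have : g = 1 := by
        apply Units.ext
        ext i j
        rw [Units.val_one]
        by_cases hi : i.val < r
        · exact hT i j hi
        · by_cases hj : j.val < r
          · have hji : j < i := by rw [Fin.lt_def]; omega
            rw [(mem_Bup.mp hgB) i j hji, Matrix.one_apply_ne (ne_of_gt hji)]
          · apply colTriv_of_rowTriv (OQ_le_GUJ hn hgO) hT
            rw [Fin.val_rev]
            have := j.2
            omega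
      rw [this]
      exact Subgroup.one_mem _
    | succ e ih =>
      intro r hr g hg hT
      have hrn : r < n := by omega
      set rr : Fin n := ⟨r, hrn⟩ with hrr
      have hrrv : rr.val = r := rfl
      have hv := Fin.val_rev rr
      obtain ⟨y, hy, hyT⟩ := clear_row hn rr hrrv (by omega)
        (rr.rev.val - (r + 1)) (r + 1) (by omega) (by omega) g hg hT (by
          intro c hc hcJ
          rw [Fin.lt_def] at hc
          omega)
      have h1 := ih (r + 1) (by omega) (g * y)
        (Subgroup.mul_mem _ hg (closure_RootU_le_UQ hn hy)) hyT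
      have e' : g = (g * y) * y⁻¹ := by group
      rw [e']
      exact Subgroup.mul_mem _ h1 (Subgroup.inv_mem _ hy)
  intro g hg
  apply key m 0 (by omega) g hg
  intro i j hi
  exact absurd hi (Nat.not_lt_zero _)

/-! ### root elements in the commutator subgroup -/

/-- the hypothesis excluding the orthogonal groups `O_2^+(q)` and `O_4^+(2)` -/
def GoodD (F : Type*) [Field F] (n : ℕ) : Prop := (∃ a : F, a ≠ 0 ∧ a ≠ 1) ∨ 6 ≤ n

/-- the root elements, as elements of the orthogonal group -/
def Xr (hn : Even n) (p q : Fin n) (hpq : p ≠ q) (hpq' : p ≠ q.rev) (t : F) : ↥(OQ F n) :=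
  ⟨xsU σ₀ p q hpq t, xsU_mem_OQ hn hpq hpq' t⟩

lemma mem_commutator_of_eq {G : Type*} [Group G] {x a b : G} (h : x = a * b * a⁻¹ * b⁻¹) :
    x ∈ commutator G := by
  rw [h, commutator_def]
  exact Subgroup.commutator_mem_commutator (Subgroup.mem_top a) (Subgroup.mem_top b)

theorem Xr_mem_commutator (hn : Even n) (hgood : GoodD F n) {p q : Fin n} (hpq : p ≠ q)
    (hpq' : p ≠ q.rev) (t : F) : Xr hn p q hpq hpq' t ∈ commutator ↥(OQ F n) := by
  have hp := ne_rev hn p
  have hq := ne_rev hn q
  rcases hgood with ⟨a, ha0, ha1⟩ | h6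
  · -- a torus element acting non-trivially on the root group
    set ua : Fˣ := Units.mk0 a ha0 with hua
    set d : Fin n → Fˣ := fun j => if j = p then ua else if j = p.rev then ua⁻¹ else 1 with hd
    have hdp : d p = ua := by simp only [hd, if_pos]
    have hdq : d q = 1 := by
      simp only [hd]
      rw [if_neg (Ne.symm hpq), if_neg]
      intro e
      exact hpq' (by rw [e, Fin.rev_rev])
    have hdd : ∀ x : Fin n, ((d x : Fˣ) : F) * ((d x.rev : Fˣ) : F) = 1 := by
      intro x
      rw [← Units.val_mul, ← Units.val_one]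
      congr 1
      simp only [hd]
      by_cases c1 : x = p
      · rw [if_pos c1, c1, if_neg (Ne.symm hp), if_pos rfl, mul_inv_cancel]
      · rw [if_neg c1]
        by_cases c2 : x = p.rev
        · rw [if_pos c2, c2, Fin.rev_rev, if_pos rfl, inv_mul_cancel]
        · rw [if_neg c2, if_neg (fun e => c2 (by rw [← e, Fin.rev_rev])),
            if_neg (fun e => c1 (Fin.rev_injective e)), mul_one]
    have hhO : (monoGL 1 d : GL (Fin n) F) ∈ OQ F n := by
      rw [monoGL_mem_OQ_iff hn]
      exact ⟨fun _ => rfl, hdd⟩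
    have ha1' : a - 1 ≠ 0 := sub_ne_zero.mpr ha1
    set u : F := t / (a - 1) with hu
    have hconj := Cfsg.Agent.Lib.Helper15.UnGen.monoGL_conj_xsU' (σ := σ₀) (1 : Perm (Fin n)) d
      (fun _ => rfl) hdd p q hpq u
    apply mem_commutator_of_eq (a := (⟨monoGL 1 d, hhO⟩ : ↥(OQ F n)))
      (b := Xr hn p q hpq hpq' u)
    apply Subtype.ext
    show xsU σ₀ p q hpq t = monoGL 1 d * xsU σ₀ p q hpq u * (monoGL 1 d)⁻¹ *
      (xsU σ₀ p q hpq u)⁻¹
    rw [hconj, xsU_inv hpq hp hq]
    have e1 : xsU σ₀ ((1 : Perm (Fin n)) p) ((1 : Perm (Fin n)) q)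
        ((1 : Perm (Fin n)).injective.ne hpq) (u * ((d p : Fˣ) : F) / ((d q : Fˣ) : F)) =
        xsU σ₀ p q hpq (u * a) := by
      apply xsU_congr _ _ rfl rfl
      rw [hdp, hdq, Units.val_one, div_one]
      rfl
    rw [e1, xsU_mul hpq hp hq]
    apply xsU_congr _ _ rfl rfl
    rw [hu]
    field_simp
    ring
  · -- a third index
    have hex : ∃ r : Fin n, r ≠ p ∧ r ≠ p.rev ∧ r ≠ q ∧ r ≠ q.rev := by
      by_contra hcon
      have hall : ∀ r : Fin n, r ∈ ({p, p.rev, q, q.rev} : Finset (Fin n)) := by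
        intro r
        by_contra hr
        apply hcon
        simp only [Finset.mem_insert, Finset.mem_singleton, not_or] at hr
        exact ⟨r, hr.1, hr.2.1, hr.2.2.1, hr.2.2.2⟩
      have hcard : Fintype.card (Fin n) ≤ ({p, p.rev, q, q.rev} : Finset (Fin n)).card := by
        rw [← Finset.card_univ]
        apply Finset.card_le_card
        intro r _
        exact hall r
      have h4 : ({p, p.rev, q, q.rev} : Finset (Fin n)).card ≤ 4 := Finset.card_le_four
      rw [Fintype.card_fin] at hcard
      omega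
    obtain ⟨r, hr1, hr2, hr3, hr4⟩ := hex
    have hrr := ne_rev hn r
    have hpr : p ≠ r := Ne.symm hr1
    have hpr' : p ≠ r.rev := fun e => hr2 (by rw [e, Fin.rev_rev])
    have hrq' : r ≠ q.rev := hr4
    have hrel := Cfsg.Agent.Lib.Helper15.UnGen.xsU_comm_rel (σ := σ₀) hpr hpq hr3 hp hrr hq
      hpr' hpq' hrq' t 1
    apply mem_commutator_of_eq (a := Xr hn p r hpr hpr' t) (b := Xr hn r q hr3 hrq' 1)
    apply Subtype.ext
    show xsU σ₀ p q hpq t = xsU σ₀ p r hpr t * xsU σ₀ r q hr3 1 * (xsU σ₀ p r hpr t)⁻¹ *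
      (xsU σ₀ r q hr3 1)⁻¹
    rw [hrel, mul_one]
    group

end Cfsg.Agent.Lib.Helper15.DnBN
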