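import Mathlib
import Cfsg.Agent.Lib.Helper15.DnBNF
import Cfsg.Agent.Lib.Helper15.DnBNG
import Cfsg.Agent.Lib.Helper15.DnBNH
import Cfsg.Agent.Lib.Helper15.UnBNL

/-!
helper15: the commutator subgroup `Ω` of the orthogonal group `OQ F n` of the hyperbolic quadratic
form inside the group `SOQ F n` with the (B,N)-pair of type `D`: `SOQ = Ω T`, the central elements
of `Ω` are scalar, and the restriction of the Steinberg function to `Ω` is an irreducible character
which factors through the central quotient.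
-/

set_option autoImplicit false

namespace Cfsg.Agent.Lib.Helper15.DnBN

open Matrix Equiv Cfsg Cfsg.Agent.Lib.Helper3.BN Cfsg.Agent.Lib.Helper6.BNSt
  Cfsg.Agent.Lib.Helper6.GLBN Cfsg.Agent.Lib.Helper6.GLSt Cfsg.Agent.Lib.Helper15.UnBN

open scoped Pointwise

variable {n : ℕ} {F : Type*} [Field F]

local notation "σ₀" => RingHom.id F

/-- the inclusion of the commutator subgroup of the orthogonal group into `SOQ` -/
def omToSO (F : Type*) [Field F] (n : ℕ) (hn : Even n) (hn0 : 0 < n) :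
    ↥(commutator ↥(OQ F n)) →* ↥(SOQ F n) where
  toFun h := ⟨((h : ↥(OQ F n)) : GL (Fin n) F),
    Subgroup.mem_subgroupOf.mp (commutator_le_SOQ hn hn0 h.2)⟩
  map_one' := rfl
  map_mul' _ _ := rfl

lemma omToSO_injective (hn : Even n) (hn0 : 0 < n) : Function.Injective (omToSO F n hn hn0) := by
  intro a b h
  have : ((a : ↥(OQ F n)) : GL (Fin n) F) = ((b : ↥(OQ F n)) : GL (Fin n) F) :=
    congrArg (fun x : ↥(SOQ F n) => (x : GL (Fin n) F)) h
  exact Subtype.ext (Subtype.ext this)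

lemma coe_omToSO (hn : Even n) (hn0 : 0 < n) (h : ↥(commutator ↥(OQ F n))) :
    ((omToSO F n hn hn0 h : ↥(SOQ F n)) : GL (Fin n) F) = ((h : ↥(OQ F n)) : GL (Fin n) F) := rfl

/-! ### the unitriangular elements lie in the commutator subgroup -/

theorem UQ_mem_commutator (hn : Even n) (hgood : GoodD F n) {u : GL (Fin n) F}
    (hu : u ∈ UQ F n) : (⟨u, hu.1⟩ : ↥(OQ F n)) ∈ commutator ↥(OQ F n) := by
  have key : Subgroup.closure (RootU F n) ≤
      (commutator ↥(OQ F n)).map (OQ F n).subtype := by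
    rw [Subgroup.closure_le]
    rintro x ⟨p, q, hlt, hpq', t, rfl⟩
    exact ⟨Xr hn p q (ne_of_lt hlt) hpq' t, Xr_mem_commutator hn hgood _ _ t, rfl⟩
  obtain ⟨g', hg', he⟩ := key (UQ_le_closure hn hu)
  have : g' = ⟨u, hu.1⟩ := Subtype.ext he
  rw [← this]
  exact hg'

/-- the Borel subgroup is the product of the unitriangular group and the torus -/
lemma exists_UQ_mul_TQ (hn : Even n) {b : GL (Fin n) F} (hb : b ∈ BQ F n) :
    ∃ u ∈ UQ F n, ∃ d ∈ TQ F n, b = u * d := by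
  obtain ⟨u, hu, d, hd, h⟩ := exists_UK_mul_TK hn (b := ⟨b, BQ_le_SOQ hb⟩) (mem_BK.mpr hb.1)
  refine ⟨u, ⟨coe_mem_OQ hn u, hu.1, hu.2⟩, d, ⟨mem_TK.mp hd, coe_mem_OQ hn d⟩, ?_⟩
  exact congrArg (fun x : ↥(SOQ F n) => (x : GL (Fin n) F)) h

/-- `SOQ` lies in the product of the commutator subgroup and the torus -/
theorem SOQ_le_map (hn : Even n) (hgood : GoodD F n) :
    SOQ F n ≤ (commutator ↥(OQ F n) ⊔ (TQ F n).subgroupOf (OQ F n)).map (OQ F n).subtype := by
  have hB : BQ F n ≤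
      (commutator ↥(OQ F n) ⊔ (TQ F n).subgroupOf (OQ F n)).map (OQ F n).subtype := by
    intro b hb
    obtain ⟨u, hu, d, hd, rfl⟩ := exists_UQ_mul_TQ hn hb
    refine ⟨⟨u, hu.1⟩ * ⟨d, hd.2⟩, ?_, rfl⟩
    exact Subgroup.mul_mem _ (Subgroup.mem_sup_left (UQ_mem_commutator hn hgood hu))
      (Subgroup.mem_sup_right (Subgroup.mem_subgroupOf.mpr hd))
  apply sup_le hB
  apply sup_le
  · rw [Subgroup.closure_le]
    rintro s ⟨k, k', h, rfl⟩
    obtain ⟨h1, h2, h3, h4, h5, h6⟩ := simple_idx h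
    have hr := simple_rank_one (F := F) hn h h1 (one_ne_zero)
    have hsO : (sS k k' : GL (Fin n) F) ∈ OQ F n := sS_mem_OQ hn h1 h2
    have hxO := xsU_mem_OQ (F := F) hn h1 h2 1
    have hyO := xsU_mem_OQ (F := F) hn h1.symm h5 (-(1 : F)⁻¹)
    have hbB : sS k k' * xsU σ₀ k k' h1 1 * xsU σ₀ k' k h1.symm (-(1 : F)⁻¹) ∈ BQ F n :=
      ⟨hr, Subgroup.mul_mem _ (Subgroup.mul_mem _ hsO hxO) hyO⟩
    have hx : xsU σ₀ k k' h1 (1 : F) ∈
        (commutator ↥(OQ F n) ⊔ (TQ F n).subgroupOf (OQ F n)).map (OQ F n).subtype :=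
      ⟨Xr hn k k' h1 h2 1, Subgroup.mem_sup_left (Xr_mem_commutator hn hgood _ _ _), rfl⟩
    have hy : xsU σ₀ k' k h1.symm (-(1 : F)⁻¹) ∈
        (commutator ↥(OQ F n) ⊔ (TQ F n).subgroupOf (OQ F n)).map (OQ F n).subtype :=
      ⟨Xr hn k' k h1.symm h5 _, Subgroup.mem_sup_left (Xr_mem_commutator hn hgood _ _ _), rfl⟩
    have e : (sS k k' : GL (Fin n) F) =
        (sS k k' * xsU σ₀ k k' h1 1 * xsU σ₀ k' k h1.symm (-(1 : F)⁻¹)) *
          (xsU σ₀ k' k h1.symm (-(1 : F)⁻¹))⁻¹ * (xsU σ₀ k k' h1 1)⁻¹ := by group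
    rw [SetLike.mem_coe, e]
    exact Subgroup.mul_mem _ (Subgroup.mul_mem _ (hB hbB) (Subgroup.inv_mem _ hy))
      (Subgroup.inv_mem _ hx)
  · intro t ht
    exact ⟨⟨t, ht.2⟩, Subgroup.mem_sup_right (Subgroup.mem_subgroupOf.mpr ht), rfl⟩

/-- elementwise form -/
theorem exists_commutator_mul_torus (hn : Even n) (hn0 : 0 < n) (hgood : GoodD F n)
    (g : ↥(SOQ F n)) :
    ∃ h : ↥(commutator ↥(OQ F n)), ∃ t ∈ BK F n ⊓ NK F n, g = omToSO F n hn hn0 h * t := by
  obtain ⟨g', hg', he⟩ := SOQ_le_map hn hgood g.2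
  have hset : ((commutator ↥(OQ F n) ⊔ (TQ F n).subgroupOf (OQ F n) : Subgroup ↥(OQ F n)) :
      Set ↥(OQ F n)) = (commutator ↥(OQ F n) : Set ↥(OQ F n)) *
        ((TQ F n).subgroupOf (OQ F n) : Set ↥(OQ F n)) := Subgroup.normal_mul _ _
  have hg'' : g' ∈ (commutator ↥(OQ F n) : Set ↥(OQ F n)) *
      ((TQ F n).subgroupOf (OQ F n) : Set ↥(OQ F n)) := by
    rw [← hset]
    exact hg'
  obtain ⟨ω, hω, t, ht, rfl⟩ := Set.mem_mul.mp hg''
  have htT : (t : GL (Fin n) F) ∈ TQ F n := Subgroup.mem_subgroupOf.mp ht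
  refine ⟨⟨ω, hω⟩, ⟨(t : GL (Fin n) F), TQ_le_SOQ htT⟩, ?_, ?_⟩
  · rw [BK_inf_NK, mem_TK]
    exact htT.1
  · apply Subtype.ext
    exact he.symm

/-! ### the centre of the commutator subgroup -/

lemma exists_ne_three (hn4 : 4 ≤ n) (a b c : Fin n) : ∃ q : Fin n, q ≠ a ∧ q ≠ b ∧ q ≠ c := by
  by_contra hcon
  have hall : ∀ r : Fin n, r ∈ ({a, b, c} : Finset (Fin n)) := by
    intro r
    by_contra hr
    apply hcon
    simp only [Finset.mem_insert, Finset.mem_singleton, not_or] at hr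
    exact ⟨r, hr.1, hr.2.1, hr.2.2⟩
  have hcard : Fintype.card (Fin n) ≤ ({a, b, c} : Finset (Fin n)).card := by
    rw [← Finset.card_univ]
    apply Finset.card_le_card
    intro r _
    exact hall r
  have h3 : ({a, b, c} : Finset (Fin n)).card ≤ 3 := Finset.card_le_three
  rw [Fintype.card_fin] at hcard
  omega

/-- a matrix commuting with all root elements is scalar -/
lemma scalar_of_comm_roots (hn : Even n) (hn4 : 4 ≤ n) {Z : Matrix (Fin n) (Fin n) F}
    (h : ∀ (p q : Fin n) (hpq : p ≠ q), p ≠ q.rev →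
      Z * ((xsU σ₀ p q hpq 1 : GL (Fin n) F) : Matrix (Fin n) (Fin n) F) =
        ((xsU σ₀ p q hpq 1 : GL (Fin n) F) : Matrix (Fin n) (Fin n) F) * Z) :
    ∃ c : F, Z = c • 1 := by
  have hentry : ∀ (p q : Fin n) (hpq : p ≠ q), p ≠ q.rev → ∀ i c : Fin n,
      Z i c + (if c = q then 1 * Z i p else 0) + (if c = p.rev then -1 * Z i q.rev else 0) =
        Z i c + (if i = q.rev then -σ₀ 1 * Z p.rev c else 0) + (if i = p then 1 * Z q c else 0) := by
    intro p q hpq hpq' i c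
    have := congrFun (congrFun (h p q hpq hpq') i) c
    rw [mul_xsU_apply hpq (ne_rev hn q), xsU_mul_apply hpq (ne_rev hn q)] at this
    exact this
  have hoff : ∀ i p : Fin n, i ≠ p → Z i p = 0 := by
    intro i p hip
    obtain ⟨q, hq1, hq2, hq3⟩ := exists_ne_three hn4 p p.rev i.rev
    have hpq : p ≠ q := Ne.symm hq1
    have hpq' : p ≠ q.rev := fun e => hq2 (by rw [e, Fin.rev_rev])
    have := hentry p q hpq hpq' i q
    rw [if_pos rfl, if_neg hq2, if_neg (fun e : i = q.rev => hq3 (by rw [e, Fin.rev_rev])),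
      if_neg hip] at this
    linear_combination this
  have hdiag : ∀ p q : Fin n, p ≠ q → p ≠ q.rev → Z p p = Z q q := by
    intro p q hpq hpq'
    have := hentry p q hpq hpq' p q
    rw [if_pos rfl, if_neg (fun e : q = p.rev => hpq' (by rw [e, Fin.rev_rev])),
      if_neg hpq', if_pos rfl] at this
    linear_combination this
  have hn0 : 0 < n := by omega
  set o : Fin n := ⟨0, hn0⟩ with ho
  have hall : ∀ i : Fin n, Z i i = Z o o := by
    intro i
    by_cases h1 : i = o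
    · rw [h1]
    · by_cases h2 : i = o.rev
      · obtain ⟨r, hr1, hr2, -⟩ := exists_ne_three hn4 o o.rev o
        have e1 : Z o o = Z r r :=
          hdiag o r (Ne.symm hr1) (fun e => hr2 (by rw [e, Fin.rev_rev]))
        have e2 : Z i i = Z r r := by
          apply hdiag i r
          · rw [h2]; exact Ne.symm hr2
          · rw [h2]
            intro e
            exact hr1 (Fin.rev_injective e).symm
        rw [e1, e2]
      · exact (hdiag o i (Ne.symm h1) (fun e => h2 (by rw [e, Fin.rev_rev]))).symm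
  refine ⟨Z o o, ?_⟩
  ext i j
  rw [Matrix.smul_apply, Matrix.one_apply, smul_eq_mul]
  by_cases hij : i = j
  · subst hij
    rw [if_pos rfl, mul_one]
    exact hall i
  · rw [if_neg hij, mul_zero]
    exact hoff i j hij

/-- the elements of the centre of the commutator subgroup are scalar matrices -/
theorem center_scalar (hn : Even n) (hn4 : 4 ≤ n) (hgood : GoodD F n)
    {z : ↥(commutator ↥(OQ F n))} (hz : z ∈ Subgroup.center ↥(commutator ↥(OQ F n))) :
    ∃ c : F, (((z : ↥(OQ F n)) : GL (Fin n) F) : Matrix (Fin n) (Fin n) F) = c • 1 := by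
  apply scalar_of_comm_roots hn hn4
  intro p q hpq hpq'
  have hX := Xr_mem_commutator hn hgood hpq hpq' (1 : F)
  have := (Subgroup.mem_center_iff.mp hz) ⟨Xr hn p q hpq hpq' 1, hX⟩
  have h1 := congrArg (fun w : ↥(commutator ↥(OQ F n)) =>
    (((w : ↥(OQ F n)) : GL (Fin n) F) : Matrix (Fin n) (Fin n) F)) this
  exact h1.symm

end Cfsg.Agent.Lib.Helper15.DnBN
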