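import Mathlib
import Cfsg.Agent.Lib.Helper15.DnBNI

/-!
helper15: the Steinberg character of the central quotient of the commutator subgroup of the
orthogonal group `OQ F n` of the hyperbolic quadratic form (`n ≥ 4` even, excluding `O_4^+(2)`),
transported along an isomorphism.
-/

set_option autoImplicit false

namespace Cfsg.Agent.Lib.Helper15.DnBN

open Matrix Equiv Cfsg Cfsg.Agent.Lib.Helper3.BN Cfsg.Agent.Lib.Helper6.BNSt
  Cfsg.Agent.Lib.Helper6.GLBN Cfsg.Agent.Lib.Helper6.GLSt Cfsg.Agent.Lib.Helper15.UnBN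

variable {n : ℕ} {F : Type*} [Field F] [Fintype F]

local notation "σ₀" => RingHom.id F

instance instFiniteOQ : Finite ↥(OQ F n) := by
  have : Finite (GL (Fin n) F) :=
    Finite.of_injective (fun g : GL (Fin n) F =>
      (g : Matrix (Fin n) (Fin n) F)) Units.val_injective
  infer_instance

/-- the restriction of the Steinberg function to the commutator subgroup -/
noncomputable def stOmD (F : Type*) [Field F] [Fintype F] (n : ℕ) (hn : Even n) (hn0 : 0 < n) :
    ↥(commutator ↥(OQ F n)) → ℂ :=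
  fun h => stD F n hn (omToSO F n hn hn0 h)

variable (hn : Even n) (hn0 : 0 < n)

theorem isIrrCharacter_stOmD (hgood : GoodD F n) :
    IsIrrCharacter ↥(commutator ↥(OQ F n)) (stOmD F n hn hn0) := by
  classical
  have : Fintype ↥(SOQ F n) := Fintype.ofFinite _
  have : Fintype ↥(commutator ↥(OQ F n)) := Fintype.ofFinite _
  have hnorm : (commutator ↥(OQ F n)).Normal := inferInstance
  refine isIrrCharacter_stFun_hom (dnBN F n hn) (omToSO F n hn hn0) ?_
    (exists_commutator_mul_torus hn hn0 hgood) (SfinD F n) (coe_SfinD hn)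
  intro g h
  refine ⟨⟨⟨(g : GL (Fin n) F), coe_mem_OQ hn g⟩ * (h : ↥(OQ F n)) *
    ⟨(g : GL (Fin n) F), coe_mem_OQ hn g⟩⁻¹, hnorm.conj_mem _ h.2 _⟩, ?_⟩
  apply Subtype.ext
  rfl

/-- the restricted Steinberg function is constant on the centre -/
theorem stOmD_center (hn4 : 4 ≤ n) (hgood : GoodD F n)
    {z : ↥(commutator ↥(OQ F n))} (hz : z ∈ Subgroup.center ↥(commutator ↥(OQ F n))) :
    stOmD F n hn hn0 z = stOmD F n hn hn0 1 := by
  obtain ⟨c, hc⟩ := center_scalar hn hn4 hgood hz
  unfold stOmD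
  rw [map_one]
  unfold stD
  apply stFun_central
  · rw [Subgroup.mem_center_iff]
    intro x
    apply Subtype.ext
    apply Units.ext
    show ((x : GL (Fin n) F) : Matrix (Fin n) (Fin n) F) *
      (((z : ↥(OQ F n)) : GL (Fin n) F) : Matrix (Fin n) (Fin n) F) =
      (((z : ↥(OQ F n)) : GL (Fin n) F) : Matrix (Fin n) (Fin n) F) *
        ((x : GL (Fin n) F) : Matrix (Fin n) (Fin n) F)
    rw [hc, Matrix.mul_smul, Matrix.smul_mul, Matrix.mul_one, Matrix.one_mul]
  · show omToSO F n hn hn0 z ∈ BK F n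
    rw [mem_BK, mem_Bup]
    intro i j hji
    rw [coe_omToSO, hc, Matrix.smul_apply, Matrix.one_apply_ne (ne_of_gt hji), smul_zero]

omit [Fintype F] in
/-- a unitriangular element of the centre of the commutator subgroup is trivial -/
lemma eq_one_of_mem_center_of_mem_UK (hn4 : 4 ≤ n) (hgood : GoodD F n)
    {z : ↥(commutator ↥(OQ F n))} (hz : z ∈ Subgroup.center ↥(commutator ↥(OQ F n)))
    (hu : omToSO F n hn hn0 z ∈ UK F n) : z = 1 := by
  obtain ⟨c, hc⟩ := center_scalar hn hn4 hgood hz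
  have h1 := hu.2 ⟨0, hn0⟩
  rw [coe_omToSO, hc, Matrix.smul_apply, Matrix.one_apply_eq, smul_eq_mul, mul_one] at h1
  rw [h1, one_smul] at hc
  apply Subtype.ext
  apply Subtype.ext
  apply Units.ext
  exact hc

/-- the Steinberg character of (any group isomorphic to) the central quotient of the commutator
subgroup of the orthogonal group of the hyperbolic quadratic form -/
theorem steinberg_plus {G' : Type*} [Group G'] (p : ℕ) [Fact p.Prime] [CharP F p]
    (hn : Even n) (hn0 : 0 < n) (hn4 : 4 ≤ n) (hgood : GoodD F n)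
    (e : (↥(commutator ↥(OQ F n)) ⧸ Subgroup.center ↥(commutator ↥(OQ F n))) ≃* G') :
    ∃ χ : G' → ℂ, IsIrrCharacter G' χ ∧ ∀ P : Sylow p G', χ 1 = Nat.card P ∧
      ∀ x : G', x ∈ P → x ≠ 1 → χ x = 0 := by
  classical
  have hp : p.Prime := Fact.out
  obtain ⟨χ₁, hχ₁, hχ₁θ⟩ := Cfsg.Agent.Lib.Helper13.exists_deflate
    (Subgroup.center ↥(commutator ↥(OQ F n))) (isIrrCharacter_stOmD hn hn0 hgood)
    (fun z hz => stOmD_center hn hn0 hn4 hgood hz)
  set φ := omToSO F n hn hn0 with hφ
  have hφinj : Function.Injective φ := omToSO_injective hn hn0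
  set UΩ : Subgroup ↥(commutator ↥(OQ F n)) := (UK F n).comap φ with hUΩ
  -- the unitriangular group lies in the image
  have hsurjU : ∀ u ∈ UK F n, ∃ ω : ↥(commutator ↥(OQ F n)), φ ω = u := by
    intro u hu
    have huQ : (u : GL (Fin n) F) ∈ UQ F n := ⟨coe_mem_OQ hn u, hu.1, hu.2⟩
    exact ⟨⟨⟨(u : GL (Fin n) F), huQ.1⟩, UQ_mem_commutator hn hgood huQ⟩, Subtype.ext rfl⟩
  have hcard1 : Nat.card UΩ = Nat.card (UK F n) := by
    let ψ : UΩ → UK F n := fun u => ⟨φ u.1, u.2⟩
    apply Nat.card_congr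
    refine Equiv.ofBijective ψ ⟨?_, ?_⟩
    · intro a b h
      have h' : φ a.1 = φ b.1 := congrArg Subtype.val h
      exact Subtype.ext (hφinj h')
    · rintro ⟨u, hu⟩
      obtain ⟨ω, hω⟩ := hsurjU u hu
      refine ⟨⟨ω, ?_⟩, Subtype.ext hω⟩
      show φ ω ∈ UK F n
      rw [hω]
      exact hu
  have hcardU := card_UK_eq (F := F) (n := n) hn p
  -- the `p`-parts of the orders of `SOQ` and of the commutator subgroup agree
  have hfac : (Nat.card ↥(commutator ↥(OQ F n))).factorization p =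
      (Nat.card ↥(SOQ F n)).factorization p := by
    have hG0 : Nat.card ↥(SOQ F n) ≠ 0 := Nat.card_pos.ne'
    have hΩ0 : Nat.card ↥(commutator ↥(OQ F n)) ≠ 0 := Nat.card_pos.ne'
    apply le_antisymm
    · exact (Nat.factorization_le_iff_dvd hΩ0 hG0).mpr
        (Subgroup.card_dvd_of_injective φ hφinj) p
    · have h1 : Nat.card UΩ ∣ Nat.card ↥(commutator ↥(OQ F n)) :=
        Subgroup.card_subgroup_dvd_card _
      rw [hcard1, hcardU] at h1
      exact (hp.pow_dvd_iff_le_factorization hΩ0).mp h1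
  have hcardΩ : Nat.card UΩ = p ^ (Nat.card ↥(commutator ↥(OQ F n))).factorization p := by
    rw [hcard1, hcardU, hfac]
  have hsurj : Function.Surjective
      (QuotientGroup.mk' (Subgroup.center ↥(commutator ↥(OQ F n)))) :=
    QuotientGroup.mk'_surjective _
  set P₁ : Sylow p ↥(commutator ↥(OQ F n)) := Sylow.ofCard UΩ hcardΩ with hP₁
  set P₀ := P₁.mapSurjective hsurj with hP₀
  set Ub : Subgroup (↥(commutator ↥(OQ F n)) ⧸ Subgroup.center ↥(commutator ↥(OQ F n))) :=
    UΩ.map (QuotientGroup.mk' (Subgroup.center ↥(commutator ↥(OQ F n)))) with hUb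
  have hP₀coe : (P₀ : Subgroup _) = Ub := by
    rw [hP₀, Sylow.coe_mapSurjective]
    rfl
  have hUbcard : Nat.card Ub = p ^ (Nat.card (↥(commutator ↥(OQ F n)) ⧸
      Subgroup.center ↥(commutator ↥(OQ F n)))).factorization p := by
    rw [← hP₀coe]
    exact Sylow.card_eq_multiplicity P₀
  -- the quotient map is injective on the unitriangular group
  have hinj : ∀ u ∈ UΩ, (QuotientGroup.mk' (Subgroup.center ↥(commutator ↥(OQ F n)))) u = 1 →
      u = 1 := by
    intro u hu h1
    have hz : u ∈ Subgroup.center ↥(commutator ↥(OQ F n)) := by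
      rw [← QuotientGroup.ker_mk' (Subgroup.center ↥(commutator ↥(OQ F n)))]
      exact h1
    exact eq_one_of_mem_center_of_mem_UK hn hn0 hn4 hgood hz hu
  have hcard2 : Nat.card Ub = Nat.card UΩ := by
    symm
    let ψ : UΩ → Ub := fun u => ⟨(QuotientGroup.mk' _) u.1, Subgroup.mem_map_of_mem _ u.2⟩
    apply Nat.card_congr
    refine Equiv.ofBijective ψ ⟨?_, ?_⟩
    · intro u u' h
      have h' : (QuotientGroup.mk' (Subgroup.center ↥(commutator ↥(OQ F n)))) u.1 =
          (QuotientGroup.mk' _) u'.1 := congrArg Subtype.val h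
      have h'' : (QuotientGroup.mk' (Subgroup.center ↥(commutator ↥(OQ F n))))
          (u.1⁻¹ * u'.1) = 1 := by
        rw [map_mul, map_inv, h', inv_mul_cancel]
      have := hinj _ (UΩ.mul_mem (UΩ.inv_mem u.2) u'.2) h''
      apply Subtype.ext
      exact inv_mul_eq_one.mp this
    · rintro ⟨x, hx⟩
      obtain ⟨u, hu, rfl⟩ := Subgroup.mem_map.mp hx
      exact ⟨⟨u, hu⟩, rfl⟩
  apply Cfsg.Agent.Lib.Helper15.UnBN.steinberg_transfer e p Ub hUbcard hχ₁
  · have := hχ₁θ 1
    rw [QuotientGroup.mk_one] at this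
    rw [this, hcard2, hcard1]
    unfold stOmD
    rw [map_one, stD_one]
  · intro x hx hx1
    obtain ⟨u, hu, rfl⟩ := Subgroup.mem_map.mp hx
    have : (QuotientGroup.mk' (Subgroup.center ↥(commutator ↥(OQ F n)))) u =
        ((u : ↥(commutator ↥(OQ F n))) : _ ⧸ _) := rfl
    rw [this, hχ₁θ]
    unfold stOmD
    apply stD_unipotent hn hu
    intro h
    apply hx1
    have hu1 : u = 1 := by
      apply hφinj
      rw [map_one]
      exact h
    rw [hu1, map_one]

end Cfsg.Agent.Lib.Helper15.DnBN
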