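import Mathlib

/-!
helper15: an isomorphism of groups induces an isomorphism of the central quotients of the
commutator subgroups (same construction as helper18's `OrthIso.pcEquiv`, restated here to keep the
imports light).
-/

set_option autoImplicit false

namespace Cfsg.Agent.Lib.Helper15.OrBN

variable {G H : Type*} [Group G] [Group H]

theorem map_commutator_mulEquiv (e : G ≃* H) :
    (commutator G).map e.toMonoidHom = commutator H := by
  rw [commutator_def, Subgroup.map_commutator, ← MonoidHom.range_eq_map,
    MonoidHom.range_eq_top.2 e.surjective, commutator_def]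

/-- an isomorphism restricts to the commutator subgroups -/
noncomputable def commutatorMulEquiv (e : G ≃* H) : ↥(commutator G) ≃* ↥(commutator H) :=
  (e.subgroupMap (commutator G)).trans (MulEquiv.subgroupCongr (map_commutator_mulEquiv e))

theorem map_center_mulEquiv (e : G ≃* H) :
    (Subgroup.center G).map e.toMonoidHom = Subgroup.center H := by
  ext y
  constructor
  · rintro ⟨x, hx, rfl⟩
    have hx' : x ∈ Subgroup.center G := hx
    rw [Subgroup.mem_center_iff] at hx' ⊢
    intro h
    obtain ⟨g, rfl⟩ := e.surjective h
    show e g * e x = e x * e g
    rw [← map_mul, ← map_mul, hx' g]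
  · intro hy
    refine ⟨e.symm y, ?_, e.apply_symm_apply y⟩
    show e.symm y ∈ Subgroup.center G
    rw [Subgroup.mem_center_iff] at hy ⊢
    intro g
    apply e.injective
    rw [map_mul, map_mul, e.apply_symm_apply]
    exact hy (e g)

/-- an isomorphism induces an isomorphism of the central quotients of the commutator
subgroups -/
noncomputable def centralQuotientCommutatorEquiv (e : G ≃* H) :
    (↥(commutator G) ⧸ Subgroup.center ↥(commutator G)) ≃*
      (↥(commutator H) ⧸ Subgroup.center ↥(commutator H)) :=
  QuotientGroup.congr _ _ (commutatorMulEquiv e) (map_center_mulEquiv (commutatorMulEquiv e))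

end Cfsg.Agent.Lib.Helper15.OrBN
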