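import Mathlib
import Cfsg.Agent.Lib.Helper15.DnBNJ
import Cfsg.Agent.Lib.Helper15.OrBNI

/-!
helper15: the isometry group of `quadFormPlus m F` is isomorphic to the group `OQ F (2 * m)`
(reindexing), and the Steinberg character of `PΩ⁺_{2m}(F)` in the generic case
(`m ≥ 2`, excluding `O_4^+(2)`).
-/

set_option autoImplicit false

namespace Cfsg.Agent.Lib.Helper15.DnBN

open Matrix Cfsg

variable {F : Type*} [Field F]

/-- the index map: the hyperbolic pairs go to the pairs `(i, rev i)` -/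
def plusIdx (m : ℕ) : Fin m ⊕ Fin m → Fin (2 * m) :=
  Sum.elim (fun i => ⟨i.val, by omega⟩) (fun i => ⟨2 * m - 1 - i.val, by omega⟩)

lemma plusIdx_bijective (m : ℕ) : Function.Bijective (plusIdx m) := by
  rw [Fintype.bijective_iff_injective_and_card]
  constructor
  · intro a b h
    have hv := congrArg Fin.val h
    rcases a with i | i <;> rcases b with j | j <;> simp only [plusIdx, Sum.elim_inl,
      Sum.elim_inr] at hv
    · have : i = j := Fin.ext hv
      rw [this]
    · have := i.2; have := j.2; omega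
    · have := i.2; have := j.2; omega
    · have : i = j := Fin.ext (by have := i.2; have := j.2; omega)
      rw [this]
  · simp only [Fintype.card_sum, Fintype.card_fin]
    omega

/-- the index bijection, as an equivalence -/
noncomputable def plusEquiv (m : ℕ) : Fin m ⊕ Fin m ≃ Fin (2 * m) :=
  Equiv.ofBijective (plusIdx m) (plusIdx_bijective m)

lemma plusEquiv_apply (m : ℕ) (a : Fin m ⊕ Fin m) : plusEquiv m a = plusIdx m a := rfl

lemma plusIdx_inl_rev (m : ℕ) (i : Fin m) :
    (plusIdx m (Sum.inl i)).rev = plusIdx m (Sum.inr i) := by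
  apply Fin.ext
  rw [Fin.val_rev]
  simp only [plusIdx, Sum.elim_inl, Sum.elim_inr]
  have := i.2
  omega

lemma plusIdx_inl_lt (m : ℕ) (i : Fin m) :
    plusIdx m (Sum.inl i) < (plusIdx m (Sum.inl i)).rev := by
  rw [Fin.lt_def, Fin.val_rev]
  simp only [plusIdx, Sum.elim_inl]
  have := i.2
  omega

lemma plusIdx_inr_not_lt (m : ℕ) (i : Fin m) :
    ¬ plusIdx m (Sum.inr i) < (plusIdx m (Sum.inr i)).rev := by
  rw [Fin.lt_def, Fin.val_rev]
  simp only [plusIdx, Sum.elim_inr]
  have := i.2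
  omega

lemma QH_plus (m : ℕ) (v : Fin (2 * m) → F) :
    QH F (2 * m) v = Cfsg.quadFormPlus m F (v ∘ plusEquiv m) := by
  unfold QH Cfsg.quadFormPlus
  rw [← (plusIdx_bijective m).sum_comp
    (fun j : Fin (2 * m) => if j < j.rev then v j * v j.rev else 0), Fintype.sum_sum_type]
  have e1 : ∀ i : Fin m, (if plusIdx m (Sum.inl i) < (plusIdx m (Sum.inl i)).rev then
      v (plusIdx m (Sum.inl i)) * v (plusIdx m (Sum.inl i)).rev else 0) =
      (v ∘ plusEquiv m) (Sum.inl i) * (v ∘ plusEquiv m) (Sum.inr i) := by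
    intro i
    rw [if_pos (plusIdx_inl_lt m i), plusIdx_inl_rev]
    rfl
  have e2 : ∀ i : Fin m, (if plusIdx m (Sum.inr i) < (plusIdx m (Sum.inr i)).rev then
      v (plusIdx m (Sum.inr i)) * v (plusIdx m (Sum.inr i)).rev else 0) = 0 := by
    intro i
    rw [if_neg (plusIdx_inr_not_lt m i)]
  rw [Finset.sum_congr rfl (fun i _ => e1 i), Finset.sum_congr rfl (fun i _ => e2 i),
    Finset.sum_const_zero, add_zero]

/-- the isometry group of `quadFormPlus m F` is isomorphic to `OQ F (2 * m)` -/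
theorem nonempty_isometry_plus_equiv (m : ℕ) :
    Nonempty (↥(Cfsg.isometryGroup F (Cfsg.quadFormPlus m F)) ≃* ↥(OQ F (2 * m))) := by
  obtain ⟨e1⟩ := Cfsg.Agent.Lib.Helper2.isometryGroup_reindex (F := F) (plusEquiv m)
    (Cfsg.quadFormPlus m F)
  have h : (fun v : Fin (2 * m) → F => Cfsg.quadFormPlus m F (v ∘ plusEquiv m)) =
      QH F (2 * m) := by
    funext v
    exact (QH_plus m v).symm
  have h' : Cfsg.isometryGroup F
      (fun v : Fin (2 * m) → F => Cfsg.quadFormPlus m F (v ∘ plusEquiv m)) = OQ F (2 * m) := by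
    unfold OQ
    rw [h]
  exact ⟨e1.trans (MulEquiv.subgroupCongr h')⟩

/-- the Steinberg character of `PΩ⁺_{2m}(F)`, generic case -/
theorem steinberg_POmega_plus [Fintype F] (p : ℕ) [Fact p.Prime] [CharP F p] (m : ℕ)
    (hm : 2 ≤ m) (hgood : GoodD F (2 * m)) :
    ∃ χ : Cfsg.POmega F (Cfsg.quadFormPlus m F) → ℂ,
      Cfsg.IsIrrCharacter (Cfsg.POmega F (Cfsg.quadFormPlus m F)) χ ∧
      ∀ P : Sylow p (Cfsg.POmega F (Cfsg.quadFormPlus m F)), χ 1 = Nat.card P ∧
        ∀ x : Cfsg.POmega F (Cfsg.quadFormPlus m F), x ∈ P → x ≠ 1 → χ x = 0 := by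
  obtain ⟨e₀⟩ := nonempty_isometry_plus_equiv (F := F) m
  exact steinberg_plus p (n := 2 * m) ⟨m, by ring⟩ (by omega) (by omega) hgood
    (Cfsg.Agent.Lib.Helper15.OrBN.centralQuotientCommutatorEquiv e₀).symm

end Cfsg.Agent.Lib.Helper15.DnBN
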