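import Mathlib
import Cfsg.Agent.Lib.Helper15.DnBNK
import Cfsg.Agent.Lib.Helper6.LinChar

/-!
helper15: the degenerate case `m = 1` of the Steinberg character of `PΩ⁺_{2m}(F)`: the commutator
subgroup of `O_2^+(F)` is commutative (it consists of diagonal matrices), so the central quotient is
trivial.
-/

set_option autoImplicit false

namespace Cfsg.Agent.Lib.Helper15.DnBN

open Matrix Equiv Cfsg Cfsg.Agent.Lib.Helper6.GLBN Cfsg.Agent.Lib.Helper15.UnBN

variable {F : Type*} [Field F]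

lemma SOQ_two_le_Bup : SOQ F 2 ≤ Bup 2 F := by
  apply sup_le inf_le_left
  apply sup_le
  · rw [Subgroup.closure_le]
    rintro s ⟨k, k', h, -⟩
    exfalso
    rcases h with ⟨-, h⟩ | ⟨-, h⟩ <;> omega
  · rintro g ⟨⟨c, hc⟩, -⟩
    rw [hc]
    exact (monoGL_mem_Bup_iff _ _).mpr rfl

/-- the elements of `SOQ F 2` are diagonal -/
lemma SOQ_two_diag {g : GL (Fin 2) F} (hg : g ∈ SOQ F 2) :
    (g : Matrix (Fin 2) (Fin 2) F) = Matrix.diagonal (fun i => (g : Matrix (Fin 2) (Fin 2) F) i i) := by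
  have hb := SOQ_two_le_Bup hg
  have ho := SOQ_le_OQ (F := F) (n := 2) ⟨1, rfl⟩ hg
  have h01 := thin_entry_zero (F := F) (n := 2) ⟨1, rfl⟩ ho hb (k := 0) (by simp)
  have h10 := (mem_Bup.mp hb) 1 0 (by decide)
  have hrev : (0 : Fin 2).rev = 1 := by decide
  rw [hrev] at h01
  ext i j
  fin_cases i <;> fin_cases j
  · simp
  · simpa using h01
  · simpa using h10
  · simp

/-- the commutator subgroup of `O_2^+(F)` is commutative -/
theorem commutator_OQ_two_comm (a b : ↥(commutator ↥(OQ F 2))) : a * b = b * a := by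
  have ha := commutator_le_SOQ (F := F) (n := 2) ⟨1, rfl⟩ (by norm_num) a.2
  have hb := commutator_le_SOQ (F := F) (n := 2) ⟨1, rfl⟩ (by norm_num) b.2
  rw [Subgroup.mem_subgroupOf] at ha hb
  apply Subtype.ext
  apply Subtype.ext
  apply Units.ext
  show (((a : ↥(OQ F 2)) : GL (Fin 2) F) : Matrix (Fin 2) (Fin 2) F) *
      (((b : ↥(OQ F 2)) : GL (Fin 2) F) : Matrix (Fin 2) (Fin 2) F) =
    (((b : ↥(OQ F 2)) : GL (Fin 2) F) : Matrix (Fin 2) (Fin 2) F) *
      (((a : ↥(OQ F 2)) : GL (Fin 2) F) : Matrix (Fin 2) (Fin 2) F)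
  rw [SOQ_two_diag ha, SOQ_two_diag hb, Matrix.diagonal_mul_diagonal, Matrix.diagonal_mul_diagonal]
  congr 1
  funext i
  exact mul_comm _ _

/-- the Steinberg character of the (trivial) central quotient of a commutative group -/
theorem steinberg_of_commutative {G : Type*} [Group G] (hcomm : ∀ a b : G, a * b = b * a)
    (p : ℕ) :
    ∃ χ : G ⧸ Subgroup.center G → ℂ, IsIrrCharacter (G ⧸ Subgroup.center G) χ ∧
      ∀ P : Sylow p (G ⧸ Subgroup.center G), χ 1 = Nat.card P ∧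
        ∀ x : G ⧸ Subgroup.center G, x ∈ P → x ≠ 1 → χ x = 0 := by
  have hsub : Subsingleton (G ⧸ Subgroup.center G) := by
    have h1 : ∀ x : G ⧸ Subgroup.center G, x = 1 := by
      intro x
      obtain ⟨g, rfl⟩ := QuotientGroup.mk_surjective x
      rw [QuotientGroup.eq_one_iff, Subgroup.mem_center_iff]
      intro h
      exact hcomm h g
    exact ⟨fun x y => (h1 x).trans (h1 y).symm⟩
  have hirr := Cfsg.Agent.Lib.Helper6.isIrrCharacter_of_hom
    (1 : (G ⧸ Subgroup.center G) →* ℂˣ)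
  refine ⟨_, hirr, ?_⟩
  intro P
  constructor
  · have h1 : Nat.card (P : Subgroup (G ⧸ Subgroup.center G)) = 1 :=
      Nat.card_of_subsingleton (1 : (P : Subgroup (G ⧸ Subgroup.center G)))
    rw [h1]
    simp
  · intro x _ hx1
    exact absurd (Subsingleton.elim x 1) hx1

/-- the Steinberg character of `PΩ⁺_2(F)` -/
theorem steinberg_POmega_plus_one (p : ℕ) :
    ∃ χ : Cfsg.POmega F (Cfsg.quadFormPlus 1 F) → ℂ,
      Cfsg.IsIrrCharacter (Cfsg.POmega F (Cfsg.quadFormPlus 1 F)) χ ∧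
      ∀ P : Sylow p (Cfsg.POmega F (Cfsg.quadFormPlus 1 F)), χ 1 = Nat.card P ∧
        ∀ x : Cfsg.POmega F (Cfsg.quadFormPlus 1 F), x ∈ P → x ≠ 1 → χ x = 0 := by
  obtain ⟨e₀⟩ := nonempty_isometry_plus_equiv (F := F) 1
  apply steinberg_of_commutative
  intro a b
  have e := Cfsg.Agent.Lib.Helper15.OrBN.commutatorMulEquiv e₀
  apply e.injective
  rw [map_mul, map_mul]
  exact commutator_OQ_two_comm _ _

end Cfsg.Agent.Lib.Helper15.DnBN
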