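import Cfsg.Agent.Lib.Helper15.UnitaryQuad

/-! Helper15 library: the even-weight permutation module of the symmetric group over `ZMod 2`,
the quadratic form "half the weight", its polar form (the dot product), and embeddings into
symplectic / orthogonal groups over `ZMod 2`. -/

set_option autoImplicit false
set_option linter.unusedSectionVars false

namespace Cfsg.Agent.Lib.Helper15.EvenWeight

open Module QuadraticMap Matrix Cfsg.Agent.Lib.Helper15

section weights
variable {ι : Type*} [Fintype ι] [DecidableEq ι]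

/-- Hamming weight of a binary vector. -/
def wt (v : ι → ZMod 2) : ℕ := (Finset.univ.filter (fun i => v i = 1)).card

/-- dot product -/
def dot (u v : ι → ZMod 2) : ZMod 2 := ∑ i, u i * v i

/-- half the weight, modulo 2 -/
def hq (v : ι → ZMod 2) : ZMod 2 := ((wt v / 2 : ℕ) : ZMod 2)

theorem z2_cases : ∀ a : ZMod 2, a = 0 ∨ a = 1 := by decide

theorem z2_add_self : ∀ a : ZMod 2, a + a = 0 := by decide

theorem z2_eq_ite : ∀ a : ZMod 2, a = if a = 1 then 1 else 0 := by decide

theorem z2_mul_ite : ∀ a b : ZMod 2, a * b = if a = 1 ∧ b = 1 then 1 else 0 := by decide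

theorem z2_add_eq_one : ∀ a b : ZMod 2, a + b = 1 ↔ ((a = 1 ∧ ¬ b = 1) ∨ (b = 1 ∧ ¬ a = 1)) := by
  decide

theorem sum_eq_wt (v : ι → ZMod 2) : ∑ i, v i = (wt v : ZMod 2) := by
  unfold wt
  rw [Finset.card_filter, Nat.cast_sum]
  refine Finset.sum_congr rfl fun i _ => ?_
  rcases z2_cases (v i) with h | h <;> simp [h]

theorem dot_eq_card (u v : ι → ZMod 2) :
    dot u v = (((Finset.univ.filter (fun i => u i = 1)) ∩
      (Finset.univ.filter (fun i => v i = 1))).card : ZMod 2) := by
  unfold dot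
  rw [← Finset.filter_and, Finset.card_filter, Nat.cast_sum]
  refine Finset.sum_congr rfl fun i _ => ?_
  rw [z2_mul_ite]
  split_ifs <;> simp

theorem wt_add (u v : ι → ZMod 2) :
    wt (u + v) + 2 * ((Finset.univ.filter (fun i => u i = 1)) ∩
      (Finset.univ.filter (fun i => v i = 1))).card = wt u + wt v := by
  unfold wt
  set A := Finset.univ.filter (fun i => u i = 1) with hA
  set B := Finset.univ.filter (fun i => v i = 1) with hB
  have h1 : Finset.univ.filter (fun i => (u + v) i = 1) = (A \ B) ∪ (B \ A) := by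
    ext i
    simp only [Finset.mem_filter, Finset.mem_univ, true_and, Pi.add_apply, Finset.mem_union,
      Finset.mem_sdiff, hA, hB]
    exact z2_add_eq_one (u i) (v i)
  have hdisj : Disjoint (A \ B) (B \ A) := by
    rw [Finset.disjoint_left]
    intro i hi hi'
    exact (Finset.mem_sdiff.mp hi).2 (Finset.mem_sdiff.mp hi').1
  rw [h1, Finset.card_union_of_disjoint hdisj]
  have h2 := Finset.card_sdiff_add_card_inter A B
  have h3 := Finset.card_sdiff_add_card_inter B A
  rw [Finset.inter_comm B A] at h3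
  omega

/-- the quadratic identity for half the weight on even-weight vectors -/
theorem hq_add (u v : ι → ZMod 2) (hu : Even (wt u)) (hv : Even (wt v)) :
    hq (u + v) = hq u + hq v + dot u v := by
  obtain ⟨a, ha⟩ := hu
  obtain ⟨b, hb⟩ := hv
  have h1 := wt_add u v
  rw [dot_eq_card]
  set c := ((Finset.univ.filter (fun i => u i = 1)) ∩
      (Finset.univ.filter (fun i => v i = 1))).card with hc
  unfold hq
  have h2 : wt (u + v) / 2 + c = a + b := by omega
  have h3 : wt u / 2 = a := by omega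
  have h4 : wt v / 2 = b := by omega
  rw [h3, h4]
  have h5 : ((wt (u + v) / 2 : ℕ) : ZMod 2) + (c : ZMod 2) = (a : ZMod 2) + (b : ZMod 2) := by
    rw [← Nat.cast_add, h2, Nat.cast_add]
  have h6 : ((wt (u + v) / 2 : ℕ) : ZMod 2) = (a : ZMod 2) + (b : ZMod 2) + (c : ZMod 2) := by
    rw [← h5, add_assoc, z2_add_self, add_zero]
  exact h6

theorem even_wt_iff (v : ι → ZMod 2) : Even (wt v) ↔ ∑ i, v i = 0 := by
  rw [sum_eq_wt, ZMod.natCast_eq_zero_iff_even]

theorem wt_comp_equiv (σ : ι ≃ ι) (v : ι → ZMod 2) : wt (v ∘ σ) = wt v := by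
  unfold wt
  apply Finset.card_bij (fun i _ => σ i)
  · intro i hi
    simpa using hi
  · intro i _ j _ h
    exact σ.injective h
  · intro j hj
    refine ⟨σ.symm j, ?_, by simp⟩
    simpa using hj

theorem dot_comp_equiv (σ : ι ≃ ι) (u v : ι → ZMod 2) : dot (u ∘ σ) (v ∘ σ) = dot u v := by
  unfold dot
  exact Equiv.sum_comp σ (fun i => u i * v i)

theorem dot_comm (u v : ι → ZMod 2) : dot u v = dot v u := by
  unfold dot
  exact Finset.sum_congr rfl fun i _ => mul_comm _ _

theorem dot_add_left (u u' v : ι → ZMod 2) : dot (u + u') v = dot u v + dot u' v := by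
  unfold dot
  rw [← Finset.sum_add_distrib]
  exact Finset.sum_congr rfl fun i _ => by rw [Pi.add_apply, add_mul]

theorem dot_add_right (u v v' : ι → ZMod 2) : dot u (v + v') = dot u v + dot u v' := by
  rw [dot_comm, dot_add_left, dot_comm v, dot_comm v']

theorem dot_self (u : ι → ZMod 2) : dot u u = ∑ i, u i := by
  unfold dot
  refine Finset.sum_congr rfl fun i _ => ?_
  rcases z2_cases (u i) with h | h <;> simp [h]

theorem dot_one (u : ι → ZMod 2) : dot u 1 = ∑ i, u i := by
  unfold dot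
  simp

theorem wt_one : wt (1 : ι → ZMod 2) = Fintype.card ι := by
  unfold wt
  simp

end weights

section module
variable (N : ℕ)

/-- even-weight vectors vanishing at the point `0` -/
def E0 : Submodule (ZMod 2) (Fin (N + 1) → ZMod 2) where
  carrier := {v | ∑ i, v i = 0 ∧ v 0 = 0}
  add_mem' := by
    rintro u v ⟨hu1, hu2⟩ ⟨hv1, hv2⟩
    refine ⟨?_, ?_⟩
    · simp only [Pi.add_apply]
      rw [Finset.sum_add_distrib, hu1, hv1, add_zero]
    · rw [Pi.add_apply, hu2, hv2, add_zero]
  zero_mem' := ⟨by simp, rfl⟩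
  smul_mem' := by
    rintro c v ⟨hv1, hv2⟩
    refine ⟨?_, ?_⟩
    · simp only [Pi.smul_apply, smul_eq_mul]
      rw [← Finset.mul_sum, hv1, mul_zero]
    · rw [Pi.smul_apply, hv2, smul_zero]

variable {N}

theorem mem_E0 (v : Fin (N + 1) → ZMod 2) : v ∈ E0 N ↔ (∑ i, v i = 0 ∧ v 0 = 0) := Iff.rfl

/-- projection killing the all-ones vector: add the constant `v 0` -/
def pr : (Fin (N + 1) → ZMod 2) →ₗ[ZMod 2] (Fin (N + 1) → ZMod 2) where
  toFun v := fun i => v i + v 0
  map_add' u v := by
    funext i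
    simp only [Pi.add_apply]
    ring
  map_smul' c v := by
    funext i
    simp only [Pi.smul_apply, smul_eq_mul, RingHom.id_apply]
    ring

theorem pr_apply (v : Fin (N + 1) → ZMod 2) (i : Fin (N + 1)) : pr v i = v i + v 0 := rfl

theorem pr_const (c : ZMod 2) : pr (fun _ : Fin (N + 1) => c) = 0 := by
  funext i
  rw [pr_apply]
  exact z2_add_self c

theorem pr_eq (v : Fin (N + 1) → ZMod 2) : pr v = v + fun _ => v 0 := rfl

theorem pr_eq_or (v : Fin (N + 1) → ZMod 2) : pr v = v ∨ pr v = v + 1 := by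
  rcases z2_cases (v 0) with h | h
  · left
    funext i
    rw [pr_apply, h, add_zero]
  · right
    funext i
    rw [pr_apply, h]
    rfl

theorem pr_of_mem (v : Fin (N + 1) → ZMod 2) (hv : v 0 = 0) : pr v = v := by
  funext i
  rw [pr_apply, hv, add_zero]

theorem card_even (hN : Even (N + 1)) : ((N + 1 : ℕ) : ZMod 2) = 0 := by
  rw [ZMod.natCast_eq_zero_iff_even]
  exact hN

theorem sum_one (hN : Even (N + 1)) : ∑ _i : Fin (N + 1), (1 : ZMod 2) = 0 := by
  rw [Finset.sum_const, Finset.card_univ, Fintype.card_fin, nsmul_eq_mul, mul_one]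
  exact card_even hN

theorem pr_mem (hN : Even (N + 1)) (v : Fin (N + 1) → ZMod 2) (hv : ∑ i, v i = 0) :
    pr v ∈ E0 N := by
  refine ⟨?_, ?_⟩
  · simp only [pr_apply]
    rw [Finset.sum_add_distrib, hv, zero_add, Finset.sum_const, Finset.card_univ, Fintype.card_fin,
      nsmul_eq_mul, card_even hN, zero_mul]
  · rw [pr_apply]
    exact z2_add_self _

/-- permutation action on vectors -/
def permL (σ : Equiv.Perm (Fin (N + 1))) : (Fin (N + 1) → ZMod 2) →ₗ[ZMod 2] (Fin (N + 1) → ZMod 2) :=
  LinearMap.funLeft (ZMod 2) (ZMod 2) σ.symm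

theorem permL_apply (σ : Equiv.Perm (Fin (N + 1))) (v : Fin (N + 1) → ZMod 2) :
    permL σ v = v ∘ σ.symm := rfl

theorem sum_permL (σ : Equiv.Perm (Fin (N + 1))) (v : Fin (N + 1) → ZMod 2) :
    ∑ i, permL σ v i = ∑ i, v i := by
  rw [permL_apply]
  exact Equiv.sum_comp σ.symm v

theorem permL_const (σ : Equiv.Perm (Fin (N + 1))) (c : ZMod 2) :
    permL σ (fun _ => c) = fun _ => c := rfl

/-- the action of a permutation on `E0` -/
def rhoL (hN : Even (N + 1)) (σ : Equiv.Perm (Fin (N + 1))) : ↥(E0 N) →ₗ[ZMod 2] ↥(E0 N) :=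
  LinearMap.codRestrict (E0 N) (pr ∘ₗ permL σ ∘ₗ (E0 N).subtype) (fun w => by
    apply pr_mem hN
    show ∑ i, permL σ (w : Fin (N + 1) → ZMod 2) i = 0
    rw [sum_permL]
    exact w.2.1)

theorem rhoL_coe (hN : Even (N + 1)) (σ : Equiv.Perm (Fin (N + 1))) (w : ↥(E0 N)) :
    ((rhoL hN σ w : ↥(E0 N)) : Fin (N + 1) → ZMod 2) = pr (permL σ (w : Fin (N + 1) → ZMod 2)) := rfl

theorem rhoL_one (hN : Even (N + 1)) : rhoL hN 1 = LinearMap.id := by
  apply LinearMap.ext
  intro w
  apply Subtype.ext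
  rw [rhoL_coe, LinearMap.id_apply]
  have : permL (1 : Equiv.Perm (Fin (N + 1))) (w : Fin (N + 1) → ZMod 2) = w := rfl
  rw [this]
  exact pr_of_mem _ w.2.2

theorem rhoL_mul (hN : Even (N + 1)) (σ τ : Equiv.Perm (Fin (N + 1))) :
    rhoL hN (σ * τ) = (rhoL hN σ).comp (rhoL hN τ) := by
  apply LinearMap.ext
  intro w
  apply Subtype.ext
  rw [LinearMap.comp_apply, rhoL_coe, rhoL_coe, rhoL_coe, pr_eq (permL τ _), map_add, map_add,
    permL_const, pr_const, add_zero]
  rfl

/-- the action as a monoid homomorphism -/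
def rho (hN : Even (N + 1)) : Equiv.Perm (Fin (N + 1)) →* Module.End (ZMod 2) ↥(E0 N) where
  toFun := rhoL hN
  map_one' := rhoL_one hN
  map_mul' := rhoL_mul hN

theorem rho_apply (hN : Even (N + 1)) (σ : Equiv.Perm (Fin (N + 1))) (w : ↥(E0 N)) :
    ((rho hN σ w : ↥(E0 N)) : Fin (N + 1) → ZMod 2) = pr (permL σ (w : Fin (N + 1) → ZMod 2)) := rfl

end module

section forms
variable {N : ℕ}

theorem even_wt_of_mem (w : ↥(E0 N)) : Even (wt (w : Fin (N + 1) → ZMod 2)) :=
  (even_wt_iff _).mpr w.2.1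

theorem dot_one_of_sum (v : Fin (N + 1) → ZMod 2) (hv : ∑ i, v i = 0) : dot v 1 = 0 := by
  rw [dot_one, hv]

theorem dot_pr (hN : Even (N + 1)) (x y : Fin (N + 1) → ZMod 2) (hx : ∑ i, x i = 0)
    (hy : ∑ i, y i = 0) : dot (pr x) (pr y) = dot x y := by
  have h11 : dot (1 : Fin (N + 1) → ZMod 2) 1 = 0 := by
    rw [dot_one]
    exact sum_one hN
  have hx1 := dot_one_of_sum x hx
  have hy1 := dot_one_of_sum y hy
  have h1y : dot 1 y = 0 := by rw [dot_comm]; exact hy1
  rcases pr_eq_or x with h1 | h1 <;> rcases pr_eq_or y with h2 | h2 <;> rw [h1, h2]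
  · rw [dot_add_right, hx1, add_zero]
  · rw [dot_add_left, h1y, add_zero]
  · rw [dot_add_left, dot_add_right, dot_add_right, hx1, h1y, h11]
    simp

theorem dot_rho (hN : Even (N + 1)) (σ : Equiv.Perm (Fin (N + 1))) (u v : ↥(E0 N)) :
    dot ((rho hN σ u : ↥(E0 N)) : Fin (N + 1) → ZMod 2) ((rho hN σ v : ↥(E0 N)) : Fin (N + 1) → ZMod 2) =
      dot (u : Fin (N + 1) → ZMod 2) (v : Fin (N + 1) → ZMod 2) := by
  rw [rho_apply, rho_apply, dot_pr hN _ _ (by rw [sum_permL]; exact u.2.1)
    (by rw [sum_permL]; exact v.2.1), permL_apply, permL_apply]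
  exact dot_comp_equiv σ.symm _ _

theorem hq_pr (h4 : 4 ∣ N + 1) (x : Fin (N + 1) → ZMod 2) (hx : ∑ i, x i = 0) :
    hq (pr x) = hq x := by
  rcases pr_eq_or x with h1 | h1
  · rw [h1]
  · have hev1 : Even (wt (1 : Fin (N + 1) → ZMod 2)) := by
      rw [wt_one, Fintype.card_fin]
      obtain ⟨c, hc⟩ := h4
      exact ⟨2 * c, by omega⟩
    rw [h1, hq_add x 1 ((even_wt_iff x).mpr hx) hev1, dot_one_of_sum x hx, add_zero]
    have : hq (1 : Fin (N + 1) → ZMod 2) = 0 := by
      unfold hq
      rw [wt_one, Fintype.card_fin, ZMod.natCast_eq_zero_iff_even]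
      obtain ⟨c, hc⟩ := h4
      exact ⟨c, by omega⟩
    rw [this, add_zero]

theorem hq_rho (h4 : 4 ∣ N + 1) (hN : Even (N + 1)) (σ : Equiv.Perm (Fin (N + 1))) (u : ↥(E0 N)) :
    hq ((rho hN σ u : ↥(E0 N)) : Fin (N + 1) → ZMod 2) = hq (u : Fin (N + 1) → ZMod 2) := by
  rw [rho_apply, hq_pr h4 _ (by rw [sum_permL]; exact u.2.1), permL_apply]
  unfold hq
  rw [wt_comp_equiv]

/-- the quadratic form "half the weight" on `E0` -/
noncomputable def Q0 (N : ℕ) : QuadraticForm (ZMod 2) ↥(E0 N) :=
  mkQF2 (fun w => hq (w : Fin (N + 1) → ZMod 2))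
    (fun u v => dot (u : Fin (N + 1) → ZMod 2) (v : Fin (N + 1) → ZMod 2))
    (fun u u' v => dot_add_left _ _ _)
    (fun u v => hq_add _ _ (even_wt_of_mem u) (even_wt_of_mem v))
    (fun u => by rw [dot_self]; exact u.2.1)

theorem Q0_apply (w : ↥(E0 N)) : Q0 N w = hq (w : Fin (N + 1) → ZMod 2) := rfl

theorem polar_Q0 (u v : ↥(E0 N)) :
    polar (Q0 N) u v = dot (u : Fin (N + 1) → ZMod 2) (v : Fin (N + 1) → ZMod 2) :=
  mkQF2_polar _ _ _ _ _ u v

/-- the vector `e_i + e_j` for nonzero points `i ≠ j`, as an element of `E0` -/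
def pairVec (i j : Fin (N + 1)) (hi : i ≠ 0) (hj : j ≠ 0) (hij : i ≠ j) : ↥(E0 N) :=
  ⟨Pi.single i 1 + Pi.single j 1, by
    refine ⟨?_, ?_⟩
    · simp only [Pi.add_apply]
      rw [Finset.sum_add_distrib, Finset.sum_pi_single', Finset.sum_pi_single']
      simp only [Finset.mem_univ, if_true]
      exact z2_add_self 1
    · rw [Pi.add_apply, Pi.single_apply, Pi.single_apply, if_neg (Ne.symm hi), if_neg (Ne.symm hj),
        add_zero]⟩

theorem pairVec_apply (i j : Fin (N + 1)) (hi : i ≠ 0) (hj : j ≠ 0) (hij : i ≠ j) (l : Fin (N + 1)) :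
    (pairVec i j hi hj hij : Fin (N + 1) → ZMod 2) l = if l = i ∨ l = j then 1 else 0 := by
  show (Pi.single i 1 + Pi.single j 1 : Fin (N + 1) → ZMod 2) l = _
  rw [Pi.add_apply, Pi.single_apply, Pi.single_apply]
  by_cases h1 : l = i
  · have : l ≠ j := fun h => hij (h1.symm.trans h)
    simp [h1, hij]
  · by_cases h2 : l = j
    · simp [h2, hij.symm]
    · simp [h1, h2]

theorem dot_pairVec (w : Fin (N + 1) → ZMod 2) (i j : Fin (N + 1)) (hi : i ≠ 0) (hj : j ≠ 0)
    (hij : i ≠ j) : dot w (pairVec i j hi hj hij : Fin (N + 1) → ZMod 2) = w i + w j := by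
  show dot w (Pi.single i 1 + Pi.single j 1) = _
  rw [dot_add_right]
  unfold dot
  simp [Pi.single_apply]

theorem exists_not_mem (S : Finset (Fin (N + 1))) (h : S.card < N + 1) : ∃ l, l ∉ S := by
  by_contra hcon
  push Not at hcon
  have : S = Finset.univ := Finset.eq_univ_iff_forall.mpr hcon
  rw [this, Finset.card_univ, Fintype.card_fin] at h
  exact lt_irrefl _ h

theorem ndOn_Q0 (hN : Even (N + 1)) : NdOn (Q0 N) ⊤ := by
  intro w _ hw
  have hNodd : Odd N := by
    rcases Nat.even_or_odd N with h | h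
    · exfalso
      have : Odd (N + 1) := h.add_one
      exact (Nat.not_even_iff_odd.mpr this) hN
    · exact h
  -- all nonzero coordinates are equal
  have heq : ∀ i j : Fin (N + 1), i ≠ 0 → j ≠ 0 →
      (w : Fin (N + 1) → ZMod 2) i = (w : Fin (N + 1) → ZMod 2) j := by
    intro i j hi hj
    by_cases hij : i = j
    · rw [hij]
    · have := hw (pairVec i j hi hj hij) Submodule.mem_top
      rw [polar_Q0, dot_pairVec] at this
      have h2 := congrArg (fun x => x + (w : Fin (N + 1) → ZMod 2) j) this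
      simp only [add_assoc, z2_add_self, add_zero, zero_add] at h2
      exact h2
  apply Subtype.ext
  funext i
  show (w : Fin (N + 1) → ZMod 2) i = 0
  by_cases hi : i = 0
  · rw [hi]; exact w.2.2
  · -- sum over all coordinates: N copies of w i
    have hsum := w.2.1
    rw [Fin.sum_univ_succ, w.2.2, zero_add] at hsum
    have : ∀ k : Fin N, (w : Fin (N + 1) → ZMod 2) k.succ = (w : Fin (N + 1) → ZMod 2) i :=
      fun k => heq _ _ (Fin.succ_ne_zero k) hi
    simp only [this, Finset.sum_const, Finset.card_univ, Fintype.card_fin, nsmul_eq_mul] at hsum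
    have hN1 : ((N : ℕ) : ZMod 2) = 1 := by
      obtain ⟨c, hc⟩ := hNodd
      rw [hc]
      push_cast
      have : (2 : ZMod 2) = 0 := by decide
      rw [this, zero_mul, zero_add]
    rw [hN1, one_mul] at hsum
    exact hsum

theorem finrank_E0 (hN1 : 1 ≤ N) : finrank (ZMod 2) ↥(E0 N) = N - 1 := by
  let Φ : (Fin (N + 1) → ZMod 2) →ₗ[ZMod 2] (ZMod 2 × ZMod 2) :=
    LinearMap.prod (∑ i, LinearMap.proj i) (LinearMap.proj 0)
  have hΦ : ∀ v, Φ v = (∑ i, v i, v 0) := by
    intro v
    simp [Φ, LinearMap.prod_apply]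
  have hker : LinearMap.ker Φ = E0 N := by
    ext v
    rw [LinearMap.mem_ker, hΦ, mem_E0, Prod.mk_eq_zero]
  have hsurj : Function.Surjective Φ := by
    rintro ⟨a, b⟩
    obtain ⟨k, hk⟩ : ∃ k : Fin (N + 1), k ≠ 0 := ⟨⟨1, by omega⟩, by
      intro h
      have := congrArg Fin.val h
      simp at this⟩
    refine ⟨Pi.single 0 b + Pi.single k (a + b), ?_⟩
    rw [hΦ]
    simp only [Pi.add_apply]
    rw [Finset.sum_add_distrib, Finset.sum_pi_single', Finset.sum_pi_single']
    simp only [Finset.mem_univ, if_true, Pi.single_apply, if_true, if_neg (Ne.symm hk), add_zero]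
    congr 1
    rw [← add_assoc, add_comm b a, add_assoc, z2_add_self, add_zero]
  have h1 := LinearMap.finrank_range_add_finrank_ker Φ
  rw [LinearMap.range_eq_top.mpr hsurj, finrank_top, hker, Module.finrank_prod, Module.finrank_self,
    Module.finrank_fin_fun] at h1
  omega

/-- faithfulness of the action -/
theorem rho_injective (hN : Even (N + 1)) (h5 : 5 ≤ N) : Function.Injective (rho (N := N) hN) := by
  rw [injective_iff_map_eq_one]
  intro σ hσ
  have hfix : ∀ w : ↥(E0 N), pr (permL σ (w : Fin (N + 1) → ZMod 2)) = w := by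
    intro w
    rw [← rho_apply hN, hσ]
    rfl
  -- for nonzero i ≠ j: σ i ∈ {i, j}
  have h3 : ∀ i j : Fin (N + 1), i ≠ 0 → j ≠ 0 → i ≠ j → σ i = i ∨ σ i = j := by
    intro i j hi hj hij
    have hw := hfix (pairVec i j hi hj hij)
    rcases pr_eq_or (permL σ (pairVec i j hi hj hij : Fin (N + 1) → ZMod 2)) with h1 | h1
    · rw [h1] at hw
      have := congrFun hw (σ i)
      rw [permL_apply, Function.comp_apply, Equiv.symm_apply_apply, pairVec_apply, pairVec_apply] at this
      simp only [true_or, if_true] at this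
      by_contra hcon
      push Not at hcon
      rw [if_neg (by rw [not_or]; exact hcon)] at this
      exact one_ne_zero this
    · exfalso
      rw [h1] at hw
      obtain ⟨l, hl⟩ := exists_not_mem ({i, j, σ i, σ j} : Finset (Fin (N + 1))) (by
        have : ({i, j, σ i, σ j} : Finset (Fin (N + 1))).card ≤ 4 := Finset.card_le_four
        omega)
      simp only [Finset.mem_insert, Finset.mem_singleton, not_or] at hl
      obtain ⟨hl1, hl2, hl3, hl4⟩ := hl
      have hn : ¬ (σ.symm l = i ∨ σ.symm l = j) := by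
        rw [not_or]
        constructor
        · intro h
          apply hl3
          rw [← h, Equiv.apply_symm_apply]
        · intro h
          apply hl4
          rw [← h, Equiv.apply_symm_apply]
      have e1 : (pairVec i j hi hj hij : Fin (N + 1) → ZMod 2) (σ.symm l) = 0 := by
        rw [pairVec_apply, if_neg hn]
      have e2 : (pairVec i j hi hj hij : Fin (N + 1) → ZMod 2) l = 0 := by
        rw [pairVec_apply, if_neg (not_or.mpr ⟨hl1, hl2⟩)]
      have := congrFun hw l
      rw [Pi.add_apply, permL_apply, Function.comp_apply, e1, e2, Pi.one_apply, zero_add] at this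
      exact one_ne_zero this
  have hfix' : ∀ i : Fin (N + 1), i ≠ 0 → σ i = i := by
    intro i hi
    obtain ⟨j, hj⟩ := exists_not_mem ({0, i} : Finset (Fin (N + 1))) (by
      have : ({0, i} : Finset (Fin (N + 1))).card ≤ 2 := Finset.card_le_two
      omega)
    simp only [Finset.mem_insert, Finset.mem_singleton, not_or] at hj
    obtain ⟨j', hj'⟩ := exists_not_mem ({0, i, j} : Finset (Fin (N + 1))) (by
      have : ({0, i, j} : Finset (Fin (N + 1))).card ≤ 3 := Finset.card_le_three
      omega)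
    simp only [Finset.mem_insert, Finset.mem_singleton, not_or] at hj'
    rcases h3 i j hi hj.1 (Ne.symm hj.2) with h | h
    · exact h
    · rcases h3 i j' hi hj'.1 (Ne.symm hj'.2.1) with h' | h'
      · exact h'
      · exfalso
        apply hj'.2.2
        rw [← h, ← h']
  ext i
  by_cases hi : i = 0
  · rw [hi]
    by_contra hcon
    have hne : σ 0 ≠ 0 := fun h => hcon (by rw [h]; rfl)
    have := hfix' (σ 0) hne
    exact hne (σ.injective this)
  · rw [hfix' i hi]
    rfl

end forms

section embed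
variable {F W : Type*} [Field F] [AddCommGroup W] [Module F W]

/-- A faithful linear action preserving an alternating form which is the standard symplectic form in
suitable coordinates embeds in the symplectic group. -/
theorem embed_symp_of_basis' {m : ℕ} (B : Basis (Fin m ⊕ Fin m) F W) (Ψ : W → W → F)
    (hB : ∀ x y, Cfsg.sympForm m F (B.equivFun x) (B.equivFun y) = Ψ x y)
    {G : Type*} [Group G] (ρ : G →* Module.End F W) (hρ : Function.Injective ρ)
    (hG : ∀ g x y, Ψ (ρ g x) (ρ g y) = Ψ x y) :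
    ∃ φ : G →* Matrix.symplecticGroup (Fin m) F, Function.Injective φ := by
  classical
  let M : G → Matrix (Fin m ⊕ Fin m) (Fin m ⊕ Fin m) F := fun g => LinearMap.toMatrix B B (ρ g)
  have hMv : ∀ g x, M g *ᵥ B.equivFun x = B.equivFun (ρ g x) := by
    intro g x
    have := LinearMap.toMatrix_mulVec_repr B B (ρ g) x
    simpa [M] using this
  have hMmem : ∀ g, M g ∈ Matrix.symplecticGroup (Fin m) F := by
    intro g
    apply mem_symplectic_of_preserves
    intro u v
    obtain ⟨x, rfl⟩ := B.equivFun.surjective u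
    obtain ⟨y, rfl⟩ := B.equivFun.surjective v
    rw [hMv, hMv, hB, hB, hG]
  refine ⟨{ toFun := fun g => ⟨M g, hMmem g⟩, map_one' := ?_, map_mul' := ?_ }, ?_⟩
  · apply Subtype.ext
    show M 1 = 1
    simp only [M, map_one]
    exact LinearMap.toMatrix_id B
  · intro g h
    apply Subtype.ext
    show M (g * h) = M g * M h
    simp only [M, map_mul]
    exact LinearMap.toMatrix_comp B B B _ _
  · intro g h hgh
    have h1 : M g = M h := congrArg Subtype.val hgh
    exact hρ ((LinearMap.toMatrix B B).injective h1)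

/-- A faithful linear action preserving a function which is `q₀` in suitable coordinates embeds in
the isometry group of `q₀`. -/
theorem embed_quad_of_basis' {J : Type} [Fintype J] [DecidableEq J] (B : Basis J F W)
    (q₀ : (J → F) → F) (Ψ : W → F) (hB : ∀ x, q₀ (B.equivFun x) = Ψ x)
    {G : Type*} [Group G] (ρ : G →* Module.End F W) (hρ : Function.Injective ρ)
    (hG : ∀ g x, Ψ (ρ g x) = Ψ x) :
    ∃ φ : G →* ↥(Cfsg.isometryGroup F q₀), Function.Injective φ := by
  classical
  let M : G → Matrix J J F := fun g => LinearMap.toMatrix B B (ρ g)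
  have hMv : ∀ g x, M g *ᵥ B.equivFun x = B.equivFun (ρ g x) := by
    intro g x
    have := LinearMap.toMatrix_mulVec_repr B B (ρ g) x
    simpa [M] using this
  have hMq : ∀ g u, q₀ (M g *ᵥ u) = q₀ u := by
    intro g u
    obtain ⟨x, rfl⟩ := B.equivFun.surjective u
    rw [hMv, hB, hB, hG]
  let Mh : G →* Matrix J J F :=
    { toFun := M
      map_one' := by
        simp only [M, map_one]
        exact LinearMap.toMatrix_id B
      map_mul' := fun g h => by
        simp only [M, map_mul]
        exact LinearMap.toMatrix_comp B B B _ _ }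
  have hmem : ∀ g, Mh.toHomUnits g ∈ Cfsg.isometryGroup F q₀ := by
    intro g
    rw [mem_isometryGroup_iff]
    intro u
    exact hMq g u
  refine ⟨Mh.toHomUnits.codRestrict _ hmem, ?_⟩
  intro g h hgh
  have h0 : Mh.toHomUnits g = Mh.toHomUnits h := congrArg Subtype.val hgh
  have h1 : M g = M h := congrArg Units.val h0
  exact hρ ((LinearMap.toMatrix B B).injective h1)

end embed

section sympfam
variable {F V : Type*} [Field F] [AddCommGroup V] [Module F V]

/-- A symplectic family for the polar form of `Q`. -/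
def SympFam (Q : QuadraticForm F V) {m : ℕ} (e f : Fin m → V) : Prop :=
  (∀ i j, polar Q (e i) (f j) = if i = j then 1 else 0) ∧ (∀ i j, polar Q (e i) (e j) = 0) ∧
    (∀ i j, polar Q (f i) (f j) = 0)

theorem sympFam_of_hypFam {Q : QuadraticForm F V} {W : Submodule F V} {m : ℕ} {e f : Fin m → V}
    (H : HypFam Q W e f) : SympFam Q e f :=
  ⟨H.2.2.1, fun i j => (H.2.2.2 i j).1, fun i j => (H.2.2.2 i j).2⟩

theorem SympFam.linearIndependent {Q : QuadraticForm F V} {m : ℕ} {e f : Fin m → V}
    (H : SympFam Q e f) : LinearIndependent F (Sum.elim e f) := by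
  classical
  rw [Fintype.linearIndependent_iff]
  intro g hg
  simp only [Fintype.sum_sum_type, Sum.elim_inl, Sum.elim_inr] at hg
  obtain ⟨h1, h2, h3⟩ := H
  have key : ∀ v : V, polar Q (∑ i, g (Sum.inl i) • e i + ∑ i, g (Sum.inr i) • f i) v = 0 := by
    intro v
    rw [hg]
    simp [polar]
  rintro (j | j)
  · have := key (f j)
    rw [polar_add_left, ← polarBilin_apply_apply, map_sum, LinearMap.sum_apply] at this
    simp only [polarBilin_apply_apply, polar_smul_left, h1, smul_eq_mul, mul_ite, mul_one, mul_zero,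
      Finset.sum_ite_eq', Finset.mem_univ, if_true] at this
    rw [← polarBilin_apply_apply, map_sum, LinearMap.sum_apply] at this
    simp only [polarBilin_apply_apply, polar_smul_left, h3, smul_eq_mul, mul_zero,
      Finset.sum_const_zero, add_zero] at this
    exact this
  · have := key (e j)
    rw [polar_add_left, ← polarBilin_apply_apply, map_sum, LinearMap.sum_apply] at this
    simp only [polarBilin_apply_apply, polar_smul_left, h2, smul_eq_mul, mul_zero,
      Finset.sum_const_zero, zero_add] at this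
    rw [← polarBilin_apply_apply, map_sum, LinearMap.sum_apply] at this
    simp only [polarBilin_apply_apply, polar_smul_left, smul_eq_mul] at this
    have h4 : ∀ i, polar Q (f i) (e j) = if i = j then 1 else 0 := by
      intro i
      rw [polar_comm, h1]
      simp only [eq_comm]
    simp only [h4, mul_ite, mul_one, mul_zero, Finset.sum_ite_eq', Finset.mem_univ, if_true] at this
    exact this

end sympfam

section sympcoords
variable {F V : Type*} [Field F] [AddCommGroup V] [Module F V]

theorem sympFam_of_ellFam [CharP F 2] {Q : QuadraticForm F V} {W : Submodule F V} {k : ℕ}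
    {e f : Fin k → V} {x y : V} {ζ : F} (H : EllFam Q W e f x y ζ) :
    SympFam Q (Fin.snoc e x : Fin (k + 1) → V) (Fin.snoc f y : Fin (k + 1) → V) := by
  obtain ⟨HH, -, -, -, hperp, -, hxy, -, -⟩ := H
  have h2 : (2 : F) = 0 := CharTwo.two_eq_zero
  have hself : ∀ v : V, polar Q v v = 0 := by
    intro v
    rw [QuadraticMap.polar_self, two_nsmul]
    exact CharTwo.add_self_eq_zero _
  refine ⟨?_, ?_, ?_⟩
  · intro i j
    refine Fin.lastCases ?_ (fun a => ?_) i <;> refine Fin.lastCases ?_ (fun c => ?_) j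
    · simp only [Fin.snoc_last, if_true]
      exact hxy
    · rw [Fin.snoc_last, Fin.snoc_castSucc, (hperp c).1.2, if_neg]
      exact (Fin.castSucc_lt_last c).ne'
    · rw [Fin.snoc_last, Fin.snoc_castSucc, polar_comm, (hperp a).2.1, if_neg]
      exact (Fin.castSucc_lt_last a).ne
    · rw [Fin.snoc_castSucc, Fin.snoc_castSucc, HH.2.2.1 a c]
      simp only [Fin.castSucc_inj]
  · intro i j
    refine Fin.lastCases ?_ (fun a => ?_) i <;> refine Fin.lastCases ?_ (fun c => ?_) j
    · rw [Fin.snoc_last]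
      exact hself x
    · rw [Fin.snoc_last, Fin.snoc_castSucc, (hperp c).1.1]
    · rw [Fin.snoc_last, Fin.snoc_castSucc, polar_comm, (hperp a).1.1]
    · rw [Fin.snoc_castSucc, Fin.snoc_castSucc, (HH.2.2.2 a c).1]
  · intro i j
    refine Fin.lastCases ?_ (fun a => ?_) i <;> refine Fin.lastCases ?_ (fun c => ?_) j
    · rw [Fin.snoc_last]
      exact hself y
    · rw [Fin.snoc_last, Fin.snoc_castSucc, (hperp c).2.2]
    · rw [Fin.snoc_last, Fin.snoc_castSucc, polar_comm, (hperp a).2.2]
    · rw [Fin.snoc_castSucc, Fin.snoc_castSucc, (HH.2.2.2 a c).2]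

theorem symp_coords [CharP F 2] [FiniteDimensional F V] (Q : QuadraticForm F V) {m : ℕ}
    (e f : Fin m → V) (H : SympFam Q e f) (hdim : finrank F V = 2 * m) :
    ∃ b : Basis (Fin m ⊕ Fin m) F V,
      ∀ x y, Cfsg.sympForm m F (b.equivFun x) (b.equivFun y) = polar Q x y := by
  classical
  have hcard : Fintype.card (Fin m ⊕ Fin m) = finrank F V := by
    rw [hdim]; simp; ring
  let b := basisOfLinearIndependentOfCardEqFinrank' _ H.linearIndependent hcard
  have hb : ⇑b = Sum.elim e f := coe_basisOfLinearIndependentOfCardEqFinrank' _ _ _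
  refine ⟨b, ?_⟩
  let B₁ : LinearMap.BilinForm F V := polarBilin Q
  let B₂ : LinearMap.BilinForm F V :=
    (sympBilin m).compl₁₂ (b.equivFun : V →ₗ[F] _) (b.equivFun : V →ₗ[F] _)
  have hB : B₂ = B₁ := by
    apply LinearMap.BilinForm.ext_basis b
    intro i j
    show sympBilin m (b.equivFun (b i)) (b.equivFun (b j)) = polar Q (b i) (b j)
    have he : ∀ i, b.equivFun (b i) = Pi.single i 1 := by
      intro i
      funext j
      rw [Basis.equivFun_self, Pi.single_apply]
      simp only [eq_comm]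
    rw [sympBilin_apply, he, he, sympForm_eq, hb]
    rcases i with i | i <;> rcases j with j | j
    · simp [Pi.single_apply, H.2.1]
    · simp only [Sum.elim_inl, Sum.elim_inr, H.1]
      simp [Pi.single_apply]
      rw [CharTwo.neg_eq]
      simp only [eq_comm]
    · simp only [Sum.elim_inl, Sum.elim_inr]
      rw [polar_comm, H.1]
      simp [Pi.single_apply, eq_comm]
    · simp [Pi.single_apply, H.2.2]
  intro x y
  have := congrArg (fun B : LinearMap.BilinForm F V => B x y) hB
  simp only [B₁, B₂, LinearMap.compl₁₂_apply, polarBilin_apply_apply, sympBilin_apply] at this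
  exact this

end sympcoords

/-- The symmetric group of even degree `N + 1 ≥ 6` embeds in `Sp_{N-1}(2)`. -/
theorem embed_sp (N m : ℕ) (hN : Even (N + 1)) (h5 : 5 ≤ N) (hm : N - 1 = 2 * m) :
    ∃ f : Equiv.Perm (Fin (N + 1)) →* Matrix.symplecticGroup (Fin m) (ZMod 2),
      Function.Injective f := by
  classical
  obtain ⟨k, rfl⟩ : ∃ k, m = k + 1 := ⟨m - 1, by omega⟩
  have hfr : finrank (ZMod 2) ↥(E0 N) = 2 * (k + 1) := by
    rw [finrank_E0 (by omega), hm]
  have hnd := ndOn_Q0 (N := N) hN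
  have hfam : ∃ e f : Fin (k + 1) → ↥(E0 N), SympFam (Q0 N) e f := by
    rcases even_family (Q0 N) k ⊤ hnd (by rw [finrank_top]; exact hfr) with ⟨e, f, H⟩ | ⟨e, f, x, y, ζ, H⟩
    · exact ⟨e, f, sympFam_of_hypFam H⟩
    · exact ⟨_, _, sympFam_of_ellFam H⟩
  obtain ⟨e, f, H⟩ := hfam
  obtain ⟨b, hb⟩ := symp_coords (Q0 N) e f H hfr
  refine embed_symp_of_basis' b (fun u v => polar (Q0 N) u v) hb (rho hN) (rho_injective hN h5) ?_
  intro σ u v
  show polar (Q0 N) (rho hN σ u) (rho hN σ v) = polar (Q0 N) u v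
  rw [polar_Q0, polar_Q0, dot_rho]

section arf
open Cfsg.Agent.Lib.Helper15

/-- the sign `(-1)^(t/2)` on even numbers, zero on odd numbers -/
def gg (t : ℕ) : ℤ := if Even t then (-1) ^ (t / 2) else 0

theorem gg_add_two (t : ℕ) : gg (t + 2) = - gg t := by
  unfold gg
  by_cases h : Even t
  · have h2 : Even (t + 2) := h.add (by decide)
    rw [if_pos h, if_pos h2]
    have : (t + 2) / 2 = t / 2 + 1 := by omega
    rw [this, pow_succ]
    ring
  · have h2 : ¬ Even (t + 2) := by
      intro h2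
      apply h
      have := (Nat.even_add (m := t) (n := 2)).mp h2
      exact this.mpr (by decide)
    rw [if_neg h, if_neg h2, neg_zero]

/-- the weighted count of binary vectors of length `j`, with weights shifted by `s` -/
def AA (j s : ℕ) : ℤ := ∑ v : Fin j → ZMod 2, gg (s + wt v)

theorem wt_eq_sum {ι : Type*} [Fintype ι] (v : ι → ZMod 2) :
    wt v = ∑ i, (if v i = 1 then 1 else 0) := by
  unfold wt
  rw [Finset.card_filter]

theorem wt_cons {j : ℕ} (a : ZMod 2) (v : Fin j → ZMod 2) :
    wt (Fin.cons a v : Fin (j + 1) → ZMod 2) = (if a = 1 then 1 else 0) + wt v := by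
  rw [wt_eq_sum, wt_eq_sum, Fin.sum_univ_succ]
  simp only [Fin.cons_zero, Fin.cons_succ]

theorem sum_z2 (f : ZMod 2 → ℤ) : ∑ a, f a = f 0 + f 1 := Fin.sum_univ_two f

theorem sum_cons {j : ℕ} (F : (Fin (j + 1) → ZMod 2) → ℤ) :
    ∑ v, F v = ∑ v' : Fin j → ZMod 2, F (Fin.cons 0 v') + ∑ v' : Fin j → ZMod 2, F (Fin.cons 1 v') := by
  rw [← Fintype.sum_equiv (Fin.consEquiv (fun _ : Fin (j + 1) => ZMod 2))
    (fun p : ZMod 2 × (Fin j → ZMod 2) => F (Fin.cons p.1 p.2)) F (fun p => rfl)]
  rw [Fintype.sum_prod_type, sum_z2]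

theorem AA_succ (j s : ℕ) : AA (j + 1) s = AA j s + AA j (s + 1) := by
  unfold AA
  rw [sum_cons]
  congr 1
  · refine Finset.sum_congr rfl fun v _ => ?_
    rw [wt_cons, if_neg (by decide), zero_add]
  · refine Finset.sum_congr rfl fun v _ => ?_
    rw [wt_cons, if_pos rfl, add_assoc]

theorem AA_add_two (j s : ℕ) : AA j (s + 2) = - AA j s := by
  unfold AA
  rw [← Finset.sum_neg_distrib]
  refine Finset.sum_congr rfl fun v _ => ?_
  rw [← gg_add_two]
  congr 1
  ring

theorem AA_zero (s : ℕ) : AA 0 s = gg s := by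
  unfold AA
  rw [Fintype.sum_unique]
  have : ∀ v : Fin 0 → ZMod 2, wt v = 0 := by
    intro v
    unfold wt
    simp
  rw [this, add_zero]

theorem AA_four (j s : ℕ) : AA (j + 4) s = -4 * AA j s := by
  have e1 : AA (j + 4) s = AA j s + 4 * AA j (s + 1) + 6 * AA j (s + 2) + 4 * AA j (s + 3)
      + AA j (s + 4) := by
    rw [show j + 4 = j + 1 + 1 + 1 + 1 from rfl]
    simp only [AA_succ]
    ring
  have e3 : AA j (s + 3) = - AA j (s + 1) := AA_add_two j (s + 1)
  have e4 : AA j (s + 4) = AA j s := by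
    have h := AA_add_two j (s + 2)
    rw [AA_add_two j s] at h
    rw [show s + 4 = s + 2 + 2 from rfl, h, neg_neg]
  rw [e1, AA_add_two, e3, e4]
  ring

theorem AA_three : AA 3 0 = -2 := by
  rw [show (3 : ℕ) = 0 + 1 + 1 + 1 from rfl]
  simp only [AA_succ, AA_zero]
  unfold gg
  norm_num [Nat.even_add_one]

theorem AA_val (k : ℕ) : AA (4 * k + 3) 0 = -2 * (-4) ^ k := by
  induction k with
  | zero => simpa using AA_three
  | succ k ih =>
    rw [show 4 * (k + 1) + 3 = (4 * k + 3) + 4 by ring, AA_four, ih, pow_succ]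
    ring

theorem chi2_natCast (n : ℕ) : chi2 ((n : ℕ) : ZMod 2) = (-1) ^ n := by
  rcases Nat.even_or_odd n with h | h
  · rw [(ZMod.natCast_eq_zero_iff_even).mpr h, chi2_zero, h.neg_one_pow]
  · have : ((n : ℕ) : ZMod 2) = 1 := (ZMod.natCast_eq_one_iff_odd).mpr h
    rw [this, h.neg_one_pow]
    rfl

noncomputable instance instFintypeE0 (N : ℕ) : Fintype ↥(E0 N) := Fintype.ofFinite _

/-- the character sum of the half-weight form on `E0` -/
theorem arfSum_Q0 (N : ℕ) : arfSum (fun w : ↥(E0 N) => Q0 N w) = AA N 0 := by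
  classical
  unfold arfSum
  have h1 : ∑ w : ↥(E0 N), chi2 (Q0 N w) =
      ∑ v : Fin (N + 1) → ZMod 2, if v ∈ E0 N then chi2 (hq v) else 0 := by
    rw [← Finset.sum_filter]
    symm
    apply Finset.sum_subtype (Finset.univ.filter (fun v => v ∈ E0 N))
      (fun v => by simp) (fun v => chi2 (hq v))
  rw [h1, sum_cons]
  have h2 : ∀ v' : Fin N → ZMod 2,
      (if (Fin.cons 1 v' : Fin (N + 1) → ZMod 2) ∈ E0 N then
        chi2 (hq (Fin.cons 1 v' : Fin (N + 1) → ZMod 2)) else 0) = 0 := by
    intro v'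
    rw [if_neg]
    intro h
    have := h.2
    rw [Fin.cons_zero] at this
    exact one_ne_zero this
  have h3 : ∀ v' : Fin N → ZMod 2,
      (if (Fin.cons 0 v' : Fin (N + 1) → ZMod 2) ∈ E0 N then
        chi2 (hq (Fin.cons 0 v' : Fin (N + 1) → ZMod 2)) else 0) = gg (0 + wt v') := by
    intro v'
    have hw : wt (Fin.cons 0 v' : Fin (N + 1) → ZMod 2) = wt v' := by
      rw [wt_cons, if_neg (by decide), zero_add]
    have hmem : (Fin.cons 0 v' : Fin (N + 1) → ZMod 2) ∈ E0 N ↔ Even (wt v') := by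
      rw [mem_E0, ← even_wt_iff, hw, Fin.cons_zero]
      simp
    unfold gg
    rw [zero_add]
    by_cases h : Even (wt v')
    · rw [if_pos (hmem.mpr h), if_pos h]
      unfold hq
      rw [hw, chi2_natCast]
    · rw [if_neg (fun hh => h (hmem.mp hh)), if_neg h]
  simp only [h2, h3, Finset.sum_const_zero, add_zero]
  rfl

theorem arfSum_minus (k : ℕ) :
    arfSum (Cfsg.quadFormMinus k (ZMod 2) 1 1) = -(2 ^ (k + 1)) := by
  classical
  unfold arfSum
  rw [← Fintype.sum_equiv (Equiv.sumArrowEquivProdArrow (Fin k ⊕ Fin k) (Fin 2) (ZMod 2)).symm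
    (fun p : ((Fin k ⊕ Fin k) → ZMod 2) × (Fin 2 → ZMod 2) =>
      chi2 (Cfsg.quadFormPlus k (ZMod 2) p.1) *
        chi2 (p.2 0 ^ 2 + 1 * p.2 0 * p.2 1 + 1 * p.2 1 ^ 2)) _ (by
      intro p
      simp [Cfsg.quadFormMinus, Cfsg.quadFormPlus, chi2_add, Equiv.sumArrowEquivProdArrow])]
  rw [Fintype.sum_prod_type]
  simp_rw [← Finset.mul_sum]
  rw [← Finset.sum_mul]
  have h1 := arfSum_plus k
  unfold arfSum at h1
  rw [h1]
  have h2 : ∑ z : Fin 2 → ZMod 2, chi2 (z 0 ^ 2 + 1 * z 0 * z 1 + 1 * z 1 ^ 2) = -2 := by decide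
  rw [h2, pow_succ]
  ring

end arf

end Cfsg.Agent.Lib.Helper15.EvenWeight
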