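import Mathlib
set_option autoImplicit false

/-!
# S2081: further abstract lemmas

* `selfcentralizing_of_sylow`: if one element of prime order `p` (with `p ∥ |F|`) is self-centralising, all are;
* `no_fix_of_dvd`: an element of prime order `p` of a group `H` with `p² ∤ |H|` has no fixed point in an orbit of
  length divisible by `p`;
* `mem_even_closure`: in a group generated by involutions `l` and `X`, every element is in `M` or `l M`, where
  `M = ⟨l x : x ∈ X⟩`;
* `exists_pow_of_mem_closure_three`: the elements of an abelian group `⟨n, l, a⟩`.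
-/

namespace Cfsg.Agent.Lib.Helper15.F24OAbs5

section Sylow
variable {F : Type*} [Group F] [Finite F]

theorem selfcentralizing_of_sylow (p : ℕ) [hp : Fact p.Prime] (hfac : (Nat.card F).factorization p = 1)
    (y0 : F) (hy0 : orderOf y0 = p) (hC : ∀ c : F, c * y0 = y0 * c → c ∈ Subgroup.zpowers y0)
    (y : F) (hy : orderOf y = p) (c : F) (hc : c * y = y * c) : c ∈ Subgroup.zpowers y := by
  have hcardP : Nat.card (Subgroup.zpowers y0) = p ^ (Nat.card F).factorization p := by
    rw [Nat.card_zpowers, hy0, hfac, pow_one]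
  have hcardQ : Nat.card (Subgroup.zpowers y) = p ^ (Nat.card F).factorization p := by
    rw [Nat.card_zpowers, hy, hfac, pow_one]
  let P : Sylow p F := Sylow.ofCard _ hcardP
  let Q : Sylow p F := Sylow.ofCard _ hcardQ
  obtain ⟨g, hg⟩ := MulAction.exists_smul_eq F Q P
  -- `g Q g⁻¹ = P`
  have hmem : ∀ x : F, x ∈ Subgroup.zpowers y0 ↔ g⁻¹ * x * g ∈ Subgroup.zpowers y := by
    intro x
    have h1 : x ∈ (P : Subgroup F) ↔ x ∈ ((g • Q : Sylow p F) : Subgroup F) := by rw [hg]
    rw [Sylow.coe_subgroup_smul, Subgroup.mem_pointwise_smul_iff_inv_smul_mem] at h1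
    have e : (MulAut.conj g)⁻¹ • x = g⁻¹ * x * g := by
      rw [← map_inv, MulAut.smul_def, MulAut.conj_apply, inv_inv]
    rw [e] at h1
    exact h1
  -- `y0` is conjugate to a power of `y`
  have h0 : g⁻¹ * y0 * g ∈ Subgroup.zpowers y := (hmem y0).mp (Subgroup.mem_zpowers y0)
  obtain ⟨k, hk⟩ := Subgroup.mem_zpowers_iff.mp h0
  -- `g c g⁻¹` commutes with `y0`
  have hcomm : (g * c * g⁻¹) * y0 = y0 * (g * c * g⁻¹) := by
    have e : y0 = g * y ^ k * g⁻¹ := by rw [hk]; group
    have hck : c * y ^ k = y ^ k * c := ((Commute.zpow_right (show Commute c y from hc) k)).eq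
    rw [e]
    calc g * c * g⁻¹ * (g * y ^ k * g⁻¹) = g * (c * y ^ k) * g⁻¹ := by group
      _ = g * (y ^ k * c) * g⁻¹ := by rw [hck]
      _ = g * y ^ k * g⁻¹ * (g * c * g⁻¹) := by group
  have h1 := hC _ hcomm
  rw [hmem] at h1
  have e : g⁻¹ * (g * c * g⁻¹) * g = c := by group
  rw [e] at h1
  exact h1

end Sylow

section Fix
variable {P : Type*} [Group P] {X : Type*} [MulAction P X]

theorem no_fix_of_dvd (H : Subgroup P) [Finite H] (p : ℕ) (hH : ¬ p ^ 2 ∣ Nat.card H)
    (y : P) (hyH : y ∈ H) (hy : orderOf y = p) (x : X) (hx : p ∣ Nat.card (MulAction.orbit H x)) :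
    y • x ≠ x := by
  intro hfix
  -- the stabiliser of `x` in `H`
  have h1 : Nat.card (MulAction.orbit H x) * Nat.card (MulAction.stabilizer H x) = Nat.card H := by
    rw [Nat.card_congr (MulAction.orbitEquivQuotientStabilizer H x)]
    exact (Subgroup.card_eq_card_quotient_mul_card_subgroup (MulAction.stabilizer H x)).symm
  have hmem : (⟨y, hyH⟩ : H) ∈ MulAction.stabilizer H x := by
    rw [MulAction.mem_stabilizer_iff]
    exact hfix
  have hord : orderOf (⟨y, hyH⟩ : H) = p := by
    rw [← hy]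
    exact Subgroup.orderOf_mk y hyH
  have h2 : p ∣ Nat.card (MulAction.stabilizer H x) := by
    have := Subgroup.orderOf_dvd_natCard (MulAction.stabilizer H x) hmem
    rwa [hord] at this
  apply hH
  rw [← h1, pow_two]
  exact Nat.mul_dvd_mul hx h2

end Fix

section Even
variable {K : Type*} [Group K]

/-- In the group generated by the involutions `l` and `X`, every element lies in `M` or in `l M`, where `M` is
generated by the products `l x`. -/
theorem mem_even_closure (l : K) (X : Set K) (hl : l * l = 1) (hX : ∀ x ∈ X, x * x = 1) (g : K)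
    (hg : g ∈ Subgroup.closure (insert l X)) :
    g ∈ Subgroup.closure {z | ∃ x ∈ X, z = l * x} ∨ l * g ∈ Subgroup.closure {z | ∃ x ∈ X, z = l * x} := by
  set M := Subgroup.closure {z | ∃ x ∈ X, z = l * x} with hM
  have hlx : ∀ x ∈ X, l * x ∈ M := fun x hx => Subgroup.subset_closure ⟨x, hx, rfl⟩
  have hinv : ∀ x ∈ insert l X, x⁻¹ = x := by
    intro x hx
    rcases hx with rfl | hx
    · exact inv_eq_of_mul_eq_one_left hl
    · exact inv_eq_of_mul_eq_one_left (hX x hx)
  have step : ∀ x ∈ insert l X, ∀ y : K, (y ∈ M ∨ l * y ∈ M) → (x * y ∈ M ∨ l * (x * y) ∈ M) := by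
    intro x hx y hy
    rcases hx with rfl | hx
    · rcases hy with hy | hy
      · right
        rw [← mul_assoc, hl, one_mul]
        exact hy
      · left
        exact hy
    · rcases hy with hy | hy
      · right
        rw [← mul_assoc]
        exact M.mul_mem (hlx x hx) hy
      · left
        have e : x * y = (l * x)⁻¹ * (l * y) := by
          rw [mul_inv_rev, hinv x (Set.mem_insert_of_mem _ hx), hinv l (Set.mem_insert _ _), mul_assoc,
            ← mul_assoc l l y, hl, one_mul]
        rw [e]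
        exact M.mul_mem (M.inv_mem (hlx x hx)) hy
  induction hg using Subgroup.closure_induction_left with
  | one => exact Or.inl M.one_mem
  | mul_left x hx y _ ih => exact step x hx y ih
  | inv_mul_cancel x hx y _ ih =>
    rw [hinv x hx]
    exact step x hx y ih

/-- the elements of the abelian group generated by `n` (of order dividing 16) and the involutions `l`, `a` -/
theorem exists_pow_of_mem_closure_three (n l a : K) (hnl : Commute n l) (hna : Commute n a) (hla : Commute l a)
    (hn : n ^ 16 = 1) (hl : l ^ 2 = 1) (ha : a ^ 2 = 1) (g : K) (hg : g ∈ Subgroup.closure {n, l, a}) :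
    ∃ i e f : ℕ, g = n ^ i * l ^ e * a ^ f := by
  induction hg using Subgroup.closure_induction with
  | mem x hx =>
    rcases hx with rfl | rfl | rfl
    · exact ⟨1, 0, 0, by simp⟩
    · exact ⟨0, 1, 0, by simp⟩
    · exact ⟨0, 0, 1, by simp⟩
  | one => exact ⟨0, 0, 0, by simp⟩
  | mul x y _ _ hx hy =>
    obtain ⟨i, e, f, rfl⟩ := hx
    obtain ⟨i', e', f', rfl⟩ := hy
    refine ⟨i + i', e + e', f + f', ?_⟩
    have c1 : Commute (a ^ f) (n ^ i') := (hna.pow_pow i' f).symm
    have c2 : Commute (a ^ f) (l ^ e') := (hla.pow_pow e' f).symm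
    have c3 : Commute (l ^ e) (n ^ i') := (hnl.pow_pow i' e).symm
    calc n ^ i * l ^ e * a ^ f * (n ^ i' * l ^ e' * a ^ f')
        = n ^ i * l ^ e * (a ^ f * n ^ i') * l ^ e' * a ^ f' := by simp only [mul_assoc]
      _ = n ^ i * l ^ e * (n ^ i' * a ^ f) * l ^ e' * a ^ f' := by rw [c1.eq]
      _ = n ^ i * (l ^ e * n ^ i') * (a ^ f * l ^ e') * a ^ f' := by simp only [mul_assoc]
      _ = n ^ i * (n ^ i' * l ^ e) * (l ^ e' * a ^ f) * a ^ f' := by rw [c3.eq, c2.eq]
      _ = (n ^ i * n ^ i') * (l ^ e * l ^ e') * (a ^ f * a ^ f') := by simp only [mul_assoc]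
      _ = n ^ (i + i') * l ^ (e + e') * a ^ (f + f') := by rw [← pow_add, ← pow_add, ← pow_add]
  | inv x _ hx =>
    obtain ⟨i, e, f, rfl⟩ := hx
    refine ⟨15 * i, e, f, ?_⟩
    have hni : (n ^ i)⁻¹ = n ^ (15 * i) := by
      apply inv_eq_of_mul_eq_one_left
      rw [← pow_add, show 15 * i + i = 16 * i by ring, pow_mul, hn, one_pow]
    have hle : (l ^ e)⁻¹ = l ^ e := by
      apply inv_eq_of_mul_eq_one_left
      rw [← pow_add, ← two_mul, pow_mul, hl, one_pow]
    have hae : (a ^ f)⁻¹ = a ^ f := by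
      apply inv_eq_of_mul_eq_one_left
      rw [← pow_add, ← two_mul, pow_mul, ha, one_pow]
    have c1 : Commute (a ^ f) (l ^ e) := (hla.pow_pow e f).symm
    have c2 : Commute (a ^ f) (n ^ (15 * i)) := (hna.pow_pow (15 * i) f).symm
    have c3 : Commute (l ^ e) (n ^ (15 * i)) := (hnl.pow_pow (15 * i) e).symm
    rw [mul_inv_rev, mul_inv_rev, hni, hle, hae]
    calc a ^ f * (l ^ e * n ^ (15 * i)) = a ^ f * (n ^ (15 * i) * l ^ e) := by rw [c3.eq]
      _ = (a ^ f * n ^ (15 * i)) * l ^ e := by rw [mul_assoc]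
      _ = n ^ (15 * i) * (a ^ f * l ^ e) := by rw [c2.eq, mul_assoc]
      _ = n ^ (15 * i) * l ^ e * a ^ f := by rw [c1.eq, mul_assoc]

end Even

/-- the exponent of a prime in a number which it divides exactly once -/
theorem factorization_eq_one (N m p : ℕ) (hp : p.Prime) (hN : N = p * m) (hm : ¬ p ∣ m) (hm0 : m ≠ 0) :
    N.factorization p = 1 := by
  rw [hN, Nat.factorization_mul hp.ne_zero hm0, Finsupp.add_apply, hp.factorization_self,
    Nat.factorization_eq_zero_of_not_dvd hm]

end Cfsg.Agent.Lib.Helper15.F24OAbs5
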