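import Cfsg.Agent.Lib.Helper15.F24OCentDefs
set_option autoImplicit false
set_option maxRecDepth 100000

/-!
# S2081: the centraliser of the element of order 16 in the permutation group of degree 306936

The element `nπ` (the path `nP`) of the group `Γ` of the coset table of Fi₂₄ has the fixed points `0, 6`; its square
has the fixed points `0, 6, 57176, 72450`; its fourth power has the eight fixed points `E`.  An element of `Γ`
commuting with `nπ` is, after multiplication with a power of `nπ`, in the stabiliser of seven points of `E`, or is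
`g11` times such an element; these elements are enumerated by Schreier trees, and the Boolean checks show that
only the sixteen elements of `⟨nπ⁴, l, a⟩` commute with `nπ`.
-/

namespace Cfsg.Agent.Lib.Helper15.F24OCent
open Cfsg.Agent.Lib.Helper28.TC2Upper Cfsg.Agent.Lib.Helper28.TC2Lower Cfsg.Agent.Lib.Helper28.TC2Bsgs
open Cfsg.Agent.Lib.Helper28.TC2BsgsW
open Cfsg.Agent.Lib.Helper15.F24OTree Cfsg.Agent.Lib.Helper15.F24OData Cfsg.Agent.Lib.Helper15.F24OCentDefs

/-- `m` copies of a path -/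
noncomputable def rep (m : ℕ) (w : List ℕ) : List ℕ := @Nat.rec (fun _ => List ℕ) [] (fun _ ih => w ++ ih) m

theorem rep_zero (w : List ℕ) : rep 0 w = [] := rfl
theorem rep_succ (m : ℕ) (w : List ℕ) : rep (m + 1) w = w ++ rep m w := rfl

/-- the path of the `k`-th of the sixteen central elements: `a ^ (k % 2)`, `l ^ (k / 2 % 2)`, `nP ^ (4 * (k / 4))` -/
noncomputable def zP (k : ℕ) : List ℕ :=
  rep (Nat.mod k 2) [2] ++ (rep (Nat.mod (Nat.div k 2) 2) [0] ++ rep (Nat.div k 4) (nP ++ nP ++ nP ++ nP))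

/-- the Boolean checks on the coset table -/
structure Checks (T : Table) : Prop where
  n_eq : T.n = 306936
  k_eq : T.k = 12
  inv_id : allLoop (fun l => Nat.beq (T.invl l) l) 12 = true
  root5 : tree5.pt 0 = 57178
  root6 : tree6.pt 0 = 57176
  root7 : tree7.pt 0 = 105
  root8 : tree8.pt 0 = 216918
  gens5 : BT.all (genChk T [510, 113, 24, 6, 0]) tree5.gens = true
  gens6 : BT.all (genChk T [57178, 510, 113, 24, 6, 0]) tree6.gens = true
  gens7 : BT.all (genChk T [57176, 57178, 510, 113, 24, 6, 0]) tree7.gens = true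
  gens8 : BT.all (genChk T [105, 57176, 57178, 510, 113, 24, 6, 0]) tree8.gens = true
  t5 : tree5.treeOK T = true
  t6 : tree6.treeOK T = true
  t7 : tree7.treeOK T = true
  t8 : tree8.treeOK T = true
  nd5 : tree5.nodupOK = true
  nd6 : tree6.nodupOK = true
  nd7 : tree7.nodupOK = true
  nd8 : tree8.nodupOK = true
  nP_lt : allL (fun l => Nat.ble (Nat.succ l) 12) nP = true
  g11P_lt : allL (fun l => Nat.ble (Nat.succ l) 12) g11P = true
  dP_lt : allL (fun l => Nat.ble (Nat.succ l) 12) dP = true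
  n0P_lt : allL (fun l => Nat.ble (Nat.succ l) 12) n0P = true
  dP_E : [0, 6, 24, 113, 510, 57178, 57176, 72450].map (T.walkT dP) =
    [0, 127314, 127252, 89906, 171552, 127883, 127268, 220767]
  nP_E : [0, 6, 24, 113, 510, 57178, 57176, 72450].map (T.walkT nP) = [0, 6, 113, 510, 57178, 24, 72450, 57176]
  g11P_E : [0, 6, 24, 113, 510, 57178, 57176, 72450].map (T.walkT g11P) =
    [6, 0, 24, 113, 510, 57178, 72450, 57176]
  nP_r : T.walkT nP 105 = 216918
  comm_l : [0, 6, 24, 113, 510, 57178, 57176, 105, 216918].map (T.walkT ([0] ++ nP)) =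
    [0, 6, 24, 113, 510, 57178, 57176, 105, 216918].map (T.walkT (nP ++ [0]))
  comm_a : [0, 6, 24, 113, 510, 57178, 57176, 105, 216918].map (T.walkT ([2] ++ nP)) =
    [0, 6, 24, 113, 510, 57178, 57176, 105, 216918].map (T.walkT (nP ++ [2]))
  z_fix : allL (fun q => Nat.beq (T.walkT (nP ++ nP ++ nP ++ nP) q) q) [0, 6, 24, 113, 510, 57178, 57176] = true
  l_fix : allL (fun q => Nat.beq (T.walkT [0] q) q) [0, 6, 24, 113, 510, 57178, 57176] = true
  a_fix : allL (fun q => Nat.beq (T.walkT [2] q) q) [0, 6, 24, 113, 510, 57178, 57176] = true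
  zimg_eq : zimg = [0, 1, 2, 3, 4, 5, 6, 7, 8, 9, 10, 11, 12, 13, 14, 15].map (fun k => T.walkT (zP k) 105)
  c00 : ∀ i, i < 1536 → chk00 T i = true
  c11 : ∀ i, i < 1536 → chk11 T i = true
  fix4 : ∀ p, p < 306936 → T.walkT (n0P ++ n0P ++ n0P ++ n0P) p = p → p ∈ E0

/-! ### Paths and permutations -/

theorem pathProd_append {K : Type*} [Monoid K] (γ : ℕ → K) (u v : List ℕ) :
    pathProd γ (u ++ v) = pathProd γ v * pathProd γ u := by
  induction u with
  | nil => show pathProd γ v = pathProd γ v * 1; rw [mul_one]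
  | cons l u ih =>
    show pathProd γ (u ++ v) * γ l = pathProd γ v * (pathProd γ u * γ l)
    rw [ih, mul_assoc]

theorem pathProd_rep {K : Type*} [Monoid K] (γ : ℕ → K) (m : ℕ) (w : List ℕ) :
    pathProd γ (rep m w) = pathProd γ w ^ m := by
  induction m with
  | zero => rw [rep_zero, pow_zero]; rfl
  | succ m ih => rw [rep_succ, pathProd_append, ih, pow_succ]

theorem pathProd_singleton {K : Type*} [Monoid K] (γ : ℕ → K) (l : ℕ) : pathProd γ [l] = γ l := by
  show 1 * γ l = γ l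
  rw [one_mul]

theorem mem_rep {m : ℕ} {w : List ℕ} {l : ℕ} (h : l ∈ rep m w) : l ∈ w := by
  induction m with
  | zero => exact absurd h (by simp [rep_zero])
  | succ m ih =>
    rw [rep_succ, List.mem_append] at h
    rcases h with h | h
    · exact h
    · exact ih h

theorem mem_toFin {n : ℕ} {bs : List ℕ} {q : Fin n} : q ∈ toFin n bs ↔ q.val ∈ bs := by
  constructor
  · exact val_mem_of_mem_toFin
  · intro h
    unfold toFin
    rw [List.mem_filterMap]
    exact ⟨q.val, h, by rw [dif_pos q.2]⟩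

theorem mem_pstab_toFin {n : ℕ} (Γ : Subgroup (Equiv.Perm (Fin n))) (bs : List ℕ) (π : Equiv.Perm (Fin n)) :
    π ∈ pstab Γ (toFin n bs) ↔ π ∈ Γ ∧ ∀ x ∈ bs, ∀ hx : x < n, π ⟨x, hx⟩ = ⟨x, hx⟩ := by
  rw [mem_pstab]
  constructor
  · rintro ⟨h1, h2⟩
    exact ⟨h1, fun x hx hlt => h2 _ (mem_toFin.mpr hx)⟩
  · rintro ⟨h1, h2⟩
    exact ⟨h1, fun b hb => h2 b.val (mem_toFin.mp hb) b.2⟩


/-! ### The wrappers of the tree lemmas -/

section Wrap
variable {T : Table} (hT : T.OK) (Γ : Subgroup (Equiv.Perm (Fin T.n)))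
  (hΓ : ∀ l, l < T.k → Table.sigma hT l ∈ Γ) (hinv : ∀ l, l < T.k → T.invl l = l)

theorem gensOK_of_chk (S : STree) (bs : List ℕ) (h : BT.all (genChk T bs) S.gens = true) :
    GensOK S (toFin T.n bs) :=
  BT.All_of_all (fun w hw => by
    rw [genChk_iff] at hw
    exact ⟨hw.1, fun q hq => hw.2 q.val (mem_toFin.mp hq)⟩) _ h

include hΓ hinv in
theorem levelN (S : STree) (bs : List ℕ) (r sz : ℕ) (hr : S.pt 0 = r) (hsz : S.size = sz) (hrn : r < T.n)
    (hg : BT.all (genChk T bs) S.gens = true) (ht : S.treeOK T = true) (hnd : S.nodupOK = true) :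
    sz * Nat.card (pstab Γ (toFin T.n (r :: bs))) ≤ Nat.card (pstab Γ (toFin T.n bs)) := by
  have hroot : S.pt 0 < T.n := by rw [hr]; exact hrn
  have := level_le hT hinv hΓ (gensOK_of_chk S bs hg) ht hnd hroot
  rw [toFin_cons hrn, ← hsz]
  have e : (⟨S.pt 0, hroot⟩ : Fin T.n) = ⟨r, hrn⟩ := Fin.ext hr
  rw [e] at this
  exact this

include hΓ hinv in
theorem exact_orbitN (S : STree) (bs : List ℕ) (r sz : ℕ) (hr : S.pt 0 = r) (hsz : S.size = sz) (hrn : r < T.n)
    (hg : BT.all (genChk T bs) S.gens = true) (ht : S.treeOK T = true) (hnd : S.nodupOK = true)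
    (hcard : Nat.card (pstab Γ (toFin T.n bs)) = sz * Nat.card (pstab Γ (toFin T.n (r :: bs))))
    (c : Equiv.Perm (Fin T.n)) (hc : c ∈ pstab Γ (toFin T.n bs)) :
    ∃ i, i < sz ∧ (c ⟨r, hrn⟩).val = S.pt i := by
  have hroot : S.pt 0 < T.n := by rw [hr]; exact hrn
  have e : (⟨S.pt 0, hroot⟩ : Fin T.n) = ⟨r, hrn⟩ := Fin.ext hr
  rw [toFin_cons hrn, ← hsz, ← e] at hcard
  have := exact_orbit hT hinv hΓ (gensOK_of_chk S bs hg) ht hnd hroot hcard c hc
  rw [e, hsz] at this
  exact this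

include hΓ hinv in
theorem transN (S : STree) (bs : List ℕ) (r sz : ℕ) (hr : S.pt 0 = r) (hsz : S.size = sz) (hrn : r < T.n)
    (hg : BT.all (genChk T bs) S.gens = true) (ht : S.treeOK T = true) (i : ℕ) (hi : i < sz) :
    ∃ π ∈ pstab Γ (toFin T.n bs), (∀ x : Fin T.n, (π x).val = S.dn T sz i x.val) ∧
      (∀ x : Fin T.n, (π⁻¹ x).val = S.up T sz i x.val) ∧ (π ⟨r, hrn⟩).val = S.pt i := by
  have hroot : S.pt 0 < T.n := by rw [hr]; exact hrn
  have e : (⟨S.pt 0, hroot⟩ : Fin T.n) = ⟨r, hrn⟩ := Fin.ext hr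
  have := exists_perm_root hT hinv hΓ (gensOK_of_chk S bs hg) ht hroot i (by rw [hsz]; exact hi)
  rw [e, hsz] at this
  exact this

end Wrap

/-! ### Permutations of paths -/

section Perm
variable {T : Table} (hT : T.OK)

/-- the permutation of a path -/
noncomputable def pp (w : List ℕ) : Equiv.Perm (Fin T.n) := pathProd (Table.sigma hT) w

theorem pp_val (w : List ℕ) (hw : ∀ l ∈ w, l < T.k) (p : Fin T.n) : (pp hT w p).val = T.walkT w p.val :=
  Table.pathProd_sigma_apply hT w hw p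

theorem pp_append (u v : List ℕ) : pp hT (u ++ v) = pp hT v * pp hT u := pathProd_append _ u v

theorem pp_rep (m : ℕ) (w : List ℕ) : pp hT (rep m w) = pp hT w ^ m := pathProd_rep _ m w

theorem pp_singleton (l : ℕ) : pp hT [l] = Table.sigma hT l := pathProd_singleton _ l

theorem pp_mem (Γ : Subgroup (Equiv.Perm (Fin T.n))) (hΓ : ∀ l, l < T.k → Table.sigma hT l ∈ Γ)
    (w : List ℕ) (hw : ∀ l ∈ w, l < T.k) : pp hT w ∈ Γ :=
  pathProd_mem Γ _ w (fun l hl => hΓ l (hw l hl))

theorem pp_inv_val (hinv : ∀ l, l < T.k → T.invl l = l) (w : List ℕ) (hw : ∀ l ∈ w, l < T.k) (p : Fin T.n) :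
    ((pp hT w)⁻¹ p).val = T.walkT w.reverse p.val :=
  pathProd_inv_apply hT hinv w hw p

theorem pp_reverse (hinv : ∀ l, l < T.k → T.invl l = l) (w : List ℕ) (hw : ∀ l ∈ w, l < T.k) :
    pp hT w.reverse = (pp hT w)⁻¹ := by
  ext p
  rw [pp_val hT _ (fun l hl => hw l (List.mem_reverse.mp hl)), pp_inv_val hT hinv w hw]

end Perm

/-! ### Commuting permutations -/

section Comm
variable {X : Type*}

theorem fixed_iff {c m : Equiv.Perm X} (h : Commute c m) (p : X) : m (c p) = c p ↔ m p = p := by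
  have e : m (c p) = c (m p) := by
    rw [← Equiv.Perm.mul_apply, ← Equiv.Perm.mul_apply, h.eq]
  rw [e]
  exact c.injective.eq_iff

theorem map_comm {c m : Equiv.Perm X} (h : Commute c m) (p : X) : c (m p) = m (c p) := by
  rw [← Equiv.Perm.mul_apply, ← Equiv.Perm.mul_apply, h.eq]

end Comm


/-! ### The chain of stabilisers -/

/-- the base points -/
def B5 : List ℕ := [510, 113, 24, 6, 0]
/-- the base points -/
def B6 : List ℕ := 57178 :: B5
/-- the base points -/
def B7 : List ℕ := 57176 :: B6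
/-- the base points -/
def B8 : List ℕ := 105 :: B7
/-- the base points -/
def B9 : List ℕ := 216918 :: B8

section Main
variable {T : Table} (hT : T.OK) (C : Checks T) (Γ : Subgroup (Equiv.Perm (Fin T.n)))
  (hΓ : ∀ l, l < T.k → Table.sigma hT l ∈ Γ)
  (hcard : Nat.card Γ ≤ 2510411418381323442585600)
  (hlow : 306936 * 31671 * 3510 * 693 * 180 * Nat.card (pstab Γ (toFin T.n [510, 113, 24, 6, 0])) ≤ Nat.card Γ)

include C in
theorem hinv : ∀ l, l < T.k → T.invl l = l := by
  intro l hl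
  rw [C.k_eq] at hl
  exact (Data.nbeq_iff _ _).mp ((allLoop_eq_true _ _).mp C.inv_id l hl)

include C in
theorem lt_of_allL {w : List ℕ} (h : allL (fun l => Nat.ble (Nat.succ l) 12) w = true) : ∀ l ∈ w, l < T.k := by
  intro l hl
  have := (allL_iff _ _).mp h l hl
  rw [Nat.ble_eq] at this
  rw [C.k_eq]
  omega

/-- a point -/
def pnt (x : ℕ) (hx : x < 306936) : Fin T.n := ⟨x, by rw [C.n_eq]; exact hx⟩

theorem pnt_val (x : ℕ) (hx : x < 306936) : (pnt C x hx).val = x := rfl

theorem eq_pnt (q : Fin T.n) (x : ℕ) (hx : x < 306936) (h : q.val = x) : q = pnt C x hx := Fin.ext h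

theorem pp_pnt (w : List ℕ) (hw : ∀ l ∈ w, l < T.k) (x y : ℕ) (hx : x < 306936) (hy : y < 306936)
    (h : T.walkT w x = y) : pp hT w (pnt C x hx) = pnt C y hy :=
  Fin.ext (by rw [pp_val hT w hw]; exact h)

include C hΓ hcard hlow in
theorem exact_chain :
    Nat.card (pstab Γ (toFin T.n B5)) = 3 * Nat.card (pstab Γ (toFin T.n B6)) ∧
    Nat.card (pstab Γ (toFin T.n B6)) = 1 * Nat.card (pstab Γ (toFin T.n B7)) ∧
    Nat.card (pstab Γ (toFin T.n B7)) = 1536 * Nat.card (pstab Γ (toFin T.n B8)) ∧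
    Nat.card (pstab Γ (toFin T.n B8)) = 128 * Nat.card (pstab Γ (toFin T.n B9)) ∧
    Nat.card (pstab Γ (toFin T.n B9)) = 1 := by
  have h5 := levelN hT Γ hΓ (hinv C) tree5 B5 57178 3 C.root5 rfl (by rw [C.n_eq]; norm_num) C.gens5 C.t5 C.nd5
  have h6 := levelN hT Γ hΓ (hinv C) tree6 B6 57176 1 C.root6 rfl (by rw [C.n_eq]; norm_num) C.gens6 C.t6 C.nd6
  have h7 := levelN hT Γ hΓ (hinv C) tree7 B7 105 1536 C.root7 rfl (by rw [C.n_eq]; norm_num) C.gens7 C.t7 C.nd7
  have h8 := levelN hT Γ hΓ (hinv C) tree8 B8 216918 128 C.root8 rfl (by rw [C.n_eq]; norm_num) C.gens8 C.t8 C.nd8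
  have h9 : 1 ≤ Nat.card (pstab Γ (toFin T.n B9)) := one_le_card _ _
  have hlow' : 306936 * 31671 * 3510 * 693 * 180 * Nat.card (pstab Γ (toFin T.n B5)) ≤ Nat.card Γ := hlow
  change 3 * Nat.card (pstab Γ (toFin T.n B6)) ≤ _ at h5
  change 1 * Nat.card (pstab Γ (toFin T.n B7)) ≤ _ at h6
  change 1536 * Nat.card (pstab Γ (toFin T.n B8)) ≤ _ at h7
  change 128 * Nat.card (pstab Γ (toFin T.n B9)) ≤ _ at h8
  generalize Nat.card (pstab Γ (toFin T.n B5)) = x5 at *
  generalize Nat.card (pstab Γ (toFin T.n B6)) = x6 at *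
  generalize Nat.card (pstab Γ (toFin T.n B7)) = x7 at *
  generalize Nat.card (pstab Γ (toFin T.n B8)) = x8 at *
  generalize Nat.card (pstab Γ (toFin T.n B9)) = x9 at *
  generalize Nat.card Γ = g at *
  omega

include C hΓ hcard hlow in
theorem bot9 : pstab Γ (toFin T.n B9) = ⊥ := by
  rw [Subgroup.eq_bot_iff_card]
  exact (exact_chain hT C Γ hΓ hcard hlow).2.2.2.2


include C hΓ hcard hlow in
/-- two elements of the group which agree on the nine base points are equal -/
theorem eq_of_agree (a b : Equiv.Perm (Fin T.n)) (ha : a ∈ Γ) (hb : b ∈ Γ)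
    (h : ∀ x ∈ B9, ∀ hx : x < T.n, a ⟨x, hx⟩ = b ⟨x, hx⟩) : a = b := by
  have hmem : b⁻¹ * a ∈ pstab Γ (toFin T.n B9) := by
    rw [mem_pstab_toFin]
    refine ⟨Γ.mul_mem (Γ.inv_mem hb) ha, fun x hx hlt => ?_⟩
    rw [Equiv.Perm.mul_apply, h x hx hlt, Equiv.Perm.inv_eq_iff_eq]
  rw [bot9 hT C Γ hΓ hcard hlow, Subgroup.mem_bot] at hmem
  exact (inv_mul_eq_one.mp hmem).symm

/-- the element of order 16 -/
noncomputable def nπ : Equiv.Perm (Fin T.n) := pp hT nP
/-- the element exchanging the two fixed points of `nπ` -/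
noncomputable def gπ : Equiv.Perm (Fin T.n) := pp hT g11P

include C hΓ hcard hlow in
theorem comm_sigma (l : ℕ) (hl : l < 12)
    (h : [0, 6, 24, 113, 510, 57178, 57176, 105, 216918].map (T.walkT ([l] ++ nP)) =
      [0, 6, 24, 113, 510, 57178, 57176, 105, 216918].map (T.walkT (nP ++ [l]))) :
    Commute (Table.sigma hT l) (nπ hT) := by
  have hnP := lt_of_allL C C.nP_lt
  have hlk : l < T.k := by rw [C.k_eq]; exact hl
  have hl1 : ∀ l' ∈ [l], l' < T.k := by
    intro l' hl'
    rw [List.mem_singleton] at hl'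
    rw [hl']; exact hlk
  have hw1 : ∀ l' ∈ nP ++ [l], l' < T.k := by
    intro l' hl'
    rw [List.mem_append] at hl'
    rcases hl' with h' | h'
    · exact hnP l' h'
    · exact hl1 l' h'
  have hw2 : ∀ l' ∈ [l] ++ nP, l' < T.k := by
    intro l' hl'
    rw [List.mem_append] at hl'
    rcases hl' with h' | h'
    · exact hl1 l' h'
    · exact hnP l' h'
  have e1 : Table.sigma hT l * nπ hT = pp hT (nP ++ [l]) := by rw [pp_append, pp_singleton]; rfl
  have e2 : nπ hT * Table.sigma hT l = pp hT ([l] ++ nP) := by rw [pp_append, pp_singleton]; rfl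
  show _ * _ = _ * _
  rw [e1, e2]
  apply eq_of_agree hT C Γ hΓ hcard hlow _ _ (pp_mem hT Γ hΓ _ hw1) (pp_mem hT Γ hΓ _ hw2)
  intro x hx hlt
  apply Fin.ext
  rw [pp_val hT _ hw1, pp_val hT _ hw2]
  have hx' : x ∈ [0, 6, 24, 113, 510, 57178, 57176, 105, 216918] := by
    simp only [B9, B8, B7, B6, B5, List.mem_cons, List.mem_nil_iff, or_false] at hx ⊢
    omega
  exact (List.map_inj_left.mp h x hx').symm

include C in
theorem n_val (q : Fin T.n) : (nπ hT q).val = T.walkT nP q.val := pp_val hT nP (lt_of_allL C C.nP_lt) q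

include C in
theorem n2_val (q : Fin T.n) : ((nπ hT ^ 2) q).val = T.walkT nP (T.walkT nP q.val) := by
  rw [pow_two, Equiv.Perm.mul_apply, n_val hT C, n_val hT C]

include C in
theorem n4_val (q : Fin T.n) :
    ((nπ hT ^ 4) q).val = T.walkT nP (T.walkT nP (T.walkT nP (T.walkT nP q.val))) := by
  have e : nπ hT ^ 4 = nπ hT ^ 2 * nπ hT ^ 2 := by rw [← pow_add]
  rw [e, Equiv.Perm.mul_apply, n2_val hT C, n2_val hT C]

include C in
theorem nP_tab : T.walkT nP 0 = 0 ∧ T.walkT nP 6 = 6 ∧ T.walkT nP 24 = 113 ∧ T.walkT nP 113 = 510 ∧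
    T.walkT nP 510 = 57178 ∧ T.walkT nP 57178 = 24 ∧ T.walkT nP 57176 = 72450 ∧ T.walkT nP 72450 = 57176 := by
  have := C.nP_E
  simp only [List.map_cons, List.map_nil, List.cons.injEq, and_true] at this
  exact this

include C in
theorem g11P_tab : T.walkT g11P 0 = 6 ∧ T.walkT g11P 6 = 0 ∧ T.walkT g11P 24 = 24 ∧ T.walkT g11P 113 = 113 ∧
    T.walkT g11P 510 = 510 ∧ T.walkT g11P 57178 = 57178 ∧ T.walkT g11P 57176 = 72450 ∧
    T.walkT g11P 72450 = 57176 := by
  have := C.g11P_E
  simp only [List.map_cons, List.map_nil, List.cons.injEq, and_true] at this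
  exact this

include C in
theorem dP_tab : T.walkT dP 0 = 0 ∧ T.walkT dP 6 = 127314 ∧ T.walkT dP 24 = 127252 ∧ T.walkT dP 113 = 89906 ∧
    T.walkT dP 510 = 171552 ∧ T.walkT dP 57178 = 127883 ∧ T.walkT dP 57176 = 127268 ∧
    T.walkT dP 72450 = 220767 := by
  have := C.dP_E
  simp only [List.map_cons, List.map_nil, List.cons.injEq, and_true] at this
  exact this

include C in
/-- the fixed points of the fourth power -/
theorem fix4_mem (q : Fin T.n) (h : (nπ hT ^ 4) q = q) : q.val ∈ E := by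
  have hd := lt_of_allL C C.dP_lt
  have h0 := lt_of_allL C C.n0P_lt
  have hi := hinv C
  have en : nπ hT = (pp hT dP)⁻¹ * pp hT n0P * (pp hT dP)⁻¹⁻¹ := by
    rw [inv_inv]
    show pp hT (dP ++ n0P ++ dP.reverse) = _
    rw [pp_append, pp_append, pp_reverse hT hi dP hd, mul_assoc]
  rw [en, conj_pow, inv_inv, Equiv.Perm.mul_apply, Equiv.Perm.mul_apply, Equiv.Perm.inv_eq_iff_eq] at h
  have e4 : pp hT n0P ^ 4 = pp hT (n0P ++ n0P ++ n0P ++ n0P) := by
    rw [pp_append, pp_append, pp_append]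
    simp only [pow_succ, pow_zero, one_mul, mul_assoc]
  have h04 : ∀ l ∈ n0P ++ n0P ++ n0P ++ n0P, l < T.k := by
    intro l hl
    simp only [List.mem_append, or_self] at hl
    exact h0 l hl
  have hv : T.walkT (n0P ++ n0P ++ n0P ++ n0P) (pp hT dP q).val = (pp hT dP q).val := by
    rw [← pp_val hT _ h04, ← e4, h]
  have hlt : (pp hT dP q).val < 306936 := by
    exact lt_of_lt_of_eq (pp hT dP q).2 C.n_eq
  have hmem := C.fix4 _ hlt hv
  have key : ∀ e e0 (he : e < 306936), T.walkT dP e = e0 → (pp hT dP q).val = e0 → q.val = e := by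
    intro e e0 he hde hq
    have : pp hT dP q = pp hT dP (pnt C e he) :=
      Fin.ext (by rw [hq, pp_val hT dP hd, pnt_val, hde])
    exact congrArg Fin.val ((pp hT dP).injective this)
  obtain ⟨d0, d6, d24, d113, d510, d57178, d57176, d72450⟩ := dP_tab C
  simp only [E0, List.mem_cons, List.mem_nil_iff, or_false] at hmem
  rcases hmem with hm | hm | hm | hm | hm | hm | hm | hm
  · have := key 0 _ (by norm_num) d0 hm
    simp [E, this]
  · have := key 113 _ (by norm_num) d113 hm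
    simp [E, this]
  · have := key 24 _ (by norm_num) d24 hm
    simp [E, this]
  · have := key 57176 _ (by norm_num) d57176 hm
    simp [E, this]
  · have := key 6 _ (by norm_num) d6 hm
    simp [E, this]
  · have := key 57178 _ (by norm_num) d57178 hm
    simp [E, this]
  · have := key 510 _ (by norm_num) d510 hm
    simp [E, this]
  · have := key 72450 _ (by norm_num) d72450 hm
    simp [E, this]

include C in
theorem fix1_cases (q : Fin T.n) (h : nπ hT q = q) : q.val = 0 ∨ q.val = 6 := by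
  have h4 : (nπ hT ^ 4) q = q := Equiv.Perm.pow_apply_eq_self_of_apply_eq_self h 4
  have hE := fix4_mem hT C q h4
  have hv : T.walkT nP q.val = q.val := by rw [← n_val hT C, h]
  obtain ⟨t0, t6, t24, t113, t510, t57178, t57176, t72450⟩ := nP_tab C
  simp only [E, List.mem_cons, List.mem_nil_iff, or_false] at hE
  rcases hE with hm | hm | hm | hm | hm | hm | hm | hm
  · exact Or.inl hm
  · exact Or.inr hm
  · rw [hm, t24] at hv; omega
  · rw [hm, t113] at hv; omega
  · rw [hm, t510] at hv; omega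
  · rw [hm, t57176] at hv; omega
  · rw [hm, t57178] at hv; omega
  · rw [hm, t72450] at hv; omega

include C in
theorem fix2_cases (q : Fin T.n) (h2 : (nπ hT ^ 2) q = q) (h1 : nπ hT q ≠ q) :
    q.val = 57176 ∨ q.val = 72450 := by
  have h4 : (nπ hT ^ 4) q = q := by
    have e : nπ hT ^ 4 = (nπ hT ^ 2) ^ 2 := by rw [← pow_mul]
    rw [e]
    exact Equiv.Perm.pow_apply_eq_self_of_apply_eq_self h2 2
  have hE := fix4_mem hT C q h4
  have hv : T.walkT nP (T.walkT nP q.val) = q.val := by rw [← n2_val hT C, h2]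
  have hv1 : T.walkT nP q.val ≠ q.val := by
    intro e
    exact h1 (Fin.ext (by rw [n_val hT C, e]))
  obtain ⟨t0, t6, t24, t113, t510, t57178, t57176, t72450⟩ := nP_tab C
  simp only [E, List.mem_cons, List.mem_nil_iff, or_false] at hE
  rcases hE with hm | hm | hm | hm | hm | hm | hm | hm
  · rw [hm, t0] at hv1; exact absurd rfl hv1
  · rw [hm, t6] at hv1; exact absurd rfl hv1
  · rw [hm, t24, t113] at hv; omega
  · rw [hm, t113, t510] at hv; omega
  · rw [hm, t510, t57178] at hv; omega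
  · exact Or.inl hm
  · rw [hm, t57178, t24] at hv; omega
  · exact Or.inr hm

include C in
theorem fix4_cases (q : Fin T.n) (h4 : (nπ hT ^ 4) q = q) (h2 : (nπ hT ^ 2) q ≠ q) :
    q.val = 24 ∨ q.val = 113 ∨ q.val = 510 ∨ q.val = 57178 := by
  have hE := fix4_mem hT C q h4
  have hv : T.walkT nP (T.walkT nP q.val) ≠ q.val := by
    intro e
    exact h2 (Fin.ext (by rw [n2_val hT C, e]))
  obtain ⟨t0, t6, t24, t113, t510, t57178, t57176, t72450⟩ := nP_tab C
  simp only [E, List.mem_cons, List.mem_nil_iff, or_false] at hE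
  rcases hE with hm | hm | hm | hm | hm | hm | hm | hm
  · rw [hm, t0, t0] at hv; exact absurd rfl hv
  · rw [hm, t6, t6] at hv; exact absurd rfl hv
  · exact Or.inl hm
  · exact Or.inr (Or.inl hm)
  · exact Or.inr (Or.inr (Or.inl hm))
  · rw [hm, t57176, t72450] at hv; exact absurd rfl hv
  · exact Or.inr (Or.inr (Or.inr hm))
  · rw [hm, t72450, t57176] at hv; exact absurd rfl hv


/-! ### Membership in the stabilisers -/

theorem fix_of_mem (bs : List ℕ) (π : Equiv.Perm (Fin T.n)) (h : π ∈ pstab Γ (toFin T.n bs)) (x : ℕ)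
    (hx : x ∈ bs) (hlt : x < 306936) : π (pnt C x hlt) = pnt C x hlt :=
  ((mem_pstab_toFin Γ bs π).mp h).2 x hx _

theorem mem_cons_of (bs : List ℕ) (r : ℕ) (hr : r < 306936) (π : Equiv.Perm (Fin T.n))
    (h : π ∈ pstab Γ (toFin T.n bs)) (hf : π (pnt C r hr) = pnt C r hr) : π ∈ pstab Γ (toFin T.n (r :: bs)) := by
  rw [toFin_cons (show r < T.n by rw [C.n_eq]; exact hr)]
  exact Subgroup.mem_inf.mpr ⟨h, MulAction.mem_stabilizer_iff.mpr hf⟩

theorem mem_B6 (π : Equiv.Perm (Fin T.n)) (hπ : π ∈ Γ)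
    (h0 : π (pnt C 0 (by norm_num)) = pnt C 0 (by norm_num))
    (h6 : π (pnt C 6 (by norm_num)) = pnt C 6 (by norm_num))
    (h24 : π (pnt C 24 (by norm_num)) = pnt C 24 (by norm_num))
    (h113 : π (pnt C 113 (by norm_num)) = pnt C 113 (by norm_num))
    (h510 : π (pnt C 510 (by norm_num)) = pnt C 510 (by norm_num))
    (h57178 : π (pnt C 57178 (by norm_num)) = pnt C 57178 (by norm_num)) :
    π ∈ pstab Γ (toFin T.n B6) := by
  rw [mem_pstab_toFin]
  refine ⟨hπ, fun x hx hlt => ?_⟩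
  simp only [B6, B5, List.mem_cons, List.mem_nil_iff, or_false] at hx
  rcases hx with rfl | rfl | rfl | rfl | rfl | rfl
  · exact h57178
  · exact h510
  · exact h113
  · exact h24
  · exact h6
  · exact h0

theorem mem_B7_of_fix (w : List ℕ) (hw : ∀ l ∈ w, l < T.k) (hwΓ : pp hT w ∈ Γ)
    (h : allL (fun q => Nat.beq (T.walkT w q) q) [0, 6, 24, 113, 510, 57178, 57176] = true) :
    pp hT w ∈ pstab Γ (toFin T.n B7) := by
  rw [mem_pstab_toFin]
  refine ⟨hwΓ, fun x hx hlt => ?_⟩
  apply Fin.ext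
  rw [pp_val hT w hw]
  have hx' : x ∈ [0, 6, 24, 113, 510, 57178, 57176] := by
    simp only [B7, B6, B5, List.mem_cons, List.mem_nil_iff, or_false] at hx ⊢
    omega
  exact (Data.nbeq_iff _ _).mp ((allL_iff _ _).mp h x hx')

include C hΓ hcard hlow in
/-- the stabiliser of six points of the octad fixes the seventh -/
theorem lemmaC (d : Equiv.Perm (Fin T.n)) (hd : d ∈ pstab Γ (toFin T.n B6)) :
    d (pnt C 57176 (by norm_num)) = pnt C 57176 (by norm_num) := by
  obtain ⟨-, h6, -, -, -⟩ := exact_chain hT C Γ hΓ hcard hlow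
  obtain ⟨i, hi, hv⟩ := exact_orbitN hT Γ hΓ (hinv C) tree6 B6 57176 1 C.root6 rfl
    (by rw [C.n_eq]; norm_num) C.gens6 C.t6 C.nd6 h6 d hd
  have : i = 0 := by omega
  subst this
  exact Fin.ext (hv.trans C.root6)

include C hΓ hcard hlow in
/-- the Boolean check: the candidate `pp gP * d` with `d` in the stabiliser of seven points does not commute with `nπ` -/
theorem no_comm (gP : List ℕ) (hg : ∀ l ∈ gP, l < T.k) (i : ℕ) (hi : i < 1536)
    (hchk : force (tree7.up T 1536 i (T.walkT gP.reverse (T.walkT nP (T.walkT gP (tree7.pt i))))) (fun s =>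
      force (tree8.find s) (fun j => cond (Nat.beq j 128) true
        (anyL (fun x => cond (Nat.beq (T.walkT nP (T.walkT gP (tree7.dn T 1536 i (tree8.dn T 128 j x))))
          (T.walkT gP (tree7.dn T 1536 i (tree8.dn T 128 j (T.walkT nP x))))) false true) wits))) = true)
    (d : Equiv.Perm (Fin T.n)) (hd : d ∈ pstab Γ (toFin T.n B7))
    (hv : (d (pnt C 105 (by norm_num))).val = tree7.pt i)
    (hcomm : Commute (pp hT gP * d) (nπ hT)) : False := by
  obtain ⟨-, -, -, h8, -⟩ := exact_chain hT C Γ hΓ hcard hlow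
  have hn7 : (105 : ℕ) < T.n := by rw [C.n_eq]; norm_num
  have hn8 : (216918 : ℕ) < T.n := by rw [C.n_eq]; norm_num
  obtain ⟨u, hu, hudn, huup, hur⟩ := transN hT Γ hΓ (hinv C) tree7 B7 105 1536 C.root7 rfl hn7 C.gens7 C.t7 i hi
  have hdu : d (pnt C 105 (by norm_num)) = u (pnt C 105 (by norm_num)) := Fin.ext (by rw [hv]; exact hur.symm)
  have hd'7 : u⁻¹ * d ∈ pstab Γ (toFin T.n B7) := Subgroup.mul_mem _ (Subgroup.inv_mem _ hu) hd
  have hd'105 : (u⁻¹ * d) (pnt C 105 (by norm_num)) = pnt C 105 (by norm_num) := by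
    rw [Equiv.Perm.mul_apply, hdu, Equiv.Perm.inv_eq_iff_eq]
  have hd'8 : u⁻¹ * d ∈ pstab Γ (toFin T.n B8) := mem_cons_of C Γ B7 105 (by norm_num) _ hd'7 hd'105
  have hnr : nπ hT (pnt C 105 (by norm_num)) = pnt C 216918 (by norm_num) :=
    Fin.ext (by rw [n_val hT C]; exact C.nP_r)
  -- the image of the ninth base point
  have hdn : d (nπ hT (pnt C 105 (by norm_num))) =
      (pp hT gP)⁻¹ (nπ hT (pp hT gP (d (pnt C 105 (by norm_num))))) := by
    rw [Equiv.Perm.eq_inv_iff_eq]
    have := map_comm hcomm (pnt C 105 (by norm_num))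
    rw [Equiv.Perm.mul_apply, Equiv.Perm.mul_apply] at this
    exact this
  have hs : ((u⁻¹ * d) (pnt C 216918 (by norm_num))).val =
      tree7.up T 1536 i (T.walkT gP.reverse (T.walkT nP (T.walkT gP (tree7.pt i)))) := by
    rw [← hnr, Equiv.Perm.mul_apply, hdn, huup, pp_inv_val hT (hinv C) gP hg, n_val hT C, pp_val hT gP hg, hv]
  obtain ⟨j', hj', hvj⟩ := exact_orbitN hT Γ hΓ (hinv C) tree8 B8 216918 128 C.root8 rfl hn8 C.gens8 C.t8 C.nd8
    h8 (u⁻¹ * d) hd'8
  rw [force_eq, force_eq] at hchk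
  generalize tree7.up T 1536 i (T.walkT gP.reverse (T.walkT nP (T.walkT gP (tree7.pt i)))) = s at hs hchk
  rcases tree8.find_spec s with ⟨-, hne⟩ | ⟨hlt, hpt⟩
  · exact hne j' hj' (hvj.symm.trans hs)
  · have hlt' : tree8.find s < 128 := hlt
    have hb : Nat.beq (tree8.find s) 128 = false := by
      cases hbb : Nat.beq (tree8.find s) 128 with
      | true => exact absurd ((Data.nbeq_iff _ _).mp hbb) (by omega)
      | false => rfl
    rw [hb, cond_false, anyL_iff] at hchk
    obtain ⟨x, hx, hne⟩ := hchk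
    obtain ⟨v, hv8, hvdn, -, hvr⟩ := transN hT Γ hΓ (hinv C) tree8 B8 216918 128 C.root8 rfl hn8 C.gens8 C.t8
      (tree8.find s) hlt'
    -- `u⁻¹ * d = v`
    have hev : v⁻¹ * (u⁻¹ * d) ∈ pstab Γ (toFin T.n B9) := by
      apply mem_cons_of C Γ B8 216918 (by norm_num) _ (Subgroup.mul_mem _ (Subgroup.inv_mem _ hv8) hd'8)
      rw [Equiv.Perm.mul_apply, Equiv.Perm.inv_eq_iff_eq]
      exact Fin.ext (by rw [hs]; exact (hvr.trans hpt).symm)
    rw [bot9 hT C Γ hΓ hcard hlow, Subgroup.mem_bot, inv_mul_eq_one] at hev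
    have hduv : d = u * v := by rw [hev, mul_inv_cancel_left]
    have hxlt : x < 306936 := by
      simp only [wits, List.mem_cons, List.mem_nil_iff, or_false] at hx
      omega
    have hA : T.walkT nP (T.walkT gP (tree7.dn T 1536 i (tree8.dn T 128 (tree8.find s) x))) =
        (nπ hT (pp hT gP (u (v (pnt C x hxlt))))).val := by
      rw [n_val hT C, pp_val hT gP hg, hudn, hvdn, pnt_val]
    have hB : T.walkT gP (tree7.dn T 1536 i (tree8.dn T 128 (tree8.find s) (T.walkT nP x))) =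
        (pp hT gP (u (v (nπ hT (pnt C x hxlt))))).val := by
      rw [pp_val hT gP hg, hudn, hvdn, n_val hT C, pnt_val]
    have hAB : nπ hT (pp hT gP (u (v (pnt C x hxlt)))) = pp hT gP (u (v (nπ hT (pnt C x hxlt)))) := by
      have := map_comm hcomm (pnt C x hxlt)
      rw [hduv] at this
      simp only [Equiv.Perm.mul_apply] at this
      exact this.symm
    rw [hA, hB, hAB, Nat.beq_refl] at hne
    exact absurd hne (by simp)


/-! ### The sixteen central elements -/

include C in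
theorem zP_lt (k : ℕ) : ∀ l ∈ zP k, l < T.k := by
  intro l hl
  have hnP := lt_of_allL C C.nP_lt
  unfold zP at hl
  rw [List.mem_append, List.mem_append] at hl
  rcases hl with h | h | h
  · have := mem_rep h
    rw [List.mem_singleton] at this
    rw [this, C.k_eq]; norm_num
  · have := mem_rep h
    rw [List.mem_singleton] at this
    rw [this, C.k_eq]; norm_num
  · have := mem_rep h
    simp only [List.mem_append, or_self] at this
    exact hnP l this

theorem zP_eq (k : ℕ) : pp hT (zP k) = ((nπ hT ^ 4) ^ (Nat.div k 4) *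
    Table.sigma hT 0 ^ (Nat.mod (Nat.div k 2) 2)) * Table.sigma hT 2 ^ (Nat.mod k 2) := by
  have e4 : pp hT (nP ++ nP ++ nP ++ nP) = nπ hT ^ 4 := by
    rw [pp_append, pp_append, pp_append]
    show nπ hT * (nπ hT * (nπ hT * nπ hT)) = _
    simp only [pow_succ, pow_zero, one_mul, mul_assoc]
  unfold zP
  rw [pp_append, pp_append, pp_rep, pp_rep, pp_rep, pp_singleton, pp_singleton, e4]

theorem zP_mem (S : Subgroup (Equiv.Perm (Fin T.n))) (h4 : nπ hT ^ 4 ∈ S) (h0 : Table.sigma hT 0 ∈ S)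
    (h2 : Table.sigma hT 2 ∈ S) (k : ℕ) : pp hT (zP k) ∈ S := by
  rw [zP_eq]
  exact S.mul_mem (S.mul_mem (S.pow_mem h4 _) (S.pow_mem h0 _)) (S.pow_mem h2 _)

include C hΓ hcard hlow in
/-- an element of the stabiliser of seven points of the octad commuting with `nπ` is one of the sixteen -/
theorem lemmaA (d : Equiv.Perm (Fin T.n)) (hd : d ∈ pstab Γ (toFin T.n B7)) (hcomm : Commute d (nπ hT)) :
    d ∈ Subgroup.closure {nπ hT, Table.sigma hT 0, Table.sigma hT 2} := by
  obtain ⟨-, -, h7, -, -⟩ := exact_chain hT C Γ hΓ hcard hlow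
  have hn7 : (105 : ℕ) < T.n := by rw [C.n_eq]; norm_num
  have hnP := lt_of_allL C C.nP_lt
  obtain ⟨i, hi, hv⟩ := exact_orbitN hT Γ hΓ (hinv C) tree7 B7 105 1536 C.root7 rfl hn7 C.gens7 C.t7 C.nd7 h7 d hd
  have hchk := C.c00 i hi
  unfold chk00 at hchk
  rw [Bool.or_eq_true] at hchk
  rcases hchk with hz | hf
  · -- one of the sixteen
    rw [memL_iff, C.zimg_eq, List.mem_map] at hz
    obtain ⟨k, -, hk⟩ := hz
    have h0k : (0 : ℕ) < T.k := by rw [C.k_eq]; norm_num
    have h2k : (2 : ℕ) < T.k := by rw [C.k_eq]; norm_num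
    have hnΓ : nπ hT ∈ Γ := pp_mem hT Γ hΓ nP hnP
    have hc0 : Commute (Table.sigma hT 0) (nπ hT) := comm_sigma hT C Γ hΓ hcard hlow 0 (by norm_num) C.comm_l
    have hc2 : Commute (Table.sigma hT 2) (nπ hT) := comm_sigma hT C Γ hΓ hcard hlow 2 (by norm_num) C.comm_a
    -- the element of the closure
    have hzK : pp hT (zP k) ∈ Subgroup.closure {nπ hT, Table.sigma hT 0, Table.sigma hT 2} :=
      zP_mem hT _ (Subgroup.pow_mem _ (Subgroup.subset_closure (by simp)) 4)
        (Subgroup.subset_closure (by simp)) (Subgroup.subset_closure (by simp)) k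
    -- it commutes with `nπ`
    have hzc : pp hT (zP k) ∈ Subgroup.centralizer {nπ hT} := by
      apply zP_mem hT
      · rw [Subgroup.mem_centralizer_iff]
        intro h hh
        rw [Set.mem_singleton_iff] at hh
        rw [hh]
        exact ((Commute.refl (nπ hT)).pow_right 4).eq
      · rw [Subgroup.mem_centralizer_iff]
        intro h hh
        rw [Set.mem_singleton_iff] at hh
        rw [hh]
        exact hc0.eq.symm
      · rw [Subgroup.mem_centralizer_iff]
        intro h hh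
        rw [Set.mem_singleton_iff] at hh
        rw [hh]
        exact hc2.eq.symm
    have hzcomm : Commute (pp hT (zP k)) (nπ hT) := by
      rw [Subgroup.mem_centralizer_iff] at hzc
      exact (hzc _ rfl).symm
    -- it fixes the seven points
    have hz7 : pp hT (zP k) ∈ pstab Γ (toFin T.n B7) := by
      apply zP_mem hT
      · have e4 : nπ hT ^ 4 = pp hT (nP ++ nP ++ nP ++ nP) := by
          rw [pp_append, pp_append, pp_append]
          show _ = nπ hT * (nπ hT * (nπ hT * nπ hT))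
          simp only [pow_succ, pow_zero, one_mul, mul_assoc]
        have h4 : ∀ l ∈ nP ++ nP ++ nP ++ nP, l < T.k := by
          intro l hl
          simp only [List.mem_append, or_self] at hl
          exact hnP l hl
        rw [e4]
        exact mem_B7_of_fix hT Γ _ h4 (pp_mem hT Γ hΓ _ h4) C.z_fix
      · have h1 : ∀ l ∈ [0], l < T.k := by
          intro l hl
          rw [List.mem_singleton] at hl
          rw [hl]; exact h0k
        have := mem_B7_of_fix hT Γ [0] h1 (pp_mem hT Γ hΓ _ h1) C.l_fix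
        rwa [pp_singleton] at this
      · have h1 : ∀ l ∈ [2], l < T.k := by
          intro l hl
          rw [List.mem_singleton] at hl
          rw [hl]; exact h2k
        have := mem_B7_of_fix hT Γ [2] h1 (pp_mem hT Γ hΓ _ h1) C.a_fix
        rwa [pp_singleton] at this
    -- the quotient fixes the nine base points
    have hzd : d (pnt C 105 (by norm_num)) = pp hT (zP k) (pnt C 105 (by norm_num)) :=
      Fin.ext (by rw [pp_val hT _ (zP_lt C k), pnt_val, hk]; exact hv)
    have he7 : (pp hT (zP k))⁻¹ * d ∈ pstab Γ (toFin T.n B7) :=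
      Subgroup.mul_mem _ (Subgroup.inv_mem _ hz7) hd
    have he105 : ((pp hT (zP k))⁻¹ * d) (pnt C 105 (by norm_num)) = pnt C 105 (by norm_num) := by
      rw [Equiv.Perm.mul_apply, hzd, Equiv.Perm.inv_eq_iff_eq]
    have he8 : (pp hT (zP k))⁻¹ * d ∈ pstab Γ (toFin T.n B8) :=
      mem_cons_of C Γ B7 105 (by norm_num) _ he7 he105
    have hec : Commute ((pp hT (zP k))⁻¹ * d) (nπ hT) := hzcomm.inv_left.mul_left hcomm
    have hnr : nπ hT (pnt C 105 (by norm_num)) = pnt C 216918 (by norm_num) :=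
      Fin.ext (by rw [n_val hT C]; exact C.nP_r)
    have he9 : (pp hT (zP k))⁻¹ * d ∈ pstab Γ (toFin T.n B9) := by
      apply mem_cons_of C Γ B8 216918 (by norm_num) _ he8
      rw [← hnr, map_comm hec, he105]
    rw [bot9 hT C Γ hΓ hcard hlow, Subgroup.mem_bot, inv_mul_eq_one] at he9
    rw [← he9]
    exact hzK
  · -- the other candidates do not commute
    exfalso
    have hcomm' : Commute (pp hT [] * d) (nπ hT) := by
      have : pp hT [] = (1 : Equiv.Perm (Fin T.n)) := rfl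
      rw [this, one_mul]
      exact hcomm
    exact no_comm hT C Γ hΓ hcard hlow [] (fun l hl => absurd hl (by simp)) i hi hf d hd hv hcomm'

include C hΓ hcard hlow in
/-- no element `gπ * d` with `d` in the stabiliser of seven points of the octad commutes with `nπ` -/
theorem lemmaB (d : Equiv.Perm (Fin T.n)) (hd : d ∈ pstab Γ (toFin T.n B7))
    (hcomm : Commute (gπ hT * d) (nπ hT)) : False := by
  obtain ⟨-, -, h7, -, -⟩ := exact_chain hT C Γ hΓ hcard hlow
  have hn7 : (105 : ℕ) < T.n := by rw [C.n_eq]; norm_num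
  obtain ⟨i, hi, hv⟩ := exact_orbitN hT Γ hΓ (hinv C) tree7 B7 105 1536 C.root7 rfl hn7 C.gens7 C.t7 C.nd7 h7 d hd
  exact no_comm hT C Γ hΓ hcard hlow g11P (lt_of_allL C C.g11P_lt) i hi (C.c11 i hi) d hd hv hcomm


/-! ### The centraliser -/

theorem pnt_ne (x y : ℕ) (hx : x < 306936) (hy : y < 306936) (h : x ≠ y) : pnt C x hx ≠ pnt C y hy :=
  fun e => h (congrArg Fin.val e)

include C hΓ hcard hlow in
/-- an element commuting with `nπ` and fixing the point 24 -/
theorem stage2 (c : Equiv.Perm (Fin T.n)) (hc : c ∈ Γ) (hcomm : Commute c (nπ hT))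
    (h24 : c (pnt C 24 (by norm_num)) = pnt C 24 (by norm_num)) :
    c ∈ Subgroup.closure {nπ hT, Table.sigma hT 0, Table.sigma hT 2} := by
  obtain ⟨t0, t6, t24, t113, t510, t57178, t57176, t72450⟩ := nP_tab C
  obtain ⟨g0, g6, g24, g113, g510, g57178, g57176, g72450⟩ := g11P_tab C
  have hnP := lt_of_allL C C.nP_lt
  have hgP := lt_of_allL C C.g11P_lt
  have n0 : nπ hT (pnt C 0 (by norm_num)) = pnt C 0 (by norm_num) := pp_pnt hT C nP hnP _ _ _ _ t0
  have n6 : nπ hT (pnt C 6 (by norm_num)) = pnt C 6 (by norm_num) := pp_pnt hT C nP hnP _ _ _ _ t6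
  have n24 : nπ hT (pnt C 24 (by norm_num)) = pnt C 113 (by norm_num) := pp_pnt hT C nP hnP _ _ _ _ t24
  have n113 : nπ hT (pnt C 113 (by norm_num)) = pnt C 510 (by norm_num) := pp_pnt hT C nP hnP _ _ _ _ t113
  have n510 : nπ hT (pnt C 510 (by norm_num)) = pnt C 57178 (by norm_num) := pp_pnt hT C nP hnP _ _ _ _ t510
  have k0 : gπ hT (pnt C 0 (by norm_num)) = pnt C 6 (by norm_num) := pp_pnt hT C g11P hgP _ _ _ _ g0
  have k6 : gπ hT (pnt C 6 (by norm_num)) = pnt C 0 (by norm_num) := pp_pnt hT C g11P hgP _ _ _ _ g6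
  have k24 : gπ hT (pnt C 24 (by norm_num)) = pnt C 24 (by norm_num) := pp_pnt hT C g11P hgP _ _ _ _ g24
  have k113 : gπ hT (pnt C 113 (by norm_num)) = pnt C 113 (by norm_num) := pp_pnt hT C g11P hgP _ _ _ _ g113
  have k510 : gπ hT (pnt C 510 (by norm_num)) = pnt C 510 (by norm_num) := pp_pnt hT C g11P hgP _ _ _ _ g510
  have k57178 : gπ hT (pnt C 57178 (by norm_num)) = pnt C 57178 (by norm_num) :=
    pp_pnt hT C g11P hgP _ _ _ _ g57178
  -- the orbit of 24
  have h113 : c (pnt C 113 (by norm_num)) = pnt C 113 (by norm_num) := by rw [← n24, map_comm hcomm, h24]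
  have h510 : c (pnt C 510 (by norm_num)) = pnt C 510 (by norm_num) := by rw [← n113, map_comm hcomm, h113]
  have h57178 : c (pnt C 57178 (by norm_num)) = pnt C 57178 (by norm_num) := by
    rw [← n510, map_comm hcomm, h510]
  -- the two fixed points
  have c0 := fix1_cases hT C (c (pnt C 0 (by norm_num))) ((fixed_iff hcomm _).mpr n0)
  have c6 := fix1_cases hT C (c (pnt C 6 (by norm_num))) ((fixed_iff hcomm _).mpr n6)
  have hne : c (pnt C 6 (by norm_num)) ≠ c (pnt C 0 (by norm_num)) :=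
    fun e => pnt_ne C 6 0 (by norm_num) (by norm_num) (by norm_num) (c.injective e)
  rcases c0 with c0 | c0
  · -- the first case
    have e0 : c (pnt C 0 (by norm_num)) = pnt C 0 (by norm_num) := eq_pnt C _ 0 _ c0
    have e6 : c (pnt C 6 (by norm_num)) = pnt C 6 (by norm_num) := by
      rcases c6 with c6 | c6
      · exact absurd ((eq_pnt C _ 0 (by norm_num) c6).trans e0.symm) hne
      · exact eq_pnt C _ 6 _ c6
    have hB6 : c ∈ pstab Γ (toFin T.n B6) := mem_B6 C Γ c hc e0 e6 h24 h113 h510 h57178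
    have hB7 : c ∈ pstab Γ (toFin T.n B7) :=
      mem_cons_of C Γ B6 57176 (by norm_num) c hB6 (lemmaC hT C Γ hΓ hcard hlow c hB6)
    exact lemmaA hT C Γ hΓ hcard hlow c hB7 hcomm
  · -- the second case
    exfalso
    have e0 : c (pnt C 0 (by norm_num)) = pnt C 6 (by norm_num) := eq_pnt C _ 6 _ c0
    have e6 : c (pnt C 6 (by norm_num)) = pnt C 0 (by norm_num) := by
      rcases c6 with c6 | c6
      · exact eq_pnt C _ 0 _ c6
      · exact absurd ((eq_pnt C _ 6 (by norm_num) c6).trans e0.symm) hne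
    have hgΓ : gπ hT ∈ Γ := pp_mem hT Γ hΓ g11P hgP
    have hdΓ : (gπ hT)⁻¹ * c ∈ Γ := Γ.mul_mem (Γ.inv_mem hgΓ) hc
    have hB6 : (gπ hT)⁻¹ * c ∈ pstab Γ (toFin T.n B6) := by
      apply mem_B6 C Γ _ hdΓ
      · rw [Equiv.Perm.mul_apply, e0, Equiv.Perm.inv_eq_iff_eq, k0]
      · rw [Equiv.Perm.mul_apply, e6, Equiv.Perm.inv_eq_iff_eq, k6]
      · rw [Equiv.Perm.mul_apply, h24, Equiv.Perm.inv_eq_iff_eq, k24]
      · rw [Equiv.Perm.mul_apply, h113, Equiv.Perm.inv_eq_iff_eq, k113]
      · rw [Equiv.Perm.mul_apply, h510, Equiv.Perm.inv_eq_iff_eq, k510]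
      · rw [Equiv.Perm.mul_apply, h57178, Equiv.Perm.inv_eq_iff_eq, k57178]
    have hB7 : (gπ hT)⁻¹ * c ∈ pstab Γ (toFin T.n B7) :=
      mem_cons_of C Γ B6 57176 (by norm_num) _ hB6 (lemmaC hT C Γ hΓ hcard hlow _ hB6)
    apply lemmaB hT C Γ hΓ hcard hlow _ hB7
    rw [mul_inv_cancel_left]
    exact hcomm

include C hΓ hcard hlow in
/-- the centraliser of `nπ` in the group of the coset table -/
theorem centralizer_n (c : Equiv.Perm (Fin T.n)) (hc : c ∈ Γ) (hcomm : Commute c (nπ hT)) :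
    c ∈ Subgroup.closure {nπ hT, Table.sigma hT 0, Table.sigma hT 2} := by
  obtain ⟨t0, t6, t24, t113, t510, t57178, t57176, t72450⟩ := nP_tab C
  have hnP := lt_of_allL C C.nP_lt
  have hnΓ : nπ hT ∈ Γ := pp_mem hT Γ hΓ nP hnP
  have n24 : nπ hT (pnt C 24 (by norm_num)) = pnt C 113 (by norm_num) := pp_pnt hT C nP hnP _ _ _ _ t24
  have n113 : nπ hT (pnt C 113 (by norm_num)) = pnt C 510 (by norm_num) := pp_pnt hT C nP hnP _ _ _ _ t113
  have n510 : nπ hT (pnt C 510 (by norm_num)) = pnt C 57178 (by norm_num) := pp_pnt hT C nP hnP _ _ _ _ t510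
  have n4_24 : (nπ hT ^ 4) (pnt C 24 (by norm_num)) = pnt C 24 (by norm_num) :=
    Fin.ext (by rw [n4_val hT C, pnt_val, t24, t113, t510, t57178])
  have n2_24 : (nπ hT ^ 2) (pnt C 24 (by norm_num)) ≠ pnt C 24 (by norm_num) := by
    intro e
    have := congrArg Fin.val e
    rw [n2_val hT C, pnt_val, t24, t113] at this
    omega
  have q4 := (fixed_iff (hcomm.pow_right 4) (pnt C 24 (by norm_num))).mpr n4_24
  have q2 : (nπ hT ^ 2) (c (pnt C 24 (by norm_num))) ≠ c (pnt C 24 (by norm_num)) :=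
    mt (fixed_iff (hcomm.pow_right 2) (pnt C 24 (by norm_num))).mp n2_24
  have hb : ∃ b : ℕ, c (pnt C 24 (by norm_num)) = (nπ hT ^ b) (pnt C 24 (by norm_num)) := by
    rcases fix4_cases hT C _ q4 q2 with h | h | h | h
    · exact ⟨0, by rw [pow_zero, Equiv.Perm.one_apply]; exact eq_pnt C _ 24 _ h⟩
    · exact ⟨1, by rw [pow_one, n24]; exact eq_pnt C _ 113 _ h⟩
    · exact ⟨2, by rw [pow_two, Equiv.Perm.mul_apply, n24, n113]; exact eq_pnt C _ 510 _ h⟩
    · exact ⟨3, by
        rw [pow_succ, Equiv.Perm.mul_apply, n24, pow_two, Equiv.Perm.mul_apply, n113, n510]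
        exact eq_pnt C _ 57178 _ h⟩
  obtain ⟨b, hb⟩ := hb
  have hK : nπ hT ∈ Subgroup.closure {nπ hT, Table.sigma hT 0, Table.sigma hT 2} :=
    Subgroup.subset_closure (by simp)
  have hc' : (nπ hT ^ b)⁻¹ * c ∈ Subgroup.closure {nπ hT, Table.sigma hT 0, Table.sigma hT 2} := by
    apply stage2 hT C Γ hΓ hcard hlow _ (Γ.mul_mem (Γ.inv_mem (Γ.pow_mem hnΓ b)) hc)
      (((Commute.refl (nπ hT)).pow_left b).inv_left.mul_left hcomm)
    rw [Equiv.Perm.mul_apply, hb, Equiv.Perm.inv_eq_iff_eq]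
  have e : c = nπ hT ^ b * ((nπ hT ^ b)⁻¹ * c) := by rw [mul_inv_cancel_left]
  rw [e]
  exact Subgroup.mul_mem _ (Subgroup.pow_mem _ hK b) hc'

end Main

end Cfsg.Agent.Lib.Helper15.F24OCent
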