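import Cfsg.Agent.Lib.Helper15.F24OData
set_option autoImplicit false

/-!
# S2081: the Boolean checks for the centraliser of the element of order 16
-/

namespace Cfsg.Agent.Lib.Helper15.F24OCentDefs
open Cfsg.Agent.Lib.Helper28.TC2Upper Cfsg.Agent.Lib.Helper28.TC2Lower
open Cfsg.Agent.Lib.Helper15.F24OTree Cfsg.Agent.Lib.Helper15.F24OData

/-- membership in a list of numbers -/
noncomputable def memL (L : List ℕ) (x : ℕ) : Bool :=
  @List.rec ℕ (fun _ => Bool) false (fun a _ ih => or (Nat.beq a x) ih) L

theorem memL_iff (L : List ℕ) (x : ℕ) : memL L x = true ↔ x ∈ L := by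
  induction L with
  | nil => simp [memL]
  | cons a L ih =>
    show (or (Nat.beq a x) (memL L x)) = true ↔ _
    rw [Bool.or_eq_true, ih, Data.nbeq_iff, List.mem_cons]
    constructor
    · rintro (h | h)
      · exact Or.inl h.symm
      · exact Or.inr h
    · rintro (h | h)
      · exact Or.inl h.symm
      · exact Or.inr h

/-- all elements of a list satisfy `f` -/
noncomputable def allL (f : ℕ → Bool) (L : List ℕ) : Bool :=
  @List.rec ℕ (fun _ => Bool) true (fun a _ ih => and (f a) ih) L

theorem allL_iff (f : ℕ → Bool) (L : List ℕ) : allL f L = true ↔ ∀ x ∈ L, f x = true := by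
  induction L with
  | nil => simp [allL]
  | cons a L ih =>
    show (and (f a) (allL f L)) = true ↔ _
    rw [Bool.and_eq_true, ih]
    simp

/-- some element of a list satisfies `f` -/
noncomputable def anyL (f : ℕ → Bool) (L : List ℕ) : Bool :=
  @List.rec ℕ (fun _ => Bool) false (fun a _ ih => or (f a) ih) L

theorem anyL_iff (f : ℕ → Bool) (L : List ℕ) : anyL f L = true ↔ ∃ x ∈ L, f x = true := by
  induction L with
  | nil => simp [anyL]
  | cons a L ih =>
    show (or (f a) (anyL f L)) = true ↔ _
    rw [Bool.or_eq_true, ih]
    simp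

/-- a generator path: letters in range, the given points fixed -/
noncomputable def genChk (T : Table) (bs : List ℕ) (w : List ℕ) : Bool :=
  and (allL (fun l => Nat.ble (Nat.succ l) T.k) w) (allL (fun q => Nat.beq (T.walkT w q) q) bs)

theorem genChk_iff (T : Table) (bs : List ℕ) (w : List ℕ) :
    genChk T bs w = true ↔ (∀ l ∈ w, l < T.k) ∧ ∀ q ∈ bs, T.walkT w q = q := by
  unfold genChk
  rw [Bool.and_eq_true, allL_iff, allL_iff]
  simp only [Nat.ble_eq, Data.nbeq_iff, Nat.succ_le_iff]

/-- the witnesses of the non-commutation -/
def wits : List ℕ := [1, 5, 9, 11]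

/-- first case (the element fixes the seven base points of the octad): the candidate with image `tree7.pt i` of the
point 105 is one of the sixteen central elements, or does not exist, or does not commute with `nP` -/
noncomputable def chk00 (T : Table) (i : ℕ) : Bool :=
  or (memL zimg (tree7.pt i))
    (force (tree7.up T 1536 i (T.walkT nP (tree7.pt i))) (fun s =>
      force (tree8.find s) (fun j =>
        cond (Nat.beq j 128) true
          (anyL (fun x => cond (Nat.beq (T.walkT nP (tree7.dn T 1536 i (tree8.dn T 128 j x)))
            (tree7.dn T 1536 i (tree8.dn T 128 j (T.walkT nP x)))) false true) wits))))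

/-- second case (the element is `g11` times an element fixing the seven base points) -/
noncomputable def chk11 (T : Table) (i : ℕ) : Bool :=
  force (tree7.up T 1536 i (T.walkT g11P.reverse (T.walkT nP (T.walkT g11P (tree7.pt i))))) (fun s =>
    force (tree8.find s) (fun j =>
      cond (Nat.beq j 128) true
        (anyL (fun x => cond (Nat.beq (T.walkT nP (T.walkT g11P (tree7.dn T 1536 i (tree8.dn T 128 j x))))
          (T.walkT g11P (tree7.dn T 1536 i (tree8.dn T 128 j (T.walkT nP x))))) false true) wits)))

/-- the first case for the candidates `lo, …, lo + cnt - 1` -/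
noncomputable def chk00Range (T : Table) (lo cnt : ℕ) : Bool := allLoop (fun i => chk00 T (Nat.add lo i)) cnt
/-- the second case for the candidates `lo, …, lo + cnt - 1` -/
noncomputable def chk11Range (T : Table) (lo cnt : ℕ) : Bool := allLoop (fun i => chk11 T (Nat.add lo i)) cnt

theorem chk00Range_iff (T : Table) (lo cnt : ℕ) :
    chk00Range T lo cnt = true ↔ ∀ i, lo ≤ i → i < lo + cnt → chk00 T i = true := by
  unfold chk00Range
  rw [allLoop_eq_true]
  constructor
  · intro h i h1 h2
    have := h (i - lo) (by omega)
    rwa [show Nat.add lo (i - lo) = i by simp only [Nat.add_eq]; omega] at this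
  · intro h i hi
    exact h _ (by simp only [Nat.add_eq]; omega) (by simp only [Nat.add_eq]; omega)

theorem chk11Range_iff (T : Table) (lo cnt : ℕ) :
    chk11Range T lo cnt = true ↔ ∀ i, lo ≤ i → i < lo + cnt → chk11 T i = true := by
  unfold chk11Range
  rw [allLoop_eq_true]
  constructor
  · intro h i h1 h2
    have := h (i - lo) (by omega)
    rwa [show Nat.add lo (i - lo) = i by simp only [Nat.add_eq]; omega] at this
  · intro h i hi
    exact h _ (by simp only [Nat.add_eq]; omega) (by simp only [Nat.add_eq]; omega)

/-- the points `lo, …, lo + cnt - 1` fixed by the path `w` lie in the list `L` -/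
noncomputable def fixRange (T : Table) (w : List ℕ) (L : List ℕ) (lo cnt : ℕ) : Bool :=
  allLoop (fun i => cond (Nat.beq (T.walkT w (Nat.add lo i)) (Nat.add lo i)) (memL L (Nat.add lo i)) true) cnt

theorem fixRange_iff (T : Table) (w : List ℕ) (L : List ℕ) (lo cnt : ℕ) :
    fixRange T w L lo cnt = true ↔ ∀ p, lo ≤ p → p < lo + cnt → T.walkT w p = p → p ∈ L := by
  unfold fixRange
  rw [allLoop_eq_true]
  have key : ∀ q : ℕ, cond (Nat.beq (T.walkT w q) q) (memL L q) true = true ↔ (T.walkT w q = q → q ∈ L) := by
    intro q
    cases hb : Nat.beq (T.walkT w q) q with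
    | true =>
      rw [cond_true, memL_iff]
      exact ⟨fun h _ => h, fun h => h ((Data.nbeq_iff _ _).mp hb)⟩
    | false =>
      rw [cond_false]
      refine ⟨fun _ e => ?_, fun _ => rfl⟩
      rw [(Data.nbeq_iff _ _).mpr e] at hb
      exact absurd hb (by simp)
  constructor
  · intro h p h1 h2
    have := (key _).mp (h (p - lo) (by omega))
    rwa [show Nat.add lo (p - lo) = p by simp only [Nat.add_eq]; omega] at this
  · intro h i hi
    exact (key _).mpr (h _ (by simp only [Nat.add_eq]; omega) (by simp only [Nat.add_eq]; omega))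

end Cfsg.Agent.Lib.Helper15.F24OCentDefs
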