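import Cfsg.Agent.Lib.Helper15.F24OCentDefs
import Cfsg.Agent.Lib.Helper28.TCFi24Table
set_option autoImplicit false
set_option maxRecDepth 100000
set_option maxHeartbeats 0

namespace Cfsg.Agent.Lib.Helper15.F24OChkA
open Cfsg.Agent.Lib.Helper28.TC2Upper Cfsg.Agent.Lib.Helper28.TC2Lower
open Cfsg.Agent.Lib.Helper15.F24OTree Cfsg.Agent.Lib.Helper15.F24OData Cfsg.Agent.Lib.Helper15.F24OCentDefs

/-- the coset table -/
noncomputable abbrev tbl : Table := Cfsg.Agent.Lib.Helper28.TCFi24Table.table

theorem root5 : tree5.pt 0 = 57178 := by decide +kernel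
theorem root6 : tree6.pt 0 = 57176 := by decide +kernel
theorem root7 : tree7.pt 0 = 105 := by decide +kernel
theorem root8 : tree8.pt 0 = 216918 := by decide +kernel
theorem gens5 : BT.all (genChk tbl [510, 113, 24, 6, 0]) tree5.gens = true := by decide +kernel
theorem gens6 : BT.all (genChk tbl [57178, 510, 113, 24, 6, 0]) tree6.gens = true := by decide +kernel
theorem gens7 : BT.all (genChk tbl [57176, 57178, 510, 113, 24, 6, 0]) tree7.gens = true := by decide +kernel
theorem gens8 : BT.all (genChk tbl [105, 57176, 57178, 510, 113, 24, 6, 0]) tree8.gens = true := by decide +kernel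
theorem t5 : tree5.treeOK tbl = true := by decide +kernel
theorem t6 : tree6.treeOK tbl = true := by decide +kernel
theorem t7 : tree7.treeOK tbl = true := by decide +kernel
theorem t8 : tree8.treeOK tbl = true := by decide +kernel
theorem nd5 : tree5.nodupOK = true := by decide +kernel
theorem nd6 : tree6.nodupOK = true := by decide +kernel
theorem nd7 : tree7.nodupOK = true := by decide +kernel
theorem nd8 : tree8.nodupOK = true := by decide +kernel

end Cfsg.Agent.Lib.Helper15.F24OChkA
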