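import Cfsg.Agent.Lib.Helper15.F24OCentDefs
import Cfsg.Agent.Lib.Helper28.TCFi24Table
import Cfsg.Agent.Lib.Helper15.F24OChkA
set_option autoImplicit false
set_option maxRecDepth 100000
set_option maxHeartbeats 0

namespace Cfsg.Agent.Lib.Helper15.F24OChkB
open Cfsg.Agent.Lib.Helper28.TC2Upper Cfsg.Agent.Lib.Helper28.TC2Lower
open Cfsg.Agent.Lib.Helper15.F24OTree Cfsg.Agent.Lib.Helper15.F24OData Cfsg.Agent.Lib.Helper15.F24OCentDefs

/-- the coset table -/
noncomputable abbrev tbl : Table := Cfsg.Agent.Lib.Helper28.TCFi24Table.table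

theorem c00_0 : chk00Range tbl 0 384 = true := by decide +kernel
theorem c00_1 : chk00Range tbl 384 384 = true := by decide +kernel
theorem c00_2 : chk00Range tbl 768 384 = true := by decide +kernel
theorem c00_3 : chk00Range tbl 1152 384 = true := by decide +kernel

end Cfsg.Agent.Lib.Helper15.F24OChkB
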