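import Cfsg.Agent.Lib.Helper15.F24OCentDefs
import Cfsg.Agent.Lib.Helper28.TCFi24Table
import Cfsg.Agent.Lib.Helper15.F24OChkB
set_option autoImplicit false
set_option maxRecDepth 100000
set_option maxHeartbeats 0

namespace Cfsg.Agent.Lib.Helper15.F24OChkC
open Cfsg.Agent.Lib.Helper28.TC2Upper Cfsg.Agent.Lib.Helper28.TC2Lower
open Cfsg.Agent.Lib.Helper15.F24OTree Cfsg.Agent.Lib.Helper15.F24OData Cfsg.Agent.Lib.Helper15.F24OCentDefs

/-- the coset table -/
noncomputable abbrev tbl : Table := Cfsg.Agent.Lib.Helper28.TCFi24Table.table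

theorem c11_0 : chk11Range tbl 0 384 = true := by decide +kernel
theorem c11_1 : chk11Range tbl 384 384 = true := by decide +kernel
theorem c11_2 : chk11Range tbl 768 384 = true := by decide +kernel
theorem c11_3 : chk11Range tbl 1152 384 = true := by decide +kernel

end Cfsg.Agent.Lib.Helper15.F24OChkC
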