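import Cfsg.Agent.Lib.Helper15.F24OCentDefs
import Cfsg.Agent.Lib.Helper28.TCFi24Table
set_option autoImplicit false
set_option maxRecDepth 100000
set_option maxHeartbeats 0

namespace Cfsg.Agent.Lib.Helper15.F24OChkD0
open Cfsg.Agent.Lib.Helper28.TC2Upper Cfsg.Agent.Lib.Helper28.TC2Lower
open Cfsg.Agent.Lib.Helper15.F24OTree Cfsg.Agent.Lib.Helper15.F24OData Cfsg.Agent.Lib.Helper15.F24OCentDefs

/-- the coset table -/
noncomputable abbrev tbl : Table := Cfsg.Agent.Lib.Helper28.TCFi24Table.table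

/- Each range of 12789 points is cut into 4 kernel evaluations (about 2.7 GB of kernel memory each
   in place of 10.8 GB for the whole range) and glued back with `fixRange_iff`. -/
theorem fx4_0_0 : fixRange tbl (n0P ++ n0P ++ n0P ++ n0P) E0 0 3198 = true := by decide +kernel
theorem fx4_0_1 : fixRange tbl (n0P ++ n0P ++ n0P ++ n0P) E0 3198 3197 = true := by decide +kernel
theorem fx4_0_2 : fixRange tbl (n0P ++ n0P ++ n0P ++ n0P) E0 6395 3197 = true := by decide +kernel
theorem fx4_0_3 : fixRange tbl (n0P ++ n0P ++ n0P ++ n0P) E0 9592 3197 = true := by decide +kernel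
theorem fx4_0 : fixRange tbl (n0P ++ n0P ++ n0P ++ n0P) E0 0 12789 = true := by
  refine (fixRange_iff tbl _ E0 0 12789).mpr ?_
  intro p h1 h2
  rcases Nat.lt_or_ge p 3198 with a0 | a0
  · exact (fixRange_iff tbl _ E0 0 3198).mp fx4_0_0 p (by omega) (by omega)
  rcases Nat.lt_or_ge p 6395 with a1 | a1
  · exact (fixRange_iff tbl _ E0 3198 3197).mp fx4_0_1 p (by omega) (by omega)
  rcases Nat.lt_or_ge p 9592 with a2 | a2
  · exact (fixRange_iff tbl _ E0 6395 3197).mp fx4_0_2 p (by omega) (by omega)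
  exact (fixRange_iff tbl _ E0 9592 3197).mp fx4_0_3 p (by omega) (by omega)

theorem fx4_1_0 : fixRange tbl (n0P ++ n0P ++ n0P ++ n0P) E0 12789 3198 = true := by decide +kernel
theorem fx4_1_1 : fixRange tbl (n0P ++ n0P ++ n0P ++ n0P) E0 15987 3197 = true := by decide +kernel
theorem fx4_1_2 : fixRange tbl (n0P ++ n0P ++ n0P ++ n0P) E0 19184 3197 = true := by decide +kernel
theorem fx4_1_3 : fixRange tbl (n0P ++ n0P ++ n0P ++ n0P) E0 22381 3197 = true := by decide +kernel
theorem fx4_1 : fixRange tbl (n0P ++ n0P ++ n0P ++ n0P) E0 12789 12789 = true := by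
  refine (fixRange_iff tbl _ E0 12789 12789).mpr ?_
  intro p h1 h2
  rcases Nat.lt_or_ge p 15987 with a0 | a0
  · exact (fixRange_iff tbl _ E0 12789 3198).mp fx4_1_0 p (by omega) (by omega)
  rcases Nat.lt_or_ge p 19184 with a1 | a1
  · exact (fixRange_iff tbl _ E0 15987 3197).mp fx4_1_1 p (by omega) (by omega)
  rcases Nat.lt_or_ge p 22381 with a2 | a2
  · exact (fixRange_iff tbl _ E0 19184 3197).mp fx4_1_2 p (by omega) (by omega)
  exact (fixRange_iff tbl _ E0 22381 3197).mp fx4_1_3 p (by omega) (by omega)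

theorem fx4_2_0 : fixRange tbl (n0P ++ n0P ++ n0P ++ n0P) E0 25578 3198 = true := by decide +kernel
theorem fx4_2_1 : fixRange tbl (n0P ++ n0P ++ n0P ++ n0P) E0 28776 3197 = true := by decide +kernel
theorem fx4_2_2 : fixRange tbl (n0P ++ n0P ++ n0P ++ n0P) E0 31973 3197 = true := by decide +kernel
theorem fx4_2_3 : fixRange tbl (n0P ++ n0P ++ n0P ++ n0P) E0 35170 3197 = true := by decide +kernel
theorem fx4_2 : fixRange tbl (n0P ++ n0P ++ n0P ++ n0P) E0 25578 12789 = true := by
  refine (fixRange_iff tbl _ E0 25578 12789).mpr ?_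
  intro p h1 h2
  rcases Nat.lt_or_ge p 28776 with a0 | a0
  · exact (fixRange_iff tbl _ E0 25578 3198).mp fx4_2_0 p (by omega) (by omega)
  rcases Nat.lt_or_ge p 31973 with a1 | a1
  · exact (fixRange_iff tbl _ E0 28776 3197).mp fx4_2_1 p (by omega) (by omega)
  rcases Nat.lt_or_ge p 35170 with a2 | a2
  · exact (fixRange_iff tbl _ E0 31973 3197).mp fx4_2_2 p (by omega) (by omega)
  exact (fixRange_iff tbl _ E0 35170 3197).mp fx4_2_3 p (by omega) (by omega)

theorem fx4_3_0 : fixRange tbl (n0P ++ n0P ++ n0P ++ n0P) E0 38367 3198 = true := by decide +kernel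
theorem fx4_3_1 : fixRange tbl (n0P ++ n0P ++ n0P ++ n0P) E0 41565 3197 = true := by decide +kernel
theorem fx4_3_2 : fixRange tbl (n0P ++ n0P ++ n0P ++ n0P) E0 44762 3197 = true := by decide +kernel
theorem fx4_3_3 : fixRange tbl (n0P ++ n0P ++ n0P ++ n0P) E0 47959 3197 = true := by decide +kernel
theorem fx4_3 : fixRange tbl (n0P ++ n0P ++ n0P ++ n0P) E0 38367 12789 = true := by
  refine (fixRange_iff tbl _ E0 38367 12789).mpr ?_
  intro p h1 h2
  rcases Nat.lt_or_ge p 41565 with a0 | a0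
  · exact (fixRange_iff tbl _ E0 38367 3198).mp fx4_3_0 p (by omega) (by omega)
  rcases Nat.lt_or_ge p 44762 with a1 | a1
  · exact (fixRange_iff tbl _ E0 41565 3197).mp fx4_3_1 p (by omega) (by omega)
  rcases Nat.lt_or_ge p 47959 with a2 | a2
  · exact (fixRange_iff tbl _ E0 44762 3197).mp fx4_3_2 p (by omega) (by omega)
  exact (fixRange_iff tbl _ E0 47959 3197).mp fx4_3_3 p (by omega) (by omega)

theorem fx4_4_0 : fixRange tbl (n0P ++ n0P ++ n0P ++ n0P) E0 51156 3198 = true := by decide +kernel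
theorem fx4_4_1 : fixRange tbl (n0P ++ n0P ++ n0P ++ n0P) E0 54354 3197 = true := by decide +kernel
theorem fx4_4_2 : fixRange tbl (n0P ++ n0P ++ n0P ++ n0P) E0 57551 3197 = true := by decide +kernel
theorem fx4_4_3 : fixRange tbl (n0P ++ n0P ++ n0P ++ n0P) E0 60748 3197 = true := by decide +kernel
theorem fx4_4 : fixRange tbl (n0P ++ n0P ++ n0P ++ n0P) E0 51156 12789 = true := by
  refine (fixRange_iff tbl _ E0 51156 12789).mpr ?_
  intro p h1 h2
  rcases Nat.lt_or_ge p 54354 with a0 | a0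
  · exact (fixRange_iff tbl _ E0 51156 3198).mp fx4_4_0 p (by omega) (by omega)
  rcases Nat.lt_or_ge p 57551 with a1 | a1
  · exact (fixRange_iff tbl _ E0 54354 3197).mp fx4_4_1 p (by omega) (by omega)
  rcases Nat.lt_or_ge p 60748 with a2 | a2
  · exact (fixRange_iff tbl _ E0 57551 3197).mp fx4_4_2 p (by omega) (by omega)
  exact (fixRange_iff tbl _ E0 60748 3197).mp fx4_4_3 p (by omega) (by omega)

theorem fx4_5_0 : fixRange tbl (n0P ++ n0P ++ n0P ++ n0P) E0 63945 3198 = true := by decide +kernel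
theorem fx4_5_1 : fixRange tbl (n0P ++ n0P ++ n0P ++ n0P) E0 67143 3197 = true := by decide +kernel
theorem fx4_5_2 : fixRange tbl (n0P ++ n0P ++ n0P ++ n0P) E0 70340 3197 = true := by decide +kernel
theorem fx4_5_3 : fixRange tbl (n0P ++ n0P ++ n0P ++ n0P) E0 73537 3197 = true := by decide +kernel
theorem fx4_5 : fixRange tbl (n0P ++ n0P ++ n0P ++ n0P) E0 63945 12789 = true := by
  refine (fixRange_iff tbl _ E0 63945 12789).mpr ?_
  intro p h1 h2
  rcases Nat.lt_or_ge p 67143 with a0 | a0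
  · exact (fixRange_iff tbl _ E0 63945 3198).mp fx4_5_0 p (by omega) (by omega)
  rcases Nat.lt_or_ge p 70340 with a1 | a1
  · exact (fixRange_iff tbl _ E0 67143 3197).mp fx4_5_1 p (by omega) (by omega)
  rcases Nat.lt_or_ge p 73537 with a2 | a2
  · exact (fixRange_iff tbl _ E0 70340 3197).mp fx4_5_2 p (by omega) (by omega)
  exact (fixRange_iff tbl _ E0 73537 3197).mp fx4_5_3 p (by omega) (by omega)

end Cfsg.Agent.Lib.Helper15.F24OChkD0
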