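import Cfsg.Agent.Lib.Helper15.F24OCentDefs
import Cfsg.Agent.Lib.Helper28.TCFi24Table
import Cfsg.Agent.Lib.Helper15.F24OChkD0
set_option autoImplicit false
set_option maxRecDepth 100000
set_option maxHeartbeats 0

namespace Cfsg.Agent.Lib.Helper15.F24OChkD1
open Cfsg.Agent.Lib.Helper28.TC2Upper Cfsg.Agent.Lib.Helper28.TC2Lower
open Cfsg.Agent.Lib.Helper15.F24OTree Cfsg.Agent.Lib.Helper15.F24OData Cfsg.Agent.Lib.Helper15.F24OCentDefs

/-- the coset table -/
noncomputable abbrev tbl : Table := Cfsg.Agent.Lib.Helper28.TCFi24Table.table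

/- Each range of 12789 points is cut into 4 kernel evaluations (about 2.7 GB of kernel memory each
   in place of 10.8 GB for the whole range) and glued back with `fixRange_iff`. -/
theorem fx4_6_0 : fixRange tbl (n0P ++ n0P ++ n0P ++ n0P) E0 76734 3198 = true := by decide +kernel
theorem fx4_6_1 : fixRange tbl (n0P ++ n0P ++ n0P ++ n0P) E0 79932 3197 = true := by decide +kernel
theorem fx4_6_2 : fixRange tbl (n0P ++ n0P ++ n0P ++ n0P) E0 83129 3197 = true := by decide +kernel
theorem fx4_6_3 : fixRange tbl (n0P ++ n0P ++ n0P ++ n0P) E0 86326 3197 = true := by decide +kernel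
theorem fx4_6 : fixRange tbl (n0P ++ n0P ++ n0P ++ n0P) E0 76734 12789 = true := by
  refine (fixRange_iff tbl _ E0 76734 12789).mpr ?_
  intro p h1 h2
  rcases Nat.lt_or_ge p 79932 with a0 | a0
  · exact (fixRange_iff tbl _ E0 76734 3198).mp fx4_6_0 p (by omega) (by omega)
  rcases Nat.lt_or_ge p 83129 with a1 | a1
  · exact (fixRange_iff tbl _ E0 79932 3197).mp fx4_6_1 p (by omega) (by omega)
  rcases Nat.lt_or_ge p 86326 with a2 | a2
  · exact (fixRange_iff tbl _ E0 83129 3197).mp fx4_6_2 p (by omega) (by omega)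
  exact (fixRange_iff tbl _ E0 86326 3197).mp fx4_6_3 p (by omega) (by omega)

theorem fx4_7_0 : fixRange tbl (n0P ++ n0P ++ n0P ++ n0P) E0 89523 3198 = true := by decide +kernel
theorem fx4_7_1 : fixRange tbl (n0P ++ n0P ++ n0P ++ n0P) E0 92721 3197 = true := by decide +kernel
theorem fx4_7_2 : fixRange tbl (n0P ++ n0P ++ n0P ++ n0P) E0 95918 3197 = true := by decide +kernel
theorem fx4_7_3 : fixRange tbl (n0P ++ n0P ++ n0P ++ n0P) E0 99115 3197 = true := by decide +kernel
theorem fx4_7 : fixRange tbl (n0P ++ n0P ++ n0P ++ n0P) E0 89523 12789 = true := by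
  refine (fixRange_iff tbl _ E0 89523 12789).mpr ?_
  intro p h1 h2
  rcases Nat.lt_or_ge p 92721 with a0 | a0
  · exact (fixRange_iff tbl _ E0 89523 3198).mp fx4_7_0 p (by omega) (by omega)
  rcases Nat.lt_or_ge p 95918 with a1 | a1
  · exact (fixRange_iff tbl _ E0 92721 3197).mp fx4_7_1 p (by omega) (by omega)
  rcases Nat.lt_or_ge p 99115 with a2 | a2
  · exact (fixRange_iff tbl _ E0 95918 3197).mp fx4_7_2 p (by omega) (by omega)
  exact (fixRange_iff tbl _ E0 99115 3197).mp fx4_7_3 p (by omega) (by omega)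

theorem fx4_8_0 : fixRange tbl (n0P ++ n0P ++ n0P ++ n0P) E0 102312 3198 = true := by decide +kernel
theorem fx4_8_1 : fixRange tbl (n0P ++ n0P ++ n0P ++ n0P) E0 105510 3197 = true := by decide +kernel
theorem fx4_8_2 : fixRange tbl (n0P ++ n0P ++ n0P ++ n0P) E0 108707 3197 = true := by decide +kernel
theorem fx4_8_3 : fixRange tbl (n0P ++ n0P ++ n0P ++ n0P) E0 111904 3197 = true := by decide +kernel
theorem fx4_8 : fixRange tbl (n0P ++ n0P ++ n0P ++ n0P) E0 102312 12789 = true := by
  refine (fixRange_iff tbl _ E0 102312 12789).mpr ?_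
  intro p h1 h2
  rcases Nat.lt_or_ge p 105510 with a0 | a0
  · exact (fixRange_iff tbl _ E0 102312 3198).mp fx4_8_0 p (by omega) (by omega)
  rcases Nat.lt_or_ge p 108707 with a1 | a1
  · exact (fixRange_iff tbl _ E0 105510 3197).mp fx4_8_1 p (by omega) (by omega)
  rcases Nat.lt_or_ge p 111904 with a2 | a2
  · exact (fixRange_iff tbl _ E0 108707 3197).mp fx4_8_2 p (by omega) (by omega)
  exact (fixRange_iff tbl _ E0 111904 3197).mp fx4_8_3 p (by omega) (by omega)

theorem fx4_9_0 : fixRange tbl (n0P ++ n0P ++ n0P ++ n0P) E0 115101 3198 = true := by decide +kernel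
theorem fx4_9_1 : fixRange tbl (n0P ++ n0P ++ n0P ++ n0P) E0 118299 3197 = true := by decide +kernel
theorem fx4_9_2 : fixRange tbl (n0P ++ n0P ++ n0P ++ n0P) E0 121496 3197 = true := by decide +kernel
theorem fx4_9_3 : fixRange tbl (n0P ++ n0P ++ n0P ++ n0P) E0 124693 3197 = true := by decide +kernel
theorem fx4_9 : fixRange tbl (n0P ++ n0P ++ n0P ++ n0P) E0 115101 12789 = true := by
  refine (fixRange_iff tbl _ E0 115101 12789).mpr ?_
  intro p h1 h2
  rcases Nat.lt_or_ge p 118299 with a0 | a0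
  · exact (fixRange_iff tbl _ E0 115101 3198).mp fx4_9_0 p (by omega) (by omega)
  rcases Nat.lt_or_ge p 121496 with a1 | a1
  · exact (fixRange_iff tbl _ E0 118299 3197).mp fx4_9_1 p (by omega) (by omega)
  rcases Nat.lt_or_ge p 124693 with a2 | a2
  · exact (fixRange_iff tbl _ E0 121496 3197).mp fx4_9_2 p (by omega) (by omega)
  exact (fixRange_iff tbl _ E0 124693 3197).mp fx4_9_3 p (by omega) (by omega)

theorem fx4_10_0 : fixRange tbl (n0P ++ n0P ++ n0P ++ n0P) E0 127890 3198 = true := by decide +kernel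
theorem fx4_10_1 : fixRange tbl (n0P ++ n0P ++ n0P ++ n0P) E0 131088 3197 = true := by decide +kernel
theorem fx4_10_2 : fixRange tbl (n0P ++ n0P ++ n0P ++ n0P) E0 134285 3197 = true := by decide +kernel
theorem fx4_10_3 : fixRange tbl (n0P ++ n0P ++ n0P ++ n0P) E0 137482 3197 = true := by decide +kernel
theorem fx4_10 : fixRange tbl (n0P ++ n0P ++ n0P ++ n0P) E0 127890 12789 = true := by
  refine (fixRange_iff tbl _ E0 127890 12789).mpr ?_
  intro p h1 h2
  rcases Nat.lt_or_ge p 131088 with a0 | a0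
  · exact (fixRange_iff tbl _ E0 127890 3198).mp fx4_10_0 p (by omega) (by omega)
  rcases Nat.lt_or_ge p 134285 with a1 | a1
  · exact (fixRange_iff tbl _ E0 131088 3197).mp fx4_10_1 p (by omega) (by omega)
  rcases Nat.lt_or_ge p 137482 with a2 | a2
  · exact (fixRange_iff tbl _ E0 134285 3197).mp fx4_10_2 p (by omega) (by omega)
  exact (fixRange_iff tbl _ E0 137482 3197).mp fx4_10_3 p (by omega) (by omega)

theorem fx4_11_0 : fixRange tbl (n0P ++ n0P ++ n0P ++ n0P) E0 140679 3198 = true := by decide +kernel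
theorem fx4_11_1 : fixRange tbl (n0P ++ n0P ++ n0P ++ n0P) E0 143877 3197 = true := by decide +kernel
theorem fx4_11_2 : fixRange tbl (n0P ++ n0P ++ n0P ++ n0P) E0 147074 3197 = true := by decide +kernel
theorem fx4_11_3 : fixRange tbl (n0P ++ n0P ++ n0P ++ n0P) E0 150271 3197 = true := by decide +kernel
theorem fx4_11 : fixRange tbl (n0P ++ n0P ++ n0P ++ n0P) E0 140679 12789 = true := by
  refine (fixRange_iff tbl _ E0 140679 12789).mpr ?_
  intro p h1 h2
  rcases Nat.lt_or_ge p 143877 with a0 | a0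
  · exact (fixRange_iff tbl _ E0 140679 3198).mp fx4_11_0 p (by omega) (by omega)
  rcases Nat.lt_or_ge p 147074 with a1 | a1
  · exact (fixRange_iff tbl _ E0 143877 3197).mp fx4_11_1 p (by omega) (by omega)
  rcases Nat.lt_or_ge p 150271 with a2 | a2
  · exact (fixRange_iff tbl _ E0 147074 3197).mp fx4_11_2 p (by omega) (by omega)
  exact (fixRange_iff tbl _ E0 150271 3197).mp fx4_11_3 p (by omega) (by omega)

end Cfsg.Agent.Lib.Helper15.F24OChkD1
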