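import Cfsg.Agent.Lib.Helper15.F24OCentDefs
import Cfsg.Agent.Lib.Helper28.TCFi24Table
import Cfsg.Agent.Lib.Helper15.F24OChkD1
set_option autoImplicit false
set_option maxRecDepth 100000
set_option maxHeartbeats 0

namespace Cfsg.Agent.Lib.Helper15.F24OChkD2
open Cfsg.Agent.Lib.Helper28.TC2Upper Cfsg.Agent.Lib.Helper28.TC2Lower
open Cfsg.Agent.Lib.Helper15.F24OTree Cfsg.Agent.Lib.Helper15.F24OData Cfsg.Agent.Lib.Helper15.F24OCentDefs

/-- the coset table -/
noncomputable abbrev tbl : Table := Cfsg.Agent.Lib.Helper28.TCFi24Table.table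

/- Each range of 12789 points is cut into 4 kernel evaluations (about 2.7 GB of kernel memory each
   in place of 10.8 GB for the whole range) and glued back with `fixRange_iff`. -/
theorem fx4_12_0 : fixRange tbl (n0P ++ n0P ++ n0P ++ n0P) E0 153468 3198 = true := by decide +kernel
theorem fx4_12_1 : fixRange tbl (n0P ++ n0P ++ n0P ++ n0P) E0 156666 3197 = true := by decide +kernel
theorem fx4_12_2 : fixRange tbl (n0P ++ n0P ++ n0P ++ n0P) E0 159863 3197 = true := by decide +kernel
theorem fx4_12_3 : fixRange tbl (n0P ++ n0P ++ n0P ++ n0P) E0 163060 3197 = true := by decide +kernel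
theorem fx4_12 : fixRange tbl (n0P ++ n0P ++ n0P ++ n0P) E0 153468 12789 = true := by
  refine (fixRange_iff tbl _ E0 153468 12789).mpr ?_
  intro p h1 h2
  rcases Nat.lt_or_ge p 156666 with a0 | a0
  · exact (fixRange_iff tbl _ E0 153468 3198).mp fx4_12_0 p (by omega) (by omega)
  rcases Nat.lt_or_ge p 159863 with a1 | a1
  · exact (fixRange_iff tbl _ E0 156666 3197).mp fx4_12_1 p (by omega) (by omega)
  rcases Nat.lt_or_ge p 163060 with a2 | a2
  · exact (fixRange_iff tbl _ E0 159863 3197).mp fx4_12_2 p (by omega) (by omega)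
  exact (fixRange_iff tbl _ E0 163060 3197).mp fx4_12_3 p (by omega) (by omega)

theorem fx4_13_0 : fixRange tbl (n0P ++ n0P ++ n0P ++ n0P) E0 166257 3198 = true := by decide +kernel
theorem fx4_13_1 : fixRange tbl (n0P ++ n0P ++ n0P ++ n0P) E0 169455 3197 = true := by decide +kernel
theorem fx4_13_2 : fixRange tbl (n0P ++ n0P ++ n0P ++ n0P) E0 172652 3197 = true := by decide +kernel
theorem fx4_13_3 : fixRange tbl (n0P ++ n0P ++ n0P ++ n0P) E0 175849 3197 = true := by decide +kernel
theorem fx4_13 : fixRange tbl (n0P ++ n0P ++ n0P ++ n0P) E0 166257 12789 = true := by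
  refine (fixRange_iff tbl _ E0 166257 12789).mpr ?_
  intro p h1 h2
  rcases Nat.lt_or_ge p 169455 with a0 | a0
  · exact (fixRange_iff tbl _ E0 166257 3198).mp fx4_13_0 p (by omega) (by omega)
  rcases Nat.lt_or_ge p 172652 with a1 | a1
  · exact (fixRange_iff tbl _ E0 169455 3197).mp fx4_13_1 p (by omega) (by omega)
  rcases Nat.lt_or_ge p 175849 with a2 | a2
  · exact (fixRange_iff tbl _ E0 172652 3197).mp fx4_13_2 p (by omega) (by omega)
  exact (fixRange_iff tbl _ E0 175849 3197).mp fx4_13_3 p (by omega) (by omega)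

theorem fx4_14_0 : fixRange tbl (n0P ++ n0P ++ n0P ++ n0P) E0 179046 3198 = true := by decide +kernel
theorem fx4_14_1 : fixRange tbl (n0P ++ n0P ++ n0P ++ n0P) E0 182244 3197 = true := by decide +kernel
theorem fx4_14_2 : fixRange tbl (n0P ++ n0P ++ n0P ++ n0P) E0 185441 3197 = true := by decide +kernel
theorem fx4_14_3 : fixRange tbl (n0P ++ n0P ++ n0P ++ n0P) E0 188638 3197 = true := by decide +kernel
theorem fx4_14 : fixRange tbl (n0P ++ n0P ++ n0P ++ n0P) E0 179046 12789 = true := by
  refine (fixRange_iff tbl _ E0 179046 12789).mpr ?_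
  intro p h1 h2
  rcases Nat.lt_or_ge p 182244 with a0 | a0
  · exact (fixRange_iff tbl _ E0 179046 3198).mp fx4_14_0 p (by omega) (by omega)
  rcases Nat.lt_or_ge p 185441 with a1 | a1
  · exact (fixRange_iff tbl _ E0 182244 3197).mp fx4_14_1 p (by omega) (by omega)
  rcases Nat.lt_or_ge p 188638 with a2 | a2
  · exact (fixRange_iff tbl _ E0 185441 3197).mp fx4_14_2 p (by omega) (by omega)
  exact (fixRange_iff tbl _ E0 188638 3197).mp fx4_14_3 p (by omega) (by omega)

theorem fx4_15_0 : fixRange tbl (n0P ++ n0P ++ n0P ++ n0P) E0 191835 3198 = true := by decide +kernel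
theorem fx4_15_1 : fixRange tbl (n0P ++ n0P ++ n0P ++ n0P) E0 195033 3197 = true := by decide +kernel
theorem fx4_15_2 : fixRange tbl (n0P ++ n0P ++ n0P ++ n0P) E0 198230 3197 = true := by decide +kernel
theorem fx4_15_3 : fixRange tbl (n0P ++ n0P ++ n0P ++ n0P) E0 201427 3197 = true := by decide +kernel
theorem fx4_15 : fixRange tbl (n0P ++ n0P ++ n0P ++ n0P) E0 191835 12789 = true := by
  refine (fixRange_iff tbl _ E0 191835 12789).mpr ?_
  intro p h1 h2
  rcases Nat.lt_or_ge p 195033 with a0 | a0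
  · exact (fixRange_iff tbl _ E0 191835 3198).mp fx4_15_0 p (by omega) (by omega)
  rcases Nat.lt_or_ge p 198230 with a1 | a1
  · exact (fixRange_iff tbl _ E0 195033 3197).mp fx4_15_1 p (by omega) (by omega)
  rcases Nat.lt_or_ge p 201427 with a2 | a2
  · exact (fixRange_iff tbl _ E0 198230 3197).mp fx4_15_2 p (by omega) (by omega)
  exact (fixRange_iff tbl _ E0 201427 3197).mp fx4_15_3 p (by omega) (by omega)

theorem fx4_16_0 : fixRange tbl (n0P ++ n0P ++ n0P ++ n0P) E0 204624 3198 = true := by decide +kernel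
theorem fx4_16_1 : fixRange tbl (n0P ++ n0P ++ n0P ++ n0P) E0 207822 3197 = true := by decide +kernel
theorem fx4_16_2 : fixRange tbl (n0P ++ n0P ++ n0P ++ n0P) E0 211019 3197 = true := by decide +kernel
theorem fx4_16_3 : fixRange tbl (n0P ++ n0P ++ n0P ++ n0P) E0 214216 3197 = true := by decide +kernel
theorem fx4_16 : fixRange tbl (n0P ++ n0P ++ n0P ++ n0P) E0 204624 12789 = true := by
  refine (fixRange_iff tbl _ E0 204624 12789).mpr ?_
  intro p h1 h2
  rcases Nat.lt_or_ge p 207822 with a0 | a0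
  · exact (fixRange_iff tbl _ E0 204624 3198).mp fx4_16_0 p (by omega) (by omega)
  rcases Nat.lt_or_ge p 211019 with a1 | a1
  · exact (fixRange_iff tbl _ E0 207822 3197).mp fx4_16_1 p (by omega) (by omega)
  rcases Nat.lt_or_ge p 214216 with a2 | a2
  · exact (fixRange_iff tbl _ E0 211019 3197).mp fx4_16_2 p (by omega) (by omega)
  exact (fixRange_iff tbl _ E0 214216 3197).mp fx4_16_3 p (by omega) (by omega)

theorem fx4_17_0 : fixRange tbl (n0P ++ n0P ++ n0P ++ n0P) E0 217413 3198 = true := by decide +kernel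
theorem fx4_17_1 : fixRange tbl (n0P ++ n0P ++ n0P ++ n0P) E0 220611 3197 = true := by decide +kernel
theorem fx4_17_2 : fixRange tbl (n0P ++ n0P ++ n0P ++ n0P) E0 223808 3197 = true := by decide +kernel
theorem fx4_17_3 : fixRange tbl (n0P ++ n0P ++ n0P ++ n0P) E0 227005 3197 = true := by decide +kernel
theorem fx4_17 : fixRange tbl (n0P ++ n0P ++ n0P ++ n0P) E0 217413 12789 = true := by
  refine (fixRange_iff tbl _ E0 217413 12789).mpr ?_
  intro p h1 h2
  rcases Nat.lt_or_ge p 220611 with a0 | a0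
  · exact (fixRange_iff tbl _ E0 217413 3198).mp fx4_17_0 p (by omega) (by omega)
  rcases Nat.lt_or_ge p 223808 with a1 | a1
  · exact (fixRange_iff tbl _ E0 220611 3197).mp fx4_17_1 p (by omega) (by omega)
  rcases Nat.lt_or_ge p 227005 with a2 | a2
  · exact (fixRange_iff tbl _ E0 223808 3197).mp fx4_17_2 p (by omega) (by omega)
  exact (fixRange_iff tbl _ E0 227005 3197).mp fx4_17_3 p (by omega) (by omega)

end Cfsg.Agent.Lib.Helper15.F24OChkD2
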