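import Cfsg.Agent.Lib.Helper15.F24OCentDefs
import Cfsg.Agent.Lib.Helper28.TCFi24Table
import Cfsg.Agent.Lib.Helper15.F24OChkD2
set_option autoImplicit false
set_option maxRecDepth 100000
set_option maxHeartbeats 0

namespace Cfsg.Agent.Lib.Helper15.F24OChkD3
open Cfsg.Agent.Lib.Helper28.TC2Upper Cfsg.Agent.Lib.Helper28.TC2Lower
open Cfsg.Agent.Lib.Helper15.F24OTree Cfsg.Agent.Lib.Helper15.F24OData Cfsg.Agent.Lib.Helper15.F24OCentDefs

/-- the coset table -/
noncomputable abbrev tbl : Table := Cfsg.Agent.Lib.Helper28.TCFi24Table.table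

/- Each range of 12789 points is cut into 4 kernel evaluations (about 2.7 GB of kernel memory each
   in place of 10.8 GB for the whole range) and glued back with `fixRange_iff`. -/
theorem fx4_18_0 : fixRange tbl (n0P ++ n0P ++ n0P ++ n0P) E0 230202 3198 = true := by decide +kernel
theorem fx4_18_1 : fixRange tbl (n0P ++ n0P ++ n0P ++ n0P) E0 233400 3197 = true := by decide +kernel
theorem fx4_18_2 : fixRange tbl (n0P ++ n0P ++ n0P ++ n0P) E0 236597 3197 = true := by decide +kernel
theorem fx4_18_3 : fixRange tbl (n0P ++ n0P ++ n0P ++ n0P) E0 239794 3197 = true := by decide +kernel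
theorem fx4_18 : fixRange tbl (n0P ++ n0P ++ n0P ++ n0P) E0 230202 12789 = true := by
  refine (fixRange_iff tbl _ E0 230202 12789).mpr ?_
  intro p h1 h2
  rcases Nat.lt_or_ge p 233400 with a0 | a0
  · exact (fixRange_iff tbl _ E0 230202 3198).mp fx4_18_0 p (by omega) (by omega)
  rcases Nat.lt_or_ge p 236597 with a1 | a1
  · exact (fixRange_iff tbl _ E0 233400 3197).mp fx4_18_1 p (by omega) (by omega)
  rcases Nat.lt_or_ge p 239794 with a2 | a2
  · exact (fixRange_iff tbl _ E0 236597 3197).mp fx4_18_2 p (by omega) (by omega)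
  exact (fixRange_iff tbl _ E0 239794 3197).mp fx4_18_3 p (by omega) (by omega)

theorem fx4_19_0 : fixRange tbl (n0P ++ n0P ++ n0P ++ n0P) E0 242991 3198 = true := by decide +kernel
theorem fx4_19_1 : fixRange tbl (n0P ++ n0P ++ n0P ++ n0P) E0 246189 3197 = true := by decide +kernel
theorem fx4_19_2 : fixRange tbl (n0P ++ n0P ++ n0P ++ n0P) E0 249386 3197 = true := by decide +kernel
theorem fx4_19_3 : fixRange tbl (n0P ++ n0P ++ n0P ++ n0P) E0 252583 3197 = true := by decide +kernel
theorem fx4_19 : fixRange tbl (n0P ++ n0P ++ n0P ++ n0P) E0 242991 12789 = true := by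
  refine (fixRange_iff tbl _ E0 242991 12789).mpr ?_
  intro p h1 h2
  rcases Nat.lt_or_ge p 246189 with a0 | a0
  · exact (fixRange_iff tbl _ E0 242991 3198).mp fx4_19_0 p (by omega) (by omega)
  rcases Nat.lt_or_ge p 249386 with a1 | a1
  · exact (fixRange_iff tbl _ E0 246189 3197).mp fx4_19_1 p (by omega) (by omega)
  rcases Nat.lt_or_ge p 252583 with a2 | a2
  · exact (fixRange_iff tbl _ E0 249386 3197).mp fx4_19_2 p (by omega) (by omega)
  exact (fixRange_iff tbl _ E0 252583 3197).mp fx4_19_3 p (by omega) (by omega)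

theorem fx4_20_0 : fixRange tbl (n0P ++ n0P ++ n0P ++ n0P) E0 255780 3198 = true := by decide +kernel
theorem fx4_20_1 : fixRange tbl (n0P ++ n0P ++ n0P ++ n0P) E0 258978 3197 = true := by decide +kernel
theorem fx4_20_2 : fixRange tbl (n0P ++ n0P ++ n0P ++ n0P) E0 262175 3197 = true := by decide +kernel
theorem fx4_20_3 : fixRange tbl (n0P ++ n0P ++ n0P ++ n0P) E0 265372 3197 = true := by decide +kernel
theorem fx4_20 : fixRange tbl (n0P ++ n0P ++ n0P ++ n0P) E0 255780 12789 = true := by
  refine (fixRange_iff tbl _ E0 255780 12789).mpr ?_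
  intro p h1 h2
  rcases Nat.lt_or_ge p 258978 with a0 | a0
  · exact (fixRange_iff tbl _ E0 255780 3198).mp fx4_20_0 p (by omega) (by omega)
  rcases Nat.lt_or_ge p 262175 with a1 | a1
  · exact (fixRange_iff tbl _ E0 258978 3197).mp fx4_20_1 p (by omega) (by omega)
  rcases Nat.lt_or_ge p 265372 with a2 | a2
  · exact (fixRange_iff tbl _ E0 262175 3197).mp fx4_20_2 p (by omega) (by omega)
  exact (fixRange_iff tbl _ E0 265372 3197).mp fx4_20_3 p (by omega) (by omega)

theorem fx4_21_0 : fixRange tbl (n0P ++ n0P ++ n0P ++ n0P) E0 268569 3198 = true := by decide +kernel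
theorem fx4_21_1 : fixRange tbl (n0P ++ n0P ++ n0P ++ n0P) E0 271767 3197 = true := by decide +kernel
theorem fx4_21_2 : fixRange tbl (n0P ++ n0P ++ n0P ++ n0P) E0 274964 3197 = true := by decide +kernel
theorem fx4_21_3 : fixRange tbl (n0P ++ n0P ++ n0P ++ n0P) E0 278161 3197 = true := by decide +kernel
theorem fx4_21 : fixRange tbl (n0P ++ n0P ++ n0P ++ n0P) E0 268569 12789 = true := by
  refine (fixRange_iff tbl _ E0 268569 12789).mpr ?_
  intro p h1 h2
  rcases Nat.lt_or_ge p 271767 with a0 | a0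
  · exact (fixRange_iff tbl _ E0 268569 3198).mp fx4_21_0 p (by omega) (by omega)
  rcases Nat.lt_or_ge p 274964 with a1 | a1
  · exact (fixRange_iff tbl _ E0 271767 3197).mp fx4_21_1 p (by omega) (by omega)
  rcases Nat.lt_or_ge p 278161 with a2 | a2
  · exact (fixRange_iff tbl _ E0 274964 3197).mp fx4_21_2 p (by omega) (by omega)
  exact (fixRange_iff tbl _ E0 278161 3197).mp fx4_21_3 p (by omega) (by omega)

theorem fx4_22_0 : fixRange tbl (n0P ++ n0P ++ n0P ++ n0P) E0 281358 3198 = true := by decide +kernel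
theorem fx4_22_1 : fixRange tbl (n0P ++ n0P ++ n0P ++ n0P) E0 284556 3197 = true := by decide +kernel
theorem fx4_22_2 : fixRange tbl (n0P ++ n0P ++ n0P ++ n0P) E0 287753 3197 = true := by decide +kernel
theorem fx4_22_3 : fixRange tbl (n0P ++ n0P ++ n0P ++ n0P) E0 290950 3197 = true := by decide +kernel
theorem fx4_22 : fixRange tbl (n0P ++ n0P ++ n0P ++ n0P) E0 281358 12789 = true := by
  refine (fixRange_iff tbl _ E0 281358 12789).mpr ?_
  intro p h1 h2
  rcases Nat.lt_or_ge p 284556 with a0 | a0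
  · exact (fixRange_iff tbl _ E0 281358 3198).mp fx4_22_0 p (by omega) (by omega)
  rcases Nat.lt_or_ge p 287753 with a1 | a1
  · exact (fixRange_iff tbl _ E0 284556 3197).mp fx4_22_1 p (by omega) (by omega)
  rcases Nat.lt_or_ge p 290950 with a2 | a2
  · exact (fixRange_iff tbl _ E0 287753 3197).mp fx4_22_2 p (by omega) (by omega)
  exact (fixRange_iff tbl _ E0 290950 3197).mp fx4_22_3 p (by omega) (by omega)

theorem fx4_23_0 : fixRange tbl (n0P ++ n0P ++ n0P ++ n0P) E0 294147 3198 = true := by decide +kernel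
theorem fx4_23_1 : fixRange tbl (n0P ++ n0P ++ n0P ++ n0P) E0 297345 3197 = true := by decide +kernel
theorem fx4_23_2 : fixRange tbl (n0P ++ n0P ++ n0P ++ n0P) E0 300542 3197 = true := by decide +kernel
theorem fx4_23_3 : fixRange tbl (n0P ++ n0P ++ n0P ++ n0P) E0 303739 3197 = true := by decide +kernel
theorem fx4_23 : fixRange tbl (n0P ++ n0P ++ n0P ++ n0P) E0 294147 12789 = true := by
  refine (fixRange_iff tbl _ E0 294147 12789).mpr ?_
  intro p h1 h2
  rcases Nat.lt_or_ge p 297345 with a0 | a0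
  · exact (fixRange_iff tbl _ E0 294147 3198).mp fx4_23_0 p (by omega) (by omega)
  rcases Nat.lt_or_ge p 300542 with a1 | a1
  · exact (fixRange_iff tbl _ E0 297345 3197).mp fx4_23_1 p (by omega) (by omega)
  rcases Nat.lt_or_ge p 303739 with a2 | a2
  · exact (fixRange_iff tbl _ E0 300542 3197).mp fx4_23_2 p (by omega) (by omega)
  exact (fixRange_iff tbl _ E0 303739 3197).mp fx4_23_3 p (by omega) (by omega)

end Cfsg.Agent.Lib.Helper15.F24OChkD3
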