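import Cfsg.Agent.Lib.Helper15.F24OCentDefs
import Cfsg.Agent.Lib.Helper28.TCFi24Table
import Cfsg.Agent.Lib.Helper15.F24OChkC
set_option autoImplicit false
set_option maxRecDepth 100000
set_option maxHeartbeats 0

namespace Cfsg.Agent.Lib.Helper15.F24OChkF
open Cfsg.Agent.Lib.Helper28.TC2Upper Cfsg.Agent.Lib.Helper28.TC2Lower
open Cfsg.Agent.Lib.Helper15.F24OTree Cfsg.Agent.Lib.Helper15.F24OData Cfsg.Agent.Lib.Helper15.F24OCentDefs

/-- the coset table -/
noncomputable abbrev tbl : Table := Cfsg.Agent.Lib.Helper28.TCFi24Table.table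

theorem fe1_0 : fixRange tbl e1P [0, 1, 2] 0 76734 = true := by decide +kernel
theorem fe1_1 : fixRange tbl e1P [0, 1, 2] 76734 76734 = true := by decide +kernel
theorem fe1_2 : fixRange tbl e1P [0, 1, 2] 153468 76734 = true := by decide +kernel
theorem fe1_3 : fixRange tbl e1P [0, 1, 2] 230202 76734 = true := by decide +kernel

end Cfsg.Agent.Lib.Helper15.F24OChkF
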