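import Cfsg.Agent.Lib.Helper15.F24OCentDefs
import Cfsg.Agent.Lib.Helper28.TCFi24Table
import Cfsg.Agent.Lib.Helper15.F24OChkF
set_option autoImplicit false
set_option maxRecDepth 100000
set_option maxHeartbeats 0

namespace Cfsg.Agent.Lib.Helper15.F24OChkE
open Cfsg.Agent.Lib.Helper28.TC2Upper Cfsg.Agent.Lib.Helper28.TC2Lower
open Cfsg.Agent.Lib.Helper15.F24OTree Cfsg.Agent.Lib.Helper15.F24OData Cfsg.Agent.Lib.Helper15.F24OCentDefs

/-- the coset table -/
noncomputable abbrev tbl : Table := Cfsg.Agent.Lib.Helper28.TCFi24Table.table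

theorem nP_lt : allL (fun l => Nat.ble (Nat.succ l) 12) nP = true := by decide +kernel
theorem g11P_lt : allL (fun l => Nat.ble (Nat.succ l) 12) g11P = true := by decide +kernel
theorem dP_lt : allL (fun l => Nat.ble (Nat.succ l) 12) dP = true := by decide +kernel
theorem n0P_lt : allL (fun l => Nat.ble (Nat.succ l) 12) n0P = true := by decide +kernel
/-- the aligning path maps the octad to the fixed points of `n0P ^ 4` -/
theorem dP_E : [0, 6, 24, 113, 510, 57178, 57176, 72450].map (tbl.walkT dP) = [0, 127314, 127252, 89906, 171552, 127883, 127268, 220767] := by decide +kernel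
/-- the action of `nP` on the octad -/
theorem nP_E : [0, 6, 24, 113, 510, 57178, 57176, 72450].map (tbl.walkT nP) = [0, 6, 113, 510, 57178, 24, 72450, 57176] := by decide +kernel
/-- the action of `g11P` on the octad -/
theorem g11P_E : [0, 6, 24, 113, 510, 57178, 57176, 72450].map (tbl.walkT g11P) = [6, 0, 24, 113, 510, 57178, 72450, 57176] := by decide +kernel
theorem nP_r : tbl.walkT nP 105 = 216918 := by decide +kernel
/-- the letters `l` and `a` commute with `nP` (on the nine base points) -/
theorem comm_l : [0, 6, 24, 113, 510, 57178, 57176, 105, 216918].map (tbl.walkT ([0] ++ nP)) = [0, 6, 24, 113, 510, 57178, 57176, 105, 216918].map (tbl.walkT (nP ++ [0])) := by decide +kernel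
theorem comm_a : [0, 6, 24, 113, 510, 57178, 57176, 105, 216918].map (tbl.walkT ([2] ++ nP)) = [0, 6, 24, 113, 510, 57178, 57176, 105, 216918].map (tbl.walkT (nP ++ [2])) := by decide +kernel
/-- the sixteen central elements: their action on the seven base points of the octad and on 105 -/
theorem z_fix : allL (fun q => Nat.beq (tbl.walkT (nP ++ nP ++ nP ++ nP) q) q) [0, 6, 24, 113, 510, 57178, 57176] = true := by decide +kernel
theorem l_fix : allL (fun q => Nat.beq (tbl.walkT [0] q) q) [0, 6, 24, 113, 510, 57178, 57176] = true := by decide +kernel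
theorem a_fix : allL (fun q => Nat.beq (tbl.walkT [2] q) q) [0, 6, 24, 113, 510, 57178, 57176] = true := by decide +kernel

end Cfsg.Agent.Lib.Helper15.F24OChkE
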