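import Cfsg.Agent.Lib.Helper15.F24OCent
import Cfsg.Agent.Lib.Helper28.TCFi24Table
import Cfsg.Agent.Lib.Helper15.F24OChkE
set_option autoImplicit false
set_option maxRecDepth 100000
set_option maxHeartbeats 0

namespace Cfsg.Agent.Lib.Helper15.F24OChkG
open Cfsg.Agent.Lib.Helper28.TC2Upper Cfsg.Agent.Lib.Helper28.TC2Lower
open Cfsg.Agent.Lib.Helper15.F24OTree Cfsg.Agent.Lib.Helper15.F24OData Cfsg.Agent.Lib.Helper15.F24OCentDefs
open Cfsg.Agent.Lib.Helper15.F24OCent

/-- the coset table -/
noncomputable abbrev tbl : Table := Cfsg.Agent.Lib.Helper28.TCFi24Table.table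

theorem n_eq : tbl.n = 306936 := by decide +kernel
theorem k_eq : tbl.k = 12 := by decide +kernel
theorem inv_id : allLoop (fun l => Nat.beq (tbl.invl l) l) 12 = true := by decide +kernel
/-- the images of the point 105 under the sixteen central elements -/
theorem zimg_eq : zimg = [0, 1, 2, 3, 4, 5, 6, 7, 8, 9, 10, 11, 12, 13, 14, 15].map (fun k => tbl.walkT (zP k) 105) := by
  decide +kernel

end Cfsg.Agent.Lib.Helper15.F24OChkG
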