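import Cfsg.Agent.Lib.Helper15.F24OChkA
import Cfsg.Agent.Lib.Helper15.F24OChkB
import Cfsg.Agent.Lib.Helper15.F24OChkC
import Cfsg.Agent.Lib.Helper15.F24OChkD0
import Cfsg.Agent.Lib.Helper15.F24OChkD1
import Cfsg.Agent.Lib.Helper15.F24OChkD2
import Cfsg.Agent.Lib.Helper15.F24OChkD3
import Cfsg.Agent.Lib.Helper15.F24OChkE
import Cfsg.Agent.Lib.Helper15.F24OChkG
set_option autoImplicit false
set_option maxRecDepth 100000

/-!
# S2081: the centraliser of the element of order 16 in the group of the coset table of Fi₂₄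

The Boolean checks are collected, and the centraliser of the permutation of the path `nP` in a group `Γ` of
permutations of the 306936 points which contains the letters and has at most the order of Fi₂₄ is `⟨nP, l, a⟩`.
-/

namespace Cfsg.Agent.Lib.Helper15.F24OCentMain
open Cfsg.Agent.Lib.Helper28.TC2Upper Cfsg.Agent.Lib.Helper28.TC2Lower Cfsg.Agent.Lib.Helper28.TC2Bsgs
open Cfsg.Agent.Lib.Helper15.F24OTree Cfsg.Agent.Lib.Helper15.F24OData Cfsg.Agent.Lib.Helper15.F24OCentDefs
open Cfsg.Agent.Lib.Helper15.F24OCent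

/-- the coset table -/
noncomputable abbrev tbl : Table := Cfsg.Agent.Lib.Helper28.TCFi24Table.table

theorem c00 : ∀ i, i < 1536 → chk00 tbl i = true := by
  intro i hi
  rcases Nat.lt_or_ge i 384 with h1 | h1
  · exact (chk00Range_iff tbl 0 384).mp F24OChkB.c00_0 i (by omega) (by omega)
  rcases Nat.lt_or_ge i 768 with h2 | h2
  · exact (chk00Range_iff tbl 384 384).mp F24OChkB.c00_1 i (by omega) (by omega)
  rcases Nat.lt_or_ge i 1152 with h3 | h3
  · exact (chk00Range_iff tbl 768 384).mp F24OChkB.c00_2 i (by omega) (by omega)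
  exact (chk00Range_iff tbl 1152 384).mp F24OChkB.c00_3 i (by omega) (by omega)

theorem c11 : ∀ i, i < 1536 → chk11 tbl i = true := by
  intro i hi
  rcases Nat.lt_or_ge i 384 with h1 | h1
  · exact (chk11Range_iff tbl 0 384).mp F24OChkC.c11_0 i (by omega) (by omega)
  rcases Nat.lt_or_ge i 768 with h2 | h2
  · exact (chk11Range_iff tbl 384 384).mp F24OChkC.c11_1 i (by omega) (by omega)
  rcases Nat.lt_or_ge i 1152 with h3 | h3
  · exact (chk11Range_iff tbl 768 384).mp F24OChkC.c11_2 i (by omega) (by omega)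
  exact (chk11Range_iff tbl 1152 384).mp F24OChkC.c11_3 i (by omega) (by omega)

theorem fix4 : ∀ p, p < 306936 → tbl.walkT (n0P ++ n0P ++ n0P ++ n0P) p = p → p ∈ E0 := by
  intro p hp
  rcases Nat.lt_or_ge p 12789 with h0 | h0
  · exact (fixRange_iff tbl _ E0 0 12789).mp F24OChkD0.fx4_0 p (by omega) (by omega)
  rcases Nat.lt_or_ge p 25578 with h1 | h1
  · exact (fixRange_iff tbl _ E0 12789 12789).mp F24OChkD0.fx4_1 p (by omega) (by omega)
  rcases Nat.lt_or_ge p 38367 with h2 | h2
  · exact (fixRange_iff tbl _ E0 25578 12789).mp F24OChkD0.fx4_2 p (by omega) (by omega)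
  rcases Nat.lt_or_ge p 51156 with h3 | h3
  · exact (fixRange_iff tbl _ E0 38367 12789).mp F24OChkD0.fx4_3 p (by omega) (by omega)
  rcases Nat.lt_or_ge p 63945 with h4 | h4
  · exact (fixRange_iff tbl _ E0 51156 12789).mp F24OChkD0.fx4_4 p (by omega) (by omega)
  rcases Nat.lt_or_ge p 76734 with h5 | h5
  · exact (fixRange_iff tbl _ E0 63945 12789).mp F24OChkD0.fx4_5 p (by omega) (by omega)
  rcases Nat.lt_or_ge p 89523 with h6 | h6
  · exact (fixRange_iff tbl _ E0 76734 12789).mp F24OChkD1.fx4_6 p (by omega) (by omega)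
  rcases Nat.lt_or_ge p 102312 with h7 | h7
  · exact (fixRange_iff tbl _ E0 89523 12789).mp F24OChkD1.fx4_7 p (by omega) (by omega)
  rcases Nat.lt_or_ge p 115101 with h8 | h8
  · exact (fixRange_iff tbl _ E0 102312 12789).mp F24OChkD1.fx4_8 p (by omega) (by omega)
  rcases Nat.lt_or_ge p 127890 with h9 | h9
  · exact (fixRange_iff tbl _ E0 115101 12789).mp F24OChkD1.fx4_9 p (by omega) (by omega)
  rcases Nat.lt_or_ge p 140679 with h10 | h10
  · exact (fixRange_iff tbl _ E0 127890 12789).mp F24OChkD1.fx4_10 p (by omega) (by omega)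
  rcases Nat.lt_or_ge p 153468 with h11 | h11
  · exact (fixRange_iff tbl _ E0 140679 12789).mp F24OChkD1.fx4_11 p (by omega) (by omega)
  rcases Nat.lt_or_ge p 166257 with h12 | h12
  · exact (fixRange_iff tbl _ E0 153468 12789).mp F24OChkD2.fx4_12 p (by omega) (by omega)
  rcases Nat.lt_or_ge p 179046 with h13 | h13
  · exact (fixRange_iff tbl _ E0 166257 12789).mp F24OChkD2.fx4_13 p (by omega) (by omega)
  rcases Nat.lt_or_ge p 191835 with h14 | h14
  · exact (fixRange_iff tbl _ E0 179046 12789).mp F24OChkD2.fx4_14 p (by omega) (by omega)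
  rcases Nat.lt_or_ge p 204624 with h15 | h15
  · exact (fixRange_iff tbl _ E0 191835 12789).mp F24OChkD2.fx4_15 p (by omega) (by omega)
  rcases Nat.lt_or_ge p 217413 with h16 | h16
  · exact (fixRange_iff tbl _ E0 204624 12789).mp F24OChkD2.fx4_16 p (by omega) (by omega)
  rcases Nat.lt_or_ge p 230202 with h17 | h17
  · exact (fixRange_iff tbl _ E0 217413 12789).mp F24OChkD2.fx4_17 p (by omega) (by omega)
  rcases Nat.lt_or_ge p 242991 with h18 | h18
  · exact (fixRange_iff tbl _ E0 230202 12789).mp F24OChkD3.fx4_18 p (by omega) (by omega)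
  rcases Nat.lt_or_ge p 255780 with h19 | h19
  · exact (fixRange_iff tbl _ E0 242991 12789).mp F24OChkD3.fx4_19 p (by omega) (by omega)
  rcases Nat.lt_or_ge p 268569 with h20 | h20
  · exact (fixRange_iff tbl _ E0 255780 12789).mp F24OChkD3.fx4_20 p (by omega) (by omega)
  rcases Nat.lt_or_ge p 281358 with h21 | h21
  · exact (fixRange_iff tbl _ E0 268569 12789).mp F24OChkD3.fx4_21 p (by omega) (by omega)
  rcases Nat.lt_or_ge p 294147 with h22 | h22
  · exact (fixRange_iff tbl _ E0 281358 12789).mp F24OChkD3.fx4_22 p (by omega) (by omega)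
  exact (fixRange_iff tbl _ E0 294147 12789).mp F24OChkD3.fx4_23 p (by omega) (by omega)

/-- the Boolean checks -/
theorem checks : Checks tbl where
  n_eq := F24OChkG.n_eq
  k_eq := F24OChkG.k_eq
  inv_id := F24OChkG.inv_id
  root5 := F24OChkA.root5
  root6 := F24OChkA.root6
  root7 := F24OChkA.root7
  root8 := F24OChkA.root8
  gens5 := F24OChkA.gens5
  gens6 := F24OChkA.gens6
  gens7 := F24OChkA.gens7
  gens8 := F24OChkA.gens8
  t5 := F24OChkA.t5
  t6 := F24OChkA.t6
  t7 := F24OChkA.t7
  t8 := F24OChkA.t8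
  nd5 := F24OChkA.nd5
  nd6 := F24OChkA.nd6
  nd7 := F24OChkA.nd7
  nd8 := F24OChkA.nd8
  nP_lt := F24OChkE.nP_lt
  g11P_lt := F24OChkE.g11P_lt
  dP_lt := F24OChkE.dP_lt
  n0P_lt := F24OChkE.n0P_lt
  dP_E := F24OChkE.dP_E
  nP_E := F24OChkE.nP_E
  g11P_E := F24OChkE.g11P_E
  nP_r := F24OChkE.nP_r
  comm_l := F24OChkE.comm_l
  comm_a := F24OChkE.comm_a
  z_fix := F24OChkE.z_fix
  l_fix := F24OChkE.l_fix
  a_fix := F24OChkE.a_fix
  zimg_eq := F24OChkG.zimg_eq
  c00 := c00
  c11 := c11
  fix4 := fix4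

/-- the centraliser of the permutation of the path `nP` (of order 16) in a group of permutations of the 306936
points which contains the letters of the coset table, has at most the order of Fi₂₄, and whose chain of
stabilisers of the points 0, 6, 24, 113, 510 has at least the indices of the coset table -/
theorem centralizer_nP (hT : tbl.OK) (Γ : Subgroup (Equiv.Perm (Fin tbl.n)))
    (hΓ : ∀ l, l < tbl.k → Table.sigma hT l ∈ Γ) (hcard : Nat.card Γ ≤ 2510411418381323442585600)
    (hlow : 306936 * 31671 * 3510 * 693 * 180 * Nat.card (pstab Γ (toFin tbl.n [510, 113, 24, 6, 0])) ≤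
      Nat.card Γ)
    (c : Equiv.Perm (Fin tbl.n)) (hc : c ∈ Γ)
    (hcomm : c * pathProd (Table.sigma hT) nP = pathProd (Table.sigma hT) nP * c) :
    c ∈ Subgroup.closure {pathProd (Table.sigma hT) nP, Table.sigma hT 0, Table.sigma hT 2} :=
  centralizer_n hT checks Γ hΓ hcard hlow c hc hcomm

end Cfsg.Agent.Lib.Helper15.F24OCentMain
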