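import Cfsg.Agent.Lib.Helper15.F24OWalk
import Cfsg.Agent.Lib.Helper28.TCFi24Table
import Cfsg.Agent.Lib.Helper15.F24OChkG
set_option autoImplicit false
set_option maxRecDepth 100000
set_option maxHeartbeats 0

namespace Cfsg.Agent.Lib.Helper15.F24OIdChk1
open Cfsg.Agent.Lib.Helper28.TC2Upper Cfsg.Agent.Lib.Helper28.TC2Lower
open Cfsg.Agent.Lib.Helper15.F24OTree Cfsg.Agent.Lib.Helper15.F24OData Cfsg.Agent.Lib.Helper15.F24OCentDefs
open Cfsg.Agent.Lib.Helper15.F24OCent Cfsg.Agent.Lib.Helper15.F24OWalk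

/-- the coset table -/
noncomputable abbrev tbl : Table := Cfsg.Agent.Lib.Helper28.TCFi24Table.table

theorem yP_lt : allL (fun l => Nat.ble (Nat.succ l) 12) yP = true := by decide +kernel
theorem e1P_lt : allL (fun l => Nat.ble (Nat.succ l) 12) e1P = true := by decide +kernel
/-- `y ^ 17 = 1` -/
theorem y17 : eqChk tbl base (repL 17 yP) [] = true := by decide +kernel
theorem y_ne : neChk tbl 6 [yP] [] = true := by decide +kernel
theorem y_fix0 : tbl.walkT yP 0 = 0 := by decide +kernel
/-- `n y = y ^ 12 n` -/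
theorem conj12 : eqChk tbl base [yP, nP] (nP :: repL 12 yP) = true := by decide +kernel
/-- `n ^ 16 = 1` -/
theorem n16 : eqChk tbl base (repL 16 nP) [] = true := by decide +kernel
theorem n8_ne : neChk tbl 1 (repL 8 nP) [] = true := by decide +kernel
theorem t_sq : eqChk tbl base [tP, tP] [] = true := by decide +kernel
theorem t_comm : eqChk tbl base [tP, nP] [nP, tP] = true := by decide +kernel
theorem t_ne : neChk tbl 1 [tP] [] = true := by decide +kernel
theorem t_ne8 : neChk tbl 1 [tP] (repL 8 nP) = true := by decide +kernel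
/-- `(t y) ^ 10 = 1` -/
theorem ty10 : eqChk tbl base (repL 10 (yP ++ tP)) [] = true := by decide +kernel
/-- `(n ^ 8 t y) ^ 10 ≠ 1` -/
theorem n8ty10 : neChk tbl 6 (repL 10 (yP ++ tP ++ rep 8 nP)) [] = true := by decide +kernel
theorem s_o : tbl.walkT [1, 0] 0 = 2 := by decide +kernel
theorem s_inv_o : tbl.walkT [0, 1] 0 = 1 := by decide +kernel
theorem e1_fix : [0, 1, 2].map (tbl.walkT e1P) = [0, 1, 2] := by decide +kernel
theorem b_fix : [0, 2].map (tbl.walkT [3]) = [0, 2] := by decide +kernel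
theorem l_fix : [0, 6].map (tbl.walkT [0]) = [0, 6] := by decide +kernel
theorem a_fix0 : tbl.walkT [2] 0 = 0 := by decide +kernel

end Cfsg.Agent.Lib.Helper15.F24OIdChk1
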