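import Cfsg.Agent.Lib.Helper15.F24OWalk
import Cfsg.Agent.Lib.Helper28.TCFi24Table
import Cfsg.Agent.Lib.Helper15.F24OIdChk1
set_option autoImplicit false
set_option maxRecDepth 100000
set_option maxHeartbeats 0

namespace Cfsg.Agent.Lib.Helper15.F24OIdChk2
open Cfsg.Agent.Lib.Helper28.TC2Upper Cfsg.Agent.Lib.Helper28.TC2Lower
open Cfsg.Agent.Lib.Helper15.F24OTree Cfsg.Agent.Lib.Helper15.F24OData Cfsg.Agent.Lib.Helper15.F24OCentDefs
open Cfsg.Agent.Lib.Helper15.F24OCent Cfsg.Agent.Lib.Helper15.F24OWalk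

/-- the coset table -/
noncomputable abbrev tbl : Table := Cfsg.Agent.Lib.Helper28.TCFi24Table.table

/-- `l b h_b = h_b t` -/
theorem id_b : eqChk tbl base (hb ++ [[3, 0]]) (tP :: hb) = true := by decide +kernel
/-- `l c h_c = h_c t` -/
theorem id_c : eqChk tbl base (hc ++ [[4, 0]]) (tP :: hc) = true := by decide +kernel
/-- `l d h_d = h_d t` -/
theorem id_d : eqChk tbl base (hd ++ [[5, 0]]) (tP :: hd) = true := by decide +kernel
/-- `l e h_e = h_e t` -/
theorem id_e : eqChk tbl base (he ++ [[6, 0]]) (tP :: he) = true := by decide +kernel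
/-- `l f h_f = h_f t` -/
theorem id_f : eqChk tbl base (hf ++ [[7, 0]]) (tP :: hf) = true := by decide +kernel

end Cfsg.Agent.Lib.Helper15.F24OIdChk2
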