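import Cfsg.Agent.Lib.Helper15.F24OWalk
import Cfsg.Agent.Lib.Helper28.TCFi24Table
import Cfsg.Agent.Lib.Helper15.F24OIdChk2
set_option autoImplicit false
set_option maxRecDepth 100000
set_option maxHeartbeats 0

namespace Cfsg.Agent.Lib.Helper15.F24OIdChk3
open Cfsg.Agent.Lib.Helper28.TC2Upper Cfsg.Agent.Lib.Helper28.TC2Lower
open Cfsg.Agent.Lib.Helper15.F24OTree Cfsg.Agent.Lib.Helper15.F24OData Cfsg.Agent.Lib.Helper15.F24OCentDefs
open Cfsg.Agent.Lib.Helper15.F24OCent Cfsg.Agent.Lib.Helper15.F24OWalk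

/-- the coset table -/
noncomputable abbrev tbl : Table := Cfsg.Agent.Lib.Helper28.TCFi24Table.table

/-- `l g h_g = h_g t` -/
theorem id_g : eqChk tbl base (hg ++ [[8, 0]]) (tP :: hg) = true := by decide +kernel
/-- `l j h_j = h_j t` -/
theorem id_j : eqChk tbl base (hj ++ [[9, 0]]) (tP :: hj) = true := by decide +kernel
/-- `l h h_h = h_h t` -/
theorem id_h : eqChk tbl base (hh ++ [[10, 0]]) (tP :: hh) = true := by decide +kernel
/-- `l i h_i = h_i t` -/
theorem id_i : eqChk tbl base (hi ++ [[11, 0]]) (tP :: hi) = true := by decide +kernel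

end Cfsg.Agent.Lib.Helper15.F24OIdChk3
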