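import Cfsg.Agent.Lib.Helper15.F24OEl
import Cfsg.Agent.Lib.Helper15.F24OIdChk1
import Cfsg.Agent.Lib.Helper15.F24OIdChk2
import Cfsg.Agent.Lib.Helper15.F24OIdChk3
import Cfsg.Agent.Lib.Helper15.F24OChkE
import Cfsg.Agent.Lib.Helper15.F24OChkG
set_option autoImplicit false
set_option maxRecDepth 100000

/-!
# S2081: identities between the elements `y`, `n`, `t` of the presented Fi₂₄

Everything is proved from the faithful permutation representation `φ` on the 306936 points and the chain of
stabilisers of the eleven base points (hypotheses `hφ`, `hinj`, `hcard`, `hchain`, which come from helper28's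
certified coset enumeration).
-/

namespace Cfsg.Agent.Lib.Helper15.F24OConc1
open Cfsg.Agent.Lib.Helper28.TC2Upper Cfsg.Agent.Lib.Helper28.TC2Lower Cfsg.Agent.Lib.Helper28.TC2Glue
open Cfsg.Agent.Lib.Helper28.TC2Simple Cfsg.Agent.Lib.Helper28.TC2Bsgs Cfsg.Agent.Lib.Helper28.TC2BsgsW
open Cfsg.Agent.Lib.Helper28.TCFi24Link Cfsg.Agent.Lib.Helper28.TCFi24Table
open Cfsg.Agent.Lib.Helper15.F24OData Cfsg.Agent.Lib.Helper15.F24OCentDefs
open Cfsg.Agent.Lib.Helper15.F24OCent Cfsg.Agent.Lib.Helper15.F24OWalk Cfsg.Agent.Lib.Helper15.F24OEl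

theorem k_eq : table.k = 12 := F24OChkG.k_eq
theorem n_eq : table.n = 306936 := F24OChkG.n_eq

theorem lt_of_allL12 {w : List ℕ} (h : allL (fun l => Nat.ble (Nat.succ l) 12) w = true) : ∀ l ∈ w, l < 12 := by
  intro l hl
  have := (allL_iff _ _).mp h l hl
  rw [Nat.ble_eq] at this
  omega

theorem yP_lt : ∀ l ∈ yP, l < 12 := lt_of_allL12 F24OIdChk1.yP_lt
theorem nP_lt : ∀ l ∈ nP, l < 12 := lt_of_allL12 F24OChkE.nP_lt
theorem e1P_lt : ∀ l ∈ e1P, l < 12 := lt_of_allL12 F24OIdChk1.e1P_lt
theorem g11P_lt : ∀ l ∈ g11P, l < 12 := lt_of_allL12 F24OChkE.g11P_lt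
theorem tP_lt : ∀ l ∈ tP, l < 12 := by
  intro l hl
  simp only [tP, List.mem_cons, List.mem_nil_iff, or_false] at hl
  omega
theorem yPr_lt : ∀ l ∈ yPr, l < 12 := fun l hl => yP_lt l (List.mem_reverse.mp hl)
theorem nPr_lt : ∀ l ∈ nPr, l < 12 := fun l hl => nP_lt l (List.mem_reverse.mp hl)

/-- the five tokens -/
def toks : List (List ℕ) := [yP, yPr, nP, nPr, tP]

theorem toks_lt : ∀ w ∈ toks, ∀ l ∈ w, l < 12 := by
  intro w hw
  simp only [toks, List.mem_cons, List.mem_nil_iff, or_false] at hw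
  rcases hw with rfl | rfl | rfl | rfl | rfl
  · exact yP_lt
  · exact yPr_lt
  · exact nP_lt
  · exact nPr_lt
  · exact tP_lt

theorem flatten_lt (ws : List (List ℕ)) (h : ∀ w ∈ ws, ∀ l ∈ w, l < 12) : ∀ l ∈ ws.flatten, l < 12 := by
  intro l hl
  rw [List.mem_flatten] at hl
  obtain ⟨w, hw, hlw⟩ := hl
  exact h w hw l hlw

section Conc
variable (hT : table.OK) (φ : K →* Equiv.Perm (Fin table.n))
  (hφ : ∀ x, φ (PresentedGroup.of x) = Table.sigma hT (lw (x, true)))
  (hinj : Function.Injective φ) (hfin : Finite K)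
  (hcard : Nat.card K = 2510411418381323442585600)
  (hchain : 2510411418381323442585600 * Nat.card (pstab φ.range (toFin table.n base)) ≤ Nat.card φ.range)

include hφ in
theorem phi_el_val (p : List ℕ) (hp : ∀ l ∈ p, l < 12) (x : Fin table.n) :
    (φ (el p) x).val = table.walkT p x.val := by
  rw [phi_el φ hT hφ p hp]
  exact Table.pathProd_sigma_apply hT p (fun l hl => by rw [k_eq]; exact hp l hl) x

include hφ hinj hfin hcard hchain in
/-- two paths that agree on the eleven base points give the same element -/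
theorem el_eq_of_agree (u v : List ℕ) (hu : ∀ l ∈ u, l < 12) (hv : ∀ l ∈ v, l < 12)
    (h : ∀ b ∈ base, table.walkT u b = table.walkT v b) : el u = el v := by
  have := hfin
  apply hinj
  have hrange : Nat.card φ.range ≤ 2510411418381323442585600 := by
    rw [← hcard]
    exact Nat.card_le_card_of_surjective φ.rangeRestrict φ.rangeRestrict_surjective
  have h1 : (φ (el v))⁻¹ * φ (el u) = 1 := by
    apply eq_one_of_fix φ.range (toFin table.n base) 2510411418381323442585600 (by norm_num) hchain hrange _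
      (φ.range.mul_mem (φ.range.inv_mem ⟨_, rfl⟩) ⟨_, rfl⟩)
    intro b hb
    have e : φ (el u) b = φ (el v) b := by
      apply Fin.ext
      rw [phi_el_val hT φ hφ u hu, phi_el_val hT φ hφ v hv]
      exact h b.val (val_mem_of_mem_toFin hb)
    rw [Equiv.Perm.mul_apply, e]
    exact Equiv.symm_apply_apply _ _
  exact (inv_mul_eq_one.mp h1).symm

include hφ hinj hfin hcard hchain in
theorem el_eq_of_chk (u v : List (List ℕ)) (hu : ∀ w ∈ u, ∀ l ∈ w, l < 12) (hv : ∀ w ∈ v, ∀ l ∈ w, l < 12)
    (h : eqChk table base u v = true) : el u.flatten = el v.flatten :=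
  el_eq_of_agree hT φ hφ hinj hfin hcard hchain _ _ (flatten_lt u hu) (flatten_lt v hv) ((eqChk_iff _ _ _ _).mp h)

include hφ in
theorem el_ne_of_chk (p : ℕ) (hp : p < 306936) (u v : List (List ℕ)) (hu : ∀ w ∈ u, ∀ l ∈ w, l < 12)
    (hv : ∀ w ∈ v, ∀ l ∈ w, l < 12) (h : neChk table p u v = true) : el u.flatten ≠ el v.flatten := by
  intro e
  have h1 := (neChk_iff _ _ _ _).mp h
  apply h1
  have hp' : p < table.n := by rw [n_eq]; exact hp
  rw [← phi_el_val hT φ hφ _ (flatten_lt u hu) ⟨p, hp'⟩, ← phi_el_val hT φ hφ _ (flatten_lt v hv) ⟨p, hp'⟩, e]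

theorem repL_lt (m : ℕ) (w : List ℕ) (hw : ∀ l ∈ w, l < 12) : ∀ w' ∈ repL m w, ∀ l ∈ w', l < 12 := by
  induction m with
  | zero => intro w' hw'; exact absurd hw' (by simp [repL_zero])
  | succ m ih =>
    intro w' hw'
    rw [repL_succ, List.mem_cons] at hw'
    rcases hw' with rfl | hw'
    · exact hw
    · exact ih w' hw'

theorem nil_lt : ∀ w ∈ ([] : List (List ℕ)), ∀ l ∈ w, l < 12 := fun w hw => absurd hw (by simp)

theorem el_flatten_repL (m : ℕ) (w : List ℕ) : el (repL m w).flatten = el w ^ m := by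
  rw [flatten_repL, el_rep]

/-- the element of order 17 -/
noncomputable def y : K := el yP
/-- the element of order 16 -/
noncomputable def n : K := el nP
/-- the involution `l a` -/
noncomputable def t : K := el tP

include hφ hinj hfin hcard hchain in
theorem y_pow : y ^ 17 = 1 := by
  have := el_eq_of_chk hT φ hφ hinj hfin hcard hchain _ _ (repL_lt 17 yP yP_lt) nil_lt F24OIdChk1.y17
  rw [el_flatten_repL] at this
  exact this

include hφ in
theorem y_ne_one : y ≠ 1 := by
  have := el_ne_of_chk hT φ hφ 6 (by norm_num) [yP] [] (by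
    intro w hw
    rw [List.mem_singleton] at hw
    rw [hw]; exact yP_lt) nil_lt F24OIdChk1.y_ne
  intro e
  apply this
  rw [List.flatten_cons, List.flatten_nil, List.append_nil]
  exact e

include hφ hinj hfin hcard hchain in
theorem orderOf_y : orderOf y = 17 := by
  have : Fact (Nat.Prime 17) := ⟨by norm_num⟩
  exact orderOf_eq_prime (y_pow hT φ hφ hinj hfin hcard hchain) (y_ne_one hT φ hφ)

theorem lt_pair (u v : List ℕ) (hu : ∀ l ∈ u, l < 12) (hv : ∀ l ∈ v, l < 12) :
    ∀ w ∈ [u, v], ∀ l ∈ w, l < 12 := by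
  intro w hw
  simp only [List.mem_cons, List.mem_nil_iff, or_false] at hw
  rcases hw with rfl | rfl
  · exact hu
  · exact hv

include hφ hinj hfin hcard hchain in
/-- `n y n⁻¹ = y ^ 12` -/
theorem conj_y : n * y * n⁻¹ = y ^ 12 := by
  have h := el_eq_of_chk hT φ hφ hinj hfin hcard hchain [yP, nP] (nP :: repL 12 yP) (lt_pair _ _ yP_lt nP_lt)
    (by
      intro w hw
      rw [List.mem_cons] at hw
      rcases hw with rfl | hw
      · exact nP_lt
      · exact repL_lt 12 yP yP_lt w hw) F24OIdChk1.conj12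
  rw [List.flatten_cons, List.flatten_cons, List.flatten_nil, List.append_nil, el_append, List.flatten_cons,
    el_append, el_flatten_repL] at h
  -- h : n * y = y ^ 12 * n
  show el nP * el yP * (el nP)⁻¹ = (el yP) ^ 12
  rw [h, mul_inv_cancel_right]

include hφ hinj hfin hcard hchain in
theorem n_pow : n ^ 16 = 1 := by
  have := el_eq_of_chk hT φ hφ hinj hfin hcard hchain _ _ (repL_lt 16 nP nP_lt) nil_lt F24OIdChk1.n16
  rw [el_flatten_repL] at this
  exact this

include hφ in
theorem n_pow8_ne : n ^ 8 ≠ 1 := by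
  have := el_ne_of_chk hT φ hφ 1 (by norm_num) _ [] (repL_lt 8 nP nP_lt) nil_lt F24OIdChk1.n8_ne
  rw [el_flatten_repL] at this
  exact this

include hφ hinj hfin hcard hchain in
theorem orderOf_n : orderOf n = 16 := by
  have : Fact (Nat.Prime 2) := ⟨by norm_num⟩
  have h := orderOf_eq_prime_pow (x := n) (p := 2) (n := 3) (by norm_num; exact n_pow8_ne hT φ hφ)
    (by norm_num; exact n_pow hT φ hφ hinj hfin hcard hchain)
  norm_num at h
  exact h

include hφ hinj hfin hcard hchain in
theorem t_sq : t ^ 2 = 1 := by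
  have h := el_eq_of_chk hT φ hφ hinj hfin hcard hchain [tP, tP] [] (lt_pair _ _ tP_lt tP_lt) nil_lt F24OIdChk1.t_sq
  rw [List.flatten_cons, List.flatten_cons, List.flatten_nil, List.append_nil, el_append] at h
  rw [pow_two]
  exact h

include hφ hinj hfin hcard hchain in
theorem t_comm : t * n = n * t := by
  have h := el_eq_of_chk hT φ hφ hinj hfin hcard hchain [tP, nP] [nP, tP] (lt_pair _ _ tP_lt nP_lt)
    (lt_pair _ _ nP_lt tP_lt) F24OIdChk1.t_comm
  rw [List.flatten_cons, List.flatten_cons, List.flatten_nil, List.append_nil, el_append,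
    List.flatten_cons, List.flatten_cons, List.flatten_nil, List.append_nil, el_append] at h
  -- h : n * t = t * n
  exact h.symm

include hφ in
theorem t_ne_one : t ≠ 1 := by
  have := el_ne_of_chk hT φ hφ 1 (by norm_num) [tP] [] (by
    intro w hw
    rw [List.mem_singleton] at hw
    rw [hw]; exact tP_lt) nil_lt F24OIdChk1.t_ne
  intro e
  apply this
  rw [List.flatten_cons, List.flatten_nil, List.append_nil]
  exact e

include hφ in
theorem t_ne_pow8 : t ≠ n ^ 8 := by
  have := el_ne_of_chk hT φ hφ 1 (by norm_num) [tP] (repL 8 nP) (by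
    intro w hw
    rw [List.mem_singleton] at hw
    rw [hw]; exact tP_lt) (repL_lt 8 nP nP_lt) F24OIdChk1.t_ne8
  intro e
  apply this
  rw [List.flatten_cons, List.flatten_nil, List.append_nil, el_flatten_repL]
  exact e

end Conc

end Cfsg.Agent.Lib.Helper15.F24OConc1
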