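import Cfsg.Agent.Lib.Helper15.F24OConc1
set_option autoImplicit false
set_option maxRecDepth 100000

/-!
# S2081: the orders of `t y` and `n⁸ t y`; the subgroup `⟨y, n, t⟩` contains the products `l x`
-/

namespace Cfsg.Agent.Lib.Helper15.F24OConc2
open Cfsg.Agent.Lib.Helper28.TC2Upper Cfsg.Agent.Lib.Helper28.TC2Lower Cfsg.Agent.Lib.Helper28.TC2Glue
open Cfsg.Agent.Lib.Helper28.TC2Simple Cfsg.Agent.Lib.Helper28.TC2Bsgs Cfsg.Agent.Lib.Helper28.TC2BsgsW
open Cfsg.Agent.Lib.Helper28.TCFi24Link Cfsg.Agent.Lib.Helper28.TCFi24Table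
open Cfsg.Agent.Lib.Helper15.F24OData Cfsg.Agent.Lib.Helper15.F24OCentDefs
open Cfsg.Agent.Lib.Helper15.F24OCent Cfsg.Agent.Lib.Helper15.F24OWalk Cfsg.Agent.Lib.Helper15.F24OEl
open Cfsg.Agent.Lib.Helper15.F24OConc1

section Conc
variable (hT : table.OK) (φ : K →* Equiv.Perm (Fin table.n))
  (hφ : ∀ x, φ (PresentedGroup.of x) = Table.sigma hT (lw (x, true)))
  (hinj : Function.Injective φ) (hfin : Finite K)
  (hcard : Nat.card K = 2510411418381323442585600)
  (hchain : 2510411418381323442585600 * Nat.card (pstab φ.range (toFin table.n base)) ≤ Nat.card φ.range)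

theorem append_lt (u v : List ℕ) (hu : ∀ l ∈ u, l < 12) (hv : ∀ l ∈ v, l < 12) : ∀ l ∈ u ++ v, l < 12 := by
  intro l hl
  rw [List.mem_append] at hl
  rcases hl with h | h
  · exact hu l h
  · exact hv l h

theorem rep_lt (m : ℕ) (w : List ℕ) (hw : ∀ l ∈ w, l < 12) : ∀ l ∈ rep m w, l < 12 :=
  fun l hl => hw l (mem_rep hl)

include hφ hinj hfin hcard hchain in
theorem ty_pow : (t * y) ^ 10 = 1 := by
  have h := el_eq_of_chk hT φ hφ hinj hfin hcard hchain _ _
    (repL_lt 10 (yP ++ tP) (append_lt _ _ yP_lt tP_lt)) nil_lt F24OIdChk1.ty10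
  rw [el_flatten_repL, el_append] at h
  exact h

include hφ in
theorem n8ty_pow_ne : (n ^ 8 * t * y) ^ 10 ≠ 1 := by
  have h := el_ne_of_chk hT φ hφ 6 (by norm_num) _ []
    (repL_lt 10 (yP ++ tP ++ rep 8 nP) (append_lt _ _ (append_lt _ _ yP_lt tP_lt) (rep_lt 8 nP nP_lt)))
    nil_lt F24OIdChk1.n8ty10
  rw [el_flatten_repL, el_append, el_append, el_rep, ← mul_assoc] at h
  exact h

include hφ hinj hfin hcard hchain in
theorem orderOf_ne : orderOf (t * y) ≠ orderOf (n ^ 8 * t * y) := by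
  intro e
  apply n8ty_pow_ne hT φ hφ
  have h1 : orderOf (t * y) ∣ 10 := orderOf_dvd_of_pow_eq_one (ty_pow hT φ hφ hinj hfin hcard hchain)
  rw [e] at h1
  exact orderOf_dvd_iff_pow_eq_one.mp h1

/-- the subgroup generated by `y`, `n`, `t` -/
noncomputable def Y : Subgroup K := Subgroup.closure {y, n, t}

theorem y_mem : y ∈ Y := Subgroup.subset_closure (by simp)
theorem n_mem : n ∈ Y := Subgroup.subset_closure (by simp)
theorem t_mem : t ∈ Y := Subgroup.subset_closure (by simp)

theorem toks_mem : ∀ w ∈ toks, el w ∈ Y := by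
  intro w hw
  simp only [toks, List.mem_cons, List.mem_nil_iff, or_false] at hw
  rcases hw with rfl | rfl | rfl | rfl | rfl
  · exact y_mem
  · show el yP.reverse ∈ Y
    rw [el_reverse]
    exact Y.inv_mem y_mem
  · exact n_mem
  · show el nP.reverse ∈ Y
    rw [el_reverse]
    exact Y.inv_mem n_mem
  · exact t_mem

include hφ hinj hfin hcard hchain in
/-- a product `l x` is conjugate to `t` under `⟨y, n, t⟩` -/
theorem lx_mem (x : ℕ) (hx : x < 12) (h : List (List ℕ)) (hh : ∀ w ∈ h, w ∈ toks)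
    (hchk : eqChk table base (h ++ [[x, 0]]) (tP :: h) = true) : el [x, 0] ∈ Y := by
  have hlt : ∀ w ∈ h, ∀ l ∈ w, l < 12 := fun w hw => toks_lt w (hh w hw)
  have hx0 : ∀ l ∈ [x, 0], l < 12 := by
    intro l hl
    simp only [List.mem_cons, List.mem_nil_iff, or_false] at hl
    rcases hl with rfl | rfl
    · exact hx
    · norm_num
  have e := el_eq_of_chk hT φ hφ hinj hfin hcard hchain (h ++ [[x, 0]]) (tP :: h) (by
      intro w hw
      rw [List.mem_append, List.mem_singleton] at hw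
      rcases hw with hw | rfl
      · exact hlt w hw
      · exact hx0) (by
      intro w hw
      rw [List.mem_cons] at hw
      rcases hw with rfl | hw
      · exact tP_lt
      · exact hlt w hw) hchk
  rw [List.flatten_append, List.flatten_cons, List.flatten_nil, List.append_nil, el_append, List.flatten_cons,
    el_append] at e
  -- e : el [x, 0] * H = H * t
  have hH : el h.flatten ∈ Y := el_flatten_mem Y h (fun w hw => toks_mem w (hh w hw))
  have e' : el [x, 0] = el h.flatten * el tP * (el h.flatten)⁻¹ := by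
    rw [← e, mul_inv_cancel_right]
  rw [e']
  exact Y.mul_mem (Y.mul_mem hH t_mem) (Y.inv_mem hH)

theorem hb_toks : ∀ w ∈ hb, w ∈ toks := by
  intro w hw
  simp only [hb, List.mem_cons, List.mem_nil_iff, or_false] at hw
  rcases hw with rfl | rfl | rfl | rfl | rfl | rfl | rfl | rfl | rfl | rfl | rfl | rfl | rfl | rfl | rfl <;> simp [toks]

theorem hc_toks : ∀ w ∈ hc, w ∈ toks := by
  intro w hw
  simp only [hc, List.mem_cons, List.mem_nil_iff, or_false] at hw
  rcases hw with rfl | rfl | rfl | rfl | rfl | rfl | rfl | rfl | rfl | rfl | rfl | rfl | rfl | rfl <;> simp [toks]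

theorem hd_toks : ∀ w ∈ hd, w ∈ toks := by
  intro w hw
  simp only [hd, List.mem_cons, List.mem_nil_iff, or_false] at hw
  rcases hw with rfl | rfl | rfl | rfl | rfl | rfl | rfl | rfl | rfl | rfl <;> simp [toks]

theorem he_toks : ∀ w ∈ he, w ∈ toks := by
  intro w hw
  simp only [he, List.mem_cons, List.mem_nil_iff, or_false] at hw
  rcases hw with rfl | rfl | rfl | rfl | rfl | rfl | rfl | rfl | rfl | rfl | rfl | rfl | rfl | rfl | rfl <;> simp [toks]

theorem hf_toks : ∀ w ∈ hf, w ∈ toks := by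
  intro w hw
  simp only [hf, List.mem_cons, List.mem_nil_iff, or_false] at hw
  rcases hw with rfl | rfl | rfl | rfl | rfl | rfl | rfl | rfl | rfl | rfl | rfl | rfl <;> simp [toks]

theorem hg_toks : ∀ w ∈ hg, w ∈ toks := by
  intro w hw
  simp only [hg, List.mem_cons, List.mem_nil_iff, or_false] at hw
  rcases hw with rfl | rfl | rfl | rfl | rfl | rfl | rfl | rfl | rfl | rfl | rfl | rfl | rfl | rfl | rfl <;> simp [toks]

theorem hj_toks : ∀ w ∈ hj, w ∈ toks := by
  intro w hw
  simp only [hj, List.mem_cons, List.mem_nil_iff, or_false] at hw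
  rcases hw with rfl | rfl | rfl | rfl | rfl | rfl | rfl | rfl | rfl | rfl | rfl | rfl | rfl <;> simp [toks]

theorem hh_toks : ∀ w ∈ hh, w ∈ toks := by
  intro w hw
  simp only [hh, List.mem_cons, List.mem_nil_iff, or_false] at hw
  rcases hw with rfl | rfl | rfl | rfl | rfl | rfl | rfl | rfl | rfl | rfl | rfl | rfl | rfl <;> simp [toks]

theorem hi_toks : ∀ w ∈ hi, w ∈ toks := by
  intro w hw
  simp only [hi, List.mem_cons, List.mem_nil_iff, or_false] at hw
  rcases hw with rfl | rfl | rfl | rfl | rfl | rfl | rfl | rfl | rfl | rfl | rfl | rfl | rfl | rfl | rfl | rfl <;> simp [toks]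

include hφ hinj hfin hcard hchain in
/-- the products `l x` for the generators `x` other than `k` lie in `⟨y, n, t⟩` -/
theorem lx_mem_all (x : ℕ) (hx2 : 2 ≤ x) (hx : x < 12) : el [x, 0] ∈ Y := by
  have h3 : x = 2 ∨ x = 3 ∨ x = 4 ∨ x = 5 ∨ x = 6 ∨ x = 7 ∨ x = 8 ∨ x = 9 ∨ x = 10 ∨ x = 11 := by omega
  rcases h3 with rfl | rfl | rfl | rfl | rfl | rfl | rfl | rfl | rfl | rfl
  · -- `l a = t`
    have e : el [2, 0] = t := by
      have h1 : t = el [2] * el [0] := el_append [0] [2]
      have h2 : el [2, 0] = el [0] * el [2] := el_append [2] [0]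
      have h3 : t⁻¹ = t := by
        apply inv_eq_of_mul_eq_one_left
        rw [← pow_two]
        exact t_sq hT φ hφ hinj hfin hcard hchain
      rw [h2, ← h3, h1, mul_inv_rev, el_singleton_inv, el_singleton_inv]
    rw [e]
    exact t_mem
  · exact lx_mem hT φ hφ hinj hfin hcard hchain 3 (by norm_num) hb hb_toks F24OIdChk2.id_b
  · exact lx_mem hT φ hφ hinj hfin hcard hchain 4 (by norm_num) hc hc_toks F24OIdChk2.id_c
  · exact lx_mem hT φ hφ hinj hfin hcard hchain 5 (by norm_num) hd hd_toks F24OIdChk2.id_d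
  · exact lx_mem hT φ hφ hinj hfin hcard hchain 6 (by norm_num) he he_toks F24OIdChk2.id_e
  · exact lx_mem hT φ hφ hinj hfin hcard hchain 7 (by norm_num) hf hf_toks F24OIdChk2.id_f
  · exact lx_mem hT φ hφ hinj hfin hcard hchain 8 (by norm_num) hg hg_toks F24OIdChk3.id_g
  · exact lx_mem hT φ hφ hinj hfin hcard hchain 9 (by norm_num) hj hj_toks F24OIdChk3.id_j
  · exact lx_mem hT φ hφ hinj hfin hcard hchain 10 (by norm_num) hh hh_toks F24OIdChk3.id_h
  · exact lx_mem hT φ hφ hinj hfin hcard hchain 11 (by norm_num) hi hi_toks F24OIdChk3.id_i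

end Conc

end Cfsg.Agent.Lib.Helper15.F24OConc2
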