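import Cfsg.Agent.Lib.Helper28.TCFi24Orb
import Cfsg.Agent.Lib.Helper15.F24OIdChk3
set_option autoImplicit false
set_option maxRecDepth 100000
set_option maxHeartbeats 0

namespace Cfsg.Agent.Lib.Helper15.F24OIdChk4
open Cfsg.Agent.Lib.Helper28.TC2Upper Cfsg.Agent.Lib.Helper28.TC2Lower Cfsg.Agent.Lib.Helper28.TC2Orbit
open Cfsg.Agent.Lib.Helper28.TCFi24Table Cfsg.Agent.Lib.Helper28.TCFi24Orb

/-- the number of the transpositions commuting with `l` and of the others -/
theorem cnt1 : orbData.count table.n 1 = 275264 := by decide +kernel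
theorem cnt2 : orbData.count table.n 2 = 31671 := by decide +kernel
theorem oid6 : orbData.oid 6 = 2 := by decide +kernel
theorem oid2 : orbData.oid 2 = 1 := by decide +kernel

end Cfsg.Agent.Lib.Helper15.F24OIdChk4
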