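import Cfsg.Agent.Lib.Helper15.F24OConc2
import Cfsg.Agent.Lib.Helper15.F24OAbs5
import Cfsg.Agent.Lib.Helper15.F24OIdChk4
import Cfsg.Agent.Lib.Helper28.TC2Bsgs
set_option autoImplicit false
set_option maxRecDepth 100000

/-!
# S2081: the stabiliser of the point `0`, and the fixed point of `y`
-/

namespace Cfsg.Agent.Lib.Helper15.F24OConc3
open Cfsg.Agent.Lib.Helper28.TC2Upper Cfsg.Agent.Lib.Helper28.TC2Lower Cfsg.Agent.Lib.Helper28.TC2Glue
open Cfsg.Agent.Lib.Helper28.TC2Simple Cfsg.Agent.Lib.Helper28.TC2Bsgs Cfsg.Agent.Lib.Helper28.TC2BsgsW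
open Cfsg.Agent.Lib.Helper28.TC2Orbit
open Cfsg.Agent.Lib.Helper28.TCFi24Link Cfsg.Agent.Lib.Helper28.TCFi24Table Cfsg.Agent.Lib.Helper28.TCFi24Orb
open Cfsg.Agent.Lib.Helper15.F24OData Cfsg.Agent.Lib.Helper15.F24OCentDefs
open Cfsg.Agent.Lib.Helper15.F24OCent Cfsg.Agent.Lib.Helper15.F24OWalk Cfsg.Agent.Lib.Helper15.F24OEl
open Cfsg.Agent.Lib.Helper15.F24OConc1 Cfsg.Agent.Lib.Helper15.F24OConc2

/-- the subgroup generated by all generators but `k` -/
abbrev H0 : Subgroup K := (Subgroup.closure S).map (PresentedGroup.mk rels)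

theorem n_pos : 0 < table.n := by rw [n_eq]; norm_num

/-- the point `0` -/
def o : Fin table.n := ⟨0, n_pos⟩

section Conc
variable (hT : table.OK) (φ : K →* Equiv.Perm (Fin table.n))
  (hφ : ∀ x, φ (PresentedGroup.of x) = Table.sigma hT (lw (x, true)))
  (hinj : Function.Injective φ) (hfin : Finite K)
  (f : K ⧸ H0 → Fin table.n) (hbij : Function.Bijective f) (hequiv : ∀ g q, f (g • q) = φ g (f q))
  (h0 : f (QuotientGroup.mk 1) = o)
  (hcardH : Nat.card H0 = 8178940946586009600)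
  (horbit : ∀ p : Fin table.n, (MulAction.orbit (H0.map φ) p : Set (Fin table.n)) =
    {q | orbData.oid q.val = orbData.oid p.val})
  (hcls : ∀ x : K, x ∉ H0 → orbData.oid (f (QuotientGroup.mk x)).val = 1 ∨
    orbData.oid (f (QuotientGroup.mk x)).val = 2)

include hequiv h0 in
theorem f_mk (g : K) : f (QuotientGroup.mk g) = φ g o := by
  have e : (QuotientGroup.mk g : K ⧸ H0) = g • (QuotientGroup.mk 1 : K ⧸ H0) := by
    show _ = (QuotientGroup.mk (g * 1) : K ⧸ H0)
    rw [mul_one]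
  rw [e, hequiv, h0]

include hbij hequiv h0 in
theorem stab_iff (g : K) : φ g o = o ↔ g ∈ H0 := by
  rw [← f_mk φ f hequiv h0 g, ← h0]
  constructor
  · intro h
    have := hbij.1 h
    rw [QuotientGroup.eq, mul_one] at this
    exact (H0.inv_mem_iff).mp this
  · intro h
    congr 1
    rw [QuotientGroup.eq, mul_one]
    exact H0.inv_mem h

include hbij hequiv h0 in
theorem exists_phi_eq (x : Fin table.n) : ∃ g : K, φ g o = x := by
  obtain ⟨q, rfl⟩ := hbij.2 x
  obtain ⟨g, rfl⟩ := QuotientGroup.mk_surjective q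
  exact ⟨g, (f_mk φ f hequiv h0 g).symm⟩

include hbij hequiv h0 hcls in
theorem cls_ne (x : Fin table.n) (hx : x ≠ o) : orbData.oid x.val = 1 ∨ orbData.oid x.val = 2 := by
  obtain ⟨g, rfl⟩ := exists_phi_eq φ f hbij hequiv h0 x
  have hg : g ∉ H0 := fun h => hx ((stab_iff φ f hbij hequiv h0 g).mpr h)
  have := hcls g hg
  rw [f_mk φ f hequiv h0 g] at this
  exact this

include hφ in
theorem y_fix : φ y o = o := by
  apply Fin.ext
  rw [show (y : K) = el yP from rfl, phi_el_val hT φ hφ yP yP_lt]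
  exact F24OIdChk1.y_fix0

include hφ hbij hequiv h0 in
theorem y_mem_H0 : y ∈ H0 := (stab_iff φ f hbij hequiv h0 y).mp (y_fix hT φ hφ)

include hφ hinj hfin hbij hequiv h0 hcardH horbit hcls in
/-- the only fixed point of `y` -/
theorem fix_y (hcard : Nat.card K = 2510411418381323442585600)
    (hchain : 2510411418381323442585600 * Nat.card (pstab φ.range (toFin table.n base)) ≤ Nat.card φ.range)
    (x : Fin table.n) (hx : φ y x = x) : x = o := by
  by_contra hne
  have : Fact (Nat.Prime 17) := ⟨by norm_num⟩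
  have hcardmap : Nat.card (H0.map φ) = 8178940946586009600 := by
    rw [Subgroup.card_map_of_injective hinj, hcardH]
  have hord : orderOf (φ y) = 17 := by
    rw [orderOf_injective φ hinj y]
    exact orderOf_y hT φ hφ hinj hfin hcard hchain
  have hmem : φ y ∈ H0.map φ := Subgroup.mem_map_of_mem φ (y_mem_H0 hT φ hφ f hbij hequiv h0)
  have hdvd : 17 ∣ Nat.card (MulAction.orbit (H0.map φ) x) := by
    rw [Nat.card_coe_set_eq, horbit x, ncard_class orbData table.n (orbData.oid x.val)]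
    rcases cls_ne φ f hbij hequiv h0 hcls x hne with h | h
    · rw [h, F24OIdChk4.cnt1]; norm_num
    · rw [h, F24OIdChk4.cnt2]; norm_num
  exact Cfsg.Agent.Lib.Helper15.F24OAbs5.no_fix_of_dvd (H0.map φ) 17 (by rw [hcardmap]; norm_num) (φ y) hmem hord x
    hdvd hx

end Conc

end Cfsg.Agent.Lib.Helper15.F24OConc3
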