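import Cfsg.Agent.Lib.Helper15.F24OWalk
import Cfsg.Agent.Lib.Helper28.TCFi24Table
import Cfsg.Agent.Lib.Helper15.F24OIdChk4
set_option autoImplicit false
set_option maxRecDepth 100000
set_option maxHeartbeats 0

namespace Cfsg.Agent.Lib.Helper15.F24OIdChk5
open Cfsg.Agent.Lib.Helper28.TC2Upper Cfsg.Agent.Lib.Helper28.TC2Lower
open Cfsg.Agent.Lib.Helper15.F24OTree Cfsg.Agent.Lib.Helper15.F24OData Cfsg.Agent.Lib.Helper15.F24OCentDefs
open Cfsg.Agent.Lib.Helper15.F24OCent Cfsg.Agent.Lib.Helper15.F24OWalk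

/-- the coset table -/
noncomputable abbrev tbl : Table := Cfsg.Agent.Lib.Helper28.TCFi24Table.table

/-- `l` and `a` commute with `n` and with each other -/
theorem comm_ln : eqChk tbl base [[0], nP] [nP, [0]] = true := by decide +kernel
theorem comm_an : eqChk tbl base [[2], nP] [nP, [2]] = true := by decide +kernel
theorem comm_la : eqChk tbl base [[0], [2]] [[2], [0]] = true := by decide +kernel

end Cfsg.Agent.Lib.Helper15.F24OIdChk5
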