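import Cfsg.Agent.Lib.Helper15.F24OConc3
import Cfsg.Agent.Lib.Helper15.F24OIdChk5
import Cfsg.Prelude.Def_Spor_Fi23
set_option autoImplicit false
set_option maxRecDepth 100000

/-!
# S2081: the centralisers of `n` and of `y` in the commutator subgroup of Fi₂₄
-/

namespace Cfsg.Agent.Lib.Helper15.F24OConc4
open Cfsg.Agent.Lib.Helper28.TC2Upper Cfsg.Agent.Lib.Helper28.TC2Lower Cfsg.Agent.Lib.Helper28.TC2Glue
open Cfsg.Agent.Lib.Helper28.TC2Simple Cfsg.Agent.Lib.Helper28.TC2Bsgs Cfsg.Agent.Lib.Helper28.TC2BsgsW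
open Cfsg.Agent.Lib.Helper28.TC2Orbit
open Cfsg.Agent.Lib.Helper28.TCFi24Link Cfsg.Agent.Lib.Helper28.TCFi24Table Cfsg.Agent.Lib.Helper28.TCFi24Orb
open Cfsg.Agent.Lib.Helper15.F24OData Cfsg.Agent.Lib.Helper15.F24OCentDefs
open Cfsg.Agent.Lib.Helper15.F24OCent Cfsg.Agent.Lib.Helper15.F24OWalk Cfsg.Agent.Lib.Helper15.F24OEl
open Cfsg.Agent.Lib.Helper15.F24OConc1 Cfsg.Agent.Lib.Helper15.F24OConc2 Cfsg.Agent.Lib.Helper15.F24OConc3
open Cfsg.Agent.Lib.Helper15.F24OAbs5

/-- the transposition `l` -/
noncomputable def l : K := el [0]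
/-- the transposition `a` -/
noncomputable def a : K := el [2]

theorem l_sq : l ^ 2 = 1 := by rw [pow_two]; exact el_singleton_sq 0
theorem a_sq : a ^ 2 = 1 := by rw [pow_two]; exact el_singleton_sq 2

theorem one_lt : ∀ l' ∈ [0], l' < 12 := by
  intro l' h
  rw [List.mem_singleton] at h
  omega
theorem two_lt : ∀ l' ∈ [2], l' < 12 := by
  intro l' h
  rw [List.mem_singleton] at h
  omega

theorem t_eq : t = a * l := el_append [0] [2]

theorem sign_toAdd_el (p : List ℕ) :
    Multiplicative.toAdd (Cfsg.Agent.S1691.signHom (el p)) = ((p.length : ℕ) : ZMod 2) := by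
  rw [sign_el]
  rfl

theorem sg_mul (g h : K) : Multiplicative.toAdd (Cfsg.Agent.S1691.signHom (g * h)) =
    Multiplicative.toAdd (Cfsg.Agent.S1691.signHom g) + Multiplicative.toAdd (Cfsg.Agent.S1691.signHom h) := by
  rw [map_mul]
  rfl

theorem sg_pow (g : K) (k : ℕ) : Multiplicative.toAdd (Cfsg.Agent.S1691.signHom (g ^ k)) =
    k • Multiplicative.toAdd (Cfsg.Agent.S1691.signHom g) := by
  rw [map_pow]
  rfl

theorem l_not_mem : l ∉ commutator K := el_not_mem_commutator [0] rfl
theorem t_mem_comm : t ∈ commutator K := el_mem_commutator tP rfl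
theorem y_mem_comm : y ∈ commutator K := el_mem_commutator yP (by decide)
theorem n_mem_comm : n ∈ commutator K := el_mem_commutator nP (by decide)

section Conc
variable (hT : table.OK) (φ : K →* Equiv.Perm (Fin table.n))
  (hφ : ∀ x, φ (PresentedGroup.of x) = Table.sigma hT (lw (x, true)))
  (hinj : Function.Injective φ) (hfin : Finite K)
  (hcard : Nat.card K = 2510411418381323442585600)
  (hchain : 2510411418381323442585600 * Nat.card (pstab φ.range (toFin table.n base)) ≤ Nat.card φ.range)

include hφ hinj hfin hcard hchain in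
theorem comm_ln : Commute n l := by
  have h := el_eq_of_chk hT φ hφ hinj hfin hcard hchain [[0], nP] [nP, [0]] (lt_pair _ _ one_lt nP_lt)
    (lt_pair _ _ nP_lt one_lt) F24OIdChk5.comm_ln
  rw [List.flatten_cons, List.flatten_cons, List.flatten_nil, List.append_nil, el_append,
    List.flatten_cons, List.flatten_cons, List.flatten_nil, List.append_nil, el_append] at h
  exact h

include hφ hinj hfin hcard hchain in
theorem comm_an : Commute n a := by
  have h := el_eq_of_chk hT φ hφ hinj hfin hcard hchain [[2], nP] [nP, [2]] (lt_pair _ _ two_lt nP_lt)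
    (lt_pair _ _ nP_lt two_lt) F24OIdChk5.comm_an
  rw [List.flatten_cons, List.flatten_cons, List.flatten_nil, List.append_nil, el_append,
    List.flatten_cons, List.flatten_cons, List.flatten_nil, List.append_nil, el_append] at h
  exact h

include hφ hinj hfin hcard hchain in
theorem comm_la : Commute l a := by
  have h := el_eq_of_chk hT φ hφ hinj hfin hcard hchain [[0], [2]] [[2], [0]] (lt_pair _ _ one_lt two_lt)
    (lt_pair _ _ two_lt one_lt) F24OIdChk5.comm_la
  rw [List.flatten_cons, List.flatten_cons, List.flatten_nil, List.append_nil, el_append,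
    List.flatten_cons, List.flatten_cons, List.flatten_nil, List.append_nil, el_append] at h
  -- h : a * l = l * a
  exact h.symm

include hφ hinj hfin hcard hchain in
/-- the centraliser of `n` in the commutator subgroup -/
theorem cent_n (C : Checks table)
    (hlow : 306936 * 31671 * 3510 * 693 * 180 * Nat.card (pstab φ.range (toFin table.n [510, 113, 24, 6, 0])) ≤
      Nat.card φ.range)
    (c : K) (hcG : c ∈ commutator K) (hcomm : c * n = n * c) : ∃ i e : ℕ, c = n ^ i * t ^ e := by
  have := hfin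
  have hΓ : ∀ l', l' < table.k → Table.sigma hT l' ∈ φ.range := sigma_mem_range link hT φ hφ
  have hrange : Nat.card φ.range ≤ 2510411418381323442585600 := by
    rw [← hcard]
    exact Nat.card_le_card_of_surjective φ.rangeRestrict φ.rangeRestrict_surjective
  have hn : φ n = nπ hT := phi_el φ hT hφ nP nP_lt
  have hl : φ l = Table.sigma hT 0 := by
    rw [show (l : K) = el [0] from rfl, phi_el φ hT hφ [0] one_lt]
    exact pathProd_singleton _ 0
  have ha : φ a = Table.sigma hT 2 := by
    rw [show (a : K) = el [2] from rfl, phi_el φ hT hφ [2] two_lt]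
    exact pathProd_singleton _ 2
  have h1 : Commute (φ c) (nπ hT) := by
    show φ c * nπ hT = nπ hT * φ c
    rw [← hn, ← map_mul, hcomm, map_mul]
  have h2 := centralizer_n hT C φ.range hΓ hrange hlow (φ c) ⟨c, rfl⟩ h1
  have himg : Subgroup.closure {nπ hT, Table.sigma hT 0, Table.sigma hT 2} =
      (Subgroup.closure {n, l, a}).map φ := by
    rw [MonoidHom.map_closure]
    congr 1
    rw [Set.image_insert_eq, Set.image_insert_eq, Set.image_singleton, hn, hl, ha]
  rw [himg] at h2
  obtain ⟨c', hc', hcc⟩ := Subgroup.mem_map.mp h2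
  have hcc' : c' = c := hinj hcc
  rw [hcc'] at hc'
  obtain ⟨i, e, f', hc⟩ := exists_pow_of_mem_closure_three n l a (comm_ln hT φ hφ hinj hfin hcard hchain)
    (comm_an hT φ hφ hinj hfin hcard hchain) (comm_la hT φ hφ hinj hfin hcard hchain)
    (n_pow hT φ hφ hinj hfin hcard hchain) l_sq a_sq c hc'
  -- the sign
  have hs : Multiplicative.toAdd (Cfsg.Agent.S1691.signHom c) = 0 := by
    rw [(mem_commutator_iff c).mp hcG]
    rfl
  have hlen : ((nP.length : ℕ) : ZMod 2) = 0 := by
    rw [ZMod.natCast_eq_zero_iff]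
    decide
  rw [hc, sg_mul, sg_mul, sg_pow, sg_pow, sg_pow, show (n : K) = el nP from rfl, show (l : K) = el [0] from rfl,
    show (a : K) = el [2] from rfl, sign_toAdd_el, sign_toAdd_el, sign_toAdd_el, hlen] at hs
  simp only [List.length_singleton, Nat.cast_one, nsmul_eq_mul, mul_one, mul_zero, zero_add] at hs
  rw [← Nat.cast_add, ZMod.natCast_eq_zero_iff] at hs
  -- `e + f'` is even
  have hle : l ^ e = l ^ (e % 2) := pow_eq_pow_mod e l_sq
  have haf : a ^ f' = a ^ (f' % 2) := pow_eq_pow_mod f' a_sq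
  have hmod : e % 2 = f' % 2 := by omega
  refine ⟨i, e % 2, ?_⟩
  rw [hc, mul_assoc, hle, haf, ← hmod]
  congr 1
  rcases Nat.mod_two_eq_zero_or_one e with h0 | h0
  · rw [h0, pow_zero, pow_zero, pow_zero, one_mul]
  · rw [h0, pow_one, pow_one, pow_one, t_eq, (comm_la hT φ hφ hinj hfin hcard hchain).eq]

end Conc

end Cfsg.Agent.Lib.Helper15.F24OConc4
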