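import Cfsg.Agent.Lib.Helper15.F24OConc4
set_option autoImplicit false
set_option maxRecDepth 100000

/-!
# S2081: `y` is self-centralising in the commutator subgroup of Fi₂₄
-/

namespace Cfsg.Agent.Lib.Helper15.F24OConc5
open Cfsg.Agent.Lib.Helper28.TC2Upper Cfsg.Agent.Lib.Helper28.TC2Lower Cfsg.Agent.Lib.Helper28.TC2Glue
open Cfsg.Agent.Lib.Helper28.TC2Simple Cfsg.Agent.Lib.Helper28.TC2Bsgs Cfsg.Agent.Lib.Helper28.TC2BsgsW
open Cfsg.Agent.Lib.Helper28.TC2Orbit
open Cfsg.Agent.Lib.Helper28.TCFi24Link Cfsg.Agent.Lib.Helper28.TCFi24Table Cfsg.Agent.Lib.Helper28.TCFi24Orb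
open Cfsg.Agent.Lib.Helper15.F24OData Cfsg.Agent.Lib.Helper15.F24OCentDefs
open Cfsg.Agent.Lib.Helper15.F24OCent Cfsg.Agent.Lib.Helper15.F24OWalk Cfsg.Agent.Lib.Helper15.F24OEl
open Cfsg.Agent.Lib.Helper15.F24OConc1 Cfsg.Agent.Lib.Helper15.F24OConc2 Cfsg.Agent.Lib.Helper15.F24OConc3
open Cfsg.Agent.Lib.Helper15.F24OConc4 Cfsg.Agent.Lib.Helper15.F24OAbs5

section Conc
variable (hT : table.OK) (φ : K →* Equiv.Perm (Fin table.n))
  (hφ : ∀ x, φ (PresentedGroup.of x) = Table.sigma hT (lw (x, true)))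
  (hinj : Function.Injective φ) (hfin : Finite K)
  (hcard : Nat.card K = 2510411418381323442585600)
  (hchain : 2510411418381323442585600 * Nat.card (pstab φ.range (toFin table.n base)) ≤ Nat.card φ.range)
  (f : K ⧸ H0 → Fin table.n) (hbij : Function.Bijective f) (hequiv : ∀ g q, f (g • q) = φ g (f q))
  (h0 : f (QuotientGroup.mk 1) = o)
  (hcardH : Nat.card H0 = 8178940946586009600)
  (horbit : ∀ p : Fin table.n, (MulAction.orbit (H0.map φ) p : Set (Fin table.n)) =
    {q | orbData.oid q.val = orbData.oid p.val})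
  (hcls : ∀ x : K, x ∉ H0 → orbData.oid (f (QuotientGroup.mk x)).val = 1 ∨
    orbData.oid (f (QuotientGroup.mk x)).val = 2)
  (ψ : Cfsg.Spor.Fi23 →* K) (hψinj : Function.Injective ψ) (hψH : ψ.range ≤ H0)
  (hψG : ψ.range ≤ commutator K) (hψcard : Nat.card ψ.range = 4089470473293004800)
  (hC1 : ∃ y0 : Cfsg.Spor.Fi23, orderOf y0 = 17 ∧ ∀ c, c * y0 = y0 * c → c ∈ Subgroup.zpowers y0)

include hφ hbij hequiv h0 in
theorem l_mem_H0 : l ∈ H0 := by
  apply (stab_iff φ f hbij hequiv h0 l).mp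
  apply Fin.ext
  rw [show (l : K) = el [0] from rfl, phi_el_val hT φ hφ [0] one_lt]
  have := F24OIdChk1.l_fix
  simp only [List.map_cons, List.map_nil, List.cons.injEq, and_true] at this
  exact this.1

include hφ hfin hbij hequiv h0 hcardH hψH hψG hψcard in
/-- the image of Fi₂₃ is the even part of the stabiliser of the point `0` -/
theorem range_eq_inf : ψ.range = H0 ⊓ commutator K := by
  have := hfin
  have hle : ψ.range ≤ H0 ⊓ commutator K := le_inf hψH hψG
  have hd1 : Nat.card ψ.range ∣ Nat.card (H0 ⊓ commutator K : Subgroup K) := Subgroup.card_dvd_of_le hle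
  have hd2 : Nat.card (H0 ⊓ commutator K : Subgroup K) ∣ Nat.card H0 := Subgroup.card_dvd_of_le inf_le_left
  rw [hψcard] at hd1
  rw [hcardH] at hd2
  obtain ⟨j, hj⟩ := hd1
  rw [hj] at hd2
  have hj2 : j ∣ 2 := by
    have e : (8178940946586009600 : ℕ) = 4089470473293004800 * 2 := by norm_num
    rw [e] at hd2
    exact Nat.dvd_of_mul_dvd_mul_left (by norm_num) hd2
  have hjle : j ≤ 2 := Nat.le_of_dvd (by norm_num) hj2
  have hj0 : j ≠ 0 := by
    rintro rfl
    simp at hj2
  have hj12 : j = 1 ∨ j = 2 := by omega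
  rcases hj12 with rfl | rfl
  · apply Subgroup.eq_of_le_of_card_ge hle
    rw [hj, hψcard]
  · exfalso
    have heq : (H0 ⊓ commutator K : Subgroup K) = H0 := by
      apply Subgroup.eq_of_le_of_card_ge inf_le_left
      rw [hj, hcardH]
    have hl : l ∈ (H0 ⊓ commutator K : Subgroup K) := by
      rw [heq]
      exact l_mem_H0 hT φ hφ f hbij hequiv h0
    exact l_not_mem hl.2

include hφ hinj hfin hcard hchain hbij hequiv h0 hcardH horbit hcls hψinj hψH hψG hψcard hC1 in
/-- `y` is self-centralising in the commutator subgroup -/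
theorem cent_y (c : K) (hcG : c ∈ commutator K) (hcomm : c * y = y * c) : c ∈ Subgroup.zpowers y := by
  have := hfin
  have hfinF : Finite Cfsg.Spor.Fi23 := Finite.of_injective ψ hψinj
  have : Fact (Nat.Prime 17) := ⟨by norm_num⟩
  have hrange := range_eq_inf hT φ hφ hfin f hbij hequiv h0 hcardH ψ hψH hψG hψcard
  -- `c` fixes the point `0`
  have hc0 : φ c o = o := by
    apply fix_y hT φ hφ hinj hfin f hbij hequiv h0 hcardH horbit hcls hcard hchain
    have e : φ y (φ c o) = φ c (φ y o) := by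
      rw [← Equiv.Perm.mul_apply, ← Equiv.Perm.mul_apply, ← map_mul, ← map_mul, hcomm]
    rw [e, y_fix hT φ hφ]
  have hcH : c ∈ H0 := (stab_iff φ f hbij hequiv h0 c).mp hc0
  have hcr : c ∈ ψ.range := by rw [hrange]; exact ⟨hcH, hcG⟩
  have hyr : y ∈ ψ.range := by
    rw [hrange]
    exact ⟨y_mem_H0 hT φ hφ f hbij hequiv h0, y_mem_comm⟩
  obtain ⟨c', rfl⟩ := hcr
  obtain ⟨y', hy'⟩ := hyr
  have hordy' : orderOf y' = 17 := by
    rw [← orderOf_injective ψ hψinj y', hy']
    exact orderOf_y hT φ hφ hinj hfin hcard hchain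
  have hcomm' : c' * y' = y' * c' := by
    apply hψinj
    rw [map_mul, map_mul, hy']
    exact hcomm
  -- the order of Fi₂₃
  have hcardF : Nat.card Cfsg.Spor.Fi23 = 4089470473293004800 := by
    rw [← hψcard]
    exact Nat.card_congr (MonoidHom.ofInjective hψinj).toEquiv
  have hfac : (Nat.card Cfsg.Spor.Fi23).factorization 17 = 1 := by
    rw [hcardF]
    exact factorization_eq_one _ 240557086664294400 17 (by norm_num) (by norm_num) (by norm_num) (by norm_num)
  obtain ⟨y0, hy0, hC0⟩ := hC1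
  have hmem := selfcentralizing_of_sylow 17 hfac y0 hy0 hC0 y' hordy' c' hcomm'
  obtain ⟨k, hk⟩ := Subgroup.mem_zpowers_iff.mp hmem
  rw [← hk, map_zpow, hy']
  exact Subgroup.zpow_mem_zpowers y k

end Conc

end Cfsg.Agent.Lib.Helper15.F24OConc5
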