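import Cfsg.Agent.Lib.Helper15.F24OConc5
import Cfsg.Agent.Lib.Helper15.F24OChkF
set_option autoImplicit false
set_option maxRecDepth 100000

/-!
# S2081: the orbits of the even part of the stabiliser, and the automorphisms fixing `y`, `n`, `t`
-/

namespace Cfsg.Agent.Lib.Helper15.F24OConc6
open Cfsg.Agent.Lib.Helper28.TC2Upper Cfsg.Agent.Lib.Helper28.TC2Lower Cfsg.Agent.Lib.Helper28.TC2Glue
open Cfsg.Agent.Lib.Helper28.TC2Simple Cfsg.Agent.Lib.Helper28.TC2Bsgs Cfsg.Agent.Lib.Helper28.TC2BsgsW
open Cfsg.Agent.Lib.Helper28.TC2Orbit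
open Cfsg.Agent.Lib.Helper28.TCFi24Link Cfsg.Agent.Lib.Helper28.TCFi24Table Cfsg.Agent.Lib.Helper28.TCFi24Orb
open Cfsg.Agent.Lib.Helper15.F24OData Cfsg.Agent.Lib.Helper15.F24OCentDefs
open Cfsg.Agent.Lib.Helper15.F24OCent Cfsg.Agent.Lib.Helper15.F24OWalk Cfsg.Agent.Lib.Helper15.F24OEl
open Cfsg.Agent.Lib.Helper15.F24OConc1 Cfsg.Agent.Lib.Helper15.F24OConc2 Cfsg.Agent.Lib.Helper15.F24OConc3
open Cfsg.Agent.Lib.Helper15.F24OConc4 Cfsg.Agent.Lib.Helper15.F24OConc5 Cfsg.Agent.Lib.Helper15.F24OAbs5

/-- the product of two odd elements is even -/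
theorem mul_mem_of_not_mem (g w : K) (hg : g ∉ commutator K) (hw : w ∉ commutator K) : g * w ∈ commutator K := by
  rw [mem_commutator_iff] at hg hw ⊢
  have key : ∀ s : Multiplicative (ZMod 2), s ≠ 1 → s = Multiplicative.ofAdd 1 := by decide
  rw [map_mul, key _ hg, key _ hw]
  rfl

/-- the point `6` -/
def q : Fin table.n := ⟨6, by rw [n_eq]; norm_num⟩
/-- the point `2` -/
def p2 : Fin table.n := ⟨2, by rw [n_eq]; norm_num⟩

theorem oid_q : orbData.oid q.val = 2 := F24OIdChk4.oid6
theorem oid_p2 : orbData.oid p2.val = 1 := F24OIdChk4.oid2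

/-- the transposition `b` -/
noncomputable def b : K := el [3]

theorem three_lt : ∀ l' ∈ [3], l' < 12 := by
  intro l' h
  rw [List.mem_singleton] at h
  omega

theorem b_not_mem : b ∉ commutator K := el_not_mem_commutator [3] rfl

section Conc
variable (hT : table.OK) (φ : K →* Equiv.Perm (Fin table.n))
  (hφ : ∀ x, φ (PresentedGroup.of x) = Table.sigma hT (lw (x, true)))
  (hinj : Function.Injective φ) (hfin : Finite K)
  (hcard : Nat.card K = 2510411418381323442585600)
  (hchain : 2510411418381323442585600 * Nat.card (pstab φ.range (toFin table.n base)) ≤ Nat.card φ.range)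
  (f : K ⧸ H0 → Fin table.n) (hbij : Function.Bijective f) (hequiv : ∀ g q, f (g • q) = φ g (f q))
  (h0 : f (QuotientGroup.mk 1) = o)
  (horbit : ∀ p : Fin table.n, (MulAction.orbit (H0.map φ) p : Set (Fin table.n)) =
    {q | orbData.oid q.val = orbData.oid p.val})
  (hcls : ∀ x : K, x ∉ H0 → orbData.oid (f (QuotientGroup.mk x)).val = 1 ∨
    orbData.oid (f (QuotientGroup.mk x)).val = 2)

include hφ in
theorem l_fix_o : φ l o = o := by
  apply Fin.ext
  rw [show (l : K) = el [0] from rfl, phi_el_val hT φ hφ [0] one_lt]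
  have := F24OIdChk1.l_fix
  simp only [List.map_cons, List.map_nil, List.cons.injEq, and_true] at this
  exact this.1

include hφ in
theorem l_fix_q : φ l q = q := by
  apply Fin.ext
  rw [show (l : K) = el [0] from rfl, phi_el_val hT φ hφ [0] one_lt]
  have := F24OIdChk1.l_fix
  simp only [List.map_cons, List.map_nil, List.cons.injEq, and_true] at this
  exact this.2

include hφ in
theorem b_fix_o : φ b o = o := by
  apply Fin.ext
  rw [show (b : K) = el [3] from rfl, phi_el_val hT φ hφ [3] three_lt]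
  have := F24OIdChk1.b_fix
  simp only [List.map_cons, List.map_nil, List.cons.injEq, and_true] at this
  exact this.1

include hφ in
theorem b_fix_p2 : φ b p2 = p2 := by
  apply Fin.ext
  rw [show (b : K) = el [3] from rfl, phi_el_val hT φ hφ [3] three_lt]
  have := F24OIdChk1.b_fix
  simp only [List.map_cons, List.map_nil, List.cons.injEq, and_true] at this
  exact this.2

include hbij hequiv h0 horbit in
/-- the orbits of the even part of the stabiliser of `0` -/
theorem orbit_even (r : Fin table.n) (w : K) (hw : w ∉ commutator K) (hwo : φ w o = o) (hwr : φ w r = r)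
    (x : Fin table.n) (hx : orbData.oid x.val = orbData.oid r.val) :
    ∃ g ∈ commutator K, φ g o = o ∧ φ g r = x := by
  have hmem : x ∈ (MulAction.orbit (H0.map φ) r : Set (Fin table.n)) := by
    rw [horbit r]
    exact hx
  obtain ⟨⟨π, hπ⟩, hπx⟩ := hmem
  obtain ⟨h, hh, rfl⟩ := Subgroup.mem_map.mp hπ
  have hπx' : φ h r = x := hπx
  have hho : φ h o = o := (stab_iff φ f hbij hequiv h0 h).mpr hh
  by_cases hG : h ∈ commutator K
  · exact ⟨h, hG, hho, hπx'⟩
  · refine ⟨h * w, mul_mem_of_not_mem h w hG hw, ?_, ?_⟩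
    · rw [map_mul, Equiv.Perm.mul_apply, hwo, hho]
    · rw [map_mul, Equiv.Perm.mul_apply, hwr, hπx']

include hφ hbij hequiv h0 in
/-- the commutator subgroup is transitive -/
theorem trans_even (x : Fin table.n) : ∃ g ∈ commutator K, φ g o = x := by
  obtain ⟨g, hg⟩ := exists_phi_eq φ f hbij hequiv h0 x
  by_cases hG : g ∈ commutator K
  · exact ⟨g, hG, hg⟩
  · refine ⟨g * l, mul_mem_of_not_mem g l hG l_not_mem, ?_⟩
    rw [map_mul, Equiv.Perm.mul_apply, l_fix_o hT φ hφ, hg]

/-- the fixed points of `e₁` -/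
theorem fix_e1_val (p : ℕ) (hp : p < 306936) (h : table.walkT e1P p = p) : p ∈ [0, 1, 2] := by
  rcases Nat.lt_or_ge p 76734 with h1 | h1
  · exact (fixRange_iff table e1P [0, 1, 2] 0 76734).mp F24OChkF.fe1_0 p (by omega) (by omega) h
  rcases Nat.lt_or_ge p 153468 with h2 | h2
  · exact (fixRange_iff table e1P [0, 1, 2] 76734 76734).mp F24OChkF.fe1_1 p (by omega) (by omega) h
  rcases Nat.lt_or_ge p 230202 with h3 | h3
  · exact (fixRange_iff table e1P [0, 1, 2] 153468 76734).mp F24OChkF.fe1_2 p (by omega) (by omega) h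
  exact (fixRange_iff table e1P [0, 1, 2] 230202 76734).mp F24OChkF.fe1_3 p (by omega) (by omega) h

/-- the element `e₁` -/
noncomputable def e1 : K := el e1P
/-- the element `s = l k` -/
noncomputable def s : K := el [1, 0]

theorem s_lt : ∀ l' ∈ [1, 0], l' < 12 := by
  intro l' h
  simp only [List.mem_cons, List.mem_nil_iff, or_false] at h
  omega

theorem s_inv : s⁻¹ = el [0, 1] := by
  rw [show (s : K) = el [1, 0] from rfl, ← el_reverse]
  rfl

theorem s_eq : s = l * el [1] := el_append [1] [0]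

theorem conj_s : l * s * l⁻¹ = s⁻¹ := by
  have hl : l⁻¹ = l := el_singleton_inv 0
  have hk : (el [1])⁻¹ = el [1] := el_singleton_inv 1
  have hll : l * l = 1 := el_singleton_sq 0
  rw [s_eq, mul_inv_rev, hl, hk, ← mul_assoc, hll, one_mul]

theorem e1_mem_comm : e1 ∈ commutator K := el_mem_commutator e1P rfl
theorem s_mem_comm : s ∈ commutator K := el_mem_commutator [1, 0] rfl
theorem g11_mem_comm : el g11P ∈ commutator K := el_mem_commutator g11P (by decide)

include hφ in
theorem s_o : φ s o = p2 := by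
  apply Fin.ext
  rw [show (s : K) = el [1, 0] from rfl, phi_el_val hT φ hφ [1, 0] s_lt]
  exact F24OIdChk1.s_o

include hφ in
theorem s_inv_o : (φ s⁻¹ o).val = 1 := by
  rw [s_inv, phi_el_val hT φ hφ [0, 1] (by
    intro l' h
    simp only [List.mem_cons, List.mem_nil_iff, or_false] at h
    omega)]
  exact F24OIdChk1.s_inv_o

include hφ in
theorem e1_fix : φ e1 o = o ∧ φ e1 p2 = p2 := by
  have := F24OIdChk1.e1_fix
  simp only [List.map_cons, List.map_nil, List.cons.injEq, and_true] at this
  constructor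
  · apply Fin.ext
    rw [show (e1 : K) = el e1P from rfl, phi_el_val hT φ hφ e1P e1P_lt]
    exact this.1
  · apply Fin.ext
    rw [show (e1 : K) = el e1P from rfl, phi_el_val hT φ hφ e1P e1P_lt]
    exact this.2.2

include hφ in
theorem fix_e1 (x : Fin table.n) (hx : φ e1 x = x) : x = o ∨ x = φ s o ∨ x = φ s⁻¹ o := by
  have h1 : table.walkT e1P x.val = x.val := by
    rw [← phi_el_val hT φ hφ e1P e1P_lt x]
    exact congrArg Fin.val hx
  have hlt : x.val < 306936 := lt_of_lt_of_eq x.2 n_eq
  have h2 := fix_e1_val x.val hlt h1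
  simp only [List.mem_cons, List.mem_nil_iff, or_false] at h2
  rcases h2 with h | h | h
  · exact Or.inl (Fin.ext h)
  · exact Or.inr (Or.inr (Fin.ext (by rw [h, s_inv_o hT φ hφ])))
  · exact Or.inr (Or.inl (Fin.ext (by rw [h, s_o hT φ hφ]; rfl)))

include hφ in
theorem g11_o : φ (el g11P) o = q := by
  apply Fin.ext
  rw [phi_el_val hT φ hφ g11P g11P_lt]
  have := F24OChkE.g11P_E
  simp only [List.map_cons, List.map_nil, List.cons.injEq, and_true] at this
  exact this.1

include hφ in
theorem n_fix : φ n o = o ∧ φ n q = q := by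
  have := F24OChkE.nP_E
  simp only [List.map_cons, List.map_nil, List.cons.injEq, and_true] at this
  constructor
  · apply Fin.ext
    rw [show (n : K) = el nP from rfl, phi_el_val hT φ hφ nP nP_lt]
    exact this.1
  · apply Fin.ext
    rw [show (n : K) = el nP from rfl, phi_el_val hT φ hφ nP nP_lt]
    exact this.2.1

include hφ in
theorem fix_n (C : Checks table) (x : Fin table.n) (hx : φ n x = x) : x = o ∨ x = q := by
  have hn : φ n = nπ hT := phi_el φ hT hφ nP nP_lt
  rw [hn] at hx
  rcases fix1_cases hT C x hx with h | h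
  · exact Or.inl (Fin.ext h)
  · exact Or.inr (Fin.ext h)

end Conc

end Cfsg.Agent.Lib.Helper15.F24OConc6
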