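import Cfsg.Agent.Lib.Helper15.F24OConc6
import Cfsg.Agent.Lib.Helper20.F24OAbsA1
import Cfsg.Agent.Lib.Helper20.F24OAbsA4
import Cfsg.Agent.Lib.Helper27.F24OAbsA2
import Cfsg.Agent.Lib.Helper27.F24OAbsA3
set_option autoImplicit false
set_option maxRecDepth 100000

/-!
# S2081: `Out(Fi₂₄') = 2` from the facts of the certified coset enumeration
-/

namespace Cfsg.Agent.Lib.Helper15.F24OConc7
open Cfsg.Agent.Lib.Helper28.TC2Upper Cfsg.Agent.Lib.Helper28.TC2Lower Cfsg.Agent.Lib.Helper28.TC2Glue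
open Cfsg.Agent.Lib.Helper28.TC2Simple Cfsg.Agent.Lib.Helper28.TC2Bsgs Cfsg.Agent.Lib.Helper28.TC2BsgsW
open Cfsg.Agent.Lib.Helper28.TC2Orbit
open Cfsg.Agent.Lib.Helper28.TCFi24Link Cfsg.Agent.Lib.Helper28.TCFi24Table Cfsg.Agent.Lib.Helper28.TCFi24Orb
open Cfsg.Agent.Lib.Helper15.F24OData Cfsg.Agent.Lib.Helper15.F24OCentDefs
open Cfsg.Agent.Lib.Helper15.F24OCent Cfsg.Agent.Lib.Helper15.F24OWalk Cfsg.Agent.Lib.Helper15.F24OEl
open Cfsg.Agent.Lib.Helper15.F24OConc1 Cfsg.Agent.Lib.Helper15.F24OConc2 Cfsg.Agent.Lib.Helper15.F24OConc3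
open Cfsg.Agent.Lib.Helper15.F24OConc4 Cfsg.Agent.Lib.Helper15.F24OConc5 Cfsg.Agent.Lib.Helper15.F24OConc6
open Cfsg.Agent.Lib.Helper15.F24OAbs5

/-- the commutator subgroup -/
abbrev G : Subgroup K := commutator K

/-- the generators other than `l` and `k` -/
def X : Set K := {z | ∃ x : ℕ, 2 ≤ x ∧ x < 12 ∧ z = el [x]}

theorem H0_le : H0 ≤ Subgroup.closure (insert l X) := by
  show (Subgroup.closure S).map (PresentedGroup.mk rels) ≤ _
  rw [MonoidHom.map_closure]
  apply Subgroup.closure_mono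
  rintro _ ⟨s', hs', rfl⟩
  obtain ⟨L, hL, rfl⟩ := (hS s').mp hs'
  simp only [subWords, List.mem_cons, List.mem_nil_iff, or_false] at hL
  rcases hL with rfl | rfl | rfl | rfl | rfl | rfl | rfl | rfl | rfl | rfl | rfl
  · exact Set.mem_insert_of_mem _ ⟨2, by norm_num, by norm_num, rfl⟩
  · exact Set.mem_insert_of_mem _ ⟨3, by norm_num, by norm_num, rfl⟩
  · exact Set.mem_insert_of_mem _ ⟨4, by norm_num, by norm_num, rfl⟩
  · exact Set.mem_insert_of_mem _ ⟨5, by norm_num, by norm_num, rfl⟩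
  · exact Set.mem_insert_of_mem _ ⟨6, by norm_num, by norm_num, rfl⟩
  · exact Set.mem_insert_of_mem _ ⟨7, by norm_num, by norm_num, rfl⟩
  · exact Set.mem_insert_of_mem _ ⟨8, by norm_num, by norm_num, rfl⟩
  · exact Set.mem_insert_of_mem _ ⟨10, by norm_num, by norm_num, rfl⟩
  · exact Set.mem_insert_of_mem _ ⟨11, by norm_num, by norm_num, rfl⟩
  · exact Set.mem_insert_of_mem _ ⟨9, by norm_num, by norm_num, rfl⟩
  · exact Set.mem_insert _ _

section Conc
variable (hT : table.OK) (φ : K →* Equiv.Perm (Fin table.n))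
  (hφ : ∀ x, φ (PresentedGroup.of x) = Table.sigma hT (lw (x, true)))
  (hinj : Function.Injective φ) (hfin : Finite K)
  (hcard : Nat.card K = 2510411418381323442585600)
  (hchain : 2510411418381323442585600 * Nat.card (pstab φ.range (toFin table.n base)) ≤ Nat.card φ.range)
  (f : K ⧸ H0 → Fin table.n) (hbij : Function.Bijective f) (hequiv : ∀ g q, f (g • q) = φ g (f q))
  (h0 : f (QuotientGroup.mk 1) = o)
  (hcardH : Nat.card H0 = 8178940946586009600)
  (horbit : ∀ p : Fin table.n, (MulAction.orbit (H0.map φ) p : Set (Fin table.n)) =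
    {q | orbData.oid q.val = orbData.oid p.val})
  (hcls : ∀ x : K, x ∉ H0 → orbData.oid (f (QuotientGroup.mk x)).val = 1 ∨
    orbData.oid (f (QuotientGroup.mk x)).val = 2)
  (ψ : Cfsg.Spor.Fi23 →* K) (hψinj : Function.Injective ψ) (hψH : ψ.range ≤ H0)
  (hψG : ψ.range ≤ commutator K) (hψcard : Nat.card ψ.range = 4089470473293004800)
  (hC1 : ∃ y0 : Cfsg.Spor.Fi23, orderOf y0 = 17 ∧ ∀ c, c * y0 = y0 * c → c ∈ Subgroup.zpowers y0)
  (C : Checks table)
  (hlow : 306936 * 31671 * 3510 * 693 * 180 * Nat.card (pstab φ.range (toFin table.n [510, 113, 24, 6, 0])) ≤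
    Nat.card φ.range)
  (hcent : ∀ h ∈ H0, l * h = h * l)

include hφ hinj hfin hcard hchain in
/-- an automorphism of the commutator subgroup fixing `y`, `n`, `t` fixes the even part of `H0` -/
theorem fixes_stab (β : MulAut G) (hy : β ⟨y, y_mem_comm⟩ = ⟨y, y_mem_comm⟩)
    (hn : β ⟨n, n_mem_comm⟩ = ⟨n, n_mem_comm⟩) (ht : β ⟨t, t_mem_comm⟩ = ⟨t, t_mem_comm⟩)
    (g : G) (hg : (g : K) ∈ H0) : β g = g := by
  -- the subgroup of the fixed elements
  let Φ : Subgroup K := (MonoidHom.eqLocus β.toMonoidHom (MonoidHom.id G)).map G.subtype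
  have hΦ : ∀ k : K, k ∈ Φ ↔ ∃ hk : k ∈ G, β ⟨k, hk⟩ = ⟨k, hk⟩ := by
    intro k
    constructor
    · rintro ⟨⟨k', hk'⟩, hfix, rfl⟩
      exact ⟨hk', hfix⟩
    · rintro ⟨hk, hfix⟩
      exact ⟨⟨k, hk⟩, hfix, rfl⟩
  have hΦG : Φ ≤ G := by
    intro k hk
    obtain ⟨hk', -⟩ := (hΦ k).mp hk
    exact hk'
  have hY : Y ≤ Φ := by
    unfold Y
    rw [Subgroup.closure_le]
    intro k hk
    rcases hk with rfl | rfl | rfl
    · exact (hΦ _).mpr ⟨y_mem_comm, hy⟩
    · exact (hΦ _).mpr ⟨n_mem_comm, hn⟩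
    · exact (hΦ _).mpr ⟨t_mem_comm, ht⟩
  have hM : Subgroup.closure {z | ∃ x ∈ X, z = l * x} ≤ Φ := by
    rw [Subgroup.closure_le]
    rintro z ⟨x', ⟨x, hx2, hx12, rfl⟩, rfl⟩
    have e : l * el [x] = el [x, 0] := (el_append [x] [0]).symm
    rw [e]
    exact hY (lx_mem_all hT φ hφ hinj hfin hcard hchain x hx2 hx12)
  have hl : l * l = 1 := el_singleton_sq 0
  have hX : ∀ x ∈ X, x * x = 1 := by
    rintro _ ⟨x, -, -, rfl⟩
    exact el_singleton_sq x
  rcases mem_even_closure l X hl hX (g : K) (H0_le hg) with h | h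
  · obtain ⟨hk, hfix⟩ := (hΦ _).mp (hM h)
    exact hfix
  · exfalso
    have h1 : l * (g : K) ∈ G := hΦG (hM h)
    have h2 : l ∈ G := by
      have := G.mul_mem h1 (G.inv_mem g.2)
      rwa [mul_inv_cancel_right] at this
    exact l_not_mem h2

theorem pow_mod_17 : ∀ r : ℕ, r % 17 ≠ 0 → ∃ i : ℕ, (r * 12 ^ i) % 17 = 1 := by
  intro r hr
  have key : ∀ r' : Fin 17, r'.val ≠ 0 → ∃ i : Fin 16, (r'.val * 12 ^ i.val) % 17 = 1 := by decide
  obtain ⟨i, hi⟩ := key ⟨r % 17, Nat.mod_lt _ (by norm_num)⟩ hr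
  refine ⟨i.val, ?_⟩
  have e : (r * 12 ^ i.val) % 17 = ((r % 17) * 12 ^ i.val) % 17 := by
    conv_lhs => rw [Nat.mul_mod]
    conv_rhs => rw [Nat.mul_mod, Nat.mod_mod]
  rw [e]
  exact hi

include hφ hinj hfin hcard hchain in
theorem t_not_mem_zpowers : t ∉ Subgroup.zpowers n := by
  intro h
  obtain ⟨k, hk⟩ := Subgroup.mem_zpowers_iff.mp h
  have hord := orderOf_n hT φ hφ hinj hfin hcard hchain
  have h1 : n ^ k = n ^ (k % 16) := by
    have := (zpow_mod_orderOf n k).symm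
    rw [hord] at this
    exact_mod_cast this
  have hnonneg : 0 ≤ k % 16 := Int.emod_nonneg k (by norm_num)
  obtain ⟨m, hm⟩ := Int.eq_ofNat_of_zero_le hnonneg
  have hm16 : m < 16 := by
    have := Int.emod_lt_of_pos k (show (0 : ℤ) < 16 by norm_num)
    omega
  rw [h1, hm, zpow_natCast] at hk
  -- `t = n ^ m`
  have hsq : n ^ (2 * m) = 1 := by
    rw [mul_comm, pow_mul, hk]
    exact t_sq hT φ hφ hinj hfin hcard hchain
  have hdvd : 16 ∣ 2 * m := by
    rw [← hord]
    exact orderOf_dvd_of_pow_eq_one hsq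
  have hm08 : m = 0 ∨ m = 8 := by omega
  rcases hm08 with rfl | rfl
  · rw [pow_zero] at hk
    exact t_ne_one hT φ hφ hk.symm
  · exact t_ne_pow8 hT φ hφ hk.symm

include hφ hinj hfin hcard hchain hbij hequiv h0 hcardH horbit hcls hψinj hψH hψG hψcard hC1 C hlow hcent in
/-- The outer automorphism group of Fi₂₄' has order 2. -/
theorem out_card : Nat.card (Cfsg.Out G) = 2 := by
  have := hfin
  have : Fact (Nat.Prime 17) := ⟨by norm_num⟩
  -- the elements of `G`
  let yG : G := ⟨y, y_mem_comm⟩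
  let nG : G := ⟨n, n_mem_comm⟩
  let tG : G := ⟨t, t_mem_comm⟩
  have hordy : orderOf yG = 17 := by
    rw [Subgroup.orderOf_mk]
    exact orderOf_y hT φ hφ hinj hfin hcard hchain
  have hordn : orderOf nG = 16 := by
    rw [Subgroup.orderOf_mk]
    exact orderOf_n hT φ hφ hinj hfin hcard hchain
  -- the order of `G`
  have hcardG : Nat.card G = 1255205709190661721292800 := by
    have h1 : G.index = 2 := Cfsg.Agent.S1691.result
    have h2 := G.card_mul_index
    rw [h1, hcard] at h2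
    omega
  have hfac : (Nat.card G).factorization 17 = 1 := by
    rw [hcardG]
    exact factorization_eq_one _ 73835629952391865958400 17 (by norm_num) (by norm_num) (by norm_num) (by norm_num)
  have hconj : nG * yG * nG⁻¹ = yG ^ 12 := Subtype.ext (conj_y hT φ hφ hinj hfin hcard hchain)
  have hn16 : nG ^ 16 = 1 := Subtype.ext (n_pow hT φ hφ hinj hfin hcard hchain)
  have hCy : ∀ c : G, c * yG = yG * c → c ∈ Subgroup.zpowers yG := by
    intro c hc
    have hc' : (c : K) * y = y * (c : K) := congrArg Subtype.val hc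
    have := cent_y hT φ hφ hinj hfin hcard hchain f hbij hequiv h0 hcardH horbit hcls ψ hψinj hψH hψG hψcard hC1
      (c : K) c.2 hc'
    obtain ⟨k, hk⟩ := Subgroup.mem_zpowers_iff.mp this
    rw [Subgroup.mem_zpowers_iff]
    exact ⟨k, Subtype.ext (by rw [Subgroup.coe_zpow]; exact hk)⟩
  have hCn : ∀ c : G, c * nG = nG * c → ∃ i e : ℕ, c = nG ^ i * tG ^ e := by
    intro c hc
    have hc' : (c : K) * n = n * (c : K) := congrArg Subtype.val hc
    obtain ⟨i, e, hie⟩ := cent_n hT φ hφ hinj hfin hcard hchain C hlow (c : K) c.2 hc'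
    exact ⟨i, e, Subtype.ext (by rw [Subgroup.coe_mul, Subgroup.coe_pow, Subgroup.coe_pow]; exact hie)⟩
  have ht2 : tG ^ 2 = 1 := Subtype.ext (t_sq hT φ hφ hinj hfin hcard hchain)
  have htn : tG * nG = nG * tG := Subtype.ext (t_comm hT φ hφ hinj hfin hcard hchain)
  have htz : tG ∉ Subgroup.zpowers nG := by
    intro h
    obtain ⟨k, hk⟩ := Subgroup.mem_zpowers_iff.mp h
    apply t_not_mem_zpowers hT φ hφ hinj hfin hcard hchain
    rw [Subgroup.mem_zpowers_iff]
    refine ⟨k, ?_⟩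
    have := congrArg Subtype.val hk
    rw [Subgroup.coe_zpow] at this
    exact this
  have hord : orderOf (tG * yG) ≠ orderOf (nG ^ 8 * tG * yG) := by
    rw [show tG * yG = (⟨t * y, G.mul_mem t_mem_comm y_mem_comm⟩ : G) from rfl,
      show nG ^ 8 * tG * yG = (⟨n ^ 8 * t * y, G.mul_mem (G.mul_mem (G.pow_mem n_mem_comm 8) t_mem_comm)
        y_mem_comm⟩ : G) from rfl, Subgroup.orderOf_mk, Subgroup.orderOf_mk]
    exact orderOf_ne hT φ hφ hinj hfin hcard hchain
  -- the stabiliser of the point `0`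
  have hstab := stab_iff φ f hbij hequiv h0
  have hfixy : ∀ x, φ y x = x → x = o :=
    fix_y hT φ hφ hinj hfin f hbij hequiv h0 hcardH horbit hcls hcard hchain
  -- conjugation by `l` is not inner
  have hθ : (MulAut.conjNormal l : MulAut G) ∉ Cfsg.Inn G :=
    Cfsg.Agent.Lib.Helper20.F24OAbs.conjNormal_not_mem_inn G φ hinj o
      (trans_even hT φ hφ f hbij hequiv h0) l y l_not_mem y_mem_comm (y_fix hT φ hφ) hfixy
  apply Cfsg.Agent.Lib.Helper3.OutAut.card_out_eq_two (MulAut.conjNormal l : MulAut G) hθ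
  intro α
  -- normalise `α`
  obtain ⟨g, hgy, hgn⟩ := Cfsg.Agent.Lib.Helper20.F24OAbs.exists_conj_fix_pair yG nG 12 hordy hfac hconj hn16
    pow_mod_17 hCy α
  set β : MulAut G := MulAut.conj g * α with hβ
  have hgt : β tG = tG :=
    Cfsg.Agent.Lib.Helper27.F24OAbs.aut_fix_third yG nG tG β hgy hgn hCn hordn ht2 htn htz hord
  have hβfix : ∀ g' : G, φ (g' : K) o = o → β g' = g' := by
    intro g' hg'
    exact fixes_stab hT φ hφ hinj hfin hcard hchain β hgy hgn hgt g' ((hstab _).mp hg')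
  have hso : φ s o ≠ o := by
    rw [s_o hT φ hφ]
    intro e
    have := congrArg Fin.val e
    exact absurd this (by decide)
  have hqo : q ≠ o := by
    intro e
    have := congrArg Fin.val e
    exact absurd this (by decide)
  have horb : ∀ x : Fin table.n, x = o ∨ (∃ g' ∈ G, φ g' o = o ∧ φ g' q = x) ∨
      (∃ g' ∈ G, φ g' o = o ∧ φ g' (φ s o) = x) := by
    intro x
    by_cases hx : x = o
    · exact Or.inl hx
    · right
      rcases cls_ne φ f hbij hequiv h0 hcls x hx with h1 | h2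
      · right
        rw [s_o hT φ hφ]
        exact orbit_even φ f hbij hequiv h0 horbit p2 b b_not_mem (b_fix_o hT φ hφ) (b_fix_p2 hT φ hφ) x
          (by rw [h1, oid_p2])
      · left
        exact orbit_even φ f hbij hequiv h0 horbit q l l_not_mem (l_fix_o hT φ hφ) (l_fix_q hT φ hφ) x
          (by rw [h2, oid_q])
  have hA3 := Cfsg.Agent.Lib.Helper27.F24OAbs.aut_eq_one_or_conj G φ hinj o q hqo l s e1 n s_mem_comm e1_mem_comm
    n_mem_comm (l_fix_o hT φ hφ) (fun h hh => hcent h ((hstab h).mp hh)) conj_s hso (e1_fix hT φ hφ).1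
    (by rw [s_o hT φ hφ]; exact (e1_fix hT φ hφ).2) (fix_e1 hT φ hφ) (n_fix hT φ hφ).1 (n_fix hT φ hφ).2
    (fix_n hT φ hφ C) ⟨el g11P, g11_mem_comm, g11_o hT φ hφ⟩ horb β hβfix
  have hN : (Cfsg.Inn G).Normal := Cfsg.innNormal G
  rcases hA3 with h1 | h1
  · -- `α` is inner
    left
    have e : α = (MulAut.conj g)⁻¹ := by
      rw [hβ] at h1
      exact eq_inv_of_mul_eq_one_right h1
    rw [e]
    exact (Cfsg.Inn G).inv_mem ⟨g, rfl⟩
  · right
    -- `θ α = θ (conj g)⁻¹ θ⁻¹`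
    have h2 : MulAut.conj g * α = (MulAut.conjNormal l : MulAut G)⁻¹ := by
      rw [hβ] at h1
      exact eq_inv_of_mul_eq_one_right h1
    have h3 : α = (MulAut.conj g)⁻¹ * (MulAut.conjNormal l : MulAut G)⁻¹ := eq_inv_mul_of_mul_eq h2
    have e : (MulAut.conjNormal l : MulAut G) * α =
        (MulAut.conjNormal l : MulAut G) * (MulAut.conj g)⁻¹ * (MulAut.conjNormal l : MulAut G)⁻¹ := by
      rw [h3, mul_assoc]
    rw [e]
    exact hN.conj_mem _ ((Cfsg.Inn G).inv_mem ⟨g, rfl⟩) _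

end Conc

end Cfsg.Agent.Lib.Helper15.F24OConc7
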