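import Cfsg.Agent.Lib.Helper15.F24OTree
set_option autoImplicit false
set_option maxRecDepth 100000

/-!
# S2081: data for the centraliser of an element of order 16 in Fi24 (helper28's numbering of the 306936 points)

All paths are in the letters `l k a b c d e f g j h i = 0 .. 11` of the coset table, first letter acting first.
-/

namespace Cfsg.Agent.Lib.Helper15.F24OData
open Cfsg.Agent.Lib.Helper28.TC2Upper Cfsg.Agent.Lib.Helper15.F24OTree

/-- a word of order 16 with exactly two fixed points (0 and 127314) -/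
def n0P : List ℕ := [4, 8, 7, 5, 4, 2, 6, 7, 8, 10, 8, 5, 8, 2, 10, 6, 2, 10, 9, 4, 2, 10, 3, 5, 2, 11, 8, 7, 10, 11]

/-- the aligning path: it maps 0, 6, 24, 113, 510, 57178, 57176, 72450 to the fixed points of `n0P ^ 4` -/
def dP : List ℕ := [9, 11, 10, 5, 6, 4, 5, 10, 7, 8, 6, 7, 5, 6, 4, 5, 10, 11, 4, 5, 6, 3, 4, 5, 10, 9, 8, 7, 6, 5, 4, 3, 1, 2, 0, 1, 0, 1, 0, 2, 1, 3, 4, 5, 6, 7, 8, 9, 10, 5, 4, 3, 6, 5, 4, 11, 10, 5, 4, 6, 5, 7, 6, 8, 7, 10, 5, 4, 6, 5, 10, 11, 9, 10, 11, 10, 7, 5, 6, 4, 5, 10, 11, 8, 7, 6, 1, 2, 3, 4, 5, 10, 9, 8, 7, 6, 5, 4, 3, 2, 1, 0, 1, 2, 3, 4, 5, 6, 7, 8, 9, 10, 5, 4, 3, 2, 1, 6, 7, 8, 11, 10, 5, 4, 6, 5, 7, 10, 6, 8, 7, 9, 8, 7, 5, 6, 4, 5, 10, 11, 8, 7, 6, 1, 2, 3, 4, 5, 10, 9, 8, 7, 6, 5, 4, 3, 2, 1, 0, 1, 2, 3, 4, 5, 6, 7, 8, 9, 10, 5, 4, 3, 2, 1, 6, 7, 8, 11, 10, 5, 4, 6, 5, 7, 10, 8, 5, 6, 7, 8, 10, 5, 6, 4, 5, 10, 11, 8, 7, 6, 3, 4, 5, 10, 9, 8, 7, 6, 5, 4,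 3, 1, 2, 0, 1, 0, 1, 0, 2, 1, 3, 4, 5, 6, 7, 8, 9, 10, 5, 4, 3, 6, 7, 8, 11, 10, 5, 4, 6, 5, 10, 5, 7, 11, 3, 4, 5, 6, 7, 8, 9, 10, 5, 4, 3, 6, 5, 4, 7, 11, 10, 5, 4, 3, 6, 5, 7, 6, 8, 7, 10, 5, 4, 3, 6, 5, 11]

/-- the element of order 16: its fixed points are 0 and 6, those of its fourth power are the octad `E` -/
def nP : List ℕ := dP ++ n0P ++ dP.reverse

/-- the element of order 17 normalised by `nP` -/
def yP : List ℕ := [4, 2, 4, 11, 0, 2, 11, 5, 4, 6, 5, 2, 8, 10, 3, 0, 5, 8, 6, 2, 6, 5, 6, 2, 11, 9, 4, 3, 9, 7, 1, 11, 6, 1, 4, 3, 6, 7, 5, 6, 4, 5, 9, 8, 3, 4, 5, 1, 5, 3, 6, 1, 10, 8, 9, 10, 6, 7, 9, 8, 0, 3, 10, 5, 3, 5, 0, 4, 2, 8, 11, 1, 11, 1, 2, 3, 7, 10, 0, 9, 2, 9, 5, 4, 10, 3, 1, 0, 2, 1, 3, 7, 9, 0, 4, 9, 0, 4, 5, 9, 6, 9, 3, 11, 9, 2, 8, 6, 11, 9, 1, 8, 2, 10, 5, 8, 10, 0, 3, 4, 2, 9, 6, 4, 2, 9, 6, 0, 1, 11, 4, 9, 8, 0, 11, 5, 11, 1, 7, 8, 0, 11, 6, 1, 3, 7, 5, 8, 5, 10, 1, 10,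 9, 10, 8, 4, 2, 6, 4, 5, 10, 8, 6, 11, 4, 11, 9, 7, 3, 6, 11, 8, 11, 6, 11, 9, 10, 8, 7, 4, 0, 4, 10, 6, 11, 3, 8, 2, 1, 11, 5, 9, 8, 1, 6, 5, 2, 6, 1, 8, 1, 5, 4, 2, 3, 11, 10, 8, 7, 6, 5, 8, 6, 7, 9, 4, 7, 5, 9, 3, 5, 9, 5, 4, 6, 9, 7, 6, 0, 9, 1, 10, 7, 1, 5, 8, 11, 2, 11, 3, 11, 6, 3, 0, 6, 4, 1, 9, 8, 9, 10, 0, 7, 0, 8, 4, 1, 0, 4, 9, 4, 1, 9, 11, 10, 3, 6, 4, 10, 5, 0, 8, 6, 7, 2, 5, 9, 4, 8, 5, 10, 6, 9, 1, 0, 3, 5, 6, 7, 1, 3, 2, 0, 1, 11, 10, 4, 5, 3, 4, 2, 3, 6, 7, 8, 10, 5, 6, 4, 5, 10, 11, 8, 7, 6, 3, 4, 5, 10, 9, 8, 7, 6, 5, 4, 3, 1, 2, 0, 1, 0, 1, 0, 2, 1, 3, 4, 5, 6, 7, 8, 9, 10, 5, 4, 3, 6, 7, 8, 11, 10, 5, 4, 6, 10, 7, 5, 6, 4, 5, 10, 11, 8, 7, 6, 1, 2, 3, 4, 5, 10, 9, 8, 7, 6, 5, 4, 3, 2, 1, 0, 1, 2, 3, 4, 5, 6, 7, 8, 9, 10, 5, 4, 3, 2, 1, 6, 7, 8, 11, 10, 5, 4, 6, 5, 7, 10, 11, 7, 8, 7, 10, 7, 5, 6, 4, 5, 10, 11, 8, 7, 6, 1, 2, 3, 4, 5, 10, 9, 8, 7, 6, 5, 4, 3, 2, 1, 0, 1, 2,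 3, 4, 5, 6, 7, 8, 9, 10, 5, 4, 3, 2, 1, 6, 7, 8, 11, 10, 5, 4, 6, 5, 7, 10, 9, 8, 7, 11, 10, 5, 6, 4, 5, 10, 7, 8, 6, 7, 5, 6, 4, 5, 10, 11, 4, 5, 6, 3, 4, 5, 10, 9, 8, 7, 6, 5, 4, 3, 1, 2, 0, 1, 0, 1, 0, 2, 1, 3, 4, 5, 6, 7, 8, 9, 10, 5, 4, 3, 6, 5, 4, 11, 10, 5, 4, 6, 5, 7, 6, 8, 7, 10, 5, 4, 6, 5, 10, 9, 11, 10, 5, 6, 4, 5, 10, 7, 8, 6, 7, 5, 6, 4, 5, 10, 11, 4, 5, 6, 3, 4, 5, 10, 9, 8, 7, 6, 5, 4, 3, 1, 2, 0, 1, 0, 1, 0, 2, 1, 3, 4, 5, 6, 7, 8, 9, 10, 5, 4, 3, 6, 5, 4, 11, 10, 5, 4, 6, 5, 7, 6, 8, 7, 10, 5, 4, 6, 5, 10, 11, 3, 4, 5, 10, 6, 5, 4, 3, 1, 2, 0, 1, 0, 1, 0, 2, 1, 3, 4, 5, 6, 10, 5, 4, 3, 10, 11, 7, 3, 10, 4, 0, 10, 2, 3, 7, 5, 3, 7, 8, 6, 10, 2, 0, 4, 7, 11, 5, 7, 8, 4, 2, 0, 9, 10, 2, 0, 3, 9, 1, 8, 11, 0, 11, 0, 2, 0, 7, 3, 5, 0, 9, 4, 0, 10, 0, 1, 10, 7, 4, 3, 2, 1, 5, 10, 11, 3, 4, 5, 10, 6, 5, 4, 3, 5, 7, 10, 7, 5, 6, 4, 5, 10, 11, 8, 7, 6, 1, 2, 3, 4, 5, 10, 9, 8, 7, 6, 5,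 4, 3, 2, 1, 0, 1, 2, 3, 4, 5, 6, 7, 8, 9, 10, 5, 4, 3, 2, 1, 6, 7, 8, 11, 10, 5, 4, 6, 5, 7, 10, 11, 6, 10, 7, 5, 6, 4, 5, 10, 11, 8, 7, 6, 1, 2, 3, 4, 5, 10, 9, 8, 7, 6, 5, 4, 3, 2, 1, 0, 1, 2, 3, 4, 5, 6, 7, 8, 9, 10, 5, 4, 3, 2, 1, 6, 7, 8, 11, 10, 5, 4, 6, 5, 7, 8, 10, 7, 5, 6, 4, 5, 10, 11, 8, 7, 6, 1, 2, 3, 4, 5, 10, 9, 8, 7, 6, 5, 4, 3, 2, 1, 0, 1, 2, 3, 4, 5, 6, 7, 8, 9, 10, 5, 4, 3, 2, 1, 6, 7, 8, 11, 10, 5, 4, 6, 5, 7, 10, 9, 7, 8, 10, 7, 5, 6, 4, 5, 10, 11, 8, 7, 6, 1, 2, 3, 4, 5, 10, 9, 8, 7, 6, 5, 4, 3, 2, 1, 0, 1, 2, 3, 4, 5, 6, 7, 8, 9, 10, 5, 4, 3, 2, 1, 6, 7, 8, 11, 10, 5, 4, 6, 5, 7, 10, 5, 6, 4, 5, 10, 11, 8, 5, 6, 7, 4, 5, 6, 3, 4, 5, 10, 9, 8, 7, 6, 5, 4, 3, 1, 2, 0, 1, 0, 1, 0, 2, 1, 3, 4, 5, 6, 7, 8, 9, 10, 5, 4, 3, 6, 5, 4, 7, 6, 5, 8, 11, 10, 5, 4, 6, 5, 10, 11, 10, 5, 6, 4, 5, 10, 7, 8, 6, 7, 5, 6, 4, 5, 10, 11, 4, 5, 6, 3, 4, 5, 10, 9, 8, 7, 6, 5, 4, 3, 1, 2, 0, 1, 0,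 1, 0, 2, 1, 3, 4, 5, 6, 7, 8, 9, 10, 5, 4, 3, 6, 5, 4, 11, 10, 5, 4, 6, 5, 7, 6, 8, 7, 10, 5, 4, 6, 5, 10, 9, 11, 10, 5, 6, 4, 5, 10, 7, 8, 6, 7, 5, 6, 4, 5, 10, 11, 4, 5, 6, 3, 4, 5, 10, 9, 8, 7, 6, 5, 4, 3, 1, 2, 0, 1, 0, 1, 0, 2, 1, 3, 4, 5, 6, 7, 8, 9, 10, 5, 4, 3, 6, 5, 4, 11, 10, 5, 4, 6, 5, 7, 6, 8, 7, 11, 5, 10, 6, 7, 5, 6, 3, 4, 5, 10, 8, 7, 6, 5, 4, 3, 1, 2, 0, 1, 0, 1, 0, 2, 1, 3, 4, 5, 6, 7, 8, 10, 5, 4, 3, 6, 5, 7, 6, 10, 5, 11, 10, 5, 4, 6, 5, 10, 11, 3, 4, 5, 10, 6, 5, 4, 3, 1, 2, 0, 1, 0, 1, 0, 2, 1, 3, 4, 5, 6, 10, 5, 4, 3, 10, 8, 6, 3, 6, 4, 2, 0, 2, 1, 9, 1, 6, 9, 5, 4, 2, 8, 11, 9, 8, 5, 9, 7, 0, 5, 3, 6, 9, 0, 8, 3, 2, 5, 4, 7, 3, 4, 11, 1, 10, 11, 9, 5, 0, 9, 8, 1, 0, 5, 1, 4, 2, 9, 11, 4, 8, 6, 5, 3, 4, 5, 10, 9, 8, 7, 6, 5, 3, 4, 2, 3, 11, 10, 5, 10, 5, 6, 4, 5, 10, 11, 8, 7, 6, 3, 4, 5, 10, 9, 8, 7, 6, 5, 4, 3, 1, 2, 0, 1, 0, 1, 0, 2, 1, 3, 4, 5, 6, 7, 8, 9, 10, 5, 4, 3,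 6, 7, 8, 11, 10, 5, 4, 6, 5, 10, 11, 7, 10, 5, 6, 4, 5, 10, 11, 8, 7, 6, 3, 4, 5, 10, 9, 8, 7, 6, 5, 4, 3, 1, 2, 0, 1, 0, 1, 0, 2, 1, 3, 4, 5, 6, 7, 8, 9, 10, 5, 4, 3, 6, 7, 8, 11, 10, 5, 4, 6, 5, 10, 5, 10, 7, 5, 6, 4, 5, 10, 11, 8, 7, 6, 1, 2, 3, 4, 5, 10, 9, 8, 7, 6, 5, 4, 3, 2, 1, 0, 1, 2, 3, 4, 5, 6, 7, 8, 9, 10, 5, 4, 3, 2, 1, 6, 7, 8, 11, 10, 5, 4, 6, 5, 7, 8, 10, 7, 5, 6, 4, 5, 10, 11, 8, 7, 6, 1, 2, 3, 4, 5, 10, 9, 8, 7, 6, 5, 4, 3, 2, 1, 0, 1, 2, 3, 4, 5, 6, 7, 8, 9, 10, 5, 4, 3, 2, 1, 6, 7, 8, 11, 10, 5, 4, 6, 5, 7, 10, 8, 9, 7, 8, 10, 7, 5, 6, 4, 5, 10, 11, 8, 7, 6, 1, 2, 3, 4, 5, 10, 9, 8, 7, 6, 5, 4, 3, 2, 1, 0, 1, 2, 3, 4, 5, 6, 7, 8, 9, 10, 5, 4, 3, 2, 1, 6, 7, 8, 11, 10, 5, 4, 6, 5, 7, 10, 5, 6, 4, 5, 10, 7, 8, 6, 7, 5, 6, 4, 5, 10, 11, 4, 5, 6, 3, 4, 5, 10, 9, 8, 7, 6, 5, 4, 3, 1, 2, 0, 1, 0, 1, 0, 2, 1, 3, 4, 5, 6, 7, 8, 9, 10, 5, 4, 3, 6, 5, 4, 11, 10, 5, 4, 6, 5, 7, 6, 8, 7,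 10, 5, 4, 6, 5, 10, 11, 9, 11, 10, 5, 6, 4, 5, 10, 11, 5, 10, 6, 7, 5, 6, 3, 4, 5, 10, 8, 7, 6, 5, 4, 3, 1, 2, 0, 1, 0, 1, 0, 2, 1, 3, 4, 5, 6, 7, 8, 10, 5, 4, 3, 6, 5, 7, 6, 10, 5, 11, 10, 5, 4, 6, 5, 10, 11, 10, 5, 6, 4, 5, 10, 11, 7, 6, 3, 4, 5, 10, 8, 7, 6, 5, 4, 3, 1, 2, 0, 1, 0, 1, 0, 2, 1, 3, 4, 5, 6, 7, 8, 10, 5, 4, 3, 6, 7, 11, 10, 5, 4, 6, 5, 10, 5, 6, 4, 5, 10, 11, 5, 10, 6, 7, 5, 6, 3, 4, 5, 10, 8, 7, 6, 5, 4, 3, 1, 2, 0, 1, 0, 1, 0, 2, 1, 3, 4, 5, 6, 7, 8, 10, 5, 4, 3, 6, 5, 7, 6, 10, 5, 11, 10, 5, 4, 6, 5, 10, 11, 9, 11, 10, 5, 6, 4, 5, 10, 7, 8, 6, 7, 5, 6, 4, 5, 10, 11, 4, 5, 6, 3, 4, 5, 10, 9, 8, 7, 6, 5, 4, 3, 1, 2, 0, 1, 0, 1, 0, 2, 1, 3, 4, 5, 6, 7, 8, 9, 10, 5, 4, 3, 6, 5, 4, 11, 10, 5, 4, 6, 5, 7, 6, 8, 7, 10, 5, 4, 6, 5, 10, 11, 10, 5, 6, 4, 5, 10, 11, 8, 5, 6, 7, 4, 5, 6, 3, 4, 5, 10, 9, 8, 7, 6, 5, 4, 3, 1, 2, 0, 1, 0, 1, 0, 2, 1, 3, 4, 5, 6, 7, 8, 9, 10, 5, 4, 3, 6, 5,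 4, 7, 6, 5, 8, 11, 10, 5, 4, 6, 5, 10, 8, 10, 11, 10, 5, 6, 4, 5, 10, 7, 8, 6, 7, 5, 6, 4, 5, 10, 11, 4, 5, 6, 3, 4, 5, 10, 9, 8, 7, 6, 5, 4, 3, 1, 2, 0, 1, 0, 1, 0, 2, 1, 3, 4, 5, 6, 7, 8, 9, 10, 5, 4, 3, 6, 5, 4, 11, 10, 5, 4, 6, 5, 7, 6, 8, 7, 10, 5, 4, 6, 5, 10, 11, 10, 7, 5, 6, 4, 5, 10, 11, 8, 7, 6, 1, 2, 3, 4, 5, 10, 9, 8, 7, 6, 5, 4, 3, 2, 1, 0, 1, 2, 3, 4, 5, 6, 7, 8, 9, 10, 5, 4, 3, 2, 1, 6, 7, 8, 11, 10, 5, 4, 6, 5, 7, 10, 8, 5, 6, 4, 5, 10, 11, 8, 7, 6, 1, 2, 3, 4, 5, 10, 9, 8, 7, 6, 5, 4, 3, 2, 1, 0, 1, 2, 3, 4, 5, 6, 7, 8, 9, 10, 5, 4, 3, 2, 1, 6, 7, 8, 11, 10, 5, 4, 6, 5, 7, 10, 8, 11, 10, 7, 5, 6, 4, 5, 10, 11, 8, 7, 6, 1, 2, 3, 4, 5, 10, 9, 8, 7, 6, 5, 4, 3, 2, 1, 0, 1, 2, 3, 4, 5, 6, 7, 8, 9, 10, 5, 4, 3, 2, 1, 6, 7, 8, 11, 10, 5, 4, 6, 5, 7, 10, 7, 5, 6, 7, 8, 10, 5, 6, 4, 5, 10, 11, 8, 7, 6, 3, 4, 5, 10, 9, 8, 7, 6, 5, 4, 3, 1, 2, 0, 1, 0, 1, 0, 2, 1, 3, 4, 5, 6, 7, 8, 9, 10,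 5, 4, 3, 6, 7, 8, 11, 10, 5, 4, 6, 5, 10, 5, 4, 11, 3, 2, 4, 5, 6, 7, 8, 9, 10, 5, 4, 6, 5, 7, 6, 8, 7, 11, 10, 5, 6, 7, 8]

/-- an element with the fixed points 0, 1, 2 only -/
def e1P : List ℕ := [7, 9, 5, 6, 8, 3, 4, 10]

/-- an element fixing 0, 6, 24, 113, 510 and moving 57178 to 72450 to 57176 -/
def tauP : List ℕ := [7, 8, 10, 6, 8, 5, 10, 9, 6, 2, 0, 5, 4, 9, 5, 10, 6, 5, 7, 10, 7, 5, 6, 4, 5, 10, 11, 8, 7, 6, 1, 2, 3, 4, 5, 10, 9, 8, 7, 6, 5, 4, 3, 2, 1, 0, 1, 2, 3, 4, 5, 6, 7, 8, 9, 10, 5, 4, 3, 2, 1, 6, 7, 8, 11, 10, 5, 4, 6, 5, 7, 8, 10, 7, 5, 6, 4, 5, 10, 11, 8, 7, 6, 1, 2, 3, 4, 5, 10, 9, 8, 7, 6, 5, 4, 3, 2, 1, 0, 1, 2, 3, 4, 5, 6, 7, 8, 9, 10, 5, 4, 3, 2, 1, 6, 7, 8, 11, 10, 5, 4, 6, 5, 7, 10, 11, 9, 8, 10, 7, 5, 6, 4, 5, 10, 11, 8, 7, 6, 1, 2, 3, 4, 5, 10, 9, 8, 7, 6, 5, 4, 3, 2, 1, 0, 1, 2, 3, 4, 5, 6, 7, 8, 9, 10, 5, 4, 3, 2, 1, 6, 7, 8, 11, 10, 5, 4, 6, 5, 7, 10, 6, 7, 11, 8,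 10, 5, 6, 4, 5, 10, 11, 8, 5, 6, 7, 4, 5, 6, 3, 4, 5, 10, 9, 8, 7, 6, 5, 4, 3, 1, 2, 0, 1, 0, 1, 0, 2, 1, 3, 4, 5, 6, 7, 8, 9, 10, 5, 4, 3, 6, 5, 4, 7, 6, 5, 8, 11, 10, 5, 4, 6, 5, 10, 9, 11, 10, 5, 6, 4, 5, 10, 7, 8, 6, 7, 5, 6, 4, 5, 10, 11, 4, 5, 6, 3, 4, 5, 10, 9, 8, 7, 6, 5, 4, 3, 1, 2, 0, 1, 0, 1, 0, 2, 1, 3, 4, 5, 6, 7, 8, 9, 10, 5, 4, 3, 6, 5, 4, 11, 10, 5, 4, 6, 5, 7, 6, 8, 7, 10, 5, 4, 6, 5, 10, 11]

/-- an element interchanging 0 and 6, 57176 and 72450, and fixing 24, 113, 510, 57178 -/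
def g11P : List ℕ := [1, 0, 2, 1] ++ tauP

/-- the fixed points of `n0P ^ 4` -/
def E0 : List ℕ := [0, 89906, 127252, 127268, 127314, 127883, 171552, 220767]

/-- the octad: the fixed points of `nP ^ 4` -/
def E : List ℕ := [0, 6, 24, 113, 510, 57176, 57178, 72450]

/-- the images of the point 105 under the sixteen elements `nP ^ (4 i) * l ^ a * a ^ b` -/
def zimg : List ℕ := [105, 159, 142, 209, 136243, 158149, 126170, 147572, 206635, 231770, 195246, 220036, 115800, 136235, 106222, 126162]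

/-- level 5: the orbit of 57178 under the stabiliser of 0, 6, 24, 113, 510 -/
def tree5 : STree where
  gens := (BT.leaf tauP)
  ents := (BT.node 1 (BT.node 0 (BT.leaf 57178) (BT.leaf 72450)) (BT.leaf 1105752))
  size := 3

/-- level 6: the stabiliser of 0, 6, 24, 113, 510, 57178 fixes 57176 -/
def tree6 : STree where
  gens := (BT.leaf [])
  ents := (BT.leaf 57176)
  size := 1

def g7_0 : List ℕ := [10]

def g7_1 : List ℕ := [11]

def g7_2 : List ℕ := [5, 6, 4, 5, 10, 11, 7, 6, 3, 4, 5, 10, 8, 7, 6, 5, 4, 3, 1, 2, 0, 1, 0, 1, 0, 2, 1, 3, 4, 5, 6, 7, 8, 10, 5, 4, 3, 6, 7, 11, 10, 5, 4, 6, 5]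

def g7_3 : List ℕ := [11, 10, 3, 4, 5, 6, 2, 3, 4, 5, 10, 11, 5, 6, 7, 4, 5, 6, 3, 4, 5, 10, 8, 7, 6, 5, 4, 3, 1, 2, 0, 1, 0, 1, 0, 2, 1, 3, 4, 5, 6, 7, 8, 10, 5, 4, 3, 6, 5, 4, 7, 6, 5, 11, 10, 5, 4, 3, 2, 6, 5, 4, 3, 10, 11]

def g7_4 : List ℕ := [3, 4, 5, 10, 6, 5, 4, 3, 1, 2, 0, 1, 0, 1, 0, 2, 1, 3, 4, 5, 6, 10, 5, 4, 3]

def g7_5 : List ℕ := [11, 10, 5, 6, 4, 5, 10, 11, 5, 10, 6, 7, 5, 6, 3, 4, 5, 10, 8, 7, 6, 5, 4, 3, 1, 2, 0, 1, 0, 1, 0, 2, 1, 3, 4, 5, 6, 7, 8, 10, 5, 4, 3, 6, 5, 7, 6, 10, 5, 11, 10, 5, 4, 6, 5, 10, 11]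

def g7_6 : List ℕ := [0]

def g7_7 : List ℕ := [2]

def g7_8 : List ℕ := [4]

def g7_9 : List ℕ := [6]

def g7_10 : List ℕ := [8]

/-- level 7: the orbit of 105 under the stabiliser of the octad -/
def tree7 : STree where
  gens := (BT.node 5 (BT.node 2 (BT.node 1 (BT.node 0 (BT.leaf g7_0) (BT.leaf g7_1)) (BT.leaf g7_2)) (BT.node 4 (BT.node 3 (BT.leaf g7_3) (BT.leaf g7_4)) (BT.leaf g7_5))) (BT.node 8 (BT.node 7 (BT.node 6 (BT.leaf g7_6) (BT.leaf g7_7)) (BT.leaf g7_8)) (BT.node 9 (BT.leaf g7_9) (BT.leaf g7_10))))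
  ents := (BT.node 767 (BT.node 383 (BT.node 191 (BT.node 95 (BT.node 47 (BT.node 23 (BT.node 11 (BT.node 5 (BT.node 2 (BT.node 1 (BT.node 0 (BT.leaf 105) (BT.leaf 4294967457)) (BT.leaf 8590023005)) (BT.node 4 (BT.node 3 (BT.leaf 12885108530) (BT.leaf 21475056416)) (BT.leaf 25769803918))) (BT.node 8 (BT.node 7 (BT.node 6 (BT.leaf 30064771231) (BT.leaf 38654705824)) (BT.leaf 42949673113)) (BT.node 10 (BT.node 9 (BT.leaf 1048815) (BT.leaf 8591089797)) (BT.leaf 12886008362)))) (BT.node 17 (BT.node 14 (BT.node 13 (BT.node 12 (BT.leaf 17180919038) (BT.leaf 21475917382)) (BT.leaf 25770852563)) (BT.node 16 (BT.node 15 (BT.leaf 30065819884) (BT.leaf 38655754478)) (BT.leaf 42950721763))) (BT.node 20 (BT.node 19 (BT.node 18 (BT.leaf 2203739) (BT.leaf 12887057427)) (BT.leaf 17181973950)) (BT.node 22 (BT.node 21 (BT.leaf 21476985196) (BT.leaf 25771973072)) (BT.leaf 30066974419))))) (BT.node 35 (BT.node 29 (BT.node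 26 (BT.node 25 (BT.node 24 (BT.leaf 38656908778) (BT.leaf 42951876611)) (BT.leaf 4298294860)) (BT.node 28 (BT.node 27 (BT.leaf 8593228182) (BT.leaf 21477982626)) (BT.leaf 25773144508))) (BT.node 32 (BT.node 31 (BT.node 30 (BT.leaf 30068149032) (BT.leaf 38658046638)) (BT.leaf 42953013447)) (BT.node 34 (BT.node 33 (BT.leaf 4299356161) (BT.leaf 8594276723)) (BT.leaf 25774229908)))) (BT.node 41 (BT.node 38 (BT.node 37 (BT.node 36 (BT.leaf 30069159935) (BT.leaf 38659145007)) (BT.leaf 42954099034)) (BT.node 40 (BT.node 39 (BT.leaf 30070014161) (BT.leaf 38659948754)) (BT.leaf 42954916043))) (BT.node 44 (BT.node 43 (BT.node 42 (BT.leaf 38660997355) (BT.leaf 42955964641)) (BT.leaf 42957013218)) (BT.node 46 (BT.node 45 (BT.leaf 8599530156) (BT.leaf 12894385089)) (BT.leaf 17189308097)))))) (BT.node 71 (BT.node 59 (BT.node 53 (BT.node 50 (BT.node 49 (BT.node 48 (BT.leaf 21484314658) (BT.leaf 25779241267)) (BT.leaf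 30074208601)) (BT.node 52 (BT.node 51 (BT.leaf 38664143197) (BT.leaf 42959110476)) (BT.leaf 10612257))) (BT.node 56 (BT.node 55 (BT.node 54 (BT.leaf 25780377969) (BT.leaf 30075382969)) (BT.leaf 38665317348)) (BT.node 58 (BT.node 57 (BT.leaf 42960285116) (BT.leaf 4306548113)) (BT.leaf 17191529364)))) (BT.node 65 (BT.node 62 (BT.node 61 (BT.node 60 (BT.leaf 21486486812) (BT.leaf 25781402687)) (BT.leaf 30076351470)) (BT.node 64 (BT.node 63 (BT.leaf 38666312016) (BT.leaf 42961253314)) (BT.leaf 21487545693))) (BT.node 68 (BT.node 67 (BT.node 66 (BT.leaf 25782388225) (BT.leaf 30077355715)) (BT.leaf 38667290308)) (BT.node 70 (BT.node 69 (BT.leaf 42962257534) (BT.leaf 4308624081)) (BT.leaf 25783463704))))) (BT.node 83 (BT.node 77 (BT.node 74 (BT.node 73 (BT.node 72 (BT.leaf 30078443615) (BT.leaf 38668362450)) (BT.leaf 42963345353)) (BT.node 76 (BT.node 75 (BT.leaf 30079451440) (BT.leaf 38669386034)) (BT.leaf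 42964353320))) (BT.node 80 (BT.node 79 (BT.node 78 (BT.leaf 38670434648) (BT.leaf 42965401928)) (BT.leaf 42966450507)) (BT.node 82 (BT.node 81 (BT.leaf 4313968126) (BT.leaf 12903822800)) (BT.leaf 17198753611)))) (BT.node 89 (BT.node 86 (BT.node 85 (BT.node 84 (BT.leaf 21493751709) (BT.leaf 25788766561)) (BT.leaf 30083761109)) (BT.node 88 (BT.node 87 (BT.leaf 38673705955) (BT.leaf 42968635694)) (BT.leaf 8609860605))) (BT.node 92 (BT.node 91 (BT.node 90 (BT.leaf 17199950162) (BT.leaf 21494772564)) (BT.leaf 25789791076)) (BT.node 94 (BT.node 93 (BT.leaf 30084758046) (BT.leaf 38674701052)) (BT.leaf 42969659919))))))) (BT.node 143 (BT.node 119 (BT.node 107 (BT.node 101 (BT.node 98 (BT.node 97 (BT.node 96 (BT.leaf 21495934320) (BT.leaf 25790780966)) (BT.leaf 30085752628)) (BT.node 100 (BT.node 99 (BT.leaf 38675687250) (BT.leaf 42970653652)) (BT.leaf 8611957888))) (BT.node 104 (BT.node 103 (BT.node 102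 (BT.leaf 25791869671) (BT.leaf 30086855582)) (BT.leaf 38676766625)) (BT.node 106 (BT.node 105 (BT.leaf 42971757512) (BT.leaf 30087928175)) (BT.leaf 38677862768)))) (BT.node 113 (BT.node 110 (BT.node 109 (BT.node 108 (BT.leaf 42972830058) (BT.leaf 38678938647)) (BT.leaf 42973878606)) (BT.node 112 (BT.node 111 (BT.leaf 42974954578) (BT.leaf 27421374)) (BT.leaf 8617324081))) (BT.node 116 (BT.node 115 (BT.node 114 (BT.leaf 17207177588) (BT.leaf 21502127873)) (BT.leaf 25797237388)) (BT.node 118 (BT.node 117 (BT.leaf 30092240691) (BT.leaf 38682139526)) (BT.leaf 42977106339))))) (BT.node 131 (BT.node 125 (BT.node 122 (BT.node 121 (BT.node 120 (BT.leaf 28438052) (BT.leaf 17208221598)) (BT.leaf 21503153673)) (BT.node 124 (BT.node 123 (BT.leaf 25798285587) (BT.leaf 30093252928)) (BT.leaf 38683143717))) (BT.node 128 (BT.node 127 (BT.node 126 (BT.leaf 42978154988) (BT.leaf 4324328012)) (BT.leaf 8619382670))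 (BT.node 130 (BT.node 129 (BT.leaf 25799164231) (BT.leaf 30094131495)) (BT.leaf 38684066086)))) (BT.node 137 (BT.node 134 (BT.node 133 (BT.node 132 (BT.leaf 42979033391) (BT.leaf 30095400162)) (BT.leaf 38685321003)) (BT.node 136 (BT.node 135 (BT.leaf 42980301601) (BT.leaf 38686382980)) (BT.leaf 42981350382))) (BT.node 140 (BT.node 139 (BT.node 138 (BT.leaf 42982385024) (BT.leaf 34773225)) (BT.leaf 8624664087)) (BT.node 142 (BT.node 141 (BT.leaf 12919546159) (BT.leaf 17214518613)) (BT.leaf 25804612993)))))) (BT.node 167 (BT.node 155 (BT.node 149 (BT.node 146 (BT.node 145 (BT.node 144 (BT.leaf 30099544295) (BT.leaf 38689528611)) (BT.leaf 42984482129)) (BT.node 148 (BT.node 147 (BT.leaf 35778048) (BT.leaf 12920559260)) (BT.leaf 17215566523))) (BT.node 152 (BT.node 151 (BT.node 150 (BT.leaf 25805613323) (BT.leaf 30100549122)) (BT.leaf 38690515404)) (BT.node 154 (BT.node 153 (BT.leaf 42985482596) (BT.leaf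 47367745)) (BT.leaf 12932139389)))) (BT.node 161 (BT.node 158 (BT.node 157 (BT.node 156 (BT.leaf 17227087006) (BT.leaf 21522054569)) (BT.leaf 25817137688)) (BT.node 160 (BT.node 159 (BT.leaf 30112138357) (BT.leaf 38702039329)) (BT.leaf 42997006192))) (BT.node 164 (BT.node 163 (BT.node 162 (BT.leaf 4343238030) (BT.leaf 8638220571)) (BT.leaf 17228250965)) (BT.node 166 (BT.node 165 (BT.leaf 21523168061) (BT.leaf 25818089958)) (BT.leaf 30113041842))))) (BT.node 179 (BT.node 173 (BT.node 170 (BT.node 169 (BT.node 168 (BT.leaf 38702998054) (BT.leaf 42997943695)) (BT.leaf 4344252452)) (BT.node 172 (BT.node 171 (BT.leaf 8639234692) (BT.leaf 21524267233)) (BT.leaf 25819088928))) (BT.node 176 (BT.node 175 (BT.node 174 (BT.leaf 30114056489) (BT.leaf 38703991082)) (BT.leaf 42998958278)) (BT.node 178 (BT.node 177 (BT.leaf 4345331196) (BT.leaf 8640317767)) (BT.leaf 25820171675)))) (BT.node 185 (BT.node 182 (BT.node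 181 (BT.node 180 (BT.leaf 30115154359) (BT.leaf 38705069639)) (BT.leaf 43000036862)) (BT.node 184 (BT.node 183 (BT.leaf 30116151730) (BT.leaf 38706086326)) (BT.leaf 43001053607))) (BT.node 188 (BT.node 187 (BT.node 186 (BT.leaf 38707134957) (BT.leaf 43002102231)) (BT.leaf 43003150813)) (BT.node 190 (BT.node 189 (BT.leaf 4350689649) (BT.leaf 25825484954)) (BT.leaf 30120493146)))))))) (BT.node 287 (BT.node 239 (BT.node 215 (BT.node 203 (BT.node 197 (BT.node 194 (BT.node 193 (BT.node 192 (BT.leaf 38710427550) (BT.leaf 43005395255)) (BT.leaf 30121500824)) (BT.node 196 (BT.node 195 (BT.leaf 38711435417) (BT.leaf 43006402708)) (BT.leaf 38712513521))) (BT.node 200 (BT.node 199 (BT.node 198 (BT.leaf 43007451258) (BT.leaf 43008529451)) (BT.leaf 60854091)) (BT.node 202 (BT.node 201 (BT.leaf 17240692287) (BT.leaf 21535801182)) (BT.leaf 25830672931)))) (BT.node 209 (BT.node 206 (BT.node 205 (BT.node 204 (BT.leaf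 30125625172) (BT.leaf 38715581415)) (BT.leaf 43010527052)) (BT.node 208 (BT.node 207 (BT.leaf 4356939158) (BT.leaf 8651814056)) (BT.leaf 21536722389))) (BT.node 212 (BT.node 211 (BT.node 210 (BT.leaf 25831805727) (BT.leaf 30126743193)) (BT.leaf 38716718932)) (BT.node 214 (BT.node 213 (BT.leaf 43011675262) (BT.leaf 4358018267)) (BT.leaf 8652877371))))) (BT.node 227 (BT.node 221 (BT.node 218 (BT.node 217 (BT.node 216 (BT.leaf 25832825040) (BT.leaf 30127822037)) (BT.leaf 38717756610)) (BT.node 220 (BT.node 219 (BT.leaf 43012693483) (BT.leaf 30128785939)) (BT.leaf 38718748437))) (BT.node 224 (BT.node 223 (BT.node 222 (BT.leaf 43013687783) (BT.leaf 38719775316)) (BT.leaf 43014720947)) (BT.node 226 (BT.node 225 (BT.leaf 43015791143) (BT.leaf 4363231130)) (BT.leaf 8658096408)))) (BT.node 233 (BT.node 230 (BT.node 229 (BT.node 228 (BT.leaf 25838108783) (BT.leaf 30133076045)) (BT.leaf 38723010528)) (BT.node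 232 (BT.node 231 (BT.leaf 43017978056) (BT.leaf 30133979170)) (BT.leaf 38723913763))) (BT.node 236 (BT.node 235 (BT.node 234 (BT.leaf 43018880993) (BT.leaf 38724962605)) (BT.leaf 43019929804)) (BT.node 238 (BT.node 237 (BT.leaf 43020978381) (BT.leaf 73420225)) (BT.leaf 12958449698)))))) (BT.node 263 (BT.node 251 (BT.node 245 (BT.node 242 (BT.node 241 (BT.node 240 (BT.leaf 17253298205) (BT.leaf 25843226228)) (BT.leaf 30138203700)) (BT.node 244 (BT.node 243 (BT.leaf 38728125699) (BT.leaf 43023105460)) (BT.leaf 30139256322))) (BT.node 248 (BT.node 247 (BT.node 246 (BT.leaf 38729176693) (BT.leaf 43024157980)) (BT.leaf 38730235445)) (BT.node 250 (BT.node 249 (BT.leaf 43025222025) (BT.leaf 43026251332)) (BT.leaf 38733349297)))) (BT.node 257 (BT.node 254 (BT.node 253 (BT.node 252 (BT.leaf 43028316579) (BT.leaf 43029365158)) (BT.leaf 43031462358)) (BT.node 256 (BT.node 255 (BT.leaf 12969843319) (BT.leaf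 17264825774)) (BT.leaf 21559778699))) (BT.node 260 (BT.node 259 (BT.node 258 (BT.leaf 25854845065) (BT.leaf 30149841857)) (BT.leaf 38739787677)) (BT.node 262 (BT.node 261 (BT.leaf 43034714208) (BT.leaf 4380987294)) (BT.leaf 8675969506))))) (BT.node 275 (BT.node 269 (BT.node 266 (BT.node 265 (BT.node 264 (BT.leaf 17266033896) (BT.leaf 21560829793)) (BT.leaf 25855838492)) (BT.node 268 (BT.node 267 (BT.leaf 30150805502) (BT.leaf 38740747282)) (BT.leaf 43035707373))) (BT.node 272 (BT.node 271 (BT.node 270 (BT.leaf 4382010912) (BT.leaf 8676991363)) (BT.leaf 21562015984)) (BT.node 274 (BT.node 273 (BT.leaf 25856843182) (BT.leaf 30151815946)) (BT.leaf 38741750566)))) (BT.node 281 (BT.node 278 (BT.node 277 (BT.node 276 (BT.leaf 43036716748) (BT.leaf 4383079812)) (BT.leaf 8678047206)) (BT.node 280 (BT.node 279 (BT.leaf 25857920208) (BT.leaf 30152902984)) (BT.leaf 38742818184))) (BT.node 284 (BT.node 283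 (BT.node 282 (BT.leaf 43037804907) (BT.leaf 30154006060)) (BT.leaf 38743941256)) (BT.node 286 (BT.node 285 (BT.leaf 43038908501) (BT.leaf 38745019328)) (BT.leaf 43039957086))))))) (BT.node 335 (BT.node 311 (BT.node 299 (BT.node 293 (BT.node 290 (BT.node 289 (BT.node 288 (BT.leaf 43041005663) (BT.leaf 93327435)) (BT.leaf 17273202825)) (BT.node 292 (BT.node 291 (BT.leaf 21568341383) (BT.leaf 25863130773)) (BT.leaf 30158098517))) (BT.node 296 (BT.node 295 (BT.node 294 (BT.leaf 38748033104) (BT.leaf 43043000008)) (BT.leaf 4389475240)) (BT.node 298 (BT.node 297 (BT.leaf 8684310672) (BT.leaf 21569244673)) (BT.leaf 25864323031)))) (BT.node 305 (BT.node 302 (BT.node 301 (BT.node 300 (BT.leaf 30159279099) (BT.leaf 38749213717)) (BT.leaf 43044180937)) (BT.node 304 (BT.node 303 (BT.leaf 4390404694) (BT.leaf 8685502754)) (BT.leaf 25865239401))) (BT.node 308 (BT.node 307 (BT.node 306 (BT.leaf 30160206762) (BT.leaf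 38750143060)) (BT.leaf 43045110357)) (BT.node 310 (BT.node 309 (BT.leaf 30161297290) (BT.leaf 38751254183)) (BT.leaf 43046193438))))) (BT.node 323 (BT.node 317 (BT.node 314 (BT.node 313 (BT.node 312 (BT.leaf 38752302445) (BT.leaf 43047241727)) (BT.leaf 43048318306)) (BT.node 316 (BT.node 315 (BT.leaf 4395737006) (BT.leaf 8690620246)) (BT.leaf 25870614732))) (BT.node 320 (BT.node 319 (BT.node 318 (BT.leaf 30165582063) (BT.leaf 38755516536)) (BT.leaf 43050483718)) (BT.node 322 (BT.node 321 (BT.leaf 30166490524) (BT.leaf 38756425141)) (BT.leaf 43051391741)))) (BT.node 329 (BT.node 326 (BT.node 325 (BT.node 324 (BT.leaf 38757479182) (BT.leaf 43052444462)) (BT.leaf 43053493963)) (BT.node 328 (BT.node 327 (BT.leaf 105910539) (BT.leaf 12990989743)) (BT.leaf 17285778573))) (BT.node 332 (BT.node 331 (BT.node 330 (BT.leaf 25875712300) (BT.leaf 30170681609)) (BT.leaf 38760616207)) (BT.node 334 (BT.node 333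 (BT.leaf 43055583315) (BT.leaf 30171783431)) (BT.leaf 38761696468)))))) (BT.node 359 (BT.node 347 (BT.node 341 (BT.node 338 (BT.node 337 (BT.node 336 (BT.leaf 43056685366) (BT.leaf 38762760523)) (BT.leaf 43057755885)) (BT.node 340 (BT.node 339 (BT.leaf 43058776431) (BT.leaf 38765960921)) (BT.leaf 43060918572))) (BT.node 344 (BT.node 343 (BT.node 342 (BT.leaf 43061976808) (BT.leaf 43064064587)) (BT.leaf 17297345453)) (BT.node 346 (BT.node 345 (BT.leaf 21592299336) (BT.leaf 30182393423)) (BT.leaf 43067260979)))) (BT.node 353 (BT.node 350 (BT.node 349 (BT.node 348 (BT.leaf 30183407712) (BT.leaf 43068309620)) (BT.leaf 21594402823)) (BT.node 352 (BT.node 351 (BT.leaf 25889392636) (BT.leaf 30184365947)) (BT.leaf 38774279086))) (BT.node 356 (BT.node 355 (BT.node 354 (BT.leaf 43069262568) (BT.leaf 4415589888)) (BT.leaf 25890422322)) (BT.node 358 (BT.node 357 (BT.leaf 30185379442) (BT.leaf 38775328017))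 (BT.leaf 43070281313))))) (BT.node 371 (BT.node 365 (BT.node 362 (BT.node 361 (BT.node 360 (BT.leaf 30186600891) (BT.leaf 43071502338)) (BT.leaf 38777583942)) (BT.node 364 (BT.node 363 (BT.leaf 43072551112) (BT.leaf 43073586330)) (BT.leaf 17305730437))) (BT.node 368 (BT.node 367 (BT.node 366 (BT.leaf 21600673164) (BT.leaf 30190747599)) (BT.leaf 43075649651)) (BT.node 370 (BT.node 369 (BT.leaf 21601717281) (BT.leaf 25896717521)) (BT.leaf 30191700297)))) (BT.node 377 (BT.node 374 (BT.node 373 (BT.node 372 (BT.leaf 38781615494) (BT.leaf 43076602217)) (BT.leaf 8717918474)) (BT.node 376 (BT.node 375 (BT.leaf 25897737627) (BT.leaf 30192701524)) (BT.leaf 38782636094))) (BT.node 380 (BT.node 379 (BT.node 378 (BT.leaf 43077603594) (BT.leaf 30193927417)) (BT.leaf 43078795636)) (BT.node 382 (BT.node 381 (BT.leaf 38784876496) (BT.leaf 43079843963)) (BT.leaf 43080892781))))))))) (BT.node 575 (BT.node 479 (BT.node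 431 (BT.node 407 (BT.node 395 (BT.node 389 (BT.node 386 (BT.node 385 (BT.node 384 (BT.leaf 133169960) (BT.leaf 8723209966)) (BT.leaf 13018122768)) (BT.node 388 (BT.node 387 (BT.leaf 17313042068) (BT.leaf 134323949)) (BT.leaf 13019176839))) (BT.node 392 (BT.node 391 (BT.node 390 (BT.leaf 17314097968) (BT.leaf 13030686471)) (BT.leaf 17325657858)) (BT.node 394 (BT.node 393 (BT.leaf 25915737243) (BT.leaf 38800652292)) (BT.leaf 25916740437)))) (BT.node 401 (BT.node 398 (BT.node 397 (BT.node 396 (BT.leaf 38801642547) (BT.leaf 17327724143)) (BT.leaf 25917689682)) (BT.node 400 (BT.node 399 (BT.leaf 30212672034) (BT.leaf 38802587403)) (BT.leaf 43097574148))) (BT.node 404 (BT.node 403 (BT.node 402 (BT.leaf 25918753509) (BT.leaf 30213705477)) (BT.leaf 38803661759)) (BT.node 406 (BT.node 405 (BT.leaf 43098621932) (BT.leaf 13039050344)) (BT.leaf 17334045871))))) (BT.node 419 (BT.node 413 (BT.node 410 (BT.node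 409 (BT.node 408 (BT.leaf 25924080467) (BT.leaf 38808982578)) (BT.leaf 17335083903)) (BT.node 412 (BT.node 411 (BT.leaf 25924999936) (BT.leaf 30219964582)) (BT.leaf 38809899171))) (BT.node 416 (BT.node 415 (BT.node 414 (BT.leaf 43104868996) (BT.leaf 25926093126)) (BT.leaf 30221044942)) (BT.node 418 (BT.node 417 (BT.leaf 38811001092) (BT.leaf 43105946802)) (BT.leaf 13046447056)))) (BT.node 425 (BT.node 422 (BT.node 421 (BT.node 420 (BT.leaf 17341390446) (BT.leaf 21636358078)) (BT.leaf 4457537830)) (BT.node 424 (BT.node 423 (BT.leaf 8752468944) (BT.leaf 17342410292)) (BT.leaf 21637523676))) (BT.node 428 (BT.node 427 (BT.node 426 (BT.leaf 25932379534) (BT.leaf 30227341614)) (BT.leaf 38817276201)) (BT.node 430 (BT.node 429 (BT.leaf 43112243495) (BT.leaf 21638436760)) (BT.leaf 25933409595)))))) (BT.node 455 (BT.node 443 (BT.node 437 (BT.node 434 (BT.node 433 (BT.node 432 (BT.leaf 30228389473) (BT.leaf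 38818324077)) (BT.leaf 43113279469)) (BT.node 436 (BT.node 435 (BT.leaf 4459618943) (BT.leaf 8754566258)) (BT.leaf 25934458447))) (BT.node 440 (BT.node 439 (BT.node 438 (BT.leaf 30229422684) (BT.leaf 38819357563)) (BT.leaf 43114324888)) (BT.node 442 (BT.node 441 (BT.leaf 30230616597) (BT.leaf 43115505914)) (BT.leaf 38821599883)))) (BT.node 449 (BT.node 446 (BT.node 445 (BT.node 444 (BT.leaf 43117615338) (BT.leaf 169898042)) (BT.leaf 8759868259)) (BT.node 448 (BT.node 447 (BT.leaf 17349763739) (BT.leaf 21644723189)) (BT.leaf 25939714069))) (BT.node 452 (BT.node 451 (BT.node 450 (BT.leaf 30234668741) (BT.leaf 38824620989)) (BT.leaf 43119570602)) (BT.node 454 (BT.node 453 (BT.leaf 17350815036) (BT.leaf 25940768207)) (BT.leaf 30235734386))))) (BT.node 467 (BT.node 461 (BT.node 458 (BT.node 457 (BT.node 456 (BT.leaf 38825664348) (BT.leaf 43120631646)) (BT.leaf 4467060138)) (BT.node 460 (BT.node 459 (BT.leaf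 8762059281) (BT.leaf 21646818475)) (BT.leaf 25941928155))) (BT.node 464 (BT.node 463 (BT.node 462 (BT.leaf 30236863608) (BT.leaf 38826842311)) (BT.leaf 43121797647)) (BT.node 466 (BT.node 465 (BT.leaf 4468098333) (BT.leaf 25942907317)) (BT.leaf 30237902104)))) (BT.node 473 (BT.node 470 (BT.node 469 (BT.node 468 (BT.leaf 38827836681) (BT.leaf 43122775690)) (BT.leaf 30238875705)) (BT.node 472 (BT.node 471 (BT.leaf 38828833851) (BT.leaf 43123777558)) (BT.leaf 38829863914))) (BT.node 476 (BT.node 475 (BT.node 474 (BT.leaf 43124813510) (BT.leaf 43125879742)) (BT.leaf 13063162884)) (BT.node 478 (BT.node 477 (BT.leaf 21653097477) (BT.leaf 25948063429)) (BT.leaf 30243031826))))))) (BT.node 527 (BT.node 503 (BT.node 491 (BT.node 485 (BT.node 482 (BT.node 481 (BT.node 480 (BT.leaf 38832966419) (BT.leaf 43127933627)) (BT.leaf 13064244398)) (BT.node 484 (BT.node 483 (BT.leaf 21654175087) (BT.leaf 25949129863))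 (BT.leaf 30244099484))) (BT.node 488 (BT.node 487 (BT.node 486 (BT.leaf 38834034093) (BT.leaf 43129001387)) (BT.leaf 4475448680)) (BT.node 490 (BT.node 489 (BT.leaf 8770447789) (BT.leaf 25950329320)) (BT.leaf 30245296576)))) (BT.node 497 (BT.node 494 (BT.node 493 (BT.node 492 (BT.leaf 38835231058) (BT.leaf 43130198583)) (BT.leaf 30246177549)) (BT.node 496 (BT.node 495 (BT.leaf 38836112142) (BT.leaf 43131079342)) (BT.leaf 38837161086))) (BT.node 500 (BT.node 499 (BT.node 498 (BT.leaf 43132128243) (BT.leaf 43133176820)) (BT.leaf 185623183)) (BT.node 502 (BT.node 501 (BT.leaf 8775596957) (BT.leaf 13070517231)) (BT.leaf 17365484528))))) (BT.node 515 (BT.node 509 (BT.node 506 (BT.node 505 (BT.node 504 (BT.leaf 25955430069) (BT.leaf 30250409962)) (BT.leaf 38840329101)) (BT.node 508 (BT.node 507 (BT.leaf 43135296144) (BT.leaf 17366543892)) (BT.leaf 25956496060))) (BT.node 512 (BT.node 511 (BT.node 510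 (BT.leaf 30251458460) (BT.leaf 38841393026)) (BT.leaf 43136360319)) (BT.node 514 (BT.node 513 (BT.leaf 30252512170) (BT.leaf 38842429209)) (BT.leaf 43137396407)))) (BT.node 521 (BT.node 518 (BT.node 517 (BT.node 516 (BT.leaf 38843490283) (BT.leaf 43138457608)) (BT.leaf 43139490703)) (BT.node 520 (BT.node 519 (BT.leaf 38846595680) (BT.leaf 43141562957)) (BT.leaf 43142611539))) (BT.node 524 (BT.node 523 (BT.node 522 (BT.leaf 43144708754) (BT.leaf 13083087805)) (BT.leaf 17378078227)) (BT.node 526 (BT.node 525 (BT.leaf 21673022984) (BT.leaf 30264127024)) (BT.leaf 43149028909)))))) (BT.node 551 (BT.node 539 (BT.node 533 (BT.node 530 (BT.node 529 (BT.node 528 (BT.leaf 38855141773) (BT.leaf 43151157701)) (BT.leaf 38858255551)) (BT.node 532 (BT.node 531 (BT.leaf 43153212246) (BT.leaf 43154271442)) (BT.leaf 43156358232))) (BT.node 536 (BT.node 535 (BT.node 534 (BT.leaf 8799655474) (BT.leaf 17389592036))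 (BT.leaf 21684677533)) (BT.node 538 (BT.node 537 (BT.leaf 30274515012) (BT.leaf 43159416891)) (BT.leaf 21685629059)))) (BT.node 545 (BT.node 542 (BT.node 541 (BT.node 540 (BT.leaf 25980574372) (BT.leaf 30275541716)) (BT.leaf 38865477090)) (BT.node 544 (BT.node 543 (BT.leaf 43160440932) (BT.leaf 4506949841)) (BT.leaf 8801953118))) (BT.node 548 (BT.node 547 (BT.node 546 (BT.leaf 25981774050) (BT.leaf 30276709350)) (BT.leaf 38866688201)) (BT.node 550 (BT.node 549 (BT.leaf 43161643622) (BT.leaf 30277673265)) (BT.leaf 43162574925))))) (BT.node 563 (BT.node 557 (BT.node 554 (BT.node 553 (BT.node 552 (BT.leaf 38868661654) (BT.leaf 43163611205)) (BT.leaf 43164677519)) (BT.node 556 (BT.node 555 (BT.leaf 217143466) (BT.leaf 21691895951)) (BT.leaf 25986974488))) (BT.node 560 (BT.node 559 (BT.node 558 (BT.leaf 30281914188) (BT.leaf 38871886739)) (BT.leaf 43166844090)) (BT.node 562 (BT.node 561 (BT.leaf 218121219)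 (BT.leaf 21693076418)) (BT.leaf 25987923087)))) (BT.node 569 (BT.node 566 (BT.node 565 (BT.node 564 (BT.leaf 30282892233) (BT.leaf 38872826881)) (BT.leaf 43167794178)) (BT.node 568 (BT.node 567 (BT.leaf 4514145200) (BT.leaf 8809132991)) (BT.leaf 25988973622))) (BT.node 572 (BT.node 571 (BT.node 570 (BT.leaf 30283948967) (BT.leaf 38873883567)) (BT.leaf 43168850836)) (BT.node 574 (BT.node 573 (BT.leaf 30285098083) (BT.leaf 38875064538)) (BT.leaf 43169999986)))))))) (BT.node 671 (BT.node 623 (BT.node 599 (BT.node 587 (BT.node 581 (BT.node 578 (BT.node 577 (BT.node 576 (BT.leaf 38876081271) (BT.leaf 43171038396)) (BT.leaf 43172129294)) (BT.node 580 (BT.node 579 (BT.leaf 224553579) (BT.leaf 8814351826)) (BT.leaf 13109467536))) (BT.node 584 (BT.node 583 (BT.node 582 (BT.leaf 17404422441) (BT.leaf 25994325602)) (BT.leaf 30289324645)) (BT.node 586 (BT.node 585 (BT.leaf 38879259217) (BT.leaf 43174194149))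 (BT.leaf 17405483546)))) (BT.node 593 (BT.node 590 (BT.node 589 (BT.node 588 (BT.leaf 25995279777) (BT.leaf 30290246923)) (BT.leaf 38880171478)) (BT.node 592 (BT.node 591 (BT.leaf 43175138772) (BT.leaf 30291390045)) (BT.leaf 38881324158))) (BT.node 596 (BT.node 595 (BT.node 594 (BT.leaf 43176280952) (BT.leaf 38882372733)) (BT.leaf 43177339804)) (BT.node 598 (BT.node 597 (BT.leaf 43178388442) (BT.leaf 38885457001)) (BT.leaf 43180400698))))) (BT.node 611 (BT.node 605 (BT.node 602 (BT.node 601 (BT.node 600 (BT.leaf 43181472828) (BT.leaf 43183551467)) (BT.leaf 237066338)) (BT.node 604 (BT.node 603 (BT.leaf 13121902412) (BT.leaf 26006908109)) (BT.leaf 30301875372))) (BT.node 608 (BT.node 607 (BT.node 606 (BT.leaf 38891809835) (BT.leaf 43186777405)) (BT.leaf 238029958)) (BT.node 610 (BT.node 609 (BT.leaf 13123065049) (BT.leaf 26007835770)) (BT.leaf 30302803065)))) (BT.node 617 (BT.node 614 (BT.node 613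 (BT.node 612 (BT.leaf 38892735628) (BT.leaf 43187705458)) (BT.leaf 30304004523)) (BT.node 616 (BT.node 615 (BT.leaf 38893907300) (BT.leaf 43188874599)) (BT.leaf 38894955695))) (BT.node 620 (BT.node 619 (BT.node 618 (BT.leaf 43189954988) (BT.leaf 43190971710)) (BT.leaf 38897978129)) (BT.node 622 (BT.node 621 (BT.leaf 43192945332) (BT.leaf 43193993909)) (BT.leaf 43196091388)))))) (BT.node 647 (BT.node 635 (BT.node 629 (BT.node 626 (BT.node 625 (BT.node 624 (BT.leaf 8839504035) (BT.leaf 13134589055)) (BT.leaf 17429452670)) (BT.node 628 (BT.node 627 (BT.leaf 26019382284) (BT.leaf 38904282263)) (BT.leaf 8840750711))) (BT.node 632 (BT.node 631 (BT.node 630 (BT.leaf 17430519863) (BT.leaf 26020571730)) (BT.leaf 30315551107)) (BT.node 634 (BT.node 633 (BT.leaf 38905441891) (BT.leaf 43200440613)) (BT.leaf 26021484419)))) (BT.node 641 (BT.node 638 (BT.node 637 (BT.node 636 (BT.leaf 30316465951) (BT.leaf 38906386335))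 (BT.leaf 43201353629)) (BT.node 640 (BT.node 639 (BT.leaf 30317506307) (BT.leaf 38907429652)) (BT.leaf 43202408026))) (BT.node 644 (BT.node 643 (BT.node 642 (BT.leaf 38908486337) (BT.leaf 43204502223)) (BT.leaf 38911635204)) (BT.node 646 (BT.node 645 (BT.leaf 43206619939) (BT.leaf 43207651094)) (BT.leaf 43209760861))))) (BT.node 659 (BT.node 653 (BT.node 650 (BT.node 649 (BT.node 648 (BT.leaf 17447275975) (BT.leaf 21742393742)) (BT.leaf 26037196306)) (BT.node 652 (BT.node 651 (BT.leaf 30332166937) (BT.leaf 38922097592)) (BT.leaf 43217065632))) (BT.node 656 (BT.node 655 (BT.node 654 (BT.leaf 21743275678) (BT.leaf 26038264368)) (BT.leaf 30333234684)) (BT.node 658 (BT.node 657 (BT.leaf 38923169298) (BT.leaf 43218136592)) (BT.leaf 26039293437)))) (BT.node 665 (BT.node 662 (BT.node 661 (BT.node 660 (BT.leaf 30334260757) (BT.leaf 38924199716)) (BT.leaf 43219162908)) (BT.node 664 (BT.node 663 (BT.leaf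 30335429659) (BT.leaf 43220332026)) (BT.leaf 38926444899))) (BT.node 668 (BT.node 667 (BT.node 666 (BT.leaf 43222429185) (BT.leaf 17454636652)) (BT.leaf 30339538543)) (BT.node 670 (BT.node 669 (BT.leaf 43224440418) (BT.leaf 17455673026)) (BT.leaf 21750637458))))))) (BT.node 719 (BT.node 695 (BT.node 683 (BT.node 677 (BT.node 674 (BT.node 673 (BT.node 672 (BT.leaf 30340587573) (BT.leaf 43225489426)) (BT.leaf 4571949479)) (BT.node 676 (BT.node 675 (BT.leaf 8866884785) (BT.leaf 21751689302)) (BT.leaf 26046798152))) (BT.node 680 (BT.node 679 (BT.node 678 (BT.leaf 30341753238) (BT.leaf 38931687854)) (BT.leaf 43226655084)) (BT.node 682 (BT.node 681 (BT.leaf 8867965411) (BT.leaf 26047688192)) (BT.leaf 30342655542)))) (BT.node 689 (BT.node 686 (BT.node 685 (BT.node 684 (BT.leaf 38932591442) (BT.leaf 43227558739)) (BT.leaf 30343737718)) (BT.node 688 (BT.node 687 (BT.leaf 43228634975) (BT.leaf 38934739482))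 (BT.leaf 43229683312))) (BT.node 692 (BT.node 691 (BT.node 690 (BT.leaf 43230755341) (BT.leaf 13168034464)) (BT.leaf 21757966141)) (BT.node 694 (BT.node 693 (BT.leaf 26052928333) (BT.leaf 30347900748)) (BT.leaf 38937836412))))) (BT.node 707 (BT.node 701 (BT.node 698 (BT.node 697 (BT.node 696 (BT.leaf 43232798886) (BT.leaf 13169098460)) (BT.leaf 21759033053)) (BT.node 700 (BT.node 699 (BT.leaf 26053989648) (BT.leaf 30348967060)) (BT.leaf 38938901661))) (BT.node 704 (BT.node 703 (BT.node 702 (BT.leaf 43233859368) (BT.leaf 4580338282)) (BT.leaf 8875305419)) (BT.node 706 (BT.node 705 (BT.leaf 26055187003) (BT.leaf 30350154332)) (BT.leaf 38940088818)))) (BT.node 713 (BT.node 710 (BT.node 709 (BT.node 708 (BT.leaf 43235055988) (BT.leaf 30351042341)) (BT.leaf 38940976959)) (BT.node 712 (BT.node 711 (BT.leaf 43235943384) (BT.leaf 38942032359)) (BT.leaf 43236997071))) (BT.node 716 (BT.node 715 (BT.node 714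 (BT.leaf 43238046822) (BT.leaf 17470352893)) (BT.leaf 26060287505)) (BT.node 718 (BT.node 717 (BT.leaf 38945186353) (BT.leaf 13176423398)) (BT.leaf 17471402034)))))) (BT.node 743 (BT.node 731 (BT.node 725 (BT.node 722 (BT.node 721 (BT.node 720 (BT.leaf 26061336223) (BT.leaf 38946235272)) (BT.leaf 30357369533)) (BT.node 724 (BT.node 723 (BT.leaf 38947286549) (BT.leaf 43242271462)) (BT.leaf 38948347779))) (BT.node 728 (BT.node 727 (BT.node 726 (BT.leaf 43244363680) (BT.leaf 38951578650)) (BT.leaf 43246535507)) (BT.node 730 (BT.node 729 (BT.leaf 43247594705) (BT.leaf 43249681495)) (BT.leaf 17482921155)))) (BT.node 737 (BT.node 734 (BT.node 733 (BT.node 732 (BT.leaf 21778033134) (BT.leaf 30367815192)) (BT.leaf 43252716564)) (BT.node 736 (BT.node 735 (BT.leaf 21778969669) (BT.leaf 26073902851)) (BT.leaf 30368871563))) (BT.node 740 (BT.node 739 (BT.node 738 (BT.leaf 38958806209) (BT.leaf 43253773506))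 (BT.leaf 26075109915)) (BT.node 742 (BT.node 741 (BT.leaf 30370064875) (BT.leaf 38960047738)) (BT.leaf 43254979205))))) (BT.node 755 (BT.node 749 (BT.node 746 (BT.node 745 (BT.node 744 (BT.leaf 30370960322) (BT.leaf 43255860272)) (BT.leaf 38961944095)) (BT.node 748 (BT.node 747 (BT.leaf 43256910864) (BT.leaf 43257959443)) (BT.leaf 310494264))) (BT.node 752 (BT.node 751 (BT.node 750 (BT.leaf 21785234885) (BT.leaf 26080308258)) (BT.leaf 30375265313)) (BT.node 754 (BT.node 753 (BT.leaf 38965199933) (BT.leaf 43260167134)) (BT.leaf 311430176)))) (BT.node 761 (BT.node 758 (BT.node 757 (BT.node 756 (BT.leaf 21786369669) (BT.leaf 26081235965)) (BT.leaf 30376203260)) (BT.node 760 (BT.node 759 (BT.leaf 38966138499) (BT.leaf 43261105081)) (BT.leaf 4607489091))) (BT.node 764 (BT.node 763 (BT.node 762 (BT.leaf 8902451312) (BT.leaf 26082320478)) (BT.leaf 30377275159)) (BT.node 766 (BT.node 765 (BT.leaf 38967209733)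 (BT.leaf 43262194428)) (BT.leaf 30378421408)))))))))) (BT.node 1151 (BT.node 959 (BT.node 863 (BT.node 815 (BT.node 791 (BT.node 779 (BT.node 773 (BT.node 770 (BT.node 769 (BT.node 768 (BT.leaf 38968356016) (BT.leaf 43263323180)) (BT.leaf 38969404936)) (BT.node 772 (BT.node 771 (BT.leaf 43264361534) (BT.leaf 43265452389)) (BT.leaf 8907779496))) (BT.node 776 (BT.node 775 (BT.node 774 (BT.leaf 17497807613) (BT.leaf 26087541844)) (BT.leaf 30382509224)) (BT.node 778 (BT.node 777 (BT.leaf 38972446053) (BT.leaf 43267413350)) (BT.leaf 318937741)))) (BT.node 785 (BT.node 782 (BT.node 781 (BT.node 780 (BT.leaf 17498806671) (BT.leaf 26088729104)) (BT.leaf 30383696164)) (BT.node 784 (BT.node 783 (BT.leaf 38973630689) (BT.leaf 43268597950)) (BT.leaf 30384599961))) (BT.node 788 (BT.node 787 (BT.node 786 (BT.leaf 38974540882) (BT.leaf 43269508179)) (BT.leaf 38975589541)) (BT.node 790 (BT.node 789 (BT.leaf 43270556839)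 (BT.leaf 43271607651)) (BT.leaf 38978786971))))) (BT.node 803 (BT.node 797 (BT.node 794 (BT.node 793 (BT.node 792 (BT.leaf 43273728375) (BT.leaf 43274795877)) (BT.leaf 43276892699)) (BT.node 796 (BT.node 795 (BT.leaf 330417435) (BT.leaf 13215207703)) (BT.leaf 26100231490))) (BT.node 800 (BT.node 799 (BT.node 798 (BT.leaf 30395198831) (BT.leaf 38985133270)) (BT.leaf 43280100448)) (BT.node 802 (BT.node 801 (BT.leaf 331367384) (BT.leaf 13216358260)) (BT.leaf 26101182481)))) (BT.node 809 (BT.node 806 (BT.node 805 (BT.node 804 (BT.leaf 30396149784) (BT.leaf 38986084368)) (BT.leaf 43281051663)) (BT.node 808 (BT.node 807 (BT.leaf 30397327977) (BT.leaf 38987262409)) (BT.leaf 43282197889))) (BT.node 812 (BT.node 811 (BT.node 810 (BT.leaf 38988279393) (BT.leaf 43283278282)) (BT.leaf 43284294872)) (BT.node 814 (BT.node 813 (BT.leaf 38991308587) (BT.leaf 43286274304)) (BT.leaf 43287323607)))))) (BT.node 839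 (BT.node 827 (BT.node 821 (BT.node 818 (BT.node 817 (BT.node 816 (BT.leaf 43289425870) (BT.leaf 13227944630)) (BT.leaf 17522755892)) (BT.node 820 (BT.node 819 (BT.leaf 26112691325) (BT.leaf 38997595937)) (BT.leaf 17523843182))) (BT.node 824 (BT.node 823 (BT.node 822 (BT.leaf 26113907351) (BT.leaf 30408910498)) (BT.leaf 38998809108)) (BT.node 826 (BT.node 825 (BT.leaf 43293776269) (BT.leaf 26114789152)) (BT.leaf 30409756442)))) (BT.node 833 (BT.node 830 (BT.node 829 (BT.node 828 (BT.leaf 38999689531) (BT.leaf 43294658691)) (BT.leaf 30410804347)) (BT.node 832 (BT.node 831 (BT.leaf 39000738945) (BT.leaf 43295706107)) (BT.leaf 39001790240))) (BT.node 836 (BT.node 835 (BT.node 834 (BT.leaf 43297805861) (BT.leaf 39004975809)) (BT.leaf 43299969061)) (BT.node 838 (BT.node 837 (BT.leaf 43300991722) (BT.leaf 43303107488)) (BT.leaf 4655705402))))) (BT.node 851 (BT.node 845 (BT.node 842 (BT.node 841 (BT.node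 840 (BT.leaf 8950656528) (BT.leaf 21835569047)) (BT.leaf 30425526629)) (BT.node 844 (BT.node 843 (BT.leaf 43310424330) (BT.leaf 8951698547)) (BT.leaf 30426547148))) (BT.node 848 (BT.node 847 (BT.node 846 (BT.leaf 43311449096) (BT.leaf 43312650660)) (BT.leaf 43314703578)) (BT.node 850 (BT.node 849 (BT.leaf 4661991250) (BT.leaf 8957072426)) (BT.leaf 26136827802)))) (BT.node 857 (BT.node 854 (BT.node 853 (BT.node 852 (BT.leaf 30431795011) (BT.leaf 39021743900)) (BT.leaf 43316711197)) (BT.node 856 (BT.node 855 (BT.leaf 30432885262) (BT.leaf 43317769560)) (BT.leaf 39023849830))) (BT.node 860 (BT.node 859 (BT.node 858 (BT.leaf 43318836531) (BT.leaf 43319861515)) (BT.leaf 372273204)) (BT.node 862 (BT.node 861 (BT.leaf 17552239974) (BT.leaf 4677722671)) (BT.leaf 8972667183))))))) (BT.node 911 (BT.node 887 (BT.node 875 (BT.node 869 (BT.node 866 (BT.node 865 (BT.node 864 (BT.leaf 21857568996) (BT.leaf 30447542144))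 (BT.leaf 43332444058)) (BT.node 868 (BT.node 867 (BT.leaf 4678754468) (BT.leaf 30448555542)) (BT.leaf 43333457693))) (BT.node 872 (BT.node 871 (BT.node 870 (BT.leaf 43334626521) (BT.leaf 4681896081)) (BT.leaf 8976965540)) (BT.node 874 (BT.node 873 (BT.leaf 26156732089) (BT.leaf 30451699499)) (BT.leaf 39041634405)))) (BT.node 881 (BT.node 878 (BT.node 877 (BT.node 876 (BT.leaf 43336599868) (BT.leaf 30452789950)) (BT.leaf 43337691876)) (BT.node 880 (BT.node 879 (BT.leaf 39043768193) (BT.leaf 43338759068)) (BT.leaf 43339784091))) (BT.node 884 (BT.node 883 (BT.node 882 (BT.leaf 392213184) (BT.leaf 17572194756)) (BT.leaf 13287596086)) (BT.node 886 (BT.node 885 (BT.leaf 17582527414) (BT.leaf 17584745897)) (BT.leaf 13291794803))))) (BT.node 899 (BT.node 893 (BT.node 890 (BT.node 889 (BT.node 888 (BT.leaf 17586730960) (BT.leaf 17587891352)) (BT.leaf 8999936849)) (BT.node 892 (BT.node 891 (BT.leaf 17589870126)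 (BT.leaf 26179825729)) (BT.leaf 39064724374))) (BT.node 896 (BT.node 895 (BT.node 894 (BT.leaf 4706037739) (BT.leaf 9000989581)) (BT.leaf 26180886792)) (BT.node 898 (BT.node 897 (BT.leaf 39065793876) (BT.leaf 4711256206)) (BT.leaf 9006325432)))) (BT.node 905 (BT.node 902 (BT.node 901 (BT.node 900 (BT.leaf 26186095315) (BT.leaf 30481062563)) (BT.leaf 39070994562)) (BT.node 904 (BT.node 903 (BT.leaf 43365965357) (BT.leaf 4720699252)) (BT.leaf 17605610912))) (BT.node 908 (BT.node 907 (BT.node 906 (BT.leaf 26195534811) (BT.leaf 39080433309)) (BT.leaf 4721765881)) (BT.node 910 (BT.node 909 (BT.leaf 9016708764) (BT.leaf 26196615038)) (BT.leaf 39081521850)))))) (BT.node 935 (BT.node 923 (BT.node 917 (BT.node 914 (BT.node 913 (BT.node 912 (BT.leaf 4724903357) (BT.leaf 9019957231)) (BT.leaf 26199742304)) (BT.node 916 (BT.node 915 (BT.leaf 30494707130) (BT.leaf 39084641703)) (BT.leaf 43379608998))) (BT.node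 920 (BT.node 919 (BT.node 918 (BT.leaf 17619231576) (BT.leaf 21914371193)) (BT.leaf 21915267167)) (BT.node 922 (BT.node 921 (BT.leaf 17622390647) (BT.leaf 21917367817)) (BT.leaf 26212339527)))) (BT.node 929 (BT.node 926 (BT.node 925 (BT.node 924 (BT.leaf 30507302662) (BT.leaf 39097237249)) (BT.leaf 43392204543)) (BT.node 928 (BT.node 927 (BT.leaf 17623428628) (BT.leaf 26213355619)) (BT.leaf 30508325534))) (BT.node 932 (BT.node 931 (BT.node 930 (BT.leaf 39098260119) (BT.leaf 43393227426)) (BT.leaf 4739572640)) (BT.node 934 (BT.node 933 (BT.leaf 9034536561) (BT.leaf 21919484335)) (BT.leaf 26214410132))))) (BT.node 947 (BT.node 941 (BT.node 938 (BT.node 937 (BT.node 936 (BT.leaf 30509377427) (BT.leaf 39099310938)) (BT.leaf 43394278233)) (BT.node 940 (BT.node 939 (BT.leaf 4740748064) (BT.leaf 26215595862)) (BT.leaf 30510551921))) (BT.node 944 (BT.node 943 (BT.node 942 (BT.leaf 39100486438) (BT.leaf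 43395465238)) (BT.leaf 30511501137)) (BT.node 946 (BT.node 945 (BT.leaf 43396403016) (BT.leaf 39102480138)) (BT.leaf 43398496002)))) (BT.node 953 (BT.node 950 (BT.node 949 (BT.node 948 (BT.leaf 4745883720) (BT.leaf 9040839697)) (BT.leaf 26220720201)) (BT.node 952 (BT.node 951 (BT.leaf 30515676180) (BT.leaf 39105610770)) (BT.leaf 43400589383))) (BT.node 956 (BT.node 955 (BT.node 954 (BT.leaf 30516743075) (BT.leaf 43401641694)) (BT.leaf 39107741675)) (BT.node 958 (BT.node 957 (BT.leaf 43403742980) (BT.leaf 13341054826)) (BT.leaf 17636022121)))))))) (BT.node 1055 (BT.node 1007 (BT.node 983 (BT.node 971 (BT.node 965 (BT.node 962 (BT.node 961 (BT.node 960 (BT.leaf 26225956376) (BT.leaf 30520921300)) (BT.leaf 39110856106)) (BT.node 964 (BT.node 963 (BT.leaf 43405835749) (BT.leaf 17637054753)) (BT.leaf 26226986773))) (BT.node 968 (BT.node 967 (BT.node 966 (BT.leaf 30521956640) (BT.leaf 39111891825)) (BT.leaf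 43406858907)) (BT.node 970 (BT.node 969 (BT.leaf 30523020778) (BT.leaf 43407923086)) (BT.leaf 39114001822)))) (BT.node 977 (BT.node 974 (BT.node 973 (BT.node 972 (BT.leaf 43410017726) (BT.leaf 17646505398)) (BT.leaf 21941474868)) (BT.node 976 (BT.node 975 (BT.leaf 30531409786) (BT.leaf 43416311663)) (BT.leaf 17647681617))) (BT.node 980 (BT.node 979 (BT.node 978 (BT.leaf 21942516583) (BT.leaf 30532493190)) (BT.leaf 43417389341)) (BT.node 982 (BT.node 981 (BT.leaf 4763713037) (BT.leaf 9058699259)) (BT.leaf 30533516785))))) (BT.node 995 (BT.node 989 (BT.node 986 (BT.node 985 (BT.node 984 (BT.leaf 43418418700) (BT.leaf 4764751739)) (BT.leaf 39126601134)) (BT.node 988 (BT.node 987 (BT.leaf 43422616971) (BT.leaf 4770007984)) (BT.leaf 9064975791))) (BT.node 992 (BT.node 991 (BT.node 990 (BT.leaf 26244840607) (BT.leaf 30539808087)) (BT.leaf 39129746348)) (BT.node 994 (BT.node 993 (BT.leaf 43424713647) (BT.leaf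 30540875770)) (BT.leaf 43425777642)))) (BT.node 1001 (BT.node 998 (BT.node 997 (BT.node 996 (BT.leaf 480354288) (BT.leaf 9070363767)) (BT.leaf 13365153419)) (BT.node 1000 (BT.node 999 (BT.leaf 21955106670) (BT.leaf 26250187905)) (BT.leaf 30545166357))) (BT.node 1004 (BT.node 1003 (BT.node 1002 (BT.leaf 39135101219) (BT.leaf 43430068232)) (BT.leaf 481432704)) (BT.node 1006 (BT.node 1005 (BT.leaf 13366202441) (BT.leaf 21956165376)) (BT.leaf 30546249123)))))) (BT.node 1031 (BT.node 1019 (BT.node 1013 (BT.node 1010 (BT.node 1009 (BT.node 1008 (BT.leaf 43431116826) (BT.leaf 4777332147)) (BT.leaf 9072308316)) (BT.node 1012 (BT.node 1011 (BT.leaf 26252162260) (BT.leaf 30547135950)) (BT.leaf 39137070551))) (BT.node 1016 (BT.node 1015 (BT.node 1014 (BT.leaf 43432037813) (BT.leaf 487724252)) (BT.leaf 13372503218)) (BT.node 1018 (BT.node 1017 (BT.leaf 17667479091) (BT.leaf 26257498321)) (BT.leaf 30552495318))))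 (BT.node 1025 (BT.node 1022 (BT.node 1021 (BT.node 1020 (BT.leaf 39142429891) (BT.leaf 43437366764)) (BT.leaf 30553514188)) (BT.node 1024 (BT.node 1023 (BT.leaf 39143448222) (BT.leaf 43438405967)) (BT.leaf 39144527039))) (BT.node 1028 (BT.node 1027 (BT.node 1026 (BT.leaf 43439463837) (BT.leaf 43440512483)) (BT.leaf 39147588111)) (BT.node 1030 (BT.node 1029 (BT.leaf 43443603939) (BT.leaf 21973962518)) (BT.leaf 30563895507))))) (BT.node 1043 (BT.node 1037 (BT.node 1034 (BT.node 1033 (BT.node 1032 (BT.leaf 39153832033) (BT.leaf 43448797486)) (BT.leaf 4795141772)) (BT.node 1036 (BT.node 1035 (BT.leaf 26269978269) (BT.leaf 21980275245)) (BT.leaf 26275258237))) (BT.node 1040 (BT.node 1039 (BT.node 1038 (BT.leaf 30570212879) (BT.leaf 43455114747)) (BT.leaf 9096400657)) (BT.node 1042 (BT.node 1041 (BT.leaf 39161192990) (BT.leaf 511811494)) (BT.leaf 9101821249)))) (BT.node 1049 (BT.node 1046 (BT.node 1045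 (BT.node 1044 (BT.leaf 13396629368) (BT.leaf 17691596660)) (BT.leaf 26281656521)) (BT.node 1048 (BT.node 1047 (BT.leaf 30576623848) (BT.leaf 39166558441)) (BT.leaf 43461525734))) (BT.node 1052 (BT.node 1051 (BT.node 1050 (BT.leaf 512889876) (BT.leaf 13397678009)) (BT.leaf 17692659203)) (BT.node 1054 (BT.node 1053 (BT.leaf 26282704976) (BT.leaf 39167640896)) (BT.leaf 13409212274))))))) (BT.node 1103 (BT.node 1079 (BT.node 1067 (BT.node 1061 (BT.node 1058 (BT.node 1057 (BT.node 1056 (BT.leaf 17704170647) (BT.leaf 26294113832)) (BT.leaf 39179013552)) (BT.node 1060 (BT.node 1059 (BT.leaf 13410253737) (BT.leaf 17705387365)) (BT.leaf 26295197958))) (BT.node 1064 (BT.node 1063 (BT.node 1062 (BT.leaf 39180093770) (BT.leaf 9117404340)) (BT.leaf 26297257393)) (BT.node 1066 (BT.node 1065 (BT.leaf 39182161449) (BT.leaf 30593289598)) (BT.leaf 39184268752)))) (BT.node 1073 (BT.node 1070 (BT.node 1069 (BT.node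 1068 (BT.leaf 4827679955) (BT.leaf 26302512519)) (BT.leaf 30597483699)) (BT.node 1072 (BT.node 1071 (BT.leaf 39187418319) (BT.leaf 43482371503)) (BT.leaf 43483434160))) (BT.node 1076 (BT.node 1075 (BT.node 1074 (BT.leaf 43485527409) (BT.leaf 43487628672)) (BT.leaf 43490770686)) (BT.node 1078 (BT.node 1077 (BT.leaf 17728289949) (BT.leaf 22023436462)) (BT.leaf 22024295378))))) (BT.node 1091 (BT.node 1085 (BT.node 1082 (BT.node 1081 (BT.node 1080 (BT.leaf 17739816411) (BT.leaf 30624718284)) (BT.leaf 43509620176)) (BT.node 1084 (BT.node 1083 (BT.leaf 22035860874) (BT.leaf 30625768283)) (BT.leaf 43510666816))) (BT.node 1088 (BT.node 1087 (BT.node 1086 (BT.leaf 4860172215) (BT.leaf 9155149576)) (BT.leaf 26335018781)) (BT.node 1090 (BT.node 1089 (BT.leaf 30629976004) (BT.leaf 39219924876)) (BT.leaf 43514891661)))) (BT.node 1097 (BT.node 1094 (BT.node 1093 (BT.node 1092 (BT.leaf 30631007856) (BT.leaf 43515909073))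 (BT.leaf 39221994399)) (BT.node 1096 (BT.node 1095 (BT.leaf 43516957679) (BT.leaf 43518006846)) (BT.leaf 570572637))) (BT.node 1100 (BT.node 1099 (BT.node 1098 (BT.leaf 17750442444) (BT.leaf 26340410495)) (BT.leaf 30635343775)) (BT.node 1102 (BT.node 1101 (BT.leaf 39225312677) (BT.leaf 43520280062)) (BT.leaf 17751360173)))))) (BT.node 1127 (BT.node 1115 (BT.node 1109 (BT.node 1106 (BT.node 1105 (BT.node 1104 (BT.leaf 26341472227) (BT.leaf 30636476780)) (BT.leaf 39226374245)) (BT.node 1108 (BT.node 1107 (BT.leaf 43521341605) (BT.leaf 30637429622)) (BT.leaf 43522343373))) (BT.node 1112 (BT.node 1111 (BT.node 1110 (BT.leaf 39228424085) (BT.leaf 43524474340)) (BT.leaf 26351860429)) (BT.node 1114 (BT.node 1113 (BT.leaf 30646836883) (BT.leaf 39237719682)) (BT.leaf 39238898462)))) (BT.node 1121 (BT.node 1118 (BT.node 1117 (BT.node 1116 (BT.leaf 39239917208) (BT.leaf 43535963261)) (BT.leaf 39242979143))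 (BT.node 1120 (BT.node 1119 (BT.leaf 43537946438) (BT.leaf 26359229468)) (BT.leaf 30655139227))) (BT.node 1124 (BT.node 1123 (BT.node 1122 (BT.leaf 39245073851) (BT.leaf 43540041148)) (BT.leaf 594574856)) (BT.node 1126 (BT.node 1125 (BT.leaf 9184513865) (BT.leaf 13479461910)) (BT.leaf 39249280803))))) (BT.node 1139 (BT.node 1133 (BT.node 1130 (BT.node 1129 (BT.node 1128 (BT.leaf 43544247819) (BT.leaf 595627404)) (BT.leaf 13480521802)) (BT.node 1132 (BT.node 1131 (BT.leaf 26365446628) (BT.leaf 30660398512)) (BT.leaf 39251367875))) (BT.node 1136 (BT.node 1135 (BT.node 1134 (BT.leaf 43546335097) (BT.leaf 39252426524)) (BT.leaf 43547393571)) (BT.node 1138 (BT.node 1137 (BT.leaf 39255687059) (BT.leaf 43551703060)) (BT.leaf 13492174881)))) (BT.node 1145 (BT.node 1142 (BT.node 1141 (BT.node 1140 (BT.leaf 17787130741) (BT.leaf 26377077201)) (BT.leaf 39262012903)) (BT.node 1144 (BT.node 1143 (BT.leaf 608191145)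 (BT.leaf 17788075592)) (BT.leaf 26378003020))) (BT.node 1148 (BT.node 1147 (BT.node 1146 (BT.leaf 30672970203) (BT.leaf 39262896812)) (BT.leaf 43557864106)) (BT.node 1150 (BT.node 1149 (BT.leaf 17789239188) (BT.leaf 30674175067)) (BT.leaf 43559077052))))))))) (BT.node 1343 (BT.node 1247 (BT.node 1199 (BT.node 1175 (BT.node 1163 (BT.node 1157 (BT.node 1154 (BT.node 1153 (BT.node 1152 (BT.leaf 9200400824) (BT.leaf 39267221536)) (BT.leaf 4910629022)) (BT.node 1156 (BT.node 1155 (BT.leaf 26385499525) (BT.leaf 30680480074)) (BT.leaf 30681361830))) (BT.node 1160 (BT.node 1159 (BT.node 1158 (BT.leaf 39271293520) (BT.leaf 43566260814)) (BT.leaf 39272341982)) (BT.node 1162 (BT.node 1161 (BT.leaf 43567309277) (BT.leaf 39275598595)) (BT.leaf 43570565925)))) (BT.node 1169 (BT.node 1166 (BT.node 1165 (BT.node 1164 (BT.leaf 43571614576) (BT.leaf 43573711999)) (BT.leaf 39286054821)) (BT.node 1168 (BT.node 1167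 (BT.leaf 43581022113) (BT.leaf 30697091085)) (BT.leaf 30698247186))) (BT.node 1172 (BT.node 1171 (BT.node 1170 (BT.leaf 39289200329) (BT.leaf 43584197651)) (BT.leaf 26407341849)) (BT.node 1174 (BT.node 1173 (BT.leaf 30702309151) (BT.leaf 43588381911)) (BT.leaf 43589311190))))) (BT.node 1187 (BT.node 1181 (BT.node 1178 (BT.node 1177 (BT.node 1176 (BT.leaf 43590359718) (BT.leaf 43591405857)) (BT.leaf 43593646159)) (BT.node 1180 (BT.node 1179 (BT.leaf 43596791886) (BT.leaf 17834187420)) (BT.leaf 26424121491))) (BT.node 1184 (BT.node 1183 (BT.node 1182 (BT.leaf 39309028029) (BT.leaf 17835261450)) (BT.leaf 26426229755)) (BT.node 1186 (BT.node 1185 (BT.leaf 39311131669) (BT.leaf 39314492036)) (BT.leaf 43609422261)))) (BT.node 1193 (BT.node 1190 (BT.node 1189 (BT.node 1188 (BT.leaf 39320580105) (BT.leaf 43615547400)) (BT.leaf 39321628769)) (BT.node 1192 (BT.node 1191 (BT.leaf 4974470013) (BT.leaf 9269429285))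 (BT.leaf 22154387932))) (BT.node 1196 (BT.node 1195 (BT.node 1194 (BT.leaf 26449298465) (BT.leaf 30744273790)) (BT.leaf 39334198431)) (BT.node 1198 (BT.node 1197 (BT.leaf 43629175676) (BT.leaf 26450511242)) (BT.leaf 30745444383)))))) (BT.node 1223 (BT.node 1211 (BT.node 1205 (BT.node 1202 (BT.node 1201 (BT.node 1200 (BT.leaf 39335379104) (BT.leaf 43630380616)) (BT.leaf 30746353061)) (BT.node 1204 (BT.node 1203 (BT.leaf 43631254276) (BT.leaf 39337335421)) (BT.leaf 43633348775))) (BT.node 1208 (BT.node 1207 (BT.node 1206 (BT.leaf 4980739061) (BT.leaf 9275705037)) (BT.leaf 26455575558)) (BT.node 1210 (BT.node 1209 (BT.leaf 30750542873) (BT.leaf 39340477132)) (BT.leaf 43635444500)))) (BT.node 1217 (BT.node 1214 (BT.node 1213 (BT.node 1212 (BT.leaf 30751620464) (BT.leaf 43636522371)) (BT.leaf 39342607537)) (BT.node 1216 (BT.node 1215 (BT.leaf 43638623437) (BT.leaf 30755786824)) (BT.leaf 43640688902)))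 (BT.node 1220 (BT.node 1219 (BT.node 1218 (BT.leaf 39346773420) (BT.leaf 43642789627)) (BT.leaf 9293536001)) (BT.node 1222 (BT.node 1221 (BT.leaf 706876430) (BT.leaf 13591660463)) (BT.leaf 22181599124))))) (BT.node 1235 (BT.node 1229 (BT.node 1226 (BT.node 1225 (BT.node 1224 (BT.leaf 26476691513) (BT.leaf 30771692795)) (BT.leaf 39361582102)) (BT.node 1228 (BT.node 1227 (BT.leaf 43656561019) (BT.leaf 707894987)) (BT.leaf 13592701745))) (BT.node 1232 (BT.node 1231 (BT.node 1230 (BT.leaf 22182657434) (BT.leaf 30772707297)) (BT.leaf 43657609281)) (BT.node 1234 (BT.node 1233 (BT.leaf 5003840893) (BT.leaf 9298789095)) (BT.leaf 26478673677)))) (BT.node 1241 (BT.node 1238 (BT.node 1237 (BT.node 1236 (BT.leaf 30773630867) (BT.leaf 39363565455)) (BT.leaf 43658546414)) (BT.node 1240 (BT.node 1239 (BT.leaf 714261890) (BT.leaf 13598986508)) (BT.leaf 17893985815))) (BT.node 1244 (BT.node 1243 (BT.node 1242 (BT.leaf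 26484031639) (BT.leaf 30778999071)) (BT.leaf 39368933917)) (BT.node 1246 (BT.node 1245 (BT.leaf 43663889489) (BT.leaf 30779910040)) (BT.leaf 43664817000))))))) (BT.node 1295 (BT.node 1271 (BT.node 1259 (BT.node 1253 (BT.node 1250 (BT.node 1249 (BT.node 1248 (BT.leaf 39370898344) (BT.leaf 43666915923)) (BT.leaf 22199414308)) (BT.node 1252 (BT.node 1251 (BT.leaf 26494387972) (BT.leaf 30789350625)) (BT.leaf 43674257152))) (BT.node 1256 (BT.node 1255 (BT.node 1254 (BT.leaf 5020594943) (BT.leaf 39380331199)) (BT.leaf 22205734496)) (BT.node 1258 (BT.node 1257 (BT.leaf 30795653984) (BT.leaf 39385604359)) (BT.leaf 43680558386)))) (BT.node 1265 (BT.node 1262 (BT.node 1261 (BT.node 1260 (BT.leaf 9321852622) (BT.leaf 26501738476)) (BT.leaf 737285338)) (BT.node 1264 (BT.node 1263 (BT.leaf 13622070722) (BT.leaf 26507100624)) (BT.leaf 30802101604))) (BT.node 1268 (BT.node 1267 (BT.node 1266 (BT.leaf 39392036355)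 (BT.leaf 43687003486)) (BT.leaf 738333745)) (BT.node 1270 (BT.node 1269 (BT.leaf 13623131918) (BT.leaf 26508148858)) (BT.leaf 39393050881))))) (BT.node 1283 (BT.node 1277 (BT.node 1274 (BT.node 1273 (BT.node 1272 (BT.leaf 22241403562) (BT.leaf 30831297507)) (BT.leaf 43716199459)) (BT.node 1276 (BT.node 1275 (BT.leaf 5065707012) (BT.leaf 9360670277)) (BT.leaf 26540558903))) (BT.node 1280 (BT.node 1279 (BT.node 1278 (BT.leaf 30835510806) (BT.leaf 39425466696)) (BT.leaf 43720412677)) (BT.node 1282 (BT.node 1281 (BT.leaf 30836538490) (BT.leaf 43721440414)) (BT.leaf 39427523553)))) (BT.node 1289 (BT.node 1286 (BT.node 1285 (BT.node 1284 (BT.leaf 43722490850) (BT.leaf 43723539488)) (BT.leaf 43725814088)) (BT.node 1288 (BT.node 1287 (BT.leaf 39431882120) (BT.leaf 39440185910)) (BT.leaf 43735162983))) (BT.node 1292 (BT.node 1291 (BT.node 1290 (BT.leaf 26556251292) (BT.leaf 30852357823)) (BT.leaf 39442292426))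 (BT.node 1294 (BT.node 1293 (BT.leaf 43737259577) (BT.leaf 26561482424)) (BT.leaf 30856450124)))))) (BT.node 1319 (BT.node 1307 (BT.node 1301 (BT.node 1298 (BT.node 1297 (BT.node 1296 (BT.leaf 39447555033) (BT.leaf 39448484583)) (BT.leaf 39449533158)) (BT.node 1300 (BT.node 1299 (BT.leaf 43745548928) (BT.leaf 798024199)) (BT.leaf 13682871431))) (BT.node 1304 (BT.node 1303 (BT.node 1302 (BT.leaf 26567821877) (BT.leaf 30862773780)) (BT.leaf 799062915)) (BT.node 1306 (BT.node 1305 (BT.leaf 13683920024) (BT.leaf 39453772156)) (BT.leaf 43748720201)))) (BT.node 1313 (BT.node 1310 (BT.node 1309 (BT.node 1308 (BT.leaf 39454801462) (BT.leaf 43749788027)) (BT.leaf 39455839862)) (BT.node 1312 (BT.node 1311 (BT.leaf 43750821098) (BT.leaf 39459099479)) (BT.leaf 43755126737))) (BT.node 1316 (BT.node 1315 (BT.node 1314 (BT.leaf 26603528399) (BT.leaf 30898525231)) (BT.leaf 43784345153)) (BT.node 1318 (BT.node 1317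 (BT.leaf 43785494463) (BT.leaf 43786572848)) (BT.leaf 43787591404))))) (BT.node 1331 (BT.node 1325 (BT.node 1322 (BT.node 1321 (BT.node 1320 (BT.leaf 39494637396) (BT.leaf 43789604693)) (BT.leaf 30905855149)) (BT.node 1324 (BT.node 1323 (BT.leaf 30906814242) (BT.leaf 39497797409)) (BT.leaf 43792764704))) (BT.node 1328 (BT.node 1327 (BT.node 1326 (BT.leaf 43796021369) (BT.leaf 43799167090)) (BT.leaf 18036607473)) (BT.node 1330 (BT.node 1329 (BT.leaf 26627541784) (BT.leaf 39512443663)) (BT.leaf 39520832287)))) (BT.node 1337 (BT.node 1334 (BT.node 1333 (BT.node 1332 (BT.leaf 43815801840) (BT.leaf 39521880864)) (BT.leaf 13764693761)) (BT.node 1336 (BT.node 1335 (BT.leaf 30944562082) (BT.leaf 13765719886)) (BT.leaf 43830492032))) (BT.node 1340 (BT.node 1339 (BT.node 1338 (BT.leaf 43832625892) (BT.leaf 39544975382)) (BT.leaf 43839942679)) (BT.node 1342 (BT.node 1341 (BT.leaf 26661219536) (BT.leaf 30956176470))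 (BT.leaf 13788806509)))))))) (BT.node 1439 (BT.node 1391 (BT.node 1367 (BT.node 1355 (BT.node 1349 (BT.node 1346 (BT.node 1345 (BT.node 1344 (BT.leaf 43853577602) (BT.leaf 13789828046)) (BT.leaf 30969695363)) (BT.node 1348 (BT.node 1347 (BT.leaf 43856742725) (BT.leaf 26683118590)) (BT.leaf 30978086019))) (BT.node 1352 (BT.node 1351 (BT.node 1350 (BT.leaf 39569190062) (BT.leaf 43864147004)) (BT.leaf 26711430139)) (BT.node 1354 (BT.node 1353 (BT.leaf 31006397979) (BT.leaf 39597463414)) (BT.leaf 43892458328)))) (BT.node 1361 (BT.node 1358 (BT.node 1357 (BT.node 1356 (BT.leaf 39611032442) (BT.leaf 43905999737)) (BT.leaf 26727269563)) (BT.node 1360 (BT.node 1359 (BT.leaf 31022247025) (BT.leaf 22437470531)) (BT.leaf 9553782246))) (BT.node 1364 (BT.node 1363 (BT.node 1362 (BT.leaf 31030538295) (BT.leaf 43915440192)) (BT.leaf 39623615381)) (BT.node 1366 (BT.node 1365 (BT.leaf 43919631243) (BT.leaf 31036810054))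 (BT.leaf 43921711938))))) (BT.node 1379 (BT.node 1373 (BT.node 1370 (BT.node 1369 (BT.node 1368 (BT.leaf 31037855289) (BT.leaf 43922757181)) (BT.leaf 22452137667)) (BT.node 1372 (BT.node 1371 (BT.leaf 31042051555) (BT.leaf 39631985365)) (BT.leaf 43926957619))) (BT.node 1376 (BT.node 1375 (BT.node 1374 (BT.leaf 22453183130) (BT.leaf 31043099301)) (BT.leaf 43928002021)) (BT.node 1378 (BT.node 1377 (BT.leaf 5274378212) (BT.leaf 9569334561)) (BT.leaf 26749219772)))) (BT.node 1385 (BT.node 1382 (BT.node 1381 (BT.node 1380 (BT.leaf 31044182068) (BT.leaf 39634116625)) (BT.leaf 43929083923)) (BT.node 1384 (BT.node 1383 (BT.leaf 18164510776) (BT.leaf 26754542485)) (BT.leaf 31049499508))) (BT.node 1388 (BT.node 1387 (BT.node 1386 (BT.leaf 39639434014) (BT.leaf 43934411891)) (BT.leaf 31050558427)) (BT.node 1390 (BT.node 1389 (BT.leaf 43935492686) (BT.leaf 39641531257)) (BT.leaf 43937558110)))))) (BT.node 1415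 (BT.node 1403 (BT.node 1397 (BT.node 1394 (BT.node 1393 (BT.node 1392 (BT.leaf 13878980265) (BT.leaf 26763876249)) (BT.leaf 31058843521)) (BT.node 1396 (BT.node 1395 (BT.leaf 39648778111) (BT.leaf 13880028865)) (BT.leaf 26764915896))) (BT.node 1400 (BT.node 1399 (BT.node 1398 (BT.leaf 39649826690) (BT.leaf 26775413633)) (BT.leaf 39660318366)) (BT.node 1402 (BT.node 1401 (BT.leaf 31071421154) (BT.leaf 39662402691)) (BT.leaf 26780639562)))) (BT.node 1409 (BT.node 1406 (BT.node 1405 (BT.node 1404 (BT.leaf 39665537714) (BT.leaf 43961553869)) (BT.leaf 43963654987)) (BT.node 1408 (BT.node 1407 (BT.leaf 22499320729) (BT.leaf 31089387791)) (BT.leaf 43974302018))) (BT.node 1412 (BT.node 1411 (BT.node 1410 (BT.leaf 31090291607) (BT.leaf 43975199825)) (BT.leaf 22504557732)) (BT.node 1414 (BT.node 1413 (BT.leaf 22510842776) (BT.leaf 22519246905)) (BT.leaf 22520284216))))) (BT.node 1427 (BT.node 1421 (BT.node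 1418 (BT.node 1417 (BT.node 1416 (BT.leaf 31110371591) (BT.leaf 43995273601)) (BT.leaf 22521485762)) (BT.node 1420 (BT.node 1419 (BT.leaf 5342512107) (BT.leaf 9637510018)) (BT.leaf 26817356682))) (BT.node 1424 (BT.node 1423 (BT.node 1422 (BT.leaf 31112315892) (BT.leaf 43997217836)) (BT.leaf 22527647820)) (BT.node 1426 (BT.node 1425 (BT.leaf 22528825793) (BT.leaf 5349860233)) (BT.leaf 9644859469)))) (BT.node 1433 (BT.node 1430 (BT.node 1429 (BT.node 1428 (BT.leaf 31119664019) (BT.leaf 44004565929)) (BT.leaf 1058038423)) (BT.node 1432 (BT.node 1431 (BT.leaf 13942932467) (BT.leaf 26827834354)) (BT.leaf 31122809728))) (BT.node 1436 (BT.node 1435 (BT.node 1434 (BT.leaf 39712744337) (BT.leaf 44007701640)) (BT.leaf 1059084181)) (BT.node 1438 (BT.node 1437 (BT.leaf 13944015286) (BT.leaf 26828898064)) (BT.leaf 31123869537))))))) (BT.node 1487 (BT.node 1463 (BT.node 1451 (BT.node 1445 (BT.node 1442 (BT.node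 1441 (BT.node 1440 (BT.leaf 39713803673) (BT.leaf 44008771427)) (BT.leaf 9654459337)) (BT.node 1444 (BT.node 1443 (BT.leaf 18244202180) (BT.leaf 13977546818)) (BT.leaf 9684695902))) (BT.node 1448 (BT.node 1447 (BT.node 1446 (BT.leaf 13985935490) (BT.leaf 5397049398)) (BT.leaf 18290339376)) (BT.node 1450 (BT.node 1449 (BT.leaf 26881464819) (BT.leaf 39766366699)) (BT.leaf 22604217297)))) (BT.node 1457 (BT.node 1454 (BT.node 1453 (BT.node 1452 (BT.leaf 5430603430) (BT.leaf 9725578324)) (BT.leaf 44090564628)) (BT.node 1456 (BT.node 1455 (BT.leaf 39796633742) (BT.leaf 18330327872)) (BT.leaf 39808309512))) (BT.node 1460 (BT.node 1459 (BT.node 1458 (BT.leaf 44107507320) (BT.leaf 39813602182)) (BT.leaf 9768582011)) (BT.node 1462 (BT.node 1461 (BT.leaf 5478837928) (BT.leaf 18378417052)) (BT.leaf 26969403162))))) (BT.node 1475 (BT.node 1469 (BT.node 1466 (BT.node 1465 (BT.node 1464 (BT.leaf 31264383072) (BT.leaf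 39854317486)) (BT.leaf 44149269203)) (BT.node 1468 (BT.node 1467 (BT.leaf 1208130186) (BT.leaf 1210182908)) (BT.leaf 5535457945))) (BT.node 1472 (BT.node 1471 (BT.node 1470 (BT.leaf 9830432504) (BT.leaf 22723731569)) (BT.leaf 27018680163)) (BT.node 1474 (BT.node 1473 (BT.leaf 31313645001) (BT.leaf 44198546856)) (BT.leaf 22724785100)))) (BT.node 1481 (BT.node 1478 (BT.node 1477 (BT.node 1476 (BT.leaf 31314696037) (BT.leaf 44199597921)) (BT.leaf 5545978439)) (BT.node 1480 (BT.node 1479 (BT.leaf 9840908141) (BT.leaf 27020826453)) (BT.leaf 31315782216))) (BT.node 1484 (BT.node 1483 (BT.node 1482 (BT.leaf 39905716837) (BT.leaf 44200688650)) (BT.leaf 31321123311)) (BT.node 1486 (BT.node 1485 (BT.leaf 44208134679) (BT.leaf 14149530706)) (BT.leaf 27034390157)))))) (BT.node 1511 (BT.node 1499 (BT.node 1493 (BT.node 1490 (BT.node 1489 (BT.node 1488 (BT.leaf 39919292081) (BT.leaf 44214257963)) (BT.leaf 14150579270))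 (BT.node 1492 (BT.node 1491 (BT.leaf 27035437100) (BT.leaf 39920339248)) (BT.leaf 5577404507))) (BT.node 1496 (BT.node 1495 (BT.node 1494 (BT.leaf 9872379273) (BT.leaf 31347208279)) (BT.leaf 44232098829)) (BT.node 1498 (BT.node 1497 (BT.leaf 5584753822) (BT.leaf 9879715309)) (BT.leaf 31354560432)))) (BT.node 1505 (BT.node 1502 (BT.node 1501 (BT.node 1500 (BT.leaf 44239446939) (BT.leaf 1292940200)) (BT.leaf 14177821597)) (BT.node 1504 (BT.node 1503 (BT.leaf 27062738950) (BT.leaf 31357693620)) (BT.leaf 39947628632))) (BT.node 1508 (BT.node 1507 (BT.node 1506 (BT.leaf 44242612778) (BT.leaf 1293956252)) (BT.leaf 14178876935)) (BT.node 1510 (BT.node 1509 (BT.leaf 27063766233) (BT.leaf 31358735901)) (BT.leaf 39948670514))))) (BT.node 1523 (BT.node 1517 (BT.node 1514 (BT.node 1513 (BT.node 1512 (BT.leaf 44243637808) (BT.leaf 18479083291)) (BT.leaf 9914318319)) (BT.node 1516 (BT.node 1515 (BT.leaf 5625648312)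 (BT.leaf 5628802460)) (BT.leaf 9923743148))) (BT.node 1520 (BT.node 1519 (BT.node 1518 (BT.leaf 44288745569) (BT.leaf 39994831613)) (BT.leaf 9953115596)) (BT.node 1522 (BT.node 1521 (BT.leaf 5662348456) (BT.leaf 5687517216)) (BT.leaf 9982465910)))) (BT.node 1529 (BT.node 1526 (BT.node 1525 (BT.node 1524 (BT.leaf 44386258349) (BT.leaf 31505546736)) (BT.leaf 44437624684)) (BT.node 1528 (BT.node 1527 (BT.leaf 14373925440) (BT.leaf 44438691820)) (BT.leaf 31560060340))) (BT.node 1532 (BT.node 1531 (BT.node 1530 (BT.leaf 31607278008) (BT.leaf 44496380009)) (BT.leaf 31630331744)) (BT.node 1534 (BT.node 1533 (BT.leaf 14451499652) (BT.leaf 31631371968)) (BT.leaf 44519423483)))))))))))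
  size := 1536

def g8_0 : List ℕ := [4]

def g8_1 : List ℕ := [10]

def g8_2 : List ℕ := [3, 4, 5, 10, 6, 5, 4, 3, 1, 2, 0, 1, 0, 1, 0, 2, 1, 3, 4, 5, 6, 10, 5, 4, 3]

def g8_3 : List ℕ := [11, 10, 5, 6, 4, 5, 10, 11, 5, 10, 6, 7, 5, 6, 3, 4, 5, 10, 8, 7, 6, 5, 4, 3, 1, 2, 0, 1, 0, 1, 0, 2, 1, 3, 4, 5, 6, 7, 8, 10, 5, 4, 3, 6, 5, 7, 6, 10, 5, 7, 6, 3, 4, 5, 10, 8, 7, 6, 5, 4, 3, 1, 2, 0, 1, 0, 1, 0, 2, 1, 3, 4, 5, 6, 7, 8, 10, 5, 4, 3, 6, 7, 11, 10, 5, 4, 6, 5, 8, 2, 10, 11]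

def g8_4 : List ℕ := [11, 10, 3, 4, 5, 6, 2, 3, 4, 5, 10, 11, 5, 6, 7, 4, 5, 6, 3, 4, 5, 10, 8, 7, 6, 5, 4, 3, 1, 2, 0, 1, 0, 1, 0, 2, 1, 3, 4, 5, 6, 7, 8, 10, 5, 4, 3, 6, 5, 4, 7, 6, 5, 11, 10, 5, 4, 3, 2, 6, 5, 4, 3, 5, 6, 4, 5, 10, 11, 7, 6, 3, 4, 5, 10, 8, 7, 6, 5, 4, 3, 1, 2, 0, 1, 0, 1, 0, 2, 1, 3, 4, 5, 6, 7, 8, 10, 5, 4, 3, 6, 7, 11, 10, 5, 4, 6, 5, 6, 0, 10, 11]

def g8_5 : List ℕ := [11, 10, 3, 4, 5, 10, 6, 5, 4, 3, 1, 2, 0, 1, 0, 1, 0, 2, 1, 3, 4, 5, 6, 10, 5, 4, 3, 11, 6, 8, 0, 11, 10, 5, 6, 4, 5, 10, 11, 5, 10, 6, 7, 5, 6, 3, 4, 5, 10, 8, 7, 6, 5, 4, 3, 1, 2, 0, 1, 0, 1, 0, 2, 1, 3, 4, 5, 6, 7, 8, 10, 5, 4, 3, 6, 5, 7, 6, 10, 5, 11, 10, 5, 4, 6, 5, 10, 3, 4, 5, 10, 6, 5, 4, 3, 1, 2, 0, 1, 0, 1, 0, 2, 1, 3, 4, 5, 6, 10, 5, 4, 3, 10, 11]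

def g8_6 : List ℕ := [11, 5, 6, 4, 5, 10, 11, 7, 6, 3, 4, 5, 10, 8, 7, 6, 5, 4, 3, 1, 2, 0, 1, 0, 1, 0, 2, 1, 3, 4, 5, 6, 7, 8, 10, 5, 4, 3, 6, 7, 11, 10, 5, 4, 6, 5, 11, 10, 5, 6, 4, 5, 10, 11, 5, 10, 6, 7, 5, 6, 3, 4, 5, 10, 8, 7, 6, 5, 4, 3, 1, 2, 0, 1, 0, 1, 0, 2, 1, 3, 4, 5, 6, 7, 8, 10, 5, 4, 3, 6, 5, 7, 6, 10, 5, 11, 10, 5, 4, 6, 5, 10, 11, 5, 6, 4, 5, 10, 11, 7, 6, 3, 4, 5, 10, 8, 7, 6, 5, 4, 3, 1, 2, 0, 1, 0, 1, 0, 2, 1, 3, 4, 5, 6, 7, 8, 10, 5, 4, 3, 6, 7, 11, 10, 5, 4, 6, 5, 11]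

/-- level 8: the orbit of the image of 105 under `nP` under the stabiliser of the octad and 105 -/
def tree8 : STree where
  gens := (BT.node 3 (BT.node 1 (BT.node 0 (BT.leaf g8_0) (BT.leaf g8_1)) (BT.node 2 (BT.leaf g8_2) (BT.leaf g8_3))) (BT.node 5 (BT.node 4 (BT.leaf g8_4) (BT.leaf g8_5)) (BT.leaf g8_6)))
  ents := (BT.node 63 (BT.node 31 (BT.node 15 (BT.node 7 (BT.node 3 (BT.node 1 (BT.node 0 (BT.leaf 216918) (BT.leaf 191367)) (BT.node 2 (BT.leaf 4295209767) (BT.leaf 8590214848))) (BT.node 5 (BT.node 4 (BT.leaf 12885185315) (BT.leaf 17179994338)) (BT.node 6 (BT.leaf 21475062677) (BT.leaf 25770092288)))) (BT.node 11 (BT.node 9 (BT.node 8 (BT.leaf 4296232793) (BT.leaf 8591243943)) (BT.node 10 (BT.leaf 12886245545) (BT.leaf 17181060004))) (BT.node 13 (BT.node 12 (BT.leaf 21476085658) (BT.leaf 25771125071)) (BT.node 14 (BT.leaf 8592325180) (BT.leaf 12887287279))))) (BT.node 23 (BT.node 19 (BT.node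 17 (BT.node 16 (BT.leaf 17182113019) (BT.leaf 21477184818)) (BT.node 18 (BT.leaf 25772199105) (BT.leaf 12888265270))) (BT.node 21 (BT.node 20 (BT.leaf 17183092006) (BT.leaf 21478196332)) (BT.node 22 (BT.leaf 25773223723) (BT.leaf 17184170625)))) (BT.node 27 (BT.node 25 (BT.node 24 (BT.leaf 21479321544) (BT.leaf 25774231926)) (BT.node 26 (BT.leaf 21480374677) (BT.leaf 25775116936))) (BT.node 29 (BT.node 28 (BT.leaf 25776340146) (BT.leaf 8598603457)) (BT.node 30 (BT.leaf 12893588497) (BT.leaf 17188409273)))))) (BT.node 47 (BT.node 39 (BT.node 35 (BT.node 33 (BT.node 32 (BT.leaf 21483451330) (BT.leaf 25778480901)) (BT.node 34 (BT.leaf 12894582181) (BT.leaf 17189400533))) (BT.node 37 (BT.node 36 (BT.leaf 21484511145) (BT.leaf 25779493690)) (BT.node 38 (BT.leaf 17190481845) (BT.leaf 21485603878)))) (BT.node 43 (BT.node 41 (BT.node 40 (BT.leaf 25780547747) (BT.leaf 21486654804)) (BT.node 42 (BT.leaf 25781394257)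 (BT.leaf 25782649554))) (BT.node 45 (BT.node 44 (BT.leaf 12899808419) (BT.leaf 17194611424)) (BT.node 46 (BT.leaf 21489743299) (BT.leaf 25784746517))))) (BT.node 55 (BT.node 51 (BT.node 49 (BT.node 48 (BT.leaf 17195724726) (BT.leaf 21490845405)) (BT.node 50 (BT.leaf 25785740652) (BT.leaf 21491897683))) (BT.node 53 (BT.node 52 (BT.leaf 25786637132) (BT.leaf 25787894847)) (BT.node 54 (BT.leaf 17200095050) (BT.leaf 21494945286)))) (BT.node 59 (BT.node 57 (BT.node 56 (BT.leaf 25789988538) (BT.leaf 21496100932)) (BT.node 58 (BT.leaf 25791072878) (BT.leaf 25792042558))) (BT.node 61 (BT.node 60 (BT.leaf 21499214158) (BT.leaf 25794067368)) (BT.node 62 (BT.leaf 25795176912) (BT.leaf 25797364392))))))) (BT.node 95 (BT.node 79 (BT.node 71 (BT.node 67 (BT.node 65 (BT.node 64 (BT.leaf 12915562194) (BT.leaf 17210354963)) (BT.node 66 (BT.leaf 21505494748) (BT.leaf 25800451269))) (BT.node 69 (BT.node 68 (BT.leaf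 17211474664) (BT.leaf 21506557558)) (BT.node 70 (BT.leaf 25801494901) (BT.leaf 21507608930)))) (BT.node 75 (BT.node 73 (BT.node 72 (BT.leaf 25802354007) (BT.leaf 25803639815)) (BT.node 74 (BT.leaf 17215821641) (BT.leaf 21510651199))) (BT.node 77 (BT.node 76 (BT.leaf 25805736421) (BT.leaf 21511816137)) (BT.node 78 (BT.leaf 25806795763) (BT.leaf 25807745737))))) (BT.node 87 (BT.node 83 (BT.node 81 (BT.node 80 (BT.leaf 21514962328) (BT.leaf 25809774469)) (BT.node 82 (BT.leaf 25810931175) (BT.leaf 25813082900))) (BT.node 85 (BT.node 84 (BT.leaf 17226304730) (BT.leaf 21521184879)) (BT.node 86 (BT.leaf 25816179502) (BT.leaf 21522301894)))) (BT.node 91 (BT.node 89 (BT.node 88 (BT.leaf 25817283501) (BT.leaf 25818231493)) (BT.node 90 (BT.leaf 21525448079) (BT.leaf 25820296841))) (BT.node 93 (BT.node 92 (BT.leaf 25821366477) (BT.leaf 25823568675)) (BT.node 94 (BT.leaf 21531715735) (BT.leaf 25826521280))))))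 (BT.node 111 (BT.node 103 (BT.node 99 (BT.node 97 (BT.node 96 (BT.leaf 25827708958) (BT.leaf 25829871540)) (BT.node 98 (BT.leaf 25832955515) (BT.leaf 17247281445))) (BT.node 101 (BT.node 100 (BT.leaf 21542132434) (BT.leaf 25837175006)) (BT.node 102 (BT.leaf 21543253774) (BT.leaf 25838259829)))) (BT.node 107 (BT.node 105 (BT.node 104 (BT.leaf 25839178609) (BT.leaf 21546432881)) (BT.node 106 (BT.leaf 25841253245) (BT.leaf 25842362834))) (BT.node 109 (BT.node 108 (BT.leaf 25844523908) (BT.leaf 21552707864)) (BT.node 110 (BT.leaf 25847475679) (BT.leaf 25848704039))))) (BT.node 119 (BT.node 115 (BT.node 113 (BT.node 112 (BT.leaf 25850833975) (BT.leaf 25853951043)) (BT.node 114 (BT.leaf 21563193618) (BT.leaf 25857997400))) (BT.node 117 (BT.node 116 (BT.leaf 25859190711) (BT.leaf 25861324223)) (BT.node 118 (BT.leaf 25864436907) (BT.leaf 25868639484)))) (BT.node 123 (BT.node 121 (BT.node 120 (BT.leaf 21578936560)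 (BT.leaf 25873707220)) (BT.node 122 (BT.leaf 25874900443) (BT.leaf 25877040335))) (BT.node 125 (BT.node 124 (BT.leaf 25880184852) (BT.leaf 25884384929)) (BT.node 126 (BT.leaf 25889605029) (BT.leaf 25895915060))))))))
  size := 128

end Cfsg.Agent.Lib.Helper15.F24OData
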