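import Cfsg.Agent.Lib.Helper15.F24OCent
set_option autoImplicit false
set_option maxRecDepth 100000

/-!
# S2081: walking along lists of paths, and the paths of the elements of Fi₂₄ used for `Out(Fi₂₄') = 2`

`y` (order 17), `n` (order 16, `n y n⁻¹ = y ^ 12`), `t = l a`, and for every generator `x` other than `l`, `k`, `a`
a word `h_x` in `y`, `n`, `t` with `l x = h_x t h_x⁻¹`.
-/

namespace Cfsg.Agent.Lib.Helper15.F24OWalk
open Cfsg.Agent.Lib.Helper28.TC2Upper Cfsg.Agent.Lib.Helper28.TC2Lower
open Cfsg.Agent.Lib.Helper15.F24OTree Cfsg.Agent.Lib.Helper15.F24OData Cfsg.Agent.Lib.Helper15.F24OCentDefs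
open Cfsg.Agent.Lib.Helper15.F24OCent

/-- walk along the paths of a list, one after the other -/
noncomputable def walkL (T : Table) (ws : List (List ℕ)) : ℕ → ℕ :=
  @List.rec (List ℕ) (fun _ => ℕ → ℕ) (fun p => p) (fun w _ ih p => force (T.walkT w p) ih) ws

theorem walkL_nil (T : Table) (p : ℕ) : walkL T [] p = p := rfl
theorem walkL_cons (T : Table) (w : List ℕ) (ws : List (List ℕ)) (p : ℕ) :
    walkL T (w :: ws) p = walkL T ws (T.walkT w p) := force_eq _ _

theorem walkT_append (T : Table) (u v : List ℕ) (p : ℕ) : T.walkT (u ++ v) p = T.walkT v (T.walkT u p) := by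
  induction u generalizing p with
  | nil => rfl
  | cons a u ih => rw [List.cons_append, Table.walkT_cons, Table.walkT_cons, ih]

theorem walkL_eq (T : Table) (ws : List (List ℕ)) (p : ℕ) : walkL T ws p = T.walkT ws.flatten p := by
  induction ws generalizing p with
  | nil => rfl
  | cons w ws ih => rw [walkL_cons, List.flatten_cons, walkT_append, ih]

/-- `m` copies of a path, as a list of paths -/
noncomputable def repL (m : ℕ) (w : List ℕ) : List (List ℕ) :=
  @Nat.rec (fun _ => List (List ℕ)) [] (fun _ ih => w :: ih) m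

theorem repL_zero (w : List ℕ) : repL 0 w = [] := rfl
theorem repL_succ (m : ℕ) (w : List ℕ) : repL (m + 1) w = w :: repL m w := rfl

theorem flatten_repL (m : ℕ) (w : List ℕ) : (repL m w).flatten = rep m w := by
  induction m with
  | zero => rfl
  | succ m ih => rw [repL_succ, List.flatten_cons, ih, rep_succ]

/-- two lists of paths agree on the points of a list -/
noncomputable def eqChk (T : Table) (bs : List ℕ) (u v : List (List ℕ)) : Bool :=
  allL (fun b => Nat.beq (walkL T u b) (walkL T v b)) bs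

theorem eqChk_iff (T : Table) (bs : List ℕ) (u v : List (List ℕ)) :
    eqChk T bs u v = true ↔ ∀ b ∈ bs, T.walkT u.flatten b = T.walkT v.flatten b := by
  unfold eqChk
  rw [allL_iff]
  constructor
  · intro h b hb
    have := h b hb
    rwa [Data.nbeq_iff, walkL_eq, walkL_eq] at this
  · intro h b hb
    rw [Data.nbeq_iff, walkL_eq, walkL_eq]
    exact h b hb

/-- two lists of paths differ on a point -/
noncomputable def neChk (T : Table) (p : ℕ) (u v : List (List ℕ)) : Bool :=
  cond (Nat.beq (walkL T u p) (walkL T v p)) false true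

theorem neChk_iff (T : Table) (p : ℕ) (u v : List (List ℕ)) :
    neChk T p u v = true ↔ T.walkT u.flatten p ≠ T.walkT v.flatten p := by
  unfold neChk
  rw [walkL_eq, walkL_eq]
  cases hb : Nat.beq (T.walkT u.flatten p) (T.walkT v.flatten p) with
  | true =>
    rw [cond_true]
    have := (Data.nbeq_iff _ _).mp hb
    simp [this]
  | false =>
    rw [cond_false]
    refine ⟨fun _ e => ?_, fun _ => rfl⟩
    rw [(Data.nbeq_iff _ _).mpr e] at hb
    exact absurd hb (by simp)

/-- the base of helper28's chain of stabilisers -/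
def base : List ℕ := [45, 21, 5, 11, 1, 116, 510, 113, 24, 6, 0]

/-- the path of `y⁻¹` -/
def yPr : List ℕ := yP.reverse
/-- the path of `n⁻¹` -/
def nPr : List ℕ := nP.reverse
/-- the path of `t = l a` -/
def tP : List ℕ := [0, 2]

/-- `h_b` -/
def hb : List (List ℕ) := [yPr, tP, nP, yP, tP, nP, yP, tP, yP, tP, nPr, yP, tP, nPr, nPr]
/-- `h_c` -/
def hc : List (List ℕ) := [yP, tP, nP, yP, tP, nPr, nPr, nPr, yPr, tP, nPr, yP, tP, yP]
/-- `h_d` -/
def hd : List (List ℕ) := [yP, tP, nPr, yPr, tP, nP, yP, tP, yP, yP]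
/-- `h_e` -/
def he : List (List ℕ) := [yP, tP, nP, yP, tP, nPr, nPr, nPr, yPr, tP, nPr, yP, tP, yP, nP]
/-- `h_f` -/
def hf : List (List ℕ) := [yPr, tP, nPr, yP, tP, nPr, yP, tP, nPr, nPr, nPr, yPr]
/-- `h_g` -/
def hg : List (List ℕ) := [yPr, tP, nP, yPr, tP, nP, nP, nP, yP, tP, yPr, tP, nPr, nPr, yPr]
/-- `h_j` -/
def hj : List (List ℕ) := [yPr, tP, nP, yP, tP, yPr, tP, yPr, tP, nP, yPr, tP, yP]
/-- `h_h` -/
def hh : List (List ℕ) := [yP, tP, nPr, nPr, yPr, tP, yPr, tP, yPr, tP, yP, nP, yPr]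
/-- `h_i` -/
def hi : List (List ℕ) := [yP, tP, nPr, nPr, nPr, yPr, tP, nPr, yP, tP, nP, nP, yPr, tP, nPr, yP]

end Cfsg.Agent.Lib.Helper15.F24OWalk
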