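import Cfsg.Agent.Lib.Helper28.TCFi24Link
import Cfsg.Agent.Lib.Helper28.TC2Simple
import Cfsg.Agent.S1691
import Cfsg.Agent.Lib.Helper15.F24OWalk
set_option autoImplicit false
set_option maxRecDepth 100000

/-!
# S2081: the elements of the presented Fi₂₄ given by paths in the letters of the coset table
-/

namespace Cfsg.Agent.Lib.Helper15.F24OEl
open Cfsg.Agent.Lib.Helper28.TC2Upper Cfsg.Agent.Lib.Helper28.TC2Lower Cfsg.Agent.Lib.Helper28.TC2Glue
open Cfsg.Agent.Lib.Helper28.TC2Simple
open Cfsg.Agent.Lib.Helper28.TCFi24Link Cfsg.Agent.Lib.Helper28.TCFi24Table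
open Cfsg.Agent.Lib.Helper15.F24OCent Cfsg.Agent.Lib.Helper15.F24OWalk

/-- the presented Fi₂₄ -/
abbrev K : Type := PresentedGroup rels

/-- the word of a path -/
def wordOf (p : List ℕ) : List (Cfsg.Spor.Fi24.Gen × Bool) := (p.map dec).reverse

/-- the element of a path: the first letter of the path is the rightmost factor -/
noncomputable def el (p : List ℕ) : K := PresentedGroup.mk rels (FreeGroup.mk (wordOf p))

theorem lw_dec (l : ℕ) (hl : l < 12) : lw (dec l) = l := link.d1 l hl

theorem pathOf_wordOf (p : List ℕ) (hp : ∀ l ∈ p, l < 12) : pathOf lw (wordOf p) = p := by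
  unfold pathOf wordOf
  rw [List.map_reverse, List.reverse_reverse, List.map_map]
  conv_rhs => rw [← List.map_id p]
  apply List.map_congr_left
  intro l hl
  exact lw_dec l (hp l hl)

theorem el_nil : el [] = 1 := rfl

theorem el_append (u v : List ℕ) : el (u ++ v) = el v * el u := by
  unfold el wordOf
  rw [List.map_append, List.reverse_append, ← FreeGroup.mul_mk, map_mul]

theorem el_rep (m : ℕ) (w : List ℕ) : el (rep m w) = el w ^ m := by
  induction m with
  | zero => rw [rep_zero, pow_zero]; rfl
  | succ m ih => rw [rep_succ, el_append, ih, pow_succ]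

theorem el_flatten_mem (S : Subgroup K) (ws : List (List ℕ)) (h : ∀ w ∈ ws, el w ∈ S) : el ws.flatten ∈ S := by
  induction ws with
  | nil => exact S.one_mem
  | cons w ws ih =>
    rw [List.flatten_cons, el_append]
    exact S.mul_mem (ih (fun w' hw' => h w' (List.mem_cons_of_mem _ hw'))) (h w List.mem_cons_self)

theorem dec_true (l : ℕ) : ∃ x, dec l = (x, true) := by
  unfold dec
  split <;> exact ⟨_, rfl⟩

theorem el_singleton (l : ℕ) : ∃ x, el [l] = PresentedGroup.of x := by
  obtain ⟨x, hx⟩ := dec_true l
  refine ⟨x, ?_⟩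
  unfold el wordOf
  rw [List.map_cons, List.map_nil, List.reverse_singleton, hx]
  rfl

theorem el_singleton_sq (l : ℕ) : el [l] * el [l] = 1 := by
  obtain ⟨x, hx⟩ := el_singleton l
  rw [hx]
  exact Cfsg.Agent.S1691.gen_sq x

theorem el_singleton_inv (l : ℕ) : (el [l])⁻¹ = el [l] :=
  inv_eq_of_mul_eq_one_left (el_singleton_sq l)

theorem el_reverse (p : List ℕ) : el p.reverse = (el p)⁻¹ := by
  induction p with
  | nil => rw [List.reverse_nil, el_nil, inv_one]
  | cons l p ih =>
    rw [List.reverse_cons, el_append, ih]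
    have e : l :: p = [l] ++ p := rfl
    rw [e, el_append, mul_inv_rev, el_singleton_inv]

theorem sign_el (p : List ℕ) :
    Cfsg.Agent.S1691.signHom (el p) = Multiplicative.ofAdd ((p.length : ℕ) : ZMod 2) := by
  induction p with
  | nil => rw [el_nil, map_one]; rfl
  | cons l p ih =>
    have e : l :: p = [l] ++ p := rfl
    rw [e, el_append, map_mul, ih]
    obtain ⟨x, hx⟩ := el_singleton l
    rw [hx, Cfsg.Agent.S1691.signHom_of, ← ofAdd_add]
    congr 1
    rw [List.length_append, List.length_singleton]
    push_cast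
    ring

/-- the commutator subgroup is the kernel of the sign -/
theorem commutator_eq_ker : commutator K = Cfsg.Agent.S1691.signHom.ker := by
  have hker : commutator K ≤ Cfsg.Agent.S1691.signHom.ker :=
    Abelianization.commutator_subset_ker Cfsg.Agent.S1691.signHom
  have hkeridx : Cfsg.Agent.S1691.signHom.ker.index = 2 := by
    rw [Subgroup.index_ker, MonoidHom.range_eq_top.mpr Cfsg.Agent.S1691.signHom_surjective, Subgroup.card_top]
    simp
  have hidx : (commutator K).index = 2 := Cfsg.Agent.S1691.result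
  apply le_antisymm hker
  have h := Subgroup.relIndex_mul_index hker
  rw [hkeridx, hidx] at h
  have h1 : (commutator K).relIndex Cfsg.Agent.S1691.signHom.ker = 1 := by omega
  exact Subgroup.relIndex_eq_one.mp h1

theorem mem_commutator_iff (g : K) : g ∈ commutator K ↔ Cfsg.Agent.S1691.signHom g = 1 := by
  rw [commutator_eq_ker, MonoidHom.mem_ker]

theorem el_mem_commutator (p : List ℕ) (h : p.length % 2 = 0) : el p ∈ commutator K := by
  rw [mem_commutator_iff, sign_el]
  have : ((p.length : ℕ) : ZMod 2) = 0 := by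
    rw [ZMod.natCast_eq_zero_iff]
    exact Nat.dvd_of_mod_eq_zero h
  rw [this]
  rfl

theorem el_not_mem_commutator (p : List ℕ) (h : p.length % 2 = 1) : el p ∉ commutator K := by
  rw [mem_commutator_iff, sign_el]
  have : ((p.length : ℕ) : ZMod 2) = 1 := by
    have h2 : ((p.length : ℕ) : ZMod 2) = ((p.length % 2 : ℕ) : ZMod 2) := by
      rw [ZMod.natCast_mod]
    rw [h2, h]
    rfl
  rw [this]
  decide

/-- the permutation of the element of a path -/
theorem phi_el (φ : K →* Equiv.Perm (Fin table.n)) (hT : table.OK)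
    (hφ : ∀ x, φ (PresentedGroup.of x) = Table.sigma hT (lw (x, true))) (p : List ℕ) (hp : ∀ l ∈ p, l < 12) :
    φ (el p) = pathProd (Table.sigma hT) p := by
  unfold el
  rw [phi_mk link hT φ hφ, pathOf_wordOf p hp]

end Cfsg.Agent.Lib.Helper15.F24OEl
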