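import Mathlib
set_option autoImplicit false

/-!
# S2081: the arithmetic of the first five levels of the chain of stabilisers
-/

namespace Cfsg.Agent.Lib.Helper15.F24OFin0

theorem hlow_of (x0 x1 x2 x3 x4 x5 : ℕ) (h0 : 306936 * x1 ≤ x0) (h1 : 31671 * x2 ≤ x1) (h2 : 3510 * x3 ≤ x2)
    (h3 : 693 * x4 ≤ x3) (h4 : 180 * x5 ≤ x4) : 306936 * 31671 * 3510 * 693 * 180 * x5 ≤ x0 := by
  omega

end Cfsg.Agent.Lib.Helper15.F24OFin0
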