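import Cfsg.Agent.Lib.Helper28.TC2BsgsW
set_option autoImplicit false

/-!
# Small Schreier trees over a coset table

A small orbit of a subgroup of a point stabiliser is certified by a list of entries
`point + 2^20 * (parent index + 2^12 * generator index)`; the generators are paths in the letters of the coset
table fixing the earlier base points.  The transversal elements and their inverses are evaluated by walking in the
table (`dn`, `up`); with the exact order of the group the certified orbit is the whole orbit of the stabiliser.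
-/

namespace Cfsg.Agent.Lib.Helper15.F24OTree
open Cfsg.Agent.Lib.Helper28.TC2Upper Cfsg.Agent.Lib.Helper28.TC2Lower Cfsg.Agent.Lib.Helper28.TC2Orbit
open Cfsg.Agent.Lib.Helper28.TC2Range Cfsg.Agent.Lib.Helper28.TC2Bsgs Cfsg.Agent.Lib.Helper28.TC2BsgsW
open Cfsg.Agent.Lib.Helper28.StabLib

/-- a small Schreier tree -/
structure STree where
  /-- generator paths by index -/
  gens : BT (List ℕ)
  /-- entries by index: `point + 2^20 * (parent + 2^12 * generator)` -/
  ents : BT ℕ
  /-- number of entries -/
  size : ℕ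

namespace STree
variable (S : STree)

/-- the point of an entry -/
noncomputable def pt (i : ℕ) : ℕ := Nat.mod (S.ents.look i) 1048576
/-- the parent of an entry -/
noncomputable def par (i : ℕ) : ℕ := Nat.mod (Nat.div (S.ents.look i) 1048576) 4096
/-- the generator of an entry -/
noncomputable def gn (i : ℕ) : ℕ := Nat.div (S.ents.look i) 4294967296

/-- the transversal element of the entry `i`, applied to a point -/
noncomputable def dn (T : Table) (fuel : ℕ) : ℕ → ℕ → ℕ :=
  @Nat.rec (fun _ => ℕ → ℕ → ℕ) (fun _ x => x)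
    (fun _ ih i x => cond (Nat.beq i 0) x (T.walkT (S.gens.look (S.gn i)) (ih (S.par i) x))) fuel

/-- the inverse of the transversal element of the entry `i`, applied to a point -/
noncomputable def up (T : Table) (fuel : ℕ) : ℕ → ℕ → ℕ :=
  @Nat.rec (fun _ => ℕ → ℕ → ℕ) (fun _ x => x)
    (fun _ ih i x => cond (Nat.beq i 0) x (ih (S.par i) (T.walkT (S.gens.look (S.gn i)).reverse x))) fuel

theorem dn_zero (T : Table) (i x : ℕ) : S.dn T 0 i x = x := rfl
theorem dn_succ (T : Table) (f i x : ℕ) : S.dn T (f + 1) i x =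
    cond (Nat.beq i 0) x (T.walkT (S.gens.look (S.gn i)) (S.dn T f (S.par i) x)) := rfl
theorem up_zero (T : Table) (i x : ℕ) : S.up T 0 i x = x := rfl
theorem up_succ (T : Table) (f i x : ℕ) : S.up T (f + 1) i x =
    cond (Nat.beq i 0) x (S.up T f (S.par i) (T.walkT (S.gens.look (S.gn i)).reverse x)) := rfl

/-- the entries other than the root: the parent comes earlier and the generator leads from it to the point -/
noncomputable def treeOK (T : Table) : Bool :=
  allLoop (fun j => and (Nat.ble (Nat.succ (S.par (Nat.succ j))) (Nat.succ j))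
    (Nat.beq (T.walkT (S.gens.look (S.gn (Nat.succ j))) (S.pt (S.par (Nat.succ j)))) (S.pt (Nat.succ j))))
    (Nat.pred S.size)

theorem treeOK_iff (T : Table) : S.treeOK T = true ↔ ∀ i, 0 < i → i < S.size →
    S.par i < i ∧ T.walkT (S.gens.look (S.gn i)) (S.pt (S.par i)) = S.pt i := by
  unfold treeOK
  rw [allLoop_eq_true]
  constructor
  · intro h i h0 hi
    obtain ⟨j, rfl⟩ : ∃ j, i = j + 1 := ⟨i - 1, by omega⟩
    have := h j (by simp only [Nat.pred_eq_sub_one]; omega)
    rw [Bool.and_eq_true, Nat.ble_eq, Data.nbeq_iff] at this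
    exact ⟨by have := this.1; simp only [Nat.succ_eq_add_one] at this ⊢; omega, this.2⟩
  · intro h j hj
    have := h (j + 1) (by omega) (by simp only [Nat.pred_eq_sub_one] at hj; omega)
    rw [Bool.and_eq_true, Nat.ble_eq, Data.nbeq_iff]
    exact ⟨by have := this.1; simp only [Nat.succ_eq_add_one]; omega, this.2⟩

/-- the points of the entries are pairwise different -/
noncomputable def nodupOK : Bool :=
  allLoop (fun i => allLoop (fun j => cond (Nat.beq (S.pt i) (S.pt j)) false true) i) S.size

theorem nodupOK_iff : S.nodupOK = true ↔ ∀ i, i < S.size → ∀ j, j < i → S.pt i ≠ S.pt j := by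
  unfold nodupOK
  rw [allLoop_eq_true]
  constructor
  · intro h i hi j hj
    have := h i hi
    rw [allLoop_eq_true] at this
    have := this j hj
    intro e
    rw [(Data.nbeq_iff _ _).mpr e] at this
    exact absurd this (by simp)
  · intro h i hi
    rw [allLoop_eq_true]
    intro j hj
    cases hb : Nat.beq (S.pt i) (S.pt j) with
    | true => exact absurd ((Data.nbeq_iff _ _).mp hb) (h i hi j hj)
    | false => rfl

/-- position of a point among the first `m` entries (`size` when it does not occur) -/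
noncomputable def findAux (s : ℕ) (m : ℕ) : ℕ :=
  @Nat.rec (fun _ => ℕ) S.size (fun j ih => cond (Nat.beq (S.pt j) s) j ih) m

theorem findAux_zero (s : ℕ) : S.findAux s 0 = S.size := rfl
theorem findAux_succ (s m : ℕ) : S.findAux s (m + 1) = cond (Nat.beq (S.pt m) s) m (S.findAux s m) := rfl

/-- position of a point among the entries (`size` when it does not occur) -/
noncomputable def find (s : ℕ) : ℕ := S.findAux s S.size

theorem findAux_spec (s : ℕ) (m : ℕ) :
    (S.findAux s m = S.size ∧ ∀ j, j < m → S.pt j ≠ s) ∨ (S.findAux s m < m ∧ S.pt (S.findAux s m) = s) := by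
  induction m with
  | zero => exact Or.inl ⟨rfl, fun j hj => absurd hj (by omega)⟩
  | succ m ih =>
    rw [findAux_succ]
    cases hb : Nat.beq (S.pt m) s with
    | true =>
      right
      rw [cond_true]
      exact ⟨by omega, (Data.nbeq_iff _ _).mp hb⟩
    | false =>
      rw [cond_false]
      have hne : S.pt m ≠ s := by
        intro e
        rw [(Data.nbeq_iff _ _).mpr e] at hb
        exact absurd hb (by simp)
      rcases ih with ⟨h1, h2⟩ | ⟨h1, h2⟩
      · left
        refine ⟨h1, fun j hj => ?_⟩
        rcases Nat.lt_succ_iff_lt_or_eq.mp hj with h | h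
        · exact h2 j h
        · rw [h]; exact hne
      · right
        exact ⟨by omega, h2⟩

theorem find_spec (s : ℕ) :
    (S.find s = S.size ∧ ∀ j, j < S.size → S.pt j ≠ s) ∨ (S.find s < S.size ∧ S.pt (S.find s) = s) :=
  S.findAux_spec s S.size

end STree

section Sound
variable {T : Table} (hT : T.OK) (S : STree)
variable (Γ : Subgroup (Equiv.Perm (Fin T.n))) (bs : List (Fin T.n))

/-- the generators are paths in the letters fixing the earlier base points -/
def GensOK : Prop :=
  BT.All (fun w => (∀ l ∈ w, l < T.k) ∧ ∀ q ∈ bs, T.walkT w q.val = q.val) S.gens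

variable {S Γ bs}
include hT

theorem walkT_lt (w : List ℕ) (hw : ∀ l ∈ w, l < T.k) (p : ℕ) (hp : p < T.n) : T.walkT w p < T.n := by
  induction w generalizing p with
  | nil => exact hp
  | cons l ls ih =>
    rw [Table.walkT_cons]
    exact ih (fun l' hl' => hw l' (List.mem_cons_of_mem _ hl')) _ (hT.perm p hp l (hw l List.mem_cons_self)).1

theorem pathProd_mem_pstab (hΓ : ∀ l, l < T.k → Table.sigma hT l ∈ Γ) (w : List ℕ)
    (hw : (∀ l ∈ w, l < T.k) ∧ ∀ q ∈ bs, T.walkT w q.val = q.val) :
    pathProd (Table.sigma hT) w ∈ pstab Γ bs := by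
  rw [mem_pstab]
  refine ⟨pathProd_mem Γ _ w (fun l hl => hΓ l (hw.1 l hl)), fun q hq => ?_⟩
  apply Fin.ext
  rw [Table.pathProd_sigma_apply hT w hw.1]
  exact hw.2 q hq

/-- walking back along a path of involutive letters -/
theorem walkT_reverse (hinv : ∀ l, l < T.k → T.invl l = l) (w : List ℕ) (hw : ∀ l ∈ w, l < T.k)
    (p : ℕ) (hp : p < T.n) : T.walkT w.reverse (T.walkT w p) = p := by
  induction w generalizing p with
  | nil => rfl
  | cons l ls ih =>
    have hl : l < T.k := hw l List.mem_cons_self
    have hls : ∀ l' ∈ ls, l' < T.k := fun l' hl' => hw l' (List.mem_cons_of_mem _ hl')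
    rw [Table.walkT_cons, List.reverse_cons]
    have happ : ∀ (u v : List ℕ) (q : ℕ), T.walkT (u ++ v) q = T.walkT v (T.walkT u q) := by
      intro u v q
      induction u generalizing q with
      | nil => rfl
      | cons a u ihu => rw [List.cons_append, Table.walkT_cons, Table.walkT_cons, ihu]
    rw [happ, ih hls _ (hT.perm p hp l hl).1, Table.walkT_cons, Table.walkT_nil]
    have := (hT.perm p hp l hl).2
    rwa [hinv l hl] at this

/-- the inverse of the permutation of a path of involutive letters is the permutation of the reversed path -/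
theorem pathProd_inv_apply (hinv : ∀ l, l < T.k → T.invl l = l) (w : List ℕ) (hw : ∀ l ∈ w, l < T.k)
    (x : Fin T.n) : ((pathProd (Table.sigma hT) w)⁻¹ x).val = T.walkT w.reverse x.val := by
  have hrev : ∀ l ∈ w.reverse, l < T.k := fun l hl => hw l (List.mem_reverse.mp hl)
  have e : (pathProd (Table.sigma hT) w)⁻¹ x = pathProd (Table.sigma hT) w.reverse x := by
    rw [Equiv.Perm.inv_eq_iff_eq]
    apply Fin.ext
    rw [Table.pathProd_sigma_apply hT w hw, Table.pathProd_sigma_apply hT _ hrev]
    have := walkT_reverse hT hinv w.reverse hrev x.val x.2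
    rw [List.reverse_reverse] at this
    exact this.symm
  rw [e, Table.pathProd_sigma_apply hT _ hrev]

/-- the transversal elements -/
theorem exists_perm (hinv : ∀ l, l < T.k → T.invl l = l) (hΓ : ∀ l, l < T.k → Table.sigma hT l ∈ Γ)
    (hg : GensOK S bs) (ht : S.treeOK T = true) :
    ∀ i, i < S.size → ∀ f, i ≤ f → ∃ π ∈ pstab Γ bs, (∀ x : Fin T.n, (π x).val = S.dn T f i x.val) ∧
      (∀ x : Fin T.n, (π⁻¹ x).val = S.up T f i x.val) := by
  rw [STree.treeOK_iff] at ht
  intro i
  induction i using Nat.strong_induction_on with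
  | _ i ih =>
    intro hi f hf
    rcases Nat.eq_zero_or_pos i with h0 | h0
    · subst h0
      refine ⟨1, Subgroup.one_mem _, fun x => ?_, fun x => ?_⟩
      · cases f with
        | zero => rfl
        | succ f => rw [STree.dn_succ]; rfl
      · cases f with
        | zero => rfl
        | succ f => rw [STree.up_succ]; rfl
    · obtain ⟨f, rfl⟩ : ∃ f', f = f' + 1 := ⟨f - 1, by omega⟩
      obtain ⟨hpar, _⟩ := ht i h0 hi
      obtain ⟨π, hπ, h1, h2⟩ := ih (S.par i) hpar (by omega) f (by omega)
      have hw := BT.look_of_all S.gens hg (S.gn i)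
      have hne : Nat.beq i 0 = false := by
        cases hb : Nat.beq i 0 with
        | true => exact absurd ((Data.nbeq_iff _ _).mp hb) (by omega)
        | false => rfl
      refine ⟨pathProd (Table.sigma hT) (S.gens.look (S.gn i)) * π,
        Subgroup.mul_mem _ (pathProd_mem_pstab hT hΓ _ hw) hπ, fun x => ?_, fun x => ?_⟩
      · rw [STree.dn_succ, hne, cond_false, Equiv.Perm.mul_apply,
          Table.pathProd_sigma_apply hT _ hw.1, h1]
      · rw [STree.up_succ, hne, cond_false, mul_inv_rev, Equiv.Perm.mul_apply, h2,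
          pathProd_inv_apply hT hinv _ hw.1]

omit hT in
/-- the transversal element of an entry maps the root to the point of the entry -/
theorem dn_root (ht : S.treeOK T = true) : ∀ i, i < S.size → ∀ f, i ≤ f → S.dn T f i (S.pt 0) = S.pt i := by
  rw [STree.treeOK_iff] at ht
  intro i
  induction i using Nat.strong_induction_on with
  | _ i ih =>
    intro hi f hf
    rcases Nat.eq_zero_or_pos i with h0 | h0
    · subst h0
      cases f with
      | zero => rfl
      | succ f => rw [STree.dn_succ]; rfl
    · obtain ⟨f, rfl⟩ : ∃ f', f = f' + 1 := ⟨f - 1, by omega⟩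
      obtain ⟨hpar, hstep⟩ := ht i h0 hi
      have hne : Nat.beq i 0 = false := by
        cases hb : Nat.beq i 0 with
        | true => exact absurd ((Data.nbeq_iff _ _).mp hb) (by omega)
        | false => rfl
      rw [STree.dn_succ, hne, cond_false, ih (S.par i) hpar (by omega) f (by omega), hstep]

/-- the transversal element of an entry, with its action on the root -/
theorem exists_perm_root (hinv : ∀ l, l < T.k → T.invl l = l) (hΓ : ∀ l, l < T.k → Table.sigma hT l ∈ Γ)
    (hg : GensOK S bs) (ht : S.treeOK T = true) (hroot : S.pt 0 < T.n) (i : ℕ) (hi : i < S.size) :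
    ∃ π ∈ pstab Γ bs, (∀ x : Fin T.n, (π x).val = S.dn T S.size i x.val) ∧
      (∀ x : Fin T.n, (π⁻¹ x).val = S.up T S.size i x.val) ∧ (π ⟨S.pt 0, hroot⟩).val = S.pt i := by
  obtain ⟨π, hπ, h1, h2⟩ := exists_perm hT hinv hΓ hg ht i hi S.size (le_of_lt hi)
  refine ⟨π, hπ, h1, h2, ?_⟩
  rw [h1]
  exact dn_root ht i hi S.size (le_of_lt hi)

/-- the set of the points of the entries -/
def ptsSet (S : STree) (n : ℕ) : Set (Fin n) := {q | ∃ i, i < S.size ∧ q.val = S.pt i}

omit hT in
theorem ncard_ptsSet (hnd : S.nodupOK = true) (hlt : ∀ i, i < S.size → S.pt i < T.n) :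
    (ptsSet S T.n).ncard = S.size := by
  rw [STree.nodupOK_iff] at hnd
  let g : Fin S.size → Fin T.n := fun i => ⟨S.pt i.val, hlt i.val i.2⟩
  have hginj : Function.Injective g := by
    intro i j hij
    have e : S.pt i.val = S.pt j.val := congrArg Fin.val hij
    apply Fin.ext
    rcases Nat.lt_trichotomy i.val j.val with h | h | h
    · exact absurd e.symm (hnd j.val j.2 i.val h)
    · exact h
    · exact absurd e (hnd i.val i.2 j.val h)
  have hrange : ptsSet S T.n = Set.range g := by
    ext q
    constructor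
    · rintro ⟨i, hi, hq⟩
      exact ⟨⟨i, hi⟩, Fin.ext hq.symm⟩
    · rintro ⟨i, rfl⟩
      exact ⟨i.val, i.2, rfl⟩
  rw [hrange, Set.ncard_eq_toFinset_card', Set.toFinset_range, Finset.card_image_of_injective _ hginj]
  simp

/-- one level of a chain of stabilisers, certified by a small tree -/
theorem level_le (hinv : ∀ l, l < T.k → T.invl l = l) (hΓ : ∀ l, l < T.k → Table.sigma hT l ∈ Γ)
    (hg : GensOK S bs) (ht : S.treeOK T = true) (hnd : S.nodupOK = true) (hroot : S.pt 0 < T.n) :
    S.size * Nat.card (pstab Γ ((⟨S.pt 0, hroot⟩ : Fin T.n) :: bs)) ≤ Nat.card (pstab Γ bs) := by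
  have hlt : ∀ i, i < S.size → S.pt i < T.n := by
    intro i hi
    obtain ⟨π, -, -, -, h⟩ := exists_perm_root hT hinv hΓ hg ht hroot i hi
    rw [← h]
    exact (π _).2
  rw [← ncard_ptsSet hnd hlt]
  apply step_le Γ bs _ (pstab Γ bs) le_rfl
  rintro q ⟨i, hi, hq⟩
  obtain ⟨π, hπ, -, -, h⟩ := exists_perm_root hT hinv hΓ hg ht hroot i hi
  exact ⟨π, hπ, Fin.ext (by rw [h, hq])⟩

/-- with the exact index, the certified orbit is the orbit of the stabiliser -/
theorem exact_orbit (hinv : ∀ l, l < T.k → T.invl l = l) (hΓ : ∀ l, l < T.k → Table.sigma hT l ∈ Γ)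
    (hg : GensOK S bs) (ht : S.treeOK T = true) (hnd : S.nodupOK = true) (hroot : S.pt 0 < T.n)
    (hcard : Nat.card (pstab Γ bs) = S.size * Nat.card (pstab Γ ((⟨S.pt 0, hroot⟩ : Fin T.n) :: bs)))
    (c : Equiv.Perm (Fin T.n)) (hc : c ∈ pstab Γ bs) :
    ∃ i, i < S.size ∧ (c ⟨S.pt 0, hroot⟩).val = S.pt i := by
  have hlt : ∀ i, i < S.size → S.pt i < T.n := by
    intro i hi
    obtain ⟨π, -, -, -, h⟩ := exists_perm_root hT hinv hΓ hg ht hroot i hi
    rw [← h]
    exact (π _).2
  set b : Fin T.n := ⟨S.pt 0, hroot⟩ with hb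
  have horb := card_orbit_mul_card_inf (pstab Γ bs) b
  have hst : pstab Γ (b :: bs) = pstab Γ bs ⊓ MulAction.stabilizer (Equiv.Perm (Fin T.n)) b := rfl
  rw [← hst] at horb
  have hpos : 0 < Nat.card (pstab Γ (b :: bs)) := Nat.card_pos
  have hO : Nat.card (MulAction.orbit (pstab Γ bs) b) = S.size := by
    rw [hcard] at horb
    exact Nat.eq_of_mul_eq_mul_right hpos horb
  have hsub : ptsSet S T.n ⊆ MulAction.orbit (pstab Γ bs) b := by
    rintro q ⟨i, hi, hq⟩
    obtain ⟨π, hπ, -, -, h⟩ := exists_perm_root hT hinv hΓ hg ht hroot i hi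
    exact ⟨⟨π, hπ⟩, Fin.ext (by show (π b).val = q.val; rw [h, hq])⟩
  have heq : ptsSet S T.n = MulAction.orbit (pstab Γ bs) b := by
    apply Set.eq_of_subset_of_ncard_le hsub _ (Set.toFinite _)
    rw [ncard_ptsSet hnd hlt, ← Nat.card_coe_set_eq, hO]
  have hmem : c b ∈ MulAction.orbit (pstab Γ bs) b := ⟨⟨c, hc⟩, rfl⟩
  rw [← heq] at hmem
  obtain ⟨i, hi, hq⟩ := hmem
  exact ⟨i, hi, hq⟩

end Sound

end Cfsg.Agent.Lib.Helper15.F24OTree
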