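import Mathlib

set_option autoImplicit false

namespace Cfsg.Agent.Lib.Helper15

/-- In a finite field of odd order `q`, `2 ≠ 0`. -/
theorem two_ne_zero_of_odd_card {F : Type*} [Field F] [Fintype F] (hodd : Odd (Fintype.card F)) : (2 : F) ≠ 0 := by
  have hchar : ringChar F ≠ 2 := by
    intro h
    rw [FiniteField.even_card_iff_char_two] at h
    rw [Nat.odd_iff] at hodd
    omega
  exact Ring.two_ne_zero hchar

/-- `-1` is a `2^b`-th power in a finite field of odd order `q` as soon as `b < v₂(q-1)`. -/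
theorem exists_pow_two_pow_eq_neg_one {F : Type*} [Field F] [Fintype F] {q : ℕ} (hF : Fintype.card F = q)
    (hq : Odd q) (b : ℕ) (hb : b < padicValNat 2 (q - 1)) : ∃ y : F, y ^ (2 ^ b) = -1 := by
  classical
  obtain ⟨ζ, hζ⟩ := IsCyclic.exists_generator (α := Fˣ)
  have hord : orderOf ζ = q - 1 := by
    rw [orderOf_eq_card_of_forall_mem_zpowers hζ, Nat.card_eq_fintype_card, Fintype.card_units, hF]
  have hq1 : q - 1 ≠ 0 := by
    have : 2 ≤ q := by rw [← hF]; exact Fintype.one_lt_card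
    omega
  have hdvd : 2 ^ (b + 1) ∣ q - 1 := (padicValNat_dvd_iff_le hq1).mpr hb
  obtain ⟨w, hw⟩ := hdvd
  have hw0 : w ≠ 0 := by rintro rfl; simp at hw; exact hq1 hw
  -- z = ζ^(w * 2^b) has z^2 = 1, z ≠ 1
  have hz2 : ((ζ ^ w) ^ (2 ^ b)) ^ 2 = 1 := by
    rw [← pow_mul, ← pow_mul]
    have : w * (2 ^ b * 2) = orderOf ζ := by rw [hord, hw]; ring
    rw [this]; exact pow_orderOf_eq_one ζ
  have hz1 : (ζ ^ w) ^ (2 ^ b) ≠ 1 := by
    rw [← pow_mul]
    apply pow_ne_one_of_lt_orderOf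
    · exact Nat.mul_ne_zero hw0 (by positivity)
    · rw [hord, hw]
      have : 0 < w * 2 ^ b := Nat.pos_of_ne_zero (Nat.mul_ne_zero hw0 (by positivity))
      calc w * 2 ^ b < w * 2 ^ b * 2 := by omega
        _ = 2 ^ (b + 1) * w := by ring
  refine ⟨((ζ ^ w : Fˣ) : F), ?_⟩
  have h1 : (((ζ ^ w : Fˣ) : F) ^ (2 ^ b)) ^ 2 = 1 := by
    have := congrArg (fun u : Fˣ => (u : F)) hz2
    simpa using this
  have h2 : ((ζ ^ w : Fˣ) : F) ^ (2 ^ b) ≠ 1 := by
    intro h
    apply hz1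
    apply Units.ext
    simpa using h
  rw [sq] at h1
  rcases mul_self_eq_one_iff.mp h1 with h | h
  · exact absurd h h2
  · exact h

/-- In a finite field of odd order `q`, `c ^ n ≠ -1` when `v₂(q-1) ≤ v₂(n)`, `n ≠ 0`. -/
theorem pow_ne_neg_one {F : Type*} [Field F] [Fintype F] {q : ℕ} (hF : Fintype.card F = q)
    (hq : Odd q) (n : ℕ) (hn0 : n ≠ 0) (hn : padicValNat 2 (q - 1) ≤ padicValNat 2 n) (c : F) :
    c ^ n ≠ -1 := by
  intro h
  have hc0 : c ≠ 0 := by
    rintro rfl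
    rw [zero_pow hn0] at h
    have : (1 : F) = 0 := by linear_combination h
    exact one_ne_zero this
  have h2 : (2 : F) ≠ 0 := two_ne_zero_of_odd_card (hF ▸ hq)
  have hq1 : q - 1 ≠ 0 := by
    have : 2 ≤ q := by rw [← hF]; exact Fintype.one_lt_card
    omega
  -- q - 1 = 2^a * t, t odd; 2^a ∣ n
  have hdvd : 2 ^ padicValNat 2 (q - 1) ∣ n := (padicValNat_dvd_iff_le hn0).mpr hn
  have hmax : ¬ 2 ^ (padicValNat 2 (q - 1) + 1) ∣ q - 1 := by
    intro h
    have := (padicValNat_dvd_iff_le hq1).mp h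
    omega
  obtain ⟨t, ht⟩ : 2 ^ padicValNat 2 (q - 1) ∣ q - 1 := pow_padicValNat_dvd
  generalize padicValNat 2 (q - 1) = a at *
  have htodd : Odd t := by
    rw [← Nat.not_even_iff_odd]
    rintro ⟨s, hs⟩
    exact hmax ⟨s, by rw [ht, hs]; ring⟩
  obtain ⟨u, hu⟩ := hdvd
  have hcN : c ^ (q - 1) = 1 := by
    rw [← hF]; exact FiniteField.pow_card_sub_one_eq_one c hc0
  have h3 : c ^ (n * t) = 1 := by
    have : n * t = (q - 1) * u := by rw [hu, ht]; ring
    rw [this, pow_mul, hcN, one_pow]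
  rw [pow_mul, h, htodd.neg_one_pow] at h3
  have : (2 : F) = 0 := by linear_combination -h3
  exact h2 this

/-- `-1` is an `n`-th power in a finite field of odd order `q` iff `v₂(n) < v₂(q-1)` (`n ≥ 1`). -/
theorem exists_pow_eq_neg_one_iff {F : Type*} [Field F] [Fintype F] {q : ℕ} (hF : Fintype.card F = q)
    (hq : Odd q) (n : ℕ) (hn0 : n ≠ 0) :
    (∃ c : F, c ^ n = -1) ↔ padicValNat 2 n < padicValNat 2 (q - 1) := by
  constructor
  · rintro ⟨c, hc⟩
    by_contra hlt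
    exact pow_ne_neg_one hF hq n hn0 (not_lt.mp hlt) c hc
  · intro hlt
    obtain ⟨y, hy⟩ := exists_pow_two_pow_eq_neg_one hF hq _ hlt
    have hmax : ¬ 2 ^ (padicValNat 2 n + 1) ∣ n := by
      intro h
      have := (padicValNat_dvd_iff_le hn0).mp h
      omega
    obtain ⟨s, hs⟩ : 2 ^ padicValNat 2 n ∣ n := pow_padicValNat_dvd
    generalize padicValNat 2 n = b at *
    have hsodd : Odd s := by
      rw [← Nat.not_even_iff_odd]
      rintro ⟨r, hr⟩
      exact hmax ⟨r, by rw [hs, hr]; ring⟩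
    refine ⟨y, ?_⟩
    rw [hs, pow_mul, hy, hsodd.neg_one_pow]

end Cfsg.Agent.Lib.Helper15
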