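import Cfsg.Agent.Lib.Helper17.FrCDefs
import Cfsg.Agent.Lib.Helper15.FrCS
import Cfsg.Agent.Lib.Helper1.FrCTools

/-!
helper15: CORE13 (S5679 + S5696) leaf G2 `win3_of_one` of notes/S5679_core_leaves.lean, exact signature
(on my block S `perm_mem`, helper1's `FrCTools.dot_toOG`).  By-product: `exists_even_perm_map` (an even permutation
carrying a 3-set onto another one, `card κ = 13`).
-/

set_option autoImplicit false
set_option linter.unusedSectionVars false
set_option linter.unusedVariables false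

namespace Cfsg.Agent.Lib.Helper15.FrCLeaf

open Module QuadraticMap Matrix Cfsg.Agent.Lib.Helper25.CD Cfsg.Agent.Lib.Helper25.Spin
  Cfsg.Agent.Lib.Helper5.NSMax Cfsg.Agent.Lib.Helper5.PairMax Cfsg.Agent.Lib.Helper17.OC2
  Cfsg.Agent.Lib.Helper29.FrStd Cfsg.Agent.Lib.Helper11.Mono Cfsg.Agent.Lib.Helper17.FrC

variable {κ : Type} [Fintype κ] [DecidableEq κ] {F : Type*} [Field F] [Fintype F]
  {c : F} {M : Subgroup ↥(Cfsg.isometryGroup F ⇑(stdQ κ F c))}

/-- an even permutation carrying `T` onto `T'` (two spare points outside `T'`) -/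
lemma exists_even_perm_map {T T' : Finset κ} (hTT' : T.card = T'.card)
    (hspare : T'.card + 2 ≤ Fintype.card κ) :
    ∃ σ : Equiv.Perm κ, Equiv.Perm.sign σ = 1 ∧ ∀ l, σ l ∈ T' ↔ l ∈ T := by
  classical
  let e₀ : {x // x ∈ T} ≃ {x // x ∈ T'} := Finset.equivOfCardEq hTT'
  let σ₀ : Equiv.Perm κ := e₀.extendSubtype
  have hσ₀ : ∀ l, σ₀ l ∈ T' ↔ l ∈ T := by
    intro l
    constructor
    · intro hl
      by_contra hlT
      exact e₀.extendSubtype_not_mem l hlT hl
    · intro hl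
      exact e₀.extendSubtype_mem l hl
  rcases Int.units_eq_one_or (Equiv.Perm.sign σ₀) with h1 | h1
  · exact ⟨σ₀, h1, hσ₀⟩
  · -- two spare points
    have hc : 2 ≤ (Finset.univ \ T').card := by
      rw [Finset.card_sdiff_of_subset (Finset.subset_univ T'), Finset.card_univ]
      omega
    obtain ⟨a, ha, b, hb, hab⟩ := Finset.one_lt_card.1 (by omega : 1 < (Finset.univ \ T').card)
    have haT : a ∉ T' := (Finset.mem_sdiff.1 ha).2
    have hbT : b ∉ T' := (Finset.mem_sdiff.1 hb).2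
    refine ⟨Equiv.swap a b * σ₀, ?_, ?_⟩
    · rw [Equiv.Perm.sign_mul, Equiv.Perm.sign_swap hab, h1]
      rfl
    · intro l
      rw [Equiv.Perm.mul_apply, ← hσ₀ l]
      by_cases h3 : σ₀ l = a
      · rw [h3, Equiv.swap_apply_left]
        exact ⟨fun hh => absurd hh hbT, fun hh => absurd hh haT⟩
      · by_cases h4 : σ₀ l = b
        · rw [h4, Equiv.swap_apply_right]
          exact ⟨fun hh => absurd hh haT, fun hh => absurd hh hbT⟩
        · rw [Equiv.swap_apply_of_ne_of_ne h3 h4]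

/-- G2. -/
theorem win3_of_one (h : Ctx c M) {T : Finset κ} (hT : T.card = 3) (hU : TransU c M (VT T)) : Win3 c M := by
  intro T' hT'
  obtain ⟨σ, hσ, hσT⟩ := exists_even_perm_map (κ := κ) (hT.trans hT'.symm)
    (by rw [hT', h.card]; norm_num)
  obtain ⟨g, hg, hgx⟩ := perm_mem h σ hσ
  -- `g` maps `VT T'` into `VT T`
  have hmap : ∀ x : κ → F, x ∈ VT T' → toOG (stdQ κ F c) g x ∈ VT T := by
    intro x hx l hl
    rw [hgx]
    exact hx (σ l) (fun hh => hl ((hσT l).1 hh))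
  -- `g⁻¹` maps `VT T` into `VT T'`
  have hinv : ∀ y : κ → F, toOG (stdQ κ F c) g⁻¹ y = y ∘ ⇑σ⁻¹ := by
    intro y
    have h1 : toOG (stdQ κ F c) g (y ∘ ⇑σ⁻¹) = y := by
      rw [hgx]
      ext k
      simp
    rw [map_inv]
    conv_lhs => rw [← h1]
    exact LinearEquiv.symm_apply_apply _ _
  have hmap' : ∀ y : κ → F, y ∈ VT T → toOG (stdQ κ F c) g⁻¹ y ∈ VT T' := by
    intro y hy l hl
    rw [hinv]
    apply hy
    intro hh
    apply hl
    have := (hσT (σ⁻¹ l)).2 hh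
    rwa [Equiv.Perm.inv_def, Equiv.apply_symm_apply] at this
  have hdot := Cfsg.Agent.Lib.Helper1.FrCLeaf.dot_toOG (κ := κ) h.hc h.h2
  intro u hu v hv huv hu0
  obtain ⟨g₀, hg₀, hg₀u, hg₀fix⟩ := hU _ (hmap u hu) _ (hmap v hv)
    (by rw [hdot, hdot]; exact huv) (by rw [hdot]; exact hu0)
  refine ⟨g⁻¹ * g₀ * g, M.mul_mem (M.mul_mem (M.inv_mem hg) hg₀) hg, ?_, ?_⟩
  · rw [map_mul, map_mul, LinearEquiv.mul_apply, LinearEquiv.mul_apply, hg₀u, ← LinearEquiv.mul_apply,
      ← map_mul, inv_mul_cancel, map_one]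
    rfl
  · intro w hw
    have hw' : ∀ y ∈ VT T, toOG (stdQ κ F c) g w ⬝ᵥ y = 0 := by
      intro y hy
      have h1 : y = toOG (stdQ κ F c) g (toOG (stdQ κ F c) g⁻¹ y) := by
        rw [← LinearEquiv.mul_apply, ← map_mul, mul_inv_cancel, map_one]
        rfl
      rw [h1, hdot]
      exact hw _ (hmap' y hy)
    rw [map_mul, map_mul, LinearEquiv.mul_apply, LinearEquiv.mul_apply, hg₀fix _ hw',
      ← LinearEquiv.mul_apply, ← map_mul, inv_mul_cancel, map_one]
    rfl

end Cfsg.Agent.Lib.Helper15.FrCLeaf
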