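import Mathlib
import Cfsg.Agent.Lib.Helper29.FrDefs

/-!
S5696 (orthogonal frames, torus `{±1}`), exclusion of the dense world, leaf FS (`false_of_weight_two`):
a non-monomial element of `L` cannot have a column of weight 2.
Paper proof: notes/S5696_dense_plan_helper29.md (FS).
-/

set_option autoImplicit false
set_option linter.unusedSectionVars false
set_option linter.unusedVariables false

namespace Cfsg.Agent.Lib.Helper15.FrLeaf
open Matrix Cfsg.Agent.Lib.Helper11.Mono Cfsg.Agent.Lib.Helper15.MonoLeaf Cfsg.Agent.Lib.Helper2.MonoLeaf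
  Cfsg.Agent.Lib.Helper29.Fr

variable {F : Type*} [Field F] {ι : Type} [Fintype ι] [DecidableEq ι]

/-- a sum of a function vanishing off three distinct indices -/
lemma sum_three_fs (f : ι → F) (a b k : ι) (hab : a ≠ b) (hak : a ≠ k) (hbk : b ≠ k)
    (h0 : ∀ c, c ≠ a → c ≠ b → c ≠ k → f c = 0) : ∑ c, f c = f a + f b + f k := by
  classical
  have hsub : ({a, b, k} : Finset ι) ⊆ Finset.univ := Finset.subset_univ _
  rw [← Finset.sum_subset hsub]
  · rw [Finset.sum_insert, Finset.sum_insert, Finset.sum_singleton, add_assoc]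
    · simpa using hbk
    · simp only [Finset.mem_insert, Finset.mem_singleton, not_or]
      exact ⟨hab, hak⟩
  · intro c _ hc
    simp only [Finset.mem_insert, Finset.mem_singleton, not_or] at hc
    exact h0 c hc.1 hc.2.1 hc.2.2

/-- the algebra of the three-column argument -/
lemma three_rel_fs (l1 l2 l3 z1 z2 z3 : F) (h12 : l1 * l2 + z1 * z2 = 0) (h13 : l1 * l3 + z1 * z3 = 0)
    (h23 : l2 * l3 + z2 * z3 = 0) (hN : l1 * l1 + z1 * z1 = 1) : l2 * l3 = 0 := by
  linear_combination (-(l2 * l3)) * hN + (l1 * l3) * h12 - (z1 * z2) * h13 + (z1 * z1) * h23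


/-- the data of a weight-2 column `j` with support `{a, b}` of an orthogonal matrix -/
structure W2 (M : Matrix ι ι F) (j a b : ι) : Prop where
  hab : a ≠ b
  ha : M a j ≠ 0
  hb : M b j ≠ 0
  hz : ∀ c, c ≠ a → c ≠ b → M c j = 0
  dot : ∀ m m', ∑ c, M c m * M c m' = if m = m' then 1 else 0

namespace W2
variable {M : Matrix ι ι F} {j a b : ι}

lemma sumj (h : W2 M j a b) (f : ι → F) : ∑ c, M c j * f c = M a j * f a + M b j * f b := by
  apply Finset.sum_eq_add a b h.hab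
  · intro c _ hc
    rw [h.hz c hc.1 hc.2, zero_mul]
  · intro h'; exact absurd (Finset.mem_univ a) h'
  · intro h'; exact absurd (Finset.mem_univ b) h'

lemma norm (h : W2 M j a b) : M a j * M a j + M b j * M b j = 1 := by
  have := h.dot j j
  rwa [if_pos rfl, h.sumj] at this

lemma orth (h : W2 M j a b) {m : ι} (hm : m ≠ j) : M a j * M a m + M b j * M b m = 0 := by
  have := h.dot j m
  rwa [if_neg (Ne.symm hm), h.sumj] at this

/-- the coefficient `λ_m` -/
def lam (M : Matrix ι ι F) (j a b m : ι) : F := M a j * M b m - M b j * M a m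

lemma pa (h : W2 M j a b) {m : ι} (hm : m ≠ j) : M a m = -(M b j) * lam M j a b m := by
  unfold lam
  linear_combination (M a j) * h.orth hm - (M a m) * h.norm

lemma pb (h : W2 M j a b) {m : ι} (hm : m ≠ j) : M b m = M a j * lam M j a b m := by
  unfold lam
  linear_combination (M b j) * h.orth hm - (M b m) * h.norm

lemma lam_ne (h : W2 M j a b) {m : ι} (hm : m ≠ j) (hne : M a m ≠ 0) : lam M j a b m ≠ 0 := by
  intro h0
  apply hne
  rw [h.pa hm, h0, mul_zero]

lemma ab_part (h : W2 M j a b) {m m' : ι} (hm : m ≠ j) (hm' : m' ≠ j) :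
    M a m * M a m' + M b m * M b m' = lam M j a b m * lam M j a b m' := by
  rw [h.pa hm, h.pa hm', h.pb hm, h.pb hm']
  linear_combination (lam M j a b m * lam M j a b m') * h.norm

/-- `M b m = 0` as soon as `M a m = 0` -/
lemma b_zero (h : W2 M j a b) {m : ι} (hm : m ≠ j) (h0 : M a m = 0) : M b m = 0 := by
  have := h.orth hm
  rw [h0, mul_zero, zero_add] at this
  exact (mul_eq_zero.mp this).resolve_left h.hb


/-- column `m` has at most one non-zero entry outside rows `a, b`, at row `k` -/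
def OneZ (M : Matrix ι ι F) (a b m k : ι) : Prop :=
  k ≠ a ∧ k ≠ b ∧ ∀ c, c ≠ a → c ≠ b → c ≠ k → M c m = 0

lemma dotk (h : W2 M j a b) {m k : ι} (hk : OneZ M a b m k) (m' : ι) :
    ∑ c, M c m * M c m' = M a m * M a m' + M b m * M b m' + M k m * M k m' := by
  apply sum_three_fs (fun c => M c m * M c m') a b k h.hab (Ne.symm hk.1) (Ne.symm hk.2.1)
  intro c hca hcb hck
  show M c m * M c m' = 0
  rw [hk.2.2 c hca hcb hck, zero_mul]

lemma rel (h : W2 M j a b) {m m' k : ι} (hm : m ≠ j) (hm' : m' ≠ j) (hmm : m ≠ m')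
    (hk : OneZ M a b m k) : lam M j a b m * lam M j a b m' + M k m * M k m' = 0 := by
  have := h.dot m m'
  rwa [if_neg hmm, h.dotk hk, h.ab_part hm hm'] at this

lemma rel_self (h : W2 M j a b) {m k : ι} (hm : m ≠ j)
    (hk : OneZ M a b m k) : lam M j a b m * lam M j a b m + M k m * M k m = 1 := by
  have := h.dot m m
  rwa [if_pos rfl, h.dotk hk, h.ab_part hm hm] at this

/-- two columns meeting rows `a, b` have their extra entry in the same row -/
lemma same_row (h : W2 M j a b) {m m' k k' : ι} (hm : m ≠ j) (hm' : m' ≠ j) (hmm : m ≠ m')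
    (hne : M a m ≠ 0) (hne' : M a m' ≠ 0) (hk : OneZ M a b m k) (hk' : OneZ M a b m' k') : k = k' := by
  by_contra hkk
  have h1 := h.rel hm hm' hmm hk
  rw [hk'.2.2 k hk.1 hk.2.1 hkk, mul_zero, add_zero] at h1
  rcases mul_eq_zero.mp h1 with h0 | h0
  · exact h.lam_ne hm hne h0
  · exact h.lam_ne hm' hne' h0

/-- three distinct columns `≠ j` cannot all meet row `a` -/
lemma three_cols (h : W2 M j a b) {m₁ m₂ m₃ k₁ k₂ k₃ : ι} (h1 : m₁ ≠ j) (h2 : m₂ ≠ j) (h3 : m₃ ≠ j)
    (h12 : m₁ ≠ m₂) (h13 : m₁ ≠ m₃) (h23 : m₂ ≠ m₃)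
    (hn1 : M a m₁ ≠ 0) (hn2 : M a m₂ ≠ 0) (hn3 : M a m₃ ≠ 0)
    (hk1 : OneZ M a b m₁ k₁) (hk2 : OneZ M a b m₂ k₂) (hk3 : OneZ M a b m₃ k₃) : False := by
  have e12 : k₁ = k₂ := h.same_row h1 h2 h12 hn1 hn2 hk1 hk2
  have e13 : k₁ = k₃ := h.same_row h1 h3 h13 hn1 hn3 hk1 hk3
  subst e12
  subst e13
  have r12 := h.rel h1 h2 h12 hk1
  have r13 := h.rel h1 h3 h13 hk1
  have r23 := h.rel h2 h3 h23 hk2
  have rN := h.rel_self h1 hk1
  have := three_rel_fs _ _ _ _ _ _ r12 r13 r23 rN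
  rcases mul_eq_zero.mp this with h0 | h0
  · exact h.lam_ne h2 hn2 h0
  · exact h.lam_ne h3 hn3 h0

end W2


/-- entries of `B * P_σ * B⁻¹` for an orthogonal `B` -/
lemma conj_perm_entry (B : GL ι F)
    (hinv : ∀ u v, ((B⁻¹ : GL ι F) : Matrix ι ι F) u v = (B : Matrix ι ι F) v u)
    (σ : Equiv.Perm ι) (x g : ι) :
    ((B * pmGL σ * B⁻¹ : GL ι F) : Matrix ι ι F) x g =
      ∑ u, (B : Matrix ι ι F) x u * (B : Matrix ι ι F) g (σ u) := by
  rw [Units.val_mul, Units.val_mul, Matrix.mul_assoc, Matrix.mul_apply]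
  apply Finset.sum_congr rfl
  intro u _
  congr 1
  rw [Matrix.mul_apply, pmGL_val]
  rw [Finset.sum_eq_single (σ u)]
  · rw [permMatrix_apply', if_pos rfl, one_mul, hinv]
  · intro v _ hv
    rw [permMatrix_apply', if_neg (Ne.symm hv), zero_mul]
  · intro h; exact absurd (Finset.mem_univ _) h

lemma row_dot_inv (B : GL ι F)
    (hinv : ∀ u v, ((B⁻¹ : GL ι F) : Matrix ι ι F) u v = (B : Matrix ι ι F) v u) (x g : ι) :
    ∑ u, (B : Matrix ι ι F) x u * (B : Matrix ι ι F) g u = if x = g then 1 else 0 := by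
  have h1 : ((B * B⁻¹ : GL ι F) : Matrix ι ι F) x g = if x = g then 1 else 0 := by
    rw [mul_inv_cancel, Units.val_one, Matrix.one_apply]
  rw [Units.val_mul, Matrix.mul_apply] at h1
  rw [← h1]
  apply Finset.sum_congr rfl
  intro u _
  rw [hinv]

section cyc
variable {j j₂ j₃ : ι}

lemma cyc_j (h2 : j₂ ≠ j) (h3 : j₃ ≠ j) (h23 : j₂ ≠ j₃) :
    (Equiv.swap j j₂ * Equiv.swap j j₃) j = j₃ := by
  rw [Equiv.Perm.mul_apply, Equiv.swap_apply_left, Equiv.swap_apply_of_ne_of_ne h3 (Ne.symm h23)]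

lemma cyc_j2 (h2 : j₂ ≠ j) (h3 : j₃ ≠ j) (h23 : j₂ ≠ j₃) :
    (Equiv.swap j j₂ * Equiv.swap j j₃) j₂ = j := by
  rw [Equiv.Perm.mul_apply, Equiv.swap_apply_of_ne_of_ne h2 h23, Equiv.swap_apply_right]

lemma cyc_j3 (h2 : j₂ ≠ j) (h3 : j₃ ≠ j) (h23 : j₂ ≠ j₃) :
    (Equiv.swap j j₂ * Equiv.swap j j₃) j₃ = j₂ := by
  rw [Equiv.Perm.mul_apply, Equiv.swap_apply_right, Equiv.swap_apply_left]

lemma cyc_other {u : ι} (hu : u ≠ j) (hu2 : u ≠ j₂) (hu3 : u ≠ j₃) :
    (Equiv.swap j j₂ * Equiv.swap j j₃) u = u := by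
  rw [Equiv.Perm.mul_apply, Equiv.swap_apply_of_ne_of_ne hu hu3, Equiv.swap_apply_of_ne_of_ne hu hu2]

end cyc


/-- FS: a non-monomial element of `L` has no column of weight 2. -/
theorem false_of_weight_two {F : Type*} [Field F] [Fintype F] {ι : Type} [Fintype ι] [DecidableEq ι]
    (h9 : 9 ≤ Fintype.card ι) (L : Subgroup (GL ι F)) (hO : IsOrth L)
    (hC : HasThreeCycles L) (hW : WorldW L) (hE : SignDich L)
    (B : GL ι F) (hB : B ∈ L) (hnm : ¬ IsMono (B : Matrix ι ι F)) (j : ι)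
    (hw : (suppCol (B : Matrix ι ι F) j).card = 2) : False := by
  classical
  obtain ⟨a, b, hab, hsupp⟩ := Finset.card_eq_two.mp hw
  have hinv : ∀ u v, ((B⁻¹ : GL ι F) : Matrix ι ι F) u v = (B : Matrix ι ι F) v u :=
    fun u v => hO.inv_apply hB u v
  have hmemS : ∀ c, (B : Matrix ι ι F) c j ≠ 0 ↔ (c = a ∨ c = b) := by
    intro c
    rw [← mem_suppCol, hsupp]
    simp
  have h : W2 (B : Matrix ι ι F) j a b := by
    refine ⟨hab, (hmemS a).mpr (Or.inl rfl), (hmemS b).mpr (Or.inr rfl), ?_, ?_⟩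
    · intro c hca hcb
      by_contra hc
      rcases (hmemS c).mp hc with h1 | h1
      · exact hca h1
      · exact hcb h1
    · intro m m'
      exact hO.col_dot hB m m'
  -- the zero set of column `j`
  have hZmem : ∀ c, c ∈ zerosCol (B : Matrix ι ι F) j ↔ (c ≠ a ∧ c ≠ b) := by
    intro c
    rw [mem_zerosCol]
    constructor
    · intro h0
      refine ⟨fun hca => h.ha (hca ▸ h0), fun hcb => h.hb (hcb ▸ h0)⟩
    · intro hc
      exact h.hz c hc.1 hc.2
  have hZcard : (zerosCol (B : Matrix ι ι F) j).card + 2 = Fintype.card ι := by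
    have := card_zerosCol_add_card_suppCol (B : Matrix ι ι F) j
    omega
  have hZ5 : 5 ≤ (zerosCol (B : Matrix ι ι F) j).card := by omega
  -- a row of `Z`
  obtain ⟨k₀, hk₀⟩ : ∃ k₀, k₀ ≠ a ∧ k₀ ≠ b := by
    have : (zerosCol (B : Matrix ι ι F) j).Nonempty := by
      rw [← Finset.card_pos]; omega
    obtain ⟨k₀, hk₀⟩ := this
    exact ⟨k₀, (hZmem k₀).mp hk₀⟩
  have : Nonempty ι := ⟨a⟩
  -- columns meeting row `a` have at most one entry in `Z`
  have hone : ∀ m, m ≠ j → (B : Matrix ι ι F) a m ≠ 0 → ∃ k, W2.OneZ (B : Matrix ι ι F) a b m k := by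
    intro m hm hne
    rcases hE B hB hnm j hZ5 m hm with h1 | h1
    · obtain ⟨k, hk⟩ := Finset.card_le_one_iff_subset_singleton.mp h1
      by_cases hkab : k ≠ a ∧ k ≠ b
      · refine ⟨k, hkab.1, hkab.2, ?_⟩
        intro c hca hcb hck
        by_contra hc
        have : c ∈ zerosCol (B : Matrix ι ι F) j ∩ suppCol (B : Matrix ι ι F) m :=
          Finset.mem_inter.mpr ⟨(hZmem c).mpr ⟨hca, hcb⟩, (mem_suppCol _ _ _).mpr hc⟩
        exact hck (Finset.mem_singleton.mp (hk this))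
      · refine ⟨k₀, hk₀.1, hk₀.2, ?_⟩
        intro c hca hcb _
        by_contra hc
        have : c ∈ zerosCol (B : Matrix ι ι F) j ∩ suppCol (B : Matrix ι ι F) m :=
          Finset.mem_inter.mpr ⟨(hZmem c).mpr ⟨hca, hcb⟩, (mem_suppCol _ _ _).mpr hc⟩
        have hck : c = k := Finset.mem_singleton.mp (hk this)
        exact hkab (hck ▸ ⟨hca, hcb⟩)
    · exfalso
      have : a ∈ zerosCol (B : Matrix ι ι F) j := h1.1 ((mem_suppCol _ _ _).mpr hne)
      exact ((hZmem a).mp this).1 rfl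
  -- two columns avoiding rows `a`, `b`
  obtain ⟨j₂, j₃, h23, h2j, h3j, h2a, h3a⟩ : ∃ j₂ j₃, j₂ ≠ j₃ ∧ j₂ ≠ j ∧ j₃ ≠ j ∧
      (B : Matrix ι ι F) a j₂ = 0 ∧ (B : Matrix ι ι F) a j₃ = 0 := by
    set S₀ : Finset ι := Finset.univ.filter (fun m => m ≠ j ∧ (B : Matrix ι ι F) a m = 0) with hS₀
    set T₀ : Finset ι := Finset.univ.filter (fun m => m ≠ j ∧ (B : Matrix ι ι F) a m ≠ 0) with hT₀
    by_cases hS : 1 < S₀.card
    · obtain ⟨x, hx, y, hy, hxy⟩ := Finset.one_lt_card.mp hS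
      rw [hS₀, Finset.mem_filter] at hx hy
      exact ⟨x, y, hxy, hx.2.1, hy.2.1, hx.2.2, hy.2.2⟩
    · exfalso
      have hcover : (Finset.univ : Finset ι) ⊆ insert j (S₀ ∪ T₀) := by
        intro m _
        by_cases hmj : m = j
        · rw [hmj]; exact Finset.mem_insert_self _ _
        · apply Finset.mem_insert_of_mem
          by_cases h0 : (B : Matrix ι ι F) a m = 0
          · exact Finset.mem_union_left _ (Finset.mem_filter.mpr ⟨Finset.mem_univ _, hmj, h0⟩)
          · exact Finset.mem_union_right _ (Finset.mem_filter.mpr ⟨Finset.mem_univ _, hmj, h0⟩)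
      have hc1 := Finset.card_le_card hcover
      have hc2 := Finset.card_insert_le j (S₀ ∪ T₀)
      have hc3 := Finset.card_union_le S₀ T₀
      rw [Finset.card_univ] at hc1
      have hT : 2 < T₀.card := by omega
      obtain ⟨m₁, hm₁, m₂, hm₂, m₃, hm₃, h12, h13, h23⟩ := Finset.two_lt_card.mp hT
      rw [hT₀, Finset.mem_filter] at hm₁ hm₂ hm₃
      obtain ⟨k₁, hk₁⟩ := hone m₁ hm₁.2.1 hm₁.2.2
      obtain ⟨k₂, hk₂⟩ := hone m₂ hm₂.2.1 hm₂.2.2
      obtain ⟨k₃, hk₃⟩ := hone m₃ hm₃.2.1 hm₃.2.2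
      exact h.three_cols hm₁.2.1 hm₂.2.1 hm₃.2.1 h12 h13 h23 hm₁.2.2 hm₂.2.2 hm₃.2.2 hk₁ hk₂ hk₃
  have h2b : (B : Matrix ι ι F) b j₂ = 0 := h.b_zero h2j h2a
  have h3b : (B : Matrix ι ι F) b j₃ = 0 := h.b_zero h3j h3a
  -- their supports lie in `Z` and have at most two elements
  have hsub : ∀ m, (B : Matrix ι ι F) a m = 0 → (B : Matrix ι ι F) b m = 0 →
      suppCol (B : Matrix ι ι F) m ⊆ zerosCol (B : Matrix ι ι F) j := by
    intro m hma hmb c hc
    rw [mem_suppCol] at hc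
    rw [hZmem]
    exact ⟨fun hca => hc (hca ▸ hma), fun hcb => hc (hcb ▸ hmb)⟩
  have hcard2 : ∀ m, m ≠ j → (B : Matrix ι ι F) a m = 0 → (B : Matrix ι ι F) b m = 0 →
      (suppCol (B : Matrix ι ι F) m).card ≤ 2 := by
    intro m hm hma hmb
    rcases hE B hB hnm j hZ5 m hm with h1 | h1
    · have : zerosCol (B : Matrix ι ι F) j ∩ suppCol (B : Matrix ι ι F) m = suppCol (B : Matrix ι ι F) m :=
        Finset.inter_eq_right.mpr (hsub m hma hmb)
      rw [this] at h1
      omega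
    · exact h1.2
  -- a row of `Z` missing both supports
  obtain ⟨g, hgZ, hgU⟩ : ∃ g ∈ zerosCol (B : Matrix ι ι F) j,
      g ∉ suppCol (B : Matrix ι ι F) j₂ ∪ suppCol (B : Matrix ι ι F) j₃ := by
    apply Finset.exists_mem_notMem_of_card_lt_card
    have := Finset.card_union_le (suppCol (B : Matrix ι ι F) j₂) (suppCol (B : Matrix ι ι F) j₃)
    have := hcard2 j₂ h2j h2a h2b
    have := hcard2 j₃ h3j h3a h3b
    omega
  have hgj : (B : Matrix ι ι F) g j = 0 := (mem_zerosCol _ _ _).mp hgZ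
  have hg2 : (B : Matrix ι ι F) g j₂ = 0 := by
    by_contra hc
    exact hgU (Finset.mem_union_left _ ((mem_suppCol _ _ _).mpr hc))
  have hg3 : (B : Matrix ι ι F) g j₃ = 0 := by
    by_contra hc
    exact hgU (Finset.mem_union_right _ ((mem_suppCol _ _ _).mpr hc))
  -- the conjugated 3-cycle
  set σ : Equiv.Perm ι := Equiv.swap j j₂ * Equiv.swap j j₃ with hσ
  have hσ3 : σ.IsThreeCycle :=
    Equiv.Perm.isThreeCycle_swap_mul_swap_same (Ne.symm h2j) (Ne.symm h3j) h23
  have hyL : B * pmGL σ * B⁻¹ ∈ L := L.mul_mem (L.mul_mem hB (hC σ hσ3)) (L.inv_mem hB)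
  -- column `g` of `y` is `e_g`
  have hcolg : ColAt ((B * pmGL σ * B⁻¹ : GL ι F) : Matrix ι ι F) g g := by
    intro x hx
    rw [conj_perm_entry B hinv σ x g]
    have hw' : ∀ u, (B : Matrix ι ι F) g (σ u) = (B : Matrix ι ι F) g u := by
      intro u
      by_cases hu : u = j
      · rw [hu, hσ, cyc_j h2j h3j h23, hg3, hgj]
      · by_cases hu2 : u = j₂
        · rw [hu2, hσ, cyc_j2 h2j h3j h23, hgj, hg2]
        · by_cases hu3 : u = j₃
          · rw [hu3, hσ, cyc_j3 h2j h3j h23, hg2, hg3]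
          · rw [hσ, cyc_other hu hu2 hu3]
    simp only [hw']
    rw [row_dot_inv B hinv x g, if_neg hx]
  have hymono : IsMono ((B * pmGL σ * B⁻¹ : GL ι F) : Matrix ι ι F) := hW _ hyL ⟨g, g, hcolg⟩
  -- column `a` of `y`
  have hentry : ∀ x, ((B * pmGL σ * B⁻¹ : GL ι F) : Matrix ι ι F) x a =
      (if x = a then 1 else 0) - (B : Matrix ι ι F) a j * (B : Matrix ι ι F) x j
        + (B : Matrix ι ι F) a j * (B : Matrix ι ι F) x j₂ := by
    intro x
    rw [conj_perm_entry B hinv σ x a]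
    have hw' : ∀ u, (B : Matrix ι ι F) a (σ u) = (B : Matrix ι ι F) a u
        + (if u = j then -(B : Matrix ι ι F) a j else 0) + (if u = j₂ then (B : Matrix ι ι F) a j else 0) := by
      intro u
      by_cases hu : u = j
      · rw [hu, hσ, cyc_j h2j h3j h23, h3a, if_pos rfl, if_neg (Ne.symm h2j)]
        ring
      · by_cases hu2 : u = j₂
        · rw [hu2, hσ, cyc_j2 h2j h3j h23, h2a, if_neg h2j, if_pos rfl]
          ring
        · by_cases hu3 : u = j₃
          · rw [hu3, hσ, cyc_j3 h2j h3j h23, h2a, h3a, if_neg h3j, if_neg (Ne.symm h23)]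
            ring
          · rw [hσ, cyc_other hu hu2 hu3, if_neg hu, if_neg hu2]
            ring
    simp only [hw', mul_add, Finset.sum_add_distrib, mul_ite, mul_zero, Finset.sum_ite_eq', Finset.mem_univ,
      if_true]
    rw [row_dot_inv B hinv x a]
    ring
  obtain ⟨i, hi⟩ := hymono a
  -- a non-zero entry of column `j₂`
  obtain ⟨c, hc⟩ : ∃ c, (B : Matrix ι ι F) c j₂ ≠ 0 := by
    by_contra hall
    push Not at hall
    apply col_ne_zero B j₂
    ext c
    exact hall c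
  have hca : c ≠ a := fun hca => hc (hca ▸ h2a)
  have hcb : c ≠ b := fun hcb => hc (hcb ▸ h2b)
  have hyb : ((B * pmGL σ * B⁻¹ : GL ι F) : Matrix ι ι F) b a ≠ 0 := by
    rw [hentry b, if_neg (Ne.symm hab), h2b, mul_zero, add_zero, zero_sub, neg_ne_zero]
    exact mul_ne_zero h.ha h.hb
  have hyc : ((B * pmGL σ * B⁻¹ : GL ι F) : Matrix ι ι F) c a ≠ 0 := by
    rw [hentry c, if_neg hca, h.hz c hca hcb, mul_zero, sub_zero, zero_add]
    exact mul_ne_zero h.ha hc
  have hbi : b = i := by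
    by_contra hne
    exact hyb (hi b hne)
  have hci : c = i := by
    by_contra hne
    exact hyc (hi c hne)
  exact hcb (hci.trans hbi.symm)

end Cfsg.Agent.Lib.Helper15.FrLeaf
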