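import Mathlib
import Cfsg.Agent.Lib.Helper18.Glaub2Defs
import Cfsg.Prelude.Def_Solvable
import Cfsg.Prelude.Def_CaseTheorems
import Cfsg.Agent.Lib.Helper12.PComplement

/-!
Helper15: leaf GLAUB2-IDQ of the S4385 market (helper18): the quotient `H / O(H)` when the
centralizer of the normal abelian `2`-subgroup `K` has index `6` in `H` and `|H| = 2 |K| n`,
`n` odd.  `K` is a central Sylow `2`-subgroup of `C = C_H(K)`, Burnside gives `|O(C)| = |C| / |K|`,
`O(C) = O(H)`, and `C = K × O(H)`.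
-/

set_option autoImplicit false

namespace Cfsg.Agent.Lib.Helper15.GLAUB2IDQ

open Cfsg

section abstract

variable {M : Type*} [Group M]

/-- the image of a subgroup meeting the kernel trivially has the same order -/
theorem card_map_of_inf_ker {M' : Type*} [Group M'] (f : M →* M') (A : Subgroup M)
    (h : A ⊓ f.ker = ⊥) : Nat.card ↥(A.map f) = Nat.card ↥A := by
  symm
  apply Nat.card_congr
  refine Equiv.ofBijective (fun a : ↥A => (⟨f a, Subgroup.mem_map_of_mem f a.2⟩ : ↥(A.map f)))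
    ⟨?_, ?_⟩
  · intro a b hab
    have h1 : f (a : M) = f (b : M) := congrArg Subtype.val hab
    have h2 : (a : M) * (b : M)⁻¹ ∈ A ⊓ f.ker := by
      refine Subgroup.mem_inf.mpr ⟨A.mul_mem a.2 (A.inv_mem b.2), ?_⟩
      rw [MonoidHom.mem_ker, map_mul, map_inv, h1, mul_inv_cancel]
    rw [h, Subgroup.mem_bot] at h2
    exact Subtype.ext (mul_inv_eq_one.mp h2)
  · rintro ⟨_, a, ha, rfl⟩
    exact ⟨⟨a, ha⟩, rfl⟩

variable [Finite M]

theorem core (K : Subgroup M) [hKn : K.Normal] (hK2 : IsPGroup 2 ↥K)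
    (hKc : ∀ u ∈ K, ∀ v ∈ K, u * v = v * u)
    (n : ℕ) (hn : Odd n) (hcard : Nat.card M = 2 * Nat.card ↥K * n)
    (hidx : (Subgroup.centralizer (K : Set M)).index = 6) :
    Nat.card (M ⧸ Cfsg.oddCore M) = 6 * Nat.card ↥K ∧
    Nat.card ↥(K.map (QuotientGroup.mk' (Cfsg.oddCore M))) = Nat.card ↥K ∧
    (∀ m : M ⧸ Cfsg.oddCore M,
      (∀ k ∈ K.map (QuotientGroup.mk' (Cfsg.oddCore M)), m * k = k * m) →
      m ∈ K.map (QuotientGroup.mk' (Cfsg.oddCore M))) := by
  have : Fact (Nat.Prime 2) := ⟨Nat.prime_two⟩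
  have hRn : (Cfsg.oddCore M).Normal := inferInstance
  set R : Subgroup M := Cfsg.oddCore M with hR
  set C : Subgroup M := Subgroup.centralizer (K : Set M) with hC
  have hCn : C.Normal := Subgroup.normal_centralizer
  have hKC : K ≤ C := fun k hk => Subgroup.mem_centralizer_iff.mpr (fun v hv => hKc v hv k hk)
  have hRodd : (Nat.card ↥R).Coprime 2 := Cfsg.Agent.Lib.Helper12.pPrimeCore_coprime (X := M) 2
  obtain ⟨e, he⟩ := IsPGroup.iff_card.mp hK2
  -- `K ⊓ R = ⊥`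
  have hKR : K ⊓ R = ⊥ := by
    apply (Subgroup.card_eq_one).mp
    have h1 : Nat.card ↥(K ⊓ R : Subgroup M) ∣ 2 ^ e := he ▸ Subgroup.card_dvd_of_le inf_le_left
    have h2 : Nat.card ↥(K ⊓ R : Subgroup M) ∣ Nat.card ↥R := Subgroup.card_dvd_of_le inf_le_right
    exact Nat.Coprime.eq_one_of_dvd (Nat.Coprime.coprime_dvd_left h2 (Nat.Coprime.pow_right e hRodd)) h1
  -- `R ≤ C`
  have hRC : R ≤ C := by
    intro r hr
    rw [hC, Subgroup.mem_centralizer_iff]
    intro k hk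
    have hcomm : r * k * r⁻¹ * k⁻¹ ∈ K ⊓ R := by
      refine Subgroup.mem_inf.mpr ⟨K.mul_mem (hKn.conj_mem k hk r) (K.inv_mem hk), ?_⟩
      have h3 : r * (k * r⁻¹ * k⁻¹) ∈ R := R.mul_mem hr (hRn.conj_mem r⁻¹ (R.inv_mem hr) k)
      have e3 : r * k * r⁻¹ * k⁻¹ = r * (k * r⁻¹ * k⁻¹) := by group
      rw [e3]; exact h3
    rw [hKR, Subgroup.mem_bot] at hcomm
    calc k * r = (r * k * r⁻¹ * k⁻¹) * (k * r) := by rw [hcomm, one_mul]
      _ = r * k := by group
  -- orders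
  have hCM : Nat.card ↥C * 6 = Nat.card M := by rw [← hidx]; exact Subgroup.card_mul_index C
  have hKCc : Nat.card ↥(K.subgroupOf C) = Nat.card ↥K :=
    Nat.card_congr (Subgroup.subgroupOfEquivOfLe hKC).toEquiv
  have hKCi : Nat.card ↥K * (K.subgroupOf C).index = Nat.card ↥C := by
    rw [← hKCc]; exact Subgroup.card_mul_index _
  have hKpos : 0 < Nat.card ↥K := Nat.card_pos
  have hidx3 : (K.subgroupOf C).index * 3 = n := by
    have h5 : Nat.card ↥K * ((K.subgroupOf C).index * 3) * 2 = Nat.card ↥K * n * 2 := by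
      calc Nat.card ↥K * ((K.subgroupOf C).index * 3) * 2
          = (Nat.card ↥K * (K.subgroupOf C).index) * 6 := by ring
        _ = Nat.card M := by rw [hKCi, hCM]
        _ = Nat.card ↥K * n * 2 := by rw [hcard]; ring
    have h6 := Nat.eq_of_mul_eq_mul_right (by norm_num : 0 < 2) h5
    exact Nat.eq_of_mul_eq_mul_left hKpos h6
  have hidx2 : ¬ 2 ∣ (K.subgroupOf C).index := by
    intro h2
    have : 2 ∣ n := by rw [← hidx3]; exact Dvd.dvd.mul_right h2 3
    exact (Nat.not_even_iff_odd.mpr hn) (even_iff_two_dvd.mpr this)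
  have hKCp : IsPGroup 2 ↥(K.subgroupOf C) := hK2.comap_subtype
  let PC : Sylow 2 ↥C := hKCp.toSylow hidx2
  have hcentral : ∀ x ∈ (PC : Subgroup ↥C), ∀ c : ↥C, c * x = x * c := by
    intro x hx c
    have hxK : (x : M) ∈ K := by
      have : x ∈ K.subgroupOf C := hx
      rwa [Subgroup.mem_subgroupOf] at this
    have := (Subgroup.mem_centralizer_iff.mp c.2) (x : M) hxK
    exact Subtype.ext this.symm
  have hburn := Cfsg.Agent.Lib.Helper12.card_pPrimeCore_mul_of_central_sylow PC hcentral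
  have hPCc : Nat.card ↥(PC : Subgroup ↥C) = Nat.card ↥K := hKCc
  -- `O(C)` maps into `R`
  have hOCcop : (Nat.card ↥(Cfsg.pPrimeCore 2 ↥C)).Coprime 2 :=
    Cfsg.Agent.Lib.Helper12.pPrimeCore_coprime (X := ↥C) 2
  have hchar : (Cfsg.pPrimeCore 2 ↥C).Characteristic :=
    Cfsg.Agent.Lib.Helper12.pPrimeCore_characteristic 2
  have hOn : ((Cfsg.pPrimeCore 2 ↥C).map C.subtype).Normal :=
    ConjAct.normal_of_characteristic_of_normal
  have hOc : Nat.card ↥((Cfsg.pPrimeCore 2 ↥C).map C.subtype) = Nat.card ↥(Cfsg.pPrimeCore 2 ↥C) :=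
    Subgroup.card_map_of_injective (Subgroup.subtype_injective _)
  have hOR : (Cfsg.pPrimeCore 2 ↥C).map C.subtype ≤ R :=
    Cfsg.Agent.Lib.Helper12.le_pPrimeCore 2 _ hOn (by rw [hOc]; exact hOCcop)
  have hd1 : Nat.card ↥(Cfsg.pPrimeCore 2 ↥C) ∣ Nat.card ↥R := by
    rw [← hOc]; exact Subgroup.card_dvd_of_le hOR
  -- `R` maps into `O(C)`
  have hRCc : Nat.card ↥(R.subgroupOf C) = Nat.card ↥R :=
    Nat.card_congr (Subgroup.subgroupOfEquivOfLe hRC).toEquiv
  have hRO : R.subgroupOf C ≤ Cfsg.pPrimeCore 2 ↥C :=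
    Cfsg.Agent.Lib.Helper12.le_pPrimeCore 2 _ (hRn.subgroupOf C) (by rw [hRCc]; exact hRodd)
  have hd2 : Nat.card ↥R ∣ Nat.card ↥(Cfsg.pPrimeCore 2 ↥C) := by
    rw [← hRCc]; exact Subgroup.card_dvd_of_le hRO
  have hRO' : Nat.card ↥(Cfsg.pPrimeCore 2 ↥C) = Nat.card ↥R := Nat.dvd_antisymm hd1 hd2
  have hRK : Nat.card ↥R * Nat.card ↥K = Nat.card ↥C := by
    rw [← hRO', ← hPCc]; exact hburn
  have hRpos : 0 < Nat.card ↥R := Nat.card_pos
  -- (1)
  have h1 : Nat.card (M ⧸ R) = 6 * Nat.card ↥K := by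
    have h7 : Nat.card M = Nat.card (M ⧸ R) * Nat.card ↥R :=
      Subgroup.card_eq_card_quotient_mul_card_subgroup R
    have h8 : Nat.card ↥R * Nat.card (M ⧸ R) = Nat.card ↥R * (6 * Nat.card ↥K) := by
      calc Nat.card ↥R * Nat.card (M ⧸ R) = Nat.card M := by rw [h7]; ring
        _ = Nat.card ↥C * 6 := hCM.symm
        _ = Nat.card ↥R * (6 * Nat.card ↥K) := by rw [← hRK]; ring
    exact Nat.eq_of_mul_eq_mul_left hRpos h8
  -- (2)
  have hker : (QuotientGroup.mk' R).ker = R := QuotientGroup.ker_mk' R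
  have h2 : Nat.card ↥(K.map (QuotientGroup.mk' R)) = Nat.card ↥K :=
    card_map_of_inf_ker _ K (by rw [hker]; exact hKR)
  -- `C = K ⊔ R`
  have hsup : K ⊔ R = C := by
    apply Subgroup.eq_of_le_of_card_ge (sup_le hKC hRC)
    have hk1 : Nat.card ↥K ∣ Nat.card ↥(K ⊔ R : Subgroup M) := Subgroup.card_dvd_of_le le_sup_left
    have hr1 : Nat.card ↥R ∣ Nat.card ↥(K ⊔ R : Subgroup M) := Subgroup.card_dvd_of_le le_sup_right
    have hcop : (Nat.card ↥R).Coprime (Nat.card ↥K) := by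
      rw [he]; exact Nat.Coprime.pow_right e hRodd
    have := Nat.Coprime.mul_dvd_of_dvd_of_dvd hcop hr1 hk1
    rw [hRK] at this
    exact Nat.le_of_dvd Nat.card_pos this
  refine ⟨h1, h2, ?_⟩
  intro m hm
  obtain ⟨x, rfl⟩ := QuotientGroup.mk_surjective m
  have hxC : x ∈ C := by
    rw [hC, Subgroup.mem_centralizer_iff]
    intro k hk
    have h9 := hm (QuotientGroup.mk' R k) (Subgroup.mem_map_of_mem _ hk)
    have h10 : ((x * k : M) : M ⧸ R) = ((k * x : M) : M ⧸ R) := h9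
    rw [QuotientGroup.eq] at h10
    have h11 : (x * k)⁻¹ * (k * x) ∈ K ⊓ R := by
      refine Subgroup.mem_inf.mpr ⟨?_, h10⟩
      have e4 : (x * k)⁻¹ * (k * x) = k⁻¹ * (x⁻¹ * k * x⁻¹⁻¹) := by group
      rw [e4]
      exact K.mul_mem (K.inv_mem hk) (hKn.conj_mem k hk x⁻¹)
    rw [hKR, Subgroup.mem_bot] at h11
    calc k * x = (x * k) * ((x * k)⁻¹ * (k * x)) := by group
      _ = x * k := by rw [h11, mul_one]
  rw [← hsup] at hxC
  have h12 : QuotientGroup.mk' R x ∈ (K ⊔ R).map (QuotientGroup.mk' R) :=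
    Subgroup.mem_map_of_mem _ hxC
  rw [Subgroup.map_sup, QuotientGroup.map_mk'_self, sup_bot_eq] at h12
  exact h12

end abstract

variable {G : Type*} [Group G]

/-- LEAF IDQ (the quotient by the odd core). -/
theorem quotient_oddCore_data [Finite G] (H K : Subgroup G) (hKH : K ≤ H)
    (hN : H ≤ Subgroup.normalizer (K : Set G)) (hK2 : IsPGroup 2 ↥K)
    (hKc : ∀ u ∈ K, ∀ v ∈ K, u * v = v * u)
    (n : ℕ) (hn : Odd n) (hcard : Nat.card ↥H = 2 * Nat.card ↥K * n)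
    (hidx : (Subgroup.centralizer (K : Set G) ⊓ H).relIndex H = 6) :
    Nat.card (↥H ⧸ Cfsg.oddCore ↥H) = 6 * Nat.card ↥K ∧
    Nat.card ↥((K.subgroupOf H).map (QuotientGroup.mk' (Cfsg.oddCore ↥H))) = Nat.card ↥K ∧
    (∀ m : ↥H ⧸ Cfsg.oddCore ↥H,
      (∀ k ∈ (K.subgroupOf H).map (QuotientGroup.mk' (Cfsg.oddCore ↥H)), m * k = k * m) →
      m ∈ (K.subgroupOf H).map (QuotientGroup.mk' (Cfsg.oddCore ↥H))) := by
  have hKn : (K.subgroupOf H).Normal :=
    (Subgroup.normal_subgroupOf_iff_le_normalizer hKH).mpr hN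
  have hKc' : Nat.card ↥(K.subgroupOf H) = Nat.card ↥K :=
    Nat.card_congr (Subgroup.subgroupOfEquivOfLe hKH).toEquiv
  have hK2' : IsPGroup 2 ↥(K.subgroupOf H) := hK2.comap_subtype
  have hKcomm' : ∀ u ∈ K.subgroupOf H, ∀ v ∈ K.subgroupOf H, u * v = v * u :=
    fun u hu v hv => Subtype.ext (hKc u hu v hv)
  have hidx' : (Subgroup.centralizer ((K.subgroupOf H : Subgroup ↥H) : Set ↥H)).index = 6 := by
    rw [← hidx, Subgroup.relIndex]
    congr 1
    ext h
    rw [Subgroup.mem_centralizer_iff, Subgroup.mem_subgroupOf, Subgroup.mem_inf,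
      Subgroup.mem_centralizer_iff]
    constructor
    · intro hh
      refine ⟨fun k hk => ?_, h.2⟩
      have := hh ⟨k, hKH hk⟩ (by rw [SetLike.mem_coe, Subgroup.mem_subgroupOf]; exact hk)
      exact congrArg Subtype.val this
    · rintro ⟨hh, -⟩ k hk
      exact Subtype.ext (hh k hk)
  have := core (K.subgroupOf H) hK2' hKcomm' n hn (by rw [hKc']; exact hcard) hidx'
  rw [hKc'] at this
  exact this

end Cfsg.Agent.Lib.Helper15.GLAUB2IDQ
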