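import Mathlib
import Cfsg.Agent.Lib.Helper18.Glaub2Defs
import Cfsg.Prelude.Def_Solvable
import Cfsg.Prelude.Def_CaseTheorems
import Cfsg.Agent.Lib.Helper12.Cores
import Cfsg.Agent.Lib.Helper14.BOFLROT
import Cfsg.Agent.Lib.Helper15.GLAUB2IDQ

/-!
Helper15: leaf GLAUB2-ID2 of the S4385 market (helper18): a group of order `4 n`, `n` odd, with
two distinct involutions `a`, `z`, `z` central, has `H / O(H) ≅ C₂ × C₂`.  A Sylow `2`-subgroup
`P = {1, a, z, az}` satisfies `N(P) ≤ C(P)` (an element of odd order normalizing `P` fixes `z` and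
permutes `{a, az}`, so its square centralizes `a`); Burnside's transfer theorem gives a normal
complement of order `n`, which is `O(H)`.
-/

set_option autoImplicit false

namespace Cfsg.Agent.Lib.Helper15.GLAUB2ID2

open Cfsg

section abstract

variable {M : Type*} [Group M] [Finite M]

theorem four_core (n : ℕ) (hn : Odd n) (hcard : Nat.card M = 4 * n) (a z : M)
    (ha : a * a = 1) (hz : z * z = 1) (ha1 : a ≠ 1) (hz1 : z ≠ 1) (haz : a ≠ z)
    (hzc : ∀ h : M, h * z = z * h) :
    Nonempty (M ⧸ Cfsg.oddCore M ≃* Multiplicative (ZMod 2) × Multiplicative (ZMod 2)) := by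
  classical
  have : Fact (Nat.Prime 2) := ⟨Nat.prime_two⟩
  have hoa : orderOf a = 2 := orderOf_eq_prime (by rw [pow_two]; exact ha) ha1
  have hoz : orderOf z = 2 := orderOf_eq_prime (by rw [pow_two]; exact hz) hz1
  have hpa : IsPGroup 2 ↥(Subgroup.zpowers a) :=
    IsPGroup.of_card (n := 1) (by rw [Nat.card_zpowers, hoa, pow_one])
  have hpz : IsPGroup 2 ↥(Subgroup.zpowers z) :=
    IsPGroup.of_card (n := 1) (by rw [Nat.card_zpowers, hoz, pow_one])
  have hzn : (Subgroup.zpowers z).Normal := by
    constructor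
    intro x hx g
    obtain ⟨k, rfl⟩ := Subgroup.mem_zpowers_iff.mp hx
    have hc : Commute g z := hzc g
    have h1 : g * z ^ k = z ^ k * g := (hc.zpow_right k).eq
    rw [h1, mul_inv_cancel_right]
    exact hx
  obtain ⟨P, hP⟩ := hpa.exists_le_sylow
  have haP : a ∈ P := hP (Subgroup.mem_zpowers a)
  have hzP : z ∈ P := hpz.le_sylow_of_normal P (Subgroup.mem_zpowers z)
  have hn2 : ¬ 2 ∣ n := by
    rw [← even_iff_two_dvd, Nat.not_even_iff_odd]; exact hn
  have hn0 : n ≠ 0 := by rintro rfl; exact hn2 (dvd_zero 2)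
  -- `|P| = 4`
  have hPc : Nat.card ↥(P : Subgroup M) = 4 := by
    have h1 := P.card_eq_multiplicity
    rw [hcard] at h1
    have h4 : (4 * n).factorization 2 = 2 := by
      rw [Nat.factorization_mul (by norm_num) hn0, Finsupp.add_apply,
        Nat.factorization_eq_zero_of_not_dvd hn2, add_zero]
      have : (4 : ℕ) = 2 ^ 2 := by norm_num
      rw [this, Nat.Prime.factorization_pow Nat.prime_two]
      simp
    rw [h4] at h1
    rw [h1]; norm_num
  -- the elements of `P`
  have hzaz : z ≠ a * z := by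
    intro h
    apply ha1
    have : a * z = 1 * z := by rw [one_mul]; exact h.symm
    exact mul_right_cancel this
  have haaz : a ≠ a * z := by
    intro h
    apply hz1
    have : a * z = a * 1 := by rw [mul_one]; exact h.symm
    exact mul_left_cancel this
  have h1az : (1 : M) ≠ a * z := by
    intro h
    apply haz
    calc a = a * (z * z) := by rw [hz, mul_one]
      _ = (a * z) * z := by rw [mul_assoc]
      _ = z := by rw [← h, one_mul]
  have hPel : ∀ p ∈ P, p = 1 ∨ p = a ∨ p = z ∨ p = a * z := by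
    have hS : (({1, a, z, a * z} : Finset M) : Set M) ⊆ ((P : Subgroup M) : Set M) := by
      intro x hx
      simp only [Finset.coe_insert, Finset.coe_singleton, Set.mem_insert_iff,
        Set.mem_singleton_iff] at hx
      rcases hx with rfl | rfl | rfl | rfl
      exacts [one_mem _, haP, hzP, mul_mem haP hzP]
    have hScard : ({1, a, z, a * z} : Finset M).card = 4 := by
      rw [Finset.card_insert_of_notMem, Finset.card_insert_of_notMem,
        Finset.card_insert_of_notMem, Finset.card_singleton]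
      · simpa using hzaz
      · simp only [Finset.mem_insert, Finset.mem_singleton, not_or]
        exact ⟨haz, haaz⟩
      · simp only [Finset.mem_insert, Finset.mem_singleton, not_or]
        exact ⟨ha1.symm, hz1.symm, h1az⟩
    have hPn : Nat.card ↥(P : Subgroup M) = ((P : Subgroup M) : Set M).ncard :=
      Nat.card_coe_set_eq _
    have heq := Set.eq_of_subset_of_ncard_le hS
      (by rw [Set.ncard_coe_finset, hScard, ← hPn, hPc]) (Set.toFinite _)
    intro p hp
    have hp' : p ∈ (({1, a, z, a * z} : Finset M) : Set M) := by rw [heq]; exact hp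
    simpa using hp'
  have hPcomm : ∀ x ∈ P, ∀ y ∈ P, x * y = y * x := by
    intro x hx y hy
    have hcm : IsMulCommutative ↥(P : Subgroup M) :=
      IsPGroup.isMulCommutative_of_card_eq_prime_sq (p := 2) (by rw [hPc]; norm_num)
    have := hcm.is_comm.comm (⟨x, hx⟩ : ↥(P : Subgroup M)) ⟨y, hy⟩
    exact congrArg Subtype.val this
  -- odd order elements of the normalizer centralize `a`
  have key : ∀ g ∈ Subgroup.normalizer ((P : Subgroup M) : Set M), Odd (orderOf g) →
      g * a = a * g := by
    intro g hg hodd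
    have hconj : g * a * g⁻¹ ∈ (P : Subgroup M) := (Subgroup.mem_normalizer_iff.mp hg a).mp haP
    have hgz : g * z * g⁻¹ = z := by rw [hzc g, mul_inv_cancel_right]
    rcases hPel _ hconj with h | h | h | h
    · exfalso
      apply ha1
      calc a = g⁻¹ * (g * a * g⁻¹) * g := by group
        _ = 1 := by rw [h]; group
    · calc g * a = (g * a * g⁻¹) * g := by group
        _ = a * g := by rw [h]
    · exfalso
      apply haz
      calc a = g⁻¹ * (g * a * g⁻¹) * g := by group
        _ = g⁻¹ * (g * z * g⁻¹) * g := by rw [h, hgz]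
        _ = z := by group
    · have e1 : g * (a * z) * g⁻¹ = a := by
        calc g * (a * z) * g⁻¹ = (g * a * g⁻¹) * (g * z * g⁻¹) := by group
          _ = (a * z) * z := by rw [h, hgz]
          _ = a := by rw [mul_assoc, hz, mul_one]
      have h2 : Commute (g ^ 2) a := by
        show g ^ 2 * a = a * g ^ 2
        calc g ^ 2 * a = g * (g * a * g⁻¹) * g⁻¹ * g ^ 2 := by rw [pow_two]; group
          _ = a * g ^ 2 := by rw [h, e1]
      obtain ⟨m, hm⟩ := hodd
      have e2 : (g ^ 2) ^ (m + 1) = g := by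
        rw [← pow_mul, show 2 * (m + 1) = orderOf g + 1 by omega, pow_succ, pow_orderOf_eq_one,
          one_mul]
      have h3 : Commute ((g ^ 2) ^ (m + 1)) a := h2.pow_left (m + 1)
      rw [e2] at h3
      exact h3.eq
  have hNC : Subgroup.normalizer ((P : Subgroup M) : Set M) ≤
      Subgroup.centralizer ((P : Subgroup M) : Set M) := by
    intro h hh
    obtain ⟨α, β, hdec, ⟨k, hk⟩, hodd⟩ := Cfsg.Agent.Lib.Helper14.BOFLROT.exists_two_part h
    have hα : h ^ α ∈ Subgroup.normalizer ((P : Subgroup M) : Set M) := Subgroup.zpow_mem _ hh α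
    have hβ : h ^ β ∈ Subgroup.normalizer ((P : Subgroup M) : Set M) := Subgroup.zpow_mem _ hh β
    have h1 : h ^ α ∈ (P : Subgroup M) := by
      have hp2 : IsPGroup 2 ↥(Subgroup.zpowers (h ^ α)) :=
        IsPGroup.of_card (n := k) (by rw [Nat.card_zpowers, hk])
      have hle : Subgroup.zpowers (h ^ α) ≤ Subgroup.normalizer ((P : Subgroup M) : Set M) :=
        Subgroup.zpowers_le.mpr hα
      have hsup := hp2.to_sup_of_normal_right' P.2 hle
      have := P.is_maximal' hsup le_sup_right
      exact (sup_eq_right.mp this) (Subgroup.mem_zpowers _)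
    have h2 : h ^ β * a = a * h ^ β := key _ hβ hodd
    have hha : h * a = a * h := by
      calc h * a = h ^ α * (h ^ β * a) := by rw [← mul_assoc, ← hdec]
        _ = (h ^ α * a) * h ^ β := by rw [h2, mul_assoc]
        _ = a * (h ^ α * h ^ β) := by rw [hPcomm _ h1 _ haP, mul_assoc]
        _ = a * h := by rw [← hdec]
    rw [Subgroup.mem_centralizer_iff]
    intro p hp
    rcases hPel p hp with rfl | rfl | rfl | rfl
    · simp
    · exact hha.symm
    · exact (hzc h).symm
    · rw [mul_assoc, ← hzc h, ← mul_assoc, ← hha, mul_assoc]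
  -- Burnside
  have hcompl := MonoidHom.ker_transferSylow_isComplement' P hNC
  set R : Subgroup M := (MonoidHom.transferSylow P hNC).ker with hR
  have hRc : Nat.card ↥R = n := by
    have h1 := hcompl.card_mul_card
    rw [hPc, hcard] at h1
    omega
  have hRn : R.Normal := inferInstance
  set O : Subgroup M := Cfsg.oddCore M with hO
  have hOodd : (Nat.card ↥O).Coprime 2 := Cfsg.Agent.Lib.Helper12.pPrimeCore_coprime (X := M) 2
  have hRO : R ≤ O :=
    Cfsg.Agent.Lib.Helper12.le_pPrimeCore 2 R hRn (by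
      rw [hRc]; exact (Nat.Prime.coprime_iff_not_dvd Nat.prime_two).mpr hn2 |>.symm)
  have hOc : Nat.card ↥O = n := by
    apply Nat.dvd_antisymm
    · have h1 : Nat.card ↥O ∣ 4 * n := hcard ▸ Subgroup.card_subgroup_dvd_card O
      have h2 : (Nat.card ↥O).Coprime 4 := by
        have : (4 : ℕ) = 2 ^ 2 := by norm_num
        rw [this]; exact Nat.Coprime.pow_right 2 hOodd
      exact h2.dvd_of_dvd_mul_left h1
    · rw [← hRc]; exact Subgroup.card_dvd_of_le hRO
  have hOn : O.Normal := inferInstance
  have hQc : Nat.card (M ⧸ O) = 4 := by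
    have h7 : Nat.card M = Nat.card (M ⧸ O) * Nat.card ↥O :=
      Subgroup.card_eq_card_quotient_mul_card_subgroup O
    rw [hcard, hOc] at h7
    have hnpos : 0 < n := Nat.pos_of_ne_zero hn0
    exact (Nat.eq_of_mul_eq_mul_right hnpos h7).symm
  -- `P` maps onto the quotient
  have hPO : (P : Subgroup M) ⊓ O = ⊥ := by
    apply (Subgroup.card_eq_one).mp
    have h1 : Nat.card ↥((P : Subgroup M) ⊓ O : Subgroup M) ∣ 2 ^ 2 := by
      have := Subgroup.card_dvd_of_le (inf_le_left : (P : Subgroup M) ⊓ O ≤ P)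
      rw [hPc] at this
      exact this
    have h2 : Nat.card ↥((P : Subgroup M) ⊓ O : Subgroup M) ∣ Nat.card ↥O :=
      Subgroup.card_dvd_of_le inf_le_right
    exact Nat.Coprime.eq_one_of_dvd
      (Nat.Coprime.coprime_dvd_left h2 (Nat.Coprime.pow_right 2 hOodd)) h1
  have hmapc : Nat.card ↥((P : Subgroup M).map (QuotientGroup.mk' O)) = 4 := by
    rw [Cfsg.Agent.Lib.Helper15.GLAUB2IDQ.card_map_of_inf_ker _ _
      (by rw [QuotientGroup.ker_mk']; exact hPO), hPc]
  have hmaptop : (P : Subgroup M).map (QuotientGroup.mk' O) = ⊤ :=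
    Subgroup.eq_top_of_card_eq _ (by rw [hmapc, hQc])
  have hsq : ∀ q : M ⧸ O, q * q = 1 := by
    intro q
    have hq : q ∈ (P : Subgroup M).map (QuotientGroup.mk' O) := by rw [hmaptop]; trivial
    obtain ⟨p, hp, rfl⟩ := hq
    rw [← map_mul]
    have : p * p = 1 := by
      rcases hPel p hp with rfl | rfl | rfl | rfl
      · simp
      · exact ha
      · exact hz
      · calc a * z * (a * z) = a * (z * a) * z := by group
          _ = a * (a * z) * z := by rw [hzc a]
          _ = (a * a) * (z * z) := by group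
          _ = 1 := by rw [ha, hz, mul_one]
    rw [this, map_one]
  have hnt : Nontrivial (M ⧸ O) := by
    rw [← Finite.one_lt_card_iff_nontrivial, hQc]; norm_num
  have hK4 : IsKleinFour (M ⧸ O) :=
    ⟨hQc, (Monoid.exponent_eq_prime_iff Nat.prime_two).mpr
      (fun q hq => orderOf_eq_prime (by rw [pow_two]; exact hsq q) hq)⟩
  obtain ⟨e⟩ := IsKleinFour.nonempty_mulEquiv (G₁ := M ⧸ O)
    (G₂ := Multiplicative (ZMod 2 × ZMod 2))
  exact ⟨e.trans (MulEquiv.prodMultiplicative _ _)⟩

end abstract

variable {G : Type*} [Group G]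

/-- LEAF ID2 (`t = 2`: the four-group). -/
theorem iso_four_group [Finite G] (H : Subgroup G) (n : ℕ) (hn : Odd n)
    (hcard : Nat.card ↥H = 4 * n)
    (a z : G) (haH : a ∈ H) (hzH : z ∈ H) (ha : a * a = 1) (hz : z * z = 1) (ha1 : a ≠ 1)
    (hz1 : z ≠ 1) (haz : a ≠ z) (hzc : ∀ h ∈ H, h * z = z * h) :
    Nonempty (↥H ⧸ Cfsg.oddCore ↥H ≃* Multiplicative (ZMod 2) × Multiplicative (ZMod 2)) := by
  refine four_core (M := ↥H) n hn hcard ⟨a, haH⟩ ⟨z, hzH⟩ (Subtype.ext ha) (Subtype.ext hz) ?_ ?_ ?_
    (fun h => Subtype.ext (hzc h h.2))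
  · intro h; exact ha1 (congrArg Subtype.val h)
  · intro h; exact hz1 (congrArg Subtype.val h)
  · intro h; exact haz (congrArg Subtype.val h)

end Cfsg.Agent.Lib.Helper15.GLAUB2ID2
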