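import Mathlib
import Cfsg.Agent.Lib.Helper15.UnitaryConj
import Cfsg.Agent.Lib.Helper15.NilpotentConj

/-!
helper15: generic counting lemmas for centralisers in unitary groups over a finite field with an
involution: additive fibre counting, fixed points of a semilinear involution, the Lang-type count
`|C_GL(U)| = |Herm^× ∩ C(U)| * |C_GU(U)|`.
-/

set_option autoImplicit false

namespace Cfsg.Agent.Lib.Helper15.GUCent

open Matrix

/-- fibre counting for additive maps -/
lemma card_preimage_add {A B : Type*} [AddCommGroup A] [AddCommGroup B] [Finite A]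
    (f : A →+ B) (S : Set B) :
    Nat.card {a // f a ∈ S} =
      Nat.card f.ker * Nat.card {b : B // b ∈ f.range ∧ b ∈ S} := by
  classical
  have hfin : Finite f.range := by
    have : Finite (Set.range f) := Set.finite_range f
    exact this
  have hfin2 : Finite {b : B // b ∈ f.range ∧ b ∈ S} :=
    Finite.of_injective (fun b => (⟨b.1, b.2.1⟩ : f.range))
      (fun b b' h => Subtype.ext (congrArg (fun z : f.range => z.1) h))
  have := Fintype.ofFinite {b : B // b ∈ f.range ∧ b ∈ S}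
  let e : {a // f a ∈ S} ≃ Σ b : {b : B // b ∈ f.range ∧ b ∈ S}, {a // f a = b.1} :=
    { toFun := fun a => ⟨⟨f a.1, ⟨a.1, rfl⟩, a.2⟩, ⟨a.1, rfl⟩⟩
      invFun := fun x => ⟨x.2.1, by rw [x.2.2]; exact x.1.2.2⟩
      left_inv := fun _ => rfl
      right_inv := by
        rintro ⟨⟨b, hb1, hb2⟩, ⟨a, ha⟩⟩
        simp only at ha
        subst ha
        rfl }
  rw [Nat.card_congr e, Nat.card_sigma]
  have hfib : ∀ b : {b : B // b ∈ f.range ∧ b ∈ S},
      Nat.card {a // f a = b.1} = Nat.card f.ker := by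
    intro b
    obtain ⟨a₀, ha₀⟩ := b.2.1
    apply Nat.card_congr
    exact
      { toFun := fun a => ⟨a.1 - a₀, by rw [AddMonoidHom.mem_ker, map_sub, a.2, ha₀, sub_self]⟩
        invFun := fun z => ⟨z.1 + a₀, by
          rw [map_add, AddMonoidHom.mem_ker.1 z.2, zero_add, ha₀]⟩
        left_inv := fun a => by simp
        right_inv := fun z => by simp }
  rw [Finset.sum_congr rfl (fun b _ => hfib b), Finset.sum_const, Finset.card_univ, smul_eq_mul,
    ← Nat.card_eq_fintype_card, mul_comm]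

/-- a semilinear involution on a finite module has `sqrt` of the cardinality as many fixed
points -/
lemma card_eq_card_fix_sq {K V : Type*} [Field K] [StarRing K] [AddCommGroup V] [Module K V]
    (μ : K) (hμ : μ - star μ ≠ 0) (σ : V →+ V) (hσ2 : ∀ v, σ (σ v) = v)
    (hσs : ∀ (a : K) (v : V), σ (a • v) = star a • σ v) :
    Nat.card V = Nat.card {v : V // σ v = v} ^ 2 := by
  obtain ⟨δ, hδ⟩ : ∃ δ : K, δ = (μ - star μ)⁻¹ := ⟨_, rfl⟩
  have hδ1 : δ * (μ - star μ) = 1 := by rw [hδ]; exact inv_mul_cancel₀ hμ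
  have hδs : star δ = -δ := by
    rw [hδ, star_inv₀, star_sub, star_star, ← neg_sub μ (star μ), inv_neg]
  rw [pow_two, ← Nat.card_prod]
  symm
  apply Nat.card_congr
  refine
    { toFun := fun p => p.1.1 + μ • p.2.1
      invFun := fun v => (⟨v - μ • (δ • (v - σ v)), ?_⟩, ⟨δ • (v - σ v), ?_⟩)
      left_inv := ?_
      right_inv := ?_ }
  · have h2 : σ (δ • (v - σ v)) = δ • (v - σ v) := by
      rw [hσs, hδs, map_sub, hσ2, neg_smul, ← smul_neg, neg_sub]
    rw [map_sub, hσs, h2]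
    have h3 : v - σ v = (μ - star μ) • (δ • (v - σ v)) := by
      rw [smul_smul, mul_comm, hδ1, one_smul]
    have h4 : (v - μ • δ • (v - σ v)) - (σ v - star μ • δ • (v - σ v)) = 0 := by
      have : (v - μ • δ • (v - σ v)) - (σ v - star μ • δ • (v - σ v)) =
          (v - σ v) - (μ - star μ) • (δ • (v - σ v)) := by
        rw [sub_smul]
        abel
      rw [this, ← h3, sub_self]
    exact (sub_eq_zero.1 h4).symm
  · rw [hσs, hδs, map_sub, hσ2, neg_smul, ← smul_neg, neg_sub]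
  · rintro ⟨⟨s1, h1⟩, ⟨s2, h2⟩⟩
    have h3 : (s1 + μ • s2) - σ (s1 + μ • s2) = (μ - star μ) • s2 := by
      rw [map_add, hσs, h1, h2, sub_smul]
      abel
    have h4 : δ • ((s1 + μ • s2) - σ (s1 + μ • s2)) = s2 := by
      rw [h3, smul_smul, hδ1, one_smul]
    apply Prod.ext
    · apply Subtype.ext
      show (s1 + μ • s2) - μ • (δ • ((s1 + μ • s2) - σ (s1 + μ • s2))) = s1
      rw [h4]
      abel
    · apply Subtype.ext
      exact h4
  · intro v
    show (v - μ • (δ • (v - σ v))) + μ • (δ • (v - σ v)) = v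
    abel

section sqrt

variable {K : Type*} [Field K] [Finite K] [StarRing K]

/-- square roots of Hermitian units, any index type -/
theorem exists_sqrt' {ι : Type*} [Fintype ι] [DecidableEq ι] (τ : K) (hτ : τ - star τ ≠ 0)
    (a : Matrix ι ι K) (hah : aᴴ = a) (hau : IsUnit a) :
    ∃ p : Matrix ι ι K, pᴴ * p = a ∧ ∀ B : Matrix ι ι K, a * B = B * a → p * B = B * p := by
  obtain ⟨e⟩ : Nonempty (ι ≃ Fin (Fintype.card ι)) := ⟨Fintype.equivFin ι⟩
  obtain ⟨a', ha'⟩ : ∃ a' : Matrix (Fin (Fintype.card ι)) (Fin (Fintype.card ι)) K,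
      a' = a.submatrix e.symm e.symm := ⟨_, rfl⟩
  have h1 : a'ᴴ = a' := by rw [ha', conjTranspose_submatrix, hah]
  have h2 : IsUnit a' := by rw [ha']; exact (Matrix.isUnit_submatrix_equiv e.symm e.symm).2 hau
  obtain ⟨p', hp', hpa⟩ := UnitaryConj.exists_sqrt τ hτ a' h1 h2
  have haa : a'.submatrix e e = a := by
    rw [ha', submatrix_submatrix]
    simp
  refine ⟨p'.submatrix e e, ?_, ?_⟩
  · rw [conjTranspose_submatrix, submatrix_mul_equiv, hpa, haa]
  · intro B hB
    have h3 : a' * B.submatrix e.symm e.symm = B.submatrix e.symm e.symm * a' := by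
      rw [ha', submatrix_mul_equiv, submatrix_mul_equiv, hB]
    have h4 := UnitaryConj.commute_of_mem_adjoin a' _ h3 p' hp'
    have h5 : (B.submatrix e.symm e.symm).submatrix e e = B := by
      rw [submatrix_submatrix]
      simp
    rw [← h5, submatrix_mul_equiv, submatrix_mul_equiv, h4]

end sqrt

section lang

variable {K : Type*} [Field K] [Fintype K] [StarRing K] {ι : Type*} [Fintype ι] [DecidableEq ι]

/-- **Lang-type count**: the invertible matrices commuting with a unitary `U` number the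
invertible Hermitian matrices commuting with `U` times the unitary matrices commuting with `U`. -/
theorem card_cent_eq (τ : K) (hτ : τ - star τ ≠ 0) (U : Matrix ι ι K) (hU : Uᴴ * U = 1) :
    Nat.card {g : Matrix ι ι K // g.det ≠ 0 ∧ g * U = U * g} =
      Nat.card {h : Matrix ι ι K // hᴴ = h ∧ h.det ≠ 0 ∧ h * U = U * h} *
      Nat.card {g : Matrix ι ι K // gᴴ * g = 1 ∧ g * U = U * g} := by
  have hU' : U * Uᴴ = 1 := mul_eq_one_comm.1 hU
  -- a section of `p ↦ pᴴ p`
  have hex : ∀ h : {h : Matrix ι ι K // hᴴ = h ∧ h.det ≠ 0 ∧ h * U = U * h},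
      ∃ p : Matrix ι ι K, pᴴ * p = h.1 ∧ p * U = U * p := by
    intro h
    obtain ⟨p, hp1, hp2⟩ := exists_sqrt' τ hτ h.1 h.2.1
      ((Matrix.isUnit_iff_isUnit_det _).2 (isUnit_iff_ne_zero.2 h.2.2.1))
    exact ⟨p, hp1, hp2 U h.2.2.2⟩
  choose s hs1 hs2 using hex
  have hsdet : ∀ h, (s h).det ≠ 0 := by
    intro h hd
    have := congrArg Matrix.det (hs1 h)
    rw [Matrix.det_mul, hd, mul_zero] at this
    exact h.2.2.1 this.symm
  rw [← Nat.card_prod]
  symm
  apply Nat.card_congr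
  refine Equiv.ofBijective
    (fun x => ⟨x.2.1 * s x.1, ?_, ?_⟩) ⟨?_, ?_⟩
  · rw [Matrix.det_mul]
    apply mul_ne_zero _ (hsdet x.1)
    intro hd
    have := congrArg Matrix.det x.2.2.1
    rw [Matrix.det_mul, hd, mul_zero, Matrix.det_one] at this
    exact zero_ne_one this
  · rw [Matrix.mul_assoc, hs2, ← Matrix.mul_assoc, x.2.2.2, Matrix.mul_assoc]
  · rintro ⟨h, g⟩ ⟨h', g'⟩ hxy
    have hxy' : g.1 * s h = g'.1 * s h' := congrArg Subtype.val hxy
    have key : ∀ (h : {h : Matrix ι ι K // hᴴ = h ∧ h.det ≠ 0 ∧ h * U = U * h})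
        (g : {g : Matrix ι ι K // gᴴ * g = 1 ∧ g * U = U * g}),
        (g.1 * s h)ᴴ * (g.1 * s h) = h.1 := by
      intro h g
      rw [conjTranspose_mul, Matrix.mul_assoc, ← Matrix.mul_assoc g.1ᴴ, g.2.1, Matrix.one_mul,
        hs1]
    have hh : h = h' := by
      apply Subtype.ext
      rw [← key h g, ← key h' g', hxy']
    subst hh
    have hg : g = g' := by
      apply Subtype.ext
      have hinv : s h * (s h)⁻¹ = 1 :=
        Matrix.mul_nonsing_inv _ (isUnit_iff_ne_zero.2 (hsdet h))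
      calc g.1 = g.1 * (s h * (s h)⁻¹) := by rw [hinv, Matrix.mul_one]
        _ = g'.1 * s h * (s h)⁻¹ := by rw [← Matrix.mul_assoc, hxy']
        _ = g'.1 := by rw [Matrix.mul_assoc, hinv, Matrix.mul_one]
    rw [hg]
  · rintro ⟨c, hc1, hc2⟩
    have hc3 : cᴴ * U = U * cᴴ := by
      have h1 : Uᴴ * cᴴ = cᴴ * Uᴴ := by
        rw [← conjTranspose_mul, ← conjTranspose_mul, hc2]
      calc cᴴ * U = (U * Uᴴ) * cᴴ * U := by rw [hU', Matrix.one_mul]
        _ = U * (Uᴴ * cᴴ) * U := by simp only [Matrix.mul_assoc]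
        _ = U * cᴴ * (Uᴴ * U) := by rw [h1]; simp only [Matrix.mul_assoc]
        _ = U * cᴴ := by rw [hU, Matrix.mul_one]
    have hcdet : cᴴ.det ≠ 0 := by
      rw [Matrix.det_conjTranspose]
      intro h
      apply hc1
      have := congrArg star h
      rwa [star_star, star_zero] at this
    let h : {h : Matrix ι ι K // hᴴ = h ∧ h.det ≠ 0 ∧ h * U = U * h} :=
      ⟨cᴴ * c, by rw [conjTranspose_mul, conjTranspose_conjTranspose],
        by rw [Matrix.det_mul]; exact mul_ne_zero hcdet hc1,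
        by rw [Matrix.mul_assoc, hc2, ← Matrix.mul_assoc, hc3, Matrix.mul_assoc]⟩
    have hinv : s h * (s h)⁻¹ = 1 :=
      Matrix.mul_nonsing_inv _ (isUnit_iff_ne_zero.2 (hsdet h))
    have hinv' : (s h)⁻¹ * s h = 1 :=
      Matrix.nonsing_inv_mul _ (isUnit_iff_ne_zero.2 (hsdet h))
    have hsinvU : (s h)⁻¹ * U = U * (s h)⁻¹ := by
      calc (s h)⁻¹ * U = (s h)⁻¹ * U * (s h * (s h)⁻¹) := by rw [hinv, Matrix.mul_one]
        _ = (s h)⁻¹ * (U * s h) * (s h)⁻¹ := by simp only [Matrix.mul_assoc]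
        _ = (s h)⁻¹ * (s h * U) * (s h)⁻¹ := by rw [hs2]
        _ = ((s h)⁻¹ * s h) * U * (s h)⁻¹ := by simp only [Matrix.mul_assoc]
        _ = U * (s h)⁻¹ := by rw [hinv', Matrix.one_mul]
    have hsH : ((s h)⁻¹)ᴴ * (s h)ᴴ = 1 := by
      rw [← conjTranspose_mul, hinv, conjTranspose_one]
    let g : {g : Matrix ι ι K // gᴴ * g = 1 ∧ g * U = U * g} :=
      ⟨c * (s h)⁻¹, by
        rw [conjTranspose_mul]
        calc ((s h)⁻¹)ᴴ * cᴴ * (c * (s h)⁻¹) = ((s h)⁻¹)ᴴ * (cᴴ * c) * (s h)⁻¹ := by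
              simp only [Matrix.mul_assoc]
          _ = ((s h)⁻¹)ᴴ * ((s h)ᴴ * s h) * (s h)⁻¹ := by rw [hs1 h]
          _ = (((s h)⁻¹)ᴴ * (s h)ᴴ) * (s h * (s h)⁻¹) := by simp only [Matrix.mul_assoc]
          _ = 1 := by rw [hsH, hinv, Matrix.one_mul],
        by rw [Matrix.mul_assoc, hsinvU, ← Matrix.mul_assoc, hc2, Matrix.mul_assoc]⟩
    refine ⟨(h, g), ?_⟩
    apply Subtype.ext
    show c * (s h)⁻¹ * s h = c
    rw [Matrix.mul_assoc, hinv', Matrix.mul_one]

end lang

section kap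

open Cfsg.Agent.Lib.Helper15.NilpotentConj

variable {F : Type*} [Field F] {ι : Type*} [Fintype ι] [DecidableEq ι]

/-- multiplying by a commuting unit does not change the kernel dimensions of the powers -/
lemma kap_mul_unit (A C : Matrix ι ι F) (hc : Commute A C) (hC : IsUnit C) (s : ℕ) :
    kap (Matrix.toLin' (A * C)) s = kap (Matrix.toLin' A) s := by
  unfold kap
  have h1 : LinearMap.ker ((Matrix.toLin' (A * C)) ^ s) = LinearMap.ker ((Matrix.toLin' A) ^ s) := by
    ext v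
    rw [LinearMap.mem_ker, LinearMap.mem_ker, ← Matrix.toLin'_pow, ← Matrix.toLin'_pow,
      Matrix.toLin'_apply, Matrix.toLin'_apply]
    have h2 : (A * C) ^ s = C ^ s * A ^ s := by
      rw [hc.mul_pow]
      exact ((hc.pow_pow s s).eq)
    rw [h2, ← Matrix.mulVec_mulVec]
    obtain ⟨u, hu⟩ := hC.pow s
    constructor
    · intro h
      have h3 : (↑u⁻¹ : Matrix ι ι F) *ᵥ (C ^ s *ᵥ (A ^ s *ᵥ v)) = 0 := by
        rw [h, Matrix.mulVec_zero]
      rw [Matrix.mulVec_mulVec, ← hu, ← Units.val_mul, inv_mul_cancel, Units.val_one,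
        Matrix.one_mulVec] at h3
      exact h3
    · intro h
      rw [h, Matrix.mulVec_zero]
  rw [h1]

end kap

section cent

variable {F : Type*} [Field F] {ι : Type*} [Fintype ι] [DecidableEq ι]

/-- centralisers of conjugate matrices correspond -/
def centEquiv (c : (Matrix ι ι F)ˣ) (A B : Matrix ι ι F)
    (h : (c : Matrix ι ι F) * A = B * (c : Matrix ι ι F)) :
    {g : Matrix ι ι F // g * B = B * g} ≃ {g : Matrix ι ι F // g * A = A * g} where
  toFun g := ⟨(↑c⁻¹ : Matrix ι ι F) * g.1 * (c : Matrix ι ι F), by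
    have h1 : (↑c⁻¹ : Matrix ι ι F) * B = A * (↑c⁻¹ : Matrix ι ι F) := by
      calc (↑c⁻¹ : Matrix ι ι F) * B = (↑c⁻¹ : Matrix ι ι F) * (B * (c : Matrix ι ι F)) *
            (↑c⁻¹ : Matrix ι ι F) := by
            rw [Matrix.mul_assoc, Matrix.mul_assoc, ← Units.val_mul, mul_inv_cancel, Units.val_one,
              Matrix.mul_one]
        _ = A * (↑c⁻¹ : Matrix ι ι F) := by
            rw [← h, ← Matrix.mul_assoc, ← Units.val_mul, inv_mul_cancel,
              Units.val_one, Matrix.one_mul]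
    calc (↑c⁻¹ : Matrix ι ι F) * g.1 * (c : Matrix ι ι F) * A
        = (↑c⁻¹ : Matrix ι ι F) * g.1 * (B * (c : Matrix ι ι F)) := by
          rw [Matrix.mul_assoc, h]
      _ = (↑c⁻¹ : Matrix ι ι F) * (g.1 * B) * (c : Matrix ι ι F) := by
          simp only [Matrix.mul_assoc]
      _ = ((↑c⁻¹ : Matrix ι ι F) * B) * g.1 * (c : Matrix ι ι F) := by
          rw [g.2]; simp only [Matrix.mul_assoc]
      _ = A * ((↑c⁻¹ : Matrix ι ι F) * g.1 * (c : Matrix ι ι F)) := by
          rw [h1]; simp only [Matrix.mul_assoc]⟩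
  invFun g := ⟨(c : Matrix ι ι F) * g.1 * (↑c⁻¹ : Matrix ι ι F), by
    have h1 : (↑c⁻¹ : Matrix ι ι F) * B = A * (↑c⁻¹ : Matrix ι ι F) := by
      calc (↑c⁻¹ : Matrix ι ι F) * B = (↑c⁻¹ : Matrix ι ι F) * (B * (c : Matrix ι ι F)) *
            (↑c⁻¹ : Matrix ι ι F) := by
            rw [Matrix.mul_assoc, Matrix.mul_assoc, ← Units.val_mul, mul_inv_cancel, Units.val_one,
              Matrix.mul_one]
        _ = A * (↑c⁻¹ : Matrix ι ι F) := by
            rw [← h, ← Matrix.mul_assoc, ← Units.val_mul, inv_mul_cancel,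
              Units.val_one, Matrix.one_mul]
    calc (c : Matrix ι ι F) * g.1 * (↑c⁻¹ : Matrix ι ι F) * B
        = (c : Matrix ι ι F) * g.1 * (A * (↑c⁻¹ : Matrix ι ι F)) := by
          rw [Matrix.mul_assoc, h1]
      _ = (c : Matrix ι ι F) * (g.1 * A) * (↑c⁻¹ : Matrix ι ι F) := by
          simp only [Matrix.mul_assoc]
      _ = ((c : Matrix ι ι F) * A) * g.1 * (↑c⁻¹ : Matrix ι ι F) := by
          rw [g.2]; simp only [Matrix.mul_assoc]
      _ = B * ((c : Matrix ι ι F) * g.1 * (↑c⁻¹ : Matrix ι ι F)) := by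
          rw [h]; simp only [Matrix.mul_assoc]⟩
  left_inv g := by
    apply Subtype.ext
    show (c : Matrix ι ι F) * ((↑c⁻¹ : Matrix ι ι F) * g.1 * (c : Matrix ι ι F)) *
      (↑c⁻¹ : Matrix ι ι F) = g.1
    have h1 : (c : Matrix ι ι F) * (↑c⁻¹ : Matrix ι ι F) = 1 := by
      rw [← Units.val_mul, mul_inv_cancel, Units.val_one]
    calc (c : Matrix ι ι F) * ((↑c⁻¹ : Matrix ι ι F) * g.1 * (c : Matrix ι ι F)) *
        (↑c⁻¹ : Matrix ι ι F) = ((c : Matrix ι ι F) * (↑c⁻¹ : Matrix ι ι F)) * g.1 *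
          ((c : Matrix ι ι F) * (↑c⁻¹ : Matrix ι ι F)) := by simp only [Matrix.mul_assoc]
      _ = g.1 := by rw [h1, Matrix.one_mul, Matrix.mul_one]
  right_inv g := by
    apply Subtype.ext
    show (↑c⁻¹ : Matrix ι ι F) * ((c : Matrix ι ι F) * g.1 * (↑c⁻¹ : Matrix ι ι F)) *
      (c : Matrix ι ι F) = g.1
    have h1 : (↑c⁻¹ : Matrix ι ι F) * (c : Matrix ι ι F) = 1 := by
      rw [← Units.val_mul, inv_mul_cancel, Units.val_one]
    calc (↑c⁻¹ : Matrix ι ι F) * ((c : Matrix ι ι F) * g.1 * (↑c⁻¹ : Matrix ι ι F)) *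
        (c : Matrix ι ι F) = ((↑c⁻¹ : Matrix ι ι F) * (c : Matrix ι ι F)) * g.1 *
          ((↑c⁻¹ : Matrix ι ι F) * (c : Matrix ι ι F)) := by simp only [Matrix.mul_assoc]
      _ = g.1 := by rw [h1, Matrix.one_mul, Matrix.mul_one]

lemma centEquiv_apply (c : (Matrix ι ι F)ˣ) (A B : Matrix ι ι F)
    (h : (c : Matrix ι ι F) * A = B * (c : Matrix ι ι F)) (g : {g : Matrix ι ι F // g * B = B * g}) :
    (centEquiv c A B h g).1 = (↑c⁻¹ : Matrix ι ι F) * g.1 * (c : Matrix ι ι F) := rfl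

end cent

end Cfsg.Agent.Lib.Helper15.GUCent
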