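import Mathlib
import Cfsg.Agent.S2581
import Cfsg.Agent.Lib.Helper15.GUCentA

/-!
helper15: the centraliser algebra of the standard nilpotent matrix of Jordan type `d`, with the
twisted adjoint coming from the block-exchange Hermitian form; count of its invertible symmetric
elements.
-/

set_option autoImplicit false

namespace Cfsg.Agent.Lib.Helper15.GUCent

open Matrix Cfsg.Agent.S2581

section model

variable {K : Type*} [Field K] [StarRing K] {t : ℕ} (d : Fin t → ℕ)

/-- reversal within blocks -/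
def rev (x : (k : Fin t) × Fin (d k)) : (k : Fin t) × Fin (d k) :=
  ⟨x.1, ⟨d x.1 - 1 - x.2.1, by have := x.2.2; omega⟩⟩

lemma rev_fst (x : (k : Fin t) × Fin (d k)) : (rev d x).1 = x.1 := rfl

lemma rev_snd (x : (k : Fin t) × Fin (d k)) : (rev d x).2.1 = d x.1 - 1 - x.2.1 := rfl

lemma rev_rev (x : (k : Fin t) × Fin (d k)) : rev d (rev d x) = x := by
  apply idx_ext
  · rfl
  · rw [rev_snd, rev_snd, rev_fst]
    have := x.2.2
    omega

/-- reversal as a permutation -/
def revEquiv : ((k : Fin t) × Fin (d k)) ≃ ((k : Fin t) × Fin (d k)) where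
  toFun := rev d
  invFun := rev d
  left_inv := rev_rev d
  right_inv := rev_rev d

/-- the twisted adjoint -/
def sig : Matrix ((k : Fin t) × Fin (d k)) ((k : Fin t) × Fin (d k)) K →+
    Matrix ((k : Fin t) × Fin (d k)) ((k : Fin t) × Fin (d k)) K where
  toFun c := fun x y => star (c (rev d y) (rev d x))
  map_zero' := by
    funext x y
    simp
  map_add' c c' := by
    funext x y
    show star ((c + c') (rev d y) (rev d x)) = _
    rw [Matrix.add_apply, star_add]
    rfl

lemma sig_apply (c : Matrix ((k : Fin t) × Fin (d k)) ((k : Fin t) × Fin (d k)) K)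
    (x y : (k : Fin t) × Fin (d k)) : sig d c x y = star (c (rev d y) (rev d x)) := rfl

lemma sig_sig (c : Matrix ((k : Fin t) × Fin (d k)) ((k : Fin t) × Fin (d k)) K) :
    sig d (sig d c) = c := by
  funext x y
  rw [sig_apply, sig_apply, star_star, rev_rev, rev_rev]

lemma sig_smul (a : K) (c : Matrix ((k : Fin t) × Fin (d k)) ((k : Fin t) × Fin (d k)) K) :
    sig d (a • c) = star a • sig d c := by
  funext x y
  rw [sig_apply, Matrix.smul_apply, Matrix.smul_apply, sig_apply, smul_eq_mul, smul_eq_mul,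
    star_mul', ]

lemma sig_mul (c c' : Matrix ((k : Fin t) × Fin (d k)) ((k : Fin t) × Fin (d k)) K) :
    sig d (c * c') = sig d c' * sig d c := by
  funext x y
  rw [sig_apply, Matrix.mul_apply, Matrix.mul_apply, star_sum]
  rw [← Equiv.sum_comp (revEquiv d)]
  apply Finset.sum_congr rfl
  intro z _
  rw [sig_apply, sig_apply, star_mul']
  show star (c (rev d y) (rev d z)) * star (c' (rev d z) (rev d x)) = _
  rw [mul_comm]

lemma sig_Nmat : sig d (Nmat (F := K) d) = Nmat d := by
  funext x y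
  rw [sig_apply, Nmat_apply, Nmat_apply]
  have hx := x.2.2
  have hy := y.2.2
  by_cases h : x.1 = y.1 ∧ x.2.1 = y.2.1 + 1
  · rw [if_pos h, if_pos, star_one]
    refine ⟨h.1.symm, ?_⟩
    rw [rev_snd, rev_snd]
    have h1 : d x.1 = d y.1 := by rw [h.1]
    omega
  · rw [if_neg h, if_neg, star_zero]
    rintro ⟨h1, h2⟩
    apply h
    rw [rev_fst, rev_fst] at h1
    refine ⟨h1.symm, ?_⟩
    rw [rev_snd, rev_snd] at h2
    have h3 : d x.1 = d y.1 := by rw [h1]
    omega

lemma sig_comm (c : Matrix ((k : Fin t) × Fin (d k)) ((k : Fin t) × Fin (d k)) K)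
    (hc : c * Nmat d = Nmat d * c) : sig d c * Nmat d = Nmat d * sig d c := by
  have := congrArg (sig d) hc
  rw [sig_mul, sig_mul, sig_Nmat] at this
  exact this.symm

end model

section alg

variable {K : Type*} [Field K] [StarRing K] {t : ℕ} (d : Fin t → ℕ) (hd : ∀ k, 1 ≤ d k)

/-- the centraliser algebra as a submodule -/
def Acomm : Submodule K (Matrix ((k : Fin t) × Fin (d k)) ((k : Fin t) × Fin (d k)) K) where
  carrier := {c | c * Nmat d = Nmat d * c}
  add_mem' := by
    intro a b ha hb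
    show (a + b) * Nmat d = Nmat d * (a + b)
    rw [Matrix.add_mul, Matrix.mul_add, ha, hb]
  zero_mem' := by
    show (0 : Matrix _ _ K) * Nmat d = Nmat d * 0
    rw [Matrix.zero_mul, Matrix.mul_zero]
  smul_mem' := by
    intro a c hc
    show (a • c) * Nmat d = Nmat d * (a • c)
    rw [Matrix.smul_mul, Matrix.mul_smul, hc]

omit [StarRing K] in
lemma mem_Acomm (c : Matrix ((k : Fin t) × Fin (d k)) ((k : Fin t) × Fin (d k)) K) :
    c ∈ Acomm d ↔ c * Nmat d = Nmat d * c := Iff.rfl

/-- the centraliser algebra in terms of generator images -/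
def commEquiv : ↥(Acomm (K := K) d) ≃ ((l : Fin t) → ↥(Ksub (F := K) d (d l))) where
  toFun g := fun l => ⟨g.1 *ᵥ ev d (gen d hd l), gen_mem d hd g.1 g.2 l⟩
  invFun w := ⟨Psi d (fun l => (w l).1), Psi_comm (F := K) d _ (fun l => (w l).2)⟩
  left_inv g := Subtype.ext (eq_Psi d hd g.1 g.2).symm
  right_inv w := funext fun l => Subtype.ext (Psi_gen (F := K) d hd (fun l => (w l).1) l)

include hd in
omit [StarRing K] in
lemma card_Acomm [Fintype K] :
    Nat.card ↥(Acomm (K := K) d) = Fintype.card K ^ (∑ l, ∑ k, min (d k) (d l)) := by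
  rw [Nat.card_congr (commEquiv d hd), card_W]

/-- the twisted adjoint on the centraliser algebra -/
def sigA : ↥(Acomm (K := K) d) →+ ↥(Acomm (K := K) d) where
  toFun c := ⟨sig d c.1, sig_comm d c.1 c.2⟩
  map_zero' := Subtype.ext (map_zero (sig d))
  map_add' a b := Subtype.ext (map_add (sig d) a.1 b.1)

/-- symmetric elements of the centraliser algebra -/
def SymSub : AddSubgroup ↥(Acomm (K := K) d) :=
  AddMonoidHom.eqLocus (sigA d) (AddMonoidHom.id _)

lemma mem_SymSub (c : ↥(Acomm (K := K) d)) : c ∈ SymSub d ↔ sig d c.1 = c.1 := by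
  change sigA d c = c ↔ _
  constructor
  · intro h
    exact congrArg Subtype.val h
  · intro h
    exact Subtype.ext h

lemma card_SymSub_sq (μ : K) (hμ : μ - star μ ≠ 0) :
    Nat.card ↥(Acomm (K := K) d) = Nat.card ↥(SymSub (K := K) d) ^ 2 := by
  have h := card_eq_card_fix_sq μ hμ (sigA (K := K) d)
    (fun v => Subtype.ext (sig_sig d v.1)) (fun a v => Subtype.ext (sig_smul d a v.1))
  rw [h]
  rfl

/-- the diagonal blocks of the socle matrix -/
def Dl : ↥(Acomm (K := K) d) →+ ((a : (Fin (Finset.univ.sup d + 1))ᵒᵈ) →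
    Matrix {k // blab d k = a} {k // blab d k = a} K) where
  toFun c := fun a => (Rmat d hd c.1).toSquareBlock (blab d) a
  map_zero' := by
    funext a
    ext i j
    rfl
  map_add' c c' := by
    funext a
    ext i j
    rfl

omit [StarRing K] in
lemma Dl_apply (c : ↥(Acomm (K := K) d)) (a : (Fin (Finset.univ.sup d + 1))ᵒᵈ)
    (i j : {k // blab d k = a}) :
    Dl d hd c a i j = c.1 (top d hd i.1) (top d hd j.1) := rfl

omit [StarRing K] in
lemma Rmat_blockTriangular (c : Matrix ((k : Fin t) × Fin (d k)) ((k : Fin t) × Fin (d k)) K)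
    (hc : c * Nmat d = Nmat d * c) : (Rmat d hd c).BlockTriangular (blab d) := by
  rw [blockTriangular_iff]
  intro k l hkl
  have h1 := eq_Psi d hd c hc
  have h2 := rho_apply d hd (fun l => ⟨c *ᵥ ev d (gen d hd l), gen_mem d hd c hc l⟩) k l
  rw [rho_eq] at h2
  simp only at h2
  rw [← h1, if_neg (by omega)] at h2
  exact h2

omit [StarRing K] in
lemma det_ne_zero_iff (c : Matrix ((k : Fin t) × Fin (d k)) ((k : Fin t) × Fin (d k)) K)
    (hc : c * Nmat d = Nmat d * c) :
    c.det ≠ 0 ↔ ∀ a, ((Rmat d hd c).toSquareBlock (blab d) a).det ≠ 0 := by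
  rw [Ne, det_eq_zero_iff d hd c hc, (Rmat_blockTriangular d hd c hc).det_fintype,
    Finset.prod_eq_zero_iff]
  constructor
  · intro h a ha
    exact h ⟨a, Finset.mem_univ _, ha⟩
  · rintro h ⟨a, _, ha⟩
    exact h a ha

lemma rev_top (l : Fin t) : rev d (top d hd l) = gen d hd l := by
  apply idx_ext
  · rfl
  · rw [rev_snd]
    simp [top, gen]

omit [StarRing K] in
lemma comm_gen_top (c : Matrix ((k : Fin t) × Fin (d k)) ((k : Fin t) × Fin (d k)) K)
    (hc : c * Nmat d = Nmat d * c) (k l : Fin t) (hkl : d k = d l) :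
    c (top d hd l) (top d hd k) = c (gen d hd l) (gen d hd k) := by
  have h1 : ev (F := K) d (top d hd k) = (Nmat d) ^ (d k - 1) *ᵥ ev d (gen d hd k) := by
    rw [pow_mulVec_ev, dif_pos]
    · congr 1
      apply idx_ext
      · rfl
      · simp [top, gen]
    · have := hd k
      simp only [gen]
      omega
  have h2 : c (top d hd l) (top d hd k) = (c *ᵥ ev d (top d hd k)) (top d hd l) := by
    rw [mulVec_ev]
  rw [h2, h1, Matrix.mulVec_mulVec, comm_pow d c hc, ← Matrix.mulVec_mulVec, Nmat_pow_mulVec,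
    if_pos, mulVec_ev]
  · congr 1
    apply idx_ext
    · rfl
    · rw [pred_snd]
      simp only [top, gen]
      omega
  · simp only [top]
    omega

lemma Rmat_sig (c : Matrix ((k : Fin t) × Fin (d k)) ((k : Fin t) × Fin (d k)) K)
    (hc : c * Nmat d = Nmat d * c) (k l : Fin t) (hkl : d k = d l) :
    Rmat d hd (sig d c) k l = star (Rmat d hd c l k) := by
  show sig d c (top d hd k) (top d hd l) = star (c (top d hd l) (top d hd k))
  rw [sig_apply, rev_top, rev_top, comm_gen_top d hd c hc k l hkl]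

lemma Dl_sigA (c : ↥(Acomm (K := K) d)) (a : (Fin (Finset.univ.sup d + 1))ᵒᵈ) :
    Dl d hd (sigA d c) a = (Dl d hd c a)ᴴ := by
  ext i j
  rw [conjTranspose_apply, Dl_apply, Dl_apply]
  have hij : d i.1 = d j.1 := by
    have := i.2.trans j.2.symm
    exact (blab_eq d i.1 j.1).1 this
  exact Rmat_sig d hd c.1 c.2 i.1 j.1 hij

omit [StarRing K] in
lemma Dl_smul (a' : K) (c : ↥(Acomm (K := K) d)) (a : (Fin (Finset.univ.sup d + 1))ᵒᵈ) :
    Dl d hd (a' • c) a = a' • Dl d hd c a := by
  ext i j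
  rfl

/-- symmetric elements with prescribed Hermitian diagonal blocks -/
lemma exists_sym (lam : K) (hlam : lam + star lam = 1)
    (x : (a : (Fin (Finset.univ.sup d + 1))ᵒᵈ) →
      Matrix {k // blab d k = a} {k // blab d k = a} K) (hx : ∀ a, (x a)ᴴ = x a) :
    ∃ c : ↥(Acomm (K := K) d), c ∈ SymSub d ∧ Dl d hd c = x := by
  classical
  let w0 : (l : Fin t) → (((k : Fin t) × Fin (d k)) → K) := fun l y =>
    if h : d y.1 = d l ∧ y.2.1 = 0 then
      x (blab d l) ⟨y.1, (blab_eq d y.1 l).2 h.1⟩ ⟨l, rfl⟩ else 0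
  have hw0 : ∀ l, w0 l ∈ Ksub d (d l) := by
    intro l
    rw [mem_Ksub]
    intro y hy
    simp only [w0]
    rw [dif_neg]
    rintro ⟨h1, _⟩
    omega
  let c0 : ↥(Acomm (K := K) d) := ⟨Psi d w0, Psi_comm (F := K) d w0 hw0⟩
  have hc0 : Dl d hd c0 = x := by
    funext a
    ext i j
    obtain ⟨j, rfl⟩ := j
    have hij : d i.1 = d j := (blab_eq d i.1 j).1 i.2
    have h2 := rho_apply d hd (fun l => ⟨w0 l, hw0 l⟩) i.1 j
    rw [rho_eq] at h2
    show Rmat d hd (Psi d w0) i.1 j = _
    simp only at h2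
    rw [h2, if_pos (by omega)]
    simp only [w0]
    rw [dif_pos ⟨hij, by omega⟩]
  refine ⟨lam • c0 + sigA d (lam • c0), ?_, ?_⟩
  · rw [mem_SymSub]
    show sig d ((lam • c0).1 + sig d (lam • c0).1) = (lam • c0).1 + sig d (lam • c0).1
    rw [map_add, sig_sig, add_comm]
  · funext a
    rw [map_add, Pi.add_apply, Dl_sigA, Dl_smul, hc0, conjTranspose_smul, hx a, ← add_smul, hlam,
      one_smul]

end alg

section count

variable {K : Type*} [Field K] [Fintype K] [StarRing K]

/-- the number of Hermitian matrices -/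
lemma card_hermitian {κ : Type*} [Fintype κ] [DecidableEq κ] (μ : K) (hμ : μ - star μ ≠ 0) {q : ℕ}
    (hK : Fintype.card K = q ^ 2) :
    Nat.card {h : Matrix κ κ K // hᴴ = h} = q ^ (Fintype.card κ ^ 2) := by
  have h := card_eq_card_fix_sq μ hμ
    ((Matrix.conjTransposeAddEquiv κ κ K).toAddMonoidHom)
    (fun v => conjTranspose_conjTranspose v) (fun a v => conjTranspose_smul a v)
  have h2 : Nat.card (Matrix κ κ K) = (q ^ (Fintype.card κ ^ 2)) ^ 2 := by
    show Nat.card (κ → κ → K) = _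
    rw [Nat.card_fun, Nat.card_fun, Nat.card_eq_fintype_card (α := K), hK,
      Nat.card_eq_fintype_card, ← pow_mul, ← pow_mul, ← pow_mul]
    congr 1
    ring
  rw [h2] at h
  exact (Nat.pow_left_injective (by norm_num : 2 ≠ 0) h).symm

variable {t : ℕ} (d : Fin t → ℕ) (hd : ∀ k, 1 ≤ d k)

include hd in
/-- **the number of invertible symmetric elements of the centraliser algebra** -/
theorem card_symm_units (μ : K) (hμ : μ - star μ ≠ 0) (lam : K) (hlam : lam + star lam = 1)
    {q : ℕ} (hK : Fintype.card K = q ^ 2) :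
    Nat.card {c : Matrix ((k : Fin t) × Fin (d k)) ((k : Fin t) × Fin (d k)) K //
      c * Nmat d = Nmat d * c ∧ sig d c = c ∧ c.det ≠ 0} =
    q ^ (2 * (∑ i ∈ Finset.range (Finset.univ.sup d + 1),
      ∑ j ∈ Finset.range (Finset.univ.sup d + 1),
        if i < j then i * Amul d i * Amul d j else 0) +
      ∑ i ∈ Finset.range (Finset.univ.sup d + 1), (i - 1) * Amul d i ^ 2) *
    ∏ a : (Fin (Finset.univ.sup d + 1))ᵒᵈ,
      Nat.card {h : Matrix {k // blab d k = a} {k // blab d k = a} K // hᴴ = h ∧ h.det ≠ 0} := by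
  classical
  have hq : 0 < q := by
    rcases Nat.eq_zero_or_pos q with h | h
    · rw [h] at hK
      simp at hK
    · exact h
  let f : ↥(SymSub (K := K) d) →+ ((a : (Fin (Finset.univ.sup d + 1))ᵒᵈ) →
      Matrix {k // blab d k = a} {k // blab d k = a} K) := (Dl d hd).comp (SymSub d).subtype
  have hf : ∀ c : ↥(SymSub (K := K) d), f c = Dl d hd c.1 := fun _ => rfl
  have hrange : ∀ x, x ∈ f.range ↔ ∀ a, (x a)ᴴ = x a := by
    intro x
    constructor
    · rintro ⟨c, rfl⟩ a
      rw [hf, ← Dl_sigA]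
      have : sigA d c.1 = c.1 := Subtype.ext ((mem_SymSub d c.1).1 c.2)
      rw [this]
    · intro hx
      obtain ⟨c, hc1, hc2⟩ := exists_sym d hd lam hlam x hx
      exact ⟨⟨c, hc1⟩, hc2⟩
  -- the cardinality of the symmetric part
  have hsym : Nat.card ↥(SymSub (K := K) d) = q ^ (∑ l, ∑ k, min (d k) (d l)) := by
    have h1 := card_SymSub_sq (K := K) d μ hμ
    rw [card_Acomm d hd, hK, ← pow_mul, mul_comm, pow_mul] at h1
    exact (Nat.pow_left_injective (by norm_num : 2 ≠ 0) h1).symm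
  -- the range
  have hcr : Nat.card {b : (a : (Fin (Finset.univ.sup d + 1))ᵒᵈ) →
      Matrix {k // blab d k = a} {k // blab d k = a} K // b ∈ f.range ∧ b ∈ Set.univ} =
      q ^ (∑ a, fcard d a ^ 2) := by
    have e : {b : (a : (Fin (Finset.univ.sup d + 1))ᵒᵈ) →
        Matrix {k // blab d k = a} {k // blab d k = a} K // b ∈ f.range ∧ b ∈ Set.univ} ≃
        ((a : (Fin (Finset.univ.sup d + 1))ᵒᵈ) →
          {h : Matrix {k // blab d k = a} {k // blab d k = a} K // hᴴ = h}) :=
      (Equiv.subtypeEquivRight (fun b => by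
        rw [hrange]
        simp)).trans Equiv.subtypePiEquivPi
    rw [Nat.card_congr e, Nat.card_pi, ← Finset.prod_pow_eq_pow_sum]
    apply Finset.prod_congr rfl
    intro a _
    rw [card_hermitian μ hμ hK]
    rfl
  have hcu : Nat.card {b : (a : (Fin (Finset.univ.sup d + 1))ᵒᵈ) →
      Matrix {k // blab d k = a} {k // blab d k = a} K //
        b ∈ f.range ∧ b ∈ {x | ∀ a, (x a).det ≠ 0}} =
      ∏ a : (Fin (Finset.univ.sup d + 1))ᵒᵈ,
        Nat.card {h : Matrix {k // blab d k = a} {k // blab d k = a} K // hᴴ = h ∧ h.det ≠ 0} := by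
    have e : {b : (a : (Fin (Finset.univ.sup d + 1))ᵒᵈ) →
        Matrix {k // blab d k = a} {k // blab d k = a} K //
          b ∈ f.range ∧ b ∈ {x | ∀ a, (x a).det ≠ 0}} ≃
        ((a : (Fin (Finset.univ.sup d + 1))ᵒᵈ) →
          {h : Matrix {k // blab d k = a} {k // blab d k = a} K // hᴴ = h ∧ h.det ≠ 0}) :=
      (Equiv.subtypeEquivRight (fun b => by
        rw [hrange, Set.mem_ofPred_eq, ← forall_and])).trans Equiv.subtypePiEquivPi
    rw [Nat.card_congr e, Nat.card_pi]
  have h1 := card_preimage_add f Set.univ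
  have h2 := card_preimage_add f {x | ∀ a, (x a).det ≠ 0}
  rw [hcr] at h1
  rw [hcu] at h2
  have h3 : Nat.card {a : ↥(SymSub (K := K) d) // f a ∈ Set.univ} =
      Nat.card ↥(SymSub (K := K) d) :=
    Nat.card_congr (Equiv.subtypeUnivEquiv (fun _ => Set.mem_univ _))
  rw [h3, hsym, ← exponent_identity d hd, ← sum_fcard_sq, pow_add] at h1
  have hker : Nat.card f.ker = q ^ (2 * (∑ i ∈ Finset.range (Finset.univ.sup d + 1),
      ∑ j ∈ Finset.range (Finset.univ.sup d + 1),
        if i < j then i * Amul d i * Amul d j else 0) +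
      ∑ i ∈ Finset.range (Finset.univ.sup d + 1), (i - 1) * Amul d i ^ 2) :=
    (Nat.eq_of_mul_eq_mul_right (pow_pos hq _) h1).symm
  rw [← hker, ← h2]
  apply Nat.card_congr
  refine
    { toFun := fun c => ⟨⟨⟨c.1, c.2.1⟩, (mem_SymSub d _).2 c.2.2.1⟩, ?_⟩
      invFun := fun c => ⟨c.1.1.1, c.1.1.2, (mem_SymSub d _).1 c.1.2, ?_⟩
      left_inv := fun _ => rfl
      right_inv := fun _ => rfl }
  · show ∀ a, (Dl d hd ⟨c.1, c.2.1⟩ a).det ≠ 0
    exact (det_ne_zero_iff d hd c.1 c.2.1).1 c.2.2.2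
  · have : ∀ a, (Dl d hd c.1.1 a).det ≠ 0 := c.2
    exact (det_ne_zero_iff d hd c.1.1.1 c.1.1.2).2 this

end count

end Cfsg.Agent.Lib.Helper15.GUCent
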