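import Mathlib
import Cfsg.Agent.Lib.Helper15.GUCentB
import Cfsg.Agent.Lib.Helper15.UniJordan

/-!
helper15: transfer from a unitary unipotent matrix of Jordan type `d` to the standard model of
`GUCentB`: a self-adjoint nilpotent generator of the same centraliser, congruence of forms.
-/

set_option autoImplicit false

namespace Cfsg.Agent.Lib.Helper15.GUCent

open Matrix Cfsg.Agent.S2581 Cfsg.Agent.Lib.Helper15.NilpotentConj
  Cfsg.Agent.Lib.Helper15.UniJordan

section forms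

variable {K : Type*} [Field K] [StarRing K] {t : ℕ} (d : Fin t → ℕ)

omit [StarRing K] in
lemma Nmat_rev (x y : (k : Fin t) × Fin (d k)) :
    Nmat (F := K) d (rev d y) (rev d x) = Nmat d x y := by
  rw [Nmat_apply, Nmat_apply]
  have hx := x.2.2
  have hy := y.2.2
  by_cases h : x.1 = y.1 ∧ x.2.1 = y.2.1 + 1
  · rw [if_pos h, if_pos]
    refine ⟨h.1.symm, ?_⟩
    rw [rev_snd, rev_snd]
    have h1 : d x.1 = d y.1 := by rw [h.1]
    omega
  · rw [if_neg h, if_neg]
    rintro ⟨h1, h2⟩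
    apply h
    rw [rev_fst, rev_fst] at h1
    refine ⟨h1.symm, ?_⟩
    rw [rev_snd, rev_snd] at h2
    have h3 : d x.1 = d y.1 := by rw [h1]
    omega

lemma Nmat_conjTranspose : (Nmat (F := K) d)ᴴ = (Nmat d)ᵀ := by
  ext x y
  rw [conjTranspose_apply, transpose_apply, Nmat_apply]
  split_ifs
  · exact star_one K
  · exact star_zero K

omit [Field K] [StarRing K] in
lemma submatrix_rev_rev (M : Matrix ((k : Fin t) × Fin (d k)) ((k : Fin t) × Fin (d k)) K) :
    (M.submatrix (rev d) id).submatrix (rev d) id = M := by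
  ext x y
  show M (rev d (rev d x)) y = M x y
  rw [rev_rev]

omit [StarRing K] in
lemma det_submatrix_rev (M : Matrix ((k : Fin t) × Fin (d k)) ((k : Fin t) × Fin (d k)) K)
    (h : M.det ≠ 0) : (M.submatrix (rev d) id).det ≠ 0 := by
  have h1 := Matrix.det_permute (revEquiv d) M
  have h2 : M.submatrix (⇑(revEquiv d)) id = M.submatrix (rev d) id := rfl
  rw [h2] at h1
  rw [h1]
  apply mul_ne_zero _ h
  rcases Int.units_eq_one_or (Equiv.Perm.sign (revEquiv d)) with h3 | h3 <;> simp [h3]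

omit [StarRing K] in
lemma form_to_comm (M : Matrix ((k : Fin t) × Fin (d k)) ((k : Fin t) × Fin (d k)) K)
    (hM : M * Nmat d = (Nmat d)ᵀ * M) :
    M.submatrix (rev d) id * Nmat d = Nmat d * M.submatrix (rev d) id := by
  ext x y
  have h1 : (M.submatrix (rev d) id * Nmat (F := K) d) x y = (M * Nmat (F := K) d) (rev d x) y := by
    rw [Matrix.mul_apply, Matrix.mul_apply]
    rfl
  rw [h1, hM, Matrix.mul_apply, Matrix.mul_apply, ← Equiv.sum_comp (revEquiv d)]
  apply Finset.sum_congr rfl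
  intro z _
  show (Nmat (F := K) d)ᵀ (rev d x) (rev d z) * M (rev d z) y = Nmat d x z * M (rev d z) y
  rw [transpose_apply, Nmat_rev]

omit [StarRing K] in
lemma comm_to_form (c : Matrix ((k : Fin t) × Fin (d k)) ((k : Fin t) × Fin (d k)) K)
    (hc : c * Nmat d = Nmat d * c) :
    c.submatrix (rev d) id * Nmat d = (Nmat d)ᵀ * c.submatrix (rev d) id := by
  ext x y
  have h1 : (c.submatrix (rev d) id * Nmat (F := K) d) x y = (c * Nmat (F := K) d) (rev d x) y := by
    rw [Matrix.mul_apply, Matrix.mul_apply]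
    rfl
  rw [h1, hc, Matrix.mul_apply, Matrix.mul_apply, ← Equiv.sum_comp (revEquiv d)]
  apply Finset.sum_congr rfl
  intro z _
  show Nmat (F := K) d (rev d x) (rev d z) * c (rev d z) y = (Nmat d)ᵀ x z * c (rev d z) y
  rw [transpose_apply, Nmat_rev]

/-- Hermitian forms making the nilpotent part self-adjoint vs symmetric elements of the
centraliser algebra -/
def formEquiv :
    {M : Matrix ((k : Fin t) × Fin (d k)) ((k : Fin t) × Fin (d k)) K //
      Mᴴ = M ∧ M.det ≠ 0 ∧ M * Nmat d = (Nmat d)ᵀ * M} ≃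
    {c : Matrix ((k : Fin t) × Fin (d k)) ((k : Fin t) × Fin (d k)) K //
      c * Nmat d = Nmat d * c ∧ sig d c = c ∧ c.det ≠ 0} where
  toFun M := ⟨M.1.submatrix (rev d) id, form_to_comm d M.1 M.2.2.2, by
    ext x y
    rw [sig_apply]
    show star (M.1 (rev d (rev d y)) (rev d x)) = M.1 (rev d x) y
    rw [rev_rev, ← conjTranspose_apply, M.2.1], det_submatrix_rev d M.1 M.2.2.1⟩
  invFun c := ⟨c.1.submatrix (rev d) id, by
    ext x y
    rw [conjTranspose_apply]
    show star (c.1 (rev d y) x) = c.1 (rev d x) y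
    have h1 := congrFun (congrFun c.2.2.1 (rev d x)) y
    rw [sig_apply, rev_rev] at h1
    exact h1, det_submatrix_rev d c.1 c.2.2.2, comm_to_form d c.1 c.2.1⟩
  left_inv M := Subtype.ext (submatrix_rev_rev d M.1)
  right_inv c := Subtype.ext (submatrix_rev_rev d c.1)

end forms

section cong

variable {K : Type*} [Field K] [StarRing K] {ι : Type*} [Fintype ι] [DecidableEq ι]

/-- congruence by a unit intertwining `A` with a self-adjoint `B` -/
def congEquiv (c : (Matrix ι ι K)ˣ) (A B : Matrix ι ι K) (hB : Bᴴ = B)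
    (h : (c : Matrix ι ι K) * A = B * (c : Matrix ι ι K)) :
    {h : Matrix ι ι K // hᴴ = h ∧ h.det ≠ 0 ∧ h * B = B * h} ≃
    {M : Matrix ι ι K // Mᴴ = M ∧ M.det ≠ 0 ∧ M * A = Aᴴ * M} where
  toFun x := ⟨(c : Matrix ι ι K)ᴴ * x.1 * (c : Matrix ι ι K), by
    rw [conjTranspose_mul, conjTranspose_mul, conjTranspose_conjTranspose, x.2.1, Matrix.mul_assoc],
    by
      have hc : (c : Matrix ι ι K).det ≠ 0 := (Matrix.isUnits_det_units c).ne_zero
      rw [det_mul, det_mul, det_conjTranspose]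
      exact mul_ne_zero (mul_ne_zero (star_ne_zero.2 hc) x.2.2.1) hc,
    by
      calc (c : Matrix ι ι K)ᴴ * x.1 * (c : Matrix ι ι K) * A
          = (c : Matrix ι ι K)ᴴ * (x.1 * B) * (c : Matrix ι ι K) := by
            rw [Matrix.mul_assoc, h]; simp only [Matrix.mul_assoc]
        _ = (B * (c : Matrix ι ι K))ᴴ * x.1 * (c : Matrix ι ι K) := by
            rw [x.2.2.2, conjTranspose_mul, hB]; simp only [Matrix.mul_assoc]
        _ = Aᴴ * ((c : Matrix ι ι K)ᴴ * x.1 * (c : Matrix ι ι K)) := by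
            rw [← h, conjTranspose_mul]; simp only [Matrix.mul_assoc]⟩
  invFun M := ⟨(↑c⁻¹ : Matrix ι ι K)ᴴ * M.1 * (↑c⁻¹ : Matrix ι ι K), by
    rw [conjTranspose_mul, conjTranspose_mul, conjTranspose_conjTranspose, M.2.1, Matrix.mul_assoc],
    by
      have hc : (↑c⁻¹ : Matrix ι ι K).det ≠ 0 := (Matrix.isUnits_det_units c⁻¹).ne_zero
      rw [det_mul, det_mul, det_conjTranspose]
      exact mul_ne_zero (mul_ne_zero (star_ne_zero.2 hc) M.2.2.1) hc,
    by
      have h1 : (↑c⁻¹ : Matrix ι ι K) * B = A * (↑c⁻¹ : Matrix ι ι K) := by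
        calc (↑c⁻¹ : Matrix ι ι K) * B = (↑c⁻¹ : Matrix ι ι K) * (B * (c : Matrix ι ι K)) *
              (↑c⁻¹ : Matrix ι ι K) := by
              rw [Matrix.mul_assoc, Matrix.mul_assoc, ← Units.val_mul, mul_inv_cancel,
                Units.val_one, Matrix.mul_one]
          _ = A * (↑c⁻¹ : Matrix ι ι K) := by
              rw [← h, ← Matrix.mul_assoc, ← Units.val_mul, inv_mul_cancel,
                Units.val_one, Matrix.one_mul]
      calc (↑c⁻¹ : Matrix ι ι K)ᴴ * M.1 * (↑c⁻¹ : Matrix ι ι K) * B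
          = (↑c⁻¹ : Matrix ι ι K)ᴴ * (M.1 * A) * (↑c⁻¹ : Matrix ι ι K) := by
            rw [Matrix.mul_assoc, h1]; simp only [Matrix.mul_assoc]
        _ = (A * (↑c⁻¹ : Matrix ι ι K))ᴴ * M.1 * (↑c⁻¹ : Matrix ι ι K) := by
            rw [M.2.2.2, conjTranspose_mul]; simp only [Matrix.mul_assoc]
        _ = B * ((↑c⁻¹ : Matrix ι ι K)ᴴ * M.1 * (↑c⁻¹ : Matrix ι ι K)) := by
            rw [← h1, conjTranspose_mul, hB]; simp only [Matrix.mul_assoc]⟩
  left_inv x := by
    apply Subtype.ext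
    show (↑c⁻¹ : Matrix ι ι K)ᴴ * ((c : Matrix ι ι K)ᴴ * x.1 * (c : Matrix ι ι K)) *
      (↑c⁻¹ : Matrix ι ι K) = x.1
    have h1 : (c : Matrix ι ι K) * (↑c⁻¹ : Matrix ι ι K) = 1 := by
      rw [← Units.val_mul, mul_inv_cancel, Units.val_one]
    calc (↑c⁻¹ : Matrix ι ι K)ᴴ * ((c : Matrix ι ι K)ᴴ * x.1 * (c : Matrix ι ι K)) *
        (↑c⁻¹ : Matrix ι ι K) = ((c : Matrix ι ι K) * (↑c⁻¹ : Matrix ι ι K))ᴴ * x.1 *
          ((c : Matrix ι ι K) * (↑c⁻¹ : Matrix ι ι K)) := by
          rw [conjTranspose_mul]; simp only [Matrix.mul_assoc]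
      _ = x.1 := by rw [h1, conjTranspose_one, Matrix.one_mul, Matrix.mul_one]
  right_inv M := by
    apply Subtype.ext
    show (c : Matrix ι ι K)ᴴ * ((↑c⁻¹ : Matrix ι ι K)ᴴ * M.1 * (↑c⁻¹ : Matrix ι ι K)) *
      (c : Matrix ι ι K) = M.1
    have h1 : (↑c⁻¹ : Matrix ι ι K) * (c : Matrix ι ι K) = 1 := by
      rw [← Units.val_mul, inv_mul_cancel, Units.val_one]
    calc (c : Matrix ι ι K)ᴴ * ((↑c⁻¹ : Matrix ι ι K)ᴴ * M.1 * (↑c⁻¹ : Matrix ι ι K)) *
        (c : Matrix ι ι K) = ((↑c⁻¹ : Matrix ι ι K) * (c : Matrix ι ι K))ᴴ * M.1 *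
          ((↑c⁻¹ : Matrix ι ι K) * (c : Matrix ι ι K)) := by
          rw [conjTranspose_mul]; simp only [Matrix.mul_assoc]
      _ = M.1 := by rw [h1, conjTranspose_one, Matrix.one_mul, Matrix.mul_one]

end cong

section transfer

variable {K : Type*} [Field K] [Fintype K] [StarRing K] {t : ℕ} (d : Fin t → ℕ)
  (hd : ∀ k, 1 ≤ d k)

omit [Fintype K] [StarRing K] in
lemma Nmat_nilpotent : IsNilpotent (Nmat (F := K) d) := by
  refine ⟨Finset.univ.sup d + 1, ?_⟩
  rw [Matrix.ext_iff_mulVec]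
  intro v
  funext x
  rw [Nmat_pow_mulVec, if_neg, Matrix.zero_mulVec, Pi.zero_apply]
  have h1 : d x.1 ≤ Finset.univ.sup d := Finset.le_sup (Finset.mem_univ x.1)
  have h2 := x.2.2
  omega

include hd in
/-- **the number of invertible Hermitian matrices commuting with a unitary unipotent matrix of
Jordan type `d`** -/
theorem card_herm_cent (μ : K) (hμ : μ - star μ ≠ 0) (lam : K) (hlam : lam + star lam = 1)
    {q : ℕ} (hK : Fintype.card K = q ^ 2)
    (U : Matrix ((k : Fin t) × Fin (d k)) ((k : Fin t) × Fin (d k)) K) (hU : Uᴴ * U = 1)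
    (hconj : IsConj (Cfsg.jordanTypeMatrix d K) U) :
    Nat.card {h : Matrix ((k : Fin t) × Fin (d k)) ((k : Fin t) × Fin (d k)) K //
      hᴴ = h ∧ h.det ≠ 0 ∧ h * U = U * h} =
    q ^ (2 * (∑ i ∈ Finset.range (Finset.univ.sup d + 1),
      ∑ j ∈ Finset.range (Finset.univ.sup d + 1),
        if i < j then i * Amul d i * Amul d j else 0) +
      ∑ i ∈ Finset.range (Finset.univ.sup d + 1), (i - 1) * Amul d i ^ 2) *
    ∏ a : (Fin (Finset.univ.sup d + 1))ᵒᵈ,
      Nat.card {h : Matrix {k // blab d k = a} {k // blab d k = a} K // hᴴ = h ∧ h.det ≠ 0} := by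
  classical
  have hU' : U * Uᴴ = 1 := mul_eq_one_comm.1 hU
  obtain ⟨c0, hc0⟩ := hconj
  have hc0' : (c0 : Matrix ((k : Fin t) × Fin (d k)) ((k : Fin t) × Fin (d k)) K) *
      Cfsg.jordanTypeMatrix d K = U * (c0 : Matrix _ _ K) := hc0
  have hc0N : (c0 : Matrix ((k : Fin t) × Fin (d k)) ((k : Fin t) × Fin (d k)) K) * Nmat d =
      (U - 1) * (c0 : Matrix _ _ K) := by
    unfold Nmat
    rw [mul_sub, sub_mul, hc0', mul_one, one_mul]
  have hUN : U - 1 = (c0 : Matrix ((k : Fin t) × Fin (d k)) ((k : Fin t) × Fin (d k)) K) *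
      Nmat d * (↑c0⁻¹ : Matrix _ _ K) := by
    rw [hc0N, Matrix.mul_assoc, ← Units.val_mul, mul_inv_cancel, Units.val_one, Matrix.mul_one]
  have hnil : IsNilpotent (U - 1) := by
    obtain ⟨m, hm⟩ := Nmat_nilpotent (K := K) d
    refine ⟨m, ?_⟩
    rw [hUN, Units.conj_pow, hm, Matrix.mul_zero, Matrix.zero_mul]
  have hnilH : IsNilpotent (Uᴴ - 1) := by
    obtain ⟨m, hm⟩ := hnil
    refine ⟨m, ?_⟩
    have : Uᴴ - 1 = (U - 1)ᴴ := by rw [conjTranspose_sub, conjTranspose_one]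
    rw [this, ← conjTranspose_pow, hm, conjTranspose_zero]
  obtain ⟨Nu, hNu⟩ : ∃ Nu : Matrix ((k : Fin t) × Fin (d k)) ((k : Fin t) × Fin (d k)) K,
      Nu = μ • (U - 1) + star μ • (Uᴴ - 1) := ⟨_, rfl⟩
  have hNuH : Nuᴴ = Nu := by
    rw [hNu, conjTranspose_add, conjTranspose_smul, conjTranspose_smul, conjTranspose_sub,
      conjTranspose_sub, conjTranspose_conjTranspose, conjTranspose_one, star_star, add_comm]
  obtain ⟨ν, hν⟩ : ∃ ν : Matrix ((k : Fin t) × Fin (d k)) ((k : Fin t) × Fin (d k)) K,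
      ν = μ • 1 - star μ • Uᴴ := ⟨_, rfl⟩
  have hNuν : Nu = (U - 1) * ν := by
    rw [hNu, hν, mul_sub, Matrix.mul_smul, Matrix.mul_smul, Matrix.mul_one, sub_mul, hU',
      Matrix.one_mul, sub_eq_add_neg (μ • (U - 1)), ← smul_neg, neg_sub]
  have hcommU : Commute (U - 1) Uᴴ :=
    Commute.sub_left (hU'.trans hU.symm) (Commute.one_left _)
  have hcommν : Commute (U - 1) ν := by
    rw [hν]
    exact Commute.sub_right (Commute.smul_right (Commute.one_right _) μ)
      (Commute.smul_right hcommU (star μ))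
  have hνunit : IsUnit ν := by
    have h1 : ν = (μ - star μ) • (1 : Matrix _ _ K) + (-star μ) • (Uᴴ - 1) := by
      rw [hν, sub_smul, smul_sub, neg_smul, neg_smul]
      abel
    rw [h1]
    apply IsNilpotent.isUnit_add_left_of_commute (hnilH.smul _)
    · have := (isUnit_iff_ne_zero.2 hμ).map
        (algebraMap K (Matrix ((k : Fin t) × Fin (d k)) ((k : Fin t) × Fin (d k)) K))
      rwa [Algebra.algebraMap_eq_smul_one] at this
    · exact Commute.smul_right (Commute.one_right _) _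
  have hJ : ∀ s, kap (Matrix.toLin' (Cfsg.jordanTypeMatrix d K) - 1) s = kapm (typeOf d) s := by
    intro s
    have h2 := kap_jordan (F := K) d (Equiv.refl _) s
    rwa [Matrix.reindex_refl_refl] at h2
  have hkap : ∀ s, kap (Matrix.toLin' Nu) s = kapm (typeOf d) s := by
    intro s
    rw [hNuν, kap_mul_unit (U - 1) ν hcommν hνunit s, map_sub, Matrix.toLin'_one,
      ← Module.End.one_eq_id, ← kap_of_isConj (Cfsg.jordanTypeMatrix d K) U ⟨c0, hc0⟩ s, hJ]
  have hfr : Module.finrank K (((k : Fin t) × Fin (d k)) → K) = (typeOf d).sum := by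
    rw [Module.finrank_fintype_fun_eq_card, Fintype.card_sigma, sum_typeOf]
    simp
  have hNunil : IsNilpotent (Matrix.toLin' Nu) := nilpotent_of_kap _ (typeOf d) hkap hfr
  have hconj2 : IsConj (Cfsg.jordanTypeMatrix d K) (1 + Nu) := by
    apply isConj_of_kap
    · have := nilpotent_jordan (F := K) d (Equiv.refl _)
      rwa [Matrix.reindex_refl_refl] at this
    · rw [map_add, Matrix.toLin'_one, ← Module.End.one_eq_id, add_sub_cancel_left]
      exact hNunil
    · intro s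
      rw [map_add, Matrix.toLin'_one, ← Module.End.one_eq_id, add_sub_cancel_left, hkap, hJ]
  obtain ⟨c2, hc2⟩ := hconj2
  have hc2' : (c2 : Matrix ((k : Fin t) × Fin (d k)) ((k : Fin t) × Fin (d k)) K) *
      Cfsg.jordanTypeMatrix d K = (1 + Nu) * (c2 : Matrix _ _ K) := hc2
  have hc2N : (c2 : Matrix ((k : Fin t) × Fin (d k)) ((k : Fin t) × Fin (d k)) K) * Nmat d =
      Nu * (c2 : Matrix _ _ K) := by
    unfold Nmat
    rw [mul_sub, hc2', mul_one, add_mul, one_mul, add_sub_cancel_left]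
  have hUNu : ∀ g : Matrix ((k : Fin t) × Fin (d k)) ((k : Fin t) × Fin (d k)) K,
      g * U = U * g → g * Nu = Nu * g := by
    intro g hg
    have hg' : g * Uᴴ = Uᴴ * g := by
      calc g * Uᴴ = Uᴴ * (U * g) * Uᴴ := by
            rw [← Matrix.mul_assoc, hU, Matrix.one_mul]
        _ = Uᴴ * g := by
            rw [← hg, Matrix.mul_assoc, Matrix.mul_assoc, hU', Matrix.mul_one]
    rw [hNu, mul_add, add_mul, Matrix.mul_smul, Matrix.smul_mul, Matrix.mul_smul,
      Matrix.smul_mul, mul_sub, sub_mul, mul_sub, sub_mul, hg, hg', mul_one, one_mul]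
  have hNuU : ∀ g : Matrix ((k : Fin t) × Fin (d k)) ((k : Fin t) × Fin (d k)) K,
      g * Nu = Nu * g → g * U = U * g := by
    let incl : {g : Matrix ((k : Fin t) × Fin (d k)) ((k : Fin t) × Fin (d k)) K //
        g * U = U * g} → {g : Matrix ((k : Fin t) × Fin (d k)) ((k : Fin t) × Fin (d k)) K //
        g * Nu = Nu * g} := fun g => ⟨g.1, hUNu g.1 g.2⟩
    have hinj : Function.Injective incl := by
      intro a b hab
      apply Subtype.ext
      have h1 : (incl a).1 = (incl b).1 := by rw [hab]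
      exact h1
    have e1 := centEquiv c0 (Cfsg.jordanTypeMatrix d K) U hc0'
    have e2 := centEquiv c2 (Cfsg.jordanTypeMatrix d K) (1 + Nu) hc2'
    have e3 : {g : Matrix ((k : Fin t) × Fin (d k)) ((k : Fin t) × Fin (d k)) K //
        g * (1 + Nu) = (1 + Nu) * g} ≃
        {g : Matrix ((k : Fin t) × Fin (d k)) ((k : Fin t) × Fin (d k)) K // g * Nu = Nu * g} :=
      Equiv.subtypeEquivRight (fun g => by
        rw [mul_add, add_mul, mul_one, one_mul, add_right_inj])
    have hcard : Nat.card {g : Matrix ((k : Fin t) × Fin (d k)) ((k : Fin t) × Fin (d k)) K //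
        g * Nu = Nu * g} ≤
        Nat.card {g : Matrix ((k : Fin t) × Fin (d k)) ((k : Fin t) × Fin (d k)) K //
        g * U = U * g} := by
      rw [Nat.card_congr e1, ← Nat.card_congr e2, Nat.card_congr e3]
    have hbij := hinj.bijective_of_nat_card_le hcard
    intro g hg
    obtain ⟨g', hg'⟩ := hbij.2 ⟨g, hg⟩
    have h1 : g'.1 = g := congrArg Subtype.val hg'
    rw [← h1]
    exact g'.2
  have e4 : {h : Matrix ((k : Fin t) × Fin (d k)) ((k : Fin t) × Fin (d k)) K //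
      hᴴ = h ∧ h.det ≠ 0 ∧ h * U = U * h} ≃
      {h : Matrix ((k : Fin t) × Fin (d k)) ((k : Fin t) × Fin (d k)) K //
      hᴴ = h ∧ h.det ≠ 0 ∧ h * Nu = Nu * h} :=
    Equiv.subtypeEquivRight (fun g => by
      constructor
      · rintro ⟨h1, h2, h3⟩
        exact ⟨h1, h2, hUNu g h3⟩
      · rintro ⟨h1, h2, h3⟩
        exact ⟨h1, h2, hNuU g h3⟩)
  have e5 := congEquiv c2 (Nmat d) Nu hNuH hc2N
  have e6 : {M : Matrix ((k : Fin t) × Fin (d k)) ((k : Fin t) × Fin (d k)) K //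
      Mᴴ = M ∧ M.det ≠ 0 ∧ M * Nmat d = (Nmat d)ᴴ * M} ≃
      {M : Matrix ((k : Fin t) × Fin (d k)) ((k : Fin t) × Fin (d k)) K //
      Mᴴ = M ∧ M.det ≠ 0 ∧ M * Nmat d = (Nmat d)ᵀ * M} :=
    Equiv.subtypeEquivRight (fun M => by rw [Nmat_conjTranspose])
  rw [Nat.card_congr e4, Nat.card_congr e5, Nat.card_congr e6, Nat.card_congr (formEquiv d)]
  exact card_symm_units d hd μ hμ lam hlam hK

end transfer

end Cfsg.Agent.Lib.Helper15.GUCent
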