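import Mathlib
import Cfsg.Agent.Lib.Helper15.GUCentC
import Cfsg.Agent.S2643

/-!
helper15: the order of the centraliser in `GU_n(q)` of a unipotent element of Jordan type `d`,
as a natural number (assembly of `GUCentA`–`GUCentC`).
-/

set_option autoImplicit false

namespace Cfsg.Agent.Lib.Helper15.GUCent

open Matrix Cfsg.Agent.S2581 Cfsg.Agent.Lib.Helper14 Cfsg.Agent.Lib.Helper15
  Cfsg.Agent.Lib.Helper15.ParaCount

section centdet

variable {F : Type*} [Field F] {ι : Type*} [Fintype ι] [DecidableEq ι]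

lemma det_conj_ne_zero_iff (c : (Matrix ι ι F)ˣ) (g : Matrix ι ι F) :
    ((↑c⁻¹ : Matrix ι ι F) * g * (c : Matrix ι ι F)).det ≠ 0 ↔ g.det ≠ 0 := by
  have h1 : (c : Matrix ι ι F).det ≠ 0 := (Matrix.isUnits_det_units c).ne_zero
  have h2 : (↑c⁻¹ : Matrix ι ι F).det ≠ 0 := (Matrix.isUnits_det_units c⁻¹).ne_zero
  rw [det_mul, det_mul]
  constructor
  · intro h hg
    apply h
    rw [hg, mul_zero, zero_mul]
  · intro h
    exact mul_ne_zero (mul_ne_zero h2 h) h1

lemma card_cent_det (c : (Matrix ι ι F)ˣ) (A B : Matrix ι ι F)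
    (h : (c : Matrix ι ι F) * A = B * (c : Matrix ι ι F)) :
    Nat.card {g : Matrix ι ι F // g.det ≠ 0 ∧ g * B = B * g} =
      Nat.card {g : Matrix ι ι F // g * A = A * g ∧ g.det ≠ 0} := by
  apply Nat.card_congr
  refine (Equiv.subtypeEquivRight (fun g => and_comm)).trans ?_
  refine (Equiv.subtypeSubtypeEquivSubtypeInter (fun g : Matrix ι ι F => g * B = B * g)
    (fun g => g.det ≠ 0)).symm.trans ?_
  refine (Equiv.subtypeEquiv (centEquiv c A B h) (fun x => ?_)).trans
    (Equiv.subtypeSubtypeEquivSubtypeInter (fun g : Matrix ι ι F => g * A = A * g)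
      (fun g => g.det ≠ 0))
  rw [centEquiv_apply, det_conj_ne_zero_iff]

end centdet

section unitary

variable {K : Type*} [Field K] [Fintype K] [StarRing K] {q n : ℕ}

omit [Fintype K] in
lemma conjTranspose_eq_map (hstar : ∀ x : K, star x = x ^ q) {ι : Type*} (M : Matrix ι ι K) :
    Mᴴ = Mᵀ.map (fun x => x ^ q) := by
  ext i j
  rw [conjTranspose_apply, hstar]
  rfl

lemma isUni_iff' (hK : Fintype.card K = q ^ 2) (hstar : ∀ x : K, star x = x ^ q)
    (M : Matrix (Fin n) (Fin n) K) : IsUni K q n M ↔ Mᴴ * M = 1 := by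
  rw [conjTranspose_eq_map hstar]
  exact Cfsg.Agent.S2643.isUni_iff hK M

/-- unitary matrices on an index type equivalent to `Fin n` -/
noncomputable def unitaryEquiv (hK : Fintype.card K = q ^ 2) (hstar : ∀ x : K, star x = x ^ q)
    {ι : Type*} [Fintype ι] [DecidableEq ι] (e : ι ≃ Fin n) :
    ↥(Cfsg.GU n K q) ≃ {g : Matrix ι ι K // gᴴ * g = 1} where
  toFun x := ⟨(x.1.1 : Matrix (Fin n) (Fin n) K).submatrix e e, by
    classical
    have h := (isUni_iff' hK hstar _).1 ((mem_GU_iff x.1).1 x.2)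
    rw [conjTranspose_submatrix, submatrix_mul_equiv, h, submatrix_one_equiv]⟩
  invFun g := ⟨Matrix.GeneralLinearGroup.mkOfDetNeZero (g.1.submatrix e.symm e.symm) (by
      have h : (g.1.submatrix e.symm e.symm)ᴴ * (g.1.submatrix e.symm e.symm) = 1 := by
        rw [conjTranspose_submatrix, submatrix_mul_equiv, g.2, submatrix_one_equiv]
      exact (Matrix.isUnit_det_of_left_inverse h).ne_zero), by
    classical
    rw [mem_GU_iff]
    apply (isUni_iff' hK hstar _).2
    show (g.1.submatrix e.symm e.symm)ᴴ * (g.1.submatrix e.symm e.symm) = 1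
    rw [conjTranspose_submatrix, submatrix_mul_equiv, g.2, submatrix_one_equiv]⟩
  left_inv x := by
    apply Subtype.ext
    apply Units.ext
    show ((x.1.1 : Matrix (Fin n) (Fin n) K).submatrix e e).submatrix e.symm e.symm = x.1.1
    rw [submatrix_submatrix]
    simp
  right_inv g := by
    apply Subtype.ext
    show ((g.1.submatrix e.symm e.symm)).submatrix e e = g.1
    rw [submatrix_submatrix]
    simp

lemma unitaryEquiv_apply (hK : Fintype.card K = q ^ 2) (hstar : ∀ x : K, star x = x ^ q)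
    {ι : Type*} [Fintype ι] [DecidableEq ι] (e : ι ≃ Fin n) (x : ↥(Cfsg.GU n K q)) :
    (unitaryEquiv hK hstar e x).1 = (x.1.1 : Matrix (Fin n) (Fin n) K).submatrix e e := rfl

/-- the centraliser in `GU` as a set of matrices -/
theorem card_centralizer_eq (hK : Fintype.card K = q ^ 2) (hstar : ∀ x : K, star x = x ^ q)
    {ι : Type*} [Fintype ι] [DecidableEq ι] (e : ι ≃ Fin n) (u : ↥(Cfsg.GU n K q)) :
    Nat.card ↥(Subgroup.centralizer ({u} : Set ↥(Cfsg.GU n K q))) =
      Nat.card {g : Matrix ι ι K // gᴴ * g = 1 ∧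
        g * (u.1.1 : Matrix (Fin n) (Fin n) K).submatrix e e =
          (u.1.1 : Matrix (Fin n) (Fin n) K).submatrix e e * g} := by
  apply Nat.card_congr
  refine (Equiv.subtypeEquiv (unitaryEquiv hK hstar e) (fun z => ?_)).trans
    (Equiv.subtypeSubtypeEquivSubtypeInter (fun g : Matrix ι ι K => gᴴ * g = 1)
      (fun g => g * (u.1.1 : Matrix (Fin n) (Fin n) K).submatrix e e =
          (u.1.1 : Matrix (Fin n) (Fin n) K).submatrix e e * g))
  show z ∈ Subgroup.centralizer ({u} : Set ↥(Cfsg.GU n K q)) ↔ _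
  rw [Subgroup.mem_centralizer_singleton_iff, unitaryEquiv_apply, submatrix_mul_equiv,
    submatrix_mul_equiv]
  constructor
  · intro h
    have h1 : (z.1.1 : Matrix (Fin n) (Fin n) K) * (u.1.1 : Matrix (Fin n) (Fin n) K) =
        (u.1.1 : Matrix (Fin n) (Fin n) K) * (z.1.1 : Matrix (Fin n) (Fin n) K) := by
      have := congrArg (fun y : ↥(Cfsg.GU n K q) => (y.1.1 : Matrix (Fin n) (Fin n) K)) h
      exact this
    rw [h1]
  · intro h
    have h1 := congrArg (fun M : Matrix ι ι K => M.submatrix e.symm e.symm) h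
    simp only [submatrix_submatrix, Equiv.self_comp_symm, submatrix_id_id] at h1
    apply Subtype.ext
    apply Units.ext
    exact h1

/-- the number of invertible Hermitian matrices times the order of the unitary group is the
order of the general linear group -/
theorem card_hinv (hK : Fintype.card K = q ^ 2) (hstar : ∀ x : K, star x = x ^ q)
    (τ : K) (hτ : τ - star τ ≠ 0) (κ : Type*) [Fintype κ] [DecidableEq κ] :
    Nat.card {h : Matrix κ κ K // hᴴ = h ∧ h.det ≠ 0} *
      Nat.card ↥(Cfsg.GU (Nat.card κ) K q) = gam (q ^ 2) (Nat.card κ) := by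
  have h := card_cent_eq τ hτ (1 : Matrix κ κ K) (by rw [conjTranspose_one, one_mul])
  have e1 : {g : Matrix κ κ K // g.det ≠ 0 ∧ g * 1 = 1 * g} ≃ GL κ K :=
    { toFun := fun g => Matrix.GeneralLinearGroup.mkOfDetNeZero g.1 g.2.1
      invFun := fun g => ⟨g.1, (Matrix.isUnits_det_units g).ne_zero, by rw [mul_one, one_mul]⟩
      left_inv := fun g => rfl
      right_inv := fun g => Units.ext rfl }
  have e2 : {h : Matrix κ κ K // hᴴ = h ∧ h.det ≠ 0 ∧ h * 1 = 1 * h} ≃
      {h : Matrix κ κ K // hᴴ = h ∧ h.det ≠ 0} :=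
    Equiv.subtypeEquivRight (fun g => by rw [mul_one, one_mul]; simp)
  have e3 : {g : Matrix κ κ K // gᴴ * g = 1 ∧ g * 1 = 1 * g} ≃
      ↥(Cfsg.GU (Nat.card κ) K q) :=
    (Equiv.subtypeEquivRight (fun g => by rw [mul_one, one_mul]; simp)).trans
      (unitaryEquiv hK hstar ((Fintype.equivFin κ).trans
        (finCongr (Nat.card_eq_fintype_card (α := κ)).symm))).symm
  rw [Nat.card_congr e1, Nat.card_congr e2, Nat.card_congr e3, card_GL_of_card, hK,
    ← Nat.card_eq_fintype_card] at h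
  exact h.symm

omit [StarRing K] in
lemma exists_mu (hK : Fintype.card K = q ^ 2) : ∃ μ : K, μ - μ ^ q ≠ 0 := by
  obtain ⟨x, hx⟩ := Cfsg.Agent.S2643.exists_not_fixed hK
  exact ⟨x, sub_ne_zero.2 (Ne.symm hx)⟩

omit [StarRing K] in
lemma exists_lam (hK : Fintype.card K = q ^ 2) : ∃ lam : K, lam + lam ^ q = 1 := by
  classical
  obtain ⟨d, hd⟩ := Cfsg.Agent.S2643.frob_T hK
  have hs : (d + d ^ q) ^ q = d + d ^ q := by
    rw [herm_add_pow hK, ← pow_mul, ← sq, herm_pow_card hK, add_comm]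
  refine ⟨d / (d + d ^ q), ?_⟩
  rw [div_pow, hs, ← add_div, div_self hd]

end unitary

section final

variable {K : Type*} [Field K] [Fintype K] [StarRing K] {q n t : ℕ} (d : Fin t → ℕ)

lemma prod_fcard (f : ℕ → ℕ) :
    ∏ a, f (fcard d a) = ∏ i ∈ Finset.range (Finset.univ.sup d + 1), f (Amul d i) := by
  rw [← Fin.prod_univ_eq_prod_range (fun i => f (Amul d i)) (Finset.univ.sup d + 1)]
  rw [← Equiv.prod_comp OrderDual.toDual (fun a => f (fcard d a))]
  apply Finset.prod_congr rfl
  intro i _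
  rw [← fcard_toDual d i.1 i.2]

/-- **the order of the centraliser in `GU_n(q)` of a unipotent element of Jordan type `d`** -/
theorem card_centralizer_nat (hK : Fintype.card K = q ^ 2) (hstar : ∀ x : K, star x = x ^ q)
    (hd : ∀ k, 1 ≤ d k) (e : ((k : Fin t) × Fin (d k)) ≃ Fin n) (u : ↥(Cfsg.GU n K q))
    (hu : IsConj (Matrix.reindex e e (Cfsg.jordanTypeMatrix d K))
      ((u : GL (Fin n) K) : Matrix (Fin n) (Fin n) K)) :
    Nat.card ↥(Subgroup.centralizer ({u} : Set ↥(Cfsg.GU n K q))) =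
    q ^ (2 * (∑ i ∈ Finset.range (Finset.univ.sup d + 1),
      ∑ j ∈ Finset.range (Finset.univ.sup d + 1),
        if i < j then i * Amul d i * Amul d j else 0) +
      ∑ i ∈ Finset.range (Finset.univ.sup d + 1), (i - 1) * Amul d i ^ 2) *
    ∏ i ∈ Finset.range (Finset.univ.sup d + 1), Nat.card ↥(Cfsg.GU (Amul d i) K q) := by
  obtain ⟨μ, hμ0⟩ := exists_mu hK
  obtain ⟨lam, hlam0⟩ := exists_lam hK
  have hμ : μ - star μ ≠ 0 := by rw [hstar]; exact hμ0
  have hlam : lam + star lam = 1 := by rw [hstar]; exact hlam0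
  have hq : 0 < q := by
    classical
    have := herm_two_le hK
    omega
  obtain ⟨U, hUdef⟩ : ∃ U : Matrix ((k : Fin t) × Fin (d k)) ((k : Fin t) × Fin (d k)) K,
      U = (u.1.1 : Matrix (Fin n) (Fin n) K).submatrix e e := ⟨_, rfl⟩
  have hUU : Uᴴ * U = 1 := by
    rw [hUdef]
    exact (unitaryEquiv hK hstar e u).2
  have hconj : IsConj (Cfsg.jordanTypeMatrix d K) U := by
    obtain ⟨c, hc⟩ := hu
    have hc' : (c : Matrix (Fin n) (Fin n) K) *
        Matrix.reindex e e (Cfsg.jordanTypeMatrix d K) =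
        (u.1.1 : Matrix (Fin n) (Fin n) K) * (c : Matrix (Fin n) (Fin n) K) := hc
    have hJ : (Matrix.reindex e e (Cfsg.jordanTypeMatrix d K)).submatrix e e =
        Cfsg.jordanTypeMatrix d K := by
      rw [Matrix.reindex_apply, submatrix_submatrix]
      simp
    refine ⟨⟨(c : Matrix (Fin n) (Fin n) K).submatrix e e,
      (↑c⁻¹ : Matrix (Fin n) (Fin n) K).submatrix e e, ?_, ?_⟩, ?_⟩
    · rw [submatrix_mul_equiv, ← Units.val_mul, mul_inv_cancel, Units.val_one,
        submatrix_one_equiv]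
    · rw [submatrix_mul_equiv, ← Units.val_mul, inv_mul_cancel, Units.val_one,
        submatrix_one_equiv]
    · show (c : Matrix (Fin n) (Fin n) K).submatrix e e * Cfsg.jordanTypeMatrix d K =
        U * (c : Matrix (Fin n) (Fin n) K).submatrix e e
      calc (c : Matrix (Fin n) (Fin n) K).submatrix e e * Cfsg.jordanTypeMatrix d K
          = (c : Matrix (Fin n) (Fin n) K).submatrix e e *
            (Matrix.reindex e e (Cfsg.jordanTypeMatrix d K)).submatrix e e := by rw [hJ]
        _ = ((c : Matrix (Fin n) (Fin n) K) *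
            Matrix.reindex e e (Cfsg.jordanTypeMatrix d K)).submatrix e e := by
            rw [submatrix_mul_equiv]
        _ = ((u.1.1 : Matrix (Fin n) (Fin n) K) *
            (c : Matrix (Fin n) (Fin n) K)).submatrix e e := by rw [hc']
        _ = U * (c : Matrix (Fin n) (Fin n) K).submatrix e e := by
            rw [hUdef, submatrix_mul_equiv]
  have hC := card_centralizer_eq hK hstar e u
  rw [← hUdef] at hC
  have hG := card_cent_eq μ hμ U hUU
  obtain ⟨c0, hc0⟩ := hconj
  have hG2 := card_cent_det c0 (Cfsg.jordanTypeMatrix d K) U hc0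
  have hG3 : Nat.card {g : Matrix ((k : Fin t) × Fin (d k)) ((k : Fin t) × Fin (d k)) K //
      g * Cfsg.jordanTypeMatrix d K = Cfsg.jordanTypeMatrix d K * g ∧ g.det ≠ 0} =
      Nat.card {g : Matrix ((k : Fin t) × Fin (d k)) ((k : Fin t) × Fin (d k)) K //
      g * Nmat d = Nmat d * g ∧ g.det ≠ 0} :=
    Nat.card_congr (Equiv.subtypeEquivRight (fun g => by
      unfold Nmat
      rw [mul_sub, sub_mul, mul_one, one_mul, sub_left_inj]))
  have hG4 := card_units_final (F := K) d hd
  have hX := card_herm_cent d hd μ hμ lam hlam hK U hUU ⟨c0, hc0⟩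
  have hinv : ∀ a : (Fin (Finset.univ.sup d + 1))ᵒᵈ,
      Nat.card {h : Matrix {k // blab d k = a} {k // blab d k = a} K // hᴴ = h ∧ h.det ≠ 0} *
      Nat.card ↥(Cfsg.GU (fcard d a) K q) = gam (q ^ 2) (fcard d a) := by
    intro a
    have h1 := card_hinv hK hstar μ hμ {k // blab d k = a}
    have h2 : Nat.card {k // blab d k = a} = fcard d a := by
      unfold fcard
      rw [Nat.card_eq_fintype_card]
    rw [h2] at h1
    exact h1
  have hpos : ∀ a : (Fin (Finset.univ.sup d + 1))ᵒᵈ,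
      0 < Nat.card {h : Matrix {k // blab d k = a} {k // blab d k = a} K //
        hᴴ = h ∧ h.det ≠ 0} := by
    intro a
    have : Nonempty {h : Matrix {k // blab d k = a} {k // blab d k = a} K //
        hᴴ = h ∧ h.det ≠ 0} :=
      ⟨⟨1, conjTranspose_one, by rw [det_one]; exact one_ne_zero⟩⟩
    exact Nat.card_pos
  rw [hG2, hG3, hG4, hK, hX, ← hC, ← prod_gam, ← Finset.prod_congr rfl (fun a _ => hinv a),
    Finset.prod_mul_distrib, prod_fcard d (fun m => Nat.card ↥(Cfsg.GU m K q))] at hG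
  have hpos2 : 0 < q ^ (2 * (∑ i ∈ Finset.range (Finset.univ.sup d + 1),
      ∑ j ∈ Finset.range (Finset.univ.sup d + 1),
        if i < j then i * Amul d i * Amul d j else 0) +
      ∑ i ∈ Finset.range (Finset.univ.sup d + 1), (i - 1) * Amul d i ^ 2) *
      ∏ a : (Fin (Finset.univ.sup d + 1))ᵒᵈ,
        Nat.card {h : Matrix {k // blab d k = a} {k // blab d k = a} K //
          hᴴ = h ∧ h.det ≠ 0} :=
    Nat.mul_pos (pow_pos hq _) (Finset.prod_pos (fun a _ => hpos a))
  apply Nat.eq_of_mul_eq_mul_left hpos2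
  rw [← hG, ← pow_mul, mul_comm 2, pow_mul, sq]
  ring

end final

end Cfsg.Agent.Lib.Helper15.GUCent
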