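import Cfsg.Agent.Lib.Helper15.HnOT
set_option autoImplicit false
set_option maxRecDepth 100000
set_option maxHeartbeats 0
set_option Elab.async false

/-! S2082: the all-points check `HnOT.rowOK`, points 200000 to 399999 (generated). -/

namespace Cfsg.Agent.Lib.Helper15.HnOT1
open Cfsg.Agent.Lib.Helper28.TC2Upper Cfsg.Agent.Lib.Helper28.TC2Lower Cfsg.Agent.Lib.Helper28.TC2Range Cfsg.Agent.Lib.Helper16.HNP.Table Cfsg.Agent.Lib.Helper15.HnOT

theorem pc0 : rangeOK table 200000 10000 = true := by decide +kernel
theorem pc1 : rangeOK table 210000 10000 = true := by decide +kernel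
theorem pc2 : rangeOK table 220000 10000 = true := by decide +kernel
theorem pc3 : rangeOK table 230000 10000 = true := by decide +kernel
theorem pc4 : rangeOK table 240000 10000 = true := by decide +kernel
theorem pc5 : rangeOK table 250000 10000 = true := by decide +kernel
theorem pc6 : rangeOK table 260000 10000 = true := by decide +kernel
theorem pc7 : rangeOK table 270000 10000 = true := by decide +kernel
theorem pc8 : rangeOK table 280000 10000 = true := by decide +kernel
theorem pc9 : rangeOK table 290000 10000 = true := by decide +kernel
theorem pc10 : rangeOK table 300000 10000 = true := by decide +kernel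
theorem pc11 : rangeOK table 310000 10000 = true := by decide +kernel
theorem pc12 : rangeOK table 320000 10000 = true := by decide +kernel
theorem pc13 : rangeOK table 330000 10000 = true := by decide +kernel
theorem pc14 : rangeOK table 340000 10000 = true := by decide +kernel
theorem pc15 : rangeOK table 350000 10000 = true := by decide +kernel
theorem pc16 : rangeOK table 360000 10000 = true := by decide +kernel
theorem pc17 : rangeOK table 370000 10000 = true := by decide +kernel
theorem pc18 : rangeOK table 380000 10000 = true := by decide +kernel
theorem pc19 : rangeOK table 390000 10000 = true := by decide +kernel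

theorem range (p : ℕ) (h1 : 200000 ≤ p) (h2 : p < 400000) : rowOK table p = true := by
  rcases Nat.lt_or_ge p 210000 with h | h
  · exact (rangeOK_iff table 200000 10000).mp pc0 p (by omega) (by omega)
  rcases Nat.lt_or_ge p 220000 with h | h
  · exact (rangeOK_iff table 210000 10000).mp pc1 p (by omega) (by omega)
  rcases Nat.lt_or_ge p 230000 with h | h
  · exact (rangeOK_iff table 220000 10000).mp pc2 p (by omega) (by omega)
  rcases Nat.lt_or_ge p 240000 with h | h
  · exact (rangeOK_iff table 230000 10000).mp pc3 p (by omega) (by omega)
  rcases Nat.lt_or_ge p 250000 with h | h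
  · exact (rangeOK_iff table 240000 10000).mp pc4 p (by omega) (by omega)
  rcases Nat.lt_or_ge p 260000 with h | h
  · exact (rangeOK_iff table 250000 10000).mp pc5 p (by omega) (by omega)
  rcases Nat.lt_or_ge p 270000 with h | h
  · exact (rangeOK_iff table 260000 10000).mp pc6 p (by omega) (by omega)
  rcases Nat.lt_or_ge p 280000 with h | h
  · exact (rangeOK_iff table 270000 10000).mp pc7 p (by omega) (by omega)
  rcases Nat.lt_or_ge p 290000 with h | h
  · exact (rangeOK_iff table 280000 10000).mp pc8 p (by omega) (by omega)
  rcases Nat.lt_or_ge p 300000 with h | h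
  · exact (rangeOK_iff table 290000 10000).mp pc9 p (by omega) (by omega)
  rcases Nat.lt_or_ge p 310000 with h | h
  · exact (rangeOK_iff table 300000 10000).mp pc10 p (by omega) (by omega)
  rcases Nat.lt_or_ge p 320000 with h | h
  · exact (rangeOK_iff table 310000 10000).mp pc11 p (by omega) (by omega)
  rcases Nat.lt_or_ge p 330000 with h | h
  · exact (rangeOK_iff table 320000 10000).mp pc12 p (by omega) (by omega)
  rcases Nat.lt_or_ge p 340000 with h | h
  · exact (rangeOK_iff table 330000 10000).mp pc13 p (by omega) (by omega)
  rcases Nat.lt_or_ge p 350000 with h | h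
  · exact (rangeOK_iff table 340000 10000).mp pc14 p (by omega) (by omega)
  rcases Nat.lt_or_ge p 360000 with h | h
  · exact (rangeOK_iff table 350000 10000).mp pc15 p (by omega) (by omega)
  rcases Nat.lt_or_ge p 370000 with h | h
  · exact (rangeOK_iff table 360000 10000).mp pc16 p (by omega) (by omega)
  rcases Nat.lt_or_ge p 380000 with h | h
  · exact (rangeOK_iff table 370000 10000).mp pc17 p (by omega) (by omega)
  rcases Nat.lt_or_ge p 390000 with h | h
  · exact (rangeOK_iff table 380000 10000).mp pc18 p (by omega) (by omega)
  exact (rangeOK_iff table 390000 10000).mp pc19 p (by omega) (by omega)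

end Cfsg.Agent.Lib.Helper15.HnOT1
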