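import Cfsg.Agent.Lib.Helper15.HnOT
set_option autoImplicit false
set_option maxRecDepth 100000
set_option maxHeartbeats 0
set_option Elab.async false

/-! S2082: the all-points check `HnOT.rowOK`, points 400000 to 599999 (generated). -/

namespace Cfsg.Agent.Lib.Helper15.HnOT2
open Cfsg.Agent.Lib.Helper28.TC2Upper Cfsg.Agent.Lib.Helper28.TC2Lower Cfsg.Agent.Lib.Helper28.TC2Range Cfsg.Agent.Lib.Helper16.HNP.Table Cfsg.Agent.Lib.Helper15.HnOT

theorem pc0 : rangeOK table 400000 10000 = true := by decide +kernel
theorem pc1 : rangeOK table 410000 10000 = true := by decide +kernel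
theorem pc2 : rangeOK table 420000 10000 = true := by decide +kernel
theorem pc3 : rangeOK table 430000 10000 = true := by decide +kernel
theorem pc4 : rangeOK table 440000 10000 = true := by decide +kernel
theorem pc5 : rangeOK table 450000 10000 = true := by decide +kernel
theorem pc6 : rangeOK table 460000 10000 = true := by decide +kernel
theorem pc7 : rangeOK table 470000 10000 = true := by decide +kernel
theorem pc8 : rangeOK table 480000 10000 = true := by decide +kernel
theorem pc9 : rangeOK table 490000 10000 = true := by decide +kernel
theorem pc10 : rangeOK table 500000 10000 = true := by decide +kernel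
theorem pc11 : rangeOK table 510000 10000 = true := by decide +kernel
theorem pc12 : rangeOK table 520000 10000 = true := by decide +kernel
theorem pc13 : rangeOK table 530000 10000 = true := by decide +kernel
theorem pc14 : rangeOK table 540000 10000 = true := by decide +kernel
theorem pc15 : rangeOK table 550000 10000 = true := by decide +kernel
theorem pc16 : rangeOK table 560000 10000 = true := by decide +kernel
theorem pc17 : rangeOK table 570000 10000 = true := by decide +kernel
theorem pc18 : rangeOK table 580000 10000 = true := by decide +kernel
theorem pc19 : rangeOK table 590000 10000 = true := by decide +kernel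

theorem range (p : ℕ) (h1 : 400000 ≤ p) (h2 : p < 600000) : rowOK table p = true := by
  rcases Nat.lt_or_ge p 410000 with h | h
  · exact (rangeOK_iff table 400000 10000).mp pc0 p (by omega) (by omega)
  rcases Nat.lt_or_ge p 420000 with h | h
  · exact (rangeOK_iff table 410000 10000).mp pc1 p (by omega) (by omega)
  rcases Nat.lt_or_ge p 430000 with h | h
  · exact (rangeOK_iff table 420000 10000).mp pc2 p (by omega) (by omega)
  rcases Nat.lt_or_ge p 440000 with h | h
  · exact (rangeOK_iff table 430000 10000).mp pc3 p (by omega) (by omega)
  rcases Nat.lt_or_ge p 450000 with h | h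
  · exact (rangeOK_iff table 440000 10000).mp pc4 p (by omega) (by omega)
  rcases Nat.lt_or_ge p 460000 with h | h
  · exact (rangeOK_iff table 450000 10000).mp pc5 p (by omega) (by omega)
  rcases Nat.lt_or_ge p 470000 with h | h
  · exact (rangeOK_iff table 460000 10000).mp pc6 p (by omega) (by omega)
  rcases Nat.lt_or_ge p 480000 with h | h
  · exact (rangeOK_iff table 470000 10000).mp pc7 p (by omega) (by omega)
  rcases Nat.lt_or_ge p 490000 with h | h
  · exact (rangeOK_iff table 480000 10000).mp pc8 p (by omega) (by omega)
  rcases Nat.lt_or_ge p 500000 with h | h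
  · exact (rangeOK_iff table 490000 10000).mp pc9 p (by omega) (by omega)
  rcases Nat.lt_or_ge p 510000 with h | h
  · exact (rangeOK_iff table 500000 10000).mp pc10 p (by omega) (by omega)
  rcases Nat.lt_or_ge p 520000 with h | h
  · exact (rangeOK_iff table 510000 10000).mp pc11 p (by omega) (by omega)
  rcases Nat.lt_or_ge p 530000 with h | h
  · exact (rangeOK_iff table 520000 10000).mp pc12 p (by omega) (by omega)
  rcases Nat.lt_or_ge p 540000 with h | h
  · exact (rangeOK_iff table 530000 10000).mp pc13 p (by omega) (by omega)
  rcases Nat.lt_or_ge p 550000 with h | h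
  · exact (rangeOK_iff table 540000 10000).mp pc14 p (by omega) (by omega)
  rcases Nat.lt_or_ge p 560000 with h | h
  · exact (rangeOK_iff table 550000 10000).mp pc15 p (by omega) (by omega)
  rcases Nat.lt_or_ge p 570000 with h | h
  · exact (rangeOK_iff table 560000 10000).mp pc16 p (by omega) (by omega)
  rcases Nat.lt_or_ge p 580000 with h | h
  · exact (rangeOK_iff table 570000 10000).mp pc17 p (by omega) (by omega)
  rcases Nat.lt_or_ge p 590000 with h | h
  · exact (rangeOK_iff table 580000 10000).mp pc18 p (by omega) (by omega)
  exact (rangeOK_iff table 590000 10000).mp pc19 p (by omega) (by omega)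

end Cfsg.Agent.Lib.Helper15.HnOT2
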