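import Cfsg.Agent.Lib.Helper15.HnOT
set_option autoImplicit false
set_option maxRecDepth 100000
set_option maxHeartbeats 0
set_option Elab.async false

/-! S2082: the all-points check `HnOT.rowOK`, points 600000 to 799999 (generated). -/

namespace Cfsg.Agent.Lib.Helper15.HnOT3
open Cfsg.Agent.Lib.Helper28.TC2Upper Cfsg.Agent.Lib.Helper28.TC2Lower Cfsg.Agent.Lib.Helper28.TC2Range Cfsg.Agent.Lib.Helper16.HNP.Table Cfsg.Agent.Lib.Helper15.HnOT

theorem pc0 : rangeOK table 600000 10000 = true := by decide +kernel
theorem pc1 : rangeOK table 610000 10000 = true := by decide +kernel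
theorem pc2 : rangeOK table 620000 10000 = true := by decide +kernel
theorem pc3 : rangeOK table 630000 10000 = true := by decide +kernel
theorem pc4 : rangeOK table 640000 10000 = true := by decide +kernel
theorem pc5 : rangeOK table 650000 10000 = true := by decide +kernel
theorem pc6 : rangeOK table 660000 10000 = true := by decide +kernel
theorem pc7 : rangeOK table 670000 10000 = true := by decide +kernel
theorem pc8 : rangeOK table 680000 10000 = true := by decide +kernel
theorem pc9 : rangeOK table 690000 10000 = true := by decide +kernel
theorem pc10 : rangeOK table 700000 10000 = true := by decide +kernel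
theorem pc11 : rangeOK table 710000 10000 = true := by decide +kernel
theorem pc12 : rangeOK table 720000 10000 = true := by decide +kernel
theorem pc13 : rangeOK table 730000 10000 = true := by decide +kernel
theorem pc14 : rangeOK table 740000 10000 = true := by decide +kernel
theorem pc15 : rangeOK table 750000 10000 = true := by decide +kernel
theorem pc16 : rangeOK table 760000 10000 = true := by decide +kernel
theorem pc17 : rangeOK table 770000 10000 = true := by decide +kernel
theorem pc18 : rangeOK table 780000 10000 = true := by decide +kernel
theorem pc19 : rangeOK table 790000 10000 = true := by decide +kernel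

theorem range (p : ℕ) (h1 : 600000 ≤ p) (h2 : p < 800000) : rowOK table p = true := by
  rcases Nat.lt_or_ge p 610000 with h | h
  · exact (rangeOK_iff table 600000 10000).mp pc0 p (by omega) (by omega)
  rcases Nat.lt_or_ge p 620000 with h | h
  · exact (rangeOK_iff table 610000 10000).mp pc1 p (by omega) (by omega)
  rcases Nat.lt_or_ge p 630000 with h | h
  · exact (rangeOK_iff table 620000 10000).mp pc2 p (by omega) (by omega)
  rcases Nat.lt_or_ge p 640000 with h | h
  · exact (rangeOK_iff table 630000 10000).mp pc3 p (by omega) (by omega)
  rcases Nat.lt_or_ge p 650000 with h | h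
  · exact (rangeOK_iff table 640000 10000).mp pc4 p (by omega) (by omega)
  rcases Nat.lt_or_ge p 660000 with h | h
  · exact (rangeOK_iff table 650000 10000).mp pc5 p (by omega) (by omega)
  rcases Nat.lt_or_ge p 670000 with h | h
  · exact (rangeOK_iff table 660000 10000).mp pc6 p (by omega) (by omega)
  rcases Nat.lt_or_ge p 680000 with h | h
  · exact (rangeOK_iff table 670000 10000).mp pc7 p (by omega) (by omega)
  rcases Nat.lt_or_ge p 690000 with h | h
  · exact (rangeOK_iff table 680000 10000).mp pc8 p (by omega) (by omega)
  rcases Nat.lt_or_ge p 700000 with h | h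
  · exact (rangeOK_iff table 690000 10000).mp pc9 p (by omega) (by omega)
  rcases Nat.lt_or_ge p 710000 with h | h
  · exact (rangeOK_iff table 700000 10000).mp pc10 p (by omega) (by omega)
  rcases Nat.lt_or_ge p 720000 with h | h
  · exact (rangeOK_iff table 710000 10000).mp pc11 p (by omega) (by omega)
  rcases Nat.lt_or_ge p 730000 with h | h
  · exact (rangeOK_iff table 720000 10000).mp pc12 p (by omega) (by omega)
  rcases Nat.lt_or_ge p 740000 with h | h
  · exact (rangeOK_iff table 730000 10000).mp pc13 p (by omega) (by omega)
  rcases Nat.lt_or_ge p 750000 with h | h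
  · exact (rangeOK_iff table 740000 10000).mp pc14 p (by omega) (by omega)
  rcases Nat.lt_or_ge p 760000 with h | h
  · exact (rangeOK_iff table 750000 10000).mp pc15 p (by omega) (by omega)
  rcases Nat.lt_or_ge p 770000 with h | h
  · exact (rangeOK_iff table 760000 10000).mp pc16 p (by omega) (by omega)
  rcases Nat.lt_or_ge p 780000 with h | h
  · exact (rangeOK_iff table 770000 10000).mp pc17 p (by omega) (by omega)
  rcases Nat.lt_or_ge p 790000 with h | h
  · exact (rangeOK_iff table 780000 10000).mp pc18 p (by omega) (by omega)
  exact (rangeOK_iff table 790000 10000).mp pc19 p (by omega) (by omega)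

end Cfsg.Agent.Lib.Helper15.HnOT3
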