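import Cfsg.Agent.Lib.Helper15.HnOT
set_option autoImplicit false
set_option maxRecDepth 100000
set_option maxHeartbeats 0
set_option Elab.async false

/-! S2082: the all-points check `HnOT.rowOK`, points 800000 to 999999 (generated). -/

namespace Cfsg.Agent.Lib.Helper15.HnOT4
open Cfsg.Agent.Lib.Helper28.TC2Upper Cfsg.Agent.Lib.Helper28.TC2Lower Cfsg.Agent.Lib.Helper28.TC2Range Cfsg.Agent.Lib.Helper16.HNP.Table Cfsg.Agent.Lib.Helper15.HnOT

theorem pc0 : rangeOK table 800000 10000 = true := by decide +kernel
theorem pc1 : rangeOK table 810000 10000 = true := by decide +kernel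
theorem pc2 : rangeOK table 820000 10000 = true := by decide +kernel
theorem pc3 : rangeOK table 830000 10000 = true := by decide +kernel
theorem pc4 : rangeOK table 840000 10000 = true := by decide +kernel
theorem pc5 : rangeOK table 850000 10000 = true := by decide +kernel
theorem pc6 : rangeOK table 860000 10000 = true := by decide +kernel
theorem pc7 : rangeOK table 870000 10000 = true := by decide +kernel
theorem pc8 : rangeOK table 880000 10000 = true := by decide +kernel
theorem pc9 : rangeOK table 890000 10000 = true := by decide +kernel
theorem pc10 : rangeOK table 900000 10000 = true := by decide +kernel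
theorem pc11 : rangeOK table 910000 10000 = true := by decide +kernel
theorem pc12 : rangeOK table 920000 10000 = true := by decide +kernel
theorem pc13 : rangeOK table 930000 10000 = true := by decide +kernel
theorem pc14 : rangeOK table 940000 10000 = true := by decide +kernel
theorem pc15 : rangeOK table 950000 10000 = true := by decide +kernel
theorem pc16 : rangeOK table 960000 10000 = true := by decide +kernel
theorem pc17 : rangeOK table 970000 10000 = true := by decide +kernel
theorem pc18 : rangeOK table 980000 10000 = true := by decide +kernel
theorem pc19 : rangeOK table 990000 10000 = true := by decide +kernel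

theorem range (p : ℕ) (h1 : 800000 ≤ p) (h2 : p < 1000000) : rowOK table p = true := by
  rcases Nat.lt_or_ge p 810000 with h | h
  · exact (rangeOK_iff table 800000 10000).mp pc0 p (by omega) (by omega)
  rcases Nat.lt_or_ge p 820000 with h | h
  · exact (rangeOK_iff table 810000 10000).mp pc1 p (by omega) (by omega)
  rcases Nat.lt_or_ge p 830000 with h | h
  · exact (rangeOK_iff table 820000 10000).mp pc2 p (by omega) (by omega)
  rcases Nat.lt_or_ge p 840000 with h | h
  · exact (rangeOK_iff table 830000 10000).mp pc3 p (by omega) (by omega)
  rcases Nat.lt_or_ge p 850000 with h | h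
  · exact (rangeOK_iff table 840000 10000).mp pc4 p (by omega) (by omega)
  rcases Nat.lt_or_ge p 860000 with h | h
  · exact (rangeOK_iff table 850000 10000).mp pc5 p (by omega) (by omega)
  rcases Nat.lt_or_ge p 870000 with h | h
  · exact (rangeOK_iff table 860000 10000).mp pc6 p (by omega) (by omega)
  rcases Nat.lt_or_ge p 880000 with h | h
  · exact (rangeOK_iff table 870000 10000).mp pc7 p (by omega) (by omega)
  rcases Nat.lt_or_ge p 890000 with h | h
  · exact (rangeOK_iff table 880000 10000).mp pc8 p (by omega) (by omega)
  rcases Nat.lt_or_ge p 900000 with h | h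
  · exact (rangeOK_iff table 890000 10000).mp pc9 p (by omega) (by omega)
  rcases Nat.lt_or_ge p 910000 with h | h
  · exact (rangeOK_iff table 900000 10000).mp pc10 p (by omega) (by omega)
  rcases Nat.lt_or_ge p 920000 with h | h
  · exact (rangeOK_iff table 910000 10000).mp pc11 p (by omega) (by omega)
  rcases Nat.lt_or_ge p 930000 with h | h
  · exact (rangeOK_iff table 920000 10000).mp pc12 p (by omega) (by omega)
  rcases Nat.lt_or_ge p 940000 with h | h
  · exact (rangeOK_iff table 930000 10000).mp pc13 p (by omega) (by omega)
  rcases Nat.lt_or_ge p 950000 with h | h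
  · exact (rangeOK_iff table 940000 10000).mp pc14 p (by omega) (by omega)
  rcases Nat.lt_or_ge p 960000 with h | h
  · exact (rangeOK_iff table 950000 10000).mp pc15 p (by omega) (by omega)
  rcases Nat.lt_or_ge p 970000 with h | h
  · exact (rangeOK_iff table 960000 10000).mp pc16 p (by omega) (by omega)
  rcases Nat.lt_or_ge p 980000 with h | h
  · exact (rangeOK_iff table 970000 10000).mp pc17 p (by omega) (by omega)
  rcases Nat.lt_or_ge p 990000 with h | h
  · exact (rangeOK_iff table 980000 10000).mp pc18 p (by omega) (by omega)
  exact (rangeOK_iff table 990000 10000).mp pc19 p (by omega) (by omega)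

end Cfsg.Agent.Lib.Helper15.HnOT4
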