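import Cfsg.Agent.Lib.Helper15.HnOT
set_option autoImplicit false
set_option maxRecDepth 100000
set_option maxHeartbeats 0
set_option Elab.async false

/-! S2082: the all-points check `HnOT.rowOK`, points 1200000 to 1399999 (generated). -/

namespace Cfsg.Agent.Lib.Helper15.HnOT6
open Cfsg.Agent.Lib.Helper28.TC2Upper Cfsg.Agent.Lib.Helper28.TC2Lower Cfsg.Agent.Lib.Helper28.TC2Range Cfsg.Agent.Lib.Helper16.HNP.Table Cfsg.Agent.Lib.Helper15.HnOT

theorem pc0 : rangeOK table 1200000 10000 = true := by decide +kernel
theorem pc1 : rangeOK table 1210000 10000 = true := by decide +kernel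
theorem pc2 : rangeOK table 1220000 10000 = true := by decide +kernel
theorem pc3 : rangeOK table 1230000 10000 = true := by decide +kernel
theorem pc4 : rangeOK table 1240000 10000 = true := by decide +kernel
theorem pc5 : rangeOK table 1250000 10000 = true := by decide +kernel
theorem pc6 : rangeOK table 1260000 10000 = true := by decide +kernel
theorem pc7 : rangeOK table 1270000 10000 = true := by decide +kernel
theorem pc8 : rangeOK table 1280000 10000 = true := by decide +kernel
theorem pc9 : rangeOK table 1290000 10000 = true := by decide +kernel
theorem pc10 : rangeOK table 1300000 10000 = true := by decide +kernel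
theorem pc11 : rangeOK table 1310000 10000 = true := by decide +kernel
theorem pc12 : rangeOK table 1320000 10000 = true := by decide +kernel
theorem pc13 : rangeOK table 1330000 10000 = true := by decide +kernel
theorem pc14 : rangeOK table 1340000 10000 = true := by decide +kernel
theorem pc15 : rangeOK table 1350000 10000 = true := by decide +kernel
theorem pc16 : rangeOK table 1360000 10000 = true := by decide +kernel
theorem pc17 : rangeOK table 1370000 10000 = true := by decide +kernel
theorem pc18 : rangeOK table 1380000 10000 = true := by decide +kernel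
theorem pc19 : rangeOK table 1390000 10000 = true := by decide +kernel

theorem range (p : ℕ) (h1 : 1200000 ≤ p) (h2 : p < 1400000) : rowOK table p = true := by
  rcases Nat.lt_or_ge p 1210000 with h | h
  · exact (rangeOK_iff table 1200000 10000).mp pc0 p (by omega) (by omega)
  rcases Nat.lt_or_ge p 1220000 with h | h
  · exact (rangeOK_iff table 1210000 10000).mp pc1 p (by omega) (by omega)
  rcases Nat.lt_or_ge p 1230000 with h | h
  · exact (rangeOK_iff table 1220000 10000).mp pc2 p (by omega) (by omega)
  rcases Nat.lt_or_ge p 1240000 with h | h
  · exact (rangeOK_iff table 1230000 10000).mp pc3 p (by omega) (by omega)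
  rcases Nat.lt_or_ge p 1250000 with h | h
  · exact (rangeOK_iff table 1240000 10000).mp pc4 p (by omega) (by omega)
  rcases Nat.lt_or_ge p 1260000 with h | h
  · exact (rangeOK_iff table 1250000 10000).mp pc5 p (by omega) (by omega)
  rcases Nat.lt_or_ge p 1270000 with h | h
  · exact (rangeOK_iff table 1260000 10000).mp pc6 p (by omega) (by omega)
  rcases Nat.lt_or_ge p 1280000 with h | h
  · exact (rangeOK_iff table 1270000 10000).mp pc7 p (by omega) (by omega)
  rcases Nat.lt_or_ge p 1290000 with h | h
  · exact (rangeOK_iff table 1280000 10000).mp pc8 p (by omega) (by omega)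
  rcases Nat.lt_or_ge p 1300000 with h | h
  · exact (rangeOK_iff table 1290000 10000).mp pc9 p (by omega) (by omega)
  rcases Nat.lt_or_ge p 1310000 with h | h
  · exact (rangeOK_iff table 1300000 10000).mp pc10 p (by omega) (by omega)
  rcases Nat.lt_or_ge p 1320000 with h | h
  · exact (rangeOK_iff table 1310000 10000).mp pc11 p (by omega) (by omega)
  rcases Nat.lt_or_ge p 1330000 with h | h
  · exact (rangeOK_iff table 1320000 10000).mp pc12 p (by omega) (by omega)
  rcases Nat.lt_or_ge p 1340000 with h | h
  · exact (rangeOK_iff table 1330000 10000).mp pc13 p (by omega) (by omega)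
  rcases Nat.lt_or_ge p 1350000 with h | h
  · exact (rangeOK_iff table 1340000 10000).mp pc14 p (by omega) (by omega)
  rcases Nat.lt_or_ge p 1360000 with h | h
  · exact (rangeOK_iff table 1350000 10000).mp pc15 p (by omega) (by omega)
  rcases Nat.lt_or_ge p 1370000 with h | h
  · exact (rangeOK_iff table 1360000 10000).mp pc16 p (by omega) (by omega)
  rcases Nat.lt_or_ge p 1380000 with h | h
  · exact (rangeOK_iff table 1370000 10000).mp pc17 p (by omega) (by omega)
  rcases Nat.lt_or_ge p 1390000 with h | h
  · exact (rangeOK_iff table 1380000 10000).mp pc18 p (by omega) (by omega)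
  exact (rangeOK_iff table 1390000 10000).mp pc19 p (by omega) (by omega)

end Cfsg.Agent.Lib.Helper15.HnOT6
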