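import Cfsg.Agent.Lib.Helper15.HnOT
set_option autoImplicit false
set_option maxRecDepth 100000
set_option maxHeartbeats 0
set_option Elab.async false

/-! S2082: the all-points check `HnOT.rowOK`, points 1400000 to 1538999 (generated). -/

namespace Cfsg.Agent.Lib.Helper15.HnOT7
open Cfsg.Agent.Lib.Helper28.TC2Upper Cfsg.Agent.Lib.Helper28.TC2Lower Cfsg.Agent.Lib.Helper28.TC2Range Cfsg.Agent.Lib.Helper16.HNP.Table Cfsg.Agent.Lib.Helper15.HnOT

theorem pc0 : rangeOK table 1400000 10000 = true := by decide +kernel
theorem pc1 : rangeOK table 1410000 10000 = true := by decide +kernel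
theorem pc2 : rangeOK table 1420000 10000 = true := by decide +kernel
theorem pc3 : rangeOK table 1430000 10000 = true := by decide +kernel
theorem pc4 : rangeOK table 1440000 10000 = true := by decide +kernel
theorem pc5 : rangeOK table 1450000 10000 = true := by decide +kernel
theorem pc6 : rangeOK table 1460000 10000 = true := by decide +kernel
theorem pc7 : rangeOK table 1470000 10000 = true := by decide +kernel
theorem pc8 : rangeOK table 1480000 10000 = true := by decide +kernel
theorem pc9 : rangeOK table 1490000 10000 = true := by decide +kernel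
theorem pc10 : rangeOK table 1500000 10000 = true := by decide +kernel
theorem pc11 : rangeOK table 1510000 10000 = true := by decide +kernel
theorem pc12 : rangeOK table 1520000 10000 = true := by decide +kernel
theorem pc13 : rangeOK table 1530000 9000 = true := by decide +kernel

theorem range (p : ℕ) (h1 : 1400000 ≤ p) (h2 : p < 1539000) : rowOK table p = true := by
  rcases Nat.lt_or_ge p 1410000 with h | h
  · exact (rangeOK_iff table 1400000 10000).mp pc0 p (by omega) (by omega)
  rcases Nat.lt_or_ge p 1420000 with h | h
  · exact (rangeOK_iff table 1410000 10000).mp pc1 p (by omega) (by omega)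
  rcases Nat.lt_or_ge p 1430000 with h | h
  · exact (rangeOK_iff table 1420000 10000).mp pc2 p (by omega) (by omega)
  rcases Nat.lt_or_ge p 1440000 with h | h
  · exact (rangeOK_iff table 1430000 10000).mp pc3 p (by omega) (by omega)
  rcases Nat.lt_or_ge p 1450000 with h | h
  · exact (rangeOK_iff table 1440000 10000).mp pc4 p (by omega) (by omega)
  rcases Nat.lt_or_ge p 1460000 with h | h
  · exact (rangeOK_iff table 1450000 10000).mp pc5 p (by omega) (by omega)
  rcases Nat.lt_or_ge p 1470000 with h | h
  · exact (rangeOK_iff table 1460000 10000).mp pc6 p (by omega) (by omega)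
  rcases Nat.lt_or_ge p 1480000 with h | h
  · exact (rangeOK_iff table 1470000 10000).mp pc7 p (by omega) (by omega)
  rcases Nat.lt_or_ge p 1490000 with h | h
  · exact (rangeOK_iff table 1480000 10000).mp pc8 p (by omega) (by omega)
  rcases Nat.lt_or_ge p 1500000 with h | h
  · exact (rangeOK_iff table 1490000 10000).mp pc9 p (by omega) (by omega)
  rcases Nat.lt_or_ge p 1510000 with h | h
  · exact (rangeOK_iff table 1500000 10000).mp pc10 p (by omega) (by omega)
  rcases Nat.lt_or_ge p 1520000 with h | h
  · exact (rangeOK_iff table 1510000 10000).mp pc11 p (by omega) (by omega)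
  rcases Nat.lt_or_ge p 1530000 with h | h
  · exact (rangeOK_iff table 1520000 10000).mp pc12 p (by omega) (by omega)
  exact (rangeOK_iff table 1530000 9000).mp pc13 p (by omega) (by omega)

end Cfsg.Agent.Lib.Helper15.HnOT7
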