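import Cfsg.Agent.Lib.Helper15.HnOT0
import Cfsg.Agent.Lib.Helper15.HnOT1
import Cfsg.Agent.Lib.Helper15.HnOT2
import Cfsg.Agent.Lib.Helper15.HnOT3
import Cfsg.Agent.Lib.Helper15.HnOT4
import Cfsg.Agent.Lib.Helper15.HnOT5
import Cfsg.Agent.Lib.Helper15.HnOT6
import Cfsg.Agent.Lib.Helper15.HnOT7
set_option autoImplicit false

/-! S2082: the all-points check `HnOT.rowOK` holds at every point of helper16's table. -/

namespace Cfsg.Agent.Lib.Helper15.HnOTAll
open Cfsg.Agent.Lib.Helper28.TC2Upper Cfsg.Agent.Lib.Helper28.TC2Lower Cfsg.Agent.Lib.Helper28.TC2Range Cfsg.Agent.Lib.Helper16.HNP.Table Cfsg.Agent.Lib.Helper15.HnOT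

theorem rowOK_all (p : ℕ) (hp : p < table.n) : rowOK table p = true := by
  have hp' : p < 1539000 := hp
  rcases Nat.lt_or_ge p 200000 with h | h
  · exact Cfsg.Agent.Lib.Helper15.HnOT0.range p (by omega) (by omega)
  rcases Nat.lt_or_ge p 400000 with h | h
  · exact Cfsg.Agent.Lib.Helper15.HnOT1.range p (by omega) (by omega)
  rcases Nat.lt_or_ge p 600000 with h | h
  · exact Cfsg.Agent.Lib.Helper15.HnOT2.range p (by omega) (by omega)
  rcases Nat.lt_or_ge p 800000 with h | h
  · exact Cfsg.Agent.Lib.Helper15.HnOT3.range p (by omega) (by omega)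
  rcases Nat.lt_or_ge p 1000000 with h | h
  · exact Cfsg.Agent.Lib.Helper15.HnOT4.range p (by omega) (by omega)
  rcases Nat.lt_or_ge p 1200000 with h | h
  · exact Cfsg.Agent.Lib.Helper15.HnOT5.range p (by omega) (by omega)
  rcases Nat.lt_or_ge p 1400000 with h | h
  · exact Cfsg.Agent.Lib.Helper15.HnOT6.range p (by omega) (by omega)
  exact Cfsg.Agent.Lib.Helper15.HnOT7.range p (by omega) (by omega)

/-- the path of `e` fixes only the point `0` -/
theorem fixE (p : ℕ) (hp : p < table.n) (h : table.walkT pE p = p) : p = 0 :=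
  (rowOK_spec table p (rowOK_all p hp)).1 h

/-- the common fixed points of `y` and `x⁻¹ y x` are among `0, …, 4` -/
theorem fixYY (p : ℕ) (hp : p < table.n) (h : table.walkT pY p = p) (h' : table.walkT pY' p = p) : p < 5 :=
  (rowOK_spec table p (rowOK_all p hp)).2 h h'

end Cfsg.Agent.Lib.Helper15.HnOTAll
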