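import Cfsg.Agent.S1701
import Cfsg.Agent.Lib.Helper21.HNSchur.Main
import Cfsg.Agent.Lib.Helper21.HNGlue.Coatom
import Cfsg.Agent.Lib.Helper15.HnOTAll

set_option autoImplicit false
set_option maxRecDepth 100000
set_option linter.style.haveILetI false

/-!
# S2082 (Out(HN) = 2): the facts about the presented group `Spor.HN` that feed the abstract leaves

`a = x²`, `e = x y³ z y z` (order 11, exactly one fixed point on the 1539000 points).  Word identities come from
helper21's solution of the word problem (`Solver.ev_eq_one_of`), non-identities from one-point walks, and the two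
fixed-point statements from the all-points check `HnOTAll`.
-/

namespace Cfsg.Agent.Lib.Helper15.HnOFacts

open Cfsg
open Cfsg.Agent.Lib.Helper28.TC2Upper Cfsg.Agent.Lib.Helper28.TC2Lower Cfsg.Agent.Lib.Helper28.TC2Glue
open Cfsg.Agent.Lib.Helper3.HN Cfsg.Agent.Lib.Helper3.HN.HNRel
open Cfsg.Agent.Lib.Helper16.HNP.Table
open Cfsg.Agent.Lib.Helper21.HNGlue.Coatom
open Cfsg.Agent.Lib.Helper15.HnOT

/-- helper21's solution of the word problem, with its three inputs filled in -/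
theorem solve (w : Wd) (h : Cfsg.Agent.Lib.Helper21.HNSchur.Solver.solveOK w = true) : ev lt w = 1 :=
  Cfsg.Agent.Lib.Helper21.HNSchur.Solver.ev_eq_one_of Cfsg.Agent.Lib.Helper16.HSM.HSMain.schur_HS
    Cfsg.Agent.Lib.Helper16.HNP.Main.x_sq_ne_one Cfsg.Agent.Lib.Helper16.HNP.Main.walk_xx w h

/-- the central involution `x²` of `N` -/
noncomputable def a : Spor.HN := gx * gx

/-- the word of `e` -/
def we : Wd := [0, 2, 2, 2, 4, 2, 4]

/-- the element `e = x y³ z y z` of order 11 -/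
noncomputable def e : Spor.HN := ev lt we

theorem card_HN : Nat.card Spor.HN = 273030912000000 := Cfsg.Agent.S1701.result.2

theorem finite_HN : Finite Spor.HN := Nat.finite_of_card_ne_zero (by rw [card_HN]; norm_num)

/-! ### word identities -/

theorem ha2 : a * a = 1 :=
  Cfsg.Agent.Lib.Helper21.HNSchur.Main.hx4 Cfsg.Agent.Lib.Helper16.HSM.HSMain.schur_HS
    Cfsg.Agent.Lib.Helper16.HNP.Main.x_sq_ne_one Cfsg.Agent.Lib.Helper16.HNP.Main.walk_xx

theorem ha1 : a ≠ 1 := by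
  intro h
  apply Cfsg.Agent.Lib.Helper16.HNP.Main.x_sq_ne_one
  rw [pow_two]
  exact h

theorem ev6 (c1 c2 c3 c4 c5 c6 : ℕ) :
    ev lt [c1, c2, c3, c4, c5, c6] = lt c1 * (lt c2 * (lt c3 * (lt c4 * (lt c5 * lt c6)))) := by
  simp only [ev, List.map_cons, List.map_nil, List.prod_cons, List.prod_nil, mul_one]

set_option maxHeartbeats 4000000 in
theorem hay : a * gy = gy * a := by
  have h := solve [0, 0, 2, 1, 1, 3] (by decide +kernel)
  rw [ev6] at h
  have h' : gx * (gx * (gy * (gx⁻¹ * (gx⁻¹ * gy⁻¹)))) = 1 := h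
  unfold a
  calc gx * gx * gy = (gx * (gx * (gy * (gx⁻¹ * (gx⁻¹ * gy⁻¹))))) * (gy * (gx * gx)) := by group
    _ = gy * (gx * gx) := by rw [h', one_mul]

set_option maxHeartbeats 4000000 in
theorem haz : a * gz = gz * a := by
  have h := solve [0, 0, 4, 1, 1, 4] (by decide +kernel)
  rw [ev6] at h
  have h' : gx * (gx * (gz * (gx⁻¹ * (gx⁻¹ * gz)))) = 1 := h
  have hz : gz⁻¹ = gz := gz_inv
  unfold a
  calc gx * gx * gz = (gx * (gx * (gz * (gx⁻¹ * (gx⁻¹ * gz))))) * (gz⁻¹ * (gx * gx)) := by group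
    _ = gz * (gx * gx) := by rw [h', one_mul, hz]

set_option maxHeartbeats 4000000 in
theorem hat : a * gt * a⁻¹ = gt⁻¹ := by
  have h := solve [0, 0, 5, 1, 1, 5] (by decide +kernel)
  rw [ev6] at h
  have h' : gx * (gx * (gt * (gx⁻¹ * (gx⁻¹ * gt)))) = 1 := h
  unfold a
  calc gx * gx * gt * (gx * gx)⁻¹ = (gx * (gx * (gt * (gx⁻¹ * (gx⁻¹ * gt))))) * gt⁻¹ := by group
    _ = gt⁻¹ := by rw [h', one_mul]

set_option maxHeartbeats 4000000 in
/-- the one relation of `σ` that is not formal: `(z x² t²)³ = 1` -/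
theorem hrel : (gz * (gx * gx) * gt ^ 2) ^ 3 = 1 := by
  have h := solve [4, 0, 0, 5, 5, 4, 0, 0, 5, 5, 4, 0, 0, 5, 5] (by decide +kernel)
  have e1 : ev lt [4, 0, 0, 5, 5, 4, 0, 0, 5, 5, 4, 0, 0, 5, 5] =
      gz * (gx * (gx * (gt * (gt * (gz * (gx * (gx * (gt * (gt * (gz * (gx * (gx * (gt * gt))))))))))))) := by
    simp only [ev, List.map_cons, List.map_nil, List.prod_cons, List.prod_nil, mul_one, lt]
  rw [e1] at h
  rw [← h]
  simp only [pow_succ, pow_zero, one_mul, mul_assoc]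

/-- `a` is central in `N` -/
theorem hNa : ∀ n ∈ Index.N, n * a = a * n := by
  intro n hn
  rw [Index.N_eq_closure] at hn
  induction hn using Subgroup.closure_induction with
  | mem g hg =>
    rcases hg with rfl | rfl | rfl
    · unfold a; rw [mul_assoc]
    · exact hay.symm
    · exact haz.symm
  | one => rw [one_mul, mul_one]
  | mul u v _ _ hu hv => rw [mul_assoc, hv, ← mul_assoc, hu, mul_assoc]
  | inv u _ hu =>
    have : u⁻¹ * (u * a) * u⁻¹ = u⁻¹ * (a * u) * u⁻¹ := by rw [hu]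
    have h1 : u⁻¹ * (u * a) * u⁻¹ = a * u⁻¹ := by group
    have h2 : u⁻¹ * (a * u) * u⁻¹ = u⁻¹ * a := by group
    rw [h1, h2] at this
    exact this.symm

theorem a_mem : a ∈ Index.N := Index.N.mul_mem Index.gx_mem Index.gx_mem

theorem e_mem : e ∈ Index.N := ev_mem_of_allN lt Index.N Index.lt_mem_N we (by decide)

/-! ### the centre -/

theorem gt_not_mem : gt ∉ Index.N := by
  obtain ⟨φ, hφ⟩ := Cfsg.Agent.Lib.Helper16.HNP.Main.perm_rep
  intro h
  have h1 := hfix φ hφ gt h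
  have h2 := hwalk φ hφ [5] (by decide) ⟨0, hn_pos⟩
  have e5 : ev lt [5] = gt := by simp [ev, lt]
  rw [e5, h1] at h2
  have h3 : table.walkT [5] 0 = 4 := by decide +kernel
  have h4 : (0 : ℕ) = table.walkT [5] 0 := h2
  omega

theorem gt_ne_one : gt ≠ 1 := fun h => gt_not_mem (h ▸ Index.N.one_mem)

theorem center_HN : Subgroup.center Spor.HN = ⊥ := by
  haveI : IsSimpleGroup Spor.HN := Cfsg.Agent.S1701.result.1
  rcases (inferInstance : (Subgroup.center Spor.HN).Normal).eq_bot_or_eq_top with h | h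
  · exact h
  · exfalso
    have hc : gx ∈ Subgroup.center Spor.HN := by rw [h]; trivial
    have h1 : gt * gx = gx * gt := Subgroup.mem_center_iff.mp hc gt
    have h2 : gx⁻¹ * gt * gx = gt := by rw [mul_assoc, h1, ← mul_assoc, inv_mul_cancel, one_mul]
    rw [conj_t] at h2
    have h3 : gt ^ 3 = 1 := by
      calc gt ^ 3 = gt ^ 2 * gt := pow_succ gt 2
        _ = gt ^ 2 * (gt ^ 2)⁻¹ := by rw [h2]
        _ = 1 := mul_inv_cancel _
    apply gt_ne_one
    calc gt = (gt ^ 3) ^ 2 * (gt ^ 5)⁻¹ := by group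
      _ = 1 := by rw [h3, ht5]; simp

/-- the centraliser of `a` is `N` -/
theorem hCa : ∀ g : Spor.HN, g * a = a * g → g ∈ Index.N := by
  intro g hg
  have hco := Cfsg.Agent.Lib.Helper21.HNGlue.Coatom.isCoatom_N
  let C : Subgroup Spor.HN := Subgroup.centralizer {a}
  have hle : Index.N ≤ C := by
    intro n hn
    rw [Subgroup.mem_centralizer_iff]
    intro b hb
    rw [Set.mem_singleton_iff] at hb
    rw [hb]
    exact (hNa n hn).symm
  have hgC : g ∈ C := by
    rw [Subgroup.mem_centralizer_iff]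
    intro b hb
    rw [Set.mem_singleton_iff] at hb
    rw [hb]
    exact hg.symm
  rcases eq_or_lt_of_le hle with h | h
  · rw [h]; exact hgC
  · exfalso
    have htop : C = ⊤ := hco.2 C h
    have hc : a ∈ Subgroup.center Spor.HN := by
      rw [Subgroup.mem_center_iff]
      intro b
      have hb : b ∈ C := by rw [htop]; trivial
      rw [Subgroup.mem_centralizer_iff] at hb
      exact (hb a rfl).symm
    rw [center_HN, Subgroup.mem_bot] at hc
    exact ha1 hc

/-! ### the element of order 11 -/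

/-- eleven copies of the word of `e` -/
def W11 : Wd := [0, 2, 2, 2, 4, 2, 4, 0, 2, 2, 2, 4, 2, 4, 0, 2, 2, 2, 4, 2, 4, 0, 2, 2, 2, 4, 2, 4, 0, 2, 2, 2, 4, 2, 4, 0, 2, 2, 2, 4, 2, 4, 0, 2, 2, 2, 4, 2, 4, 0, 2, 2, 2, 4, 2, 4, 0, 2, 2, 2, 4, 2, 4, 0, 2, 2, 2, 4, 2, 4, 0, 2, 2, 2, 4, 2, 4]

theorem ev_flatten_replicate (w : Wd) (n : ℕ) :
    ev lt (List.flatten (List.replicate n w)) = (ev lt w) ^ n := by
  induction n with
  | zero => simp [ev]
  | succ n ih =>
    rw [List.replicate_succ, List.flatten_cons, ev_append, ih, pow_succ']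

theorem he11 : e ^ 11 = 1 := by
  have h := solve W11 (by decide +kernel)
  have e1 : W11 = List.flatten (List.replicate 11 we) := by decide
  rw [e1, ev_flatten_replicate] at h
  exact h

theorem e_ne_one : e ≠ 1 := by
  obtain ⟨φ, hφ⟩ := Cfsg.Agent.Lib.Helper16.HNP.Main.perm_rep
  intro h
  have hn1 : 1 < table.n := by show 1 < 1539000; omega
  have h2 := hwalk φ hφ we (by decide) ⟨1, hn1⟩
  have h2' : (φ e ⟨1, hn1⟩).val = table.walkT we.reverse 1 := h2
  rw [h, map_one] at h2'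
  have h3 : table.walkT we.reverse 1 = 988 := by decide +kernel
  rw [h3] at h2'
  have : (1 : ℕ) = 988 := h2'
  omega

theorem he : orderOf e = 11 := orderOf_eq_prime he11 e_ne_one

theorem hp : ¬ 11 ^ 2 ∣ Nat.card Spor.HN := by rw [card_HN]; norm_num

section Rep

variable (φ : Spor.HN →* Equiv.Perm (Fin table.n))
  (hφ : ∀ (L : List (Spor.HN.Gen × Bool)) (p : Fin table.n),
    (φ (PresentedGroup.mk Cfsg.Agent.Lib.Helper16.HNP.Main.rels (FreeGroup.mk L)) p).val =
      table.walkT (pathOf Cfsg.Agent.Lib.Helper16.HNP.Main.lw L) p.val)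

include hφ

/-- the centraliser of `e` lies in `N`: `e` has exactly one fixed point -/
theorem hCe_aux (g : Spor.HN) (hg : g * e = e * g) : g ∈ Index.N := by
  apply hstab φ hφ
  have h0 : φ e ⟨0, hn_pos⟩ = ⟨0, hn_pos⟩ := hfix φ hφ e e_mem
  set q : Fin table.n := φ g ⟨0, hn_pos⟩ with hq
  have h1 : φ e q = q := by
    rw [hq, ← Equiv.Perm.mul_apply, ← map_mul, ← hg, map_mul, Equiv.Perm.mul_apply, h0]
  have h2 := hwalk φ hφ we (by decide) q
  have h2' : (φ e q).val = table.walkT pE q.val := h2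
  rw [h1] at h2'
  have h3 := Cfsg.Agent.Lib.Helper15.HnOTAll.fixE q.val q.2 h2'.symm
  exact Fin.ext h3

/-- the common fixed points of `y` and `x⁻¹ y x` are the points `t ^ j • 0` -/
theorem hfix_aux (q : Fin table.n) (h1 : φ gy q = q) (h2 : φ (gx⁻¹ * gy * gx) q = q) :
    ∃ j : ℕ, q = φ (gt ^ j) ⟨0, hn_pos⟩ := by
  have w1 := hwalk φ hφ [2] (by decide) q
  have e1 : ev lt [2] = gy := by simp [ev, lt]
  rw [e1, h1] at w1
  have w2 := hwalk φ hφ [1, 2, 0] (by decide) q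
  have e2 : ev lt [1, 2, 0] = gx⁻¹ * gy * gx := by simp [ev, lt, mul_assoc]
  rw [e2, h2] at w2
  have h5 : q.val < 5 :=
    Cfsg.Agent.Lib.Helper15.HnOTAll.fixYY q.val q.2 w1.symm w2.symm
  have key : ∀ j : ℕ, (φ (gt ^ j) ⟨0, hn_pos⟩).val = table.walkT (List.replicate j 5) 0 := by
    intro j
    have := hwalk φ hφ (List.replicate j 5) (by intro c hc; rw [List.eq_of_mem_replicate hc]; omega)
      ⟨0, hn_pos⟩
    rw [ev_rep5, List.reverse_replicate] at this
    exact this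
  have k0 : table.walkT (List.replicate 0 5) 0 = 0 := rfl
  have k1 : table.walkT (List.replicate 1 5) 0 = 4 := by decide +kernel
  have k2 : table.walkT (List.replicate 2 5) 0 = 3 := by decide +kernel
  have k3 : table.walkT (List.replicate 3 5) 0 = 2 := by decide +kernel
  have k4 : table.walkT (List.replicate 4 5) 0 = 1 := by decide +kernel
  have hq : q.val = 0 ∨ q.val = 1 ∨ q.val = 2 ∨ q.val = 3 ∨ q.val = 4 := by omega
  rcases hq with h | h | h | h | h
  · exact ⟨0, Fin.ext (by rw [key, k0, h])⟩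
  · exact ⟨4, Fin.ext (by rw [key, k4, h])⟩
  · exact ⟨3, Fin.ext (by rw [key, k3, h])⟩
  · exact ⟨2, Fin.ext (by rw [key, k2, h])⟩
  · exact ⟨1, Fin.ext (by rw [key, k1, h])⟩

theorem hzt2_aux : (gz * gt ^ 2) ^ 3 ≠ 1 := by
  intro h
  have e1 : ev lt [4, 5, 5, 4, 5, 5, 4, 5, 5] = (gz * gt ^ 2) ^ 3 := by
    simp only [ev, List.map_cons, List.map_nil, List.prod_cons, List.prod_nil, mul_one, lt, pow_succ, pow_zero,
      one_mul, mul_assoc]
  have w := hwalk φ hφ [4, 5, 5, 4, 5, 5, 4, 5, 5] (by decide) ⟨0, hn_pos⟩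
  rw [e1, h, map_one] at w
  have k : table.walkT [4, 5, 5, 4, 5, 5, 4, 5, 5].reverse 0 = 145 := by decide +kernel
  rw [k] at w
  have : (0 : ℕ) = 145 := w
  omega

theorem hzt3_aux : (gz * gt ^ 3) ^ 3 ≠ 1 := by
  intro h
  have e1 : ev lt [4, 5, 5, 5, 4, 5, 5, 5, 4, 5, 5, 5] = (gz * gt ^ 3) ^ 3 := by
    simp only [ev, List.map_cons, List.map_nil, List.prod_cons, List.prod_nil, mul_one, lt, pow_succ, pow_zero,
      one_mul, mul_assoc]
  have w := hwalk φ hφ [4, 5, 5, 5, 4, 5, 5, 5, 4, 5, 5, 5] (by decide) ⟨0, hn_pos⟩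
  rw [e1, h, map_one] at w
  have k : table.walkT [4, 5, 5, 5, 4, 5, 5, 5, 4, 5, 5, 5].reverse 0 = 81 := by decide +kernel
  rw [k] at w
  have : (0 : ℕ) = 81 := w
  omega

end Rep

theorem hCe : ∀ g : Spor.HN, g * e = e * g → g ∈ Index.N := by
  obtain ⟨φ, hφ⟩ := Cfsg.Agent.Lib.Helper16.HNP.Main.perm_rep
  exact hCe_aux φ hφ

theorem hzt2 : (gz * gt ^ 2) ^ 3 ≠ 1 := by
  obtain ⟨φ, hφ⟩ := Cfsg.Agent.Lib.Helper16.HNP.Main.perm_rep
  exact hzt2_aux φ hφ

theorem hzt3 : (gz * gt ^ 3) ^ 3 ≠ 1 := by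
  obtain ⟨φ, hφ⟩ := Cfsg.Agent.Lib.Helper16.HNP.Main.perm_rep
  exact hzt3_aux φ hφ

end Cfsg.Agent.Lib.Helper15.HnOFacts
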