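import Cfsg.Agent.Lib.Helper3.HN.NKit
import Cfsg.Agent.Lib.Helper3.HN.Index
import Cfsg.Agent.Lib.Helper14.HNx.GamStruct
import Cfsg.Agent.Lib.Helper14.HSOutD
import Cfsg.Agent.Lib.Helper9.HnOA1
import Cfsg.Agent.Lib.Helper15.HnOFacts

set_option autoImplicit false
set_option maxRecDepth 100000
set_option linter.style.haveILetI false
set_option linter.unusedVariables false

/-!
# S2082 (Out(HN) = 2): the facts that come from `N = 2.HS.2 → Γ = HS.2 ≤ Sym(100)`

* `kit'`: helper3's `kitHN` with the surjectivity of `π` kept;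
* `hInnGam`: every automorphism of `Γ` is inner (leaf A1 + `|Out HS| = 2`);
* `hinv_of`, `hK_of`: the two centraliser statements in `N`, from the leaves D1, D2 on the 100 points.
-/

namespace Cfsg.Agent.Lib.Helper15.HnOGam

open Cfsg Cfsg.Agent.Lib.Helper3.Cover
open Cfsg.Agent.Lib.Helper28.TC2Upper Cfsg.Agent.Lib.Helper28.TC2Lower Cfsg.Agent.Lib.Helper28.TC2Glue
open Cfsg.Agent.Lib.Helper14.HNx Cfsg.Agent.Lib.Helper14.HNx.Main
open Cfsg.Agent.Lib.Helper3.HN
open Cfsg.Agent.Lib.Helper3.HN.HNRel hiding gx gy gz gt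
open Cfsg.Agent.Lib.Helper3.HN.P0W hiding P0
open Cfsg.Agent.Lib.Helper3.HN.NKit
open Cfsg.Agent.Lib.Helper15.HnOFacts

theorem center_eq_bot_of_simple {H : Type*} [Group H] (hs : IsSimpleGroup H)
    (hnc : ∃ u v : H, u * v ≠ v * u) : Subgroup.center H = ⊥ := by
  haveI := hs
  rcases (inferInstance : (Subgroup.center H).Normal).eq_bot_or_eq_top with h | h
  · exact h
  · exfalso
    obtain ⟨u, v, huv⟩ := hnc
    have hc : v ∈ Subgroup.center H := by rw [h]; trivial
    exact huv (Subgroup.mem_center_iff.mp hc u)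

/-- helper3's `kitHN`, keeping the surjectivity of `π` and `π (x²) = 1` -/
theorem kit' : ∃ π : P0 →* ↥G100.Gam, Function.Surjective π ∧ π (gx * gx) = 1 ∧
    (∀ (L : List (P0Def.Gen × Bool)) (p : Fin L100Table.table.n),
      ((π (PresentedGroup.mk _ (FreeGroup.mk L)) : Equiv.Perm (Fin L100Table.table.n)) p).val =
        L100Table.table.walkT (pathOf P0Link.lw L) p.val) ∧
    (∀ r ∈ π.ker, r = 1 ∨ r = gx * gx) ∧ Function.Injective φHN ∧
      (gx * gx : P0) ∈ Subgroup.center P0 := by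
  haveI := cardP0.1
  obtain ⟨π, hπ, hc, hw⟩ := exists_pi'
  obtain ⟨hcG, S, hSn, hSi, hSs, hScard, ⟨e⟩, hZ⟩ := GamStruct.gam_structure
  have hker : Nat.card π.ker ≤ 6 := by
    have h1 := Subgroup.card_mul_index π.ker
    rw [Subgroup.index_ker, MonoidHom.range_eq_top.mpr hπ, Subgroup.card_top, hcG] at h1
    have h2 := cardP0.2
    rw [← h1] at h2
    exact Nat.le_of_mul_le_mul_right h2 (by norm_num)
  have hφ : φHN (gx * gx) ≠ 1 := by
    rw [map_mul, φHN_of, ← pow_two]
    exact Cfsg.Agent.Lib.Helper16.HNP.Main.x_sq_ne_one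
  obtain ⟨h1, h2, h3⟩ := Kit.kit gx gy gz hgen hz hclean π hπ hker hc S hSn hSi hSs hScard e hZ
    Cfsg.Agent.Lib.Helper16.HSM.HSMain.schur_HS φHN hφ
  exact ⟨π, hπ, hc, hw, h1, h2, h3⟩

theorem finite_Gam : Finite ↥G100.Gam :=
  Nat.finite_of_card_ne_zero (by rw [GamStruct.gam_structure.1]; norm_num)

theorem center_Gam : Subgroup.center ↥G100.Gam = ⊥ := by
  obtain ⟨-, S, -, -, -, -, -, hZ⟩ := GamStruct.gam_structure
  exact hZ

/-- every automorphism of `Γ = HS.2` is inner -/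
theorem hInnGam : ∀ β : MulAut ↥G100.Gam, ∃ m : ↥G100.Gam, β = MulAut.conj m := by
  haveI := finite_Gam
  obtain ⟨hcG, S, hSn, hSi, hSs, hScard, ⟨e⟩, hZ⟩ := GamStruct.gam_structure
  haveI := hSn
  haveI : Finite S := Nat.finite_of_card_ne_zero (by rw [hScard]; norm_num)
  have hSnc : ∃ u v : S, u * v ≠ v * u :=
    Cfsg.Agent.Lib.Helper21.HNGlue.exists_not_comm_of_simple hSs (by rw [hScard]; norm_num)
  have hZS : Subgroup.center S = ⊥ := center_eq_bot_of_simple hSs hSnc
  have hout : Nat.card (Cfsg.Out S) = 2 := by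
    rw [Cfsg.Agent.Lib.Helper10.OutG.card_out_congr e]
    exact Cfsg.Agent.Lib.Helper14.HSRec.card_out_HS
  have hAutS : Nat.card (MulAut S) = Nat.card ↥G100.Gam := by
    have h1 := Subgroup.card_mul_index (Cfsg.Inn S)
    rw [Cfsg.Agent.Lib.Helper10.OutG.card_inn hZS, Subgroup.index_eq_card] at h1
    have h2 : Nat.card (MulAut S ⧸ Cfsg.Inn S) = 2 := hout
    rw [h2, hScard] at h1
    rw [hcG]
    omega
  exact Cfsg.Agent.Lib.Helper9.HnO.inner_of_index_two S hSi hSs hSnc hZ hAutS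

/-! ### transport of centraliser statements from the 100 points -/

theorem φHN_xx : φHN (gx * gx) = a := by
  have e1 : (gx * gx : P0) = p0 [0, 0] := rfl
  rw [e1, φHN_p0 [0, 0] (by decide)]
  simp [ev, lt, a]

theorem φHN_gx : φHN gx = HNRel.gx := by
  have e1 : (gx : P0) = p0 [0] := rfl
  rw [e1, φHN_p0 [0] (by decide)]
  simp [ev, lt]

theorem φHN_gy : φHN gy = HNRel.gy := by
  have e1 : (gy : P0) = p0 [2] := rfl
  rw [e1, φHN_p0 [2] (by decide)]
  simp [ev, lt]

theorem φHN_gz : φHN gz = HNRel.gz := by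
  have e1 : (gz : P0) = p0 [4] := rfl
  rw [e1, φHN_p0 [4] (by decide)]
  simp [ev, lt]

/-- the action of `π (p0 w)` on the 100 points, for a word `w` in `x, y, z` -/
theorem pi_p0 (π : P0 →* ↥G100.Gam)
    (hw : ∀ (L : List (P0Def.Gen × Bool)) (p : Fin L100Table.table.n),
      ((π (PresentedGroup.mk _ (FreeGroup.mk L)) : Equiv.Perm (Fin L100Table.table.n)) p).val =
        L100Table.table.walkT (pathOf P0Link.lw L) p.val)
    (w : Wd) (h : allN w = true) (p : Fin G100.T.n) :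
    ((π (p0 w) : Equiv.Perm (Fin G100.T.n)) p).val = G100.T.walkT w.reverse p.val := by
  have := hw (w.map toL) p
  rw [pathOf_toL w h] at this
  exact this

/-- **`C_N(e)` has no involution other than `a`** (from leaf D1) -/
theorem hinv_of
    (hD1 : ∀ E c : Equiv.Perm (Fin G100.T.n),
      (∀ p : Fin G100.T.n, (E p).val = G100.T.walkT [4, 2, 4, 2, 2, 2, 0] p.val) →
      (∀ p q : Fin G100.T.n, G100.adjB (c p).val (c q).val = G100.adjB p.val q.val) →
      c * E = E * c → c * c = 1 → c = 1) :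
    ∀ g ∈ Index.N, g * g = 1 → g * e = e * g → g = 1 ∨ g = a := by
  obtain ⟨π, hπs, hπc, hw, hker, hinj, hcen⟩ := kit'
  intro g hg hgg hge
  rw [Index.N_eq_range] at hg
  obtain ⟨p, rfl⟩ := hg
  have hpe : φHN (p0 we) = e := φHN_p0 we (by decide)
  have h1 : p * p = 1 := by
    apply hinj
    rw [map_mul, map_one]
    exact hgg
  have h2 : p * p0 we = p0 we * p := by
    apply hinj
    rw [map_mul, map_mul, hpe]
    exact hge
  have hc1 : (π p : Equiv.Perm (Fin G100.T.n)) = 1 := by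
    apply hD1 (π (p0 we) : Equiv.Perm (Fin G100.T.n)) (π p : Equiv.Perm (Fin G100.T.n))
    · intro q
      exact pi_p0 π hw we (by decide) q
    · exact G100.adj_mem (π p).2
    · have := congrArg (fun u : ↥G100.Gam => (u : Equiv.Perm (Fin G100.T.n))) (congrArg π h2)
      simpa only [map_mul, Subgroup.coe_mul] using this
    · have := congrArg (fun u : ↥G100.Gam => (u : Equiv.Perm (Fin G100.T.n))) (congrArg π h1)
      simpa only [map_mul, map_one, Subgroup.coe_mul, Subgroup.coe_one] using this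
  have hk : p ∈ π.ker := by
    rw [MonoidHom.mem_ker]
    exact Subtype.ext hc1
  rcases hker p hk with h | h
  · left; rw [h, map_one]
  · right; rw [h, φHN_xx]

/-- **`C_N(⟨y, y^x⟩) = {1, a}`** (from leaf D2) -/
theorem hK_of
    (hD2 : ∀ Y Y' c : Equiv.Perm (Fin G100.T.n),
      (∀ p : Fin G100.T.n, (Y p).val = G100.T.walkT [2] p.val) →
      (∀ p : Fin G100.T.n, (Y' p).val = G100.T.walkT [0, 2, 1] p.val) →
      c * Y = Y * c → c * Y' = Y' * c → c = 1) :
    ∀ g ∈ Index.N, g * HNRel.gy = HNRel.gy * g →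
      g * (HNRel.gx⁻¹ * HNRel.gy * HNRel.gx) = (HNRel.gx⁻¹ * HNRel.gy * HNRel.gx) * g → g = 1 ∨ g = a := by
  obtain ⟨π, hπs, hπc, hw, hker, hinj, hcen⟩ := kit'
  intro g hg hgy hgy'
  rw [Index.N_eq_range] at hg
  obtain ⟨p, rfl⟩ := hg
  have hpy : φHN (p0 [2]) = HNRel.gy := by
    rw [φHN_p0 [2] (by decide)]; simp [ev, lt]
  have hpy' : φHN (p0 [1, 2, 0]) = HNRel.gx⁻¹ * HNRel.gy * HNRel.gx := by
    rw [φHN_p0 [1, 2, 0] (by decide)]; simp [ev, lt, mul_assoc]
  have h1 : p * p0 [2] = p0 [2] * p := by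
    apply hinj
    rw [map_mul, map_mul, hpy]
    exact hgy
  have h2 : p * p0 [1, 2, 0] = p0 [1, 2, 0] * p := by
    apply hinj
    rw [map_mul, map_mul, hpy']
    exact hgy'
  have hc1 : (π p : Equiv.Perm (Fin G100.T.n)) = 1 := by
    apply hD2 (π (p0 [2]) : Equiv.Perm (Fin G100.T.n)) (π (p0 [1, 2, 0]) : Equiv.Perm (Fin G100.T.n))
      (π p : Equiv.Perm (Fin G100.T.n))
    · intro q
      exact pi_p0 π hw [2] (by decide) q
    · intro q
      exact pi_p0 π hw [1, 2, 0] (by decide) q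
    · have := congrArg (fun u : ↥G100.Gam => (u : Equiv.Perm (Fin G100.T.n))) (congrArg π h1)
      simpa only [map_mul, Subgroup.coe_mul] using this
    · have := congrArg (fun u : ↥G100.Gam => (u : Equiv.Perm (Fin G100.T.n))) (congrArg π h2)
      simpa only [map_mul, Subgroup.coe_mul] using this
  have hk : p ∈ π.ker := by
    rw [MonoidHom.mem_ker]
    exact Subtype.ext hc1
  rcases hker p hk with h | h
  · left; rw [h, map_one]
  · right; rw [h, φHN_xx]

end Cfsg.Agent.Lib.Helper15.HnOGam
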