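import Cfsg.Agent.Lib.Helper15.HnOGam
import Cfsg.Agent.Lib.Helper20.HnOA
import Cfsg.Agent.Lib.Helper9.HnONI
import Cfsg.Agent.Lib.Helper9.HnOR
import Cfsg.Agent.Lib.Helper29.HnOM
import Cfsg.Agent.Lib.Helper24.HnOS

set_option autoImplicit false
set_option maxRecDepth 100000
set_option linter.style.haveILetI false
set_option linter.unusedVariables false

/-!
# S2082: `|Out(HN)| = 2`, assembled from the leaves (with the leaves D1, D2 as hypotheses)

`σ : x ↦ x, y ↦ y, z ↦ z x², t ↦ t²` (helper24 `exists_sigma`) is not inner (helper9 `sigma_not_inner`);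
every automorphism is `conj g` or `conj g ∘ σ` (helper29 `card_out_eq_two_of_data`, with helper20 `autN_of_data`
and helper9 `rigid_of_data`, `inner_of_index_two`).
-/

namespace Cfsg.Agent.Lib.Helper15.HnOMain

open Cfsg
open Cfsg.Agent.Lib.Helper28.TC2Upper Cfsg.Agent.Lib.Helper28.TC2Lower Cfsg.Agent.Lib.Helper28.TC2Glue
open Cfsg.Agent.Lib.Helper14.HNx
open Cfsg.Agent.Lib.Helper3.HN Cfsg.Agent.Lib.Helper3.HN.HNRel
open Cfsg.Agent.Lib.Helper16.HNP.Table
open Cfsg.Agent.Lib.Helper21.HNGlue.Coatom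
open Cfsg.Agent.Lib.Helper15.HnOFacts Cfsg.Agent.Lib.Helper15.HnOGam

theorem card_out_HN
    (hD1 : ∀ E c : Equiv.Perm (Fin G100.T.n),
      (∀ p : Fin G100.T.n, (E p).val = G100.T.walkT [4, 2, 4, 2, 2, 2, 0] p.val) →
      (∀ p q : Fin G100.T.n, G100.adjB (c p).val (c q).val = G100.adjB p.val q.val) →
      c * E = E * c → c * c = 1 → c = 1)
    (hD2 : ∀ Y Y' c : Equiv.Perm (Fin G100.T.n),
      (∀ p : Fin G100.T.n, (Y p).val = G100.T.walkT [2] p.val) →
      (∀ p : Fin G100.T.n, (Y' p).val = G100.T.walkT [0, 2, 1] p.val) →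
      c * Y = Y * c → c * Y' = Y' * c → c = 1) :
    Nat.card (Cfsg.Out Spor.HN) = 2 := by
  haveI := finite_HN
  haveI := finite_Gam
  haveI : Fact (Nat.Prime 11) := ⟨by norm_num⟩
  -- the outer automorphism
  obtain ⟨σ, hσx, hσy, hσz, hσt⟩ := Cfsg.Agent.Lib.Helper24.HnO.exists_sigma gx gy gz gt rfl rfl rfl rfl
    hay haz ha2 hrel
  have hσa : σ a = a := by
    show σ (gx * gx) = gx * gx
    rw [map_mul, hσx]
  -- the model `P0 → N`, `π : P0 → Γ`
  obtain ⟨π, hπs, hπc, hw, hker, hinj, hcen⟩ := kit'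
  have hcc : ∀ g : Main.P0, g * (Main.gx * Main.gx) = (Main.gx * Main.gx) * g :=
    fun g => Subgroup.mem_center_iff.mp hcen g
  have hσx' : σ (Main.φHN Main.gx) = Main.φHN Main.gx := by rw [φHN_gx]; exact hσx
  have hσy' : σ (Main.φHN Main.gy) = Main.φHN Main.gy := by rw [φHN_gy]; exact hσy
  have hσz' : σ (Main.φHN Main.gz) = Main.φHN Main.gz * a := by rw [φHN_gz]; exact hσz
  have hxa : Main.φHN Main.gx * Main.φHN Main.gx = a := by rw [φHN_gx]; rfl
  -- automorphisms of `N`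
  have hAutN := Cfsg.Agent.Lib.Helper20.HnO.autN_of_data Index.N a σ ha1 hNa hCa Main.φHN hinj
    Index.N_eq_range.symm π hπs (Main.gx * Main.gx) hker hπc hcc φHN_xx center_Gam hInnGam
    Main.gx Main.gy Main.gz Main.hgen hσx' hσy' hσz' Main.r10 Main.r4
  -- `σ` is not inner
  have hσni := Cfsg.Agent.Lib.Helper9.HnO.sigma_not_inner Index.N a σ ha1 hCa Main.φHN hinj
    Index.N_eq_range.symm π hπs (Main.gx * Main.gx) hker hπc hcc φHN_xx center_Gam
    Main.gx Main.gy Main.gz Main.hgen hxa hσx' hσy' hσz'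
  -- rigidity
  obtain ⟨φ, hφ⟩ := Cfsg.Agent.Lib.Helper16.HNP.Main.perm_rep
  letI : MulAction Spor.HN (Fin table.n) := MulAction.compHom (Fin table.n) φ
  have hsmul : ∀ (g : Spor.HN) (q : Fin table.n), g • q = φ g q := fun _ _ => rfl
  have hty' : gt * gy = gy * gt := comm_ty.eq
  have hRigid := Cfsg.Agent.Lib.Helper9.HnO.rigid_of_data Index.N a gx gy gz gt Index.hgen
    Index.gx_mem Index.gy_mem Index.gz_mem a_mem gt_not_mem ha2 hat hNa ht5 hty' conj_t hzt hzt2 hzt3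
    (⟨0, hn_pos⟩ : Fin table.n)
    (fun g => ⟨fun hg => hfix φ hφ g hg, fun hg => hstab φ hφ g hg⟩)
    (fun q h1 h2 => hfix_aux φ hφ q h1 h2)
    (hK_of hD2)
  exact Cfsg.Agent.Lib.Helper29.HnO.card_out_eq_two_of_data center_HN Index.N a e σ 11 hp he e_mem
    ha1 ha2 hNa hCa hCe (hinv_of hD1) hσa hAutN hRigid hσni

end Cfsg.Agent.Lib.Helper15.HnOMain
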