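import Cfsg.Agent.Lib.Helper28.TC2Range
import Cfsg.Agent.Lib.Helper16.HNP.Table
set_option autoImplicit false

/-!
# S2082 (Out(HN) = 2): the two all-points checks on helper16's table of 1539000 points

* the path `pE` of `e = x y³ z y z` (order 11) fixes no point other than `0`;
* the common fixed points of the paths `pY` (of `y`) and `pY'` (of `x⁻¹ y x`) are among `0, …, 4`.

`rowOK T p` is the check at the point `p`; `rangeOK T lo n` checks the points `lo, …, lo + n - 1`.
-/

namespace Cfsg.Agent.Lib.Helper15.HnOT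
open Cfsg.Agent.Lib.Helper28.TC2Upper Cfsg.Agent.Lib.Helper28.TC2Lower Cfsg.Agent.Lib.Helper28.TC2Range

/-- the path of `e = x y³ z y z` -/
def pE : List ℕ := [4, 2, 4, 2, 2, 2, 0]
/-- the path of `y` -/
def pY : List ℕ := [2]
/-- the path of `x⁻¹ y x` -/
def pY' : List ℕ := [0, 2, 1]

/-- the check at the point `p` -/
noncomputable def rowOK (T : Table) (p : ℕ) : Bool :=
  and (cond (Nat.beq (T.walkT pE p) p) (Nat.beq p 0) true)
    (cond (Nat.beq (T.walkT pY p) p)
      (cond (Nat.beq (T.walkT pY' p) p) (Nat.ble (Nat.succ p) 5) true) true)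

/-- the check at the points `lo, …, lo + n - 1` -/
noncomputable def rangeOK (T : Table) (lo n : ℕ) : Bool := allLoop (fun i => rowOK T (Nat.add lo i)) n

theorem rangeOK_iff (T : Table) (lo n : ℕ) :
    rangeOK T lo n = true ↔ ∀ p, lo ≤ p → p < lo + n → rowOK T p = true :=
  allLoop_add_iff _ lo n

theorem rowOK_spec (T : Table) (p : ℕ) (h : rowOK T p = true) :
    (T.walkT pE p = p → p = 0) ∧ (T.walkT pY p = p → T.walkT pY' p = p → p < 5) := by
  unfold rowOK at h
  rw [Bool.and_eq_true] at h
  obtain ⟨h1, h2⟩ := h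
  constructor
  · intro he
    have e : Nat.beq (T.walkT pE p) p = true := by rw [he]; exact Nat.beq_refl p
    rw [e] at h1
    exact Nat.eq_of_beq_eq_true h1
  · intro hy hy'
    have e1 : Nat.beq (T.walkT pY p) p = true := by rw [hy]; exact Nat.beq_refl p
    have e2 : Nat.beq (T.walkT pY' p) p = true := by rw [hy']; exact Nat.beq_refl p
    rw [e1, e2] at h2
    have h3 : Nat.ble (Nat.succ p) 5 = true := h2
    rw [Nat.ble_eq] at h3
    exact h3

end Cfsg.Agent.Lib.Helper15.HnOT
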