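import Cfsg.Agent.Lib.Helper15.HnOT
set_option autoImplicit false
set_option maxRecDepth 100000
set_option maxHeartbeats 0
set_option Elab.async false

/-! S2082: the all-points check `HnOT.rowOK`, points 0 to 199999 (generated). -/

namespace Cfsg.Agent.Lib.Helper15.HnOT0
open Cfsg.Agent.Lib.Helper28.TC2Upper Cfsg.Agent.Lib.Helper28.TC2Lower Cfsg.Agent.Lib.Helper28.TC2Range Cfsg.Agent.Lib.Helper16.HNP.Table Cfsg.Agent.Lib.Helper15.HnOT

theorem pc0 : rangeOK table 0 10000 = true := by decide +kernel
theorem pc1 : rangeOK table 10000 10000 = true := by decide +kernel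
theorem pc2 : rangeOK table 20000 10000 = true := by decide +kernel
theorem pc3 : rangeOK table 30000 10000 = true := by decide +kernel
theorem pc4 : rangeOK table 40000 10000 = true := by decide +kernel
theorem pc5 : rangeOK table 50000 10000 = true := by decide +kernel
theorem pc6 : rangeOK table 60000 10000 = true := by decide +kernel
theorem pc7 : rangeOK table 70000 10000 = true := by decide +kernel
theorem pc8 : rangeOK table 80000 10000 = true := by decide +kernel
theorem pc9 : rangeOK table 90000 10000 = true := by decide +kernel
theorem pc10 : rangeOK table 100000 10000 = true := by decide +kernel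
theorem pc11 : rangeOK table 110000 10000 = true := by decide +kernel
theorem pc12 : rangeOK table 120000 10000 = true := by decide +kernel
theorem pc13 : rangeOK table 130000 10000 = true := by decide +kernel
theorem pc14 : rangeOK table 140000 10000 = true := by decide +kernel
theorem pc15 : rangeOK table 150000 10000 = true := by decide +kernel
theorem pc16 : rangeOK table 160000 10000 = true := by decide +kernel
theorem pc17 : rangeOK table 170000 10000 = true := by decide +kernel
theorem pc18 : rangeOK table 180000 10000 = true := by decide +kernel
theorem pc19 : rangeOK table 190000 10000 = true := by decide +kernel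

theorem range (p : ℕ) (h1 : 0 ≤ p) (h2 : p < 200000) : rowOK table p = true := by
  rcases Nat.lt_or_ge p 10000 with h | h
  · exact (rangeOK_iff table 0 10000).mp pc0 p (by omega) (by omega)
  rcases Nat.lt_or_ge p 20000 with h | h
  · exact (rangeOK_iff table 10000 10000).mp pc1 p (by omega) (by omega)
  rcases Nat.lt_or_ge p 30000 with h | h
  · exact (rangeOK_iff table 20000 10000).mp pc2 p (by omega) (by omega)
  rcases Nat.lt_or_ge p 40000 with h | h
  · exact (rangeOK_iff table 30000 10000).mp pc3 p (by omega) (by omega)
  rcases Nat.lt_or_ge p 50000 with h | h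
  · exact (rangeOK_iff table 40000 10000).mp pc4 p (by omega) (by omega)
  rcases Nat.lt_or_ge p 60000 with h | h
  · exact (rangeOK_iff table 50000 10000).mp pc5 p (by omega) (by omega)
  rcases Nat.lt_or_ge p 70000 with h | h
  · exact (rangeOK_iff table 60000 10000).mp pc6 p (by omega) (by omega)
  rcases Nat.lt_or_ge p 80000 with h | h
  · exact (rangeOK_iff table 70000 10000).mp pc7 p (by omega) (by omega)
  rcases Nat.lt_or_ge p 90000 with h | h
  · exact (rangeOK_iff table 80000 10000).mp pc8 p (by omega) (by omega)
  rcases Nat.lt_or_ge p 100000 with h | h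
  · exact (rangeOK_iff table 90000 10000).mp pc9 p (by omega) (by omega)
  rcases Nat.lt_or_ge p 110000 with h | h
  · exact (rangeOK_iff table 100000 10000).mp pc10 p (by omega) (by omega)
  rcases Nat.lt_or_ge p 120000 with h | h
  · exact (rangeOK_iff table 110000 10000).mp pc11 p (by omega) (by omega)
  rcases Nat.lt_or_ge p 130000 with h | h
  · exact (rangeOK_iff table 120000 10000).mp pc12 p (by omega) (by omega)
  rcases Nat.lt_or_ge p 140000 with h | h
  · exact (rangeOK_iff table 130000 10000).mp pc13 p (by omega) (by omega)
  rcases Nat.lt_or_ge p 150000 with h | h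
  · exact (rangeOK_iff table 140000 10000).mp pc14 p (by omega) (by omega)
  rcases Nat.lt_or_ge p 160000 with h | h
  · exact (rangeOK_iff table 150000 10000).mp pc15 p (by omega) (by omega)
  rcases Nat.lt_or_ge p 170000 with h | h
  · exact (rangeOK_iff table 160000 10000).mp pc16 p (by omega) (by omega)
  rcases Nat.lt_or_ge p 180000 with h | h
  · exact (rangeOK_iff table 170000 10000).mp pc17 p (by omega) (by omega)
  rcases Nat.lt_or_ge p 190000 with h | h
  · exact (rangeOK_iff table 180000 10000).mp pc18 p (by omega) (by omega)
  exact (rangeOK_iff table 190000 10000).mp pc19 p (by omega) (by omega)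

end Cfsg.Agent.Lib.Helper15.HnOT0
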