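/-
helper15: leaf D2 (`comm_mem_pCore`) of helper18's S2942 market "JSUB" (`notes/S2942_leaves.lean`), twin:
`[C_X(W), ⟨T^X⟩] ≤ O₂(X)`.
-/
import Mathlib
import Cfsg.Agent.Lib.Helper22.FFAbC

set_option autoImplicit false
set_option linter.unusedSectionVars false
set_option linter.style.haveILetI false

namespace Cfsg.Agent.Lib.Helper15.JSubLeaf

open Subgroup
open scoped commutatorElement
open Cfsg.Agent.Lib.Helper22.FFAb

/-- elements commuting with a normal subgroup `C` modulo a normal subgroup `Q` -/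
def commMod {X : Type*} [Group X] (C Q : Subgroup X) [C.Normal] [Q.Normal] : Subgroup X where
  carrier := {x | ∀ c ∈ C, ⁅c, x⁆ ∈ Q}
  one_mem' := by
    intro c _
    rw [commutatorElement_one_right]
    exact one_mem _
  mul_mem' := by
    intro x y hx hy c hc
    -- ⁅c, x * y⁆ = ⁅c, x⁆ * (x * ⁅c, y⁆ * x⁻¹)
    have h : ⁅c, x * y⁆ = ⁅c, x⁆ * (x * ⁅c, y⁆ * x⁻¹) := by
      simp only [commutatorElement_def]
      group
    rw [h]
    exact mul_mem (hx c hc) (Normal.conj_mem inferInstance _ (hy c hc) x)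
  inv_mem' := by
    intro x hx c hc
    -- ⁅c, x⁻¹⁆ = x⁻¹ * ⁅c, x⁆⁻¹ * x
    have h : ⁅c, x⁻¹⁆ = x⁻¹ * (⁅c, x⁆)⁻¹ * x⁻¹⁻¹ := by
      simp only [commutatorElement_def]
      group
    rw [h]
    exact Normal.conj_mem inferInstance _ (inv_mem (hx c hc)) x⁻¹

theorem mem_commMod {X : Type*} [Group X] (C Q : Subgroup X) [C.Normal] [Q.Normal] {x : X} :
    x ∈ commMod C Q ↔ ∀ c ∈ C, ⁅c, x⁆ ∈ Q := Iff.rfl

instance commMod_normal {X : Type*} [Group X] (C Q : Subgroup X) [hC : C.Normal] [hQ : Q.Normal] :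
    (commMod C Q).Normal := by
  constructor
  intro x hx g c hc
  -- ⁅c, g x g⁻¹⁆ = g ⁅g⁻¹ c g, x⁆ g⁻¹
  have h : ⁅c, g * x * g⁻¹⁆ = g * ⁅g⁻¹ * c * g⁻¹⁻¹, x⁆ * g⁻¹ := by
    simp only [commutatorElement_def]
    group
  rw [h]
  exact hQ.conj_mem _ (hx _ (hC.conj_mem c hc g⁻¹)) g

section X
universe u
variable {X : Type u} [Group X] [Finite X] [Group.IsSolvable X]
  (hF : Cfsg.fittingSubgroup X = Cfsg.pCore 2 X) (T : Sylow 2 X)

/-- LEAF D2 -/
theorem comm_mem_pCore
    (hZX : centralizer ((ZT T : Subgroup X) : Set X) ≤ normalizer ((T : Subgroup X) : Set X))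
    (hD1 : (T : Subgroup X) ⊓ centralizer ((Wm hF T : Subgroup X) : Set X) ≤ Cfsg.pCore 2 X)
    {c x : X} (hc : c ∈ centralizer ((Wm hF T : Subgroup X) : Set X))
    (hx : x ∈ normalClosure (((T : Subgroup X) : Subgroup X) : Set X)) :
    ⁅c, x⁆ ∈ Cfsg.pCore 2 X := by
  haveI hQn : (Cfsg.pCore 2 X).Normal := Cfsg.Agent.Lib.Helper1.pCore_normal 2 X
  haveI hCn : (centralizer ((Wm hF T : Subgroup X) : Set X)).Normal := normal_centralizer
  have hCle : centralizer ((Wm hF T : Subgroup X) : Set X) ≤ normalizer ((T : Subgroup X) : Set X) := by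
    rw [centralizer_Wm hF T]
    exact (normalCore_le _).trans hZX
  have hT : (T : Subgroup X) ≤ commMod (centralizer ((Wm hF T : Subgroup X) : Set X)) (Cfsg.pCore 2 X) := by
    intro t ht c' hc'
    apply hD1
    rw [mem_inf]
    constructor
    · -- `c' t c'⁻¹ ∈ T`
      have h1 : c' * t * c'⁻¹ ∈ (T : Subgroup X) := (mem_normalizer_iff.mp (hCle hc') t).mp ht
      rw [commutatorElement_def]
      exact mul_mem h1 (inv_mem ht)
    · -- `t c'⁻¹ t⁻¹ ∈ C'`
      have h2 : t * c'⁻¹ * t⁻¹ ∈ centralizer ((Wm hF T : Subgroup X) : Set X) :=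
        hCn.conj_mem _ (inv_mem hc') t
      have h3 : ⁅c', t⁆ = c' * (t * c'⁻¹ * t⁻¹) := by
        rw [commutatorElement_def]; group
      rw [h3]
      exact mul_mem hc' h2
  have hle : normalClosure (((T : Subgroup X) : Subgroup X) : Set X) ≤
      commMod (centralizer ((Wm hF T : Subgroup X) : Set X)) (Cfsg.pCore 2 X) :=
    normalClosure_le_normal hT
  exact hle hx c hc

end X

end Cfsg.Agent.Lib.Helper15.JSubLeaf
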