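import Mathlib

/-!
helper15: S4638 leaf (COL) `sum_rows_eq` (twin): a `4 × 4` sign matrix with orthogonal rows has
orthogonal columns (`H Hᵀ = 4` over `ℚ` gives `Hᵀ H = 4` by `Matrix.mul_eq_one_comm`).
-/

set_option autoImplicit false

namespace Cfsg.Agent.Lib.Helper15.KleinPICOL

universe u

/-- (COL) a `4 × 4` sign matrix with orthogonal rows has orthogonal columns. -/
theorem sum_rows_eq {X : Type u} [DecidableEq X] (B : Set X) (hB : Nat.card B = 4) (σ : Fin 4 → X → ℤ)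
    (hσ : ∀ i, ∀ χ ∈ B, σ i χ = 1 ∨ σ i χ = -1)
    (hσo : ∀ i j, i ≠ j → ∑ᶠ χ ∈ B, σ i χ * σ j χ = 0) (χ χ' : X) (hχ : χ ∈ B) (hχ' : χ' ∈ B) :
    ∑ i, σ i χ * σ i χ' = if χ = χ' then 4 else 0 := by
  classical
  have : Finite B := Nat.finite_of_card_ne_zero (by rw [hB]; norm_num)
  have : Fintype B := Fintype.ofFinite B
  have e : B ≃ Fin 4 := Finite.equivFinOfCardEq hB
  -- the matrix
  let H : Matrix (Fin 4) (Fin 4) ℚ := fun i k => ((σ i ((e.symm k : B) : X) : ℤ) : ℚ)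
  have hsum : ∀ f : X → ℤ, ∑ᶠ χ ∈ B, f χ = ∑ k : Fin 4, f ((e.symm k : B) : X) := by
    intro f
    rw [← finsum_set_coe_eq_finsum_mem, finsum_eq_sum_of_fintype]
    exact (Equiv.sum_comp e.symm (fun b : B => f (b : X))).symm
  have hrow : H * H.transpose = (4 : ℚ) • (1 : Matrix (Fin 4) (Fin 4) ℚ) := by
    ext i j
    simp only [Matrix.mul_apply, Matrix.transpose_apply, Matrix.smul_apply, Matrix.one_apply,
      smul_eq_mul]
    by_cases hij : i = j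
    · subst hij
      have h1 : ∀ k : Fin 4, H i k * H i k = 1 := by
        intro k
        rcases hσ i _ (e.symm k).2 with h | h <;> simp [H, h]
      simp [h1]
    · have h0 := hσo i j hij
      rw [hsum] at h0
      have h2 : (∑ k : Fin 4, H i k * H j k) =
          ((∑ k : Fin 4, σ i ((e.symm k : B) : X) * σ j ((e.symm k : B) : X) : ℤ) : ℚ) := by
        push_cast; rfl
      rw [h2, h0]; simp [hij]
  have hinv : H * ((1/4 : ℚ) • H.transpose) = 1 := by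
    rw [Matrix.mul_smul, hrow, smul_smul]; norm_num
  have hinv' : ((1/4 : ℚ) • H.transpose) * H = 1 := mul_eq_one_comm.mp hinv
  have hcol : H.transpose * H = (4 : ℚ) • (1 : Matrix (Fin 4) (Fin 4) ℚ) := by
    have h3 := congrArg (fun M => (4 : ℚ) • M) hinv'
    simp only [Matrix.smul_mul, smul_smul] at h3
    norm_num at h3
    exact h3
  -- read off the entry
  have hk : (e.symm (e ⟨χ, hχ⟩) : B) = ⟨χ, hχ⟩ := e.symm_apply_apply _
  have hk' : (e.symm (e ⟨χ', hχ'⟩) : B) = ⟨χ', hχ'⟩ := e.symm_apply_apply _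
  have hent : ∑ i, H i (e ⟨χ, hχ⟩) * H i (e ⟨χ', hχ'⟩) =
      4 * if e ⟨χ, hχ⟩ = e ⟨χ', hχ'⟩ then 1 else 0 := by
    have h4 := congrFun (congrFun hcol (e ⟨χ, hχ⟩)) (e ⟨χ', hχ'⟩)
    simpa only [Matrix.mul_apply, Matrix.transpose_apply, Matrix.smul_apply, Matrix.one_apply,
      smul_eq_mul] using h4
  have hent' : ∑ i, ((σ i χ : ℤ) : ℚ) * ((σ i χ' : ℤ) : ℚ) =
      4 * if e ⟨χ, hχ⟩ = e ⟨χ', hχ'⟩ then 1 else 0 := by
    rw [← hent]
    refine Finset.sum_congr rfl (fun i _ => ?_)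
    show _ = ((σ i ((e.symm (e ⟨χ, hχ⟩) : B) : X) : ℤ) : ℚ) * ((σ i ((e.symm (e ⟨χ', hχ'⟩) : B) : X) : ℤ) : ℚ)
    rw [hk, hk']
  have hiff : (e ⟨χ, hχ⟩ = e ⟨χ', hχ'⟩) ↔ χ = χ' := by
    rw [e.apply_eq_iff_eq, Subtype.mk.injEq]
  have hfin : ((∑ i, σ i χ * σ i χ' : ℤ) : ℚ) = ((if χ = χ' then 4 else 0 : ℤ) : ℚ) := by
    push_cast
    rw [hent']
    by_cases h : χ = χ'
    · simp [h]
    · have hne : ¬ (e ⟨χ, hχ⟩ = e ⟨χ', hχ'⟩) := fun h' => h (hiff.mp h')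
      simp [h, hne]
  exact_mod_cast hfin

end Cfsg.Agent.Lib.Helper15.KleinPICOL
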