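import Mathlib
import Cfsg.Agent.Lib.Helper11.LSDefs
import Cfsg.Agent.Lib.Helper11.LSSp

/-!
# S2333 leaf R2: the quadratic forms `qf u` of the weights `u` on the upper triangle.
-/

set_option autoImplicit false

open QuadraticMap Module Matrix Cfsg.Agent.Lib.Helper11.LS

variable {F : Type*} [Field F] {n : ℕ}

namespace Cfsg.Agent.Lib.Helper15.LSLeaf

/-- the upper triangular matrix of a weight -/
def Um (u : UT n → F) : Matrix (Fin n) (Fin n) F :=
  Matrix.of fun i j => if h : i ≤ j then u ⟨(i, j), h⟩ else 0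

theorem Um_apply (u : UT n → F) (i j : Fin n) :
    Um u i j = if h : i ≤ j then u ⟨(i, j), h⟩ else 0 := rfl

theorem qf_eq (u : UT n → F) : qf u = Matrix.toQuadraticForm' (Um u) := rfl

theorem qf_apply (u : UT n → F) (ℓ : Fin n → F) : qf u ℓ = u ⬝ᵥ sq ℓ := by
  rw [qf_eq]
  unfold Matrix.toQuadraticForm'
  rw [LinearMap.BilinMap.toQuadraticMap_apply, Matrix.toLinearMap₂'_apply]
  unfold dotProduct Cfsg.Agent.Lib.Helper11.LS.sq
  let g : Fin n × Fin n → F :=
    fun x => if h : x.1 ≤ x.2 then u ⟨x, h⟩ * (ℓ x.1 * ℓ x.2) else 0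
  have h1 : ∑ p : UT n, u p * (ℓ p.1.1 * ℓ p.1.2) = ∑ p : UT n, g p.1 := by
    apply Finset.sum_congr rfl
    intro p _
    simp only [g]
    rw [dif_pos p.2]
  have h2 : ∑ p : UT n, g p.1 =
      ∑ x ∈ Finset.univ.filter (fun x : Fin n × Fin n => x.1 ≤ x.2), g x :=
    (Finset.sum_subtype _ (by simp) g).symm
  have h3 : ∑ x ∈ Finset.univ.filter (fun x : Fin n × Fin n => x.1 ≤ x.2), g x = ∑ x, g x := by
    apply Finset.sum_filter_of_ne
    intro x _ hx
    by_contra hn
    exact hx (dif_neg hn)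
  rw [h1, h2, h3, Fintype.sum_prod_type]
  apply Finset.sum_congr rfl
  intro i _
  apply Finset.sum_congr rfl
  intro j _
  simp only [g, smul_eq_mul, Um_apply]
  split_ifs with h
  · ring
  · simp

theorem bil_single (M : Matrix (Fin n) (Fin n) F) (a b : Fin n) :
    Matrix.toLinearMap₂' F M (Pi.single a (1 : F)) (Pi.single b (1 : F)) = M a b := by
  rw [Matrix.toLinearMap₂'_apply']
  simp

theorem qf_single (u : UT n → F) (a : Fin n) :
    qf u (Pi.single a 1) = u ⟨(a, a), le_rfl⟩ := by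
  rw [qf_eq]
  unfold Matrix.toQuadraticForm'
  rw [LinearMap.BilinMap.toQuadraticMap_apply,
    bil_single, Um_apply]
  exact dif_pos le_rfl

theorem polar_qf_single (u : UT n → F) {a b : Fin n} (h : a < b) :
    polar (qf u) (Pi.single a 1) (Pi.single b 1) = u ⟨(a, b), h.le⟩ := by
  rw [qf_eq]
  unfold Matrix.toQuadraticForm'
  rw [LinearMap.BilinMap.polar_toQuadraticMap,
    bil_single,
    bil_single, Um_apply, Um_apply, dif_pos h.le, dif_neg (not_le.mpr h),
    add_zero]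

theorem qf_injective :
    Function.Injective (qf : (UT n → F) → QuadraticForm F (Fin n → F)) := by
  intro u u' huu
  funext p
  obtain ⟨⟨a, b⟩, hab⟩ := p
  rcases eq_or_lt_of_le hab with h | h
  · have h' : a = b := h
    subst h'
    rw [← qf_single u a, ← qf_single u' a, huu]
  · have h' : a < b := h
    rw [← polar_qf_single u h', ← polar_qf_single u' h', huu]

theorem qf_of_dual (u u' : UT n → F) (M : Matrix (Fin n) (Fin n) F)
    (hd : ∀ v, u ⬝ᵥ v = u' ⬝ᵥ Nmap M v) (ℓ : Fin n → F) : qf u' (M *ᵥ ℓ) = qf u ℓ := by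
  rw [qf_apply, qf_apply, hd, Nmap_sq]

theorem exists_dual {ι : Type*} [Fintype ι] [DecidableEq ι] (N : (ι → F) ≃ₗ[F] (ι → F))
    (u : ι → F) : ∃ u' : ι → F, ∀ v, u ⬝ᵥ v = u' ⬝ᵥ N v := by
  let φ : (ι → F) →ₗ[F] F :=
    { toFun := fun w => u ⬝ᵥ N.symm w
      map_add' := fun a b => by rw [map_add, dotProduct_add]
      map_smul' := fun c a => by rw [map_smul, dotProduct_smul]; rfl }
  refine ⟨fun i => φ (fun j => if i = j then 1 else 0), fun v => ?_⟩
  have h := LinearMap.pi_apply_eq_sum_univ φ (N v)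
  have h0 : φ (N v) = u ⬝ᵥ v := by
    show u ⬝ᵥ N.symm (N v) = u ⬝ᵥ v
    rw [N.symm_apply_apply]
  rw [← h0, h]
  unfold dotProduct
  apply Finset.sum_congr rfl
  intro i _
  rw [smul_eq_mul, mul_comm]

end Cfsg.Agent.Lib.Helper15.LSLeaf
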