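import Mathlib

set_option autoImplicit false

namespace Cfsg.Agent.Lib.Helper15.LieOrd

open Finset

/-! ### coprimality of the `p'`-factors -/

theorem not_dvd_pow_sub_one {p q e : ℕ} (hp : p.Prime) (hpq : p ∣ q) (hq : 0 < q) (he : e ≠ 0) :
    ¬ p ∣ q ^ e - 1 := by
  intro hi
  have h1 : p ∣ q ^ e := dvd_trans hpq (dvd_pow_self q he)
  have hpos : 1 ≤ q ^ e := Nat.one_le_pow _ _ hq
  have h2 : p ∣ q ^ e - (q ^ e - 1) := Nat.dvd_sub h1 hi
  have h3 : q ^ e - (q ^ e - 1) = 1 := by omega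
  rw [h3] at h2
  exact hp.one_lt.ne' (Nat.dvd_one.mp h2)

theorem not_dvd_pow_add_one {p q e : ℕ} (hp : p.Prime) (hpq : p ∣ q) (he : e ≠ 0) :
    ¬ p ∣ q ^ e + 1 := by
  intro hi
  have h1 : p ∣ q ^ e := dvd_trans hpq (dvd_pow_self q he)
  have h2 : p ∣ 1 := (Nat.dvd_add_right h1).mp hi
  exact hp.one_lt.ne' (Nat.dvd_one.mp h2)

theorem not_dvd_mul {p a b : ℕ} (hp : p.Prime) (ha : ¬ p ∣ a) (hb : ¬ p ∣ b) : ¬ p ∣ a * b :=
  fun h => (hp.dvd_mul.mp h).elim ha hb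

theorem not_dvd_prod {ι : Type*} {p : ℕ} (hp : p.Prime) (s : Finset ι) (g : ι → ℕ)
    (h : ∀ i ∈ s, ¬ p ∣ g i) : ¬ p ∣ ∏ i ∈ s, g i := by
  intro hd
  rw [Prime.dvd_finsetProd_iff (Nat.prime_iff.mp hp)] at hd
  obtain ⟨i, hi, hdi⟩ := hd
  exact h i hi hdi

theorem not_dvd_of_dvd {p d e : ℕ} (hde : d ∣ e) (he : ¬ p ∣ e) : ¬ p ∣ d :=
  fun h => he (dvd_trans h hde)

/-! ### the main estimate -/

theorem val_of_formula {p f N d n R : ℕ} (hp : p.Prime) (h : d * n = (p ^ f) ^ N * R)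
    (hd : ¬ p ∣ d) (hR : ¬ p ∣ R) (hn : n ≠ 0) : n.factorization p = f * N := by
  have hd0 : d ≠ 0 := fun h0 => hd (h0 ▸ dvd_zero p)
  have hR0 : R ≠ 0 := fun h0 => hR (h0 ▸ dvd_zero p)
  have hq0 : (p ^ f) ^ N ≠ 0 := pow_ne_zero _ (pow_ne_zero _ hp.ne_zero)
  have h1 : (d * n).factorization p = n.factorization p := by
    rw [Nat.factorization_mul hd0 hn]
    simp only [Finsupp.coe_add, Pi.add_apply]
    rw [Nat.factorization_eq_zero_of_not_dvd hd, zero_add]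
  have h2 : ((p ^ f) ^ N * R).factorization p = f * N := by
    rw [Nat.factorization_mul hq0 hR0]
    simp only [Finsupp.coe_add, Pi.add_apply]
    rw [Nat.factorization_eq_zero_of_not_dvd hR, add_zero, ← pow_mul, hp.factorization_pow]
    simp
  rw [← h1, h, h2]

theorem bound_of_formula {p f N d n R a : ℕ} (hp : p.Prime) (h : d * n = (p ^ f) ^ N * R)
    (hd : ¬ p ∣ d) (hR : ¬ p ∣ R) (hn : n ≠ 0) (hRa : R < (p ^ f) ^ a) :
    (a ≤ 2 * N → n < p ^ (3 * n.factorization p)) ∧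
    (3 * a ≤ 5 * N → n ^ 3 < p ^ (8 * n.factorization p)) := by
  have hv := val_of_formula hp h hd hR hn
  have hd0 : 0 < d := Nat.pos_of_ne_zero fun h0 => hd (h0 ▸ dvd_zero p)
  have hq1 : 1 ≤ p ^ f := Nat.one_le_pow _ _ hp.pos
  have hqN : 0 < (p ^ f) ^ N := Nat.one_le_pow _ _ hq1
  have hle : n ≤ d * n := Nat.le_mul_of_pos_left n hd0
  rw [hv]
  constructor
  · intro ha
    calc n ≤ d * n := hle
      _ = (p ^ f) ^ N * R := h
      _ < (p ^ f) ^ N * (p ^ f) ^ a := Nat.mul_lt_mul_of_pos_left hRa hqN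
      _ = (p ^ f) ^ (N + a) := (pow_add _ _ _).symm
      _ ≤ (p ^ f) ^ (3 * N) := Nat.pow_le_pow_right hq1 (by omega)
      _ = p ^ (3 * (f * N)) := by rw [← pow_mul]; congr 1; ring
  · intro ha
    have hR3 : R ^ 3 < ((p ^ f) ^ a) ^ 3 := Nat.pow_lt_pow_left hRa (by norm_num)
    calc n ^ 3 ≤ (d * n) ^ 3 := Nat.pow_le_pow_left hle 3
      _ = ((p ^ f) ^ N) ^ 3 * R ^ 3 := by rw [h, mul_pow]
      _ < ((p ^ f) ^ N) ^ 3 * ((p ^ f) ^ a) ^ 3 := Nat.mul_lt_mul_of_pos_left hR3 (Nat.one_le_pow _ _ hqN)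
      _ = (p ^ f) ^ (3 * N + 3 * a) := by rw [pow_add, mul_comm 3 N, mul_comm 3 a, pow_mul, pow_mul]
      _ ≤ (p ^ f) ^ (8 * N) := Nat.pow_le_pow_right hq1 (by omega)
      _ = p ^ (8 * (f * N)) := by rw [← pow_mul]; congr 1; ring

/-! ### product bounds -/

theorem prod_pow_sub_one_lt {ι : Type*} {q : ℕ} (s : Finset ι) (e : ι → ℕ) (hq : 2 ≤ q)
    (he : ∀ i ∈ s, e i ≠ 0) (hs : s.Nonempty) :
    ∏ i ∈ s, (q ^ e i - 1) < q ^ (∑ i ∈ s, e i) := by
  rw [← Finset.prod_pow_eq_pow_sum]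
  refine Finset.prod_lt_prod_of_nonempty (fun i hi => ?_) (fun i hi => ?_) hs
  · have h2 : 2 ≤ q ^ e i := le_trans hq (Nat.le_self_pow (he i hi) q)
    omega
  · have h1 : 1 ≤ q ^ e i := Nat.one_le_pow _ _ (by omega)
    omega

theorem two_mul_sum_add_two (k : ℕ) : 2 * ∑ i ∈ range k, (i + 2) = k * (k + 3) := by
  induction k with
  | zero => simp
  | succ k ih => rw [Finset.sum_range_succ, mul_add, ih]; ring

theorem sum_two_mul (m : ℕ) : ∑ i ∈ range m, 2 * (i + 1) = m * (m + 1) := by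
  induction m with
  | zero => simp
  | succ k ih => rw [Finset.sum_range_succ, ih]; ring

theorem prodEven_lt {q m : ℕ} (hq : 2 ≤ q) (hm : 1 ≤ m) :
    ∏ i ∈ range m, (q ^ (2 * (i + 1)) - 1) < q ^ (m * (m + 1)) := by
  rw [← sum_two_mul]
  exact prod_pow_sub_one_lt (range m) (fun i => 2 * (i + 1)) hq (fun i _ => by omega)
    (Finset.nonempty_range_iff.mpr (by omega))

theorem prodLin_lt {q k : ℕ} (hq : 2 ≤ q) (hk : 1 ≤ k) :
    ∏ i ∈ range k, (q ^ (i + 2) - 1) < q ^ (∑ i ∈ range k, (i + 2)) :=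
  prod_pow_sub_one_lt (range k) (fun i => i + 2) hq (fun i _ => by omega)
    (Finset.nonempty_range_iff.mpr (by omega))

theorem pair_lt {q e : ℕ} (hq : 2 ≤ q) (he : e ≠ 0) :
    (q ^ e - 1) * (q ^ (e + 1) + 1) < q ^ (e + (e + 1)) := by
  have h2 : 2 ≤ q ^ e := le_trans hq (Nat.le_self_pow he q)
  obtain ⟨y, hy⟩ : ∃ y, q ^ e = y + 1 := ⟨q ^ e - 1, by omega⟩
  have e1 : q ^ (e + (e + 1)) = q ^ e * (q ^ e * q) := by rw [pow_add, pow_succ]
  have e2 : q ^ (e + 1) = q ^ e * q := pow_succ _ _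
  rw [e1, e2, hy]
  simp only [Nat.add_sub_cancel]
  have h3 : 2 * y ≤ y * q := by nlinarith
  nlinarith

/-- the sign pattern of the unitary order formula, shifted by one -/
def uni (q i : ℕ) : ℕ := if Even (i + 1) then q ^ (i + 2) + 1 else q ^ (i + 2) - 1

theorem uni_even (q j : ℕ) : uni q (2 * j) = q ^ (2 * j + 2) - 1 := by
  unfold uni
  rw [if_neg]
  intro h
  rw [Nat.even_add_one] at h
  exact h (even_two_mul j)

theorem uni_odd (q j : ℕ) : uni q (2 * j + 1) = q ^ (2 * j + 3) + 1 := by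
  unfold uni
  rw [if_pos]
  exact ⟨j + 1, by ring⟩

theorem prodUni_even_le {q : ℕ} (hq : 2 ≤ q) (j : ℕ) :
    ∏ i ∈ range (2 * j), uni q i ≤ q ^ (∑ i ∈ range (2 * j), (i + 2)) := by
  induction j with
  | zero => simp
  | succ j ih =>
    have e1 : 2 * (j + 1) = 2 * j + 1 + 1 := by ring
    rw [e1, Finset.prod_range_succ, Finset.prod_range_succ, Finset.sum_range_succ,
      Finset.sum_range_succ, uni_even, uni_odd]
    have hp := pair_lt (e := 2 * j + 2) hq (by omega)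
    calc (∏ i ∈ range (2 * j), uni q i) * (q ^ (2 * j + 2) - 1) * (q ^ (2 * j + 3) + 1)
        = (∏ i ∈ range (2 * j), uni q i) * ((q ^ (2 * j + 2) - 1) * (q ^ (2 * j + 2 + 1) + 1)) := by
          rw [mul_assoc]
      _ ≤ q ^ (∑ i ∈ range (2 * j), (i + 2)) * q ^ (2 * j + 2 + (2 * j + 2 + 1)) :=
          Nat.mul_le_mul ih hp.le
      _ = _ := by rw [← pow_add]; congr 1; ring

theorem uni_pos {q : ℕ} (hq : 2 ≤ q) (i : ℕ) : 0 < uni q i := by
  unfold uni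
  split_ifs
  · omega
  · have : 2 ≤ q ^ (i + 2) := le_trans hq (Nat.le_self_pow (by omega) q)
    omega

theorem prodUni_lt {q k : ℕ} (hq : 2 ≤ q) (hk : 1 ≤ k) :
    ∏ i ∈ range k, uni q i < q ^ (∑ i ∈ range k, (i + 2)) := by
  have hpos : ∀ j, 0 < q ^ (∑ i ∈ range (2 * j), (i + 2)) := fun j => Nat.one_le_pow _ _ (by omega)
  rcases Nat.even_or_odd' k with ⟨j, rfl | rfl⟩
  · obtain ⟨j, rfl⟩ : ∃ j', j = j' + 1 := ⟨j - 1, by omega⟩
    have e1 : 2 * (j + 1) = 2 * j + 1 + 1 := by ring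
    rw [e1, Finset.prod_range_succ, Finset.prod_range_succ, Finset.sum_range_succ,
      Finset.sum_range_succ, uni_even, uni_odd]
    have hp := pair_lt (e := 2 * j + 2) hq (by omega)
    calc (∏ i ∈ range (2 * j), uni q i) * (q ^ (2 * j + 2) - 1) * (q ^ (2 * j + 3) + 1)
        = (∏ i ∈ range (2 * j), uni q i) * ((q ^ (2 * j + 2) - 1) * (q ^ (2 * j + 2 + 1) + 1)) := by
          rw [mul_assoc]
      _ < (∏ i ∈ range (2 * j), uni q i) * q ^ (2 * j + 2 + (2 * j + 2 + 1)) :=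
          Nat.mul_lt_mul_of_pos_left hp (Finset.prod_pos fun i _ => uni_pos hq i)
      _ ≤ q ^ (∑ i ∈ range (2 * j), (i + 2)) * q ^ (2 * j + 2 + (2 * j + 2 + 1)) :=
          Nat.mul_le_mul_right _ (prodUni_even_le hq j)
      _ = _ := by rw [← pow_add]; congr 1; ring
  · rw [Finset.prod_range_succ, Finset.sum_range_succ, uni_even]
    have h1 : 1 ≤ q ^ (2 * j + 2) := Nat.one_le_pow _ _ (by omega)
    calc (∏ i ∈ range (2 * j), uni q i) * (q ^ (2 * j + 2) - 1)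
        ≤ q ^ (∑ i ∈ range (2 * j), (i + 2)) * (q ^ (2 * j + 2) - 1) :=
          Nat.mul_le_mul_right _ (prodUni_even_le hq j)
      _ < q ^ (∑ i ∈ range (2 * j), (i + 2)) * q ^ (2 * j + 2) :=
          Nat.mul_lt_mul_of_pos_left (by omega) (hpos j)
      _ = _ := by rw [← pow_add]

end Cfsg.Agent.Lib.Helper15.LieOrd
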