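import Cfsg.Agent.Lib.Helper15.LieOrdA
import Cfsg.Agent.S0243

set_option autoImplicit false

namespace Cfsg.Agent.Lib.Helper15.LieOrd

open Finset

/-! ### field sizes -/

theorem card_field (F : Type*) [Field F] [Fintype F] (p : ℕ) [CharP F p] :
    ∃ f, 1 ≤ f ∧ Fintype.card F = p ^ f := by
  obtain ⟨f, _, hf⟩ := FiniteField.card F p
  exact ⟨f, f.pos, hf⟩

theorem root_of_pow {p Q e f : ℕ} (hp : p.Prime) (h : Q ^ e = p ^ f) (he : e ≠ 0) (hQ : Q ≠ 1) :
    ∃ g, 1 ≤ g ∧ Q = p ^ g := by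
  have hd : Q ∣ p ^ f := h ▸ dvd_pow_self Q he
  obtain ⟨g, _, hg⟩ := (Nat.dvd_prime_pow hp).mp hd
  refine ⟨g, ?_, hg⟩
  rcases Nat.eq_zero_or_pos g with h0 | h0
  · exfalso; apply hQ; rw [hg, h0, pow_zero]
  · exact h0

theorem two_mul_tri (k : ℕ) : 2 * ((k + 1) * (k + 1 - 1) / 2) = (k + 1) * k := by
  rw [Nat.add_sub_cancel]
  exact Nat.two_mul_div_two_of_even (Nat.even_mul_succ_self k |> fun h => by rwa [mul_comm] at h)

/-! ### `PSL_n` -/

theorem prod_split (q n : ℕ) :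
    ∏ i : Fin n, (q ^ n - q ^ (i : ℕ)) = q ^ (n * (n - 1) / 2) * ∏ i ∈ range n, (q ^ (i + 1) - 1) := by
  have h1 : ∀ i : Fin n, q ^ n - q ^ (i : ℕ) = q ^ (i : ℕ) * (q ^ (n - (i : ℕ)) - 1) := by
    intro i
    rw [Nat.mul_sub, mul_one, ← pow_add, Nat.add_sub_cancel' (le_of_lt i.2)]
  simp_rw [h1]
  rw [Finset.prod_mul_distrib, Finset.prod_pow_eq_pow_sum]
  congr 1
  · congr 1
    rw [Fin.sum_univ_eq_sum_range (fun i => i) n, Finset.sum_range_id]
  · rw [Fin.prod_univ_eq_prod_range (fun i => q ^ (n - i) - 1) n,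
      ← Finset.prod_range_reflect (fun i => q ^ (i + 1) - 1) n]
    refine Finset.prod_congr rfl fun i hi => ?_
    have := Finset.mem_range.mp hi
    congr 2
    omega

theorem psl_formula {F : Type*} [Field F] [Fintype F] (k : ℕ) (hk : 1 ≤ k) :
    Nat.gcd (k + 1) (Fintype.card F - 1) *
      Nat.card (Matrix.ProjectiveSpecialLinearGroup (Fin (k + 1)) F) =
    (Fintype.card F) ^ ((k + 1) * (k + 1 - 1) / 2) *
      ∏ i ∈ range k, ((Fintype.card F) ^ (i + 2) - 1) := by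
  have h := Cfsg.Agent.S0243.result (F := F) rfl (k + 1) (by omega)
  rw [prod_split, Finset.prod_range_succ'] at h
  have hq : 2 ≤ Fintype.card F := Fintype.one_lt_card
  have hq1 : 0 < Fintype.card F - 1 := by omega
  apply Nat.eq_of_mul_eq_mul_left hq1
  simp only [zero_add, pow_one] at h
  calc _ = _ := by ring
    _ = _ := h
    _ = _ := by ring

theorem psl_bound {F : Type*} [Field F] [Fintype F] {p : ℕ} [CharP F p] (hp : p.Prime)
    (n : ℕ) (hn : 2 ≤ n) (c : ℕ)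
    (hc : c = Nat.card (Matrix.ProjectiveSpecialLinearGroup (Fin n) F)) :
    c < p ^ (3 * c.factorization p) ∧ (3 ≤ n → c ^ 3 < p ^ (8 * c.factorization p)) ∧
      (n = 2 → Fintype.card F = p ^ c.factorization p) := by
  obtain ⟨k, rfl⟩ : ∃ k, n = k + 1 := ⟨n - 1, by omega⟩
  obtain ⟨f, hf1, hf⟩ := card_field F p
  have hform := psl_formula (F := F) k (by omega)
  rw [hf, ← hc] at hform
  have hpq : p ∣ p ^ f := dvd_pow_self p (by omega)
  have hq0 : 0 < p ^ f := Nat.one_le_pow _ _ hp.pos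
  have hq2 : 2 ≤ p ^ f := le_trans hp.two_le (Nat.le_self_pow (by omega) p)
  have hc0 : c ≠ 0 := by rw [hc]; exact Nat.card_pos.ne'
  have hd : ¬ p ∣ Nat.gcd (k + 1) (p ^ f - 1) := by
    refine not_dvd_of_dvd (Nat.gcd_dvd_right _ _) ?_
    have := not_dvd_pow_sub_one (e := 1) hp hpq hq0 one_ne_zero
    rwa [pow_one] at this
  have hR : ¬ p ∣ ∏ i ∈ range k, ((p ^ f) ^ (i + 2) - 1) :=
    not_dvd_prod hp _ _ fun i _ => not_dvd_pow_sub_one hp hpq hq0 (by omega)
  have hRa := prodLin_lt (q := p ^ f) (k := k) hq2 (by omega)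
  have hb := bound_of_formula hp hform hd hR hc0 hRa
  have hv := val_of_formula hp hform hd hR hc0
  have h2a := two_mul_sum_add_two k
  have h2N := two_mul_tri k
  refine ⟨hb.1 ?_, fun h3 => hb.2 ?_, fun h2 => ?_⟩
  · nlinarith
  · nlinarith
  · have hk1 : k = 1 := by omega
    subst hk1
    rw [hv, hf]
    norm_num

end Cfsg.Agent.Lib.Helper15.LieOrd
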