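import Cfsg.Agent.Lib.Helper15.LieOrdB
import Cfsg.Agent.S0245
import Cfsg.Agent.S0246
import Cfsg.Agent.S0280
import Cfsg.Agent.S0292
import Cfsg.Agent.S0293
import Cfsg.Agent.S0294

set_option autoImplicit false

namespace Cfsg.Agent.Lib.Helper15.LieOrd

open Finset

/-- data extracted from the characteristic -/
theorem field_facts (F : Type*) [Field F] [Fintype F] (p : ℕ) [CharP F p] (hp : p.Prime) :
    ∃ f, 1 ≤ f ∧ Fintype.card F = p ^ f ∧ p ∣ p ^ f ∧ 0 < p ^ f ∧ 2 ≤ p ^ f := by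
  obtain ⟨f, hf1, hf⟩ := card_field F p
  exact ⟨f, hf1, hf, dvd_pow_self p (by omega), Nat.one_le_pow _ _ hp.pos,
    le_trans hp.two_le (Nat.le_self_pow (by omega) p)⟩

/-! ### `PSp_{2m}` -/

theorem psp_bound {F : Type*} [Field F] [Fintype F] {p : ℕ} [CharP F p] (hp : p.Prime)
    (m : ℕ) (hm : 2 ≤ m) (c : ℕ) (hc : c = Nat.card (Cfsg.PSp m F)) :
    c < p ^ (3 * c.factorization p) ∧ c ^ 3 < p ^ (8 * c.factorization p) := by
  obtain ⟨f, hf1, hf, hpq, hq0, hq2⟩ := field_facts F p hp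
  have h1 := Cfsg.Agent.S0245.result (F := F) rfl m
  have h2 := Cfsg.Agent.S0246.result (F := F) rfl m (by omega)
  have h3 := Subgroup.card_eq_card_quotient_mul_card_subgroup
    (Subgroup.center (Matrix.symplecticGroup (Fin m) F))
  rw [h1, h2, hf] at h3
  have hform : Nat.gcd 2 (p ^ f - 1) * c =
      (p ^ f) ^ (m ^ 2) * ∏ i ∈ range m, ((p ^ f) ^ (2 * (i + 1)) - 1) := by
    rw [hc, mul_comm]; exact h3.symm
  have hc0 : c ≠ 0 := by rw [hc]; exact Nat.card_pos.ne'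
  have hd : ¬ p ∣ Nat.gcd 2 (p ^ f - 1) := by
    refine not_dvd_of_dvd (Nat.gcd_dvd_right _ _) ?_
    have := not_dvd_pow_sub_one (e := 1) hp hpq hq0 one_ne_zero
    rwa [pow_one] at this
  have hR : ¬ p ∣ ∏ i ∈ range m, ((p ^ f) ^ (2 * (i + 1)) - 1) :=
    not_dvd_prod hp _ _ fun i _ => not_dvd_pow_sub_one hp hpq hq0 (by omega)
  have hRa := prodEven_lt (q := p ^ f) (m := m) hq2 (by omega)
  have hb := bound_of_formula hp hform hd hR hc0 hRa
  exact ⟨hb.1 (by nlinarith), hb.2 (by nlinarith)⟩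

/-! ### `PΩ_{2m+1}` -/

theorem pomega_odd_bound {F : Type*} [Field F] [Fintype F] {p : ℕ} [CharP F p] (hp : p.Prime)
    (m : ℕ) (hm : 3 ≤ m) (hodd : Odd (Fintype.card F)) (c : ℕ)
    (hc : c = Nat.card (Cfsg.POmega F (Cfsg.quadFormOdd m F))) :
    c < p ^ (3 * c.factorization p) ∧ c ^ 3 < p ^ (8 * c.factorization p) := by
  obtain ⟨f, hf1, hf, hpq, hq0, hq2⟩ := field_facts F p hp
  have h1 := Cfsg.Agent.S0292.result (F := F) rfl hodd m hm
  rw [hf, ← hc] at h1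
  have hc0 : c ≠ 0 := by rw [hc]; exact Nat.card_pos.ne'
  have hd : ¬ p ∣ 2 := by
    intro h
    have h2 : p = 2 := (Nat.prime_dvd_prime_iff_eq hp Nat.prime_two).mp h
    rw [hf, h2] at hodd
    exact (Nat.not_even_iff_odd.mpr hodd) ((Nat.even_pow.mpr ⟨even_two, by omega⟩))
  have hR : ¬ p ∣ ∏ i ∈ range m, ((p ^ f) ^ (2 * (i + 1)) - 1) :=
    not_dvd_prod hp _ _ fun i _ => not_dvd_pow_sub_one hp hpq hq0 (by omega)
  have hRa := prodEven_lt (q := p ^ f) (m := m) hq2 (by omega)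
  have hb := bound_of_formula hp h1 hd hR hc0 hRa
  exact ⟨hb.1 (by nlinarith), hb.2 (by nlinarith)⟩

/-! ### `PΩ⁺_{2m}` -/

theorem pomega_plus_bound {F : Type*} [Field F] [Fintype F] {p : ℕ} [CharP F p] (hp : p.Prime)
    (m : ℕ) (hm : 4 ≤ m) (c : ℕ)
    (hc : c = Nat.card (Cfsg.POmega F (Cfsg.quadFormPlus m F))) :
    c < p ^ (3 * c.factorization p) ∧ c ^ 3 < p ^ (8 * c.factorization p) := by
  obtain ⟨f, hf1, hf, hpq, hq0, hq2⟩ := field_facts F p hp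
  have h1 := Cfsg.Agent.S0293.result (F := F) rfl m hm
  rw [hf, ← hc, mul_assoc] at h1
  obtain ⟨j, rfl⟩ : ∃ j, m = j + 1 := ⟨m - 1, by omega⟩
  rw [Nat.add_sub_cancel] at h1
  have hc0 : c ≠ 0 := by rw [hc]; exact Nat.card_pos.ne'
  have hd : ¬ p ∣ Nat.gcd 4 ((p ^ f) ^ (j + 1) - 1) :=
    not_dvd_of_dvd (Nat.gcd_dvd_right _ _) (not_dvd_pow_sub_one hp hpq hq0 (by omega))
  have hR : ¬ p ∣ ((p ^ f) ^ (j + 1) - 1) * ∏ i ∈ range j, ((p ^ f) ^ (2 * (i + 1)) - 1) :=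
    not_dvd_mul hp (not_dvd_pow_sub_one hp hpq hq0 (by omega))
      (not_dvd_prod hp _ _ fun i _ => not_dvd_pow_sub_one hp hpq hq0 (by omega))
  have hRa : ((p ^ f) ^ (j + 1) - 1) * ∏ i ∈ range j, ((p ^ f) ^ (2 * (i + 1)) - 1) <
      (p ^ f) ^ ((j + 1) + j * (j + 1)) := by
    have e : (p ^ f) ^ ((j + 1) + j * (j + 1)) = (p ^ f) ^ (j + 1) * (p ^ f) ^ (j * (j + 1)) :=
      pow_add _ _ _
    rw [e]
    have h2 := prodEven_lt (q := p ^ f) (m := j) hq2 (by omega)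
    have h3 : 1 ≤ (p ^ f) ^ (j + 1) := Nat.one_le_pow _ _ hq0
    exact lt_of_le_of_lt (Nat.mul_le_mul_left _ h2.le)
      (Nat.mul_lt_mul_of_pos_right (by omega) (Nat.one_le_pow _ _ hq0))
  have hb := bound_of_formula hp h1 hd hR hc0 hRa
  exact ⟨hb.1 (by nlinarith), hb.2 (by nlinarith)⟩

/-! ### `PΩ⁻_{2m}` -/

theorem pomega_minus_bound {F : Type*} [Field F] [Fintype F] {p : ℕ} [CharP F p] (hp : p.Prime)
    (m : ℕ) (hm : 4 ≤ m) (a b : F)
    (hab : ∀ z₁ z₂ : F, z₁ ^ 2 + a * z₁ * z₂ + b * z₂ ^ 2 = 0 → z₁ = 0 ∧ z₂ = 0) (c : ℕ)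
    (hc : c = Nat.card (Cfsg.POmega F (Cfsg.quadFormMinus (m - 1) F a b))) :
    c < p ^ (3 * c.factorization p) ∧ c ^ 3 < p ^ (8 * c.factorization p) := by
  obtain ⟨f, hf1, hf, hpq, hq0, hq2⟩ := field_facts F p hp
  have h1 := Cfsg.Agent.S0294.result (F := F) rfl m hm a b hab
  rw [hf, ← hc, mul_assoc] at h1
  obtain ⟨j, rfl⟩ : ∃ j, m = j + 1 := ⟨m - 1, by omega⟩
  rw [Nat.add_sub_cancel] at h1
  have hc0 : c ≠ 0 := by rw [hc]; exact Nat.card_pos.ne'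
  have hd : ¬ p ∣ Nat.gcd 4 ((p ^ f) ^ (j + 1) + 1) :=
    not_dvd_of_dvd (Nat.gcd_dvd_right _ _) (not_dvd_pow_add_one hp hpq (by omega))
  have hR : ¬ p ∣ ((p ^ f) ^ (j + 1) + 1) * ∏ i ∈ range j, ((p ^ f) ^ (2 * (i + 1)) - 1) :=
    not_dvd_mul hp (not_dvd_pow_add_one hp hpq (by omega))
      (not_dvd_prod hp _ _ fun i _ => not_dvd_pow_sub_one hp hpq hq0 (by omega))
  have hRa : ((p ^ f) ^ (j + 1) + 1) * ∏ i ∈ range j, ((p ^ f) ^ (2 * (i + 1)) - 1) <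
      (p ^ f) ^ ((j + 1 + 1) + j * (j + 1)) := by
    have e : (p ^ f) ^ ((j + 1 + 1) + j * (j + 1)) =
        (p ^ f) ^ (j + 1 + 1) * (p ^ f) ^ (j * (j + 1)) := pow_add _ _ _
    rw [e]
    have h2 := prodEven_lt (q := p ^ f) (m := j) hq2 (by omega)
    have h3 : 1 ≤ (p ^ f) ^ (j + 1) := Nat.one_le_pow _ _ hq0
    have h4 : (p ^ f) ^ (j + 1) + 1 ≤ (p ^ f) ^ (j + 1 + 1) := by
      rw [pow_succ (p ^ f) (j + 1)]
      nlinarith
    exact lt_of_lt_of_le (Nat.mul_lt_mul_of_pos_left h2 (by omega))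
      (Nat.mul_le_mul_right _ h4)
  have hb := bound_of_formula hp h1 hd hR hc0 hRa
  exact ⟨hb.1 (by nlinarith), hb.2 (by nlinarith)⟩

/-! ### `PSU_n` -/

theorem psu_formula {F : Type*} [Field F] [Fintype F] {q : ℕ} (hF : Fintype.card F = q ^ 2)
    (k : ℕ) (hk : 1 ≤ k) :
    Nat.gcd (k + 1) (q + 1) * Nat.card (Cfsg.PSU (k + 1) F q) =
      q ^ ((k + 1) * (k + 1 - 1) / 2) * ∏ i ∈ range k, uni q i := by
  have h := Cfsg.Agent.S0280.result (F := F) hF (k + 1) (by omega)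
  rw [Finset.prod_range_succ'] at h
  have hq1 : 0 < q + 1 := by omega
  apply Nat.eq_of_mul_eq_mul_left hq1
  simp only [zero_add, pow_one, Even.zero, if_true] at h
  have e : ∀ i, (if Even (i + 1) then q ^ (i + 1 + 1) + 1 else q ^ (i + 1 + 1) - 1) = uni q i :=
    fun i => rfl
  simp only [e] at h
  calc _ = _ := by ring
    _ = _ := h
    _ = _ := by ring

theorem psu_bound {F : Type*} [Field F] [Fintype F] {p : ℕ} [CharP F p] (hp : p.Prime)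
    (n q : ℕ) (hF : Fintype.card F = q ^ 2) (hn : 3 ≤ n) (c : ℕ)
    (hc : c = Nat.card (Cfsg.PSU n F q)) :
    c < p ^ (3 * c.factorization p) ∧ c ^ 3 < p ^ (8 * c.factorization p) := by
  obtain ⟨k, rfl⟩ : ∃ k, n = k + 1 := ⟨n - 1, by omega⟩
  obtain ⟨f', hf1', hf', _, _, hq2'⟩ := field_facts F p hp
  have hq1 : q ≠ 1 := by
    rintro rfl
    have : p ^ f' = 1 := by rw [← hf', hF]; norm_num
    omega
  obtain ⟨f, hf1, hf⟩ := root_of_pow hp (hF ▸ hf' : q ^ 2 = p ^ f') two_ne_zero hq1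
  have hpq : p ∣ p ^ f := dvd_pow_self p (by omega)
  have hq0 : 0 < p ^ f := Nat.one_le_pow _ _ hp.pos
  have hq2 : 2 ≤ p ^ f := le_trans hp.two_le (Nat.le_self_pow (by omega) p)
  have hform := psu_formula (F := F) hF k (by omega)
  rw [← hc, hf] at hform
  have hc0 : c ≠ 0 := by rw [hc]; exact Nat.card_pos.ne'
  have hd : ¬ p ∣ Nat.gcd (k + 1) (p ^ f + 1) := by
    refine not_dvd_of_dvd (Nat.gcd_dvd_right _ _) ?_
    have := not_dvd_pow_add_one (e := 1) hp hpq one_ne_zero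
    rwa [pow_one] at this
  have hR : ¬ p ∣ ∏ i ∈ range k, uni (p ^ f) i := by
    refine not_dvd_prod hp _ _ fun i _ => ?_
    unfold uni
    split_ifs
    · exact not_dvd_pow_add_one hp hpq (by omega)
    · exact not_dvd_pow_sub_one hp hpq hq0 (by omega)
  have hRa := prodUni_lt (q := p ^ f) (k := k) hq2 (by omega)
  have hb := bound_of_formula hp hform hd hR hc0 hRa
  have h2a := two_mul_sum_add_two k
  have h2N := two_mul_tri k
  exact ⟨hb.1 (by nlinarith), hb.2 (by nlinarith)⟩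

end Cfsg.Agent.Lib.Helper15.LieOrd
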