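import Cfsg.Agent.Lib.Helper15.LieOrdB

set_option autoImplicit false

namespace Cfsg.Agent.Lib.Helper15.LieOrd

open Finset

/-! ### bookkeeping for explicit products -/

/-- a `p'`-factor bounded by `q ^ a` -/
def Fac (p q x a : ℕ) : Prop := ¬ p ∣ x ∧ 0 < x ∧ x ≤ q ^ a

/-- a `p'`-factor strictly bounded by `q ^ a` -/
def SFac (p q x a : ℕ) : Prop := ¬ p ∣ x ∧ x < q ^ a

theorem SFac.mul {p q x a y b : ℕ} (hp : p.Prime) (h1 : SFac p q x a) (h2 : Fac p q y b) :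
    SFac p q (x * y) (a + b) :=
  ⟨not_dvd_mul hp h1.1 h2.1, by
    rw [pow_add]; exact Nat.mul_lt_mul_of_lt_of_le h1.2 h2.2.2 (lt_of_lt_of_le h2.2.1 h2.2.2)⟩

theorem fac_sub {p q : ℕ} (hp : p.Prime) (hpq : p ∣ q) (hq : 2 ≤ q) (e : ℕ) (he : e ≠ 0) :
    Fac p q (q ^ e - 1) e := by
  have h2 : 2 ≤ q ^ e := le_trans hq (Nat.le_self_pow he q)
  exact ⟨not_dvd_pow_sub_one hp hpq (by omega) he, by omega, by omega⟩

theorem sfac_sub {p q : ℕ} (hp : p.Prime) (hpq : p ∣ q) (hq : 2 ≤ q) (e : ℕ) (he : e ≠ 0) :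
    SFac p q (q ^ e - 1) e := by
  have h2 : 2 ≤ q ^ e := le_trans hq (Nat.le_self_pow he q)
  exact ⟨not_dvd_pow_sub_one hp hpq (by omega) he, by omega⟩

theorem fac_add {p q : ℕ} (hp : p.Prime) (hpq : p ∣ q) (hq : 2 ≤ q) (e : ℕ) (he : e ≠ 0) :
    Fac p q (q ^ e + 1) (e + 1) := by
  have h2 : 2 ≤ q ^ e := le_trans hq (Nat.le_self_pow he q)
  refine ⟨not_dvd_pow_add_one hp hpq he, by omega, ?_⟩
  rw [pow_succ]
  nlinarith

theorem exc_bound {p f N d c R a : ℕ} (hp : p.Prime) (h : d * c = (p ^ f) ^ N * R)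
    (hd : ¬ p ∣ d) (hR : SFac p (p ^ f) R a) (hc0 : c ≠ 0) (h1 : a ≤ 2 * N) (h2 : 3 * a ≤ 5 * N) :
    c < p ^ (3 * c.factorization p) ∧ c ^ 3 < p ^ (8 * c.factorization p) := by
  have hb := bound_of_formula hp h hd hR.1 hc0 hR.2
  exact ⟨hb.1 h1, hb.2 h2⟩

theorem not_dvd_one {p : ℕ} (hp : p.Prime) : ¬ p ∣ 1 := fun h => hp.one_lt.ne' (Nat.dvd_one.mp h)

/-- the basic facts about `q = p ^ f` -/
theorem pow_facts {p f : ℕ} (hp : p.Prime) (hf : 1 ≤ f) : p ∣ p ^ f ∧ 2 ≤ p ^ f :=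
  ⟨dvd_pow_self p (by omega), le_trans hp.two_le (Nat.le_self_pow (by omega) p)⟩

/-! ### the untwisted exceptional orders -/

theorem g2_arith {p f c : ℕ} (hp : p.Prime) (hf : 1 ≤ f) (hc0 : c ≠ 0)
    (h : c = (p ^ f) ^ 6 * ((p ^ f) ^ 2 - 1) * ((p ^ f) ^ 6 - 1)) :
    c < p ^ (3 * c.factorization p) ∧ c ^ 3 < p ^ (8 * c.factorization p) := by
  obtain ⟨hpq, hq2⟩ := pow_facts hp hf
  have hR := (sfac_sub hp hpq hq2 2 (by omega)).mul hp (fac_sub hp hpq hq2 6 (by omega))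
  refine exc_bound (d := 1) (N := 6) hp ?_ (not_dvd_one hp) hR hc0 (by omega) (by omega)
  rw [one_mul, h]; ring

theorem f4_arith {p f c : ℕ} (hp : p.Prime) (hf : 1 ≤ f) (hc0 : c ≠ 0)
    (h : c = (p ^ f) ^ 24 * ((p ^ f) ^ 2 - 1) * ((p ^ f) ^ 6 - 1) * ((p ^ f) ^ 8 - 1) *
      ((p ^ f) ^ 12 - 1)) :
    c < p ^ (3 * c.factorization p) ∧ c ^ 3 < p ^ (8 * c.factorization p) := by
  obtain ⟨hpq, hq2⟩ := pow_facts hp hf
  have hR := (((sfac_sub hp hpq hq2 2 (by omega)).mul hp (fac_sub hp hpq hq2 6 (by omega))).mul hp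
    (fac_sub hp hpq hq2 8 (by omega))).mul hp (fac_sub hp hpq hq2 12 (by omega))
  refine exc_bound (d := 1) (N := 24) hp ?_ (not_dvd_one hp) hR hc0 (by omega) (by omega)
  rw [one_mul, h]; ring

theorem e6_arith {p f c d : ℕ} (hp : p.Prime) (hf : 1 ≤ f) (hc0 : c ≠ 0) (hd : ¬ p ∣ d)
    (h : d * c = (p ^ f) ^ 36 * ((p ^ f) ^ 2 - 1) * ((p ^ f) ^ 5 - 1) * ((p ^ f) ^ 6 - 1) *
      ((p ^ f) ^ 8 - 1) * ((p ^ f) ^ 9 - 1) * ((p ^ f) ^ 12 - 1)) :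
    c < p ^ (3 * c.factorization p) ∧ c ^ 3 < p ^ (8 * c.factorization p) := by
  obtain ⟨hpq, hq2⟩ := pow_facts hp hf
  have hR := (((((sfac_sub hp hpq hq2 2 (by omega)).mul hp (fac_sub hp hpq hq2 5 (by omega))).mul hp
    (fac_sub hp hpq hq2 6 (by omega))).mul hp (fac_sub hp hpq hq2 8 (by omega))).mul hp
    (fac_sub hp hpq hq2 9 (by omega))).mul hp (fac_sub hp hpq hq2 12 (by omega))
  refine exc_bound (N := 36) hp ?_ hd hR hc0 (by omega) (by omega)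
  rw [h]; ring

theorem e7_arith {p f c d : ℕ} (hp : p.Prime) (hf : 1 ≤ f) (hc0 : c ≠ 0) (hd : ¬ p ∣ d)
    (h : d * c = (p ^ f) ^ 63 * ((p ^ f) ^ 2 - 1) * ((p ^ f) ^ 6 - 1) * ((p ^ f) ^ 8 - 1) *
      ((p ^ f) ^ 10 - 1) * ((p ^ f) ^ 12 - 1) * ((p ^ f) ^ 14 - 1) * ((p ^ f) ^ 18 - 1)) :
    c < p ^ (3 * c.factorization p) ∧ c ^ 3 < p ^ (8 * c.factorization p) := by
  obtain ⟨hpq, hq2⟩ := pow_facts hp hf
  have hR := ((((((sfac_sub hp hpq hq2 2 (by omega)).mul hp (fac_sub hp hpq hq2 6 (by omega))).mul hp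
    (fac_sub hp hpq hq2 8 (by omega))).mul hp (fac_sub hp hpq hq2 10 (by omega))).mul hp
    (fac_sub hp hpq hq2 12 (by omega))).mul hp (fac_sub hp hpq hq2 14 (by omega))).mul hp
    (fac_sub hp hpq hq2 18 (by omega))
  refine exc_bound (N := 63) hp ?_ hd hR hc0 (by omega) (by omega)
  rw [h]; ring

theorem e8_arith {p f c : ℕ} (hp : p.Prime) (hf : 1 ≤ f) (hc0 : c ≠ 0)
    (h : c = (p ^ f) ^ 120 * ((p ^ f) ^ 2 - 1) * ((p ^ f) ^ 8 - 1) * ((p ^ f) ^ 12 - 1) *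
      ((p ^ f) ^ 14 - 1) * ((p ^ f) ^ 18 - 1) * ((p ^ f) ^ 20 - 1) * ((p ^ f) ^ 24 - 1) *
      ((p ^ f) ^ 30 - 1)) :
    c < p ^ (3 * c.factorization p) ∧ c ^ 3 < p ^ (8 * c.factorization p) := by
  obtain ⟨hpq, hq2⟩ := pow_facts hp hf
  have hR := (((((((sfac_sub hp hpq hq2 2 (by omega)).mul hp (fac_sub hp hpq hq2 8 (by omega))).mul hp
    (fac_sub hp hpq hq2 12 (by omega))).mul hp (fac_sub hp hpq hq2 14 (by omega))).mul hp
    (fac_sub hp hpq hq2 18 (by omega))).mul hp (fac_sub hp hpq hq2 20 (by omega))).mul hp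
    (fac_sub hp hpq hq2 24 (by omega))).mul hp (fac_sub hp hpq hq2 30 (by omega))
  refine exc_bound (d := 1) (N := 120) hp ?_ (not_dvd_one hp) hR hc0 (by omega) (by omega)
  rw [one_mul, h]; ring

/-! ### the twisted orders -/

theorem tw_e6_arith {p f c d : ℕ} (hp : p.Prime) (hf : 1 ≤ f) (hc0 : c ≠ 0) (hd : ¬ p ∣ d)
    (h : d * c = (p ^ f) ^ 36 * ((p ^ f) ^ 2 - 1) * ((p ^ f) ^ 5 + 1) * ((p ^ f) ^ 6 - 1) *
      ((p ^ f) ^ 8 - 1) * ((p ^ f) ^ 9 + 1) * ((p ^ f) ^ 12 - 1)) :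
    c < p ^ (3 * c.factorization p) ∧ c ^ 3 < p ^ (8 * c.factorization p) := by
  obtain ⟨hpq, hq2⟩ := pow_facts hp hf
  have hR := (((((sfac_sub hp hpq hq2 2 (by omega)).mul hp (fac_add hp hpq hq2 5 (by omega))).mul hp
    (fac_sub hp hpq hq2 6 (by omega))).mul hp (fac_sub hp hpq hq2 8 (by omega))).mul hp
    (fac_add hp hpq hq2 9 (by omega))).mul hp (fac_sub hp hpq hq2 12 (by omega))
  refine exc_bound (N := 36) hp ?_ hd hR hc0 (by omega) (by omega)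
  rw [h]; ring

theorem fac_d4 {p q : ℕ} (hp : p.Prime) (hpq : p ∣ q) (hq : 2 ≤ q) :
    Fac p q (q ^ 8 + q ^ 4 + 1) 9 := by
  refine ⟨?_, by omega, ?_⟩
  · intro hi
    have h1 : p ∣ q ^ 8 + q ^ 4 := dvd_add (dvd_trans hpq (dvd_pow_self q (by omega)))
      (dvd_trans hpq (dvd_pow_self q (by omega)))
    exact not_dvd_one hp ((Nat.dvd_add_right h1).mp hi)
  · have h4 : 2 ≤ q ^ 4 := le_trans hq (Nat.le_self_pow (by omega) q)
    have e8 : q ^ 8 = q ^ 4 * q ^ 4 := by rw [← pow_add]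
    have e9 : q ^ 9 = q ^ 4 * q ^ 4 * q := by rw [← pow_add, ← pow_succ]
    rw [e8, e9]
    nlinarith

theorem tw_d4_arith {p f c : ℕ} (hp : p.Prime) (hf : 1 ≤ f) (hc0 : c ≠ 0)
    (h : c = (p ^ f) ^ 12 * ((p ^ f) ^ 2 - 1) * ((p ^ f) ^ 6 - 1) *
      ((p ^ f) ^ 8 + (p ^ f) ^ 4 + 1)) :
    c < p ^ (3 * c.factorization p) ∧ c ^ 3 < p ^ (8 * c.factorization p) := by
  obtain ⟨hpq, hq2⟩ := pow_facts hp hf
  have hR := ((sfac_sub hp hpq hq2 2 (by omega)).mul hp (fac_sub hp hpq hq2 6 (by omega))).mul hp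
    (fac_d4 hp hpq hq2)
  refine exc_bound (d := 1) (N := 12) hp ?_ (not_dvd_one hp) hR hc0 (by omega) (by omega)
  rw [one_mul, h]; ring

/-- Suzuki: `q ^ 2 * (q ^ 2 + 1) * (q - 1)` -/
theorem sz_arith {p f c : ℕ} (hp : p.Prime) (hf : 1 ≤ f) (hc0 : c ≠ 0)
    (h : c = (p ^ f) ^ 2 * ((p ^ f) ^ 2 + 1) * (p ^ f - 1)) :
    c < p ^ (3 * c.factorization p) ∧ c ^ 3 < p ^ (8 * c.factorization p) := by
  obtain ⟨hpq, hq2⟩ := pow_facts hp hf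
  have hR : SFac p (p ^ f) (((p ^ f) ^ 2 + 1) * (p ^ f - 1)) 3 := by
    refine ⟨not_dvd_mul hp (not_dvd_pow_add_one hp hpq (by omega)) ?_, ?_⟩
    · have := not_dvd_pow_sub_one (e := 1) hp hpq (by omega) one_ne_zero
      rwa [pow_one] at this
    · obtain ⟨y, hy⟩ : ∃ y, p ^ f = y + 2 := ⟨p ^ f - 2, by omega⟩
      rw [hy]
      simp only [show y + 2 - 1 = y + 1 by omega]
      nlinarith
  refine exc_bound (d := 1) (N := 2) hp ?_ (not_dvd_one hp) hR hc0 (by omega) (by omega)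
  rw [one_mul, h]; ring

/-- large Ree: `q ^ 12 * (q - 1) * (q ^ 3 + 1) * (q ^ 4 - 1) * (q ^ 6 + 1)` -/
theorem tw_f4_arith {p f c : ℕ} (hp : p.Prime) (hf : 1 ≤ f) (hc0 : c ≠ 0)
    (h : c = (p ^ f) ^ 12 * (p ^ f - 1) * ((p ^ f) ^ 3 + 1) * ((p ^ f) ^ 4 - 1) *
      ((p ^ f) ^ 6 + 1)) :
    c < p ^ (3 * c.factorization p) ∧ c ^ 3 < p ^ (8 * c.factorization p) := by
  obtain ⟨hpq, hq2⟩ := pow_facts hp hf
  have h1 : SFac p (p ^ f) (p ^ f - 1) 1 := by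
    have := sfac_sub hp hpq hq2 1 one_ne_zero
    rwa [pow_one] at this
  have hR := ((h1.mul hp (fac_add hp hpq hq2 3 (by omega))).mul hp
    (fac_sub hp hpq hq2 4 (by omega))).mul hp (fac_add hp hpq hq2 6 (by omega))
  refine exc_bound (d := 1) (N := 12) hp ?_ (not_dvd_one hp) hR hc0 (by omega) (by omega)
  rw [one_mul, h]; ring

/-- small Ree: `q ^ 3 * (q - 1) * (q ^ 3 + 1)` -/
theorem tw_g2_arith {p f c : ℕ} (hp : p.Prime) (hf : 1 ≤ f) (hc0 : c ≠ 0)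
    (h : c = (p ^ f) ^ 3 * (p ^ f - 1) * ((p ^ f) ^ 3 + 1)) :
    c < p ^ (3 * c.factorization p) ∧ c ^ 3 < p ^ (8 * c.factorization p) := by
  obtain ⟨hpq, hq2⟩ := pow_facts hp hf
  have h1 : SFac p (p ^ f) (p ^ f - 1) 1 := by
    have := sfac_sub hp hpq hq2 1 one_ne_zero
    rwa [pow_one] at this
  have hR := h1.mul hp (fac_add hp hpq hq2 3 (by omega))
  refine exc_bound (d := 1) (N := 3) hp ?_ (not_dvd_one hp) hR hc0 (by omega) (by omega)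
  rw [one_mul, h]; ring

end Cfsg.Agent.Lib.Helper15.LieOrd
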