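import Cfsg.Agent.Lib.Helper15.SuzukiGroup
import Cfsg.Agent.S0326

/-!
# Order of the Suzuki group and of its point stabiliser (helper15)
-/

set_option autoImplicit false

namespace Cfsg.Agent.Lib.Helper15.SuzukiOrder

open Cfsg.Agent.Lib.Helper15.SuzukiAlg Cfsg.Agent.Lib.Helper15.SuzukiOvoid
  Cfsg.Agent.Lib.Helper15.SuzukiForm Cfsg.Agent.Lib.Helper15.SuzukiMat
  Cfsg.Agent.Lib.Helper15.SuzukiGroup Matrix
open scoped Pointwise

variable {F : Type*} [Field F] [Fintype F] {m : ℕ} (hF : Fintype.card F = 2 ^ (2 * m + 1))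

include hF in
theorem TH_fixes_inf (a b : F) (μ : Fˣ) :
    (T (two_eq_zero hF) m a b * H (two_eq_zero hF) m μ) • Cfsg.suzukiPointInfinity F =
      Cfsg.suzukiPointInfinity F := by
  have h2 := two_eq_zero hF
  rw [pointInfinity_eq, smul_mk_eq_iff]
  refine ⟨_, mul_ne_zero μ.ne_zero (fun h => μ.ne_zero ((map_eq_zero (sig h2 m)).mp h)), ?_⟩
  rw [Matrix.SpecialLinearGroup.coe_mul, ← Matrix.mulVec_mulVec, H_mulVec_e0 hF, Matrix.mulVec_smul,
    T_mulVec_e0 hF]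

include hF in
theorem TH_mem (a b : F) (μ : Fˣ) :
    T (two_eq_zero hF) m a b * H (two_eq_zero hF) m μ ∈ Cfsg.Sz F m :=
  (Cfsg.Sz F m).mul_mem (T_mem hF a b) (H_mem hF μ)

/-- parametrisation of the stabiliser of the point at infinity -/
def stabMap (p : F × F × Fˣ) :
    MulAction.stabilizer (Cfsg.Sz F m) (Cfsg.suzukiPointInfinity F) :=
  ⟨⟨T (two_eq_zero hF) m p.1 p.2.1 * H (two_eq_zero hF) m p.2.2, TH_mem hF _ _ _⟩,
    MulAction.mem_stabilizer_iff.mpr (TH_fixes_inf hF _ _ _)⟩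

include hF in
theorem stabMap_bijective (hm : 1 ≤ m) : Function.Bijective (stabMap hF) := by
  constructor
  · rintro ⟨a, b, μ⟩ ⟨a', b', μ'⟩ h
    have h1 := congrArg (fun s : MulAction.stabilizer (Cfsg.Sz F m) (Cfsg.suzukiPointInfinity F) =>
      ((s : Cfsg.Sz F m) : Matrix.SpecialLinearGroup (Fin 4) F)) h
    obtain ⟨rfl, rfl, rfl⟩ := TH_unique hF h1
    rfl
  · rintro ⟨⟨g, hg⟩, hs⟩
    have hs' : g • Cfsg.suzukiPointInfinity F = Cfsg.suzukiPointInfinity F :=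
      MulAction.mem_stabilizer_iff.mp hs
    rw [pointInfinity_eq, smul_mk_eq_iff] at hs'
    obtain ⟨k, hk, h0⟩ := hs'
    obtain ⟨a, b, μ, rfl⟩ := stab_inf hF hm hg hk h0
    exact ⟨(a, b, μ), rfl⟩

include hF in
theorem card_stab_inf (hm : 1 ≤ m) :
    Nat.card (MulAction.stabilizer (Cfsg.Sz F m) (Cfsg.suzukiPointInfinity F)) =
      (2 ^ (2 * m + 1)) ^ 2 * (2 ^ (2 * m + 1) - 1) := by
  classical
  rw [← Nat.card_congr (Equiv.ofBijective _ (stabMap_bijective hF hm)), Nat.card_prod, Nat.card_prod,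
    Nat.card_eq_fintype_card, Nat.card_eq_fintype_card, Fintype.card_units, hF]
  ring

include hF in
/-- the Suzuki group is transitive on the ovoid -/
theorem exists_map_inf (c : Option (F × F)) :
    ∃ g ∈ Cfsg.Sz F m, g • Cfsg.suzukiPointInfinity F =
      Projectivization.mk F (ov (sig (two_eq_zero hF) m) c) (ov_ne_zero _ c) := by
  have h2 := two_eq_zero hF
  rcases c with _ | ⟨a, b⟩
  · exact ⟨1, (Cfsg.Sz F m).one_mem, by rw [one_smul]; rfl⟩
  · refine ⟨T h2 m a b * Jg h2, (Cfsg.Sz F m).mul_mem (T_mem hF a b) (Jg_mem hF), ?_⟩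
    rw [pointInfinity_eq, smul_mk_eq_iff]
    refine ⟨1, one_ne_zero, ?_⟩
    rw [Matrix.SpecialLinearGroup.coe_mul, ← Matrix.mulVec_mulVec, one_smul]
    show (T h2 m a b : Matrix (Fin 4) (Fin 4) F) *ᵥ (Cfsg.suzukiForm F *ᵥ e0) = _
    rw [J_e0 (sig h2 m), T_mulVec_pv hF]
    simp [ov]

omit [Fintype F] in
theorem smul_mem_ovoid {g : Matrix.SpecialLinearGroup (Fin 4) F} (hg : g ∈ Cfsg.Sz F m)
    {P : Projectivization F (Fin 4 → F)} (hP : P ∈ Cfsg.suzukiOvoid F m) :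
    g • P ∈ Cfsg.suzukiOvoid F m := by
  have hg' : g • Cfsg.suzukiOvoid F m = Cfsg.suzukiOvoid F m := MulAction.mem_stabilizer_iff.mp hg
  rw [← hg']
  exact Set.smul_mem_smul_set hP

include hF in
theorem inf_mem_ovoid : Cfsg.suzukiPointInfinity F ∈ Cfsg.suzukiOvoid F m :=
  (mem_ovoid_iff (two_eq_zero hF) m _).mpr ⟨none, rfl⟩

include hF in
theorem orbit_inf :
    MulAction.orbit (Cfsg.Sz F m) (Cfsg.suzukiPointInfinity F) = Cfsg.suzukiOvoid F m := by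
  have h2 := two_eq_zero hF
  ext P
  constructor
  · rintro ⟨g, rfl⟩
    exact smul_mem_ovoid g.2 (inf_mem_ovoid hF)
  · intro hP
    obtain ⟨c, rfl⟩ := (mem_ovoid_iff h2 m P).mp hP
    obtain ⟨g, hg, hgc⟩ := exists_map_inf hF c
    exact ⟨⟨g, hg⟩, hgc⟩

include hF in
theorem card_Sz (hm : 1 ≤ m) :
    Nat.card (Cfsg.Sz F m) =
      (2 ^ (2 * m + 1)) ^ 2 * ((2 ^ (2 * m + 1)) ^ 2 + 1) * (2 ^ (2 * m + 1) - 1) := by
  have h1 := Subgroup.index_mul_card
    (MulAction.stabilizer (Cfsg.Sz F m) (Cfsg.suzukiPointInfinity F))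
  rw [MulAction.index_stabilizer, orbit_inf hF, ← Nat.card_coe_set_eq,
    Cfsg.Agent.S0326.result, card_stab_inf hF hm, hF] at h1
  rw [← h1]
  ring

end Cfsg.Agent.Lib.Helper15.SuzukiOrder
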