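import Cfsg.Agent.Lib.Helper15.LieOrdD
import Cfsg.Agent.Lib.Helper15.SuzukiLie
import Cfsg.Agent.S0324
import Cfsg.Agent.S1059
import Cfsg.Agent.S1062
import Cfsg.Agent.S1063
import Cfsg.Agent.S1064
import Cfsg.Agent.S1065
import Cfsg.Agent.S1066
import Cfsg.Agent.S1067

set_option autoImplicit false

namespace Cfsg.Agent.Lib.Helper15.LieOrd

open Finset

theorem not_dvd_gcd_sub {p f n : ℕ} (hp : p.Prime) (hf : 1 ≤ f) : ¬ p ∣ Nat.gcd n (p ^ f - 1) := by
  obtain ⟨hpq, hq2⟩ := pow_facts hp hf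
  refine not_dvd_of_dvd (Nat.gcd_dvd_right _ _) ?_
  have := not_dvd_pow_sub_one (e := 1) hp hpq (by omega) one_ne_zero
  rwa [pow_one] at this

theorem not_dvd_gcd_add {p f n : ℕ} (hp : p.Prime) (hf : 1 ≤ f) : ¬ p ∣ Nat.gcd n (p ^ f + 1) := by
  obtain ⟨hpq, hq2⟩ := pow_facts hp hf
  refine not_dvd_of_dvd (Nat.gcd_dvd_right _ _) ?_
  have := not_dvd_pow_add_one (e := 1) hp hpq one_ne_zero
  rwa [pow_one] at this

section chev
variable {F : Type*} [Field F] [Fintype F] {p : ℕ} [CharP F p]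

theorem g2_bound (hp : p.Prime) (c : ℕ) (hc : c = Nat.card (Cfsg.Lie.chevG2.group F)) :
    c < p ^ (3 * c.factorization p) ∧ c ^ 3 < p ^ (8 * c.factorization p) := by
  obtain ⟨f, hf1, hf⟩ := card_field F p
  have h := Cfsg.Agent.S1059.result (F := F) rfl
  rw [hf, ← hc] at h
  exact g2_arith hp hf1 (by rw [hc]; exact Nat.card_pos.ne') h

theorem f4_bound (hp : p.Prime) (c : ℕ) (hc : c = Nat.card (Cfsg.Lie.chevF4.group F)) :
    c < p ^ (3 * c.factorization p) ∧ c ^ 3 < p ^ (8 * c.factorization p) := by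
  obtain ⟨f, hf1, hf⟩ := card_field F p
  have h := Cfsg.Agent.S1062.result (F := F) rfl
  rw [hf, ← hc] at h
  exact f4_arith hp hf1 (by rw [hc]; exact Nat.card_pos.ne') h

theorem e6_bound (hp : p.Prime) (c : ℕ) (hc : c = Nat.card (Cfsg.Lie.chevE6.group F)) :
    c < p ^ (3 * c.factorization p) ∧ c ^ 3 < p ^ (8 * c.factorization p) := by
  obtain ⟨f, hf1, hf⟩ := card_field F p
  have h := Cfsg.Agent.S1063.result (F := F) rfl
  rw [hf, ← hc] at h
  exact e6_arith hp hf1 (by rw [hc]; exact Nat.card_pos.ne') (not_dvd_gcd_sub hp hf1) h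

theorem e7_bound (hp : p.Prime) (c : ℕ) (hc : c = Nat.card (Cfsg.Lie.chevE7.group F)) :
    c < p ^ (3 * c.factorization p) ∧ c ^ 3 < p ^ (8 * c.factorization p) := by
  obtain ⟨f, hf1, hf⟩ := card_field F p
  have h := Cfsg.Agent.S1064.result (F := F) rfl
  rw [hf, ← hc] at h
  exact e7_arith hp hf1 (by rw [hc]; exact Nat.card_pos.ne') (not_dvd_gcd_sub hp hf1) h

theorem e8_bound (hp : p.Prime) (c : ℕ) (hc : c = Nat.card (Cfsg.Lie.chevE8.group F)) :
    c < p ^ (3 * c.factorization p) ∧ c ^ 3 < p ^ (8 * c.factorization p) := by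
  obtain ⟨f, hf1, hf⟩ := card_field F p
  have h := Cfsg.Agent.S1065.result (F := F) rfl
  rw [hf, ← hc] at h
  exact e8_arith hp hf1 (by rw [hc]; exact Nat.card_pos.ne') h

theorem tw_e6_bound (hp : p.Prime) (q : ℕ) (hq : IsPrimePow q) (hF : Fintype.card F = q ^ 2)
    (c : ℕ) (hc : c = Nat.card (Cfsg.Lie.twistedE6 F q)) :
    c < p ^ (3 * c.factorization p) ∧ c ^ 3 < p ^ (8 * c.factorization p) := by
  obtain ⟨f', hf1', hf'⟩ := card_field F p
  obtain ⟨f, hf1, hf⟩ := root_of_pow hp (hF ▸ hf' : q ^ 2 = p ^ f') two_ne_zero hq.ne_one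
  have h := Cfsg.Agent.S1066.result (K := F) hq hF
  subst hf
  rw [← hc] at h
  exact tw_e6_arith hp hf1 (by rw [hc]; exact Nat.card_pos.ne') (not_dvd_gcd_add hp hf1) h

theorem tw_d4_bound (hp : p.Prime) (q : ℕ) (hq : IsPrimePow q) (hF : Fintype.card F = q ^ 3)
    (c : ℕ) (hc : c = Nat.card (Cfsg.Lie.twistedD4 F q)) :
    c < p ^ (3 * c.factorization p) ∧ c ^ 3 < p ^ (8 * c.factorization p) := by
  obtain ⟨f', hf1', hf'⟩ := card_field F p
  obtain ⟨f, hf1, hf⟩ := root_of_pow hp (hF ▸ hf' : q ^ 3 = p ^ f') three_ne_zero hq.ne_one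
  have h := Cfsg.Agent.S1067.result (K := F) hq hF
  subst hf
  rw [← hc] at h
  exact tw_d4_arith hp hf1 (by rw [hc]; exact Nat.card_pos.ne') h

end chev

theorem sz_bound {F : Type*} [Field F] [Fintype F] (m : ℕ) (hm : 1 ≤ m)
    (hF : Fintype.card F = 2 ^ (2 * m + 1)) (c : ℕ)
    (hc : c = Nat.card (Cfsg.Lie.Sz F (2 ^ (m + 1)))) :
    c < 2 ^ (3 * c.factorization 2) ∧ c ^ 3 < 2 ^ (8 * c.factorization 2) := by
  have h := Cfsg.Agent.S0324.result (F := F) hm hF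
  rw [Nat.card_congr (Cfsg.Agent.Lib.Helper15.SuzukiLie.equivLie hF hm).toEquiv, ← hc] at h
  exact sz_arith Nat.prime_two (by omega) (by rw [hc]; exact Nat.card_pos.ne') h

end Cfsg.Agent.Lib.Helper15.LieOrd
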