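import Mathlib
import Cfsg.Prelude.Def_Classical
import Cfsg.Prelude.Def_ClassicalGeometry
import Cfsg.Agent.Lib.Helper14.PSpSimple

/-!
# The point stabiliser of `PSp_{2m}(q)` has index `(q^(2m) - 1)/(q - 1)`

The existence half of the minimal index statement for the symplectic groups.
-/

set_option autoImplicit false

open scoped LinearAlgebra.Projectivization

namespace Cfsg.Agent.Lib.Helper15.MinIdx

open Matrix Cfsg.Agent.Lib.Helper5 Cfsg.Agent.Lib.Helper14.SpPerfect Cfsg.Agent.Lib.Helper14.PSpSimple

variable {F : Type*} [Field F] {m : ℕ}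

/-- central elements of the symplectic group fix every point of the projective space -/
theorem center_smul_point (z : Matrix.symplecticGroup (Fin m) F)
    (hz : z ∈ Subgroup.center (Matrix.symplecticGroup (Fin m) F))
    (p : ℙ F (Fin m ⊕ Fin m → F)) : z • p = p := by
  induction p using Projectivization.ind with
  | h v hv =>
  rw [smul_mk, Projectivization.mk_eq_mk_iff']
  set w := (z : Matrix (Fin m ⊕ Fin m) (Fin m ⊕ Fin m) F) *ᵥ v with hw
  have hw0 : w ≠ 0 := mulVec_ne_zero z hv
  have hconj : z * Tr v 1 * z⁻¹ = Tr v 1 := by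
    rw [Subgroup.mem_center_iff] at hz
    rw [← hz (Tr v 1), mul_assoc, mul_inv_cancel, mul_one]
  rw [conj_Tr] at hconj
  obtain ⟨x, hx⟩ := sympForm_nondeg w hw0
  have hx' : Cfsg.sympForm m F x w ≠ 0 := by
    rw [sympForm_swap]
    exact neg_ne_zero.mpr hx
  have h1 := congrArg (fun A : Matrix.symplecticGroup (Fin m) F =>
    (A : Matrix (Fin m ⊕ Fin m) (Fin m ⊕ Fin m) F) *ᵥ x) hconj
  simp only [Tr_mulVec, one_mul] at h1
  have h2 : Cfsg.sympForm m F x w • w = Cfsg.sympForm m F x v • v := add_left_cancel h1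
  refine ⟨(Cfsg.sympForm m F x w)⁻¹ * Cfsg.sympForm m F x v, ?_⟩
  rw [mul_smul, ← h2, smul_smul, inv_mul_cancel₀ hx', one_smul]

/-- the index of a point stabiliser in the symplectic group -/
theorem index_stabilizer_point [Fintype F] (p : ℙ F (Fin m ⊕ Fin m → F)) :
    (MulAction.stabilizer (Matrix.symplecticGroup (Fin m) F) p).index =
      (Fintype.card F ^ (2 * m) - 1) / (Fintype.card F - 1) := by
  classical
  have := (isPreprimitive_sp (F := F) (m := m)).toIsPretransitive
  rw [MulAction.index_stabilizer, MulAction.orbit_eq_univ, Set.ncard_univ,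
    Projectivization.card'', Nat.card_eq_fintype_card, Nat.card_eq_fintype_card,
    Fintype.card_fun, Fintype.card_sum, Fintype.card_fin, two_mul]

/-- the existence half of the minimal index statement for `PSp_{2m}(q)` -/
theorem psp_exists_index [Fintype F] {q : ℕ} (hF : Fintype.card F = q) (m : ℕ) (hm : 1 ≤ m) :
    ∃ H : Subgroup (Cfsg.PSp m F), H.index = (q ^ (2 * m) - 1) / (q - 1) := by
  classical
  set v0 : Fin m ⊕ Fin m → F := eL m F ⟨0, by omega⟩ with hv0
  have hv0ne : v0 ≠ 0 := by
    intro h
    have := congrFun h (Sum.inl ⟨0, by omega⟩)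
    simp [hv0, eL_apply_self] at this
  set p : ℙ F (Fin m ⊕ Fin m → F) := Projectivization.mk F v0 hv0ne
  set S := MulAction.stabilizer (Matrix.symplecticGroup (Fin m) F) p
  refine ⟨S.map (QuotientGroup.mk' (Subgroup.center (Matrix.symplecticGroup (Fin m) F))), ?_⟩
  rw [Subgroup.index_map_eq _ (QuotientGroup.mk'_surjective _), index_stabilizer_point, hF]
  rw [QuotientGroup.ker_mk']
  intro z hz
  exact MulAction.mem_stabilizer_iff.mpr (center_smul_point z hz p)

end Cfsg.Agent.Lib.Helper15.MinIdx
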