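import Mathlib

/-!
Leaf B3 of S3894 (helper18's market): a nilpotent subgroup of `GL₂(F)` containing an element `y`
without eigenvector, of determinant one and odd order, centralizes `y`.
Also exported: the lower-central-series fact `z y z⁻¹ = y⁻¹ ⟹ y ^ (2 ^ k) = 1` in a nilpotent subgroup.
-/

set_option autoImplicit false

namespace Cfsg.Agent.Lib.Helper15.NilCovB3

open Matrix
open scoped commutatorElement

variable {F : Type*} [Field F]

/-- `y` has no eigenvector over `F`. -/
def Irr2 (y : Matrix (Fin 2) (Fin 2) F) : Prop :=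
  ∀ v : Fin 2 → F, v ≠ 0 → ∀ c : F, y.mulVec v ≠ c • v

/-- Cayley–Hamilton for 2×2 matrices. -/
theorem sq_eq (Y : Matrix (Fin 2) (Fin 2) F) : Y * Y = Y.trace • Y - Y.det • (1 : Matrix (Fin 2) (Fin 2) F) := by
  ext i j
  fin_cases i <;> fin_cases j <;>
    simp [Matrix.mul_apply, Fin.sum_univ_two, Matrix.trace_fin_two, Matrix.det_fin_two] <;> ring

/-- A singular matrix commuting with an irreducible 2×2 matrix is zero. -/
theorem eq_zero_of_commute_of_det_eq_zero {Y M : Matrix (Fin 2) (Fin 2) F} (hY : Irr2 Y)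
    (hc : M * Y = Y * M) (hd : M.det = 0) : M = 0 := by
  obtain ⟨v, hv0, hv⟩ := Matrix.exists_mulVec_eq_zero_iff.mpr hd
  set w := Y.mulVec v with hw
  have hMw : M.mulVec w = 0 := by
    rw [hw, Matrix.mulVec_mulVec, hc, ← Matrix.mulVec_mulVec, hv, Matrix.mulVec_zero]
  by_cases hΔ : v 0 * w 1 - v 1 * w 0 = 0
  · -- w is a multiple of v: contradiction with irreducibility
    exfalso
    by_cases h0 : v 0 = 0
    · have h1 : v 1 ≠ 0 := by
        intro h1; apply hv0; ext i; fin_cases i <;> simp [h0, h1]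
      have hw0 : w 0 = 0 := by
        rw [h0, zero_mul, zero_sub, neg_eq_zero] at hΔ
        exact (mul_eq_zero.mp hΔ).resolve_left h1
      apply hY v hv0 (w 1 / v 1)
      rw [← hw]
      ext i; fin_cases i
      · simp [hw0, h0]
      · simp; field_simp
    · apply hY v hv0 (w 0 / v 0)
      rw [← hw]
      ext i; fin_cases i
      · simp; field_simp
      · show w 1 = (w 0 / v 0) * v 1
        rw [div_mul_eq_mul_div, eq_div_iff h0]
        linear_combination hΔ
  · -- v, w independent, both in the kernel: M = 0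
    have e0 := congrFun hv 0
    have e1 := congrFun hv 1
    have f0 := congrFun hMw 0
    have f1 := congrFun hMw 1
    simp only [Matrix.mulVec, dotProduct, Fin.sum_univ_two, Pi.zero_apply] at e0 e1 f0 f1
    have a00 : M 0 0 * (v 0 * w 1 - v 1 * w 0) = 0 := by linear_combination w 1 * e0 - v 1 * f0
    have a01 : M 0 1 * (v 0 * w 1 - v 1 * w 0) = 0 := by linear_combination v 0 * f0 - w 0 * e0
    have a10 : M 1 0 * (v 0 * w 1 - v 1 * w 0) = 0 := by linear_combination w 1 * e1 - v 1 * f1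
    have a11 : M 1 1 * (v 0 * w 1 - v 1 * w 0) = 0 := by linear_combination v 0 * f1 - w 0 * e1
    ext i j
    fin_cases i <;> fin_cases j
    · exact (mul_eq_zero.mp a00).resolve_right hΔ
    · exact (mul_eq_zero.mp a01).resolve_right hΔ
    · exact (mul_eq_zero.mp a10).resolve_right hΔ
    · exact (mul_eq_zero.mp a11).resolve_right hΔ

/-- A matrix commuting with an irreducible `Y` of determinant one, with the same trace and
determinant, is `Y` or `tr Y - Y` (the inverse of `Y`). -/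
theorem eq_or_eq_of_commute {Y Y' : Matrix (Fin 2) (Fin 2) F} (hY : Irr2 Y) (hdet : Y.det = 1)
    (hc : Y' * Y = Y * Y') (htr : Y'.trace = Y.trace) (hdet' : Y'.det = 1) :
    Y' = Y ∨ Y' = Y.trace • (1 : Matrix (Fin 2) (Fin 2) F) - Y := by
  have h1 := sq_eq Y
  have h2 := sq_eq Y'
  rw [hdet, one_smul] at h1
  rw [hdet', one_smul, htr] at h2
  set t := Y.trace with ht
  have hprod : (Y' - Y) * (Y' - (t • (1 : Matrix (Fin 2) (Fin 2) F) - Y)) = 0 := by
    have : (Y' - Y) * (Y' - (t • (1 : Matrix (Fin 2) (Fin 2) F) - Y))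
        = Y' * Y' - t • Y' + (Y' * Y - Y * Y') + (t • Y - Y * Y) := by
      simp only [Matrix.sub_mul, Matrix.mul_sub, Matrix.mul_smul, Matrix.mul_one, smul_sub]
      abel
    rw [this, h1, h2, hc]
    abel
  by_cases hM : Y' - Y = 0
  · left; exact sub_eq_zero.mp hM
  · right
    have hcM : (Y' - Y) * Y = Y * (Y' - Y) := by
      rw [Matrix.sub_mul, Matrix.mul_sub, hc]
    have hdM : (Y' - Y).det ≠ 0 := fun h => hM (eq_zero_of_commute_of_det_eq_zero hY hcM h)
    have hunit : IsUnit (Y' - Y).det := isUnit_iff_ne_zero.mpr hdM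
    have := congrArg (fun X => (Y' - Y)⁻¹ * X) hprod
    simp only [Matrix.mul_zero] at this
    rw [← Matrix.mul_assoc, Matrix.nonsing_inv_mul _ hunit, Matrix.one_mul] at this
    exact sub_eq_zero.mp this


/-- If `z` inverts `y` inside a subgroup `A`, then `y ^ (2 ^ k)` lies in the `k`-th term of the lower
central series of `A`. -/
theorem pow_two_pow_mem_lowerCentralSeries {G : Type*} [Group G] (A : Subgroup G) {z y : G}
    (hz : z ∈ A) (hy : y ∈ A) (h : z * y * z⁻¹ = y⁻¹) (k : ℕ) :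
    y ^ (2 ^ k) ∈ A.lowerCentralSeries k := by
  induction k with
  | zero => simpa using hy
  | succ k ih =>
    rw [Subgroup.lowerCentralSeries_succ]
    have hconj : z * y ^ (2 ^ k) * z⁻¹ = (y ^ (2 ^ k))⁻¹ := by
      rw [← conj_pow, h, inv_pow]
    have hcomm : ⁅y ^ (2 ^ k), z⁆ = y ^ (2 ^ (k + 1)) := by
      rw [commutatorElement_def]
      have : y ^ (2 ^ k) * z * (y ^ (2 ^ k))⁻¹ * z⁻¹ = y ^ (2 ^ k) * (z * y ^ (2 ^ k) * z⁻¹)⁻¹ := by
        group
      rw [this, hconj, inv_inv, pow_succ, pow_mul, pow_two]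
    rw [← hcomm]
    exact Subgroup.commutator_mem_commutator ih hz

/-- In a nilpotent subgroup an inverted element has 2-power order. -/
theorem exists_pow_two_pow_eq_one_of_inverted {G : Type*} [Group G] (A : Subgroup G)
    (hA : Group.IsNilpotent ↥A) {z y : G} (hz : z ∈ A) (hy : y ∈ A) (h : z * y * z⁻¹ = y⁻¹) :
    ∃ k : ℕ, y ^ (2 ^ k) = 1 := by
  obtain ⟨n, hn⟩ := (Subgroup.isNilpotent_iff_lowerCentralSeries A).mp hA
  have h1 := pow_two_pow_mem_lowerCentralSeries A hz hy h n
  rw [hn, Subgroup.mem_bot] at h1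
  exact ⟨n, h1⟩

/-- In a nilpotent subgroup an element of odd order is not inverted by another element, unless it
is trivial. -/
theorem eq_one_of_inverted {G : Type*} [Group G] (A : Subgroup G) (hA : Group.IsNilpotent ↥A)
    {z y : G} (hz : z ∈ A) (hy : y ∈ A) (h : z * y * z⁻¹ = y⁻¹) (hodd : Odd (orderOf y)) :
    y = 1 := by
  obtain ⟨n, hn⟩ := (Subgroup.isNilpotent_iff_lowerCentralSeries A).mp hA
  have h1 := pow_two_pow_mem_lowerCentralSeries A hz hy h n
  rw [hn, Subgroup.mem_bot] at h1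
  have hdvd : orderOf y ∣ 2 ^ n := orderOf_dvd_of_pow_eq_one h1
  have hcop : Nat.Coprime (orderOf y) (2 ^ n) :=
    Nat.Coprime.pow_right n (Nat.Coprime.symm (Nat.coprime_two_left.mpr hodd))
  have : orderOf y = 1 := hcop.eq_one_of_dvd hdvd
  exact orderOf_eq_one_iff.mp this


/-- For `y ∈ GL₂(F)` of determinant one, `y⁻¹ = tr y - y`. -/
theorem coe_inv_eq (y : GL (Fin 2) F) (hdet : (y : Matrix (Fin 2) (Fin 2) F).det = 1) :
    ((y⁻¹ : GL (Fin 2) F) : Matrix (Fin 2) (Fin 2) F) =
      (y : Matrix (Fin 2) (Fin 2) F).trace • (1 : Matrix (Fin 2) (Fin 2) F) - y := by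
  apply Units.inv_eq_of_mul_eq_one_right
  have h1 := sq_eq (y : Matrix (Fin 2) (Fin 2) F)
  rw [hdet, one_smul] at h1
  rw [Matrix.mul_sub, Matrix.mul_smul, Matrix.mul_one, h1]
  abel

/-- If a conjugate `z y z⁻¹` of an irreducible `y` (determinant one) commutes with `y`, then it is
`y` or `y⁻¹`. -/
theorem eq_or_eq_inv_of_conj_commute (y z : GL (Fin 2) F)
    (hdet : (y : Matrix (Fin 2) (Fin 2) F).det = 1)
    (hirr : Irr2 (y : Matrix (Fin 2) (Fin 2) F))
    (hc : Commute (z * y * z⁻¹) y) : z * y * z⁻¹ = y ∨ z * y * z⁻¹ = y⁻¹ := by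
  have hcm : ((z * y * z⁻¹ : GL (Fin 2) F) : Matrix (Fin 2) (Fin 2) F) * (y : Matrix (Fin 2) (Fin 2) F)
      = (y : Matrix (Fin 2) (Fin 2) F) * ((z * y * z⁻¹ : GL (Fin 2) F) : Matrix (Fin 2) (Fin 2) F) := by
    have := congrArg Units.val hc.eq
    simpa only [Units.val_mul] using this
  have hval : ((z * y * z⁻¹ : GL (Fin 2) F) : Matrix (Fin 2) (Fin 2) F)
      = (z : Matrix (Fin 2) (Fin 2) F) * (y : Matrix (Fin 2) (Fin 2) F) *
        ((z⁻¹ : GL (Fin 2) F) : Matrix (Fin 2) (Fin 2) F) := by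
    simp only [Units.val_mul]
  have htr : ((z * y * z⁻¹ : GL (Fin 2) F) : Matrix (Fin 2) (Fin 2) F).trace
      = (y : Matrix (Fin 2) (Fin 2) F).trace := by
    rw [hval, Matrix.trace_mul_comm, ← Matrix.mul_assoc, Units.inv_mul, Matrix.one_mul]
  have hdet' : ((z * y * z⁻¹ : GL (Fin 2) F) : Matrix (Fin 2) (Fin 2) F).det = 1 := by
    rw [hval, Matrix.det_mul, Matrix.det_mul, hdet, mul_one, ← Matrix.det_mul, Units.mul_inv,
      Matrix.det_one]
  rcases eq_or_eq_of_commute hirr hdet hcm htr hdet' with h | h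
  · left; exact Units.ext h
  · right; apply Units.ext; rw [h, coe_inv_eq y hdet]

/-- **Leaf B3 of S3894.** A nilpotent subgroup of `GL₂(F)` containing an irreducible element `y`
of odd order and determinant one centralizes `y`. -/
theorem le_centralizer_of_nilpotent (A : Subgroup (GL (Fin 2) F)) (hA : Group.IsNilpotent ↥A)
    (y : GL (Fin 2) F) (hyA : y ∈ A) (hdet : (y : Matrix (Fin 2) (Fin 2) F).det = 1)
    (hodd : Odd (orderOf y))
    (hirr : ∀ v : Fin 2 → F, v ≠ 0 → ∀ c : F,
      (y : Matrix (Fin 2) (Fin 2) F).mulVec v ≠ c • v) :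
    A ≤ Subgroup.centralizer {y} := by
  have hy1 : y ≠ 1 := by
    intro h
    apply hirr ![1, 0] (by intro h0; have := congrFun h0 0; simp at this) 1
    rw [h]; simp
  have key : ∀ z : GL (Fin 2) F, z ∈ A → Commute (z * y * z⁻¹) y → z * y = y * z := by
    intro z hz hc
    rcases eq_or_eq_inv_of_conj_commute y z hdet hirr hc with h | h
    · calc z * y = z * y * z⁻¹ * z := by group
        _ = y * z := by rw [h]
    · exact absurd (eq_one_of_inverted A hA hz hyA h hodd) hy1
  obtain ⟨n, hn⟩ := hA.nilpotent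
  have ind : ∀ i, ∀ z : ↥A, z ∈ Subgroup.upperCentralSeries ↥A i → (z : GL (Fin 2) F) * y = y * z := by
    intro i
    induction i with
    | zero =>
      intro z hz
      rw [Subgroup.upperCentralSeries_zero, Subgroup.mem_bot] at hz
      subst hz; simp
    | succ i ih =>
      intro z hz
      rw [Subgroup.mem_upperCentralSeries_succ_iff] at hz
      have hc := ih _ (hz ⟨y, hyA⟩)
      apply key z z.2
      have hcy : (z : GL (Fin 2) F) * y * (z : GL (Fin 2) F)⁻¹
          = ((⁅z, (⟨y, hyA⟩ : ↥A)⁆ : ↥A) : GL (Fin 2) F) * y := by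
        simp [commutatorElement_def]
      rw [hcy]
      show _ * y * y = y * (_ * y)
      rw [hc, mul_assoc, hc]
  intro z hz
  rw [Subgroup.mem_centralizer_iff]
  intro h hh
  rw [Set.mem_singleton_iff] at hh
  subst hh
  exact (ind n ⟨z, hz⟩ (by rw [hn]; exact Subgroup.mem_top _)).symm

end Cfsg.Agent.Lib.Helper15.NilCovB3
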