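import Mathlib

/-!
helper15: diameter-two criterion for simple graphs, and the odd-product graph on a class of
involutions (generic group part).
-/

set_option autoImplicit false

namespace Cfsg.Agent.Lib.Helper15.OddGraph

/-- A graph in which any two distinct non-adjacent vertices have a common neighbour, and which has
two distinct non-adjacent vertices, is connected of diameter exactly two. -/
theorem connected_and_diam_eq_two {V : Type*} (G : SimpleGraph V) [Nonempty V]
    (h1 : ∀ u v : V, u ≠ v → ¬ G.Adj u v → ∃ w, G.Adj u w ∧ G.Adj w v)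
    (h2 : ∃ u v : V, u ≠ v ∧ ¬ G.Adj u v) : G.Connected ∧ G.diam = 2 := by
  have hle : ∀ u v : V, G.edist u v ≤ 2 := by
    intro u v
    by_cases huv : u = v
    · subst huv
      rw [SimpleGraph.edist_self]
      exact zero_le
    · by_cases hadj : G.Adj u v
      · rw [SimpleGraph.edist_eq_one_iff_adj.mpr hadj]
        norm_num
      · obtain ⟨w, hw1, hw2⟩ := h1 u v huv hadj
        have hwalk : G.edist u v ≤ ((SimpleGraph.Walk.cons hw1 (SimpleGraph.Walk.cons hw2
            SimpleGraph.Walk.nil) : G.Walk u v).length : ℕ∞) := SimpleGraph.Walk.edist_le _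
        simpa using hwalk
  have hediam_le : G.ediam ≤ 2 := SimpleGraph.ediam_le_of_edist_le hle
  have hne_top : G.ediam ≠ ⊤ := by
    intro h
    rw [h] at hediam_le
    exact absurd hediam_le (by simp)
  refine ⟨SimpleGraph.connected_of_ediam_ne_top hne_top, ?_⟩
  obtain ⟨u, v, huv, hadj⟩ := h2
  have hge : (2 : ℕ∞) ≤ G.edist u v := by
    by_contra hlt
    rw [not_le] at hlt
    have h1' : G.edist u v ≤ 1 := by
      have : G.edist u v < 1 + 1 := by
        have e : (2 : ℕ∞) = 1 + 1 := by norm_num
        rwa [e] at hlt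
      exact Order.le_of_lt_add_one this
    rcases lt_or_eq_of_le h1' with h | h
    · have h0 : G.edist u v = 0 := by
        have : G.edist u v < 0 + 1 := by simpa using h
        exact le_antisymm (Order.le_of_lt_add_one this) zero_le
      exact huv (SimpleGraph.edist_eq_zero_iff.mp h0)
    · exact hadj (SimpleGraph.edist_eq_one_iff_adj.mp h)
  have hediam : G.ediam = 2 := le_antisymm hediam_le (le_trans hge SimpleGraph.edist_le_ediam)
  rw [SimpleGraph.diam, hediam]
  rfl

theorem orderOf_eq_of_isConj {G : Type*} [Group G] {a b : G} (h : IsConj a b) :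
    orderOf a = orderOf b := by
  obtain ⟨c, hc⟩ := isConj_iff.mp h
  rw [← hc]
  exact ((MulAut.conj c).orderOf_eq a).symm

theorem orderOf_mul_swap {G : Type*} [Group G] (a b : G) : orderOf (a * b) = orderOf (b * a) := by
  apply orderOf_eq_of_isConj
  rw [isConj_iff]
  exact ⟨b, by group⟩

/-- The odd-product graph on a conjugacy class of involutions: reduction to statements about
elements of order two. -/
theorem oddGraph_connected_and_diam {G : Type*} [Group G] (t : G) (ht : orderOf t = 2)
    (hconj : ∀ x : G, orderOf x = 2 → IsConj t x)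
    (hnb : ∀ x y : G, orderOf x = 2 → orderOf y = 2 → ¬ Odd (orderOf (x * y)) →
      ∃ z : G, orderOf z = 2 ∧ Odd (orderOf (x * z)) ∧ Odd (orderOf (z * y)))
    (hna : ∃ x y : G, orderOf x = 2 ∧ orderOf y = 2 ∧ ¬ Odd (orderOf (x * y))) :
    (SimpleGraph.fromRel fun x y : {x : G // IsConj t x} => Odd (orderOf (x.1 * y.1))).Connected ∧
      (SimpleGraph.fromRel fun x y : {x : G // IsConj t x} => Odd (orderOf (x.1 * y.1))).diam = 2 := by
  have : Nonempty {x : G // IsConj t x} := ⟨⟨t, IsConj.refl t⟩⟩
  have hord : ∀ v : {x : G // IsConj t x}, orderOf v.1 = 2 := by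
    intro v
    rw [← orderOf_eq_of_isConj v.2, ht]
  apply connected_and_diam_eq_two
  · intro u v huv hadj
    rw [SimpleGraph.fromRel_adj] at hadj
    have hno : ¬ Odd (orderOf (u.1 * v.1)) := by
      intro h
      exact hadj ⟨huv, Or.inl h⟩
    obtain ⟨z, hz, hz1, hz2⟩ := hnb u.1 v.1 (hord u) (hord v) hno
    refine ⟨⟨z, hconj z hz⟩, ?_, ?_⟩
    · rw [SimpleGraph.fromRel_adj]
      refine ⟨?_, Or.inl hz1⟩
      intro h
      apply hno
      have : u.1 = z := congrArg Subtype.val h
      rw [this]
      exact hz2
    · rw [SimpleGraph.fromRel_adj]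
      refine ⟨?_, Or.inl hz2⟩
      intro h
      apply hno
      have : z = v.1 := congrArg Subtype.val h
      rw [← this]
      exact hz1
  · obtain ⟨x, y, hx, hy, hxy⟩ := hna
    refine ⟨⟨x, hconj x hx⟩, ⟨y, hconj y hy⟩, ?_, ?_⟩
    · intro h
      apply hxy
      have : x = y := congrArg Subtype.val h
      rw [this]
      have h1 : y * y = 1 := by
        have := pow_orderOf_eq_one y
        rwa [hy, pow_two] at this
      rw [h1, orderOf_one]
      exact odd_one
    · rw [SimpleGraph.fromRel_adj]
      rintro ⟨_, h | h⟩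
      · exact hxy h
      · apply hxy
        rw [orderOf_mul_swap]
        exact h

end Cfsg.Agent.Lib.Helper15.OddGraph
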