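import Mathlib
import Cfsg.Agent.Lib.Helper13.PSL2Spectrum
import Cfsg.Agent.Lib.Helper13.SL2OrderFour

/-!
helper15: orders of elements of `PSL₂(F)` from the trace (odd characteristic), used for the
odd-product graph on involutions.
-/

set_option autoImplicit false

namespace Cfsg.Agent.Lib.Helper15.OddGraph

open Matrix Cfsg.Agent.Lib.Helper13

variable {F : Type*} [Field F] [Fintype F]

/-- Trace `±2`: the image in `PSL₂` has order dividing the characteristic. -/
theorem orderOf_dvd_char_of_trace_sq (p : ℕ) [Fact p.Prime] [CharP F p]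
    (M : SpecialLinearGroup (Fin 2) F)
    (h : ((M : Matrix (Fin 2) (Fin 2) F) 0 0 + (M : Matrix (Fin 2) (Fin 2) F) 1 1) ^ 2 = 4) :
    orderOf (QuotientGroup.mk M : ProjectiveSpecialLinearGroup (Fin 2) F) ∣ p := by
  obtain ⟨e, he, hte⟩ := (trace_sq_eq_four_iff _).mp h
  have hpow := pow_char_of_trace p (M : Matrix (Fin 2) (Fin 2) F) M.2 e he hte
  apply orderOf_dvd_of_pow_eq_one
  rw [mk_pow_eq_one_iff]
  exact ⟨e ^ p, hpow⟩

/-- Split semisimple elements: the image in `PSL₂` has order dividing `(q - 1) / 2`. -/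
theorem orderOf_dvd_of_split (h2 : (2 : F) ≠ 0) (M : SpecialLinearGroup (Fin 2) F) (σ : F)
    (hσ : σ ≠ 0)
    (h : ((M : Matrix (Fin 2) (Fin 2) F) 0 0 + (M : Matrix (Fin 2) (Fin 2) F) 1 1) ^ 2 - 4 = σ ^ 2) :
    orderOf (QuotientGroup.mk M : ProjectiveSpecialLinearGroup (Fin 2) F) ∣
      (Fintype.card F - 1) / 2 := by
  set m : Matrix (Fin 2) (Fin 2) F := (M : Matrix (Fin 2) (Fin 2) F) with hm
  set τ : F := m 0 0 + m 1 1 with hτ
  set lam : F := (τ + σ) / 2 with hlam
  set mu : F := (τ - σ) / 2 with hmu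
  have hprod : lam * mu = 1 := by
    rw [hlam, hmu]
    field_simp
    linear_combination h
  have hsum : lam + mu = τ := by
    rw [hlam, hmu]
    field_simp
    ring
  have hne : lam ≠ mu := by
    intro he
    apply hσ
    have : lam - mu = σ := by
      rw [hlam, hmu]
      field_simp
      ring
    rw [← this, he, sub_self]
  have hlam0 : lam ≠ 0 := by
    intro h0
    rw [h0, zero_mul] at hprod
    exact zero_ne_one hprod
  have hodd : Fintype.card F % 2 = 1 := by
    apply FiniteField.odd_card_of_char_ne_two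
    intro hc
    apply h2
    have : ((2 : ℕ) : F) = 0 := by
      rw [← hc]
      exact ringChar.Nat.cast_ringChar
    exact_mod_cast this
  set k := (Fintype.card F - 1) / 2 with hk
  have hq : Fintype.card F - 1 = 2 * k := by omega
  have hlamq : lam ^ (Fintype.card F - 1) = 1 := FiniteField.pow_card_sub_one_eq_one lam hlam0
  have hsq : lam ^ k * lam ^ k = 1 := by
    rw [← pow_add, ← two_mul, ← hq]
    exact hlamq
  have hmuk : mu ^ k * lam ^ k = 1 := by
    rw [← mul_pow, mul_comm, hprod, one_pow]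
  have hch := cayley_hamilton_two m M.2
  have hM : (m - lam • 1) * (m - mu • 1) = 0 := by
    simp only [sub_mul, mul_sub, smul_mul_assoc, mul_smul_comm, one_mul, mul_one, smul_sub,
      smul_smul]
    rw [hch, ← hτ, ← hsum, mul_comm mu lam, hprod]
    module
  apply orderOf_dvd_of_pow_eq_one
  rw [mk_pow_eq_one_iff]
  rcases mul_self_eq_one_iff.mp hsq with h1 | h1
  · refine ⟨1, pow_eq_smul_one_of_roots m lam mu hne hM k 1 h1 ?_⟩
    rw [h1, mul_one] at hmuk
    exact hmuk
  · refine ⟨-1, pow_eq_smul_one_of_roots m lam mu hne hM k (-1) h1 ?_⟩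
    rw [h1] at hmuk
    linear_combination -hmuk

end Cfsg.Agent.Lib.Helper15.OddGraph
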