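import Mathlib
import Cfsg.Agent.Lib.Helper15.OddGraphB

/-!
helper15: construction of a trace-zero `Z ∈ SL₂(F)` with prescribed traces `tr (X Z)`, `tr (Z Y)`
for trace-zero `X, Y ∈ SL₂(F)`.
-/

set_option autoImplicit false

namespace Cfsg.Agent.Lib.Helper15.OddGraph

open Matrix Cfsg.Agent.Lib.Helper13

variable {F : Type*} [Field F]

/-- entrywise trace of a product of two `2 × 2` matrices -/
theorem trace_mul_entries (A B : Matrix (Fin 2) (Fin 2) F) :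
    (A * B) 0 0 + (A * B) 1 1 = A 0 0 * B 0 0 + A 0 1 * B 1 0 + (A 1 0 * B 0 1 + A 1 1 * B 1 1) := by
  simp [Matrix.mul_apply, Fin.sum_univ_two]

/-- The basic construction: `Z = α X + β Y + λ (XY - YX)` on the quadric
`α² + β² - τ₀ α β + λ² (4 - τ₀²) = 1`. -/
theorem exists_Z (X Y : SpecialLinearGroup (Fin 2) F)
    (hX : (X : Matrix (Fin 2) (Fin 2) F) 0 0 + (X : Matrix (Fin 2) (Fin 2) F) 1 1 = 0)
    (hY : (Y : Matrix (Fin 2) (Fin 2) F) 0 0 + (Y : Matrix (Fin 2) (Fin 2) F) 1 1 = 0)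
    (τ₀ : F)
    (hτ₀ : τ₀ = ((X * Y : SpecialLinearGroup (Fin 2) F) : Matrix (Fin 2) (Fin 2) F) 0 0 +
      ((X * Y : SpecialLinearGroup (Fin 2) F) : Matrix (Fin 2) (Fin 2) F) 1 1)
    (α β l : F) (hE : α ^ 2 + β ^ 2 - τ₀ * α * β + l ^ 2 * (4 - τ₀ ^ 2) = 1) :
    ∃ Z : SpecialLinearGroup (Fin 2) F,
      (Z : Matrix (Fin 2) (Fin 2) F) 0 0 + (Z : Matrix (Fin 2) (Fin 2) F) 1 1 = 0 ∧
      ((X * Z : SpecialLinearGroup (Fin 2) F) : Matrix (Fin 2) (Fin 2) F) 0 0 +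
        ((X * Z : SpecialLinearGroup (Fin 2) F) : Matrix (Fin 2) (Fin 2) F) 1 1 = -2 * α + β * τ₀ ∧
      ((Z * Y : SpecialLinearGroup (Fin 2) F) : Matrix (Fin 2) (Fin 2) F) 0 0 +
        ((Z * Y : SpecialLinearGroup (Fin 2) F) : Matrix (Fin 2) (Fin 2) F) 1 1 = τ₀ * α - 2 * β := by
  set a := (X : Matrix (Fin 2) (Fin 2) F) 0 0 with ha
  set b := (X : Matrix (Fin 2) (Fin 2) F) 0 1 with hb
  set c := (X : Matrix (Fin 2) (Fin 2) F) 1 0 with hc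
  set d := (Y : Matrix (Fin 2) (Fin 2) F) 0 0 with hd
  set e := (Y : Matrix (Fin 2) (Fin 2) F) 0 1 with he
  set f := (Y : Matrix (Fin 2) (Fin 2) F) 1 0 with hf
  have hX11 : (X : Matrix (Fin 2) (Fin 2) F) 1 1 = -a := by linear_combination hX
  have hY11 : (Y : Matrix (Fin 2) (Fin 2) F) 1 1 = -d := by linear_combination hY
  have hXd : a ^ 2 + b * c = -1 := by
    have := X.2
    rw [Matrix.det_fin_two, hX11, ← ha, ← hb, ← hc] at this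
    linear_combination -this
  have hYd : d ^ 2 + e * f = -1 := by
    have := Y.2
    rw [Matrix.det_fin_two, hY11, ← hd, ← he, ← hf] at this
    linear_combination -this
  have hτ : τ₀ = 2 * a * d + b * f + c * e := by
    have hXY : ((X * Y : SpecialLinearGroup (Fin 2) F) : Matrix (Fin 2) (Fin 2) F) =
        (X : Matrix (Fin 2) (Fin 2) F) * (Y : Matrix (Fin 2) (Fin 2) F) := rfl
    rw [hτ₀, hXY, trace_mul_entries, hX11, hY11, ← ha, ← hb, ← hc, ← hd, ← he, ← hf]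
    ring
  set z0 : F := α * a + β * d + l * (b * f - c * e) with hz0
  set z1 : F := α * b + β * e + 2 * l * (a * e - b * d) with hz1
  set z2 : F := α * c + β * f + 2 * l * (c * d - a * f) with hz2
  have hdet : z0 ^ 2 + z1 * z2 = -1 := by
    rw [hτ] at hE
    rw [hz0, hz1, hz2]
    linear_combination (α ^ 2 - 4 * d ^ 2 * l ^ 2 - 4 * e * f * l ^ 2) * hXd +
      (β ^ 2 + 4 * l ^ 2) * hYd - hE
  have hZdet : (!![z0, z1; z2, -z0] : Matrix (Fin 2) (Fin 2) F).det = 1 := by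
    rw [Matrix.det_fin_two_of]
    linear_combination -hdet
  set Z : SpecialLinearGroup (Fin 2) F := ⟨!![z0, z1; z2, -z0], hZdet⟩ with hZ
  have hZc : (Z : Matrix (Fin 2) (Fin 2) F) = !![z0, z1; z2, -z0] := rfl
  have hXZ : ((X * Z : SpecialLinearGroup (Fin 2) F) : Matrix (Fin 2) (Fin 2) F) =
      (X : Matrix (Fin 2) (Fin 2) F) * (Z : Matrix (Fin 2) (Fin 2) F) := rfl
  have hZY : ((Z * Y : SpecialLinearGroup (Fin 2) F) : Matrix (Fin 2) (Fin 2) F) =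
      (Z : Matrix (Fin 2) (Fin 2) F) * (Y : Matrix (Fin 2) (Fin 2) F) := rfl
  refine ⟨Z, ?_, ?_, ?_⟩
  · rw [hZc]
    simp
  · rw [hXZ, trace_mul_entries, hX11, ← ha, ← hb, ← hc, hZc]
    simp only [Matrix.of_apply, Matrix.cons_val_zero, Matrix.cons_val_one, Matrix.cons_val',
      Matrix.cons_val_fin_one]
    rw [hτ, hz0, hz1, hz2]
    linear_combination (2 * α) * hXd
  · rw [hZY, trace_mul_entries, hY11, ← hd, ← he, ← hf, hZc]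
    simp only [Matrix.of_apply, Matrix.cons_val_zero, Matrix.cons_val_one, Matrix.cons_val',
      Matrix.cons_val_fin_one]
    rw [hτ, hz0, hz1, hz2]
    linear_combination (2 * β) * hYd

/-- Case `-1 = i²`: both products can be made of trace `2`. -/
theorem exists_Z_caseA (X Y : SpecialLinearGroup (Fin 2) F)
    (hX : (X : Matrix (Fin 2) (Fin 2) F) 0 0 + (X : Matrix (Fin 2) (Fin 2) F) 1 1 = 0)
    (hY : (Y : Matrix (Fin 2) (Fin 2) F) 0 0 + (Y : Matrix (Fin 2) (Fin 2) F) 1 1 = 0)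
    (τ₀ : F)
    (hτ₀ : τ₀ = ((X * Y : SpecialLinearGroup (Fin 2) F) : Matrix (Fin 2) (Fin 2) F) 0 0 +
      ((X * Y : SpecialLinearGroup (Fin 2) F) : Matrix (Fin 2) (Fin 2) F) 1 1)
    (i : F) (hi : i * i = -1) (hne : τ₀ ≠ 2) :
    ∃ Z : SpecialLinearGroup (Fin 2) F,
      (Z : Matrix (Fin 2) (Fin 2) F) 0 0 + (Z : Matrix (Fin 2) (Fin 2) F) 1 1 = 0 ∧
      ((X * Z : SpecialLinearGroup (Fin 2) F) : Matrix (Fin 2) (Fin 2) F) 0 0 +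
        ((X * Z : SpecialLinearGroup (Fin 2) F) : Matrix (Fin 2) (Fin 2) F) 1 1 = 2 ∧
      ((Z * Y : SpecialLinearGroup (Fin 2) F) : Matrix (Fin 2) (Fin 2) F) 0 0 +
        ((Z * Y : SpecialLinearGroup (Fin 2) F) : Matrix (Fin 2) (Fin 2) F) 1 1 = 2 := by
  have hD : (2 - τ₀) ≠ 0 := fun h => hne (by linear_combination -h)
  have hE : (-2 / (2 - τ₀)) ^ 2 + (-2 / (2 - τ₀)) ^ 2 - τ₀ * (-2 / (2 - τ₀)) * (-2 / (2 - τ₀)) +
      (i / (2 - τ₀)) ^ 2 * (4 - τ₀ ^ 2) = 1 := by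
    field_simp
    linear_combination (4 - τ₀ ^ 2) * hi
  obtain ⟨Z, h0, h1, h2⟩ := exists_Z X Y hX hY τ₀ hτ₀ _ _ _ hE
  refine ⟨Z, h0, ?_, ?_⟩
  · rw [h1]
    field_simp
    ring
  · rw [h2]
    field_simp
    ring

/-- General case: prescribed traces `τ₁`, `τ₂` as soon as
`4 - τ₀² - τ₁² - τ₂² - τ₀ τ₁ τ₂` is a square. -/
theorem exists_Z_caseB (X Y : SpecialLinearGroup (Fin 2) F)
    (hX : (X : Matrix (Fin 2) (Fin 2) F) 0 0 + (X : Matrix (Fin 2) (Fin 2) F) 1 1 = 0)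
    (hY : (Y : Matrix (Fin 2) (Fin 2) F) 0 0 + (Y : Matrix (Fin 2) (Fin 2) F) 1 1 = 0)
    (τ₀ : F)
    (hτ₀ : τ₀ = ((X * Y : SpecialLinearGroup (Fin 2) F) : Matrix (Fin 2) (Fin 2) F) 0 0 +
      ((X * Y : SpecialLinearGroup (Fin 2) F) : Matrix (Fin 2) (Fin 2) F) 1 1)
    (τ₁ τ₂ n : F) (hD : 4 - τ₀ ^ 2 ≠ 0)
    (hn : n ^ 2 = 4 - τ₀ ^ 2 - τ₁ ^ 2 - τ₂ ^ 2 - τ₀ * τ₁ * τ₂) :
    ∃ Z : SpecialLinearGroup (Fin 2) F,
      (Z : Matrix (Fin 2) (Fin 2) F) 0 0 + (Z : Matrix (Fin 2) (Fin 2) F) 1 1 = 0 ∧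
      ((X * Z : SpecialLinearGroup (Fin 2) F) : Matrix (Fin 2) (Fin 2) F) 0 0 +
        ((X * Z : SpecialLinearGroup (Fin 2) F) : Matrix (Fin 2) (Fin 2) F) 1 1 = τ₁ ∧
      ((Z * Y : SpecialLinearGroup (Fin 2) F) : Matrix (Fin 2) (Fin 2) F) 0 0 +
        ((Z * Y : SpecialLinearGroup (Fin 2) F) : Matrix (Fin 2) (Fin 2) F) 1 1 = τ₂ := by
  have hE : ((-2 * τ₁ - τ₀ * τ₂) / (4 - τ₀ ^ 2)) ^ 2 + ((-2 * τ₂ - τ₀ * τ₁) / (4 - τ₀ ^ 2)) ^ 2 -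
      τ₀ * ((-2 * τ₁ - τ₀ * τ₂) / (4 - τ₀ ^ 2)) * ((-2 * τ₂ - τ₀ * τ₁) / (4 - τ₀ ^ 2)) +
      (n / (4 - τ₀ ^ 2)) ^ 2 * (4 - τ₀ ^ 2) = 1 := by
    field_simp
    linear_combination (4 - τ₀ ^ 2) * hn
  obtain ⟨Z, h0, h1, h2⟩ := exists_Z X Y hX hY τ₀ hτ₀ _ _ _ hE
  refine ⟨Z, h0, ?_, ?_⟩
  · rw [h1]
    field_simp
    ring
  · rw [h2]
    field_simp
    ring

end Cfsg.Agent.Lib.Helper15.OddGraph
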