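import Mathlib

/-!
helper15: a pigeonhole on conics over a finite field in which `-1` is not a square: every circle
`m² + n² = -e²` (`e ≠ 0`) has a point with `(m - c)² - 4` a square.
-/

set_option autoImplicit false

namespace Cfsg.Agent.Lib.Helper15.OddGraph

variable {F : Type*} [Field F] [Fintype F] [DecidableEq F]

/-- points of the circle `x² + y² = k` -/
def circ (k : F) : Finset (F × F) := Finset.univ.filter (fun p => p.1 ^ 2 + p.2 ^ 2 = k)

theorem mem_circ (k : F) (p : F × F) : p ∈ circ k ↔ p.1 ^ 2 + p.2 ^ 2 = k := by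
  simp [circ]

/-- multiplication by `u + v i` maps the circle of radius `k` injectively into that of radius
`k (u² + v²)` -/
theorem card_circ_le (k w u v : F) (huv : u ^ 2 + v ^ 2 = w) (hw : w ≠ 0) :
    (circ k).card ≤ (circ (k * w)).card := by
  apply Finset.card_le_card_of_injOn (fun p => (u * p.1 - v * p.2, v * p.1 + u * p.2))
  · intro p hp
    have hp' := (mem_circ k p).mp (Finset.mem_coe.mp hp)
    apply Finset.mem_coe.mpr
    rw [mem_circ]
    simp only
    rw [← hp', ← huv]
    ring
  · intro p _ q _ h
    simp only [Prod.mk.injEq] at h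
    obtain ⟨h1, h2⟩ := h
    have e1 : w * (p.1 - q.1) = 0 := by rw [← huv]; linear_combination u * h1 + v * h2
    have e2 : w * (p.2 - q.2) = 0 := by rw [← huv]; linear_combination u * h2 - v * h1
    have e1' := (mul_eq_zero.mp e1).resolve_left hw
    have e2' := (mul_eq_zero.mp e2).resolve_left hw
    exact Prod.ext (sub_eq_zero.mp e1') (sub_eq_zero.mp e2')

omit [DecidableEq F] in
/-- every element of a finite field of odd order is a sum of two squares -/
theorem exists_sq_add_sq (hodd : Fintype.card F % 2 = 1) (w : F) : ∃ u v : F, u ^ 2 + v ^ 2 = w := by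
  have hf : (Polynomial.X ^ 2 : Polynomial F).degree = 2 := Polynomial.degree_X_pow 2
  have hg : (Polynomial.X ^ 2 - Polynomial.C w : Polynomial F).degree = 2 :=
    Polynomial.degree_X_pow_sub_C (by norm_num) w
  obtain ⟨a, b, hab⟩ := FiniteField.exists_root_sum_quadratic hf hg hodd
  refine ⟨a, b, ?_⟩
  simp only [Polynomial.eval_pow, Polynomial.eval_X, Polynomial.eval_sub, Polynomial.eval_C] at hab
  linear_combination hab

omit [DecidableEq F] in
/-- the product of two non-squares is a square -/
theorem isSquare_mul_of_not {a b : F} (ha : ¬ IsSquare a) (hb : ¬ IsSquare b) : IsSquare (a * b) := by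
  classical
  have ha0 : a ≠ 0 := by
    rintro rfl
    exact ha (IsSquare.zero)
  have hb0 : b ≠ 0 := by
    rintro rfl
    exact hb (IsSquare.zero)
  rw [← quadraticChar_one_iff_isSquare (mul_ne_zero ha0 hb0), map_mul,
    quadraticChar_neg_one_iff_not_isSquare.mpr ha, quadraticChar_neg_one_iff_not_isSquare.mpr hb]
  norm_num

/-- **The pigeonhole.** -/
theorem exists_circle_point (h2 : (2 : F) ≠ 0) (hm1 : ¬ IsSquare (-1 : F)) (e c : F) (he : e ≠ 0) :
    ∃ m n ρ : F, m ^ 2 + n ^ 2 = -e ^ 2 ∧ (m - c) ^ 2 - 4 = ρ ^ 2 := by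
  classical
  by_contra hno
  push Not at hno
  have h4 : (4 : F) ≠ 0 := by
    have : (4 : F) = 2 * 2 := by norm_num
    rw [this]
    exact mul_ne_zero h2 h2
  have hodd : Fintype.card F % 2 = 1 := by
    apply FiniteField.odd_card_of_char_ne_two
    intro hc
    apply h2
    have : ((2 : ℕ) : F) = 0 := by
      rw [← hc]
      exact ringChar.Nat.cast_ringChar
    exact_mod_cast this
  set S := circ (-e ^ 2) with hS
  set S' := circ (4 : F) with hS'
  set B : Finset F := Finset.univ.filter (fun τ => ¬ IsSquare (τ ^ 2 - 4)) with hB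
  -- Step 1
  have step1 : S'.card ≤ S.card := by
    obtain ⟨u, v, huv⟩ := exists_sq_add_sq hodd (-e ^ 2 / 4)
    have hw : (-e ^ 2 / 4 : F) ≠ 0 := by
      apply div_ne_zero _ h4
      exact neg_ne_zero.mpr (pow_ne_zero 2 he)
    have := card_circ_le (4 : F) (-e ^ 2 / 4) u v huv hw
    have e4 : (4 : F) * (-e ^ 2 / 4) = -e ^ 2 := by field_simp
    rwa [e4] at this
  -- Step 2
  have step2 : S.card ≤ 2 * (S.image Prod.fst).card := by
    apply Finset.card_le_mul_card_image
    intro a _
    by_cases hne : (S.filter (fun p => p.1 = a)).Nonempty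
    · obtain ⟨p0, hp0⟩ := hne
      have hp0' := Finset.mem_filter.mp hp0
      have hp0c := (mem_circ _ _).mp hp0'.1
      have hsub : S.filter (fun p => p.1 = a) ⊆ {p0, (p0.1, -p0.2)} := by
        intro p hp
        have hp' := Finset.mem_filter.mp hp
        have hpc := (mem_circ _ _).mp hp'.1
        have h1 : p.1 = p0.1 := by rw [hp'.2, hp0'.2]
        have h2' : (p.2 - p0.2) * (p.2 + p0.2) = 0 := by
          rw [h1] at hpc
          linear_combination hpc - hp0c
        rw [Finset.mem_insert, Finset.mem_singleton]
        rcases mul_eq_zero.mp h2' with h | h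
        · left
          exact Prod.ext h1 (sub_eq_zero.mp h)
        · right
          exact Prod.ext h1 (by simp only; linear_combination h)
      exact (Finset.card_le_card hsub).trans Finset.card_le_two
    · rw [Finset.not_nonempty_iff_eq_empty.mp hne]
      simp
  -- Step 3
  have step3 : (S.image Prod.fst).card ≤ B.card := by
    apply Finset.card_le_card_of_injOn (fun m => m - c)
    · intro m hm
      obtain ⟨p, hp, rfl⟩ := Finset.mem_image.mp (Finset.mem_coe.mp hm)
      have hpc := (mem_circ _ _).mp hp
      apply Finset.mem_coe.mpr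
      rw [hB, Finset.mem_filter]
      refine ⟨Finset.mem_univ _, ?_⟩
      rintro ⟨r, hr⟩
      exact hno p.1 p.2 r hpc (by rw [hr]; ring)
    · intro m _ m' _ h
      simpa using h
  -- Step 4
  have step4 : 2 * B.card + 2 ≤ S'.card := by
    have hfib : S'.card = ∑ τ ∈ (Finset.univ : Finset F), (S'.filter (fun p => p.1 = τ)).card :=
      Finset.card_eq_sum_card_fiberwise (f := Prod.fst) (fun _ _ => Finset.mem_univ _)
    have h2B : (2 : F) ∉ B := by
      rw [hB, Finset.mem_filter]
      rintro ⟨-, h⟩
      apply h
      exact ⟨0, by norm_num⟩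
    have hm2B : (-2 : F) ∉ B := by
      rw [hB, Finset.mem_filter]
      rintro ⟨-, h⟩
      apply h
      exact ⟨0, by norm_num⟩
    have h2ne : (2 : F) ≠ -2 := by
      intro h
      apply h4
      linear_combination h
    have hT : insert (2 : F) (insert (-2 : F) B) ⊆ Finset.univ := Finset.subset_univ _
    have hsum := Finset.sum_le_sum_of_subset (f := fun τ => (S'.filter (fun p => p.1 = τ)).card) hT
    rw [Finset.sum_insert (by
        rw [Finset.mem_insert]
        rintro (h | h)
        · exact h2ne h
        · exact h2B h),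
      Finset.sum_insert hm2B] at hsum
    have hf2 : 1 ≤ (S'.filter (fun p => p.1 = (2 : F))).card := by
      apply Finset.card_pos.mpr
      refine ⟨((2 : F), (0 : F)), ?_⟩
      rw [Finset.mem_filter, mem_circ]
      exact ⟨by norm_num, rfl⟩
    have hfm2 : 1 ≤ (S'.filter (fun p => p.1 = (-2 : F))).card := by
      apply Finset.card_pos.mpr
      refine ⟨((-2 : F), (0 : F)), ?_⟩
      rw [Finset.mem_filter, mem_circ]
      exact ⟨by norm_num, rfl⟩
    have hfB : B.card • 2 ≤ ∑ τ ∈ B, (S'.filter (fun p => p.1 = τ)).card := by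
      apply Finset.card_nsmul_le_sum
      intro τ hτ
      rw [hB, Finset.mem_filter] at hτ
      obtain ⟨ν, hν⟩ := isSquare_mul_of_not hm1 hτ.2
      have hν0 : ν ≠ 0 := by
        rintro rfl
        apply hτ.2
        refine ⟨0, ?_⟩
        linear_combination -hν
      have hsub : ({(τ, ν), (τ, -ν)} : Finset (F × F)) ⊆ S'.filter (fun p => p.1 = τ) := by
        intro p hp
        rw [Finset.mem_insert, Finset.mem_singleton] at hp
        rw [Finset.mem_filter, mem_circ]
        rcases hp with rfl | rfl
        · exact ⟨by simp only; linear_combination -hν, rfl⟩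
        · exact ⟨by simp only; linear_combination -hν, rfl⟩
      have hpair : ({(τ, ν), (τ, -ν)} : Finset (F × F)).card = 2 := by
        apply Finset.card_pair
        intro h
        have h' := (Prod.mk.injEq _ _ _ _).mp h
        apply hν0
        have : (2 : F) * ν = 0 := by linear_combination h'.2
        exact (mul_eq_zero.mp this).resolve_left h2
      calc 2 = ({(τ, ν), (τ, -ν)} : Finset (F × F)).card := hpair.symm
        _ ≤ _ := Finset.card_le_card hsub
    rw [smul_eq_mul] at hfB
    omega
  omega

end Cfsg.Agent.Lib.Helper15.OddGraph
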