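import Mathlib
import Cfsg.Agent.Lib.Helper15.OddGraphC
import Cfsg.Agent.Lib.Helper15.OddGraphD
import Cfsg.Agent.Lib.Helper13.PSL2KleinCount

/-!
helper15: the odd-product graph on involutions of `PSL₂(F)`, `F` finite of odd characteristic:
common neighbours and a non-adjacent pair.
-/

set_option autoImplicit false

namespace Cfsg.Agent.Lib.Helper15.OddGraph

open Matrix Cfsg.Agent.Lib.Helper13

variable {F : Type*} [Field F] [Fintype F]

theorem card_odd_of_two_ne_zero (h2 : (2 : F) ≠ 0) : Fintype.card F % 2 = 1 := by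
  apply FiniteField.odd_card_of_char_ne_two
  intro hc
  apply h2
  have : ((2 : ℕ) : F) = 0 := by
    rw [← hc]
    exact ringChar.Nat.cast_ringChar
  exact_mod_cast this

/-- trace `±2` in odd characteristic: odd order -/
theorem odd_orderOf_of_trace_sq (h2 : (2 : F) ≠ 0) (M : SpecialLinearGroup (Fin 2) F)
    (h : ((M : Matrix (Fin 2) (Fin 2) F) 0 0 + (M : Matrix (Fin 2) (Fin 2) F) 1 1) ^ 2 = 4) :
    Odd (orderOf (QuotientGroup.mk M : ProjectiveSpecialLinearGroup (Fin 2) F)) := by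
  obtain ⟨p, hp⟩ := CharP.exists F
  have hpp : p.Prime := by
    rcases CharP.char_is_prime_or_zero F p with h | h
    · exact h
    · exfalso
      subst h
      have : CharZero F := CharP.charP_to_charZero F
      exact not_finite F
  have : Fact p.Prime := ⟨hpp⟩
  have hp2 : p ≠ 2 := by
    rintro rfl
    apply h2
    have := CharP.cast_eq_zero F 2
    exact_mod_cast this
  have hodd : Odd p := hpp.odd_of_ne_two hp2
  exact Odd.of_dvd_nat hodd (orderOf_dvd_char_of_trace_sq p M h)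

/-- `q ≡ 3 mod 4` and `tr² - 4` a square: odd order -/
theorem odd_orderOf_of_trace (h2 : (2 : F) ≠ 0) (hm1 : ¬ IsSquare (-1 : F))
    (M : SpecialLinearGroup (Fin 2) F) (ρ : F)
    (h : ((M : Matrix (Fin 2) (Fin 2) F) 0 0 + (M : Matrix (Fin 2) (Fin 2) F) 1 1) ^ 2 - 4 = ρ ^ 2) :
    Odd (orderOf (QuotientGroup.mk M : ProjectiveSpecialLinearGroup (Fin 2) F)) := by
  by_cases hρ : ρ = 0
  · apply odd_orderOf_of_trace_sq h2
    rw [hρ] at h
    linear_combination h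
  · have hdvd := orderOf_dvd_of_split h2 M ρ hρ h
    have h43 : Fintype.card F % 4 = 3 := by
      by_contra hne
      exact hm1 (FiniteField.isSquare_neg_one_iff.mpr hne)
    have hoddk : Odd ((Fintype.card F - 1) / 2) := by
      rw [Nat.odd_iff]
      omega
    exact Odd.of_dvd_nat hoddk hdvd

theorem exists_ne_three (hF : 4 ≤ Fintype.card F) : ∃ s : F, s ≠ 0 ∧ s ≠ 1 ∧ s ≠ -1 := by
  classical
  by_contra hno
  push Not at hno
  have hsub : (Finset.univ : Finset F) ⊆ {0, 1, -1} := by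
    intro s _
    by_cases h0 : s = 0
    · simp [h0]
    · by_cases h1 : s = 1
      · simp [h1]
      · simp [hno s h0 h1]
  have h1 := Finset.card_le_card hsub
  have h3 : ({0, 1, -1} : Finset F).card ≤ 3 := Finset.card_le_three
  rw [Finset.card_univ] at h1
  omega

omit [Fintype F] in
theorem circle_aux (h2 : (2 : F) ≠ 0) (τ₀ τ₁ τ₂ m n δ σ : F) (hδ : (τ₀ ^ 2 - 4) * -1 = δ * δ)
    (hτσ : τ₁ ^ 2 - 4 = σ ^ 2) (hm : τ₂ = m - τ₀ * τ₁ / 2)
    (hmn : m ^ 2 + n ^ 2 = -(δ * σ / 2) ^ 2) :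
    n ^ 2 = 4 - τ₀ ^ 2 - τ₁ ^ 2 - τ₂ ^ 2 - τ₀ * τ₁ * τ₂ := by
  have h4 : (4 : F) ≠ 0 := by
    have : (4 : F) = 2 * 2 := by norm_num
    rw [this]
    exact mul_ne_zero h2 h2
  obtain ⟨t, ht⟩ : ∃ t : F, t = τ₀ * τ₁ / 2 := ⟨_, rfl⟩
  obtain ⟨e, he⟩ : ∃ e : F, e = δ * σ / 2 := ⟨_, rfl⟩
  rw [← ht] at hm
  rw [← he] at hmn
  have ht2 : 2 * t = τ₀ * τ₁ := by rw [ht]; field_simp
  have he2 : 2 * e = δ * σ := by rw [he]; field_simp
  apply mul_left_cancel₀ h4
  subst hm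
  linear_combination 4 * hmn - (2 * e + δ * σ) * he2 + σ ^ 2 * hδ + (4 - τ₀ ^ 2) * hτσ +
    (2 * t - τ₀ * τ₁ - 4 * m) * ht2

/-- **Common neighbours, odd characteristic.** -/
theorem exists_common_neighbour_odd (h2 : (2 : F) ≠ 0) (hF : 4 ≤ Fintype.card F)
    (x y : ProjectiveSpecialLinearGroup (Fin 2) F) (hx : orderOf x = 2) (hy : orderOf y = 2)
    (hxy : ¬ Odd (orderOf (x * y))) :
    ∃ z : ProjectiveSpecialLinearGroup (Fin 2) F, orderOf z = 2 ∧ Odd (orderOf (x * z)) ∧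
      Odd (orderOf (z * y)) := by
  classical
  obtain ⟨X, rfl, hXt⟩ := exists_lift_of_orderOf_two h2 x hx
  obtain ⟨Y, rfl, hYt⟩ := exists_lift_of_orderOf_two h2 y hy
  rw [Matrix.trace_fin_two] at hXt hYt
  obtain ⟨τ₀, hτ₀⟩ : ∃ τ₀ : F, τ₀ =
      ((X * Y : SpecialLinearGroup (Fin 2) F) : Matrix (Fin 2) (Fin 2) F) 0 0 +
      ((X * Y : SpecialLinearGroup (Fin 2) F) : Matrix (Fin 2) (Fin 2) F) 1 1 := ⟨_, rfl⟩
  have hfin : ∀ Z : SpecialLinearGroup (Fin 2) F,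
      (Z : Matrix (Fin 2) (Fin 2) F) 0 0 + (Z : Matrix (Fin 2) (Fin 2) F) 1 1 = 0 →
      Odd (orderOf (QuotientGroup.mk (X * Z) : ProjectiveSpecialLinearGroup (Fin 2) F)) →
      Odd (orderOf (QuotientGroup.mk (Z * Y) : ProjectiveSpecialLinearGroup (Fin 2) F)) →
      ∃ z : ProjectiveSpecialLinearGroup (Fin 2) F, orderOf z = 2 ∧
        Odd (orderOf ((QuotientGroup.mk X : ProjectiveSpecialLinearGroup (Fin 2) F) * z)) ∧
        Odd (orderOf (z * (QuotientGroup.mk Y : ProjectiveSpecialLinearGroup (Fin 2) F))) := by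
    intro Z hZ h1 h2'
    refine ⟨QuotientGroup.mk Z, ?_, ?_, ?_⟩
    · apply orderOf_mk_of_mul_self h2
      apply mul_self_of_trace_eq_zero
      rw [Matrix.trace_fin_two]
      exact hZ
    · exact h1
    · exact h2'
  by_cases hm1 : IsSquare (-1 : F)
  · obtain ⟨i, hi⟩ := hm1
    by_cases hτ2 : τ₀ = 2
    · exfalso
      apply hxy
      apply odd_orderOf_of_trace_sq h2 (X * Y)
      rw [← hτ₀, hτ2]
      norm_num
    · obtain ⟨Z, hZ0, hZ1, hZ2⟩ := exists_Z_caseA X Y hXt hYt τ₀ hτ₀ i hi.symm hτ2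
      apply hfin Z hZ0
      · apply odd_orderOf_of_trace_sq h2
        rw [hZ1]
        norm_num
      · apply odd_orderOf_of_trace_sq h2
        rw [hZ2]
        norm_num
  · by_cases hsq : IsSquare (τ₀ ^ 2 - 4)
    · exfalso
      obtain ⟨ρ, hρ⟩ := hsq
      apply hxy
      apply odd_orderOf_of_trace h2 hm1 (X * Y) ρ
      rw [← hτ₀, hρ]
      ring
    · obtain ⟨δ, hδ⟩ := isSquare_mul_of_not hsq hm1
      have hδ0 : δ ≠ 0 := by
        rintro rfl
        apply hsq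
        refine ⟨0, ?_⟩
        linear_combination -hδ
      obtain ⟨s, hs0, hs1, hsm1⟩ := exists_ne_three hF
      obtain ⟨τ₁, hτ₁⟩ : ∃ τ₁ : F, τ₁ = s + s⁻¹ := ⟨_, rfl⟩
      obtain ⟨σ, hσ⟩ : ∃ σ : F, σ = s - s⁻¹ := ⟨_, rfl⟩
      have hσ0 : σ ≠ 0 := by
        intro h
        have h' : s * s = 1 := by
          have : s = s⁻¹ := by rw [hσ] at h; linear_combination h
          calc s * s = s * s⁻¹ := by rw [← this]
            _ = 1 := mul_inv_cancel₀ hs0
        rcases mul_self_eq_one_iff.mp h' with h'' | h''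
        · exact hs1 h''
        · exact hsm1 h''
      have hτσ : τ₁ ^ 2 - 4 = σ ^ 2 := by
        rw [hτ₁, hσ]
        field_simp
        ring
      have he : δ * σ / 2 ≠ 0 := div_ne_zero (mul_ne_zero hδ0 hσ0) h2
      obtain ⟨m, n, ρ, hmn, hρ⟩ := exists_circle_point h2 hm1 (δ * σ / 2) (τ₀ * τ₁ / 2) he
      obtain ⟨τ₂, hτ₂⟩ : ∃ τ₂ : F, τ₂ = m - τ₀ * τ₁ / 2 := ⟨_, rfl⟩
      rw [← hτ₂] at hρ
      have hD : 4 - τ₀ ^ 2 ≠ 0 := by
        intro h
        apply hδ0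
        have : δ * δ = 0 := by rw [← hδ]; linear_combination h
        exact mul_self_eq_zero.mp this
      have hn : n ^ 2 = 4 - τ₀ ^ 2 - τ₁ ^ 2 - τ₂ ^ 2 - τ₀ * τ₁ * τ₂ :=
        circle_aux h2 τ₀ τ₁ τ₂ m n δ σ hδ hτσ hτ₂ hmn
      obtain ⟨Z, hZ0, hZ1, hZ2⟩ := exists_Z_caseB X Y hXt hYt τ₀ hτ₀ τ₁ τ₂ n hD hn
      apply hfin Z hZ0
      · apply odd_orderOf_of_trace h2 hm1 (X * Z) σ
        rw [hZ1]
        exact hτσ
      · apply odd_orderOf_of_trace h2 hm1 (Z * Y) ρ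
        rw [hZ2]
        exact hρ

/-- **A non-adjacent pair, odd characteristic.** -/
theorem exists_nonadjacent_odd (h2 : (2 : F) ≠ 0) :
    ∃ x y : ProjectiveSpecialLinearGroup (Fin 2) F, orderOf x = 2 ∧ orderOf y = 2 ∧
      ¬ Odd (orderOf (x * y)) := by
  classical
  obtain ⟨a, b, hab⟩ := exists_sq_add_sq (card_odd_of_two_ne_zero h2) (-1 : F)
  have hX : (!![0, 1; -1, 0] : Matrix (Fin 2) (Fin 2) F).det = 1 := by
    rw [Matrix.det_fin_two_of]
    ring
  have hY : (!![a, b; b, -a] : Matrix (Fin 2) (Fin 2) F).det = 1 := by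
    rw [Matrix.det_fin_two_of]
    linear_combination -hab
  set X : SpecialLinearGroup (Fin 2) F := ⟨!![0, 1; -1, 0], hX⟩ with hXd
  set Y : SpecialLinearGroup (Fin 2) F := ⟨!![a, b; b, -a], hY⟩ with hYd
  have key : ∀ Z : SpecialLinearGroup (Fin 2) F, (Z : Matrix (Fin 2) (Fin 2) F).trace = 0 →
      orderOf (QuotientGroup.mk Z : ProjectiveSpecialLinearGroup (Fin 2) F) = 2 := by
    intro Z hZ
    exact orderOf_mk_of_mul_self h2 Z (mul_self_of_trace_eq_zero Z hZ)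
  refine ⟨QuotientGroup.mk X, QuotientGroup.mk Y, key X ?_, key Y ?_, ?_⟩
  · rw [Matrix.trace_fin_two]
    change (!![0, 1; -1, 0] : Matrix (Fin 2) (Fin 2) F) 0 0 +
      (!![0, 1; -1, 0] : Matrix (Fin 2) (Fin 2) F) 1 1 = 0
    simp
  · rw [Matrix.trace_fin_two]
    change (!![a, b; b, -a] : Matrix (Fin 2) (Fin 2) F) 0 0 +
      (!![a, b; b, -a] : Matrix (Fin 2) (Fin 2) F) 1 1 = 0
    simp
  · have h3 : orderOf ((QuotientGroup.mk X : ProjectiveSpecialLinearGroup (Fin 2) F) *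
        QuotientGroup.mk Y) = 2 := by
      rw [← QuotientGroup.mk_mul]
      apply key
      rw [Matrix.trace_fin_two]
      have hXY : ((X * Y : SpecialLinearGroup (Fin 2) F) : Matrix (Fin 2) (Fin 2) F) =
          (!![0, 1; -1, 0] : Matrix (Fin 2) (Fin 2) F) * !![a, b; b, -a] := rfl
      rw [hXY, trace_mul_entries]
      simp
    rw [h3]
    decide

end Cfsg.Agent.Lib.Helper15.OddGraph
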