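import Mathlib
import Cfsg.Agent.Lib.Helper15.OddGraphC
import Cfsg.Agent.Lib.Helper13.PSL2AltFour
import Cfsg.Agent.Lib.Helper13.SL2b

/-!
helper15: the odd-product graph on involutions of `PSL₂(F)`, `F` finite of characteristic two.
-/

set_option autoImplicit false

namespace Cfsg.Agent.Lib.Helper15.OddGraph

open Matrix Cfsg.Agent.Lib.Helper13

variable {F : Type*} [Field F] [Fintype F]

omit [Fintype F] in
theorem orderOf_mk_char_two [CharP F 2] (g : SpecialLinearGroup (Fin 2) F) :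
    orderOf (QuotientGroup.mk g : ProjectiveSpecialLinearGroup (Fin 2) F) = orderOf g :=
  orderOf_injective (QuotientGroup.mk' (Subgroup.center (SpecialLinearGroup (Fin 2) F)))
    mk_injective_of_char_two g

omit [Fintype F] in
/-- involutions in characteristic two have trace zero -/
theorem trace_eq_zero_of_orderOf_two [CharP F 2] (g : SpecialLinearGroup (Fin 2) F)
    (hg : orderOf g = 2) :
    g ≠ 1 ∧ (g : Matrix (Fin 2) (Fin 2) F) 0 0 + (g : Matrix (Fin 2) (Fin 2) F) 1 1 = 0 := by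
  constructor
  · rintro rfl
    rw [orderOf_one] at hg
    omega
  · rw [← Matrix.trace_fin_two]
    apply trace_eq_zero_of_mul_self
    rw [zSL_eq_one_of_char_two, ← pow_two]
    have := pow_orderOf_eq_one g
    rwa [hg] at this

omit [Fintype F] in
theorem orderOf_two_of_trace_eq_zero [CharP F 2] (g : SpecialLinearGroup (Fin 2) F) (hg : g ≠ 1)
    (ht : (g : Matrix (Fin 2) (Fin 2) F) 0 0 + (g : Matrix (Fin 2) (Fin 2) F) 1 1 = 0) :
    orderOf g = 2 := by
  apply orderOf_eq_prime
  · rw [pow_two, mul_self_of_trace_eq_zero g (by rw [Matrix.trace_fin_two]; exact ht),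
      zSL_eq_one_of_char_two]
  · exact hg

/-- nonzero trace in characteristic two: odd order -/
theorem odd_orderOf_of_trace_ne_zero [CharP F 2] (M : SpecialLinearGroup (Fin 2) F)
    (h : (M : Matrix (Fin 2) (Fin 2) F) 0 0 + (M : Matrix (Fin 2) (Fin 2) F) 1 1 ≠ 0) :
    Odd (orderOf (QuotientGroup.mk M : ProjectiveSpecialLinearGroup (Fin 2) F)) := by
  have hgcd : Nat.gcd 2 (Fintype.card F - 1) = 1 := (gcd_two_card_sub_one (F := F) 2).1 rfl
  obtain ⟨r, hr⟩ := even_card_of_char_two (F := F)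
  have hq : 1 < Fintype.card F := Fintype.one_lt_card
  rcases PSL2_orderOf_dvd 2 (QuotientGroup.mk M : ProjectiveSpecialLinearGroup (Fin 2) F) with
    hd | hd | hd
  · rcases (Nat.dvd_prime Nat.prime_two).mp hd with h1 | h2
    · rw [h1]
      exact odd_one
    · exfalso
      rw [orderOf_mk_char_two] at h2
      exact h (trace_eq_zero_of_orderOf_two M h2).2
  · rw [hgcd, Nat.div_one] at hd
    refine Odd.of_dvd_nat ?_ hd
    exact ⟨r - 1, by omega⟩
  · rw [hgcd, Nat.div_one] at hd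
    refine Odd.of_dvd_nat ?_ hd
    exact ⟨r, by omega⟩

omit [Fintype F] in
theorem offdiag_ne_zero_of_orderOf_two [CharP F 2] (g : SpecialLinearGroup (Fin 2) F)
    (hg : orderOf g = 2) :
    ¬ ((g : Matrix (Fin 2) (Fin 2) F) 0 1 = 0 ∧ (g : Matrix (Fin 2) (Fin 2) F) 1 0 = 0) := by
  rintro ⟨h01, h10⟩
  obtain ⟨hne, ht⟩ := trace_eq_zero_of_orderOf_two g hg
  apply hne
  have hdet := g.2
  rw [Matrix.det_fin_two, h01, h10, mul_zero, sub_zero] at hdet
  have h11 : (g : Matrix (Fin 2) (Fin 2) F) 1 1 = (g : Matrix (Fin 2) (Fin 2) F) 0 0 := by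
    have := CharTwo.add_eq_zero.mp ht
    exact this.symm
  rw [h11] at hdet
  have h00 : (g : Matrix (Fin 2) (Fin 2) F) 0 0 = 1 := by
    have h' : ((g : Matrix (Fin 2) (Fin 2) F) 0 0 + 1) * ((g : Matrix (Fin 2) (Fin 2) F) 0 0 + 1) = 0 := by
      have h2 : (2 : F) = 0 := CharTwo.two_eq_zero
      linear_combination hdet + ((g : Matrix (Fin 2) (Fin 2) F) 0 0 + 1) * h2
    have := mul_self_eq_zero.mp h'
    exact CharTwo.add_eq_zero.mp this
  apply Subtype.ext
  ext i j
  fin_cases i <;> fin_cases j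
  · simpa using h00
  · simpa using h01
  · simpa using h10
  · simpa using h11.trans h00

omit [Field F] in
theorem exists_avoid_two (hF : 4 ≤ Fintype.card F) (u₁ u₂ : F) : ∃ u : F, u ≠ u₁ ∧ u ≠ u₂ := by
  classical
  by_contra hno
  push Not at hno
  have hsub : (Finset.univ : Finset F) ⊆ {u₁, u₂} := by
    intro s _
    by_cases h0 : s = u₁
    · simp [h0]
    · simp [hno s h0]
  have h1 := Finset.card_le_card hsub
  have h3 : ({u₁, u₂} : Finset F).card ≤ 2 := Finset.card_le_two
  rw [Finset.card_univ] at h1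
  omega

omit [Fintype F] in
theorem linear_ne_zero (b c : F) (h : ¬ (b = 0 ∧ c = 0)) (u : F) (hu : u ≠ -c / b) :
    b * u + c ≠ 0 := by
  by_cases hb : b = 0
  · have hc : c ≠ 0 := fun hc => h ⟨hb, hc⟩
    rw [hb, zero_mul, zero_add]
    exact hc
  · intro h0
    apply hu
    field_simp
    linear_combination h0

/-- **Common neighbours, characteristic two.** -/
theorem exists_common_neighbour_even [CharP F 2] (hF : 4 ≤ Fintype.card F)
    (x y : ProjectiveSpecialLinearGroup (Fin 2) F) (hx : orderOf x = 2) (hy : orderOf y = 2) :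
    ∃ z : ProjectiveSpecialLinearGroup (Fin 2) F, orderOf z = 2 ∧ Odd (orderOf (x * z)) ∧
      Odd (orderOf (z * y)) := by
  obtain ⟨X, rfl⟩ := QuotientGroup.mk_surjective x
  obtain ⟨Y, rfl⟩ := QuotientGroup.mk_surjective y
  rw [orderOf_mk_char_two] at hx hy
  obtain ⟨hX1, hXt⟩ := trace_eq_zero_of_orderOf_two X hx
  obtain ⟨hY1, hYt⟩ := trace_eq_zero_of_orderOf_two Y hy
  have hXo := offdiag_ne_zero_of_orderOf_two X hx
  have hYo := offdiag_ne_zero_of_orderOf_two Y hy
  obtain ⟨u, hu1, hu2⟩ := exists_avoid_two hF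
    (-(X : Matrix (Fin 2) (Fin 2) F) 1 0 / (X : Matrix (Fin 2) (Fin 2) F) 0 1)
    (-(Y : Matrix (Fin 2) (Fin 2) F) 1 0 / (Y : Matrix (Fin 2) (Fin 2) F) 0 1)
  have hXu := linear_ne_zero _ _ hXo u hu1
  have hYu := linear_ne_zero _ _ hYo u hu2
  obtain ⟨a, ha⟩ := FiniteField.isSquare_of_char_two (ringChar.eq F 2) (1 + u)
  have hZdet : (!![a, 1; u, a] : Matrix (Fin 2) (Fin 2) F).det = 1 := by
    rw [Matrix.det_fin_two_of]
    linear_combination -ha
  set Z : SpecialLinearGroup (Fin 2) F := ⟨!![a, 1; u, a], hZdet⟩ with hZ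
  have hZc : (Z : Matrix (Fin 2) (Fin 2) F) = !![a, 1; u, a] := rfl
  have hX11 : (X : Matrix (Fin 2) (Fin 2) F) 1 1 = -(X : Matrix (Fin 2) (Fin 2) F) 0 0 := by
    linear_combination hXt
  have hY11 : (Y : Matrix (Fin 2) (Fin 2) F) 1 1 = -(Y : Matrix (Fin 2) (Fin 2) F) 0 0 := by
    linear_combination hYt
  refine ⟨QuotientGroup.mk Z, ?_, ?_, ?_⟩
  · rw [orderOf_mk_char_two]
    apply orderOf_two_of_trace_eq_zero
    · intro h
      have := congrArg (fun W : SpecialLinearGroup (Fin 2) F => (W : Matrix (Fin 2) (Fin 2) F) 0 1) h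
      simp [hZc] at this
    · rw [hZc]
      simp only [Matrix.of_apply, Matrix.cons_val_zero, Matrix.cons_val_one, Matrix.cons_val',
        Matrix.cons_val_fin_one]
      exact CharTwo.add_self_eq_zero a
  · rw [← QuotientGroup.mk_mul]
    apply odd_orderOf_of_trace_ne_zero
    have hXZ : ((X * Z : SpecialLinearGroup (Fin 2) F) : Matrix (Fin 2) (Fin 2) F) =
        (X : Matrix (Fin 2) (Fin 2) F) * (Z : Matrix (Fin 2) (Fin 2) F) := rfl
    rw [hXZ, trace_mul_entries, hX11, hZc]
    simp only [Matrix.of_apply, Matrix.cons_val_zero, Matrix.cons_val_one, Matrix.cons_val',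
      Matrix.cons_val_fin_one]
    intro h
    apply hXu
    linear_combination h
  · rw [← QuotientGroup.mk_mul]
    apply odd_orderOf_of_trace_ne_zero
    have hZY : ((Z * Y : SpecialLinearGroup (Fin 2) F) : Matrix (Fin 2) (Fin 2) F) =
        (Z : Matrix (Fin 2) (Fin 2) F) * (Y : Matrix (Fin 2) (Fin 2) F) := rfl
    rw [hZY, trace_mul_entries, hY11, hZc]
    simp only [Matrix.of_apply, Matrix.cons_val_zero, Matrix.cons_val_one, Matrix.cons_val',
      Matrix.cons_val_fin_one]
    intro h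
    apply hYu
    linear_combination h

/-- all involutions of `PSL₂(F)` are conjugate, characteristic two -/
theorem isConj_of_orderOf_two_even [CharP F 2]
    (x y : ProjectiveSpecialLinearGroup (Fin 2) F) (hx : orderOf x = 2) (hy : orderOf y = 2) :
    IsConj x y := by
  obtain ⟨X, rfl⟩ := QuotientGroup.mk_surjective x
  obtain ⟨Y, rfl⟩ := QuotientGroup.mk_surjective y
  rw [orderOf_mk_char_two] at hx hy
  obtain ⟨t, ht, hXt⟩ := exists_isConj_tSL_of_orderOf 2 X hx
  obtain ⟨t', ht', hYt⟩ := exists_isConj_tSL_of_orderOf 2 Y hy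
  have htt : IsConj (tSL t) (tSL t') :=
    (isConj_tSL_iff t t' ht ht').mpr (FiniteField.isSquare_of_char_two (ringChar.eq F 2) _)
  have hXY : IsConj X Y := (hXt.trans htt).trans hYt.symm
  exact (QuotientGroup.mk' (Subgroup.center (SpecialLinearGroup (Fin 2) F))).map_isConj hXY

/-- **A non-adjacent pair, characteristic two.** -/
theorem exists_nonadjacent_even [CharP F 2] (hF : 4 ≤ Fintype.card F) :
    ∃ x y : ProjectiveSpecialLinearGroup (Fin 2) F, orderOf x = 2 ∧ orderOf y = 2 ∧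
      ¬ Odd (orderOf (x * y)) := by
  obtain ⟨c, hc0, hc1⟩ := exists_avoid_two hF (0 : F) (-1)
  have h1c : (1 : F) + c ≠ 0 := by
    intro h
    apply hc1
    linear_combination h
  refine ⟨QuotientGroup.mk (tSL 1), QuotientGroup.mk (tSL c), ?_, ?_, ?_⟩
  · rw [orderOf_mk_char_two, orderOf_tSL 2 1 one_ne_zero]
  · rw [orderOf_mk_char_two, orderOf_tSL 2 c hc0]
  · rw [← QuotientGroup.mk_mul, tSL_mul, orderOf_mk_char_two, orderOf_tSL 2 _ h1c]
    decide

end Cfsg.Agent.Lib.Helper15.OddGraph
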