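/-
S5825 conjunct (8) (subfield groups, characteristic 2; planner helper20), leaf E3 `mem_of_line_map` = (P) (helper15):
core form, with the statement of E2 `coset_of_line_map` as a hypothesis.
-/
import Mathlib
import Cfsg.Prelude.Def_ClassicalGeometry
import Cfsg.Prelude.Def_GeometricClasses
import Cfsg.Agent.Lib.Helper5.LSubC
import Cfsg.Agent.Lib.Helper20.Om7S.Wrap
import Cfsg.Agent.Lib.Helper20.Om7S.KDefs
import Cfsg.Agent.Lib.Helper20.Om7S.EDefs
import Cfsg.Agent.Lib.Helper23.Om7SL0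
import Cfsg.Agent.Lib.Helper22.Om7SL0cd
import Cfsg.Agent.Lib.Helper1.Om7K1a
import Cfsg.Agent.Lib.Helper7.Om7SK2
import Cfsg.Agent.Lib.Helper11.Om7SK7

set_option linter.dupNamespace false
set_option linter.ambiguousOpen false

namespace Cfsg.Agent.Lib.Helper20.Om7S

set_option autoImplicit false
set_option linter.unusedSectionVars false
set_option linter.unusedVariables false

open Cfsg Matrix QuadraticMap Module Cfsg.Agent.Lib.Helper25.Siegel Cfsg.Agent.Lib.Helper19.OSub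
open _root_.Cfsg _root_.Cfsg.Agent.Lib.Helper25.Siegel
open Cfsg.Agent.Lib.Helper26.OSubLeaf
open S7
open Cfsg.Agent.Lib.Helper23.Om7SLeaf Cfsg.Agent.Lib.Helper22.Om7SLeaf Cfsg.Agent.Lib.Helper1.Om7Leaf
open Cfsg.Agent.Lib.Helper7.Om7SLeaf Cfsg.Agent.Lib.Helper11.Om7SLeaf

namespace Cfsg.Agent.Lib.Helper15.Om7ELeaf

variable {ι : Type} [Fintype ι] [DecidableEq ι] {F : Type*} [Field F] [Fintype F]
  {F₀ : Subfield F} {Q : QuadraticForm F (ι → F)} {M : Subgroup (GL ι F)}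

/-- the statement of leaf E2 `coset_of_line_map` -/
def E2Stmt (F₀ : Subfield F) (Q : QuadraticForm F (ι → F)) (M : Subgroup (GL ι F)) : Prop :=
  ∀ {y : GL ι F}, y ∈ M → ∀ {u v u' v' : ι → F},
    RatV F₀ u → RatV F₀ v → RatV F₀ u' → RatV F₀ v' → TS Q u v → TS Q u' v' →
    ∀ {α β γ ε : F}, mv y u = α • u' + β • v' → mv y v = γ • u' + ε • v' →
    ∃ κ : F, κ ≠ 0 ∧ κ * α ∈ F₀ ∧ κ * β ∈ F₀ ∧ κ * γ ∈ F₀ ∧ κ * ε ∈ F₀

/-- `Q` vanishes on a totally singular line -/
theorem e3_Q_span {u v x : ι → F} (hts : TS Q u v) (hx : InSpan u v x) : Q x = 0 := by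
  obtain ⟨s, t, rfl⟩ := hx
  rw [QuadraticMap.map_add Q, QuadraticMap.map_smul, QuadraticMap.map_smul, hts.Qu, hts.Qv,
    polar_smul_left, polar_smul_right, hts.uv]
  simp

/-- `Q (w - θ b) = 0` for orthogonal singular `w, b` -/
theorem e3_Q_sub {w b : ι → F} (hw : Q w = 0) (hb : Q b = 0) (hbw : polar Q b w = 0) (θ : F) :
    Q (w - θ • b) = 0 := by
  have : w - θ • b = w + (-θ) • b := by module
  rw [this, QuadraticMap.map_add Q, QuadraticMap.map_smul, hw, hb, polar_smul_right, polar_comm,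
    hbw]
  simp

/-- E3 core: (P) from the statement of E2. -/
theorem mem_of_line_map_of (hE2 : E2Stmt F₀ Q M) (h : Ctx F₀ Q M) {y : GL ι F} (hy : y ∈ M)
    {u v u' v' : ι → F}
    (hu : RatV F₀ u) (hv : RatV F₀ v) (hu' : RatV F₀ u') (hv' : RatV F₀ v') (hts : TS Q u v)
    (hts' : TS Q u' v') (hyu : InSpan u' v' (mv y u)) (hyv : InSpan u' v' (mv y v)) :
    y ∈ Cfsg.Geo.subfieldSubgroup F₀ (1 : GL ι F) := by
  classical
  obtain ⟨α, β, hyu⟩ := hyu
  obtain ⟨γ, ε, hyv⟩ := hyv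
  obtain ⟨κ, hκ, hα, hβ, hγ, hε⟩ := hE2 hy hu hv hu' hv' hts hts' hyu hyv
  have hyiso : y ∈ Cfsg.isometryGroup F ⇑Q := omegaGL_le_iso (h.le_om hy)
  have hpair := LinearIndependent.pair_iff.1 hts.li
  -- Claim A
  have claimA : ∀ a : ι → F, RatV F₀ a → InSpan u v a → RatV F₀ (κ • mv y a) := by
    rintro a ha ⟨s, t, rfl⟩
    obtain ⟨hs, ht⟩ := coeff_rat hu hv hts.li ha
    have e : κ • mv y (s • u + t • v)
        = (s * (κ * α) + t * (κ * γ)) • u' + (s * (κ * β) + t * (κ * ε)) • v' := by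
      rw [mv_add, mv_smul, mv_smul, hyu, hyv]
      module
    rw [e]
    exact ratV_add
      (ratV_smul (F₀.add_mem (F₀.mul_mem hs hα) (F₀.mul_mem ht hγ)) hu')
      (ratV_smul (F₀.add_mem (F₀.mul_mem hs hβ) (F₀.mul_mem ht hε)) hv')
  apply k7_uniform h.toQCtx
  intro a ha ha0 hQa
  by_cases hin : InSpan u v a
  · exact ⟨κ, hκ, claimA a ha hin⟩
  · -- a rational point `a₁` of the line, orthogonal to `a`
    obtain ⟨a₁, ha₁rat, ha₁0, ha₁in, ha₁perp⟩ :
        ∃ a₁ : ι → F, RatV F₀ a₁ ∧ a₁ ≠ 0 ∧ InSpan u v a₁ ∧ polar Q a₁ a = 0 := by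
      by_cases hz : polar Q a v • u - polar Q a u • v = 0
      · have h0 := hpair (polar Q a v) (-(polar Q a u)) (by rw [neg_smul, ← sub_eq_add_neg]; exact hz)
        refine ⟨u, hu, ?_, ⟨1, 0, by simp⟩, ?_⟩
        · have := hts.li.ne_zero 0
          simpa using this
        · rw [polar_comm]
          have := h0.2
          exact neg_eq_zero.mp this
      · refine ⟨polar Q a v • u - polar Q a u • v, ?_, hz,
          ⟨polar Q a v, -(polar Q a u), by module⟩, ?_⟩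
        · exact ratV_sub (ratV_smul (ratV_polar h.toQCtx ha hv) hu)
            (ratV_smul (ratV_polar h.toQCtx ha hu) hv)
        · rw [polar_sub_left, polar_smul_left, polar_smul_left, polar_comm (⇑Q) u a,
            polar_comm (⇑Q) v a]
          simp only [smul_eq_mul]
          ring
    have hQa₁ : Q a₁ = 0 := e3_Q_span hts ha₁in
    have hli₁ : LinearIndependent F ![a₁, a] := by
      rw [LinearIndependent.pair_iff]
      intro s t hst
      have ht : t = 0 := by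
        by_contra ht
        apply hin
        obtain ⟨p, q, rfl⟩ := ha₁in
        refine ⟨-(t⁻¹ * s) * p, -(t⁻¹ * s) * q, ?_⟩
        have : a = -(t⁻¹ * s) • (p • u + q • v) := by
          have h1 : t • a = -(s • (p • u + q • v)) := eq_neg_of_add_eq_zero_right hst
          calc a = t⁻¹ • (t • a) := by rw [smul_smul, inv_mul_cancel₀ ht, one_smul]
            _ = -(t⁻¹ * s) • (p • u + q • v) := by rw [h1]; module
        rw [this]; module
      subst ht
      rw [zero_smul, add_zero] at hst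
      exact ⟨(smul_eq_zero.mp hst).resolve_right ha₁0, rfl⟩
    have hts₁ : TS Q a₁ a := ⟨hQa₁, hQa, ha₁perp, hli₁⟩
    -- images
    obtain ⟨b₁, hb₁⟩ : ∃ b₁ : ι → F, b₁ = κ • mv y a₁ := ⟨_, rfl⟩
    obtain ⟨w, hw⟩ : ∃ w : ι → F, w = κ⁻¹ • mv y a := ⟨_, rfl⟩
    have hb₁rat : RatV F₀ b₁ := hb₁ ▸ claimA a₁ ha₁rat ha₁in
    have hya₁0 : mv y a₁ ≠ 0 := fun h0 => ha₁0 (mv_injective y (by rw [h0, mv_zero]))
    have hb₁0 : b₁ ≠ 0 := hb₁ ▸ smul_ne_zero hκ hya₁0
    have hQya₁ : Q (mv y a₁) = 0 := by rw [iso_Q hyiso, hQa₁]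
    have hQya : Q (mv y a) = 0 := by rw [iso_Q hyiso, hQa]
    have hpya : polar Q (mv y a₁) (mv y a) = 0 := by rw [iso_polar hyiso, ha₁perp]
    have hQb₁ : Q b₁ = 0 := by rw [hb₁, QuadraticMap.map_smul, hQya₁, smul_zero]
    have hQw : Q w = 0 := by rw [hw, QuadraticMap.map_smul, hQya, smul_zero]
    have hb₁w : polar Q b₁ w = 0 := by
      rw [hb₁, hw, polar_smul_left, polar_smul_right, hpya, smul_zero, smul_zero]
    have hM : rt Q b₁ w 1 ∈ M := by
      have e : rt Q b₁ w 1 = y * rt Q a₁ a 1 * y⁻¹ := by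
        rw [conj_rt hyiso, hb₁, hw,
          rt_smul_left hQya₁ (by rw [QuadraticMap.map_smul, hQya, smul_zero])
            (by rw [polar_smul_right, hpya, smul_zero]),
          rt_smul_right hQya₁ hQya hpya]
        congr 1
        field_simp
      rw [e]
      exact M.mul_mem (M.mul_mem hy (h.le (rt_mem_H0 h.toQCtx ha₁rat ha F₀.one_mem)))
        (M.inv_mem hy)
    obtain ⟨θ, hθ⟩ := ratNS h hb₁rat hb₁0 hQb₁ hQw hb₁w hM
    obtain ⟨r, hr⟩ : ∃ r : ι → F, r = w - θ • b₁ := ⟨_, rfl⟩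
    have hrrat : RatV F₀ r := hr ▸ hθ
    have hQr : Q r = 0 := hr ▸ e3_Q_sub hQw hQb₁ hb₁w θ
    have hb₁r : polar Q b₁ r = 0 := by
      rw [hr, polar_sub_right, polar_smul_right, hb₁w, polar_self_sing hQb₁, smul_zero, sub_zero]
    have hya : mv y a = (κ * θ) • b₁ + κ • r := by
      rw [hr, hw]
      have : κ • (κ⁻¹ • mv y a - θ • b₁) = mv y a - (κ * θ) • b₁ := by
        rw [smul_sub, smul_smul, smul_smul, mul_inv_cancel₀ hκ, one_smul]
      rw [this]; abel
    have hya₁ : mv y a₁ = κ⁻¹ • b₁ + (0 : F) • r := by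
      rw [hb₁, smul_smul, inv_mul_cancel₀ hκ, one_smul, zero_smul, add_zero]
    have hli₂ : LinearIndependent F ![b₁, r] := by
      rw [LinearIndependent.pair_iff]
      intro s t hst
      -- transport to `a₁, a` through `y`
      have hli₁' := LinearIndependent.pair_iff.1 hli₁
      have e : mv y ((s * κ - t * θ * κ) • a₁ + (t * κ⁻¹) • a) = 0 := by
        rw [mv_add, mv_smul, mv_smul, ← hst, hr, hw, hb₁]
        module
      have e0 := mv_injective y (e.trans (mv_zero y).symm)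
      obtain ⟨h1, h2⟩ := hli₁' _ _ e0
      have ht : t = 0 := by
        rcases mul_eq_zero.mp h2 with h | h
        · exact h
        · exact absurd h (inv_ne_zero hκ)
      subst ht
      simp only [zero_mul, sub_zero] at h1
      exact ⟨(mul_eq_zero.mp h1).resolve_right hκ, rfl⟩
    have hts₂ : TS Q b₁ r := ⟨hQb₁, hQr, hb₁r, hli₂⟩
    obtain ⟨κ₂, hκ₂, -, -, h3, h4⟩ := hE2 hy ha₁rat ha hb₁rat hrrat hts₁ hts₂ hya₁ hya
    refine ⟨κ₂, hκ₂, ?_⟩
    rw [hya, smul_add, smul_smul, smul_smul]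
    exact ratV_add (ratV_smul h3 hb₁rat) (ratV_smul h4 hrrat)

end Cfsg.Agent.Lib.Helper15.Om7ELeaf

end Cfsg.Agent.Lib.Helper20.Om7S
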