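/-
S5825 conjunct (8) (subfield groups, characteristic 2; planner helper20), leaf E3 `mem_of_line_map` = (P) (helper15).
Full name: `Cfsg.Agent.Lib.Helper20.Om7S.Cfsg.Agent.Lib.Helper15.Om7ELeaf.mem_of_line_map`
(core = `Helper15.Om7EE3core`, E2 = helper20's `LeafE2.coset_of_line_map`).
-/
import Mathlib
import Cfsg.Prelude.Def_ClassicalGeometry
import Cfsg.Prelude.Def_GeometricClasses
import Cfsg.Agent.Lib.Helper5.LSubC
import Cfsg.Agent.Lib.Helper20.Om7S.Wrap
import Cfsg.Agent.Lib.Helper20.Om7S.KDefs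
import Cfsg.Agent.Lib.Helper20.Om7S.EDefs
import Cfsg.Agent.Lib.Helper20.Om7S.E2
import Cfsg.Agent.Lib.Helper15.Om7EE3core

set_option linter.dupNamespace false
set_option linter.ambiguousOpen false

namespace Cfsg.Agent.Lib.Helper20.Om7S

set_option autoImplicit false
set_option linter.unusedSectionVars false
set_option linter.unusedVariables false

open Cfsg Matrix QuadraticMap Module Cfsg.Agent.Lib.Helper25.Siegel Cfsg.Agent.Lib.Helper19.OSub
open _root_.Cfsg _root_.Cfsg.Agent.Lib.Helper25.Siegel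
open Cfsg.Agent.Lib.Helper26.OSubLeaf
open S7

namespace Cfsg.Agent.Lib.Helper15.Om7ELeaf

variable {ι : Type} [Fintype ι] [DecidableEq ι] {F : Type*} [Field F] [Fintype F]
  {F₀ : Subfield F} {Q : QuadraticForm F (ι → F)} {M : Subgroup (GL ι F)}

/-- E3 [M] = (P): `y ∈ M` maps a rational t.s. line to a rational t.s. line: `y` lies in the subfield group. -/
theorem mem_of_line_map (h : Ctx F₀ Q M) {y : GL ι F} (hy : y ∈ M) {u v u' v' : ι → F}
    (hu : RatV F₀ u) (hv : RatV F₀ v) (hu' : RatV F₀ u') (hv' : RatV F₀ v') (hts : TS Q u v)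
    (hts' : TS Q u' v') (hyu : InSpan u' v' (mv y u)) (hyv : InSpan u' v' (mv y v)) :
    y ∈ Cfsg.Geo.subfieldSubgroup F₀ (1 : GL ι F) :=
  mem_of_line_map_of
    (fun hy' _ _ _ _ hu₁ hv₁ hu₂ hv₂ ht₁ ht₂ _ _ _ _ e₁ e₂ =>
      LeafE2.coset_of_line_map h hy' hu₁ hv₁ hu₂ hv₂ ht₁ ht₂ e₁ e₂)
    h hy hu hv hu' hv' hts hts' hyu hyv

end Cfsg.Agent.Lib.Helper15.Om7ELeaf

end Cfsg.Agent.Lib.Helper20.Om7S
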