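/-
S5825 conjunct (8) (subfield groups, characteristic 2; planner helper20), leaf E7 `hull_fix` (helper15).
Full name: `Cfsg.Agent.Lib.Helper20.Om7S.Cfsg.Agent.Lib.Helper15.Om7ELeaf.hull_fix`.
-/
import Mathlib
import Cfsg.Prelude.Def_ClassicalGeometry
import Cfsg.Prelude.Def_GeometricClasses
import Cfsg.Agent.Lib.Helper5.LSubC
import Cfsg.Agent.Lib.Helper20.Om7S.Wrap
import Cfsg.Agent.Lib.Helper20.Om7S.KDefs
import Cfsg.Agent.Lib.Helper20.Om7S.EDefs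
import Cfsg.Agent.Lib.Helper23.Om7SL0
import Cfsg.Agent.Lib.Helper22.Om7SL0cd
import Cfsg.Agent.Lib.Helper1.Om7K1a
import Cfsg.Agent.Lib.Helper7.Om7SK2
import Cfsg.Agent.Lib.Helper11.Om7SK7

set_option linter.dupNamespace false
set_option linter.ambiguousOpen false

namespace Cfsg.Agent.Lib.Helper20.Om7S

set_option autoImplicit false
set_option linter.unusedSectionVars false
set_option linter.unusedVariables false

open Cfsg Matrix QuadraticMap Module Cfsg.Agent.Lib.Helper25.Siegel Cfsg.Agent.Lib.Helper19.OSub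
open _root_.Cfsg _root_.Cfsg.Agent.Lib.Helper25.Siegel
open Cfsg.Agent.Lib.Helper26.OSubLeaf
open S7
open Cfsg.Agent.Lib.Helper23.Om7SLeaf Cfsg.Agent.Lib.Helper22.Om7SLeaf Cfsg.Agent.Lib.Helper1.Om7Leaf
open Cfsg.Agent.Lib.Helper7.Om7SLeaf Cfsg.Agent.Lib.Helper11.Om7SLeaf

namespace Cfsg.Agent.Lib.Helper15.Om7ELeaf

variable {ι : Type} [Fintype ι] [DecidableEq ι] {F : Type*} [Field F] [Fintype F]
  {F₀ : Subfield F} {Q : QuadraticForm F (ι → F)} {M : Subgroup (GL ι F)}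

/-- E7 [S]: a rationally acting map fixing `p₀ = c₁ b₁ + c₂ b₂ + c₃ b₃` (`bⱼ` rational): the `cⱼ` are `F₀`-dependent, or the map
fixes every `bⱼ`. -/
theorem hull_fix {hh : GL ι F} (hrat : ∀ x, RatV F₀ x → RatV F₀ (mv hh x)) {b₁ b₂ b₃ : ι → F}
    (h₁ : RatV F₀ b₁) (h₂ : RatV F₀ b₂) (h₃ : RatV F₀ b₃) {c₁ c₂ c₃ : F}
    (hfix : mv hh (c₁ • b₁ + c₂ • b₂ + c₃ • b₃) = c₁ • b₁ + c₂ • b₂ + c₃ • b₃) :
    (∃ l₁ l₂ l₃ : F, l₁ ∈ F₀ ∧ l₂ ∈ F₀ ∧ l₃ ∈ F₀ ∧ ¬ (l₁ = 0 ∧ l₂ = 0 ∧ l₃ = 0) ∧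
      l₁ * c₁ + l₂ * c₂ + l₃ * c₃ = 0) ∨
    (mv hh b₁ = b₁ ∧ mv hh b₂ = b₂ ∧ mv hh b₃ = b₃) := by
  classical
  have hsum : ∀ i, c₁ * (mv hh b₁ i - b₁ i) + c₂ * (mv hh b₂ i - b₂ i)
      + c₃ * (mv hh b₃ i - b₃ i) = 0 := by
    intro i
    rw [mv_add, mv_add, mv_smul, mv_smul, mv_smul] at hfix
    have := congrFun hfix i
    simp only [Pi.add_apply, Pi.smul_apply, smul_eq_mul] at this
    linear_combination this
  by_cases hall : ∀ i, mv hh b₁ i - b₁ i = 0 ∧ mv hh b₂ i - b₂ i = 0 ∧ mv hh b₃ i - b₃ i = 0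
  · right
    refine ⟨funext fun i => sub_eq_zero.mp (hall i).1, funext fun i => sub_eq_zero.mp (hall i).2.1,
      funext fun i => sub_eq_zero.mp (hall i).2.2⟩
  · left
    push_neg at hall
    obtain ⟨i, hi⟩ := hall
    refine ⟨mv hh b₁ i - b₁ i, mv hh b₂ i - b₂ i, mv hh b₃ i - b₃ i,
      F₀.sub_mem (hrat b₁ h₁ i) (h₁ i), F₀.sub_mem (hrat b₂ h₂ i) (h₂ i),
      F₀.sub_mem (hrat b₃ h₃ i) (h₃ i), ?_, ?_⟩
    · rintro ⟨e1, e2, e3⟩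
      exact hi e1 e2 e3
    · linear_combination hsum i

end Cfsg.Agent.Lib.Helper15.Om7ELeaf

end Cfsg.Agent.Lib.Helper20.Om7S
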