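import Mathlib
import Cfsg.Agent.Lib.Helper15.PerfectIndex

/-! Helper15 library: variants of the `OmegaIso` pattern without perfectness. -/

set_option autoImplicit false

namespace Cfsg.Agent.Lib.Helper15.OmegaIso2

open Cfsg.Agent.Lib.Helper15.PerfectIndex
open scoped commutatorElement

section comm
variable {O : Type*} [Group O]

/-- a normal subgroup of index at most four inside the commutator subgroup is the commutator
subgroup -/
theorem commutator_eq_of_normal_of_index_le_four (N : Subgroup O) [hN : N.Normal]
    (h0 : N.index ≠ 0) (h4 : N.index ≤ 4) (hle : N ≤ commutator O) : commutator O = N := by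
  have : N.FiniteIndex := ⟨h0⟩
  have hfin : Finite (O ⧸ N) := Subgroup.finite_quotient_of_finiteIndex
  apply le_antisymm _ hle
  rw [commutator_def, Subgroup.commutator_le]
  intro a _ b _
  rw [← QuotientGroup.eq_one_iff, commutatorElement_def, QuotientGroup.mk_mul, QuotientGroup.mk_mul,
    QuotientGroup.mk_mul, QuotientGroup.mk_inv, QuotientGroup.mk_inv]
  have hc := comm_of_card_le_four (Q := O ⧸ N) h4 (a : O ⧸ N) (b : O ⧸ N)
  rw [hc, mul_assoc, mul_assoc, ← mul_assoc (a : O ⧸ N), mul_inv_cancel, one_mul, mul_inv_cancel]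

/-- a subgroup of index at most two is normal -/
theorem normal_of_index_le_two (M : Subgroup O) (h0 : M.index ≠ 0) (h2 : M.index ≤ 2) :
    M.Normal := by
  have h : M.index = 1 ∨ M.index = 2 := by omega
  rcases h with h | h
  · rw [Subgroup.index_eq_one] at h
    rw [h]
    infer_instance
  · exact Subgroup.normal_of_index_eq_two h

end comm

section center
variable {G H : Type*} [Group G] [Group H]

/-- the preimage of the centre of `H` is the centre of `G`, under a centrality criterion -/
theorem ker_mk_comp_eq_center' (φ : G →* H) (hφ : Function.Surjective φ)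
    (hZ : ∀ s : G, (∀ x, ⁅s, x⁆ ∈ φ.ker) → s ∈ Subgroup.center G) :
    ((QuotientGroup.mk' (Subgroup.center H)).comp φ).ker = Subgroup.center G := by
  ext g
  rw [MonoidHom.mem_ker, MonoidHom.comp_apply, QuotientGroup.mk'_apply, QuotientGroup.eq_one_iff]
  constructor
  · intro hg
    apply hZ
    intro x
    rw [MonoidHom.mem_ker, commutatorElement_def, map_mul, map_mul, map_mul, map_inv, map_inv]
    rw [Subgroup.mem_center_iff] at hg
    rw [← hg (φ x), mul_assoc, mul_assoc, ← mul_assoc (φ g), mul_inv_cancel, one_mul, mul_inv_cancel]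
  · intro hg
    rw [Subgroup.mem_center_iff] at hg ⊢
    intro y
    obtain ⟨x, rfl⟩ := hφ y
    rw [← map_mul, ← map_mul, hg x]

/-- central quotients agree -/
noncomputable def centerQuotientEquiv' (φ : G →* H) (hφ : Function.Surjective φ)
    (hZ : ∀ s : G, (∀ x, ⁅s, x⁆ ∈ φ.ker) → s ∈ Subgroup.center G) :
    G ⧸ Subgroup.center G ≃* H ⧸ Subgroup.center H :=
  (QuotientGroup.quotientMulEquivOfEq (ker_mk_comp_eq_center' φ hφ hZ).symm).trans
    (QuotientGroup.quotientKerEquivOfSurjective ((QuotientGroup.mk' (Subgroup.center H)).comp φ)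
      ((QuotientGroup.mk'_surjective _).comp hφ))

end center

end Cfsg.Agent.Lib.Helper15.OmegaIso2
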