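import Cfsg.Agent.Lib.Helper15.OnOChkD
set_option autoImplicit false
set_option maxRecDepth 100000
set_option maxHeartbeats 0
set_option Elab.async false

/-! Checks of the table of the O'Nan group on 122760 points: the letters are permutations. -/

namespace Cfsg.Agent.Lib.Helper15.OnO
open Cfsg.Agent.Lib.Helper28.TC2Upper Cfsg.Agent.Lib.Helper28.TC2Lower Cfsg.Agent.Lib.Helper28.TC2Range
open Cfsg.Agent.Lib.Helper28.TC2Bsgs

theorem prmX12 : Table.permRange XT 24576 2048 = true := by decide +kernel

theorem prmX13 : Table.permRange XT 26624 2048 = true := by decide +kernel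

theorem prmX14 : Table.permRange XT 28672 2048 = true := by decide +kernel

theorem prmX15 : Table.permRange XT 30720 2048 = true := by decide +kernel

theorem prmX16 : Table.permRange XT 32768 2048 = true := by decide +kernel

theorem prmX17 : Table.permRange XT 34816 2048 = true := by decide +kernel

end Cfsg.Agent.Lib.Helper15.OnO
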