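import Cfsg.Agent.Lib.Helper15.OnOChkD
set_option autoImplicit false
set_option maxRecDepth 100000
set_option maxHeartbeats 0
set_option Elab.async false

/-! Checks of the table of the O'Nan group on 122760 points: the letters are permutations. -/

namespace Cfsg.Agent.Lib.Helper15.OnO
open Cfsg.Agent.Lib.Helper28.TC2Upper Cfsg.Agent.Lib.Helper28.TC2Lower Cfsg.Agent.Lib.Helper28.TC2Range
open Cfsg.Agent.Lib.Helper28.TC2Bsgs

theorem prmX48 : Table.permRange XT 98304 2048 = true := by decide +kernel

theorem prmX49 : Table.permRange XT 100352 2048 = true := by decide +kernel

theorem prmX50 : Table.permRange XT 102400 2048 = true := by decide +kernel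

theorem prmX51 : Table.permRange XT 104448 2048 = true := by decide +kernel

theorem prmX52 : Table.permRange XT 106496 2048 = true := by decide +kernel

theorem prmX53 : Table.permRange XT 108544 2048 = true := by decide +kernel

end Cfsg.Agent.Lib.Helper15.OnO
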