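import Cfsg.Agent.Lib.Helper15.OnOChkD
import Cfsg.Agent.Lib.Helper15.OnOChkP0
import Cfsg.Agent.Lib.Helper15.OnOChkP1
import Cfsg.Agent.Lib.Helper15.OnOChkP2
import Cfsg.Agent.Lib.Helper15.OnOChkP3
import Cfsg.Agent.Lib.Helper15.OnOChkP4
import Cfsg.Agent.Lib.Helper15.OnOChkP5
import Cfsg.Agent.Lib.Helper15.OnOChkP6
import Cfsg.Agent.Lib.Helper15.OnOChkP7
import Cfsg.Agent.Lib.Helper15.OnOChkP8
import Cfsg.Agent.Lib.Helper15.OnOChkP9
import Cfsg.Agent.Lib.Helper15.OnOChkW0
import Cfsg.Agent.Lib.Helper15.OnOChkW1
import Cfsg.Agent.Lib.Helper15.OnOChkW2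
import Cfsg.Agent.Lib.Helper15.OnOChkW3
import Cfsg.Agent.Lib.Helper15.OnOChkW4
import Cfsg.Agent.Lib.Helper15.OnOChkW5
import Cfsg.Agent.Lib.Helper15.OnOChkW6
import Cfsg.Agent.Lib.Helper15.OnOChkW7
import Cfsg.Agent.Lib.Helper15.OnOChkW8
import Cfsg.Agent.Lib.Helper15.OnOChkW9
set_option autoImplicit false
set_option maxRecDepth 100000

/-! Checks of the table of the O'Nan group on 122760 points, assembled. -/

namespace Cfsg.Agent.Lib.Helper15.OnO
open Cfsg.Agent.Lib.Helper28.TC2Upper Cfsg.Agent.Lib.Helper28.TC2Lower Cfsg.Agent.Lib.Helper28.TC2Range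
open Cfsg.Agent.Lib.Helper28.TC2Bsgs

theorem hpermX : ∀ p, p < XT.n → Table.permRow XT p = true := by
  intro p hp
  have hp' : p < 122760 := hp
  rcases Nat.lt_or_ge p 2048 with h0 | h0
  · exact (Table.permRange_iff XT 0 2048).mp prmX0 p (by omega) (by omega)
  rcases Nat.lt_or_ge p 4096 with h1 | h1
  · exact (Table.permRange_iff XT 2048 2048).mp prmX1 p (by omega) (by omega)
  rcases Nat.lt_or_ge p 6144 with h2 | h2
  · exact (Table.permRange_iff XT 4096 2048).mp prmX2 p (by omega) (by omega)
  rcases Nat.lt_or_ge p 8192 with h3 | h3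
  · exact (Table.permRange_iff XT 6144 2048).mp prmX3 p (by omega) (by omega)
  rcases Nat.lt_or_ge p 10240 with h4 | h4
  · exact (Table.permRange_iff XT 8192 2048).mp prmX4 p (by omega) (by omega)
  rcases Nat.lt_or_ge p 12288 with h5 | h5
  · exact (Table.permRange_iff XT 10240 2048).mp prmX5 p (by omega) (by omega)
  rcases Nat.lt_or_ge p 14336 with h6 | h6
  · exact (Table.permRange_iff XT 12288 2048).mp prmX6 p (by omega) (by omega)
  rcases Nat.lt_or_ge p 16384 with h7 | h7
  · exact (Table.permRange_iff XT 14336 2048).mp prmX7 p (by omega) (by omega)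
  rcases Nat.lt_or_ge p 18432 with h8 | h8
  · exact (Table.permRange_iff XT 16384 2048).mp prmX8 p (by omega) (by omega)
  rcases Nat.lt_or_ge p 20480 with h9 | h9
  · exact (Table.permRange_iff XT 18432 2048).mp prmX9 p (by omega) (by omega)
  rcases Nat.lt_or_ge p 22528 with h10 | h10
  · exact (Table.permRange_iff XT 20480 2048).mp prmX10 p (by omega) (by omega)
  rcases Nat.lt_or_ge p 24576 with h11 | h11
  · exact (Table.permRange_iff XT 22528 2048).mp prmX11 p (by omega) (by omega)
  rcases Nat.lt_or_ge p 26624 with h12 | h12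
  · exact (Table.permRange_iff XT 24576 2048).mp prmX12 p (by omega) (by omega)
  rcases Nat.lt_or_ge p 28672 with h13 | h13
  · exact (Table.permRange_iff XT 26624 2048).mp prmX13 p (by omega) (by omega)
  rcases Nat.lt_or_ge p 30720 with h14 | h14
  · exact (Table.permRange_iff XT 28672 2048).mp prmX14 p (by omega) (by omega)
  rcases Nat.lt_or_ge p 32768 with h15 | h15
  · exact (Table.permRange_iff XT 30720 2048).mp prmX15 p (by omega) (by omega)
  rcases Nat.lt_or_ge p 34816 with h16 | h16
  · exact (Table.permRange_iff XT 32768 2048).mp prmX16 p (by omega) (by omega)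
  rcases Nat.lt_or_ge p 36864 with h17 | h17
  · exact (Table.permRange_iff XT 34816 2048).mp prmX17 p (by omega) (by omega)
  rcases Nat.lt_or_ge p 38912 with h18 | h18
  · exact (Table.permRange_iff XT 36864 2048).mp prmX18 p (by omega) (by omega)
  rcases Nat.lt_or_ge p 40960 with h19 | h19
  · exact (Table.permRange_iff XT 38912 2048).mp prmX19 p (by omega) (by omega)
  rcases Nat.lt_or_ge p 43008 with h20 | h20
  · exact (Table.permRange_iff XT 40960 2048).mp prmX20 p (by omega) (by omega)
  rcases Nat.lt_or_ge p 45056 with h21 | h21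
  · exact (Table.permRange_iff XT 43008 2048).mp prmX21 p (by omega) (by omega)
  rcases Nat.lt_or_ge p 47104 with h22 | h22
  · exact (Table.permRange_iff XT 45056 2048).mp prmX22 p (by omega) (by omega)
  rcases Nat.lt_or_ge p 49152 with h23 | h23
  · exact (Table.permRange_iff XT 47104 2048).mp prmX23 p (by omega) (by omega)
  rcases Nat.lt_or_ge p 51200 with h24 | h24
  · exact (Table.permRange_iff XT 49152 2048).mp prmX24 p (by omega) (by omega)
  rcases Nat.lt_or_ge p 53248 with h25 | h25
  · exact (Table.permRange_iff XT 51200 2048).mp prmX25 p (by omega) (by omega)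
  rcases Nat.lt_or_ge p 55296 with h26 | h26
  · exact (Table.permRange_iff XT 53248 2048).mp prmX26 p (by omega) (by omega)
  rcases Nat.lt_or_ge p 57344 with h27 | h27
  · exact (Table.permRange_iff XT 55296 2048).mp prmX27 p (by omega) (by omega)
  rcases Nat.lt_or_ge p 59392 with h28 | h28
  · exact (Table.permRange_iff XT 57344 2048).mp prmX28 p (by omega) (by omega)
  rcases Nat.lt_or_ge p 61440 with h29 | h29
  · exact (Table.permRange_iff XT 59392 2048).mp prmX29 p (by omega) (by omega)
  rcases Nat.lt_or_ge p 63488 with h30 | h30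
  · exact (Table.permRange_iff XT 61440 2048).mp prmX30 p (by omega) (by omega)
  rcases Nat.lt_or_ge p 65536 with h31 | h31
  · exact (Table.permRange_iff XT 63488 2048).mp prmX31 p (by omega) (by omega)
  rcases Nat.lt_or_ge p 67584 with h32 | h32
  · exact (Table.permRange_iff XT 65536 2048).mp prmX32 p (by omega) (by omega)
  rcases Nat.lt_or_ge p 69632 with h33 | h33
  · exact (Table.permRange_iff XT 67584 2048).mp prmX33 p (by omega) (by omega)
  rcases Nat.lt_or_ge p 71680 with h34 | h34
  · exact (Table.permRange_iff XT 69632 2048).mp prmX34 p (by omega) (by omega)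
  rcases Nat.lt_or_ge p 73728 with h35 | h35
  · exact (Table.permRange_iff XT 71680 2048).mp prmX35 p (by omega) (by omega)
  rcases Nat.lt_or_ge p 75776 with h36 | h36
  · exact (Table.permRange_iff XT 73728 2048).mp prmX36 p (by omega) (by omega)
  rcases Nat.lt_or_ge p 77824 with h37 | h37
  · exact (Table.permRange_iff XT 75776 2048).mp prmX37 p (by omega) (by omega)
  rcases Nat.lt_or_ge p 79872 with h38 | h38
  · exact (Table.permRange_iff XT 77824 2048).mp prmX38 p (by omega) (by omega)
  rcases Nat.lt_or_ge p 81920 with h39 | h39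
  · exact (Table.permRange_iff XT 79872 2048).mp prmX39 p (by omega) (by omega)
  rcases Nat.lt_or_ge p 83968 with h40 | h40
  · exact (Table.permRange_iff XT 81920 2048).mp prmX40 p (by omega) (by omega)
  rcases Nat.lt_or_ge p 86016 with h41 | h41
  · exact (Table.permRange_iff XT 83968 2048).mp prmX41 p (by omega) (by omega)
  rcases Nat.lt_or_ge p 88064 with h42 | h42
  · exact (Table.permRange_iff XT 86016 2048).mp prmX42 p (by omega) (by omega)
  rcases Nat.lt_or_ge p 90112 with h43 | h43
  · exact (Table.permRange_iff XT 88064 2048).mp prmX43 p (by omega) (by omega)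
  rcases Nat.lt_or_ge p 92160 with h44 | h44
  · exact (Table.permRange_iff XT 90112 2048).mp prmX44 p (by omega) (by omega)
  rcases Nat.lt_or_ge p 94208 with h45 | h45
  · exact (Table.permRange_iff XT 92160 2048).mp prmX45 p (by omega) (by omega)
  rcases Nat.lt_or_ge p 96256 with h46 | h46
  · exact (Table.permRange_iff XT 94208 2048).mp prmX46 p (by omega) (by omega)
  rcases Nat.lt_or_ge p 98304 with h47 | h47
  · exact (Table.permRange_iff XT 96256 2048).mp prmX47 p (by omega) (by omega)
  rcases Nat.lt_or_ge p 100352 with h48 | h48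
  · exact (Table.permRange_iff XT 98304 2048).mp prmX48 p (by omega) (by omega)
  rcases Nat.lt_or_ge p 102400 with h49 | h49
  · exact (Table.permRange_iff XT 100352 2048).mp prmX49 p (by omega) (by omega)
  rcases Nat.lt_or_ge p 104448 with h50 | h50
  · exact (Table.permRange_iff XT 102400 2048).mp prmX50 p (by omega) (by omega)
  rcases Nat.lt_or_ge p 106496 with h51 | h51
  · exact (Table.permRange_iff XT 104448 2048).mp prmX51 p (by omega) (by omega)
  rcases Nat.lt_or_ge p 108544 with h52 | h52
  · exact (Table.permRange_iff XT 106496 2048).mp prmX52 p (by omega) (by omega)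
  rcases Nat.lt_or_ge p 110592 with h53 | h53
  · exact (Table.permRange_iff XT 108544 2048).mp prmX53 p (by omega) (by omega)
  rcases Nat.lt_or_ge p 112640 with h54 | h54
  · exact (Table.permRange_iff XT 110592 2048).mp prmX54 p (by omega) (by omega)
  rcases Nat.lt_or_ge p 114688 with h55 | h55
  · exact (Table.permRange_iff XT 112640 2048).mp prmX55 p (by omega) (by omega)
  rcases Nat.lt_or_ge p 116736 with h56 | h56
  · exact (Table.permRange_iff XT 114688 2048).mp prmX56 p (by omega) (by omega)
  rcases Nat.lt_or_ge p 118784 with h57 | h57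
  · exact (Table.permRange_iff XT 116736 2048).mp prmX57 p (by omega) (by omega)
  rcases Nat.lt_or_ge p 120832 with h58 | h58
  · exact (Table.permRange_iff XT 118784 2048).mp prmX58 p (by omega) (by omega)
  exact (Table.permRange_iff XT 120832 1928).mp prmX59 p (by omega) (by omega)

theorem hdefRow (e : ℕ) (he : 8 ≤ e) (hk : e < 34) : ∀ p, p < 122760 → XT.walkT (defsX.look e) p = XT.tau e p := by
  intro p hp
  have key : ∀ lo cnt, defAll lo cnt = true → lo ≤ p → p < lo + cnt → XT.walkT (defsX.look e) p = XT.tau e p := by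
    intro lo cnt h h1 h2
    unfold defAll at h
    rw [allLoop_eq_true] at h
    have h3 := h (e - 8) (by omega)
    have e7 : Nat.add 8 (e - 8) = e := by simp only [Nat.add_eq]; omega
    rw [e7, defRange_iff] at h3
    exact h3 p h1 h2
  rcases Nat.lt_or_ge p 2048 with h0 | h0
  · exact key 0 2048 hdefAll0 (by omega) (by omega)
  rcases Nat.lt_or_ge p 4096 with h1 | h1
  · exact key 2048 2048 hdefAll1 (by omega) (by omega)
  rcases Nat.lt_or_ge p 6144 with h2 | h2
  · exact key 4096 2048 hdefAll2 (by omega) (by omega)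
  rcases Nat.lt_or_ge p 8192 with h3 | h3
  · exact key 6144 2048 hdefAll3 (by omega) (by omega)
  rcases Nat.lt_or_ge p 10240 with h4 | h4
  · exact key 8192 2048 hdefAll4 (by omega) (by omega)
  rcases Nat.lt_or_ge p 12288 with h5 | h5
  · exact key 10240 2048 hdefAll5 (by omega) (by omega)
  rcases Nat.lt_or_ge p 14336 with h6 | h6
  · exact key 12288 2048 hdefAll6 (by omega) (by omega)
  rcases Nat.lt_or_ge p 16384 with h7 | h7
  · exact key 14336 2048 hdefAll7 (by omega) (by omega)
  rcases Nat.lt_or_ge p 18432 with h8 | h8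
  · exact key 16384 2048 hdefAll8 (by omega) (by omega)
  rcases Nat.lt_or_ge p 20480 with h9 | h9
  · exact key 18432 2048 hdefAll9 (by omega) (by omega)
  rcases Nat.lt_or_ge p 22528 with h10 | h10
  · exact key 20480 2048 hdefAll10 (by omega) (by omega)
  rcases Nat.lt_or_ge p 24576 with h11 | h11
  · exact key 22528 2048 hdefAll11 (by omega) (by omega)
  rcases Nat.lt_or_ge p 26624 with h12 | h12
  · exact key 24576 2048 hdefAll12 (by omega) (by omega)
  rcases Nat.lt_or_ge p 28672 with h13 | h13
  · exact key 26624 2048 hdefAll13 (by omega) (by omega)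
  rcases Nat.lt_or_ge p 30720 with h14 | h14
  · exact key 28672 2048 hdefAll14 (by omega) (by omega)
  rcases Nat.lt_or_ge p 32768 with h15 | h15
  · exact key 30720 2048 hdefAll15 (by omega) (by omega)
  rcases Nat.lt_or_ge p 34816 with h16 | h16
  · exact key 32768 2048 hdefAll16 (by omega) (by omega)
  rcases Nat.lt_or_ge p 36864 with h17 | h17
  · exact key 34816 2048 hdefAll17 (by omega) (by omega)
  rcases Nat.lt_or_ge p 38912 with h18 | h18
  · exact key 36864 2048 hdefAll18 (by omega) (by omega)
  rcases Nat.lt_or_ge p 40960 with h19 | h19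
  · exact key 38912 2048 hdefAll19 (by omega) (by omega)
  rcases Nat.lt_or_ge p 43008 with h20 | h20
  · exact key 40960 2048 hdefAll20 (by omega) (by omega)
  rcases Nat.lt_or_ge p 45056 with h21 | h21
  · exact key 43008 2048 hdefAll21 (by omega) (by omega)
  rcases Nat.lt_or_ge p 47104 with h22 | h22
  · exact key 45056 2048 hdefAll22 (by omega) (by omega)
  rcases Nat.lt_or_ge p 49152 with h23 | h23
  · exact key 47104 2048 hdefAll23 (by omega) (by omega)
  rcases Nat.lt_or_ge p 51200 with h24 | h24
  · exact key 49152 2048 hdefAll24 (by omega) (by omega)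
  rcases Nat.lt_or_ge p 53248 with h25 | h25
  · exact key 51200 2048 hdefAll25 (by omega) (by omega)
  rcases Nat.lt_or_ge p 55296 with h26 | h26
  · exact key 53248 2048 hdefAll26 (by omega) (by omega)
  rcases Nat.lt_or_ge p 57344 with h27 | h27
  · exact key 55296 2048 hdefAll27 (by omega) (by omega)
  rcases Nat.lt_or_ge p 59392 with h28 | h28
  · exact key 57344 2048 hdefAll28 (by omega) (by omega)
  rcases Nat.lt_or_ge p 61440 with h29 | h29
  · exact key 59392 2048 hdefAll29 (by omega) (by omega)
  rcases Nat.lt_or_ge p 63488 with h30 | h30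
  · exact key 61440 2048 hdefAll30 (by omega) (by omega)
  rcases Nat.lt_or_ge p 65536 with h31 | h31
  · exact key 63488 2048 hdefAll31 (by omega) (by omega)
  rcases Nat.lt_or_ge p 67584 with h32 | h32
  · exact key 65536 2048 hdefAll32 (by omega) (by omega)
  rcases Nat.lt_or_ge p 69632 with h33 | h33
  · exact key 67584 2048 hdefAll33 (by omega) (by omega)
  rcases Nat.lt_or_ge p 71680 with h34 | h34
  · exact key 69632 2048 hdefAll34 (by omega) (by omega)
  rcases Nat.lt_or_ge p 73728 with h35 | h35
  · exact key 71680 2048 hdefAll35 (by omega) (by omega)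
  rcases Nat.lt_or_ge p 75776 with h36 | h36
  · exact key 73728 2048 hdefAll36 (by omega) (by omega)
  rcases Nat.lt_or_ge p 77824 with h37 | h37
  · exact key 75776 2048 hdefAll37 (by omega) (by omega)
  rcases Nat.lt_or_ge p 79872 with h38 | h38
  · exact key 77824 2048 hdefAll38 (by omega) (by omega)
  rcases Nat.lt_or_ge p 81920 with h39 | h39
  · exact key 79872 2048 hdefAll39 (by omega) (by omega)
  rcases Nat.lt_or_ge p 83968 with h40 | h40
  · exact key 81920 2048 hdefAll40 (by omega) (by omega)
  rcases Nat.lt_or_ge p 86016 with h41 | h41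
  · exact key 83968 2048 hdefAll41 (by omega) (by omega)
  rcases Nat.lt_or_ge p 88064 with h42 | h42
  · exact key 86016 2048 hdefAll42 (by omega) (by omega)
  rcases Nat.lt_or_ge p 90112 with h43 | h43
  · exact key 88064 2048 hdefAll43 (by omega) (by omega)
  rcases Nat.lt_or_ge p 92160 with h44 | h44
  · exact key 90112 2048 hdefAll44 (by omega) (by omega)
  rcases Nat.lt_or_ge p 94208 with h45 | h45
  · exact key 92160 2048 hdefAll45 (by omega) (by omega)
  rcases Nat.lt_or_ge p 96256 with h46 | h46
  · exact key 94208 2048 hdefAll46 (by omega) (by omega)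
  rcases Nat.lt_or_ge p 98304 with h47 | h47
  · exact key 96256 2048 hdefAll47 (by omega) (by omega)
  rcases Nat.lt_or_ge p 100352 with h48 | h48
  · exact key 98304 2048 hdefAll48 (by omega) (by omega)
  rcases Nat.lt_or_ge p 102400 with h49 | h49
  · exact key 100352 2048 hdefAll49 (by omega) (by omega)
  rcases Nat.lt_or_ge p 104448 with h50 | h50
  · exact key 102400 2048 hdefAll50 (by omega) (by omega)
  rcases Nat.lt_or_ge p 106496 with h51 | h51
  · exact key 104448 2048 hdefAll51 (by omega) (by omega)
  rcases Nat.lt_or_ge p 108544 with h52 | h52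
  · exact key 106496 2048 hdefAll52 (by omega) (by omega)
  rcases Nat.lt_or_ge p 110592 with h53 | h53
  · exact key 108544 2048 hdefAll53 (by omega) (by omega)
  rcases Nat.lt_or_ge p 112640 with h54 | h54
  · exact key 110592 2048 hdefAll54 (by omega) (by omega)
  rcases Nat.lt_or_ge p 114688 with h55 | h55
  · exact key 112640 2048 hdefAll55 (by omega) (by omega)
  rcases Nat.lt_or_ge p 116736 with h56 | h56
  · exact key 114688 2048 hdefAll56 (by omega) (by omega)
  rcases Nat.lt_or_ge p 118784 with h57 | h57
  · exact key 116736 2048 hdefAll57 (by omega) (by omega)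
  rcases Nat.lt_or_ge p 120832 with h58 | h58
  · exact key 118784 2048 hdefAll58 (by omega) (by omega)
  exact key 120832 1928 hdefAll59 (by omega) (by omega)

end Cfsg.Agent.Lib.Helper15.OnO
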