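import Cfsg.Agent.Lib.Helper3.TCX.OnHom
import Cfsg.Agent.S1699
import Cfsg.Agent.Lib.Helper15.OnOChk0
import Cfsg.Agent.Lib.Helper10.OutGen

set_option autoImplicit false
set_option maxRecDepth 100000

/-!
The O'Nan group as a group of permutations of 122760 points: words in 34 letters, their evaluation
on points, equality of elements by the images of four base points, the isomorphism with the presented
group.  Adapted from the files of the Rudvalis group.
-/

namespace Cfsg.Agent.Lib.Helper15.OnO
open Cfsg.Agent.Lib.Helper28.TC2Upper Cfsg.Agent.Lib.Helper28.TC2Lower Cfsg.Agent.Lib.Helper28.TC2Range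
open Cfsg.Agent.Lib.Helper28.TC2Bsgs Cfsg.Agent.Lib.Helper28.TC2Simple Cfsg.Agent.Lib.Helper28.TC2Glue
open Cfsg.Agent.Lib.Helper28.TCONTable Cfsg.Agent.Lib.Helper28.TCONLink
open Cfsg.Agent.Lib.Helper3.TCX

noncomputable section

/-! ### the tables -/

theorem hXT : XT.OK := Table.ok_of_rows XT hinvX hpermX

/-- the permutation of a letter -/
def σ (l : ℕ) : Equiv.Perm (Fin XT.n) := Table.sigma hXT l

/-- the O'Nan group on 122760 points -/
def G : Subgroup (Equiv.Perm (Fin XT.n)) := baseGroup hXT 8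

theorem hdefX : ∀ e, 8 ≤ e → e < XT.k → ∀ p, p < XT.n → XT.walkT (defsX.look e) p = XT.tau e p := by
  intro e he hk p hp
  exact hdefRow e he hk p hp

theorem σ_mem (l : ℕ) (hl : l < 34) : σ l ∈ G :=
  sigma_mem_baseGroup hXT 8 defsX hdefsLt hdefX l hl

/-! ### words -/

/-- letters out of range are read as the first letter -/
def nl (l : ℕ) : ℕ := cond (Nat.blt l 34) l 0

theorem nl_lt (l : ℕ) : nl l < 34 := by
  unfold nl
  cases h : Nat.blt l 34
  · exact (by norm_num : (0 : ℕ) < 34)
  · simpa [Nat.blt] using h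

theorem nl_of_lt {l : ℕ} (h : l < 34) : nl l = l := by
  unfold nl
  have : Nat.blt l 34 = true := by simpa [Nat.blt] using h
  rw [this]
  rfl

/-- the letters of a word, read in range -/
def nw (w : List ℕ) : List ℕ := w.map nl

theorem nw_lt (w : List ℕ) : ∀ l ∈ nw w, l < XT.k := by
  intro l hl
  obtain ⟨l', -, rfl⟩ := List.mem_map.mp hl
  exact nl_lt l'

/-- the permutation of a word: the letters are applied from left to right -/
def gwp (w : List ℕ) : Equiv.Perm (Fin XT.n) := pathProd σ (nw w)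

theorem gwp_mem (w : List ℕ) : gwp w ∈ G :=
  pathProd_mem G σ (nw w) fun l hl => σ_mem l (nw_lt w l hl)

/-- the element of a word -/
def gw (w : List ℕ) : ↥G := ⟨gwp w, gwp_mem w⟩

/-- the image of a point under a word -/
def wk (w : List ℕ) (p : ℕ) : ℕ := XT.walkT (nw w) p

theorem gwp_apply (w : List ℕ) (p : Fin XT.n) : (gwp w p).val = wk w p.val :=
  Table.pathProd_sigma_apply hXT (nw w) (nw_lt w) p

theorem pathProd_append {K : Type*} [Monoid K] (γ : ℕ → K) (w w' : List ℕ) :
    pathProd γ (w ++ w') = pathProd γ w' * pathProd γ w := by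
  rw [pathProd_eq, pathProd_eq, pathProd_eq, List.reverse_append, List.map_append, List.prod_append]

theorem gwp_nil : gwp [] = 1 := rfl

theorem gwp_append (w w' : List ℕ) : gwp (w ++ w') = gwp w' * gwp w := by
  unfold gwp nw
  rw [List.map_append, pathProd_append]

theorem gwp_singleton (l : ℕ) : gwp [l] = σ (nl l) := by
  show 1 * σ (nl l) = σ (nl l)
  rw [one_mul]

theorem gw_nil : gw [] = 1 := rfl

theorem gw_append (w w' : List ℕ) : gw (w ++ w') = gw w' * gw w :=
  Subtype.ext (gwp_append w w')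

/-- the inverse letter -/
def il (l : ℕ) : ℕ := XT.invl (nl l)

theorem il_lt (l : ℕ) : il l < 34 := (hXT.inv (nl l) (nl_lt l)).1

theorem σ_il (l : ℕ) : σ (nl (il l)) = (σ (nl l))⁻¹ := by
  rw [nl_of_lt (il_lt l)]
  exact Table.sigma_inv hXT (nl_lt l)

/-- the inverse word -/
def winv (w : List ℕ) : List ℕ := (w.map il).reverse

theorem gwp_winv (w : List ℕ) : gwp (winv w) = (gwp w)⁻¹ := by
  induction w with
  | nil => exact inv_one.symm
  | cons l w ih =>
    have e1 : winv (l :: w) = winv w ++ [il l] := by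
      unfold winv
      rw [List.map_cons, List.reverse_cons]
    have e2 : l :: w = [l] ++ w := rfl
    rw [e1, gwp_append, ih, gwp_singleton, σ_il, e2, gwp_append, gwp_singleton, mul_inv_rev]

theorem gw_winv (w : List ℕ) : gw (winv w) = (gw w)⁻¹ :=
  Subtype.ext (gwp_winv w)

/-- repetition of a word -/
def rpt : ℕ → List ℕ → List ℕ
  | 0, _ => []
  | m + 1, l => l ++ rpt m l

theorem gw_rpt (m : ℕ) (l : List ℕ) : gw (rpt m l) = gw l ^ m := by
  induction m with
  | zero => rfl
  | succ m ih => rw [rpt, gw_append, ih, pow_succ]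

/-- the conjugate of the element of the word `u` by the element of the word `c` -/
def cj (c u : List ℕ) : List ℕ := winv c ++ (u ++ c)

theorem gw_cj (c u : List ℕ) : gw (cj c u) = gw c * gw u * (gw c)⁻¹ := by
  unfold cj
  rw [gw_append, gw_append, gw_winv]

/-! ### the isomorphism with the presented group -/

theorem pathProd_congr {K : Type*} [Monoid K] (γ γ' : ℕ → K) (w : List ℕ)
    (h : ∀ l ∈ w, γ l = γ' l) : pathProd γ w = pathProd γ' w := by
  induction w with
  | nil => rfl
  | cons l ls ih =>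
    show pathProd γ ls * γ l = pathProd γ' ls * γ' l
    rw [ih fun x hx => h x (List.mem_cons_of_mem _ hx), h l List.mem_cons_self]

theorem map_pathProd {K K' : Type*} [Monoid K] [Monoid K'] (f : K →* K') (γ : ℕ → K) (w : List ℕ) :
    f (pathProd γ w) = pathProd (fun l => f (γ l)) w := by
  induction w with
  | nil => exact map_one f
  | cons l ls ih =>
    show f (pathProd γ ls * γ l) = pathProd (fun l => f (γ l)) ls * f (γ l)
    rw [map_mul, ih]

theorem nw_of_lt (w : List ℕ) (h : ∀ l ∈ w, l < 34) : nw w = w := by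
  unfold nw
  conv_rhs => rw [← List.map_id w]
  exact List.map_congr_left fun l hl => nl_of_lt (h l hl)

/-- the identification of the permutations of the points of the coset table of the presentation
with those of the points of the table of the 34 letters -/
def ΦB : Equiv.Perm (Fin table.n) ≃* Equiv.Perm (Fin XT.n) :=
  (finCongr (rfl : table.n = XT.n)).permCongrHom

theorem ΦB_apply_val (π : Equiv.Perm (Fin table.n)) (p : Fin XT.n) :
    ((ΦB π) p).val = (π ((finCongr (rfl : table.n = XT.n)).symm p)).val := rfl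

/-- the first eight letters are those of the coset table: their chunks are the same -/
theorem hagreeB : ∀ p, p < 122760 → ∀ l, l < 8 → XT.tau l p = table.tau l p := by
  intro p hp l hl
  unfold Table.tau
  rw [force_eq, force_eq]
  show slot 17 131072 (colX.look (Nat.add (Nat.mul l 120) (Nat.div p 1024))) (Nat.mod p 1024) =
    slot 17 131072 (colTT.look (Nat.add (Nat.mul l 120) (Nat.div p 1024))) (Nat.mod p 1024)
  congr 1
  unfold colX
  rw [BT.look_node]
  have hj : Nat.add (Nat.mul l 120) (Nat.div p 1024) ≤ 959 := by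
    show l * 120 + p / 1024 ≤ 959
    omega
  have : Nat.ble (Nat.add (Nat.mul l 120) (Nat.div p 1024)) 959 = true := Nat.ble_eq_true_of_le hj
  rw [this]
  rfl

theorem σ_eq_B (l : ℕ) (hl : l < 8) : ΦB (Table.sigma Cfsg.Agent.Lib.Helper28.TCONMain.hT l) = σ l := by
  apply Equiv.ext
  intro p
  apply Fin.ext
  have h1 : (σ l p).val = XT.tau l p.val :=
    Table.sigma_apply hXT (show l < XT.k by show l < 34; omega) p
  rw [ΦB_apply_val, Table.sigma_apply Cfsg.Agent.Lib.Helper28.TCONMain.hT
    (show l < table.k by show l < 8; exact hl), h1]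
  exact (hagreeB p.val p.2 l hl).symm

theorem lw_lt (xb : Cfsg.Spor.ON.Gen × Bool) : lw xb < 8 := by
  obtain ⟨x, b⟩ := xb
  cases x <;> cases b <;> simp [lw]

theorem pathOf_lt (L : List (Cfsg.Spor.ON.Gen × Bool)) : ∀ l ∈ pathOf lw L, l < 8 := by
  intro l hl
  unfold pathOf at hl
  rw [List.mem_reverse] at hl
  obtain ⟨xb, -, rfl⟩ := List.mem_map.mp hl
  exact lw_lt xb

/-- the isomorphism of the presented O'Nan group with the group of permutations -/
theorem exists_iso : ∃ e : OnHom.ON ≃* ↥G,
    (∀ L : List (Cfsg.Spor.ON.Gen × Bool),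
      e (PresentedGroup.mk rels (FreeGroup.mk L)) = gw (pathOf lw L)) ∧
    ∀ x, (e x).1 = ΦB (OnHom.phi x) := by
  have hφ := OnHom.phi_of
  have hinj := OnHom.phi_injective.1
  have hval : ∀ L : List (Cfsg.Spor.ON.Gen × Bool),
      ΦB (OnHom.phi (PresentedGroup.mk rels (FreeGroup.mk L))) = gwp (pathOf lw L) := by
    intro L
    rw [phi_mk link Cfsg.Agent.Lib.Helper28.TCONMain.hT OnHom.phi hφ L]
    unfold gwp
    rw [nw_of_lt _ fun l hl => lt_trans (pathOf_lt L l hl) (by norm_num)]
    have := map_pathProd ΦB.toMonoidHom (Table.sigma Cfsg.Agent.Lib.Helper28.TCONMain.hT) (pathOf lw L)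
    rw [MulEquiv.toMonoidHom_eq_coe, MonoidHom.coe_coe] at this
    rw [this]
    exact pathProd_congr _ _ _ fun l hl => σ_eq_B l (pathOf_lt L l hl)
  have hmem : ∀ x, ΦB (OnHom.phi x) ∈ G := by
    intro x
    obtain ⟨w, rfl⟩ := PresentedGroup.mk_surjective rels x
    obtain ⟨L, rfl⟩ := Quot.exists_rep w
    have := hval L
    rw [show (Quot.mk _ L : FreeGroup Cfsg.Spor.ON.Gen) = FreeGroup.mk L from rfl, this]
    exact gwp_mem _
  let φ' : OnHom.ON →* Equiv.Perm (Fin XT.n) := ΦB.toMonoidHom.comp OnHom.phi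
  let ψ : OnHom.ON →* ↥G := φ'.codRestrict G hmem
  have hψinj : Function.Injective ψ := by
    intro a b h
    have h1 : ΦB (OnHom.phi a) = ΦB (OnHom.phi b) := congrArg Subtype.val h
    exact hinj (ΦB.injective h1)
  have hle : G ≤ φ'.range := by
    unfold G baseGroup
    rw [Subgroup.closure_le]
    rintro π ⟨l, hl, rfl⟩
    obtain ⟨x, hx⟩ := sigma_mem_range link Cfsg.Agent.Lib.Helper28.TCONMain.hT OnHom.phi hφ l hl
    refine ⟨x, ?_⟩
    show ΦB (OnHom.phi x) = Table.sigma hXT l
    rw [hx]
    exact σ_eq_B l hl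
  have hψsurj : Function.Surjective ψ := by
    rintro ⟨g, hg⟩
    obtain ⟨x, hx⟩ := hle hg
    exact ⟨x, Subtype.ext hx⟩
  exact ⟨MulEquiv.ofBijective ψ ⟨hψinj, hψsurj⟩, fun L => Subtype.ext (hval L), fun x => rfl⟩

theorem card_G : Nat.card ↥G = 460815505920 := by
  obtain ⟨e, -, -⟩ := exists_iso
  rw [← Nat.card_congr e.toEquiv]
  exact OnHom.phi_injective.2

instance finite_G : Finite ↥G := Nat.finite_of_card_ne_zero (by rw [card_G]; norm_num)

instance isSimpleGroup_G : IsSimpleGroup ↥G := by
  obtain ⟨e, -, -⟩ := exists_iso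
  have : IsSimpleGroup OnHom.ON := Cfsg.Agent.S1699.result.1
  exact e.isSimpleGroup_congr.mp this

/-! ### equality of elements by the images of the base points -/

/-- the base points -/
def RB : List ℕ := [0, 1, 2, 5]

theorem RB_lt : ∀ b ∈ RB, b < XT.n := by decide

/-- an element of the group fixing the base points is trivial -/
theorem rigid (g : Equiv.Perm (Fin XT.n)) (hg : g ∈ G)
    (hfix : ∀ b ∈ RB, ∀ hb : b < XT.n, g ⟨b, hb⟩ = ⟨b, hb⟩) : g = 1 := by
  obtain ⟨e, -, he⟩ := exists_iso
  obtain ⟨x, hx⟩ := e.surjective ⟨g, hg⟩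
  obtain ⟨w, rfl⟩ := PresentedGroup.mk_surjective rels x
  obtain ⟨L, rfl⟩ := Quot.exists_rep w
  have hgx : g = ΦB (OnHom.phi (PresentedGroup.mk rels (FreeGroup.mk L))) := by
    rw [← he]
    exact (congrArg Subtype.val hx).symm
  have h1 : (PresentedGroup.mk rels (FreeGroup.mk L) : OnHom.ON) = 1 := by
    apply OnHom.eq_one_of_base
    intro b hb
    have hb' : b ∈ RB := by
      simp only [List.mem_cons, List.not_mem_nil, or_false] at hb
      unfold RB
      simp only [List.mem_cons, List.not_mem_nil, or_false]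
      omega
    have hbn : b < XT.n := RB_lt b hb'
    have h2 := congrArg Fin.val (hfix b hb' hbn)
    rw [hgx, ΦB_apply_val, phi_mk_apply link Cfsg.Agent.Lib.Helper28.TCONMain.hT OnHom.phi OnHom.phi_of L] at h2
    exact h2
  rw [hgx]
  have : (Quot.mk _ L : FreeGroup Cfsg.Spor.ON.Gen) = FreeGroup.mk L := rfl
  rw [h1, map_one, map_one]

/-- Boolean equality of the elements of two words: the images of the base points -/
def sigEq (w w' : List ℕ) : Bool := RB.all fun b => Nat.beq (wk w b) (wk w' b)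

theorem sigEq_iff (w w' : List ℕ) : sigEq w w' = true ↔ gw w = gw w' := by
  unfold sigEq
  rw [List.all_eq_true]
  constructor
  · intro h
    have h1 : (gwp w')⁻¹ * gwp w = 1 := by
      apply rigid _ (G.mul_mem (G.inv_mem (gwp_mem w')) (gwp_mem w))
      intro b hb hbn
      rw [Equiv.Perm.mul_apply, Equiv.Perm.inv_eq_iff_eq]
      apply Fin.ext
      rw [gwp_apply, gwp_apply]
      exact Nat.eq_of_beq_eq_true (h b hb)
    rw [inv_mul_eq_one] at h1
    exact Subtype.ext h1.symm
  · intro h b hb
    have hbn := RB_lt b hb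
    have := congrArg (fun g : ↥G => (g.1 ⟨b, hbn⟩).val) h
    have e1 : ((gw w).1 ⟨b, hbn⟩).val = wk w b := gwp_apply w ⟨b, hbn⟩
    have e2 : ((gw w').1 ⟨b, hbn⟩).val = wk w' b := gwp_apply w' ⟨b, hbn⟩
    rw [e1, e2] at this
    rw [this]
    exact Nat.beq_refl _

theorem sigEq_eq_false_iff (w w' : List ℕ) : sigEq w w' = false ↔ gw w ≠ gw w' := by
  rw [Ne, ← sigEq_iff, Bool.not_eq_true]

/-- the code of an element: the images of the base points -/
def hcode (g : ↥G) : ℕ :=
  RB.foldl (fun acc b => acc * 131072 + if h : b < XT.n then (g.1 ⟨b, h⟩).val else 0) 0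

/-- the code of the element of a word -/
def codeW (w : List ℕ) : ℕ := RB.foldl (fun acc b => acc * 131072 + wk w b) 0

theorem foldl_congr' (f f' : ℕ → ℕ) (l : List ℕ) (h : ∀ b ∈ l, f b = f' b) (a : ℕ) :
    l.foldl (fun acc b => acc * 131072 + f b) a = l.foldl (fun acc b => acc * 131072 + f' b) a := by
  induction l generalizing a with
  | nil => rfl
  | cons b l ih =>
    rw [List.foldl_cons, List.foldl_cons, h b List.mem_cons_self]
    exact ih (fun x hx => h x (List.mem_cons_of_mem _ hx)) _

theorem codeW_eq (w : List ℕ) : codeW w = hcode (gw w) := by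
  unfold codeW hcode
  apply foldl_congr'
  intro b hb
  rw [dif_pos (RB_lt b hb)]
  exact (gwp_apply w ⟨b, RB_lt b hb⟩).symm

theorem foldl_inj (f f' : ℕ → ℕ) (l : List ℕ) (hf : ∀ b ∈ l, f b < 131072)
    (hf' : ∀ b ∈ l, f' b < 131072) (a a' : ℕ)
    (h : l.foldl (fun acc b => acc * 131072 + f b) a =
      l.foldl (fun acc b => acc * 131072 + f' b) a') :
    a = a' ∧ ∀ b ∈ l, f b = f' b := by
  induction l generalizing a a' with
  | nil => exact ⟨h, fun b hb => absurd hb List.not_mem_nil⟩
  | cons b l ih =>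
    rw [List.foldl_cons, List.foldl_cons] at h
    obtain ⟨h1, h2⟩ := ih (fun x hx => hf x (List.mem_cons_of_mem _ hx))
      (fun x hx => hf' x (List.mem_cons_of_mem _ hx)) _ _ h
    have hb := hf b List.mem_cons_self
    have hb' := hf' b List.mem_cons_self
    have e1 : a = a' := by omega
    have e2 : f b = f' b := by omega
    refine ⟨e1, ?_⟩
    intro x hx
    rcases List.mem_cons.mp hx with rfl | hx
    · exact e2
    · exact h2 x hx

theorem hcode_injective : Function.Injective hcode := by
  intro g g' h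
  unfold hcode at h
  have hlt : ∀ (k : ↥G), ∀ b ∈ RB, (if h : b < XT.n then (k.1 ⟨b, h⟩).val else 0) < 131072 := by
    intro k b hb
    rw [dif_pos (RB_lt b hb)]
    have : (k.1 ⟨b, RB_lt b hb⟩).val < 122760 := (k.1 ⟨b, RB_lt b hb⟩).2
    omega
  obtain ⟨-, h2⟩ := foldl_inj _ _ RB (hlt g) (hlt g') 0 0 h
  have h1 : g'.1⁻¹ * g.1 = 1 := by
    apply rigid _ (G.mul_mem (G.inv_mem g'.2) g.2)
    intro b hb hbn
    rw [Equiv.Perm.mul_apply, Equiv.Perm.inv_eq_iff_eq]
    apply Fin.ext
    have := h2 b hb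
    rw [dif_pos hbn, dif_pos hbn] at this
    exact this
  rw [inv_mul_eq_one] at h1
  exact Subtype.ext h1.symm

theorem gw_eq_of_code {w w' : List ℕ} (h : codeW w = codeW w') : gw w = gw w' := by
  apply hcode_injective
  rw [← codeW_eq, ← codeW_eq, h]

end

end Cfsg.Agent.Lib.Helper15.OnO
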