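import Cfsg.Agent.Lib.Helper15.OnOTable
set_option autoImplicit false
set_option maxRecDepth 100000
set_option maxHeartbeats 0
set_option Elab.async false

/-! Checks of the table of the O'Nan group on 122760 points: the inverse letters, the defining words. -/

namespace Cfsg.Agent.Lib.Helper15.OnO
open Cfsg.Agent.Lib.Helper28.TC2Upper Cfsg.Agent.Lib.Helper28.TC2Lower Cfsg.Agent.Lib.Helper28.TC2Range
open Cfsg.Agent.Lib.Helper28.TC2Bsgs

theorem hinvX : XT.invOK = true := by decide +kernel

theorem hdefsLt : defsLt 8 34 defsX = true := by decide +kernel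

/-- all the derived letters act as their defining words -/
noncomputable def defAll (lo cnt : ℕ) : Bool :=
  allLoop (fun i => defRange XT defsX (Nat.add 8 i) lo cnt) 26

end Cfsg.Agent.Lib.Helper15.OnO
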