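import Cfsg.Agent.Lib.Helper15.OnOClsDef

set_option autoImplicit false
set_option maxRecDepth 100000
set_option maxHeartbeats 0
set_option Elab.async false

/-!
Further checks for the O'Nan group on 122760 points: the element of order 11, an element normalising
it, the two involutions of the generating pairs, the exceptional conjugates, the involution letters
as conjugates of the involution `a`, the generators as words in the generating pair, the images of
the generators under the outer automorphism and the relators for them, elements of orders 3, 5 and 7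
centralising the involution `a`.
-/

namespace Cfsg.Agent.Lib.Helper15.OnO
open Cfsg.Agent.Lib.Helper28.TC2Upper Cfsg.Agent.Lib.Helper28.TC2Lower

noncomputable section

theorem chk_y11 : sigEq (rpt 11 [32]) [] = true := by decide +kernel

theorem chk_y1 : sigEq [32] [] = false := by decide +kernel

theorem chk_yinv : sigEq [32, 33] [] = true := by decide +kernel

theorem chk_ginv : sigEq [0, 1] [] = true := by decide +kernel

/-- the word of an element normalising the subgroup of order 11 -/
def NN : List ℕ := [14, 30, 31, 11, 31, 30, 14, 11, 31, 20, 17, 23, 17, 20, 31, 11]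

theorem chk_n : sigEq (cj NN [32]) (rpt 8 [32]) = true := by decide +kernel

/-- the word of the involution of the first generating pair -/
def T0W : List ℕ := [18, 28, 13, 19, 13, 28, 18]

/-- the word of the involution of the second generating pair -/
def T2W : List ℕ := [13, 4, 30, 15, 4, 15, 30, 4, 13]

/-- a word conjugating the involution `a` to the involution of the first generating pair -/
def C0 : List ℕ := [3, 1, 18, 13, 28, 18]

theorem chk_t0 : sigEq T0W (cj C0 [2]) = true := by decide +kernel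

theorem chk_rel : relFailA T0W = false := by decide +kernel

/-- the codes of the conjugates of the two involutions by the powers of the element of order 11 -/
def excL : List ℕ :=
  ((List.range 11).map fun i => codeW (cj (rpt i [32]) T0W)) ++
    ((List.range 11).map fun i => codeW (cj (rpt i [32]) T2W))

theorem chk_exc : (EXC.all fun c => memB c excL) = true := by decide +kernel

/-- the involution letters as conjugates of the involution `a` -/
def MIDs : List (ℕ × List ℕ) :=
  [(2, []), (3, [11]), (4, [11, 16]), (5, [11, 19, 23, 3, 26]), (6, [3, 25, 0, 30, 11, 25]), (7, [11, 19, 23, 3, 26, 29]), (8, [19, 29, 14, 6, 26]), (9, [12, 24, 17, 23, 20]), (10, [12, 24, 23, 17, 9]), (11, [3]), (12, [3, 1]), (13, [12, 24, 14, 27, 14]), (14, [22, 6, 0, 4, 24]), (15, [11, 12]), (16, [11, 4]), (17, [12, 24, 23, 0, 23]), (18, [3, 21, 2, 31, 20]), (19, [3, 1, 18]), (20, [12, 24, 16, 31, 13]), (21, [3, 1, 28]), (22, [11, 22, 3, 22, 3]), (23, [3, 23, 11]), (24, [3, 1, 24, 9]), (25, [3, 25, 5]), (26,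 [12, 27, 25, 22, 21]), (27, [12, 24, 17, 23, 14]), (28, [3, 1, 21]), (29, [25, 2, 25, 14]), (30, [3, 1, 22]), (31, [24, 12, 23, 16])]

theorem chk_mid : (MIDs.all fun p => sigEq [p.1] (cj p.2 [2])) = true := by decide +kernel

theorem chk_mid_letters : MIDs.map Prod.fst = (List.range 30).map (· + 2) := by decide +kernel

/-! ### words in a generating pair -/

/-- the word of an abstract word in an involution (0), the element of order 11 (1) and its inverse -/
def iw (TW : List ℕ) (aw : List ℕ) : List ℕ :=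
  aw.flatMap fun s => cond (Nat.beq s 0) TW (cond (Nat.beq s 1) [32] [33])

/-- abstract words conjugating the involution of the pair to the generators `a, …, f` -/
def MW : ℕ → List ℕ
  | 2 => [2, 0, 1, 1, 1, 1, 0, 2, 2, 0, 1, 0, 2, 2, 0, 1, 1, 1, 1, 0, 2, 2, 2, 0, 1, 1, 0]
  | 3 => [1, 0, 2, 0, 1, 1, 0, 2, 0, 1, 1, 1, 0, 2, 2, 2, 2, 0, 1, 1, 1, 0, 2, 0, 1, 0, 2, 0, 1, 0]
  | 4 => [1, 1, 0, 2, 0, 1, 1, 1, 0, 2, 0, 1, 1, 0, 2, 2, 2, 2, 0, 1, 1, 0, 2, 0, 1, 0]
  | 5 => [2, 2, 2, 2, 0, 1, 1, 1, 0, 2, 0, 1, 0, 2, 0, 1, 0, 2, 0, 1, 1, 0, 2, 2, 0, 1, 0, 2, 2, 2, 2, 0, 1]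
  | 6 => [1, 1, 1, 0, 2, 2, 2, 2, 0, 1, 1, 0, 2, 0, 1, 1, 1, 1, 0, 2, 2, 2, 2, 0, 1, 1, 1, 0, 2, 0, 1]
  | _ => [1, 0, 2, 2, 2, 2, 0, 1, 0, 2, 2, 2, 0, 1, 1, 0, 2, 0, 1, 0, 2, 0, 1, 1, 1, 0, 2, 2, 0, 1, 0, 2, 2, 0, 1, 1]

/-- abstract words conjugating the involution of the pair to two involutions with the product `g` -/
def GG2 : List ℕ := [2, 0, 1, 0, 2, 2, 0, 1, 1, 1, 0, 2, 2, 2, 0, 1, 1, 1, 0, 2, 0, 1, 1, 1, 0, 2, 2]
def GG1 : List ℕ := [1, 0, 2, 0, 1, 1, 1, 0, 2, 0, 1, 0, 2, 2, 2, 2, 0, 1, 1, 1]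

/-- the words of the eight letters in terms of a pair -/
def imgW (TW : List ℕ) (l : ℕ) : List ℕ :=
  cond (Nat.beq l 0) (cj (iw TW GG2) TW ++ cj (iw TW GG1) TW)
    (cond (Nat.beq l 1) (winv (cj (iw TW GG2) TW ++ cj (iw TW GG1) TW)) (cj (iw TW (MW l)) TW))

theorem chk_gen : ((List.range 8).all fun l => sigEq [l] (imgW T0W l)) = true := by decide +kernel

/-- the images of the generators under the outer automorphism are involutions -/
theorem chk_inv2 : ([2, 3, 4, 5, 6, 7].all fun l => sigEq (imgW T2W l ++ imgW T2W l) []) = true := by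
  decide +kernel

/-- the relators hold for the images of the generators under the outer automorphism -/
theorem chk_rels : (Cfsg.Agent.Lib.Helper28.TCONTable.relPaths.all fun r =>
    sigEq (r.flatMap (imgW T2W)) []) = true := by decide +kernel

/-- words in the first eight letters for the involution of the first pair and the element of order 11 -/
def T0B : List ℕ := [4, 3, 4, 1, 5, 0, 4, 3, 4, 0, 3, 2, 3, 1, 0, 4, 3, 4, 1, 5, 0, 4, 3, 4, 0, 3, 2, 3, 1, 4, 3, 4, 1, 5, 0, 4, 3, 4, 1, 0, 3, 2, 3, 1, 7, 6, 7, 4, 3, 4, 1, 5, 0, 4, 3, 4, 0, 3, 2, 3, 1, 4, 3, 4, 1, 5, 0, 4, 3, 4, 7, 6, 7, 0, 3, 2, 3, 1, 0, 4, 3, 4, 1, 5, 0, 4, 3, 4, 0, 3, 2, 3, 1, 4, 3, 4, 1, 5, 0, 4, 3, 4, 1, 0, 3, 2, 3, 1, 4, 3, 4, 1, 5, 0, 4, 3, 4]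
def YB : List ℕ := [3, 0, 6, 5, 4]

theorem chk_t0b : sigEq T0B T0W = true := by decide +kernel
theorem chk_yb : sigEq YB [32] = true := by decide +kernel

theorem chk_base_lt : ((T0B ++ YB).all fun l => Nat.blt l 8) = true := by decide +kernel

/-- the outer automorphism maps the first pair to the second pair -/
theorem chk_img_t : sigEq (T0B.flatMap (imgW T2W)) T2W = true := by decide +kernel
theorem chk_img_y : sigEq (YB.flatMap (imgW T2W)) [32] = true := by decide +kernel

/-- a word in the pair: its element has fixed points for the first pair and none for the second pair -/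
def UW (TW : List ℕ) : List ℕ := TW ++ rpt 6 [32] ++ TW ++ rpt 2 [32]

theorem chk_fix : Nat.beq (wk (UW T0W) 20035) 20035 = true := by decide +kernel

/-! ### the centraliser of the involution `a` -/

def C3a : List ℕ := [5, 6]
def C3b : List ℕ := [5, 9, 17, 9]
def C5 : List ℕ := [6, 14]
def C7 : List ℕ := [2, 4, 5, 23]

theorem chk_c3a : (sigEq (rpt 3 C3a) [] && !(sigEq C3a []) && sigEq ([2] ++ C3a) (C3a ++ [2])) = true := by
  decide +kernel

theorem chk_c3b : (sigEq (rpt 3 C3b) [] && !(sigEq C3b []) && sigEq ([2] ++ C3b) (C3b ++ [2])) = true := by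
  decide +kernel

theorem chk_c3ab : (sigEq (C3a ++ C3b) (C3b ++ C3a) && !(sigEq C3b C3a) && !(sigEq C3b (rpt 2 C3a))) =
    true := by
  decide +kernel

theorem chk_c5 : (sigEq (rpt 5 C5) [] && !(sigEq C5 []) && sigEq ([2] ++ C5) (C5 ++ [2])) = true := by
  decide +kernel

theorem chk_c7 : (sigEq (rpt 7 C7) [] && !(sigEq C7 []) && sigEq ([2] ++ C7) (C7 ++ [2])) = true := by
  decide +kernel

end

end Cfsg.Agent.Lib.Helper15.OnO
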