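import Cfsg.Agent.Lib.Helper15.OnOCls00
import Cfsg.Agent.Lib.Helper15.OnOCls01
import Cfsg.Agent.Lib.Helper15.OnOCls02
import Cfsg.Agent.Lib.Helper15.OnOCls03
import Cfsg.Agent.Lib.Helper15.OnOCls04
import Cfsg.Agent.Lib.Helper15.OnOCls05
import Cfsg.Agent.Lib.Helper15.OnOCls06
import Cfsg.Agent.Lib.Helper15.OnOCls07
import Cfsg.Agent.Lib.Helper15.OnOCls08
import Cfsg.Agent.Lib.Helper15.OnOCls09
import Cfsg.Agent.Lib.Helper15.OnOCls10
import Cfsg.Agent.Lib.Helper15.OnOCls11
import Cfsg.Agent.Lib.Helper15.OnOCls12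
import Cfsg.Agent.Lib.Helper15.OnOCls13
import Cfsg.Agent.Lib.Helper15.OnOCls14
import Cfsg.Agent.Lib.Helper15.OnOCls15
import Cfsg.Agent.Lib.Helper15.OnOCls16
import Cfsg.Agent.Lib.Helper15.OnOCls17
import Cfsg.Agent.Lib.Helper15.OnOCls18
import Cfsg.Agent.Lib.Helper15.OnOCls19
import Cfsg.Agent.Lib.Helper15.OnOCls20
import Cfsg.Agent.Lib.Helper15.OnOCls21
import Cfsg.Agent.Lib.Helper15.OnOCls22
import Cfsg.Agent.Lib.Helper15.OnOCls23
import Cfsg.Agent.Lib.Helper15.OnOCls24
import Cfsg.Agent.Lib.Helper15.OnOCls25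
import Cfsg.Agent.Lib.Helper15.OnOCls26
import Cfsg.Agent.Lib.Helper15.OnOCls27
import Cfsg.Agent.Lib.Helper15.OnOCls28
import Cfsg.Agent.Lib.Helper15.OnOCls29
import Cfsg.Agent.Lib.Helper15.OnOCls30
import Cfsg.Agent.Lib.Helper15.OnOCls31
import Cfsg.Agent.Lib.Helper15.OnOCls32
import Cfsg.Agent.Lib.Helper15.OnOCls33
import Cfsg.Agent.Lib.Helper15.OnOCls34
import Cfsg.Agent.Lib.Helper15.OnOCls35
import Cfsg.Agent.Lib.Helper15.OnOCls36
import Cfsg.Agent.Lib.Helper15.OnOCls37
import Cfsg.Agent.Lib.Helper15.OnOCls38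
import Cfsg.Agent.Lib.Helper15.OnOCls39
import Cfsg.Agent.Lib.Helper15.OnOCls40
import Cfsg.Agent.Lib.Helper15.OnOCls41
import Cfsg.Agent.Lib.Helper15.OnOCls42
import Cfsg.Agent.Lib.Helper15.OnOCls43
import Cfsg.Agent.Lib.Helper15.OnOCls44
import Cfsg.Agent.Lib.Helper15.OnOCls45
import Cfsg.Agent.Lib.Helper15.OnOCls46
import Cfsg.Agent.Lib.Helper15.OnOCls47
import Cfsg.Agent.Lib.Helper15.OnOCls48
import Cfsg.Agent.Lib.Helper15.OnOCls49
import Cfsg.Agent.Lib.Helper15.OnOCls50
import Cfsg.Agent.Lib.Helper15.OnOCls51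
import Cfsg.Agent.Lib.Helper15.OnOCls52
import Cfsg.Agent.Lib.Helper15.OnOCls53
import Cfsg.Agent.Lib.Helper15.OnOCls54
import Cfsg.Agent.Lib.Helper15.OnOCls55
import Cfsg.Agent.Lib.Helper15.OnOCls56
import Cfsg.Agent.Lib.Helper15.OnOCls57
import Cfsg.Agent.Lib.Helper15.OnOCls58
import Cfsg.Agent.Lib.Helper15.OnOCls59
import Cfsg.Agent.Lib.Helper15.OnOCls60
import Cfsg.Agent.Lib.Helper15.OnOCls61
import Cfsg.Agent.Lib.Helper15.OnOCls62
import Cfsg.Agent.Lib.Helper15.OnOCls63
import Cfsg.Agent.Lib.Helper15.OnOCls64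
import Cfsg.Agent.Lib.Helper15.OnOCls65
import Cfsg.Agent.Lib.Helper15.OnOCls66
import Cfsg.Agent.Lib.Helper15.OnOCls67
import Cfsg.Agent.Lib.Helper15.OnOCls68
import Cfsg.Agent.Lib.Helper15.OnOCls69
import Cfsg.Agent.Lib.Helper15.OnOCls70
import Cfsg.Agent.Lib.Helper15.OnOCls71
import Cfsg.Agent.Lib.Helper15.OnOCls72
import Cfsg.Agent.Lib.Helper15.OnOCls73
import Cfsg.Agent.Lib.Helper15.OnOCls74
import Cfsg.Agent.Lib.Helper15.OnOCls75
import Cfsg.Agent.Lib.Helper15.OnOCls76
import Cfsg.Agent.Lib.Helper15.OnOCls77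
import Cfsg.Agent.Lib.Helper15.OnOCls78
import Cfsg.Agent.Lib.Helper15.OnOCls79
import Cfsg.Agent.Lib.Helper15.OnOCls80
import Cfsg.Agent.Lib.Helper15.OnOCls81
import Cfsg.Agent.Lib.Helper15.OnOCls82
import Cfsg.Agent.Lib.Helper15.OnOCls83
import Cfsg.Agent.Lib.Helper15.OnOCls84
import Cfsg.Agent.Lib.Helper15.OnOCls85
import Cfsg.Agent.Lib.Helper15.OnOCls86
import Cfsg.Agent.Lib.Helper15.OnOCls87
import Cfsg.Agent.Lib.Helper15.OnOMainChk

set_option autoImplicit false
set_option maxRecDepth 100000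

/-!
The involutions of the O'Nan group on 122760 points: the 2857239 packed words give pairwise different
conjugates of the involution `a`, each of which fails a relation with the element of order 11 or has
one of the 22 exceptional codes.
-/

namespace Cfsg.Agent.Lib.Helper15.OnO
open Cfsg.Agent.Lib.Helper28.TC2Upper Cfsg.Agent.Lib.Helper28.TC2Lower Cfsg.Agent.Lib.Helper28.TC2Range
open Cfsg.Agent.Lib.Helper28.TC2Bsgs

attribute [local irreducible] wk gwp codeW

noncomputable section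

/-- the packed lists of the files -/
def clsFD : BT (BT ℕ) := (BT.node 43 (BT.node 21 (BT.node 10 (BT.node 5 (BT.node 2 (BT.node 1 (BT.node 0 (BT.leaf fileD0) (BT.leaf fileD1)) (BT.leaf fileD2)) (BT.node 4 (BT.node 3 (BT.leaf fileD3) (BT.leaf fileD4)) (BT.leaf fileD5))) (BT.node 8 (BT.node 7 (BT.node 6 (BT.leaf fileD6) (BT.leaf fileD7)) (BT.leaf fileD8)) (BT.node 9 (BT.leaf fileD9) (BT.leaf fileD10)))) (BT.node 16 (BT.node 13 (BT.node 12 (BT.node 11 (BT.leaf fileD11) (BT.leaf fileD12)) (BT.leaf fileD13)) (BT.node 15 (BT.node 14 (BT.leaf fileD14) (BT.leaf fileD15)) (BT.leaf fileD16))) (BT.node 19 (BT.node 18 (BT.node 17 (BT.leaf fileD17) (BT.leaf fileD18)) (BT.leaf fileD19)) (BT.node 20 (BT.leaf fileD20) (BT.leaf fileD21))))) (BT.node 32 (BT.node 27 (BT.node 24 (BT.node 23 (BT.node 22 (BT.leaf fileD22) (BT.leaf fileD23)) (BT.leaf fileD24)) (BT.node 26 (BT.node 25 (BT.leaf fileD25) (BT.leaf fileD26)) (BT.leaf fileD27))) (BT.node 30 (BT.node 29 (BT.node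 28 (BT.leaf fileD28) (BT.leaf fileD29)) (BT.leaf fileD30)) (BT.node 31 (BT.leaf fileD31) (BT.leaf fileD32)))) (BT.node 38 (BT.node 35 (BT.node 34 (BT.node 33 (BT.leaf fileD33) (BT.leaf fileD34)) (BT.leaf fileD35)) (BT.node 37 (BT.node 36 (BT.leaf fileD36) (BT.leaf fileD37)) (BT.leaf fileD38))) (BT.node 41 (BT.node 40 (BT.node 39 (BT.leaf fileD39) (BT.leaf fileD40)) (BT.leaf fileD41)) (BT.node 42 (BT.leaf fileD42) (BT.leaf fileD43)))))) (BT.node 65 (BT.node 54 (BT.node 49 (BT.node 46 (BT.node 45 (BT.node 44 (BT.leaf fileD44) (BT.leaf fileD45)) (BT.leaf fileD46)) (BT.node 48 (BT.node 47 (BT.leaf fileD47) (BT.leaf fileD48)) (BT.leaf fileD49))) (BT.node 52 (BT.node 51 (BT.node 50 (BT.leaf fileD50) (BT.leaf fileD51)) (BT.leaf fileD52)) (BT.node 53 (BT.leaf fileD53) (BT.leaf fileD54)))) (BT.node 60 (BT.node 57 (BT.node 56 (BT.node 55 (BT.leaf fileD55) (BT.leaf fileD56)) (BT.leaf fileD57)) (BT.node 59 (BT.node 58 (BT.leaf fileD58) (BT.leaf fileD59)) (BT.leaf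 fileD60))) (BT.node 63 (BT.node 62 (BT.node 61 (BT.leaf fileD61) (BT.leaf fileD62)) (BT.leaf fileD63)) (BT.node 64 (BT.leaf fileD64) (BT.leaf fileD65))))) (BT.node 76 (BT.node 71 (BT.node 68 (BT.node 67 (BT.node 66 (BT.leaf fileD66) (BT.leaf fileD67)) (BT.leaf fileD68)) (BT.node 70 (BT.node 69 (BT.leaf fileD69) (BT.leaf fileD70)) (BT.leaf fileD71))) (BT.node 74 (BT.node 73 (BT.node 72 (BT.leaf fileD72) (BT.leaf fileD73)) (BT.leaf fileD74)) (BT.node 75 (BT.leaf fileD75) (BT.leaf fileD76)))) (BT.node 82 (BT.node 79 (BT.node 78 (BT.node 77 (BT.leaf fileD77) (BT.leaf fileD78)) (BT.leaf fileD79)) (BT.node 81 (BT.node 80 (BT.leaf fileD80) (BT.leaf fileD81)) (BT.leaf fileD82))) (BT.node 85 (BT.node 84 (BT.node 83 (BT.leaf fileD83) (BT.leaf fileD84)) (BT.leaf fileD85)) (BT.node 86 (BT.leaf fileD86) (BT.leaf fileD87)))))))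

/-- the packed list of the part `c` -/
def gD (c : ℕ) : ℕ := (clsFD.look (c / 64)).look (c % 64)

theorem allChk (c : ℕ) (hc : c < 5581) :
    scanC (gD c) (clsBT.look c) (gN c) (clsBT.look (c + 1)) = true := by
  have hf : c / 64 < 88 := by omega
  have hj : c % 64 < 64 := Nat.mod_lt _ (by norm_num)
  have e : c = 64 * (c / 64) + c % 64 := (Nat.div_add_mod c 64).symm
  unfold gD
  generalize c / 64 = f at *
  generalize c % 64 = j at *
  subst e
  interval_cases f
  · exact fileChk0 j hj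
  · exact fileChk1 j hj
  · exact fileChk2 j hj
  · exact fileChk3 j hj
  · exact fileChk4 j hj
  · exact fileChk5 j hj
  · exact fileChk6 j hj
  · exact fileChk7 j hj
  · exact fileChk8 j hj
  · exact fileChk9 j hj
  · exact fileChk10 j hj
  · exact fileChk11 j hj
  · exact fileChk12 j hj
  · exact fileChk13 j hj
  · exact fileChk14 j hj
  · exact fileChk15 j hj
  · exact fileChk16 j hj
  · exact fileChk17 j hj
  · exact fileChk18 j hj
  · exact fileChk19 j hj
  · exact fileChk20 j hj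
  · exact fileChk21 j hj
  · exact fileChk22 j hj
  · exact fileChk23 j hj
  · exact fileChk24 j hj
  · exact fileChk25 j hj
  · exact fileChk26 j hj
  · exact fileChk27 j hj
  · exact fileChk28 j hj
  · exact fileChk29 j hj
  · exact fileChk30 j hj
  · exact fileChk31 j hj
  · exact fileChk32 j hj
  · exact fileChk33 j hj
  · exact fileChk34 j hj
  · exact fileChk35 j hj
  · exact fileChk36 j hj
  · exact fileChk37 j hj
  · exact fileChk38 j hj
  · exact fileChk39 j hj
  · exact fileChk40 j hj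
  · exact fileChk41 j hj
  · exact fileChk42 j hj
  · exact fileChk43 j hj
  · exact fileChk44 j hj
  · exact fileChk45 j hj
  · exact fileChk46 j hj
  · exact fileChk47 j hj
  · exact fileChk48 j hj
  · exact fileChk49 j hj
  · exact fileChk50 j hj
  · exact fileChk51 j hj
  · exact fileChk52 j hj
  · exact fileChk53 j hj
  · exact fileChk54 j hj
  · exact fileChk55 j hj
  · exact fileChk56 j hj
  · exact fileChk57 j hj
  · exact fileChk58 j hj
  · exact fileChk59 j hj
  · exact fileChk60 j hj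
  · exact fileChk61 j hj
  · exact fileChk62 j hj
  · exact fileChk63 j hj
  · exact fileChk64 j hj
  · exact fileChk65 j hj
  · exact fileChk66 j hj
  · exact fileChk67 j hj
  · exact fileChk68 j hj
  · exact fileChk69 j hj
  · exact fileChk70 j hj
  · exact fileChk71 j hj
  · exact fileChk72 j hj
  · exact fileChk73 j hj
  · exact fileChk74 j hj
  · exact fileChk75 j hj
  · exact fileChk76 j hj
  · exact fileChk77 j hj
  · exact fileChk78 j hj
  · exact fileChk79 j hj
  · exact fileChk80 j hj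
  · exact fileChk81 j hj
  · exact fileChk82 j hj
  · exact fileChk83 j hj
  · exact fileChk84 j hj
  · exact fileChk85 j hj
  · exact fileChk86 j hj
  · exact fileChk87 j (by omega)

theorem gN_eq (c : ℕ) : gN c = if c = 5580 then 279 else 512 := by
  unfold gN
  by_cases h : c = 5580
  · subst h; rfl
  · rw [if_neg h]
    have : Nat.beq c 5580 = false := by
      cases hb : Nat.beq c 5580
      · rfl
      · exact absurd (Nat.eq_of_beq_eq_true hb) h
    rw [this]
    rfl

/-- the packed word with the index `g` -/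
def gE (g : ℕ) : ℕ := ent (gD (g / 512)) (g % 512)

theorem idx_lt {g : ℕ} (hg : g < 2857239) : g / 512 < 5581 ∧ g % 512 < gN (g / 512) := by
  refine ⟨by omega, ?_⟩
  rw [gN_eq]
  split_ifs with h
  · omega
  · exact Nat.mod_lt _ (by norm_num)

theorem gE_ok {g : ℕ} (hg : g < 2857239) : eok (gE g) (ecode (gE g)) = true := by
  obtain ⟨h1, h2⟩ := idx_lt hg
  exact ((scanC_spec _ _ _ _ (allChk _ h1)).1 _ h2).1

theorem gE_bounds {g : ℕ} (hg : g < 2857239) :
    clsBT.look (g / 512) ≤ ecode (gE g) ∧ ecode (gE g) < clsBT.look (g / 512 + 1) := by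
  obtain ⟨h1, h2⟩ := idx_lt hg
  exact ((scanC_spec _ _ _ _ (allChk _ h1)).1 _ h2).2

theorem bd_mono : ∀ c2 c1, c1 ≤ c2 → c2 ≤ 5581 → clsBT.look c1 ≤ clsBT.look c2 := by
  intro c2
  induction c2 with
  | zero =>
    intro c1 h1 _
    have : c1 = 0 := by omega
    rw [this]
  | succ c2 ih =>
    intro c1 h1 h2
    rcases Nat.lt_succ_iff_lt_or_eq.mp (Nat.lt_succ_of_le h1) with h | rfl
    · exact le_trans (ih c1 (by omega) (by omega)) (scanC_spec _ _ _ _ (allChk c2 (by omega))).2.2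
    · exact le_rfl

/-- the codes increase with the index -/
theorem gE_mono {g g' : ℕ} (h : g < g') (hg' : g' < 2857239) : ecode (gE g) < ecode (gE g') := by
  have hg : g < 2857239 := lt_trans h hg'
  obtain ⟨h1, h2⟩ := idx_lt hg'
  rcases Nat.lt_or_ge (g / 512) (g' / 512) with hc | hc
  · have b1 := (gE_bounds hg).2
    have b2 := (gE_bounds hg').1
    have := bd_mono (g' / 512) (g / 512 + 1) (by omega) (by omega)
    omega
  · have hceq : g / 512 = g' / 512 := by
      have : g / 512 ≤ g' / 512 := Nat.div_le_div_right (le_of_lt h)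
      omega
    have hlt : g % 512 < g' % 512 := by omega
    have := (scanC_spec _ _ _ _ (allChk _ h1)).2.1 (g % 512) (g' % 512) hlt h2
    unfold gE
    rw [hceq]
    exact this

/-- the involution with the index `g` -/
def gX (g : ℕ) : ↥G := gw (cjW (gE g))

/-- the involution letters are conjugates of the involution `a` -/
theorem letter_conj (m : ℕ) (h2 : 2 ≤ m) (h32 : m < 32) : IsConj t (gw [m]) := by
  have hmem : m ∈ MIDs.map Prod.fst := by
    rw [chk_mid_letters, List.mem_map]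
    exact ⟨m - 2, List.mem_range.mpr (by omega), by omega⟩
  obtain ⟨p, hp, rfl⟩ := List.mem_map.mp hmem
  have h := chk_mid
  rw [List.all_eq_true] at h
  rw [(sigEq_iff _ _).mp (h p hp), gw_cj, isConj_iff]
  exact ⟨gw p.2, rfl⟩

theorem gX_conj (g : ℕ) : IsConj t (gX g) := by
  unfold gX cjW
  rw [gw_cj]
  have h1 : IsConj t (gw [mid (gE g)]) := letter_conj _ (ndig_range _ 5).1 (ndig_range _ 5).2
  have h2 : IsConj (gw [mid (gE g)]) (gw (wlist (gE g)) * gw [mid (gE g)] * (gw (wlist (gE g)))⁻¹) :=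
    isConj_iff.mpr ⟨gw (wlist (gE g)), rfl⟩
  exact h1.trans h2

theorem wk_lt_n (w : List ℕ) (p : ℕ) (hp : p < 122760) : wk w p < 122760 := by
  have := gwp_apply w ⟨p, hp⟩
  rw [← this]
  exact (gwp w ⟨p, hp⟩).2

theorem ecode_congr {W W' : ℕ} (h : gw (cjW W) = gw (cjW W')) : ecode W = ecode W' := by
  rw [ecode_wk, ecode_wk]
  apply codeF_congr' _ _ (fun p hp => wk_lt_n _ p hp)
  intro p hp
  have e : gwp (cjW W) = gwp (cjW W') := congrArg Subtype.val h
  rw [← gwp_apply (cjW W) ⟨p, hp⟩, ← gwp_apply (cjW W') ⟨p, hp⟩, e]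

theorem gX_inj {g g' : ℕ} (hg : g < 2857239) (hg' : g' < 2857239) (h : gX g = gX g') : g = g' := by
  have hc : ecode (gE g) = ecode (gE g') := ecode_congr h
  rcases Nat.lt_trichotomy g g' with hlt | heq | hgt
  · exact absurd hc (ne_of_lt (gE_mono hlt hg'))
  · exact heq
  · exact absurd hc.symm (ne_of_lt (gE_mono hgt hg))

/-- when the class of the involution `a` has at most 2857239 elements, every conjugate is listed -/
theorem exists_index (hcard : {x : ↥G | IsConj t x}.ncard ≤ 2857239) (x : ↥G) (hx : IsConj t x) :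
    ∃ g, g < 2857239 ∧ x = gX g := by
  let S : Finset ↥G := (Finset.range 2857239).image gX
  have hS : S.card = 2857239 := by
    rw [Finset.card_image_of_injOn, Finset.card_range]
    intro a ha b hb hab
    exact gX_inj (Finset.mem_range.mp ha) (Finset.mem_range.mp hb) hab
  have hsub : (↑S : Set ↥G) ⊆ {a | IsConj t a} := by
    intro z hz
    rw [Finset.mem_coe, Finset.mem_image] at hz
    obtain ⟨g, -, rfl⟩ := hz
    exact gX_conj g
  have heq : (↑S : Set ↥G) = {a | IsConj t a} := by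
    refine Set.eq_of_subset_of_ncard_le hsub ?_ (Set.toFinite _)
    rw [Set.ncard_coe_finset, hS]
    exact hcard
  have hmem : x ∈ (↑S : Set ↥G) := by rw [heq]; exact hx
  rw [Finset.mem_coe, Finset.mem_image] at hmem
  obtain ⟨g, hg, rfl⟩ := hmem
  exact ⟨g, Finset.mem_range.mp hg, rfl⟩

/-- a conjugate of the involution `a` fails a relation or has an exceptional code -/
theorem rel_or_exc (hcard : {x : ↥G | IsConj t x}.ncard ≤ 2857239) (x : ↥G) (hx : IsConj t x) :
    ¬ Rel x y ∨ hcode x ∈ EXC := by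
  obtain ⟨g, hg, rfl⟩ := exists_index hcard x hx
  have := eok_spec (gE g) (gE_ok hg)
  unfold gX
  rw [← codeW_eq]
  exact this

end

end Cfsg.Agent.Lib.Helper15.OnO
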