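import Cfsg.Agent.Lib.Helper15.OnOFast

set_option autoImplicit false
set_option maxRecDepth 100000

/-!
The O'Nan group on 122760 points: the two relations of a generating pair (an involution and an
element of order 11), the check that a conjugate of an involution letter fails one of them, and the
scan of a packed list of conjugates.
-/

namespace Cfsg.Agent.Lib.Helper15.OnO
open Cfsg.Agent.Lib.Helper28.TC2Upper Cfsg.Agent.Lib.Helper28.TC2Lower Cfsg.Agent.Lib.Helper28.TC2Range
open Cfsg.Agent.Lib.Helper28.TC2Bsgs

noncomputable section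

/-- the representative of the class of involutions: the generator `a` -/
def t : ↥G := gw [2]

/-- the element of order 11 -/
def y : ↥G := gw [32]

/-- the word of the fifth power of the element of order 11 -/
def Y5 : List ℕ := [32, 32, 32, 32, 32]

theorem gw_Y5 : gw Y5 = y ^ 5 := gw_rpt 5 [32]

/-- the relations of the generating pair -/
def Rel (t y : ↥G) : Prop := (y * t) ^ 3 = 1 ∧ (y ^ 5 * t) ^ 19 = 1

/-- the relations are preserved by homomorphisms -/
theorem Rel.map {t y : ↥G} (h : Rel t y) (f : ↥G →* ↥G) : Rel (f t) (f y) := by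
  obtain ⟨r1, r2⟩ := h
  refine ⟨?_, ?_⟩
  · rw [← map_mul, ← map_pow, r1, map_one]
  · rw [← map_pow f y 5, ← map_mul, ← map_pow, r2, map_one]

/-- the first relation, as a word -/
def R1 (A : List ℕ) : List ℕ := rpt 3 (A ++ [32])

/-- the second relation, as a word -/
def R2 (A : List ℕ) : List ℕ := rpt 19 (A ++ Y5)

theorem gw_R1 (A : List ℕ) : gw (R1 A) = (y * gw A) ^ 3 := by
  unfold R1
  rw [gw_rpt, gw_append]
  rfl

theorem gw_R2 (A : List ℕ) : gw (R2 A) = (y ^ 5 * gw A) ^ 19 := by
  unfold R2
  rw [gw_rpt, gw_append, gw_Y5]

/-- one of the two relations fails for the element of the word -/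
def relFailA (A : List ℕ) : Bool := !(sigEq (R1 A) []) || !(sigEq (R2 A) [])

theorem not_rel_of_fail {A : List ℕ} (h : relFailA A = true) : ¬ Rel (gw A) y := by
  rintro ⟨r1, r2⟩
  unfold relFailA at h
  have e1 : sigEq (R1 A) [] = true := by
    rw [sigEq_iff, gw_R1, gw_nil]
    exact r1
  have e2 : sigEq (R2 A) [] = true := by
    rw [sigEq_iff, gw_R2, gw_nil]
    exact r2
  rw [e1, e2] at h
  simp at h

theorem rel_of_not_fail {A : List ℕ} (h : relFailA A = false) : Rel (gw A) y := by
  unfold relFailA at h
  simp only [Bool.or_eq_false_iff, Bool.not_eq_false'] at h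
  obtain ⟨h1, h2⟩ := h
  rw [sigEq_iff, gw_R1, gw_nil] at h1
  rw [sigEq_iff, gw_R2, gw_nil] at h2
  exact ⟨h1, h2⟩

/-- the codes of the conjugates of the two involutions of the generating pairs by the powers of the
element of order 11 -/
def EXC : List ℕ := [210227279045733736367, 40450142348610061748, 139921080457118920537, 76229512125814805454, 221031348240495293072, 220190360083024829037, 265491054796363046656, 28454783669944910547, 149615042289904744185, 91433494665182282708, 205929374907475129028, 265115745755401528530, 75870744884219313631, 210844626717000945477, 154372668539701379074, 262510357391843720145, 175942580715229417375, 53922342553390328503, 8045452883092398714, 68319879475694243239, 224142579845119646989, 172025604320946737204]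

/-- the check of an involution which fixes the point 0 under the third power -/
def slowOK (W : ℕ) : Bool := relFailA (cjW W) || memB (codeW (cjW W)) EXC

/-- the check of an involution with the code `c` -/
def eok (W c : ℕ) : Bool := or (not (Nat.beq (Nat.land c 131071) 0)) (slowOK W)

theorem wk_step (W p : ℕ) : wk (cjW W ++ [32]) p = tauX 32 (wk (cjW W) p) := by
  rw [wk_append, wk_cons_X 32 (by norm_num) [] _, wk_nil]

theorem wk_R1 (W : ℕ) : wk (R1 (cjW W)) 0 =
    tauX 32 (nx (wk (cjW W)) (nx (wk (cjW W)) (wk (cjW W) 0))) := by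
  unfold R1 rpt rpt rpt rpt nx
  rw [wk_append, wk_append, wk_append, wk_nil, wk_step W 0, wk_step W _, wk_step W _]

theorem gw_ne_one_of_wk {w : List ℕ} {p : ℕ} (hp : p < XT.n) (h : wk w p ≠ p) : gw w ≠ 1 := by
  intro e
  apply h
  have := gwp_apply w ⟨p, hp⟩
  have e' : gwp w = 1 := congrArg Subtype.val e
  rw [e'] at this
  exact this.symm

theorem eok_spec (W : ℕ) (h : eok W (ecode W) = true) :
    ¬ Rel (gw (cjW W)) y ∨ codeW (cjW W) ∈ EXC := by
  unfold eok at h
  rw [Bool.or_eq_true] at h
  rcases h with h | h
  · left
    rintro ⟨r1, -⟩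
    rw [ecode_wk, codeF_mod, ← wk_R1] at h
    have hne : wk (R1 (cjW W)) 0 ≠ 0 := by
      intro e
      rw [e] at h
      simp at h
    apply gw_ne_one_of_wk (show 0 < XT.n by decide) hne
    rw [gw_R1]
    exact r1
  · unfold slowOK at h
    rw [Bool.or_eq_true] at h
    rcases h with h | h
    · exact Or.inl (not_rel_of_fail h)
    · exact Or.inr ((memB_iff _ _).mp h)

/-! ### the scan of a packed list of conjugates -/

/-- the entry `i` of a packed list: 30 bits for each entry -/
def ent (D i : ℕ) : ℕ := Nat.land (Nat.shiftRight D (Nat.mul 30 i)) 1073741823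

/-- the codes of the entries `0, …, n - 1` increase, lie in `[lo, prev)`, and the entries pass the check -/
def scanC (D lo : ℕ) (n : ℕ) : ℕ → Bool :=
  @Nat.rec (fun _ => ℕ → Bool) (fun prev => Nat.ble lo prev)
    (fun i ih prev => force (ent D i) fun W => force (ecode W) fun c =>
      and (Nat.blt c prev) (and (eok W c) (ih c))) n

theorem scanC_eq (D lo : ℕ) : ∀ (n prev : ℕ), scanC D lo n prev =
    scanG (fun i => ecode (ent D i)) (fun i => eok (ent D i) (ecode (ent D i))) lo n prev := by
  intro n
  induction n with
  | zero => intro prev; rfl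
  | succ n ih =>
    intro prev
    rw [scanG_succ, ← ih]
    show force (ent D n) (fun W => force (ecode W) fun c =>
      and (Nat.blt c prev) (and (eok W c) (scanC D lo n c))) = _
    rw [force_eq, force_eq]

/-- what a successful scan gives -/
theorem scanC_spec (D lo n prev : ℕ) (h : scanC D lo n prev = true) :
    (∀ i, i < n → eok (ent D i) (ecode (ent D i)) = true ∧ lo ≤ ecode (ent D i) ∧
      ecode (ent D i) < prev) ∧
    (∀ i j, i < j → j < n → ecode (ent D i) < ecode (ent D j)) ∧ lo ≤ prev := by
  rw [scanC_eq] at h
  exact scanG_spec _ _ lo n prev h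

end

end Cfsg.Agent.Lib.Helper15.OnO
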