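import Cfsg.Agent.Lib.Helper15.OnOBasic

set_option autoImplicit false
set_option maxRecDepth 100000

/-!
The O'Nan group on 122760 points: fast evaluation of conjugates of involution letters that are given
by packed words of five involution letters and a middle letter, and a scan of a packed list of such
words which checks that their codes increase and that each of them passes a check.
-/

namespace Cfsg.Agent.Lib.Helper15.OnO
open Cfsg.Agent.Lib.Helper28.TC2Upper Cfsg.Agent.Lib.Helper28.TC2Lower Cfsg.Agent.Lib.Helper28.TC2Range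
open Cfsg.Agent.Lib.Helper28.TC2Bsgs

noncomputable section

/-! ### membership in a list of numbers -/

/-- Boolean membership -/
def memB (a : ℕ) : List ℕ → Bool
  | [] => false
  | b :: l => Nat.beq a b || memB a l

theorem memB_iff (a : ℕ) : ∀ l : List ℕ, memB a l = true ↔ a ∈ l
  | [] => by simp [memB]
  | b :: l => by
    rw [memB, Bool.or_eq_true, memB_iff a l, List.mem_cons]
    constructor
    · rintro (h | h)
      · exact Or.inl (Nat.eq_of_beq_eq_true h)
      · exact Or.inr h
    · rintro (h | h)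
      · left; rw [h]; exact Nat.beq_refl _
      · exact Or.inr h

/-! ### the fast table lookup -/

/-- image of the point `p` under the letter `l` -/
def tauX (l p : ℕ) : ℕ :=
  force (Nat.add (Nat.mul l 120) (Nat.shiftRight p 10)) fun j =>
    Nat.land (Nat.shiftRight (colX.look j) (Nat.mul 17 (Nat.land p 1023))) 131071

theorem land_eq_mod (a : ℕ) : Nat.land a 131071 = a % 131072 := by
  have := Nat.and_two_pow_sub_one_eq_mod a 17
  norm_num at this
  exact this

theorem land_eq_mod' (a : ℕ) : Nat.land a 1023 = a % 1024 := by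
  have := Nat.and_two_pow_sub_one_eq_mod a 10
  norm_num at this
  exact this

theorem tauX_lt (l p : ℕ) : tauX l p < 131072 := by
  unfold tauX
  rw [force_eq, land_eq_mod]
  exact Nat.mod_lt _ (by norm_num)

theorem tauX_eq (l p : ℕ) : tauX l p = XT.tau l p := by
  unfold tauX Table.tau
  rw [force_eq, force_eq]
  show Nat.land (Nat.shiftRight (colX.look (Nat.add (Nat.mul l 120) (Nat.shiftRight p 10)))
      (Nat.mul 17 (Nat.land p 1023))) 131071 =
    slot 17 131072 (colX.look (Nat.add (Nat.mul l 120) (Nat.div p 1024))) (Nat.mod p 1024)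
  rw [land_eq_mod, land_eq_mod']
  have e : Nat.shiftRight p 10 = Nat.div p 1024 := by
    show p >>> 10 = p / 1024
    rw [Nat.shiftRight_eq_div_pow]
  rw [e]
  rfl

theorem tauX_lt_n (l p : ℕ) (hl : l < 34) (hp : p < 122760) : tauX l p < 122760 := by
  rw [tauX_eq l p]
  exact (hXT.perm p hp l hl).1

/-! ### packed words of five letters and a middle letter -/

/-- the field `i` of a packed word: five bits for each field -/
def dig (W i : ℕ) : ℕ := Nat.land (Nat.shiftRight W (Nat.mul 5 i)) 31

/-- the fields are read as involution letters: the values 0 and 1 are read as 2 -/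
def nd (d : ℕ) : ℕ := cond (Nat.ble 2 d) d 2

theorem land31_lt (a : ℕ) : Nat.land a 31 < 32 := by
  have := Nat.and_two_pow_sub_one_eq_mod a 5
  norm_num at this
  show a &&& 31 < 32
  rw [this]
  exact Nat.mod_lt _ (by norm_num)

theorem nd_range (d : ℕ) (hd : d < 32) : 2 ≤ nd d ∧ nd d < 32 := by
  unfold nd
  cases h : Nat.ble 2 d
  · exact ⟨le_rfl, by norm_num⟩
  · exact ⟨Nat.le_of_ble_eq_true h, hd⟩

/-- the letter `i` of a packed word -/
def ndig (W i : ℕ) : ℕ := nd (dig W i)

theorem ndig_range (W i : ℕ) : 2 ≤ ndig W i ∧ ndig W i < 32 := nd_range _ (land31_lt _)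

/-- the five letters of a packed word -/
def wlist (W : ℕ) : List ℕ := [ndig W 0, ndig W 1, ndig W 2, ndig W 3, ndig W 4]

/-- the middle letter of a packed word -/
def mid (W : ℕ) : ℕ := ndig W 5

/-- the image of a point under the conjugate of the letter `m` by the word of five letters: every
intermediate point is evaluated before it is passed on -/
def tp (d0 d1 d2 d3 d4 m p : ℕ) : ℕ :=
  force (tauX d4 p) fun p1 => force (tauX d3 p1) fun p2 => force (tauX d2 p2) fun p3 =>
  force (tauX d1 p3) fun p4 => force (tauX d0 p4) fun p5 => force (tauX m p5) fun p6 =>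
  force (tauX d0 p6) fun p7 => force (tauX d1 p7) fun p8 => force (tauX d2 p8) fun p9 =>
  force (tauX d3 p9) fun p10 => tauX d4 p10

theorem tp_eq (d0 d1 d2 d3 d4 m p : ℕ) : tp d0 d1 d2 d3 d4 m p =
    tauX d4 (tauX d3 (tauX d2 (tauX d1 (tauX d0 (tauX m
      (tauX d0 (tauX d1 (tauX d2 (tauX d3 (tauX d4 p)))))))))) := by
  unfold tp
  simp only [force_eq]

/-- the image of a point under the conjugate given by a packed word -/
def tpW (W p : ℕ) : ℕ := tp (ndig W 0) (ndig W 1) (ndig W 2) (ndig W 3) (ndig W 4) (mid W) p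

theorem tpW_lt (W p : ℕ) : tpW W p < 131072 := by
  unfold tpW
  rw [tp_eq]
  exact tauX_lt _ _

/-- the letters from 2 to 31 are involutions -/
theorem il_of_range : ∀ l, l < 32 → 2 ≤ l → il l = l := by decide +kernel

theorem il_ndig (W i : ℕ) : il (ndig W i) = ndig W i :=
  il_of_range _ (ndig_range W i).2 (ndig_range W i).1

theorem winv_wlist (W : ℕ) : winv (wlist W) = [ndig W 4, ndig W 3, ndig W 2, ndig W 1, ndig W 0] := by
  unfold winv wlist
  simp only [List.map_cons, List.map_nil, List.reverse_cons, List.reverse_nil, List.nil_append,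
    List.cons_append, il_ndig]

/-- the word of the conjugate given by a packed word -/
def cjW (W : ℕ) : List ℕ := cj (wlist W) [mid W]

theorem cjW_eq (W : ℕ) : cjW W =
    [ndig W 4, ndig W 3, ndig W 2, ndig W 1, ndig W 0, mid W,
      ndig W 0, ndig W 1, ndig W 2, ndig W 3, ndig W 4] := by
  unfold cjW cj
  rw [winv_wlist]
  rfl

theorem wk_cons (l : ℕ) (hl : l < 34) (w : List ℕ) (p : ℕ) : wk (l :: w) p = wk w (XT.tau l p) := by
  unfold wk nw
  rw [List.map_cons, nl_of_lt hl, Table.walkT_cons]

theorem wk_nil (p : ℕ) : wk [] p = p := rfl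

theorem wk_append (w w' : List ℕ) (p : ℕ) : wk (w ++ w') p = wk w' (wk w p) := by
  unfold wk nw
  rw [List.map_append, Table.walkT_append]

theorem wk_cons_X (l : ℕ) (hl : l < 34) (w : List ℕ) (p : ℕ) :
    wk (l :: w) p = wk w (tauX l p) := by
  rw [wk_cons l hl, tauX_eq l p]

theorem tpW_wk (W p : ℕ) : tpW W p = wk (cjW W) p := by
  have h0 := (ndig_range W 0).2
  have h1 := (ndig_range W 1).2
  have h2 := (ndig_range W 2).2
  have h3 := (ndig_range W 3).2
  have h4 := (ndig_range W 4).2
  have h5 : mid W < 32 := (ndig_range W 5).2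
  unfold tpW
  rw [tp_eq, cjW_eq, wk_cons_X _ (by omega), wk_cons_X _ (by omega), wk_cons_X _ (by omega),
    wk_cons_X _ (by omega), wk_cons_X _ (by omega), wk_cons_X _ (by omega), wk_cons_X _ (by omega),
    wk_cons_X _ (by omega), wk_cons_X _ (by omega), wk_cons_X _ (by omega), wk_cons_X _ (by omega),
    wk_nil]

/-! ### the code of an involution -/

/-- packing of two numbers -/
def pk (a b : ℕ) : ℕ := Nat.add (Nat.mul 131072 a) b

theorem pk_mod (a b : ℕ) (hb : b < 131072) : Nat.land (pk a b) 131071 = b := by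
  unfold pk
  rw [land_eq_mod]
  show (131072 * a + b) % 131072 = b
  omega

/-- the next point of the path: the element of order 11, then the map -/
def nx (f : ℕ → ℕ) (q : ℕ) : ℕ := f (tauX 32 q)

/-- the code of a map of the points: the images along the path of the point 0 under the map followed
by the element of order 11, three times, and the image of the point 100 -/
def codeF (f : ℕ → ℕ) : ℕ :=
  pk (pk (pk (pk (f 0) (nx f (f 0))) (nx f (nx f (f 0)))) (f 100)) (tauX 32 (nx f (nx f (f 0))))

/-- the code of the conjugate of the letter `m` by the word of five letters -/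
def ecode6 (d0 d1 d2 d3 d4 m : ℕ) : ℕ :=
  force (tp d0 d1 d2 d3 d4 m 0) fun q1 => force (tauX 32 q1) fun r1 =>
  force (tp d0 d1 d2 d3 d4 m r1) fun q2 => force (tauX 32 q2) fun r2 =>
  force (tp d0 d1 d2 d3 d4 m r2) fun q3 => force (tp d0 d1 d2 d3 d4 m 100) fun q4 =>
    pk (pk (pk (pk q1 q2) q3) q4) (tauX 32 q3)

/-- the code of the conjugate given by a packed word -/
def ecode (W : ℕ) : ℕ :=
  force (nd (Nat.land W 31)) fun d0 => force (nd (Nat.land (Nat.shiftRight W 5) 31)) fun d1 =>
  force (nd (Nat.land (Nat.shiftRight W 10) 31)) fun d2 =>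
  force (nd (Nat.land (Nat.shiftRight W 15) 31)) fun d3 =>
  force (nd (Nat.land (Nat.shiftRight W 20) 31)) fun d4 =>
  force (nd (Nat.land (Nat.shiftRight W 25) 31)) fun m => ecode6 d0 d1 d2 d3 d4 m

theorem ecode_eq (W : ℕ) : ecode W = codeF (tpW W) := by
  have e0 : nd (Nat.land W 31) = ndig W 0 := by
    unfold ndig dig
    show nd (W &&& 31) = nd ((W >>> (5 * 0)) &&& 31)
    rw [Nat.mul_zero, Nat.shiftRight_zero]
  have e1 : nd (Nat.land (Nat.shiftRight W 5) 31) = ndig W 1 := rfl
  have e2 : nd (Nat.land (Nat.shiftRight W 10) 31) = ndig W 2 := rfl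
  have e3 : nd (Nat.land (Nat.shiftRight W 15) 31) = ndig W 3 := rfl
  have e4 : nd (Nat.land (Nat.shiftRight W 20) 31) = ndig W 4 := rfl
  have e5 : nd (Nat.land (Nat.shiftRight W 25) 31) = mid W := rfl
  unfold ecode ecode6 codeF nx tpW
  simp only [force_eq, e0, e1, e2, e3, e4, e5]

theorem nx_congr' (f g : ℕ → ℕ) (hf : ∀ p, p < 122760 → f p < 122760)
    (h : ∀ p, p < 122760 → f p = g p)
    (q q' : ℕ) (hq : q = q') (hlt : q < 122760) : nx f q = nx g q' ∧ nx f q < 122760 := by
  unfold nx
  rw [← hq]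
  have := tauX_lt_n 32 q (by norm_num) hlt
  exact ⟨h _ this, hf _ this⟩

/-- the code depends only on the images of the points below 122760 -/
theorem codeF_congr' (f g : ℕ → ℕ) (hf : ∀ p, p < 122760 → f p < 122760)
    (h : ∀ p, p < 122760 → f p = g p) : codeF f = codeF g := by
  unfold codeF
  have e1 : f 0 = g 0 := h 0 (by norm_num)
  have l1 : f 0 < 122760 := hf 0 (by norm_num)
  obtain ⟨e2, l2⟩ := nx_congr' f g hf h _ _ e1 l1
  obtain ⟨e3, l3⟩ := nx_congr' f g hf h _ _ e2 l2
  have e6 : f 100 = g 100 := h 100 (by norm_num)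
  rw [e3, e2, e1, e6]

theorem ecode_wk (W : ℕ) : ecode W = codeF (wk (cjW W)) := by
  rw [ecode_eq]
  congr 1
  funext p
  exact tpW_wk W p

/-- the last component of the code: the image of the point 0 under the third power -/
theorem codeF_mod (f : ℕ → ℕ) :
    Nat.land (codeF f) 131071 = tauX 32 (nx f (nx f (f 0))) := by
  unfold codeF
  exact pk_mod _ _ (tauX_lt _ _)

/-! ### the scan of a list of numbers -/

/-- the values `cf 0 < cf 1 < … < cf (n - 1)` lie in `[lo, prev)`, and `okf` holds for the indices -/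
def scanG (cf : ℕ → ℕ) (okf : ℕ → Bool) (lo : ℕ) (n : ℕ) : ℕ → Bool :=
  @Nat.rec (fun _ => ℕ → Bool) (fun prev => Nat.ble lo prev)
    (fun i ih prev => and (Nat.blt (cf i) prev) (and (okf i) (ih (cf i)))) n

theorem scanG_zero (cf : ℕ → ℕ) (okf : ℕ → Bool) (lo prev : ℕ) :
    scanG cf okf lo 0 prev = Nat.ble lo prev := rfl

theorem scanG_succ (cf : ℕ → ℕ) (okf : ℕ → Bool) (lo n prev : ℕ) :
    scanG cf okf lo (n + 1) prev =
      and (Nat.blt (cf n) prev) (and (okf n) (scanG cf okf lo n (cf n))) := rfl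

theorem scanG_spec (cf : ℕ → ℕ) (okf : ℕ → Bool) (lo : ℕ) : ∀ (n prev : ℕ),
    scanG cf okf lo n prev = true →
      (∀ i, i < n → okf i = true ∧ lo ≤ cf i ∧ cf i < prev) ∧
      (∀ i j, i < j → j < n → cf i < cf j) ∧ lo ≤ prev := by
  intro n
  induction n with
  | zero =>
    intro prev h
    rw [scanG_zero] at h
    exact ⟨fun i hi => absurd hi (Nat.not_lt_zero i), fun i j _ hj => absurd hj (Nat.not_lt_zero j),
      Nat.le_of_ble_eq_true h⟩
  | succ n ih =>
    intro prev h
    rw [scanG_succ, Bool.and_eq_true, Bool.and_eq_true] at h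
    obtain ⟨h1, h2, h3⟩ := h
    have h1' : cf n < prev := by simpa [Nat.blt] using h1
    obtain ⟨a, b, c⟩ := ih (cf n) h3
    refine ⟨?_, ?_, by omega⟩
    · intro i hi
      rcases Nat.lt_succ_iff_lt_or_eq.mp hi with hlt | rfl
      · obtain ⟨x1, x2, x3⟩ := a i hlt
        exact ⟨x1, x2, by omega⟩
      · exact ⟨h2, c, h1'⟩
    · intro i j hij hj
      rcases Nat.lt_succ_iff_lt_or_eq.mp hj with hlt | rfl
      · exact b i j hij hlt
      · exact (a i hij).2.2

end

end Cfsg.Agent.Lib.Helper15.OnO
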