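import Mathlib

set_option autoImplicit false

/-!
Two generic lemmas on finite groups: two commuting elements of order 3, neither a power of the
other, lie in a subgroup of order divisible by 9; an endomorphism of a finite simple group that does
not kill some element is an automorphism.
-/

namespace Cfsg.Agent.Lib.Helper15.OnO

/-- a subgroup containing two independent commuting elements of order 3 has order divisible by 9 -/
theorem nine_dvd_card {J : Type*} [Group J] [Finite J] (H : Subgroup J) (a b : J) (ha : a ∈ H)
    (hb : b ∈ H) (ha3 : a ^ 3 = 1) (hb3 : b ^ 3 = 1) (hab : a * b = b * a) (ha1 : a ≠ 1)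
    (hb1 : b ≠ 1) (hba : b ≠ a) (hba2 : b ≠ a ^ 2) : 9 ∣ Nat.card ↥H := by
  have : Fact (Nat.Prime 3) := ⟨by norm_num⟩
  let S : Set J := {a, b}
  have hcomm : ∀ x ∈ S, ∀ y ∈ S, x * y = y * x := by
    intro x hx y hy
    rcases hx with rfl | rfl <;> rcases hy with rfl | rfl
    · rfl
    · exact hab
    · exact hab.symm
    · rfl
  let K : Subgroup J := Subgroup.closure S
  have hKH : K ≤ H := by
    rw [Subgroup.closure_le]
    rintro x (rfl | rfl)
    · exact ha
    · exact hb
  have hcommK : ∀ x ∈ K, ∀ y ∈ K, x * y = y * x := by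
    intro x hx y hy
    have hI := Subgroup.isMulCommutative_closure hcomm
    have := hI.is_comm.comm (⟨x, hx⟩ : ↥(Subgroup.closure S)) ⟨y, hy⟩
    exact congrArg Subtype.val this
  have hpow : ∀ x ∈ K, x ^ 3 = 1 := by
    intro x hx
    induction hx using Subgroup.closure_induction with
    | mem x hx =>
      rcases hx with rfl | rfl
      · exact ha3
      · exact hb3
    | one => exact one_pow 3
    | mul x y hx hy ihx ihy =>
      have hc : Commute x y := hcommK x hx y hy
      rw [hc.mul_pow, ihx, ihy, one_mul]
    | inv x hx ih => rw [inv_pow, ih, inv_one]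
  have hp : IsPGroup 3 ↥K := by
    intro g
    refine ⟨1, ?_⟩
    apply Subtype.ext
    rw [pow_one]
    exact hpow g.1 g.2
  obtain ⟨n, hn⟩ := IsPGroup.iff_card.mp hp
  have hoa : orderOf a = 3 := orderOf_eq_prime ha3 ha1
  have haK : Subgroup.zpowers a ≤ K := by
    rw [Subgroup.zpowers_le]
    exact Subgroup.subset_closure (Set.mem_insert a {b})
  have hbK : b ∈ K := Subgroup.subset_closure (Set.mem_insert_of_mem a rfl)
  have hbna : b ∉ Subgroup.zpowers a := by
    intro hmem
    rw [← mem_powers_iff_mem_zpowers, Submonoid.mem_powers_iff] at hmem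
    obtain ⟨m, hm⟩ := hmem
    have hm' : a ^ (m % 3) = b := by rw [← hm, ← hoa, pow_mod_orderOf]
    have : m % 3 < 3 := Nat.mod_lt _ (by norm_num)
    interval_cases h : m % 3
    · rw [pow_zero] at hm'
      exact hb1 hm'.symm
    · rw [pow_one] at hm'
      exact hba hm'.symm
    · exact hba2 hm'.symm
  have hca : Nat.card (Subgroup.zpowers a) = 3 := by rw [Nat.card_zpowers, hoa]
  have hn2 : 2 ≤ n := by
    by_contra hlt
    push Not at hlt
    have hle : Nat.card ↥K ≤ Nat.card (Subgroup.zpowers a) := by
      rw [hn, hca]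
      calc 3 ^ n ≤ 3 ^ 1 := Nat.pow_le_pow_right (by norm_num) (by omega)
        _ = 3 := by norm_num
    have heq : Subgroup.zpowers a = K := Subgroup.eq_of_le_of_card_ge haK hle
    exact hbna (heq ▸ hbK)
  have h9 : 9 ∣ Nat.card ↥K := by
    rw [hn]
    exact (show (9 : ℕ) = 3 ^ 2 by norm_num) ▸ pow_dvd_pow 3 hn2
  exact h9.trans (Subgroup.card_dvd_of_le hKH)

/-- an endomorphism of a finite simple group that does not kill some element is bijective -/
theorem bijective_of_simple {J : Type*} [Group J] [Finite J] [IsSimpleGroup J] (θ : J →* J)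
    (x : J) (hx : θ x ≠ 1) : Function.Bijective θ := by
  have hinj : Function.Injective θ := by
    rw [← MonoidHom.ker_eq_bot_iff]
    rcases θ.normal_ker.eq_bot_or_eq_top with h | h
    · exact h
    · exfalso
      apply hx
      have : x ∈ θ.ker := by rw [h]; exact Subgroup.mem_top x
      exact this
  exact ⟨hinj, Finite.injective_iff_surjective.mp hinj⟩

end Cfsg.Agent.Lib.Helper15.OnO
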