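import Cfsg.Agent.Lib.Helper15.OnONoFix0
set_option autoImplicit false
set_option maxRecDepth 100000
set_option maxHeartbeats 0
set_option Elab.async false

/-! The O'Nan group on 122760 points: an element without fixed points. -/

namespace Cfsg.Agent.Lib.Helper15.OnO
open Cfsg.Agent.Lib.Helper28.TC2Upper Cfsg.Agent.Lib.Helper28.TC2Lower

noncomputable section

theorem noFix20 : noFix 40960 2048 = true := by decide +kernel
theorem noFix21 : noFix 43008 2048 = true := by decide +kernel
theorem noFix22 : noFix 45056 2048 = true := by decide +kernel
theorem noFix23 : noFix 47104 2048 = true := by decide +kernel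
theorem noFix24 : noFix 49152 2048 = true := by decide +kernel
theorem noFix25 : noFix 51200 2048 = true := by decide +kernel
theorem noFix26 : noFix 53248 2048 = true := by decide +kernel
theorem noFix27 : noFix 55296 2048 = true := by decide +kernel
theorem noFix28 : noFix 57344 2048 = true := by decide +kernel
theorem noFix29 : noFix 59392 2048 = true := by decide +kernel
theorem noFix30 : noFix 61440 2048 = true := by decide +kernel
theorem noFix31 : noFix 63488 2048 = true := by decide +kernel
theorem noFix32 : noFix 65536 2048 = true := by decide +kernel
theorem noFix33 : noFix 67584 2048 = true := by decide +kernel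
theorem noFix34 : noFix 69632 2048 = true := by decide +kernel
theorem noFix35 : noFix 71680 2048 = true := by decide +kernel
theorem noFix36 : noFix 73728 2048 = true := by decide +kernel
theorem noFix37 : noFix 75776 2048 = true := by decide +kernel
theorem noFix38 : noFix 77824 2048 = true := by decide +kernel
theorem noFix39 : noFix 79872 2048 = true := by decide +kernel

end

end Cfsg.Agent.Lib.Helper15.OnO
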