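import Cfsg.Agent.Lib.Helper15.OnONoFix0
set_option autoImplicit false
set_option maxRecDepth 100000
set_option maxHeartbeats 0
set_option Elab.async false

/-! The O'Nan group on 122760 points: an element without fixed points. -/

namespace Cfsg.Agent.Lib.Helper15.OnO
open Cfsg.Agent.Lib.Helper28.TC2Upper Cfsg.Agent.Lib.Helper28.TC2Lower

noncomputable section

theorem noFix40 : noFix 81920 2048 = true := by decide +kernel
theorem noFix41 : noFix 83968 2048 = true := by decide +kernel
theorem noFix42 : noFix 86016 2048 = true := by decide +kernel
theorem noFix43 : noFix 88064 2048 = true := by decide +kernel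
theorem noFix44 : noFix 90112 2048 = true := by decide +kernel
theorem noFix45 : noFix 92160 2048 = true := by decide +kernel
theorem noFix46 : noFix 94208 2048 = true := by decide +kernel
theorem noFix47 : noFix 96256 2048 = true := by decide +kernel
theorem noFix48 : noFix 98304 2048 = true := by decide +kernel
theorem noFix49 : noFix 100352 2048 = true := by decide +kernel
theorem noFix50 : noFix 102400 2048 = true := by decide +kernel
theorem noFix51 : noFix 104448 2048 = true := by decide +kernel
theorem noFix52 : noFix 106496 2048 = true := by decide +kernel
theorem noFix53 : noFix 108544 2048 = true := by decide +kernel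
theorem noFix54 : noFix 110592 2048 = true := by decide +kernel
theorem noFix55 : noFix 112640 2048 = true := by decide +kernel
theorem noFix56 : noFix 114688 2048 = true := by decide +kernel
theorem noFix57 : noFix 116736 2048 = true := by decide +kernel
theorem noFix58 : noFix 118784 2048 = true := by decide +kernel
theorem noFix59 : noFix 120832 1928 = true := by decide +kernel

end

end Cfsg.Agent.Lib.Helper15.OnO
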