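import Cfsg.Agent.Lib.Helper15.OnONoFix0
import Cfsg.Agent.Lib.Helper15.OnONoFix1
import Cfsg.Agent.Lib.Helper15.OnONoFix2
set_option autoImplicit false
set_option maxRecDepth 100000

/-! The O'Nan group on 122760 points: an element without fixed points, assembled. -/

namespace Cfsg.Agent.Lib.Helper15.OnO
open Cfsg.Agent.Lib.Helper28.TC2Upper Cfsg.Agent.Lib.Helper28.TC2Lower Cfsg.Agent.Lib.Helper28.TC2Range

theorem noFix_spec {lo cnt : ℕ} (h : noFix lo cnt = true) (p : ℕ) (h1 : lo ≤ p) (h2 : p < lo + cnt) :
    wk (UW T2W) p ≠ p := by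
  unfold noFix at h
  rw [allLoop_eq_true] at h
  have h3 := h (p - lo) (by omega)
  rw [force_eq] at h3
  have e : Nat.add lo (p - lo) = p := by simp only [Nat.add_eq]; omega
  rw [e] at h3
  intro e2
  rw [e2] at h3
  simp at h3

theorem noFix_all (p : ℕ) (hp : p < 122760) : wk (UW T2W) p ≠ p := by
  rcases Nat.lt_or_ge p 2048 with h0 | h0
  · exact noFix_spec noFix0 p (by omega) (by omega)
  rcases Nat.lt_or_ge p 4096 with h1 | h1
  · exact noFix_spec noFix1 p (by omega) (by omega)
  rcases Nat.lt_or_ge p 6144 with h2 | h2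
  · exact noFix_spec noFix2 p (by omega) (by omega)
  rcases Nat.lt_or_ge p 8192 with h3 | h3
  · exact noFix_spec noFix3 p (by omega) (by omega)
  rcases Nat.lt_or_ge p 10240 with h4 | h4
  · exact noFix_spec noFix4 p (by omega) (by omega)
  rcases Nat.lt_or_ge p 12288 with h5 | h5
  · exact noFix_spec noFix5 p (by omega) (by omega)
  rcases Nat.lt_or_ge p 14336 with h6 | h6
  · exact noFix_spec noFix6 p (by omega) (by omega)
  rcases Nat.lt_or_ge p 16384 with h7 | h7
  · exact noFix_spec noFix7 p (by omega) (by omega)
  rcases Nat.lt_or_ge p 18432 with h8 | h8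
  · exact noFix_spec noFix8 p (by omega) (by omega)
  rcases Nat.lt_or_ge p 20480 with h9 | h9
  · exact noFix_spec noFix9 p (by omega) (by omega)
  rcases Nat.lt_or_ge p 22528 with h10 | h10
  · exact noFix_spec noFix10 p (by omega) (by omega)
  rcases Nat.lt_or_ge p 24576 with h11 | h11
  · exact noFix_spec noFix11 p (by omega) (by omega)
  rcases Nat.lt_or_ge p 26624 with h12 | h12
  · exact noFix_spec noFix12 p (by omega) (by omega)
  rcases Nat.lt_or_ge p 28672 with h13 | h13
  · exact noFix_spec noFix13 p (by omega) (by omega)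
  rcases Nat.lt_or_ge p 30720 with h14 | h14
  · exact noFix_spec noFix14 p (by omega) (by omega)
  rcases Nat.lt_or_ge p 32768 with h15 | h15
  · exact noFix_spec noFix15 p (by omega) (by omega)
  rcases Nat.lt_or_ge p 34816 with h16 | h16
  · exact noFix_spec noFix16 p (by omega) (by omega)
  rcases Nat.lt_or_ge p 36864 with h17 | h17
  · exact noFix_spec noFix17 p (by omega) (by omega)
  rcases Nat.lt_or_ge p 38912 with h18 | h18
  · exact noFix_spec noFix18 p (by omega) (by omega)
  rcases Nat.lt_or_ge p 40960 with h19 | h19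
  · exact noFix_spec noFix19 p (by omega) (by omega)
  rcases Nat.lt_or_ge p 43008 with h20 | h20
  · exact noFix_spec noFix20 p (by omega) (by omega)
  rcases Nat.lt_or_ge p 45056 with h21 | h21
  · exact noFix_spec noFix21 p (by omega) (by omega)
  rcases Nat.lt_or_ge p 47104 with h22 | h22
  · exact noFix_spec noFix22 p (by omega) (by omega)
  rcases Nat.lt_or_ge p 49152 with h23 | h23
  · exact noFix_spec noFix23 p (by omega) (by omega)
  rcases Nat.lt_or_ge p 51200 with h24 | h24
  · exact noFix_spec noFix24 p (by omega) (by omega)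
  rcases Nat.lt_or_ge p 53248 with h25 | h25
  · exact noFix_spec noFix25 p (by omega) (by omega)
  rcases Nat.lt_or_ge p 55296 with h26 | h26
  · exact noFix_spec noFix26 p (by omega) (by omega)
  rcases Nat.lt_or_ge p 57344 with h27 | h27
  · exact noFix_spec noFix27 p (by omega) (by omega)
  rcases Nat.lt_or_ge p 59392 with h28 | h28
  · exact noFix_spec noFix28 p (by omega) (by omega)
  rcases Nat.lt_or_ge p 61440 with h29 | h29
  · exact noFix_spec noFix29 p (by omega) (by omega)
  rcases Nat.lt_or_ge p 63488 with h30 | h30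
  · exact noFix_spec noFix30 p (by omega) (by omega)
  rcases Nat.lt_or_ge p 65536 with h31 | h31
  · exact noFix_spec noFix31 p (by omega) (by omega)
  rcases Nat.lt_or_ge p 67584 with h32 | h32
  · exact noFix_spec noFix32 p (by omega) (by omega)
  rcases Nat.lt_or_ge p 69632 with h33 | h33
  · exact noFix_spec noFix33 p (by omega) (by omega)
  rcases Nat.lt_or_ge p 71680 with h34 | h34
  · exact noFix_spec noFix34 p (by omega) (by omega)
  rcases Nat.lt_or_ge p 73728 with h35 | h35
  · exact noFix_spec noFix35 p (by omega) (by omega)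
  rcases Nat.lt_or_ge p 75776 with h36 | h36
  · exact noFix_spec noFix36 p (by omega) (by omega)
  rcases Nat.lt_or_ge p 77824 with h37 | h37
  · exact noFix_spec noFix37 p (by omega) (by omega)
  rcases Nat.lt_or_ge p 79872 with h38 | h38
  · exact noFix_spec noFix38 p (by omega) (by omega)
  rcases Nat.lt_or_ge p 81920 with h39 | h39
  · exact noFix_spec noFix39 p (by omega) (by omega)
  rcases Nat.lt_or_ge p 83968 with h40 | h40
  · exact noFix_spec noFix40 p (by omega) (by omega)
  rcases Nat.lt_or_ge p 86016 with h41 | h41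
  · exact noFix_spec noFix41 p (by omega) (by omega)
  rcases Nat.lt_or_ge p 88064 with h42 | h42
  · exact noFix_spec noFix42 p (by omega) (by omega)
  rcases Nat.lt_or_ge p 90112 with h43 | h43
  · exact noFix_spec noFix43 p (by omega) (by omega)
  rcases Nat.lt_or_ge p 92160 with h44 | h44
  · exact noFix_spec noFix44 p (by omega) (by omega)
  rcases Nat.lt_or_ge p 94208 with h45 | h45
  · exact noFix_spec noFix45 p (by omega) (by omega)
  rcases Nat.lt_or_ge p 96256 with h46 | h46
  · exact noFix_spec noFix46 p (by omega) (by omega)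
  rcases Nat.lt_or_ge p 98304 with h47 | h47
  · exact noFix_spec noFix47 p (by omega) (by omega)
  rcases Nat.lt_or_ge p 100352 with h48 | h48
  · exact noFix_spec noFix48 p (by omega) (by omega)
  rcases Nat.lt_or_ge p 102400 with h49 | h49
  · exact noFix_spec noFix49 p (by omega) (by omega)
  rcases Nat.lt_or_ge p 104448 with h50 | h50
  · exact noFix_spec noFix50 p (by omega) (by omega)
  rcases Nat.lt_or_ge p 106496 with h51 | h51
  · exact noFix_spec noFix51 p (by omega) (by omega)
  rcases Nat.lt_or_ge p 108544 with h52 | h52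
  · exact noFix_spec noFix52 p (by omega) (by omega)
  rcases Nat.lt_or_ge p 110592 with h53 | h53
  · exact noFix_spec noFix53 p (by omega) (by omega)
  rcases Nat.lt_or_ge p 112640 with h54 | h54
  · exact noFix_spec noFix54 p (by omega) (by omega)
  rcases Nat.lt_or_ge p 114688 with h55 | h55
  · exact noFix_spec noFix55 p (by omega) (by omega)
  rcases Nat.lt_or_ge p 116736 with h56 | h56
  · exact noFix_spec noFix56 p (by omega) (by omega)
  rcases Nat.lt_or_ge p 118784 with h57 | h57
  · exact noFix_spec noFix57 p (by omega) (by omega)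
  rcases Nat.lt_or_ge p 120832 with h58 | h58
  · exact noFix_spec noFix58 p (by omega) (by omega)
  exact noFix_spec noFix59 p (by omega) (by omega)

end Cfsg.Agent.Lib.Helper15.OnO
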