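import Cfsg.Agent.Lib.Helper15.OnOSylChk

set_option autoImplicit false
set_option maxRecDepth 100000

/-!
A Sylow 2-subgroup of the O'Nan group on 122760 points: it has order 512 and its centre is generated
by the involution `a`; hence every automorphism maps this involution to a conjugate.
-/

namespace Cfsg.Agent.Lib.Helper15.OnO
open Cfsg.Agent.Lib.Helper28.TC2Upper Cfsg.Agent.Lib.Helper28.TC2Lower Cfsg.Agent.Lib.Helper28.TC2Range
open Cfsg.Agent.Lib.Helper28.TC2Bsgs

attribute [local irreducible] wk gwp codeW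

noncomputable section

/-! ### the checks for all indices -/

theorem syl_words (i : ℕ) (hi : i < 512) : (∀ k ∈ pgiE (pwE i), k < 6) ∧ codeW (pwl i) = pc i := by
  rcases Nat.lt_or_ge i 256 with h | h
  · exact sylWordsB_spec sylWords0 i (by omega) (by omega)
  · exact sylWordsB_spec sylWords1 i (by omega) (by omega)

theorem syl_table (i : ℕ) (hi : i < 512) (k : ℕ) (hk : k < 6) :
    mapCode (sylG k) (pc i) = pc (pm i k) := by
  rcases Nat.lt_or_ge i 128 with h | h
  · exact sylTableB_spec sylTable0 i (by omega) (by omega) k hk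
  rcases Nat.lt_or_ge i 256 with h' | h'
  · exact sylTableB_spec sylTable1 i (by omega) (by omega) k hk
  rcases Nat.lt_or_ge i 384 with h'' | h''
  · exact sylTableB_spec sylTable2 i (by omega) (by omega) k hk
  · exact sylTableB_spec sylTable3 i (by omega) (by omega) k hk

theorem syl_cent (i : ℕ) (hi : i < 512) (hi0 : i ≠ 0) (hi2 : i ≠ 2) :
    ∃ k, k < 6 ∧ ∃ b, b < 6 ∧ wk (sylG k ++ pwl i) b ≠ wk (pwl i ++ sylG k) b := by
  rcases Nat.lt_or_ge i 256 with h | h
  · exact sylCentB_spec sylCent0 i (by omega) (by omega) hi0 hi2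
  · exact sylCentB_spec sylCent1 i (by omega) (by omega) hi0 hi2

theorem syl_mono : ∀ j i, i < j → j < 512 → pc i < pc j := by
  intro j
  induction j with
  | zero => intro i hi; omega
  | succ j ih =>
    intro i hi hj
    have h1 : pc j < pc (j + 1) := sylIncrB_spec sylIncr j (by omega) (by omega)
    rcases Nat.lt_succ_iff_lt_or_eq.mp hi with h | rfl
    · exact lt_trans (ih i h (by omega)) h1
    · exact h1

theorem pc_inj {i j : ℕ} (hi : i < 512) (hj : j < 512) (h : pc i = pc j) : i = j := by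
  rcases Nat.lt_trichotomy i j with hlt | heq | hgt
  · exact absurd h (ne_of_lt (syl_mono j i hlt hj))
  · exact heq
  · exact absurd h.symm (ne_of_lt (syl_mono i j hgt hi))

theorem pc_zero : pc 0 = codeW [] := by
  have h := sylOne
  rw [Bool.and_eq_true] at h
  exact Nat.eq_of_beq_eq_true h.1

theorem pc_two : pc 2 = codeW [2] := by
  have h := sylOne
  rw [Bool.and_eq_true] at h
  exact Nat.eq_of_beq_eq_true (of_decide_eq_true h.2)

/-! ### the codes of products with words -/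

/-- the image of a point under an element -/
def pv (g : ↥G) (b : ℕ) : ℕ := if h : b < XT.n then (g.1 ⟨b, h⟩).val else 0

theorem pv_lt (g : ↥G) (b : ℕ) : pv g b < 122760 := by
  unfold pv
  split_ifs with h
  · exact (g.1 ⟨b, h⟩).2
  · norm_num

theorem hcode_eq (g : ↥G) :
    hcode g = (((0 * 131072 + pv g 0) * 131072 + pv g 1) * 131072 + pv g 2) * 131072 + pv g 5 := rfl

theorem pv_mul (w : List ℕ) (g : ↥G) (b : ℕ) (hb : b < 122760) :
    pv (gw w * g) b = wk w (pv g b) := by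
  have hb' : b < XT.n := hb
  unfold pv
  rw [dif_pos hb', dif_pos hb']
  have e : (gw w * g).1 ⟨b, hb'⟩ = (gwp w) (g.1 ⟨b, hb'⟩) := rfl
  rw [e, gwp_apply]

theorem comp_code (a0 a1 a2 a3 : ℕ) (h0 : a0 < 131072) (h1 : a1 < 131072) (h2 : a2 < 131072)
    (h3 : a3 < 131072) :
    comp ((((0 * 131072 + a0) * 131072 + a1) * 131072 + a2) * 131072 + a3) 0 = a0 ∧
    comp ((((0 * 131072 + a0) * 131072 + a1) * 131072 + a2) * 131072 + a3) 1 = a1 ∧
    comp ((((0 * 131072 + a0) * 131072 + a1) * 131072 + a2) * 131072 + a3) 2 = a2 ∧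
    comp ((((0 * 131072 + a0) * 131072 + a1) * 131072 + a2) * 131072 + a3) 3 = a3 := by
  unfold comp
  refine ⟨?_, ?_, ?_, ?_⟩
  · show ((((0 * 131072 + a0) * 131072 + a1) * 131072 + a2) * 131072 + a3) >>> (17 * (3 - 0)) % 131072 = a0
    rw [Nat.shiftRight_eq_div_pow]
    norm_num
    omega
  · show ((((0 * 131072 + a0) * 131072 + a1) * 131072 + a2) * 131072 + a3) >>> (17 * (3 - 1)) % 131072 = a1
    rw [Nat.shiftRight_eq_div_pow]
    norm_num
    omega
  · show ((((0 * 131072 + a0) * 131072 + a1) * 131072 + a2) * 131072 + a3) >>> (17 * (3 - 2)) % 131072 = a2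
    rw [Nat.shiftRight_eq_div_pow]
    norm_num
    omega
  · show ((((0 * 131072 + a0) * 131072 + a1) * 131072 + a2) * 131072 + a3) >>> (17 * (3 - 3)) % 131072 = a3
    rw [Nat.shiftRight_eq_div_pow]
    norm_num
    omega

theorem hcode_mul (w : List ℕ) (g : ↥G) : hcode (gw w * g) = mapCode w (hcode g) := by
  have b0 := pv_lt g 0
  have b1 := pv_lt g 1
  have b2 := pv_lt g 2
  have b3 := pv_lt g 5
  obtain ⟨c0, c1, c2, c3⟩ := comp_code (pv g 0) (pv g 1) (pv g 2) (pv g 5) (by omega) (by omega)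
    (by omega) (by omega)
  rw [hcode_eq, hcode_eq g]
  unfold mapCode
  rw [c0, c1, c2, c3, pv_mul w g 0 (by norm_num), pv_mul w g 1 (by norm_num),
    pv_mul w g 2 (by norm_num), pv_mul w g 5 (by norm_num)]
  show _ = 131072 * (131072 * (131072 * wk w (pv g 0) + wk w (pv g 1)) + wk w (pv g 2)) +
    wk w (pv g 5)
  ring

/-! ### the Sylow subgroup -/

/-- the elements with the listed codes -/
def X : Set ↥G := {g | ∃ i, i < 512 ∧ hcode g = pc i}

theorem one_mem_X : (1 : ↥G) ∈ X := by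
  refine ⟨0, by norm_num, ?_⟩
  rw [pc_zero, codeW_eq, gw_nil]

theorem mul_mem_X {k : ℕ} (hk : k < 6) {g : ↥G} (hg : g ∈ X) : gw (sylG k) * g ∈ X := by
  obtain ⟨i, hi, hgi⟩ := hg
  refine ⟨pm i k, pm_lt i k, ?_⟩
  rw [hcode_mul, hgi]
  exact syl_table i hi k hk

theorem pow_mul_mem_X {k : ℕ} (hk : k < 6) {g : ↥G} (hg : g ∈ X) (m : ℕ) :
    gw (sylG k) ^ m * g ∈ X := by
  induction m with
  | zero => rw [pow_zero, one_mul]; exact hg
  | succ m ih =>
    rw [pow_succ', mul_assoc]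
    exact mul_mem_X hk ih

theorem inv_mul_mem_X {k : ℕ} (hk : k < 6) {g : ↥G} (hg : g ∈ X) : (gw (sylG k))⁻¹ * g ∈ X := by
  have ho : 0 < orderOf (gw (sylG k)) := orderOf_pos _
  have e : (gw (sylG k))⁻¹ = gw (sylG k) ^ (orderOf (gw (sylG k)) - 1) := by
    rw [inv_eq_iff_mul_eq_one, ← pow_succ']
    have : orderOf (gw (sylG k)) - 1 + 1 = orderOf (gw (sylG k)) := by omega
    rw [this, pow_orderOf_eq_one]
  rw [e]
  exact pow_mul_mem_X hk hg _

/-- the Sylow 2-subgroup -/
def P : Subgroup ↥G := Subgroup.closure {g | ∃ k, k < 6 ∧ g = gw (sylG k)}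

theorem P_le_X {g : ↥G} (hg : g ∈ P) : g ∈ X := by
  unfold P at hg
  induction hg using Subgroup.closure_induction_left with
  | one => exact one_mem_X
  | mul_left x hx y _ ih =>
    obtain ⟨k, hk, rfl⟩ := hx
    exact mul_mem_X hk ih
  | inv_mul_cancel x hx y _ ih =>
    obtain ⟨k, hk, rfl⟩ := hx
    exact inv_mul_mem_X hk ih

theorem gw_gen_mem_P {k : ℕ} (hk : k < 6) : gw (sylG k) ∈ P :=
  Subgroup.subset_closure ⟨k, hk, rfl⟩

theorem gw_expW_mem_P (ks : List ℕ) (hks : ∀ k ∈ ks, k < 6) : gw (expW ks) ∈ P := by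
  induction ks with
  | nil =>
    rw [show expW [] = [] from rfl, gw_nil]
    exact P.one_mem
  | cons k ks ih =>
    have e : expW (k :: ks) = sylG k ++ expW ks := by
      unfold expW
      rw [List.flatMap_cons]
    rw [e, gw_append]
    exact P.mul_mem (ih fun x hx => hks x (List.mem_cons_of_mem _ hx))
      (gw_gen_mem_P (hks k List.mem_cons_self))

theorem hcode_pwl {i : ℕ} (hi : i < 512) : hcode (gw (pwl i)) = pc i := by
  rw [← codeW_eq]
  exact (syl_words i hi).2

theorem pwl_mem_P {i : ℕ} (hi : i < 512) : gw (pwl i) ∈ P := gw_expW_mem_P _ (syl_words i hi).1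

theorem eq_pwl_of_mem_P {g : ↥G} (hg : g ∈ P) : ∃ i, i < 512 ∧ g = gw (pwl i) := by
  obtain ⟨i, hi, hgi⟩ := P_le_X hg
  exact ⟨i, hi, hcode_injective (hgi.trans (hcode_pwl hi).symm)⟩

theorem card_P : Nat.card ↥P = 512 := by
  let f : Fin 512 → ↥P := fun i => ⟨gw (pwl i.val), pwl_mem_P i.isLt⟩
  have hf : Function.Bijective f := by
    constructor
    · intro i j h
      have h1 : gw (pwl i.val) = gw (pwl j.val) := congrArg Subtype.val h
      have h2 : pc i.val = pc j.val := by rw [← hcode_pwl i.isLt, ← hcode_pwl j.isLt, h1]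
      exact Fin.ext (pc_inj i.isLt j.isLt h2)
    · rintro ⟨g, hg⟩
      obtain ⟨i, hi, rfl⟩ := eq_pwl_of_mem_P hg
      exact ⟨⟨i, hi⟩, rfl⟩
  rw [← Nat.card_congr (Equiv.ofBijective f hf), Nat.card_fin]

/-! ### the centre of the Sylow subgroup -/

theorem gw_eq_wk {w w' : List ℕ} (h : gw w = gw w') (b : ℕ) (hb : b < XT.n) : wk w b = wk w' b := by
  have e : gwp w = gwp w' := congrArg Subtype.val h
  rw [← gwp_apply w ⟨b, hb⟩, ← gwp_apply w' ⟨b, hb⟩, e]

/-- the centre of the Sylow subgroup consists of the identity and the involution `a` -/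
theorem center_P {g : ↥G} (hg : g ∈ P) (hc : ∀ h ∈ P, h * g = g * h) : g = 1 ∨ g = gw [2] := by
  obtain ⟨i, hi, rfl⟩ := eq_pwl_of_mem_P hg
  by_cases hi0 : i = 0
  · left
    subst hi0
    apply hcode_injective
    rw [hcode_pwl hi, pc_zero, codeW_eq, gw_nil]
  by_cases hi2 : i = 2
  · right
    subst hi2
    apply hcode_injective
    rw [hcode_pwl hi, pc_two, codeW_eq]
  exfalso
  obtain ⟨k, hk, b, hb, hne⟩ := syl_cent i hi hi0 hi2
  apply hne
  apply gw_eq_wk _ b (lt_trans hb (by decide))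
  rw [gw_append, gw_append]
  exact (hc _ (gw_gen_mem_P hk)).symm

/-! ### automorphisms and the Sylow subgroup -/

theorem isPGroup_of_card {H : Subgroup ↥G} (h : Nat.card ↥H = 512) : IsPGroup 2 ↥H :=
  IsPGroup.of_card (n := 9) (by rw [h]; norm_num)

/-- a subgroup of order 512 is a Sylow 2-subgroup -/
theorem exists_sylow_eq (H : Subgroup ↥G) (h : Nat.card ↥H = 512) :
    ∃ Q : Sylow 2 ↥G, (Q : Subgroup ↥G) = H := by
  have : Fact (Nat.Prime 2) := ⟨Nat.prime_two⟩
  obtain ⟨Q, hQ⟩ := (isPGroup_of_card h).exists_le_sylow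
  refine ⟨Q, ?_⟩
  obtain ⟨n, hn⟩ := IsPGroup.iff_card.mp Q.isPGroup'
  have hdvd : 2 ^ n ∣ Nat.card ↥G := by
    rw [← hn]
    exact Subgroup.card_subgroup_dvd_card _
  have hn9 : n ≤ 9 := by
    by_contra hlt
    push Not at hlt
    have h10 : 2 ^ 10 ∣ Nat.card ↥G := (pow_dvd_pow 2 hlt).trans hdvd
    rw [card_G] at h10
    norm_num at h10
  have hle : Nat.card (Q : Subgroup ↥G) ≤ Nat.card ↥H := by
    rw [hn, h]
    calc 2 ^ n ≤ 2 ^ 9 := Nat.pow_le_pow_right (by norm_num) hn9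
      _ = 512 := by norm_num
  exact (Subgroup.eq_of_le_of_card_ge hQ hle).symm

/-- an automorphism maps the Sylow subgroup to a conjugate -/
theorem exists_conj_P (α : MulAut ↥G) : ∃ g : ↥G, ∀ x ∈ P, g * α x * g⁻¹ ∈ P := by
  have : Fact (Nat.Prime 2) := ⟨Nat.prime_two⟩
  obtain ⟨Q0, hQ0⟩ := exists_sylow_eq P card_P
  have hcard : Nat.card ↥(P.map α.toMonoidHom) = 512 := by
    rw [Subgroup.card_map_of_injective α.injective]
    exact card_P
  obtain ⟨Q1, hQ1⟩ := exists_sylow_eq _ hcard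
  obtain ⟨g, hg⟩ := MulAction.exists_smul_eq ↥G Q1 Q0
  refine ⟨g, ?_⟩
  intro x hx
  rw [← hQ0, ← hg, Sylow.coe_subgroup_smul]
  refine ⟨α x, ?_, rfl⟩
  rw [hQ1]
  exact ⟨x, hx, rfl⟩

theorem mem_SGs {w : List ℕ} (hw : w ∈ SGs) : ∃ k, k < 6 ∧ sylG k = w := by
  simp only [SGs, List.mem_cons, List.not_mem_nil, or_false] at hw
  rcases hw with rfl | rfl | rfl | rfl | rfl | rfl
  exacts [⟨0, by norm_num, rfl⟩, ⟨1, by norm_num, rfl⟩, ⟨2, by norm_num, rfl⟩, ⟨3, by norm_num, rfl⟩,
    ⟨4, by norm_num, rfl⟩, ⟨5, by norm_num, rfl⟩]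

theorem sylG_mem {k : ℕ} (hk : k < 6) : sylG k ∈ SGs := by
  unfold sylG
  have hlen : SGs.length = 6 := rfl
  rw [List.getD_eq_getElem _ _ (by rw [hlen]; exact hk)]
  exact List.getElem_mem _

/-- the involution `a` commutes with the generators of the Sylow subgroup -/
theorem P_le_centralizer : P ≤ Subgroup.centralizer ({gw [2]} : Set ↥G) := by
  unfold P
  rw [Subgroup.closure_le]
  rintro _ ⟨k, hk, rfl⟩
  rw [SetLike.mem_coe, Subgroup.mem_centralizer_iff]
  intro h hh
  rw [Set.mem_singleton_iff] at hh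
  subst hh
  have hc := sylComm
  rw [List.all_eq_true] at hc
  have := (sigEq_iff _ _).mp (hc _ (sylG_mem hk))
  rw [gw_append, gw_append] at this
  exact this.symm

theorem gw_two_ne_one : gw [2] ≠ (1 : ↥G) := by
  intro h
  have h3 : pc 2 = pc 0 := by rw [pc_two, pc_zero, codeW_eq, codeW_eq, h, gw_nil]
  exact absurd (pc_inj (by norm_num) (by norm_num) h3) (by norm_num)

theorem gw_two_mem_P : gw [2] ∈ P := gw_gen_mem_P (k := 0) (by norm_num)

/-- an automorphism maps the involution `a` to a conjugate -/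
theorem aut_t_conj (α : MulAut ↥G) : ∃ g : ↥G, g * α (gw [2]) * g⁻¹ = gw [2] := by
  obtain ⟨g, hg⟩ := exists_conj_P α
  refine ⟨g, ?_⟩
  let β : MulAut ↥G := MulAut.conj g * α
  have hβ : ∀ x, β x = g * α x * g⁻¹ := fun x => rfl
  have hmaps : ∀ x ∈ P, β x ∈ P := fun x hx => by rw [hβ]; exact hg x hx
  have hfin : Finite ↥P := Nat.finite_of_card_ne_zero (by rw [card_P]; norm_num)
  let r : ↥P → ↥P := fun x => ⟨β x.1, hmaps x.1 x.2⟩
  have hrinj : Function.Injective r := by
    intro a b hab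
    have : β a.1 = β b.1 := congrArg Subtype.val hab
    exact Subtype.ext (β.injective this)
  have hrsurj : Function.Surjective r := Finite.injective_iff_surjective.mp hrinj
  have ht : gw [2] ∈ P := gw_two_mem_P
  have hcent : ∀ h ∈ P, h * β (gw [2]) = β (gw [2]) * h := by
    intro h hh
    obtain ⟨⟨h', hh'⟩, hr⟩ := hrsurj ⟨h, hh⟩
    have e : β h' = h := congrArg Subtype.val hr
    rw [← e, ← map_mul, ← map_mul]
    congr 1
    have := Subgroup.mem_centralizer_iff.mp (P_le_centralizer hh') (gw [2]) (Set.mem_singleton _)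
    exact this.symm
  rcases center_P (hmaps _ ht) hcent with h1 | h1
  · exfalso
    apply gw_two_ne_one
    apply β.injective
    rw [h1, map_one]
  · rw [← hβ]
    exact h1

end

end Cfsg.Agent.Lib.Helper15.OnO
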