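import Cfsg.Agent.Lib.Helper15.OnOClsAll
import Cfsg.Agent.Lib.Helper15.OnOSyl
import Cfsg.Agent.Lib.Helper15.OnONoFix
import Cfsg.Agent.Lib.Helper15.OnOLem

set_option autoImplicit false
set_option maxRecDepth 100000

/-!
The O'Nan group on 122760 points has exactly two classes of outer automorphisms: every automorphism
maps a generating pair (an involution, an element of order 11) to a conjugate of one of two pairs, and
there is an automorphism that is not inner.
-/

namespace Cfsg.Agent.Lib.Helper15.OnO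
open Cfsg.Agent.Lib.Helper28.TC2Upper Cfsg.Agent.Lib.Helper28.TC2Lower Cfsg.Agent.Lib.Helper28.TC2Bsgs
open Cfsg.Agent.Lib.Helper28.TC2Glue Cfsg.Agent.Lib.Helper28.TCONLink
open Cfsg.Agent.Lib.Helper10.OutG

attribute [local irreducible] wk gwp codeW hcode sigEq

noncomputable section

/-- an element normalising the subgroup of order 11 -/
def nn : ↥G := gw NN

/-- the involution of the first generating pair -/
def t0 : ↥G := gw T0W

/-- the involution of the second generating pair -/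
def t2 : ↥G := gw T2W

/-! ### the element of order 11 -/

theorem y_pow : y ^ 11 = 1 := by
  have := (sigEq_iff _ _).mp chk_y11
  rwa [gw_rpt, gw_nil] at this

theorem y_ne : y ≠ 1 := by
  have := (sigEq_eq_false_iff [32] []).mp chk_y1
  rwa [gw_nil] at this

theorem orderOf_y : orderOf y = 11 := by
  have : Fact (Nat.Prime 11) := ⟨by norm_num⟩
  exact orderOf_eq_prime y_pow y_ne

theorem gw_rpt_y (i : ℕ) : gw (rpt i [32]) = y ^ i := gw_rpt i [32]

theorem gw_yinv : gw [33] = y⁻¹ := by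
  have := (sigEq_iff _ _).mp chk_yinv
  have e : ([32, 33] : List ℕ) = [32] ++ [33] := rfl
  rw [e, gw_append, gw_nil] at this
  exact eq_inv_of_mul_eq_one_left this

theorem gw_ginv : gw [1] = (gw [0])⁻¹ := by
  have := (sigEq_iff _ _).mp chk_ginv
  have e : ([0, 1] : List ℕ) = [0] ++ [1] := rfl
  rw [e, gw_append, gw_nil] at this
  exact eq_inv_of_mul_eq_one_left this

theorem nn_conj : nn * y * nn⁻¹ = y ^ 8 := by
  have := (sigEq_iff _ _).mp chk_n
  rw [gw_cj] at this
  exact this.trans (gw_rpt_y 8)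

theorem nn_pow_conj (i m : ℕ) : nn ^ i * y ^ m * (nn ^ i)⁻¹ = y ^ (m * 8 ^ i) := by
  induction i generalizing m with
  | zero => rw [pow_zero, one_mul, inv_one, mul_one, pow_zero, mul_one]
  | succ i ih =>
    have e : nn ^ (i + 1) * y ^ m * (nn ^ (i + 1))⁻¹ =
        nn * (nn ^ i * y ^ m * (nn ^ i)⁻¹) * nn⁻¹ := by
      rw [pow_succ']
      group
    rw [e, ih, ← conj_pow, nn_conj, ← pow_mul, pow_succ]
    congr 1
    ring

/-- the elements of order 11 are conjugate -/
theorem exists_conj_y (y' : ↥G) (hy' : orderOf y' = 11) : ∃ g : ↥G, g * y' * g⁻¹ = y := by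
  have : Fact (Nat.Prime 11) := ⟨by norm_num⟩
  obtain ⟨g0, hg0⟩ := exists_conj_mem_zpowers 11 (by rw [card_G]; norm_num) y y' orderOf_y hy'
  have ho : orderOf (g0 * y' * g0⁻¹) = 11 := by
    rw [← MulAut.conj_apply, MulEquiv.orderOf_eq]
    exact hy'
  rw [← mem_powers_iff_mem_zpowers, Submonoid.mem_powers_iff] at hg0
  obtain ⟨m, hm⟩ := hg0
  have hm' : y ^ (m % 11) = g0 * y' * g0⁻¹ := by
    rw [← hm, ← orderOf_y, pow_mod_orderOf]
  have hm0 : m % 11 ≠ 0 := by
    intro h0
    rw [h0, pow_zero] at hm'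
    rw [← hm', orderOf_one] at ho
    omega
  have hdec : ∀ r < 11, r ≠ 0 → ∃ i < 10, (r * 8 ^ i) % 11 = 1 := by
    decide
  obtain ⟨i, -, hi⟩ := hdec (m % 11) (Nat.mod_lt _ (by norm_num)) hm0
  refine ⟨nn ^ i * g0, ?_⟩
  have e : nn ^ i * g0 * y' * (nn ^ i * g0)⁻¹ = nn ^ i * (g0 * y' * g0⁻¹) * (nn ^ i)⁻¹ := by
    group
  rw [e, ← hm', nn_pow_conj]
  have hp : y ^ (m % 11 * 8 ^ i) = y ^ ((m % 11 * 8 ^ i) % 11) := by
    rw [← orderOf_y, pow_mod_orderOf]
  rw [hp, hi, pow_one]

theorem rel_ty : Rel t0 y := rel_of_not_fail (A := T0W) chk_rel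

theorem t0_conj : IsConj t t0 := by
  unfold t0
  rw [(sigEq_iff _ _).mp chk_t0, gw_cj, isConj_iff]
  exact ⟨gw C0, rfl⟩

/-! ### the class of the involutions -/

theorem mem_centralizer_of_chk {C : List ℕ} (h : sigEq ([2] ++ C) (C ++ [2]) = true) :
    gw C ∈ Subgroup.centralizer ({t} : Set ↥G) := by
  rw [Subgroup.mem_centralizer_iff]
  intro h' hh
  rw [Set.mem_singleton_iff] at hh
  subst hh
  have := (sigEq_iff _ _).mp h
  rw [gw_append, gw_append] at this
  exact this.symm

theorem orderOf_of_chk {C : List ℕ} (p : ℕ) [Fact p.Prime] (h1 : sigEq (rpt p C) [] = true)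
    (h2 : sigEq C [] = false) : orderOf (gw C) = p := by
  apply orderOf_eq_prime
  · have := (sigEq_iff _ _).mp h1
    rwa [gw_rpt, gw_nil] at this
  · have := (sigEq_eq_false_iff _ _).mp h2
    rwa [gw_nil] at this

/-- the order of the centraliser of the involution `a` -/
theorem card_centralizer_ge : 161280 ≤ Nat.card ↥(Subgroup.centralizer ({t} : Set ↥G)) := by
  have h2 : 512 ∣ Nat.card ↥(Subgroup.centralizer ({t} : Set ↥G)) := by
    rw [← card_P]
    exact Subgroup.card_dvd_of_le P_le_centralizer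
  have h5 : 5 ∣ Nat.card ↥(Subgroup.centralizer ({t} : Set ↥G)) := by
    have : Fact (Nat.Prime 5) := ⟨by norm_num⟩
    have hc := chk_c5
    rw [Bool.and_eq_true, Bool.and_eq_true, Bool.not_eq_true'] at hc
    rw [← orderOf_of_chk 5 hc.1.1 hc.1.2]
    exact Subgroup.orderOf_dvd_natCard _ (mem_centralizer_of_chk hc.2)
  have h7 : 7 ∣ Nat.card ↥(Subgroup.centralizer ({t} : Set ↥G)) := by
    have : Fact (Nat.Prime 7) := ⟨by norm_num⟩
    have hc := chk_c7
    rw [Bool.and_eq_true, Bool.and_eq_true, Bool.not_eq_true'] at hc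
    rw [← orderOf_of_chk 7 hc.1.1 hc.1.2]
    exact Subgroup.orderOf_dvd_natCard _ (mem_centralizer_of_chk hc.2)
  have h9 : 9 ∣ Nat.card ↥(Subgroup.centralizer ({t} : Set ↥G)) := by
    have ha := chk_c3a
    rw [Bool.and_eq_true, Bool.and_eq_true, Bool.not_eq_true'] at ha
    have hb := chk_c3b
    rw [Bool.and_eq_true, Bool.and_eq_true, Bool.not_eq_true'] at hb
    have hab := chk_c3ab
    rw [Bool.and_eq_true, Bool.and_eq_true, Bool.not_eq_true', Bool.not_eq_true'] at hab
    have e1 : gw C3a ^ 3 = 1 := by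
      have := (sigEq_iff _ _).mp ha.1.1
      rwa [gw_rpt, gw_nil] at this
    have e2 : gw C3b ^ 3 = 1 := by
      have := (sigEq_iff _ _).mp hb.1.1
      rwa [gw_rpt, gw_nil] at this
    have e3 : gw C3a * gw C3b = gw C3b * gw C3a := by
      have := (sigEq_iff _ _).mp hab.1.1
      rw [gw_append, gw_append] at this
      exact this.symm
    have n1 : gw C3a ≠ 1 := by
      have := (sigEq_eq_false_iff _ _).mp ha.1.2
      rwa [gw_nil] at this
    have n2 : gw C3b ≠ 1 := by
      have := (sigEq_eq_false_iff _ _).mp hb.1.2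
      rwa [gw_nil] at this
    have n3 : gw C3b ≠ gw C3a := (sigEq_eq_false_iff _ _).mp hab.1.2
    have n4 : gw C3b ≠ gw C3a ^ 2 := by
      have := (sigEq_eq_false_iff _ _).mp hab.2
      rwa [gw_rpt] at this
    exact nine_dvd_card _ (gw C3a) (gw C3b) (mem_centralizer_of_chk ha.2) (mem_centralizer_of_chk hb.2)
      e1 e2 e3 n1 n2 n3 n4
  have h35 : 35 ∣ Nat.card ↥(Subgroup.centralizer ({t} : Set ↥G)) :=
    Nat.Coprime.mul_dvd_of_dvd_of_dvd (by norm_num) h5 h7
  have h315 : 315 ∣ Nat.card ↥(Subgroup.centralizer ({t} : Set ↥G)) :=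
    Nat.Coprime.mul_dvd_of_dvd_of_dvd (by norm_num) h9 h35
  have hall : 512 * 315 ∣ Nat.card ↥(Subgroup.centralizer ({t} : Set ↥G)) :=
    Nat.Coprime.mul_dvd_of_dvd_of_dvd (by norm_num) h2 h315
  exact Nat.le_of_dvd Nat.card_pos hall

theorem card_class_t : {x : ↥G | IsConj t x}.ncard ≤ 2857239 := by
  have h := ncard_isConj t
  rw [card_G] at h
  have hc := card_centralizer_ge
  by_contra hlt
  push Not at hlt
  have : 2857240 * 161280 ≤ {x : ↥G | IsConj t x}.ncard *
      Nat.card ↥(Subgroup.centralizer ({t} : Set ↥G)) := Nat.mul_le_mul hlt hc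
  omega

/-! ### the images of the generating pair under automorphisms -/

theorem exc_spec {c : ℕ} (hc : c ∈ EXC) :
    ∃ i : ℕ, c = codeW (cj (rpt i [32]) T0W) ∨ c = codeW (cj (rpt i [32]) T2W) := by
  have h := chk_exc
  rw [List.all_eq_true] at h
  have hm := (memB_iff _ _).mp (h c hc)
  unfold excL at hm
  rw [List.mem_append] at hm
  rcases hm with hm | hm
  · rw [List.mem_map] at hm
    obtain ⟨i, -, hi⟩ := hm
    exact ⟨i, Or.inl hi.symm⟩
  · rw [List.mem_map] at hm
    obtain ⟨i, -, hi⟩ := hm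
    exact ⟨i, Or.inr hi.symm⟩

theorem aut_images (α : MulAut ↥G) :
    ∃ h : ↥G, (α t0 = h * t0 * h⁻¹ ∨ α t0 = h * t2 * h⁻¹) ∧ α y = h * y * h⁻¹ := by
  have hαy : orderOf (α y) = 11 := by
    rw [MulEquiv.orderOf_eq]
    exact orderOf_y
  obtain ⟨g, hg⟩ := exists_conj_y (α y) hαy
  let β : MulAut ↥G := MulAut.conj g * α
  have hβt : β t0 = g * α t0 * g⁻¹ := rfl
  have hβy : β y = g * α y * g⁻¹ := rfl
  have hrel : Rel (β t0) (β y) := rel_ty.map β.toMonoidHom
  rw [hβy, hg] at hrel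
  have hconj : IsConj t (β t0) := by
    obtain ⟨k, hk⟩ := aut_t_conj β
    have hk' : k * β t * k⁻¹ = t := hk
    have h1 : IsConj t (β t) := by
      rw [isConj_iff]
      refine ⟨k⁻¹, ?_⟩
      calc k⁻¹ * t * k⁻¹⁻¹ = k⁻¹ * (k * β t * k⁻¹) * k⁻¹⁻¹ := by rw [hk']
        _ = β t := by group
    have h2 : IsConj (β t) (β t0) := by
      obtain ⟨c, hc⟩ := isConj_iff.mp t0_conj
      rw [isConj_iff]
      refine ⟨β c, ?_⟩
      rw [← map_inv, ← map_mul, ← map_mul, hc]
    exact h1.trans h2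
  rcases rel_or_exc card_class_t (β t0) hconj with hf | hex
  · exact absurd hrel hf
  · obtain ⟨i, hi⟩ := exc_spec hex
    have hcy : y ^ i * y * (y ^ i)⁻¹ = y := by
      rw [← pow_succ, pow_succ', mul_inv_cancel_right]
    have key : ∀ TW : List ℕ, hcode (β t0) = codeW (cj (rpt i [32]) TW) →
        α t0 = g⁻¹ * y ^ i * gw TW * (g⁻¹ * y ^ i)⁻¹ := by
      intro TW hTW
      have hvw : β t0 = gw (cj (rpt i [32]) TW) := by
        apply hcode_injective
        rw [hTW, codeW_eq]
      rw [gw_cj, gw_rpt_y] at hvw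
      calc α t0 = g⁻¹ * (g * α t0 * g⁻¹) * g := by group
        _ = g⁻¹ * (y ^ i * gw TW * (y ^ i)⁻¹) * g := by rw [← hβt, hvw]
        _ = _ := by group
    refine ⟨g⁻¹ * y ^ i, ?_, ?_⟩
    · rcases hi with hi | hi
      · exact Or.inl (key T0W hi)
      · exact Or.inr (key T2W hi)
    · calc α y = g⁻¹ * (g * α y * g⁻¹) * g := by group
        _ = g⁻¹ * (y ^ i * y * (y ^ i)⁻¹) * g := by rw [hg, hcy]
        _ = _ := by group

/-! ### generation -/

theorem gw_iw_mem (TW : List ℕ) (C : Subgroup ↥G) (hT : gw TW ∈ C) (hy : y ∈ C) (aw : List ℕ) :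
    gw (iw TW aw) ∈ C := by
  induction aw with
  | nil =>
    rw [show iw TW [] = [] from rfl, gw_nil]
    exact C.one_mem
  | cons s aw ih =>
    have e : iw TW (s :: aw) = cond (Nat.beq s 0) TW (cond (Nat.beq s 1) [32] [33]) ++ iw TW aw := by
      unfold iw
      rw [List.flatMap_cons]
    rw [e, gw_append]
    apply C.mul_mem ih
    cases Nat.beq s 0
    · cases Nat.beq s 1
      · show gw [33] ∈ C
        rw [gw_yinv]
        exact C.inv_mem hy
      · exact hy
    · exact hT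

theorem gw_cj_mem (C : Subgroup ↥G) {c u : List ℕ} (hc : gw c ∈ C) (hu : gw u ∈ C) :
    gw (cj c u) ∈ C := by
  rw [gw_cj]
  exact C.mul_mem (C.mul_mem hc hu) (C.inv_mem hc)

theorem gw_imgW_mem (TW : List ℕ) (C : Subgroup ↥G) (hT : gw TW ∈ C) (hy : y ∈ C) (l : ℕ) :
    gw (imgW TW l) ∈ C := by
  have h0 : gw (cj (iw TW GG2) TW ++ cj (iw TW GG1) TW) ∈ C := by
    rw [gw_append]
    exact C.mul_mem (gw_cj_mem C (gw_iw_mem TW C hT hy _) hT) (gw_cj_mem C (gw_iw_mem TW C hT hy _) hT)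
  unfold imgW
  cases Nat.beq l 0
  · cases Nat.beq l 1
    · exact gw_cj_mem C (gw_iw_mem TW C hT hy _) hT
    · show gw (winv _) ∈ C
      rw [gw_winv]
      exact C.inv_mem h0
  · exact h0

theorem gw_letter_eq (l : ℕ) (hl : l < 8) : gw [l] = gw (imgW T0W l) := by
  have h := chk_gen
  rw [List.all_eq_true] at h
  exact (sigEq_iff _ _).mp (h l (List.mem_range.mpr hl))

theorem gw_letter_mem (l : ℕ) (hl : l < 8) : gw [l] ∈ Subgroup.closure ({t0, y} : Set ↥G) := by
  rw [gw_letter_eq l hl]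
  have h1 : gw T0W ∈ Subgroup.closure ({t0, y} : Set ↥G) :=
    Subgroup.subset_closure (Set.mem_insert t0 {y})
  have h2 : y ∈ Subgroup.closure ({t0, y} : Set ↥G) :=
    Subgroup.subset_closure (Set.mem_insert_of_mem t0 (Set.mem_singleton y))
  exact gw_imgW_mem T0W (Subgroup.closure ({t0, y} : Set ↥G)) h1 h2 l

theorem gen_ty : Subgroup.closure ({t0, y} : Set ↥G) = ⊤ := by
  rw [eq_top_iff]
  have hle : G ≤ (Subgroup.closure ({t0, y} : Set ↥G)).map G.subtype := by
    unfold G baseGroup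
    rw [Subgroup.closure_le]
    rintro π ⟨l, hl, rfl⟩
    refine ⟨gw [l], gw_letter_mem l hl, ?_⟩
    · show gwp [l] = Table.sigma hXT l
      rw [gwp_singleton, nl_of_lt (by omega)]
      rfl
  intro g _
  obtain ⟨m, hm, hmg⟩ := hle g.2
  have : m = g := Subtype.ext hmg
  rw [← this]
  exact hm

theorem card_mulAut_G : Nat.card (MulAut ↥G) ≤ 2 * Nat.card ↥G :=
  card_mulAut_le t0 y t2 gen_ty aut_images

theorem center_G : Subgroup.center ↥G = ⊥ := by
  rcases (Subgroup.center ↥G).normal_of_characteristic.eq_bot_or_eq_top with h | h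
  · exact h
  · exfalso
    have hy : y ∈ Subgroup.center ↥G := by rw [h]; exact Subgroup.mem_top y
    have hc := Subgroup.mem_center_iff.mp hy nn
    have h2 : nn * y * nn⁻¹ = y := by rw [hc]; group
    rw [nn_conj] at h2
    have h3 : y ^ 7 = 1 := by
      have : y ^ 8 = y ^ 7 * y := pow_succ y 7
      rw [this] at h2
      exact mul_right_cancel (h2.trans (one_mul y).symm)
    have hd : orderOf y ∣ 7 := orderOf_dvd_of_pow_eq_one h3
    rw [orderOf_y] at hd
    norm_num at hd

/-! ### the outer automorphism -/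

theorem pathProd_imgW (w : List ℕ) :
    pathProd (fun l => gw (imgW T2W l)) w = gw (w.flatMap (imgW T2W)) := by
  induction w with
  | nil =>
    rw [List.flatMap_nil, gw_nil]
    rfl
  | cons l ls ih =>
    show pathProd _ ls * gw (imgW T2W l) = _
    rw [ih, List.flatMap_cons, gw_append]

theorem imgW_inv (l : ℕ) (h2 : 2 ≤ l) (h8 : l < 8) : (gw (imgW T2W l))⁻¹ = gw (imgW T2W l) := by
  have h := chk_inv2
  rw [List.all_eq_true] at h
  have hl : l ∈ ([2, 3, 4, 5, 6, 7] : List ℕ) := by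
    simp only [List.mem_cons, List.not_mem_nil, or_false]
    omega
  have := (sigEq_iff _ _).mp (h l hl)
  rw [gw_append, gw_nil] at this
  exact inv_eq_of_mul_eq_one_left this

theorem imgW_one : gw (imgW T2W 1) = (gw (imgW T2W 0))⁻¹ := by
  have e : imgW T2W 1 = winv (imgW T2W 0) := rfl
  rw [e, gw_winv]

theorem hγ (x : Cfsg.Spor.ON.Gen) (b : Bool) :
    gw (imgW T2W (lw (x, b))) =
      cond b (gw (imgW T2W (lw (x, true)))) (gw (imgW T2W (lw (x, true))))⁻¹ := by
  cases b
  · cases x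
    · exact imgW_one
    · exact (imgW_inv 2 (by norm_num) (by norm_num)).symm
    · exact (imgW_inv 3 (by norm_num) (by norm_num)).symm
    · exact (imgW_inv 4 (by norm_num) (by norm_num)).symm
    · exact (imgW_inv 5 (by norm_num) (by norm_num)).symm
    · exact (imgW_inv 6 (by norm_num) (by norm_num)).symm
    · exact (imgW_inv 7 (by norm_num) (by norm_num)).symm
  · rfl

theorem lift_mk (L : List (Cfsg.Spor.ON.Gen × Bool)) :
    FreeGroup.lift (fun x => gw (imgW T2W (lw (x, true)))) (FreeGroup.mk L) =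
      gw ((pathOf lw L).flatMap (imgW T2W)) := by
  rw [lift_mk_eq_pathProd _ lw (fun l => gw (imgW T2W l)) hγ L, pathProd_imgW]

theorem hrel_img : ∀ r ∈ rels,
    FreeGroup.lift (fun x => gw (imgW T2W (lw (x, true)))) r = 1 := by
  intro r hr
  obtain ⟨L, hL, rfl⟩ := (link.hrels r).mp hr
  rw [lift_mk]
  have h := chk_rels
  rw [List.all_eq_true] at h
  have := (sigEq_iff _ _).mp (h _ (hrelmem L hL))
  rwa [gw_nil] at this

/-- the endomorphism of the presented group given by the second pair -/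
def θP : PresentedGroup rels →* ↥G := PresentedGroup.toGroup hrel_img

theorem θP_mk (L : List (Cfsg.Spor.ON.Gen × Bool)) :
    θP (PresentedGroup.mk rels (FreeGroup.mk L)) = gw ((pathOf lw L).flatMap (imgW T2W)) :=
  lift_mk L

theorem exists_theta : ∃ θ : ↥G →* ↥G, ∀ w : List ℕ, (∀ l ∈ w, l < 8) →
    θ (gw w) = gw (w.flatMap (imgW T2W)) := by
  obtain ⟨e, he, -⟩ := exists_iso
  refine ⟨θP.comp e.symm.toMonoidHom, ?_⟩
  intro w hw
  let L : List (Cfsg.Spor.ON.Gen × Bool) := (w.reverse).map dec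
  have hL : pathOf lw L = w := by
    unfold pathOf
    rw [List.map_map, ← List.map_reverse, List.reverse_reverse]
    conv_rhs => rw [← List.map_id w]
    apply List.map_congr_left
    intro l hl
    exact link.d1 l (hw l hl)
  have h1 : e.symm (gw w) = PresentedGroup.mk rels (FreeGroup.mk L) := by
    rw [MulEquiv.symm_apply_eq, he L, hL]
  show θP (e.symm (gw w)) = _
  rw [h1, θP_mk, hL]

theorem exists_outer : ∃ Θ : MulAut ↥G, Θ t0 = t2 ∧ Θ y = y := by
  obtain ⟨θ, hθ⟩ := exists_theta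
  have hbase : ∀ l ∈ T0B ++ YB, l < 8 := by
    intro l hl
    have h := chk_base_lt
    rw [List.all_eq_true] at h
    have := h l hl
    simpa [Nat.blt] using this
  have ht : θ t0 = t2 := by
    unfold t0 t2
    rw [← (sigEq_iff _ _).mp chk_t0b, hθ T0B fun l hl => hbase l (List.mem_append_left _ hl)]
    exact (sigEq_iff _ _).mp chk_img_t
  have hy : θ y = y := by
    unfold y
    rw [← (sigEq_iff _ _).mp chk_yb, hθ YB fun l hl => hbase l (List.mem_append_right _ hl)]
    exact ((sigEq_iff _ _).mp chk_img_y).trans ((sigEq_iff _ _).mp chk_yb).symm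
  have hbij : Function.Bijective θ := bijective_of_simple θ y (by rw [hy]; exact y_ne)
  exact ⟨MulEquiv.ofBijective θ hbij, ht, hy⟩

theorem gw_UW (TW : List ℕ) : gw (UW TW) = y ^ 2 * gw TW * y ^ 6 * gw TW := by
  unfold UW
  rw [gw_append, gw_append, gw_append, gw_rpt_y, gw_rpt_y]
  simp only [mul_assoc]

theorem outer_not_inner (Θ : MulAut ↥G) (h0 : Θ t0 = t2) (hy : Θ y = y) : Θ ∉ Cfsg.Inn ↥G := by
  rintro ⟨h, hh⟩
  have hΘ : ∀ x, Θ x = h * x * h⁻¹ := by
    intro x
    rw [← hh]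
    rfl
  have himg : gw (UW T2W) = h * gw (UW T0W) * h⁻¹ := by
    rw [← hΘ, gw_UW, gw_UW, map_mul, map_mul, map_mul, map_pow, map_pow, hy]
    show _ = y ^ 2 * Θ t0 * y ^ 6 * Θ t0
    rw [h0]
    rfl
  have hp : (20035 : ℕ) < XT.n := by decide
  have hfix : (gw (UW T0W)).1 ⟨20035, hp⟩ = ⟨20035, hp⟩ := by
    apply Fin.ext
    have := gwp_apply (UW T0W) ⟨20035, hp⟩
    rw [show (gw (UW T0W)).1 = gwp (UW T0W) from rfl, this]
    exact Nat.eq_of_beq_eq_true chk_fix
  let q : Fin XT.n := h.1 ⟨20035, hp⟩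
  have hq : (gw (UW T2W)).1 q = q := by
    rw [himg]
    show h.1 ((gw (UW T0W)).1 (h⁻¹.1 (h.1 ⟨20035, hp⟩))) = h.1 ⟨20035, hp⟩
    have : h⁻¹.1 (h.1 ⟨20035, hp⟩) = ⟨20035, hp⟩ := by
      show (h.1).symm (h.1 ⟨20035, hp⟩) = _
      exact Equiv.symm_apply_apply _ _
    rw [this, hfix]
  have hval := congrArg Fin.val hq
  rw [show (gw (UW T2W)).1 = gwp (UW T2W) from rfl, gwp_apply] at hval
  exact noFix_all q.val q.2 hval

/-- the O'Nan group on 122760 points has two classes of outer automorphisms -/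
theorem card_out_G : Nat.card (Cfsg.Out ↥G) = 2 := by
  obtain ⟨Θ, h0, hy⟩ := exists_outer
  exact card_out_eq_two center_G card_mulAut_G Θ (outer_not_inner Θ h0 hy)

/-- the presented O'Nan group has two classes of outer automorphisms -/
theorem card_out_ON : Nat.card (Cfsg.Out Cfsg.Spor.ON) = 2 := by
  obtain ⟨e, -, -⟩ := exists_iso
  exact (card_out_congr e).trans card_out_G

end

end Cfsg.Agent.Lib.Helper15.OnO
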