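import Cfsg.Agent.Lib.Helper15.OnOMainChk
set_option autoImplicit false
set_option maxRecDepth 100000
set_option maxHeartbeats 0
set_option Elab.async false

/-! The O'Nan group on 122760 points: an element without fixed points. -/

namespace Cfsg.Agent.Lib.Helper15.OnO
open Cfsg.Agent.Lib.Helper28.TC2Upper Cfsg.Agent.Lib.Helper28.TC2Lower

noncomputable section

/-- the element of the word in the second pair moves the points `lo, …, lo + cnt - 1` -/
def noFix (lo cnt : ℕ) : Bool :=
  allLoop (fun i => force (Nat.add lo i) fun p => not (Nat.beq (wk (UW T2W) p) p)) cnt

theorem noFix0 : noFix 0 2048 = true := by decide +kernel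
theorem noFix1 : noFix 2048 2048 = true := by decide +kernel
theorem noFix2 : noFix 4096 2048 = true := by decide +kernel
theorem noFix3 : noFix 6144 2048 = true := by decide +kernel
theorem noFix4 : noFix 8192 2048 = true := by decide +kernel
theorem noFix5 : noFix 10240 2048 = true := by decide +kernel
theorem noFix6 : noFix 12288 2048 = true := by decide +kernel
theorem noFix7 : noFix 14336 2048 = true := by decide +kernel
theorem noFix8 : noFix 16384 2048 = true := by decide +kernel
theorem noFix9 : noFix 18432 2048 = true := by decide +kernel
theorem noFix10 : noFix 20480 2048 = true := by decide +kernel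
theorem noFix11 : noFix 22528 2048 = true := by decide +kernel
theorem noFix12 : noFix 24576 2048 = true := by decide +kernel
theorem noFix13 : noFix 26624 2048 = true := by decide +kernel
theorem noFix14 : noFix 28672 2048 = true := by decide +kernel
theorem noFix15 : noFix 30720 2048 = true := by decide +kernel
theorem noFix16 : noFix 32768 2048 = true := by decide +kernel
theorem noFix17 : noFix 34816 2048 = true := by decide +kernel
theorem noFix18 : noFix 36864 2048 = true := by decide +kernel
theorem noFix19 : noFix 38912 2048 = true := by decide +kernel

end

end Cfsg.Agent.Lib.Helper15.OnO
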