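import Cfsg.Agent.Lib.Helper15.OnOSylDef

set_option autoImplicit false
set_option maxRecDepth 100000
set_option maxHeartbeats 0
set_option Elab.async false

/-! Checks of the data of a Sylow 2-subgroup of the O'Nan group on 122760 points. -/

namespace Cfsg.Agent.Lib.Helper15.OnO
open Cfsg.Agent.Lib.Helper28.TC2Upper Cfsg.Agent.Lib.Helper28.TC2Lower

noncomputable section

theorem sylWords0 : sylWordsB 0 256 = true := by decide +kernel
theorem sylWords1 : sylWordsB 256 256 = true := by decide +kernel

theorem sylIncr : sylIncrB 0 511 = true := by decide +kernel

theorem sylTable0 : sylTableB 0 128 = true := by decide +kernel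
theorem sylTable1 : sylTableB 128 128 = true := by decide +kernel
theorem sylTable2 : sylTableB 256 128 = true := by decide +kernel
theorem sylTable3 : sylTableB 384 128 = true := by decide +kernel

theorem sylCent0 : sylCentB 0 256 = true := by decide +kernel
theorem sylCent1 : sylCentB 256 256 = true := by decide +kernel

theorem sylComm : (SGs.all fun w => sigEq ([2] ++ w) (w ++ [2])) = true := by decide +kernel

theorem sylOne : Nat.beq (pc 0) (codeW []) && Nat.beq (pc 2) (codeW [2]) = true := by decide +kernel

end

end Cfsg.Agent.Lib.Helper15.OnO
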