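import Cfsg.Agent.Lib.Helper15.OnOSylData
import Cfsg.Agent.Lib.Helper15.OnOFast

set_option autoImplicit false
set_option maxRecDepth 100000

/-!
A Sylow 2-subgroup of the O'Nan group on 122760 points: access to the packed data of its 512
elements, and the Boolean checks of the words, of the codes, of the multiplication table and of the
centre.
-/

namespace Cfsg.Agent.Lib.Helper15.OnO
open Cfsg.Agent.Lib.Helper28.TC2Upper Cfsg.Agent.Lib.Helper28.TC2Lower Cfsg.Agent.Lib.Helper28.TC2Range
open Cfsg.Agent.Lib.Helper28.TC2Bsgs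

noncomputable section

/-- the word of the generator `k` -/
def sylG (k : ℕ) : List ℕ := SGs.getD k []

/-- the entry `i` of width `w` (modulus `M`) of a packed list -/
def sylEnt (D w M i : ℕ) : ℕ := Nat.mod (Nat.shiftRight D (Nat.mul w i)) M

/-- the packed word of the element `i` -/
def pwE (i : ℕ) : ℕ := sylEnt sylWD 32 4294967296 i

/-- the code of the element `i` -/
def pc (i : ℕ) : ℕ := sylEnt sylCD 72 4722366482869645213696 i

/-- the packed row of the multiplication table of the element `i` -/
def pmE (i : ℕ) : ℕ := sylEnt sylMD 64 18446744073709551616 i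

/-- the index of the product of the generator `k` and the element of the row `m` -/
def pmOf (m k : ℕ) : ℕ := Nat.mod (Nat.shiftRight m (Nat.mul 9 k)) 512

/-- the index of the product of the generator `k` and the element `i` -/
def pm (i k : ℕ) : ℕ := pmOf (pmE i) k

theorem pm_lt (i k : ℕ) : pm i k < 512 := Nat.mod_lt _ (by norm_num)

/-- the witness generator for the element `i` -/
def pwk (i : ℕ) : ℕ := Nat.mod (Nat.shiftRight (pmE i) 54) 8

/-- the witness point for the element `i` -/
def pwb (i : ℕ) : ℕ := Nat.mod (Nat.shiftRight (pmE i) 57) 8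

/-- the generators of a packed word -/
def pgiE (E : ℕ) : List ℕ :=
  (List.range (Nat.mod E 16)).map fun j => Nat.mod (Nat.shiftRight E (Nat.add 4 (Nat.mul 3 j))) 8

/-- the word of a list of generators -/
def expW (ks : List ℕ) : List ℕ := ks.flatMap sylG

/-- the word of the element `i` -/
def pwl (i : ℕ) : List ℕ := expW (pgiE (pwE i))

/-! ### the action of a word on codes -/

/-- the component `j` of a code -/
def comp (c j : ℕ) : ℕ := Nat.mod (Nat.shiftRight c (Nat.mul 17 (Nat.sub 3 j))) 131072

/-- the code of the product of the element of a word and an element with the code `c` -/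
def mapCode (w : List ℕ) (c : ℕ) : ℕ :=
  Nat.add (Nat.mul 131072 (Nat.add (Nat.mul 131072 (Nat.add (Nat.mul 131072 (wk w (comp c 0)))
    (wk w (comp c 1)))) (wk w (comp c 2)))) (wk w (comp c 3))

/-! ### the checks -/

/-- the words use the generators and have the listed codes -/
def sylWordsB (lo cnt : ℕ) : Bool :=
  allLoop (fun j => force (Nat.add lo j) fun i => force (pwE i) fun E =>
    and ((pgiE E).all fun k => Nat.blt k 6) (Nat.beq (codeW (expW (pgiE E))) (pc i))) cnt

/-- the codes increase -/
def sylIncrB (lo cnt : ℕ) : Bool :=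
  allLoop (fun j => force (Nat.add lo j) fun i => Nat.blt (pc i) (pc (Nat.succ i))) cnt

/-- the multiplication table: the codes of the products -/
def sylTableB (lo cnt : ℕ) : Bool :=
  allLoop (fun j => force (Nat.add lo j) fun i => force (pc i) fun c => force (pmE i) fun m =>
    allLoop (fun k => force (pmOf m k) fun i' => Nat.beq (mapCode (sylG k) c) (pc i')) 6) cnt

/-- the elements other than the identity and the involution `a` do not commute with a generator -/
def sylCentB (lo cnt : ℕ) : Bool :=
  allLoop (fun j => force (Nat.add lo j) fun i => or (Nat.beq i 0) (or (Nat.beq i 2)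
    (force (pwk i) fun k => force (pwb i) fun b =>
      and (Nat.blt k 6) (and (Nat.blt b 6)
        (not (Nat.beq (wk (sylG k ++ pwl i) b) (wk (pwl i ++ sylG k) b))))))) cnt

theorem allLoop_force_add (f : ℕ → Bool) (lo cnt : ℕ) :
    allLoop (fun j => force (Nat.add lo j) f) cnt = true ↔ ∀ i, lo ≤ i → i < lo + cnt → f i = true := by
  rw [allLoop_eq_true]
  constructor
  · intro h i h1 h2
    have := h (i - lo) (by omega)
    rw [force_eq] at this
    have e : Nat.add lo (i - lo) = i := by simp only [Nat.add_eq]; omega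
    rwa [e] at this
  · intro h j hj
    rw [force_eq]
    exact h _ (by simp only [Nat.add_eq]; omega) (by simp only [Nat.add_eq]; omega)

theorem sylWordsB_spec {lo cnt : ℕ} (h : sylWordsB lo cnt = true) (i : ℕ) (h1 : lo ≤ i)
    (h2 : i < lo + cnt) : (∀ k ∈ pgiE (pwE i), k < 6) ∧ codeW (pwl i) = pc i := by
  unfold sylWordsB at h
  have := (allLoop_force_add _ lo cnt).mp h i h1 h2
  rw [force_eq, Bool.and_eq_true, List.all_eq_true] at this
  refine ⟨fun k hk => ?_, Nat.eq_of_beq_eq_true this.2⟩
  have := this.1 k hk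
  simpa [Nat.blt] using this

theorem sylIncrB_spec {lo cnt : ℕ} (h : sylIncrB lo cnt = true) (i : ℕ) (h1 : lo ≤ i)
    (h2 : i < lo + cnt) : pc i < pc (i + 1) := by
  unfold sylIncrB at h
  have := (allLoop_force_add _ lo cnt).mp h i h1 h2
  simpa [Nat.blt] using this

theorem sylTableB_spec {lo cnt : ℕ} (h : sylTableB lo cnt = true) (i : ℕ) (h1 : lo ≤ i)
    (h2 : i < lo + cnt) (k : ℕ) (hk : k < 6) : mapCode (sylG k) (pc i) = pc (pm i k) := by
  unfold sylTableB at h
  have := (allLoop_force_add _ lo cnt).mp h i h1 h2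
  rw [force_eq, force_eq, allLoop_eq_true] at this
  have h3 := this k hk
  rw [force_eq] at h3
  exact Nat.eq_of_beq_eq_true h3

theorem sylCentB_spec {lo cnt : ℕ} (h : sylCentB lo cnt = true) (i : ℕ) (h1 : lo ≤ i)
    (h2 : i < lo + cnt) (hi0 : i ≠ 0) (hi2 : i ≠ 2) :
    ∃ k, k < 6 ∧ ∃ b, b < 6 ∧ wk (sylG k ++ pwl i) b ≠ wk (pwl i ++ sylG k) b := by
  unfold sylCentB at h
  have := (allLoop_force_add _ lo cnt).mp h i h1 h2
  rw [Bool.or_eq_true, Bool.or_eq_true] at this
  rcases this with h3 | h3 | h3
  · exact absurd (Nat.eq_of_beq_eq_true h3) hi0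
  · exact absurd (Nat.eq_of_beq_eq_true h3) hi2
  · rw [force_eq, force_eq, Bool.and_eq_true, Bool.and_eq_true] at h3
    obtain ⟨a1, a2, a3⟩ := h3
    refine ⟨pwk i, by simpa [Nat.blt] using a1, pwb i, by simpa [Nat.blt] using a2, ?_⟩
    intro e
    rw [e] at a3
    simp at a3

end

end Cfsg.Agent.Lib.Helper15.OnO
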