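import Cfsg.Agent.Lib.Helper28.TCONTable
import Cfsg.Agent.Lib.Helper28.TC2Bsgs
import Cfsg.Agent.Lib.Helper15.OnOTabC0
import Cfsg.Agent.Lib.Helper15.OnOTabC1
import Cfsg.Agent.Lib.Helper15.OnOTabC2
set_option autoImplicit false
set_option maxRecDepth 100000

/-!
The O'Nan group on 122760 points: a table of 34 letters (the letters of the coset table of the
presentation, 24 further involutions, an element of order 11 and its inverse).  The columns are stored in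
chunks of 1024 points; the chunks of the first eight letters are those of the coset table.  Generated data.
-/

namespace Cfsg.Agent.Lib.Helper15.OnO
open Cfsg.Agent.Lib.Helper28.TC2Upper Cfsg.Agent.Lib.Helper28.TC2Lower

/-- the chunks of the columns of the letters from the ninth on -/
def colRest : BT ℕ := (BT.node 2519 (BT.node 1739 (BT.node 1349 (BT.node 1154 (BT.node 1057 (BT.node 1008 (BT.node 984 (BT.node 972 (BT.node 966 (BT.node 963 (BT.node 961 (BT.node 960 (BT.leaf cX960) (BT.leaf cX961)) (BT.node 962 (BT.leaf cX962) (BT.leaf cX963))) (BT.node 965 (BT.node 964 (BT.leaf cX964) (BT.leaf cX965)) (BT.leaf cX966))) (BT.node 969 (BT.node 968 (BT.node 967 (BT.leaf cX967) (BT.leaf cX968)) (BT.leaf cX969)) (BT.node 971 (BT.node 970 (BT.leaf cX970) (BT.leaf cX971)) (BT.leaf cX972)))) (BT.node 978 (BT.node 975 (BT.node 974 (BT.node 973 (BT.leaf cX973) (BT.leaf cX974)) (BT.leaf cX975)) (BT.node 977 (BT.node 976 (BT.leaf cX976) (BT.leaf cX977)) (BT.leaf cX978))) (BT.node 981 (BT.node 980 (BT.node 979 (BT.leaf cX979) (BT.leaf cX980)) (BT.leaf cX981)) (BT.node 983 (BT.node 982 (BT.leaf cX982) (BT.leaf cX983)) (BT.leaf cX984))))) (BT.node 996 (BT.node 990 (BT.node 987 (BT.node 986 (BT.node 985 (BT.leaf cX985) (BT.leaf cX986)) (BT.leaf cX987)) (BT.node 989 (BT.node 988 (BT.leaf cX988) (BT.leaf cX989)) (BT.leaf cX990))) (BT.node 993 (BT.node 992 (BT.node 991 (BT.leaf cX991) (BT.leaf cX992)) (BT.leaf cX993)) (BT.node 995 (BT.node 994 (BT.leaf cX994) (BT.leaf cX995)) (BT.leaf cX996)))) (BT.node 1002 (BT.node 999 (BT.node 998 (BT.node 997 (BT.leaf cX997) (BT.leaf cX998)) (BT.leaf cX999)) (BT.node 1001 (BT.node 1000 (BT.leaf cX1000) (BT.leaf cX1001)) (BT.leaf cX1002))) (BT.node 1005 (BT.node 1004 (BT.node 1003 (BT.leaf cX1003) (BT.leaf cX1004)) (BT.leaf cX1005)) (BT.node 1007 (BT.node 1006 (BT.leaf cX1006) (BT.leaf cX1007)) (BT.leaf cX1008)))))) (BT.node 1033 (BT.node 1021 (BT.node 1015 (BT.node 1012 (BT.node 1010 (BT.node 1009 (BT.leaf cX1009) (BT.leaf cX1010)) (BT.node 1011 (BT.leaf cX1011) (BT.leaf cX1012))) (BT.node 1014 (BT.node 1013 (BT.leaf cX1013) (BT.leaf cX1014)) (BT.leaf cX1015))) (BT.node 1018 (BT.node 1017 (BT.node 1016 (BT.leaf cX1016) (BT.leaf cX1017)) (BT.leaf cX1018)) (BT.node 1020 (BT.node 1019 (BT.leaf cX1019) (BT.leaf cX1020)) (BT.leaf cX1021)))) (BT.node 1027 (BT.node 1024 (BT.node 1023 (BT.node 1022 (BT.leaf cX1022) (BT.leaf cX1023)) (BT.leaf cX1024)) (BT.node 1026 (BT.node 1025 (BT.leaf cX1025) (BT.leaf cX1026)) (BT.leaf cX1027))) (BT.node 1030 (BT.node 1029 (BT.node 1028 (BT.leaf cX1028) (BT.leaf cX1029)) (BT.leaf cX1030)) (BT.node 1032 (BT.node 1031 (BT.leaf cX1031) (BT.leaf cX1032)) (BT.leaf cX1033))))) (BT.node 1045 (BT.node 1039 (BT.node 1036 (BT.node 1035 (BT.node 1034 (BT.leaf cX1034) (BT.leaf cX1035)) (BT.leaf cX1036)) (BT.node 1038 (BT.node 1037 (BT.leaf cX1037) (BT.leaf cX1038)) (BT.leaf cX1039))) (BT.node 1042 (BT.node 1041 (BT.node 1040 (BT.leaf cX1040) (BT.leaf cX1041)) (BT.leaf cX1042)) (BT.node 1044 (BT.node 1043 (BT.leaf cX1043) (BT.leaf cX1044)) (BT.leaf cX1045)))) (BT.node 1051 (BT.node 1048 (BT.node 1047 (BT.node 1046 (BT.leaf cX1046) (BT.leaf cX1047)) (BT.leaf cX1048)) (BT.node 1050 (BT.node 1049 (BT.leaf cX1049) (BT.leaf cX1050)) (BT.leaf cX1051))) (BT.node 1054 (BT.node 1053 (BT.node 1052 (BT.leaf cX1052) (BT.leaf cX1053)) (BT.leaf cX1054)) (BT.node 1056 (BT.node 1055 (BT.leaf cX1055) (BT.leaf cX1056)) (BT.leaf cX1057))))))) (BT.node 1106 (BT.node 1082 (BT.node 1070 (BT.node 1064 (BT.node 1061 (BT.node 1059 (BT.node 1058 (BT.leaf cX1058) (BT.leaf cX1059)) (BT.node 1060 (BT.leaf cX1060) (BT.leaf cX1061))) (BT.node 1063 (BT.node 1062 (BT.leaf cX1062) (BT.leaf cX1063)) (BT.leaf cX1064))) (BT.node 1067 (BT.node 1066 (BT.node 1065 (BT.leaf cX1065) (BT.leaf cX1066)) (BT.leaf cX1067)) (BT.node 1069 (BT.node 1068 (BT.leaf cX1068) (BT.leaf cX1069)) (BT.leaf cX1070)))) (BT.node 1076 (BT.node 1073 (BT.node 1072 (BT.node 1071 (BT.leaf cX1071) (BT.leaf cX1072)) (BT.leaf cX1073)) (BT.node 1075 (BT.node 1074 (BT.leaf cX1074) (BT.leaf cX1075)) (BT.leaf cX1076))) (BT.node 1079 (BT.node 1078 (BT.node 1077 (BT.leaf cX1077) (BT.leaf cX1078)) (BT.leaf cX1079)) (BT.node 1081 (BT.node 1080 (BT.leaf cX1080) (BT.leaf cX1081)) (BT.leaf cX1082))))) (BT.node 1094 (BT.node 1088 (BT.node 1085 (BT.node 1084 (BT.node 1083 (BT.leaf cX1083) (BT.leaf cX1084)) (BT.leaf cX1085)) (BT.node 1087 (BT.node 1086 (BT.leaf cX1086) (BT.leaf cX1087)) (BT.leaf cX1088))) (BT.node 1091 (BT.node 1090 (BT.node 1089 (BT.leaf cX1089) (BT.leaf cX1090)) (BT.leaf cX1091)) (BT.node 1093 (BT.node 1092 (BT.leaf cX1092) (BT.leaf cX1093)) (BT.leaf cX1094)))) (BT.node 1100 (BT.node 1097 (BT.node 1096 (BT.node 1095 (BT.leaf cX1095) (BT.leaf cX1096)) (BT.leaf cX1097)) (BT.node 1099 (BT.node 1098 (BT.leaf cX1098) (BT.leaf cX1099)) (BT.leaf cX1100))) (BT.node 1103 (BT.node 1102 (BT.node 1101 (BT.leaf cX1101) (BT.leaf cX1102)) (BT.leaf cX1103)) (BT.node 1105 (BT.node 1104 (BT.leaf cX1104) (BT.leaf cX1105)) (BT.leaf cX1106)))))) (BT.node 1130 (BT.node 1118 (BT.node 1112 (BT.node 1109 (BT.node 1108 (BT.node 1107 (BT.leaf cX1107) (BT.leaf cX1108)) (BT.leaf cX1109)) (BT.node 1111 (BT.node 1110 (BT.leaf cX1110) (BT.leaf cX1111)) (BT.leaf cX1112))) (BT.node 1115 (BT.node 1114 (BT.node 1113 (BT.leaf cX1113) (BT.leaf cX1114)) (BT.leaf cX1115)) (BT.node 1117 (BT.node 1116 (BT.leaf cX1116) (BT.leaf cX1117)) (BT.leaf cX1118)))) (BT.node 1124 (BT.node 1121 (BT.node 1120 (BT.node 1119 (BT.leaf cX1119) (BT.leaf cX1120)) (BT.leaf cX1121)) (BT.node 1123 (BT.node 1122 (BT.leaf cX1122) (BT.leaf cX1123)) (BT.leaf cX1124))) (BT.node 1127 (BT.node 1126 (BT.node 1125 (BT.leaf cX1125) (BT.leaf cX1126)) (BT.leaf cX1127)) (BT.node 1129 (BT.node 1128 (BT.leaf cX1128) (BT.leaf cX1129)) (BT.leaf cX1130))))) (BT.node 1142 (BT.node 1136 (BT.node 1133 (BT.node 1132 (BT.node 1131 (BT.leaf cX1131) (BT.leaf cX1132)) (BT.leaf cX1133)) (BT.node 1135 (BT.node 1134 (BT.leaf cX1134) (BT.leaf cX1135)) (BT.leaf cX1136))) (BT.node 1139 (BT.node 1138 (BT.node 1137 (BT.leaf cX1137) (BT.leaf cX1138)) (BT.leaf cX1139)) (BT.node 1141 (BT.node 1140 (BT.leaf cX1140) (BT.leaf cX1141)) (BT.leaf cX1142)))) (BT.node 1148 (BT.node 1145 (BT.node 1144 (BT.node 1143 (BT.leaf cX1143) (BT.leaf cX1144)) (BT.leaf cX1145)) (BT.node 1147 (BT.node 1146 (BT.leaf cX1146) (BT.leaf cX1147)) (BT.leaf cX1148))) (BT.node 1151 (BT.node 1150 (BT.node 1149 (BT.leaf cX1149) (BT.leaf cX1150)) (BT.leaf cX1151)) (BT.node 1153 (BT.node 1152 (BT.leaf cX1152) (BT.leaf cX1153)) (BT.leaf cX1154)))))))) (BT.node 1252 (BT.node 1203 (BT.node 1179 (BT.node 1167 (BT.node 1161 (BT.node 1158 (BT.node 1156 (BT.node 1155 (BT.leaf cX1155) (BT.leaf cX1156)) (BT.node 1157 (BT.leaf cX1157) (BT.leaf cX1158))) (BT.node 1160 (BT.node 1159 (BT.leaf cX1159) (BT.leaf cX1160)) (BT.leaf cX1161))) (BT.node 1164 (BT.node 1163 (BT.node 1162 (BT.leaf cX1162) (BT.leaf cX1163)) (BT.leaf cX1164)) (BT.node 1166 (BT.node 1165 (BT.leaf cX1165) (BT.leaf cX1166)) (BT.leaf cX1167)))) (BT.node 1173 (BT.node 1170 (BT.node 1169 (BT.node 1168 (BT.leaf cX1168) (BT.leaf cX1169)) (BT.leaf cX1170)) (BT.node 1172 (BT.node 1171 (BT.leaf cX1171) (BT.leaf cX1172)) (BT.leaf cX1173))) (BT.node 1176 (BT.node 1175 (BT.node 1174 (BT.leaf cX1174) (BT.leaf cX1175)) (BT.leaf cX1176)) (BT.node 1178 (BT.node 1177 (BT.leaf cX1177) (BT.leaf cX1178)) (BT.leaf cX1179))))) (BT.node 1191 (BT.node 1185 (BT.node 1182 (BT.node 1181 (BT.node 1180 (BT.leaf cX1180) (BT.leaf cX1181)) (BT.leaf cX1182)) (BT.node 1184 (BT.node 1183 (BT.leaf cX1183) (BT.leaf cX1184)) (BT.leaf cX1185))) (BT.node 1188 (BT.node 1187 (BT.node 1186 (BT.leaf cX1186) (BT.leaf cX1187)) (BT.leaf cX1188)) (BT.node 1190 (BT.node 1189 (BT.leaf cX1189) (BT.leaf cX1190)) (BT.leaf cX1191)))) (BT.node 1197 (BT.node 1194 (BT.node 1193 (BT.node 1192 (BT.leaf cX1192) (BT.leaf cX1193)) (BT.leaf cX1194)) (BT.node 1196 (BT.node 1195 (BT.leaf cX1195) (BT.leaf cX1196)) (BT.leaf cX1197))) (BT.node 1200 (BT.node 1199 (BT.node 1198 (BT.leaf cX1198) (BT.leaf cX1199)) (BT.leaf cX1200)) (BT.node 1202 (BT.node 1201 (BT.leaf cX1201) (BT.leaf cX1202)) (BT.leaf cX1203)))))) (BT.node 1228 (BT.node 1216 (BT.node 1210 (BT.node 1207 (BT.node 1205 (BT.node 1204 (BT.leaf cX1204) (BT.leaf cX1205)) (BT.node 1206 (BT.leaf cX1206) (BT.leaf cX1207))) (BT.node 1209 (BT.node 1208 (BT.leaf cX1208) (BT.leaf cX1209)) (BT.leaf cX1210))) (BT.node 1213 (BT.node 1212 (BT.node 1211 (BT.leaf cX1211) (BT.leaf cX1212)) (BT.leaf cX1213)) (BT.node 1215 (BT.node 1214 (BT.leaf cX1214) (BT.leaf cX1215)) (BT.leaf cX1216)))) (BT.node 1222 (BT.node 1219 (BT.node 1218 (BT.node 1217 (BT.leaf cX1217) (BT.leaf cX1218)) (BT.leaf cX1219)) (BT.node 1221 (BT.node 1220 (BT.leaf cX1220) (BT.leaf cX1221)) (BT.leaf cX1222))) (BT.node 1225 (BT.node 1224 (BT.node 1223 (BT.leaf cX1223) (BT.leaf cX1224)) (BT.leaf cX1225)) (BT.node 1227 (BT.node 1226 (BT.leaf cX1226) (BT.leaf cX1227)) (BT.leaf cX1228))))) (BT.node 1240 (BT.node 1234 (BT.node 1231 (BT.node 1230 (BT.node 1229 (BT.leaf cX1229) (BT.leaf cX1230)) (BT.leaf cX1231)) (BT.node 1233 (BT.node 1232 (BT.leaf cX1232) (BT.leaf cX1233)) (BT.leaf cX1234))) (BT.node 1237 (BT.node 1236 (BT.node 1235 (BT.leaf cX1235) (BT.leaf cX1236)) (BT.leaf cX1237)) (BT.node 1239 (BT.node 1238 (BT.leaf cX1238) (BT.leaf cX1239)) (BT.leaf cX1240)))) (BT.node 1246 (BT.node 1243 (BT.node 1242 (BT.node 1241 (BT.leaf cX1241) (BT.leaf cX1242)) (BT.leaf cX1243)) (BT.node 1245 (BT.node 1244 (BT.leaf cX1244) (BT.leaf cX1245)) (BT.leaf cX1246))) (BT.node 1249 (BT.node 1248 (BT.node 1247 (BT.leaf cX1247) (BT.leaf cX1248)) (BT.leaf cX1249)) (BT.node 1251 (BT.node 1250 (BT.leaf cX1250) (BT.leaf cX1251)) (BT.leaf cX1252))))))) (BT.node 1301 (BT.node 1277 (BT.node 1265 (BT.node 1259 (BT.node 1256 (BT.node 1254 (BT.node 1253 (BT.leaf cX1253) (BT.leaf cX1254)) (BT.node 1255 (BT.leaf cX1255) (BT.leaf cX1256))) (BT.node 1258 (BT.node 1257 (BT.leaf cX1257) (BT.leaf cX1258)) (BT.leaf cX1259))) (BT.node 1262 (BT.node 1261 (BT.node 1260 (BT.leaf cX1260) (BT.leaf cX1261)) (BT.leaf cX1262)) (BT.node 1264 (BT.node 1263 (BT.leaf cX1263) (BT.leaf cX1264)) (BT.leaf cX1265)))) (BT.node 1271 (BT.node 1268 (BT.node 1267 (BT.node 1266 (BT.leaf cX1266) (BT.leaf cX1267)) (BT.leaf cX1268)) (BT.node 1270 (BT.node 1269 (BT.leaf cX1269) (BT.leaf cX1270)) (BT.leaf cX1271))) (BT.node 1274 (BT.node 1273 (BT.node 1272 (BT.leaf cX1272) (BT.leaf cX1273)) (BT.leaf cX1274)) (BT.node 1276 (BT.node 1275 (BT.leaf cX1275) (BT.leaf cX1276)) (BT.leaf cX1277))))) (BT.node 1289 (BT.node 1283 (BT.node 1280 (BT.node 1279 (BT.node 1278 (BT.leaf cX1278) (BT.leaf cX1279)) (BT.leaf cX1280)) (BT.node 1282 (BT.node 1281 (BT.leaf cX1281) (BT.leaf cX1282)) (BT.leaf cX1283))) (BT.node 1286 (BT.node 1285 (BT.node 1284 (BT.leaf cX1284) (BT.leaf cX1285)) (BT.leaf cX1286)) (BT.node 1288 (BT.node 1287 (BT.leaf cX1287) (BT.leaf cX1288)) (BT.leaf cX1289)))) (BT.node 1295 (BT.node 1292 (BT.node 1291 (BT.node 1290 (BT.leaf cX1290) (BT.leaf cX1291)) (BT.leaf cX1292)) (BT.node 1294 (BT.node 1293 (BT.leaf cX1293) (BT.leaf cX1294)) (BT.leaf cX1295))) (BT.node 1298 (BT.node 1297 (BT.node 1296 (BT.leaf cX1296) (BT.leaf cX1297)) (BT.leaf cX1298)) (BT.node 1300 (BT.node 1299 (BT.leaf cX1299) (BT.leaf cX1300)) (BT.leaf cX1301)))))) (BT.node 1325 (BT.node 1313 (BT.node 1307 (BT.node 1304 (BT.node 1303 (BT.node 1302 (BT.leaf cX1302) (BT.leaf cX1303)) (BT.leaf cX1304)) (BT.node 1306 (BT.node 1305 (BT.leaf cX1305) (BT.leaf cX1306)) (BT.leaf cX1307))) (BT.node 1310 (BT.node 1309 (BT.node 1308 (BT.leaf cX1308) (BT.leaf cX1309)) (BT.leaf cX1310)) (BT.node 1312 (BT.node 1311 (BT.leaf cX1311) (BT.leaf cX1312)) (BT.leaf cX1313)))) (BT.node 1319 (BT.node 1316 (BT.node 1315 (BT.node 1314 (BT.leaf cX1314) (BT.leaf cX1315)) (BT.leaf cX1316)) (BT.node 1318 (BT.node 1317 (BT.leaf cX1317) (BT.leaf cX1318)) (BT.leaf cX1319))) (BT.node 1322 (BT.node 1321 (BT.node 1320 (BT.leaf cX1320) (BT.leaf cX1321)) (BT.leaf cX1322)) (BT.node 1324 (BT.node 1323 (BT.leaf cX1323) (BT.leaf cX1324)) (BT.leaf cX1325))))) (BT.node 1337 (BT.node 1331 (BT.node 1328 (BT.node 1327 (BT.node 1326 (BT.leaf cX1326) (BT.leaf cX1327)) (BT.leaf cX1328)) (BT.node 1330 (BT.node 1329 (BT.leaf cX1329) (BT.leaf cX1330)) (BT.leaf cX1331))) (BT.node 1334 (BT.node 1333 (BT.node 1332 (BT.leaf cX1332) (BT.leaf cX1333)) (BT.leaf cX1334)) (BT.node 1336 (BT.node 1335 (BT.leaf cX1335) (BT.leaf cX1336)) (BT.leaf cX1337)))) (BT.node 1343 (BT.node 1340 (BT.node 1339 (BT.node 1338 (BT.leaf cX1338) (BT.leaf cX1339)) (BT.leaf cX1340)) (BT.node 1342 (BT.node 1341 (BT.leaf cX1341) (BT.leaf cX1342)) (BT.leaf cX1343))) (BT.node 1346 (BT.node 1345 (BT.node 1344 (BT.leaf cX1344) (BT.leaf cX1345)) (BT.leaf cX1346)) (BT.node 1348 (BT.node 1347 (BT.leaf cX1347) (BT.leaf cX1348)) (BT.leaf cX1349))))))))) (BT.node 1544 (BT.node 1447 (BT.node 1398 (BT.node 1374 (BT.node 1362 (BT.node 1356 (BT.node 1353 (BT.node 1351 (BT.node 1350 (BT.leaf cX1350) (BT.leaf cX1351)) (BT.node 1352 (BT.leaf cX1352) (BT.leaf cX1353))) (BT.node 1355 (BT.node 1354 (BT.leaf cX1354) (BT.leaf cX1355)) (BT.leaf cX1356))) (BT.node 1359 (BT.node 1358 (BT.node 1357 (BT.leaf cX1357) (BT.leaf cX1358)) (BT.leaf cX1359)) (BT.node 1361 (BT.node 1360 (BT.leaf cX1360) (BT.leaf cX1361)) (BT.leaf cX1362)))) (BT.node 1368 (BT.node 1365 (BT.node 1364 (BT.node 1363 (BT.leaf cX1363) (BT.leaf cX1364)) (BT.leaf cX1365)) (BT.node 1367 (BT.node 1366 (BT.leaf cX1366) (BT.leaf cX1367)) (BT.leaf cX1368))) (BT.node 1371 (BT.node 1370 (BT.node 1369 (BT.leaf cX1369) (BT.leaf cX1370)) (BT.leaf cX1371)) (BT.node 1373 (BT.node 1372 (BT.leaf cX1372) (BT.leaf cX1373)) (BT.leaf cX1374))))) (BT.node 1386 (BT.node 1380 (BT.node 1377 (BT.node 1376 (BT.node 1375 (BT.leaf cX1375) (BT.leaf cX1376)) (BT.leaf cX1377)) (BT.node 1379 (BT.node 1378 (BT.leaf cX1378) (BT.leaf cX1379)) (BT.leaf cX1380))) (BT.node 1383 (BT.node 1382 (BT.node 1381 (BT.leaf cX1381) (BT.leaf cX1382)) (BT.leaf cX1383)) (BT.node 1385 (BT.node 1384 (BT.leaf cX1384) (BT.leaf cX1385)) (BT.leaf cX1386)))) (BT.node 1392 (BT.node 1389 (BT.node 1388 (BT.node 1387 (BT.leaf cX1387) (BT.leaf cX1388)) (BT.leaf cX1389)) (BT.node 1391 (BT.node 1390 (BT.leaf cX1390) (BT.leaf cX1391)) (BT.leaf cX1392))) (BT.node 1395 (BT.node 1394 (BT.node 1393 (BT.leaf cX1393) (BT.leaf cX1394)) (BT.leaf cX1395)) (BT.node 1397 (BT.node 1396 (BT.leaf cX1396) (BT.leaf cX1397)) (BT.leaf cX1398)))))) (BT.node 1423 (BT.node 1411 (BT.node 1405 (BT.node 1402 (BT.node 1400 (BT.node 1399 (BT.leaf cX1399) (BT.leaf cX1400)) (BT.node 1401 (BT.leaf cX1401) (BT.leaf cX1402))) (BT.node 1404 (BT.node 1403 (BT.leaf cX1403) (BT.leaf cX1404)) (BT.leaf cX1405))) (BT.node 1408 (BT.node 1407 (BT.node 1406 (BT.leaf cX1406) (BT.leaf cX1407)) (BT.leaf cX1408)) (BT.node 1410 (BT.node 1409 (BT.leaf cX1409) (BT.leaf cX1410)) (BT.leaf cX1411)))) (BT.node 1417 (BT.node 1414 (BT.node 1413 (BT.node 1412 (BT.leaf cX1412) (BT.leaf cX1413)) (BT.leaf cX1414)) (BT.node 1416 (BT.node 1415 (BT.leaf cX1415) (BT.leaf cX1416)) (BT.leaf cX1417))) (BT.node 1420 (BT.node 1419 (BT.node 1418 (BT.leaf cX1418) (BT.leaf cX1419)) (BT.leaf cX1420)) (BT.node 1422 (BT.node 1421 (BT.leaf cX1421) (BT.leaf cX1422)) (BT.leaf cX1423))))) (BT.node 1435 (BT.node 1429 (BT.node 1426 (BT.node 1425 (BT.node 1424 (BT.leaf cX1424) (BT.leaf cX1425)) (BT.leaf cX1426)) (BT.node 1428 (BT.node 1427 (BT.leaf cX1427) (BT.leaf cX1428)) (BT.leaf cX1429))) (BT.node 1432 (BT.node 1431 (BT.node 1430 (BT.leaf cX1430) (BT.leaf cX1431)) (BT.leaf cX1432)) (BT.node 1434 (BT.node 1433 (BT.leaf cX1433) (BT.leaf cX1434)) (BT.leaf cX1435)))) (BT.node 1441 (BT.node 1438 (BT.node 1437 (BT.node 1436 (BT.leaf cX1436) (BT.leaf cX1437)) (BT.leaf cX1438)) (BT.node 1440 (BT.node 1439 (BT.leaf cX1439) (BT.leaf cX1440)) (BT.leaf cX1441))) (BT.node 1444 (BT.node 1443 (BT.node 1442 (BT.leaf cX1442) (BT.leaf cX1443)) (BT.leaf cX1444)) (BT.node 1446 (BT.node 1445 (BT.leaf cX1445) (BT.leaf cX1446)) (BT.leaf cX1447))))))) (BT.node 1496 (BT.node 1472 (BT.node 1460 (BT.node 1454 (BT.node 1451 (BT.node 1449 (BT.node 1448 (BT.leaf cX1448) (BT.leaf cX1449)) (BT.node 1450 (BT.leaf cX1450) (BT.leaf cX1451))) (BT.node 1453 (BT.node 1452 (BT.leaf cX1452) (BT.leaf cX1453)) (BT.leaf cX1454))) (BT.node 1457 (BT.node 1456 (BT.node 1455 (BT.leaf cX1455) (BT.leaf cX1456)) (BT.leaf cX1457)) (BT.node 1459 (BT.node 1458 (BT.leaf cX1458) (BT.leaf cX1459)) (BT.leaf cX1460)))) (BT.node 1466 (BT.node 1463 (BT.node 1462 (BT.node 1461 (BT.leaf cX1461) (BT.leaf cX1462)) (BT.leaf cX1463)) (BT.node 1465 (BT.node 1464 (BT.leaf cX1464) (BT.leaf cX1465)) (BT.leaf cX1466))) (BT.node 1469 (BT.node 1468 (BT.node 1467 (BT.leaf cX1467) (BT.leaf cX1468)) (BT.leaf cX1469)) (BT.node 1471 (BT.node 1470 (BT.leaf cX1470) (BT.leaf cX1471)) (BT.leaf cX1472))))) (BT.node 1484 (BT.node 1478 (BT.node 1475 (BT.node 1474 (BT.node 1473 (BT.leaf cX1473) (BT.leaf cX1474)) (BT.leaf cX1475)) (BT.node 1477 (BT.node 1476 (BT.leaf cX1476) (BT.leaf cX1477)) (BT.leaf cX1478))) (BT.node 1481 (BT.node 1480 (BT.node 1479 (BT.leaf cX1479) (BT.leaf cX1480)) (BT.leaf cX1481)) (BT.node 1483 (BT.node 1482 (BT.leaf cX1482) (BT.leaf cX1483)) (BT.leaf cX1484)))) (BT.node 1490 (BT.node 1487 (BT.node 1486 (BT.node 1485 (BT.leaf cX1485) (BT.leaf cX1486)) (BT.leaf cX1487)) (BT.node 1489 (BT.node 1488 (BT.leaf cX1488) (BT.leaf cX1489)) (BT.leaf cX1490))) (BT.node 1493 (BT.node 1492 (BT.node 1491 (BT.leaf cX1491) (BT.leaf cX1492)) (BT.leaf cX1493)) (BT.node 1495 (BT.node 1494 (BT.leaf cX1494) (BT.leaf cX1495)) (BT.leaf cX1496)))))) (BT.node 1520 (BT.node 1508 (BT.node 1502 (BT.node 1499 (BT.node 1498 (BT.node 1497 (BT.leaf cX1497) (BT.leaf cX1498)) (BT.leaf cX1499)) (BT.node 1501 (BT.node 1500 (BT.leaf cX1500) (BT.leaf cX1501)) (BT.leaf cX1502))) (BT.node 1505 (BT.node 1504 (BT.node 1503 (BT.leaf cX1503) (BT.leaf cX1504)) (BT.leaf cX1505)) (BT.node 1507 (BT.node 1506 (BT.leaf cX1506) (BT.leaf cX1507)) (BT.leaf cX1508)))) (BT.node 1514 (BT.node 1511 (BT.node 1510 (BT.node 1509 (BT.leaf cX1509) (BT.leaf cX1510)) (BT.leaf cX1511)) (BT.node 1513 (BT.node 1512 (BT.leaf cX1512) (BT.leaf cX1513)) (BT.leaf cX1514))) (BT.node 1517 (BT.node 1516 (BT.node 1515 (BT.leaf cX1515) (BT.leaf cX1516)) (BT.leaf cX1517)) (BT.node 1519 (BT.node 1518 (BT.leaf cX1518) (BT.leaf cX1519)) (BT.leaf cX1520))))) (BT.node 1532 (BT.node 1526 (BT.node 1523 (BT.node 1522 (BT.node 1521 (BT.leaf cX1521) (BT.leaf cX1522)) (BT.leaf cX1523)) (BT.node 1525 (BT.node 1524 (BT.leaf cX1524) (BT.leaf cX1525)) (BT.leaf cX1526))) (BT.node 1529 (BT.node 1528 (BT.node 1527 (BT.leaf cX1527) (BT.leaf cX1528)) (BT.leaf cX1529)) (BT.node 1531 (BT.node 1530 (BT.leaf cX1530) (BT.leaf cX1531)) (BT.leaf cX1532)))) (BT.node 1538 (BT.node 1535 (BT.node 1534 (BT.node 1533 (BT.leaf cX1533) (BT.leaf cX1534)) (BT.leaf cX1535)) (BT.node 1537 (BT.node 1536 (BT.leaf cX1536) (BT.leaf cX1537)) (BT.leaf cX1538))) (BT.node 1541 (BT.node 1540 (BT.node 1539 (BT.leaf cX1539) (BT.leaf cX1540)) (BT.leaf cX1541)) (BT.node 1543 (BT.node 1542 (BT.leaf cX1542) (BT.leaf cX1543)) (BT.leaf cX1544)))))))) (BT.node 1642 (BT.node 1593 (BT.node 1569 (BT.node 1557 (BT.node 1551 (BT.node 1548 (BT.node 1546 (BT.node 1545 (BT.leaf cX1545) (BT.leaf cX1546)) (BT.node 1547 (BT.leaf cX1547) (BT.leaf cX1548))) (BT.node 1550 (BT.node 1549 (BT.leaf cX1549) (BT.leaf cX1550)) (BT.leaf cX1551))) (BT.node 1554 (BT.node 1553 (BT.node 1552 (BT.leaf cX1552) (BT.leaf cX1553)) (BT.leaf cX1554)) (BT.node 1556 (BT.node 1555 (BT.leaf cX1555) (BT.leaf cX1556)) (BT.leaf cX1557)))) (BT.node 1563 (BT.node 1560 (BT.node 1559 (BT.node 1558 (BT.leaf cX1558) (BT.leaf cX1559)) (BT.leaf cX1560)) (BT.node 1562 (BT.node 1561 (BT.leaf cX1561) (BT.leaf cX1562)) (BT.leaf cX1563))) (BT.node 1566 (BT.node 1565 (BT.node 1564 (BT.leaf cX1564) (BT.leaf cX1565)) (BT.leaf cX1566)) (BT.node 1568 (BT.node 1567 (BT.leaf cX1567) (BT.leaf cX1568)) (BT.leaf cX1569))))) (BT.node 1581 (BT.node 1575 (BT.node 1572 (BT.node 1571 (BT.node 1570 (BT.leaf cX1570) (BT.leaf cX1571)) (BT.leaf cX1572)) (BT.node 1574 (BT.node 1573 (BT.leaf cX1573) (BT.leaf cX1574)) (BT.leaf cX1575))) (BT.node 1578 (BT.node 1577 (BT.node 1576 (BT.leaf cX1576) (BT.leaf cX1577)) (BT.leaf cX1578)) (BT.node 1580 (BT.node 1579 (BT.leaf cX1579) (BT.leaf cX1580)) (BT.leaf cX1581)))) (BT.node 1587 (BT.node 1584 (BT.node 1583 (BT.node 1582 (BT.leaf cX1582) (BT.leaf cX1583)) (BT.leaf cX1584)) (BT.node 1586 (BT.node 1585 (BT.leaf cX1585) (BT.leaf cX1586)) (BT.leaf cX1587))) (BT.node 1590 (BT.node 1589 (BT.node 1588 (BT.leaf cX1588) (BT.leaf cX1589)) (BT.leaf cX1590)) (BT.node 1592 (BT.node 1591 (BT.leaf cX1591) (BT.leaf cX1592)) (BT.leaf cX1593)))))) (BT.node 1618 (BT.node 1606 (BT.node 1600 (BT.node 1597 (BT.node 1595 (BT.node 1594 (BT.leaf cX1594) (BT.leaf cX1595)) (BT.node 1596 (BT.leaf cX1596) (BT.leaf cX1597))) (BT.node 1599 (BT.node 1598 (BT.leaf cX1598) (BT.leaf cX1599)) (BT.leaf cX1600))) (BT.node 1603 (BT.node 1602 (BT.node 1601 (BT.leaf cX1601) (BT.leaf cX1602)) (BT.leaf cX1603)) (BT.node 1605 (BT.node 1604 (BT.leaf cX1604) (BT.leaf cX1605)) (BT.leaf cX1606)))) (BT.node 1612 (BT.node 1609 (BT.node 1608 (BT.node 1607 (BT.leaf cX1607) (BT.leaf cX1608)) (BT.leaf cX1609)) (BT.node 1611 (BT.node 1610 (BT.leaf cX1610) (BT.leaf cX1611)) (BT.leaf cX1612))) (BT.node 1615 (BT.node 1614 (BT.node 1613 (BT.leaf cX1613) (BT.leaf cX1614)) (BT.leaf cX1615)) (BT.node 1617 (BT.node 1616 (BT.leaf cX1616) (BT.leaf cX1617)) (BT.leaf cX1618))))) (BT.node 1630 (BT.node 1624 (BT.node 1621 (BT.node 1620 (BT.node 1619 (BT.leaf cX1619) (BT.leaf cX1620)) (BT.leaf cX1621)) (BT.node 1623 (BT.node 1622 (BT.leaf cX1622) (BT.leaf cX1623)) (BT.leaf cX1624))) (BT.node 1627 (BT.node 1626 (BT.node 1625 (BT.leaf cX1625) (BT.leaf cX1626)) (BT.leaf cX1627)) (BT.node 1629 (BT.node 1628 (BT.leaf cX1628) (BT.leaf cX1629)) (BT.leaf cX1630)))) (BT.node 1636 (BT.node 1633 (BT.node 1632 (BT.node 1631 (BT.leaf cX1631) (BT.leaf cX1632)) (BT.leaf cX1633)) (BT.node 1635 (BT.node 1634 (BT.leaf cX1634) (BT.leaf cX1635)) (BT.leaf cX1636))) (BT.node 1639 (BT.node 1638 (BT.node 1637 (BT.leaf cX1637) (BT.leaf cX1638)) (BT.leaf cX1639)) (BT.node 1641 (BT.node 1640 (BT.leaf cX1640) (BT.leaf cX1641)) (BT.leaf cX1642))))))) (BT.node 1691 (BT.node 1667 (BT.node 1655 (BT.node 1649 (BT.node 1646 (BT.node 1644 (BT.node 1643 (BT.leaf cX1643) (BT.leaf cX1644)) (BT.node 1645 (BT.leaf cX1645) (BT.leaf cX1646))) (BT.node 1648 (BT.node 1647 (BT.leaf cX1647) (BT.leaf cX1648)) (BT.leaf cX1649))) (BT.node 1652 (BT.node 1651 (BT.node 1650 (BT.leaf cX1650) (BT.leaf cX1651)) (BT.leaf cX1652)) (BT.node 1654 (BT.node 1653 (BT.leaf cX1653) (BT.leaf cX1654)) (BT.leaf cX1655)))) (BT.node 1661 (BT.node 1658 (BT.node 1657 (BT.node 1656 (BT.leaf cX1656) (BT.leaf cX1657)) (BT.leaf cX1658)) (BT.node 1660 (BT.node 1659 (BT.leaf cX1659) (BT.leaf cX1660)) (BT.leaf cX1661))) (BT.node 1664 (BT.node 1663 (BT.node 1662 (BT.leaf cX1662) (BT.leaf cX1663)) (BT.leaf cX1664)) (BT.node 1666 (BT.node 1665 (BT.leaf cX1665) (BT.leaf cX1666)) (BT.leaf cX1667))))) (BT.node 1679 (BT.node 1673 (BT.node 1670 (BT.node 1669 (BT.node 1668 (BT.leaf cX1668) (BT.leaf cX1669)) (BT.leaf cX1670)) (BT.node 1672 (BT.node 1671 (BT.leaf cX1671) (BT.leaf cX1672)) (BT.leaf cX1673))) (BT.node 1676 (BT.node 1675 (BT.node 1674 (BT.leaf cX1674) (BT.leaf cX1675)) (BT.leaf cX1676)) (BT.node 1678 (BT.node 1677 (BT.leaf cX1677) (BT.leaf cX1678)) (BT.leaf cX1679)))) (BT.node 1685 (BT.node 1682 (BT.node 1681 (BT.node 1680 (BT.leaf cX1680) (BT.leaf cX1681)) (BT.leaf cX1682)) (BT.node 1684 (BT.node 1683 (BT.leaf cX1683) (BT.leaf cX1684)) (BT.leaf cX1685))) (BT.node 1688 (BT.node 1687 (BT.node 1686 (BT.leaf cX1686) (BT.leaf cX1687)) (BT.leaf cX1688)) (BT.node 1690 (BT.node 1689 (BT.leaf cX1689) (BT.leaf cX1690)) (BT.leaf cX1691)))))) (BT.node 1715 (BT.node 1703 (BT.node 1697 (BT.node 1694 (BT.node 1693 (BT.node 1692 (BT.leaf cX1692) (BT.leaf cX1693)) (BT.leaf cX1694)) (BT.node 1696 (BT.node 1695 (BT.leaf cX1695) (BT.leaf cX1696)) (BT.leaf cX1697))) (BT.node 1700 (BT.node 1699 (BT.node 1698 (BT.leaf cX1698) (BT.leaf cX1699)) (BT.leaf cX1700)) (BT.node 1702 (BT.node 1701 (BT.leaf cX1701) (BT.leaf cX1702)) (BT.leaf cX1703)))) (BT.node 1709 (BT.node 1706 (BT.node 1705 (BT.node 1704 (BT.leaf cX1704) (BT.leaf cX1705)) (BT.leaf cX1706)) (BT.node 1708 (BT.node 1707 (BT.leaf cX1707) (BT.leaf cX1708)) (BT.leaf cX1709))) (BT.node 1712 (BT.node 1711 (BT.node 1710 (BT.leaf cX1710) (BT.leaf cX1711)) (BT.leaf cX1712)) (BT.node 1714 (BT.node 1713 (BT.leaf cX1713) (BT.leaf cX1714)) (BT.leaf cX1715))))) (BT.node 1727 (BT.node 1721 (BT.node 1718 (BT.node 1717 (BT.node 1716 (BT.leaf cX1716) (BT.leaf cX1717)) (BT.leaf cX1718)) (BT.node 1720 (BT.node 1719 (BT.leaf cX1719) (BT.leaf cX1720)) (BT.leaf cX1721))) (BT.node 1724 (BT.node 1723 (BT.node 1722 (BT.leaf cX1722) (BT.leaf cX1723)) (BT.leaf cX1724)) (BT.node 1726 (BT.node 1725 (BT.leaf cX1725) (BT.leaf cX1726)) (BT.leaf cX1727)))) (BT.node 1733 (BT.node 1730 (BT.node 1729 (BT.node 1728 (BT.leaf cX1728) (BT.leaf cX1729)) (BT.leaf cX1730)) (BT.node 1732 (BT.node 1731 (BT.leaf cX1731) (BT.leaf cX1732)) (BT.leaf cX1733))) (BT.node 1736 (BT.node 1735 (BT.node 1734 (BT.leaf cX1734) (BT.leaf cX1735)) (BT.leaf cX1736)) (BT.node 1738 (BT.node 1737 (BT.leaf cX1737) (BT.leaf cX1738)) (BT.leaf cX1739)))))))))) (BT.node 2129 (BT.node 1934 (BT.node 1837 (BT.node 1788 (BT.node 1764 (BT.node 1752 (BT.node 1746 (BT.node 1743 (BT.node 1741 (BT.node 1740 (BT.leaf cX1740) (BT.leaf cX1741)) (BT.node 1742 (BT.leaf cX1742) (BT.leaf cX1743))) (BT.node 1745 (BT.node 1744 (BT.leaf cX1744) (BT.leaf cX1745)) (BT.leaf cX1746))) (BT.node 1749 (BT.node 1748 (BT.node 1747 (BT.leaf cX1747) (BT.leaf cX1748)) (BT.leaf cX1749)) (BT.node 1751 (BT.node 1750 (BT.leaf cX1750) (BT.leaf cX1751)) (BT.leaf cX1752)))) (BT.node 1758 (BT.node 1755 (BT.node 1754 (BT.node 1753 (BT.leaf cX1753) (BT.leaf cX1754)) (BT.leaf cX1755)) (BT.node 1757 (BT.node 1756 (BT.leaf cX1756) (BT.leaf cX1757)) (BT.leaf cX1758))) (BT.node 1761 (BT.node 1760 (BT.node 1759 (BT.leaf cX1759) (BT.leaf cX1760)) (BT.leaf cX1761)) (BT.node 1763 (BT.node 1762 (BT.leaf cX1762) (BT.leaf cX1763)) (BT.leaf cX1764))))) (BT.node 1776 (BT.node 1770 (BT.node 1767 (BT.node 1766 (BT.node 1765 (BT.leaf cX1765) (BT.leaf cX1766)) (BT.leaf cX1767)) (BT.node 1769 (BT.node 1768 (BT.leaf cX1768) (BT.leaf cX1769)) (BT.leaf cX1770))) (BT.node 1773 (BT.node 1772 (BT.node 1771 (BT.leaf cX1771) (BT.leaf cX1772)) (BT.leaf cX1773)) (BT.node 1775 (BT.node 1774 (BT.leaf cX1774) (BT.leaf cX1775)) (BT.leaf cX1776)))) (BT.node 1782 (BT.node 1779 (BT.node 1778 (BT.node 1777 (BT.leaf cX1777) (BT.leaf cX1778)) (BT.leaf cX1779)) (BT.node 1781 (BT.node 1780 (BT.leaf cX1780) (BT.leaf cX1781)) (BT.leaf cX1782))) (BT.node 1785 (BT.node 1784 (BT.node 1783 (BT.leaf cX1783) (BT.leaf cX1784)) (BT.leaf cX1785)) (BT.node 1787 (BT.node 1786 (BT.leaf cX1786) (BT.leaf cX1787)) (BT.leaf cX1788)))))) (BT.node 1813 (BT.node 1801 (BT.node 1795 (BT.node 1792 (BT.node 1790 (BT.node 1789 (BT.leaf cX1789) (BT.leaf cX1790)) (BT.node 1791 (BT.leaf cX1791) (BT.leaf cX1792))) (BT.node 1794 (BT.node 1793 (BT.leaf cX1793) (BT.leaf cX1794)) (BT.leaf cX1795))) (BT.node 1798 (BT.node 1797 (BT.node 1796 (BT.leaf cX1796) (BT.leaf cX1797)) (BT.leaf cX1798)) (BT.node 1800 (BT.node 1799 (BT.leaf cX1799) (BT.leaf cX1800)) (BT.leaf cX1801)))) (BT.node 1807 (BT.node 1804 (BT.node 1803 (BT.node 1802 (BT.leaf cX1802) (BT.leaf cX1803)) (BT.leaf cX1804)) (BT.node 1806 (BT.node 1805 (BT.leaf cX1805) (BT.leaf cX1806)) (BT.leaf cX1807))) (BT.node 1810 (BT.node 1809 (BT.node 1808 (BT.leaf cX1808) (BT.leaf cX1809)) (BT.leaf cX1810)) (BT.node 1812 (BT.node 1811 (BT.leaf cX1811) (BT.leaf cX1812)) (BT.leaf cX1813))))) (BT.node 1825 (BT.node 1819 (BT.node 1816 (BT.node 1815 (BT.node 1814 (BT.leaf cX1814) (BT.leaf cX1815)) (BT.leaf cX1816)) (BT.node 1818 (BT.node 1817 (BT.leaf cX1817) (BT.leaf cX1818)) (BT.leaf cX1819))) (BT.node 1822 (BT.node 1821 (BT.node 1820 (BT.leaf cX1820) (BT.leaf cX1821)) (BT.leaf cX1822)) (BT.node 1824 (BT.node 1823 (BT.leaf cX1823) (BT.leaf cX1824)) (BT.leaf cX1825)))) (BT.node 1831 (BT.node 1828 (BT.node 1827 (BT.node 1826 (BT.leaf cX1826) (BT.leaf cX1827)) (BT.leaf cX1828)) (BT.node 1830 (BT.node 1829 (BT.leaf cX1829) (BT.leaf cX1830)) (BT.leaf cX1831))) (BT.node 1834 (BT.node 1833 (BT.node 1832 (BT.leaf cX1832) (BT.leaf cX1833)) (BT.leaf cX1834)) (BT.node 1836 (BT.node 1835 (BT.leaf cX1835) (BT.leaf cX1836)) (BT.leaf cX1837))))))) (BT.node 1886 (BT.node 1862 (BT.node 1850 (BT.node 1844 (BT.node 1841 (BT.node 1839 (BT.node 1838 (BT.leaf cX1838) (BT.leaf cX1839)) (BT.node 1840 (BT.leaf cX1840) (BT.leaf cX1841))) (BT.node 1843 (BT.node 1842 (BT.leaf cX1842) (BT.leaf cX1843)) (BT.leaf cX1844))) (BT.node 1847 (BT.node 1846 (BT.node 1845 (BT.leaf cX1845) (BT.leaf cX1846)) (BT.leaf cX1847)) (BT.node 1849 (BT.node 1848 (BT.leaf cX1848) (BT.leaf cX1849)) (BT.leaf cX1850)))) (BT.node 1856 (BT.node 1853 (BT.node 1852 (BT.node 1851 (BT.leaf cX1851) (BT.leaf cX1852)) (BT.leaf cX1853)) (BT.node 1855 (BT.node 1854 (BT.leaf cX1854) (BT.leaf cX1855)) (BT.leaf cX1856))) (BT.node 1859 (BT.node 1858 (BT.node 1857 (BT.leaf cX1857) (BT.leaf cX1858)) (BT.leaf cX1859)) (BT.node 1861 (BT.node 1860 (BT.leaf cX1860) (BT.leaf cX1861)) (BT.leaf cX1862))))) (BT.node 1874 (BT.node 1868 (BT.node 1865 (BT.node 1864 (BT.node 1863 (BT.leaf cX1863) (BT.leaf cX1864)) (BT.leaf cX1865)) (BT.node 1867 (BT.node 1866 (BT.leaf cX1866) (BT.leaf cX1867)) (BT.leaf cX1868))) (BT.node 1871 (BT.node 1870 (BT.node 1869 (BT.leaf cX1869) (BT.leaf cX1870)) (BT.leaf cX1871)) (BT.node 1873 (BT.node 1872 (BT.leaf cX1872) (BT.leaf cX1873)) (BT.leaf cX1874)))) (BT.node 1880 (BT.node 1877 (BT.node 1876 (BT.node 1875 (BT.leaf cX1875) (BT.leaf cX1876)) (BT.leaf cX1877)) (BT.node 1879 (BT.node 1878 (BT.leaf cX1878) (BT.leaf cX1879)) (BT.leaf cX1880))) (BT.node 1883 (BT.node 1882 (BT.node 1881 (BT.leaf cX1881) (BT.leaf cX1882)) (BT.leaf cX1883)) (BT.node 1885 (BT.node 1884 (BT.leaf cX1884) (BT.leaf cX1885)) (BT.leaf cX1886)))))) (BT.node 1910 (BT.node 1898 (BT.node 1892 (BT.node 1889 (BT.node 1888 (BT.node 1887 (BT.leaf cX1887) (BT.leaf cX1888)) (BT.leaf cX1889)) (BT.node 1891 (BT.node 1890 (BT.leaf cX1890) (BT.leaf cX1891)) (BT.leaf cX1892))) (BT.node 1895 (BT.node 1894 (BT.node 1893 (BT.leaf cX1893) (BT.leaf cX1894)) (BT.leaf cX1895)) (BT.node 1897 (BT.node 1896 (BT.leaf cX1896) (BT.leaf cX1897)) (BT.leaf cX1898)))) (BT.node 1904 (BT.node 1901 (BT.node 1900 (BT.node 1899 (BT.leaf cX1899) (BT.leaf cX1900)) (BT.leaf cX1901)) (BT.node 1903 (BT.node 1902 (BT.leaf cX1902) (BT.leaf cX1903)) (BT.leaf cX1904))) (BT.node 1907 (BT.node 1906 (BT.node 1905 (BT.leaf cX1905) (BT.leaf cX1906)) (BT.leaf cX1907)) (BT.node 1909 (BT.node 1908 (BT.leaf cX1908) (BT.leaf cX1909)) (BT.leaf cX1910))))) (BT.node 1922 (BT.node 1916 (BT.node 1913 (BT.node 1912 (BT.node 1911 (BT.leaf cX1911) (BT.leaf cX1912)) (BT.leaf cX1913)) (BT.node 1915 (BT.node 1914 (BT.leaf cX1914) (BT.leaf cX1915)) (BT.leaf cX1916))) (BT.node 1919 (BT.node 1918 (BT.node 1917 (BT.leaf cX1917) (BT.leaf cX1918)) (BT.leaf cX1919)) (BT.node 1921 (BT.node 1920 (BT.leaf cX1920) (BT.leaf cX1921)) (BT.leaf cX1922)))) (BT.node 1928 (BT.node 1925 (BT.node 1924 (BT.node 1923 (BT.leaf cX1923) (BT.leaf cX1924)) (BT.leaf cX1925)) (BT.node 1927 (BT.node 1926 (BT.leaf cX1926) (BT.leaf cX1927)) (BT.leaf cX1928))) (BT.node 1931 (BT.node 1930 (BT.node 1929 (BT.leaf cX1929) (BT.leaf cX1930)) (BT.leaf cX1931)) (BT.node 1933 (BT.node 1932 (BT.leaf cX1932) (BT.leaf cX1933)) (BT.leaf cX1934)))))))) (BT.node 2032 (BT.node 1983 (BT.node 1959 (BT.node 1947 (BT.node 1941 (BT.node 1938 (BT.node 1936 (BT.node 1935 (BT.leaf cX1935) (BT.leaf cX1936)) (BT.node 1937 (BT.leaf cX1937) (BT.leaf cX1938))) (BT.node 1940 (BT.node 1939 (BT.leaf cX1939) (BT.leaf cX1940)) (BT.leaf cX1941))) (BT.node 1944 (BT.node 1943 (BT.node 1942 (BT.leaf cX1942) (BT.leaf cX1943)) (BT.leaf cX1944)) (BT.node 1946 (BT.node 1945 (BT.leaf cX1945) (BT.leaf cX1946)) (BT.leaf cX1947)))) (BT.node 1953 (BT.node 1950 (BT.node 1949 (BT.node 1948 (BT.leaf cX1948) (BT.leaf cX1949)) (BT.leaf cX1950)) (BT.node 1952 (BT.node 1951 (BT.leaf cX1951) (BT.leaf cX1952)) (BT.leaf cX1953))) (BT.node 1956 (BT.node 1955 (BT.node 1954 (BT.leaf cX1954) (BT.leaf cX1955)) (BT.leaf cX1956)) (BT.node 1958 (BT.node 1957 (BT.leaf cX1957) (BT.leaf cX1958)) (BT.leaf cX1959))))) (BT.node 1971 (BT.node 1965 (BT.node 1962 (BT.node 1961 (BT.node 1960 (BT.leaf cX1960) (BT.leaf cX1961)) (BT.leaf cX1962)) (BT.node 1964 (BT.node 1963 (BT.leaf cX1963) (BT.leaf cX1964)) (BT.leaf cX1965))) (BT.node 1968 (BT.node 1967 (BT.node 1966 (BT.leaf cX1966) (BT.leaf cX1967)) (BT.leaf cX1968)) (BT.node 1970 (BT.node 1969 (BT.leaf cX1969) (BT.leaf cX1970)) (BT.leaf cX1971)))) (BT.node 1977 (BT.node 1974 (BT.node 1973 (BT.node 1972 (BT.leaf cX1972) (BT.leaf cX1973)) (BT.leaf cX1974)) (BT.node 1976 (BT.node 1975 (BT.leaf cX1975) (BT.leaf cX1976)) (BT.leaf cX1977))) (BT.node 1980 (BT.node 1979 (BT.node 1978 (BT.leaf cX1978) (BT.leaf cX1979)) (BT.leaf cX1980)) (BT.node 1982 (BT.node 1981 (BT.leaf cX1981) (BT.leaf cX1982)) (BT.leaf cX1983)))))) (BT.node 2008 (BT.node 1996 (BT.node 1990 (BT.node 1987 (BT.node 1985 (BT.node 1984 (BT.leaf cX1984) (BT.leaf cX1985)) (BT.node 1986 (BT.leaf cX1986) (BT.leaf cX1987))) (BT.node 1989 (BT.node 1988 (BT.leaf cX1988) (BT.leaf cX1989)) (BT.leaf cX1990))) (BT.node 1993 (BT.node 1992 (BT.node 1991 (BT.leaf cX1991) (BT.leaf cX1992)) (BT.leaf cX1993)) (BT.node 1995 (BT.node 1994 (BT.leaf cX1994) (BT.leaf cX1995)) (BT.leaf cX1996)))) (BT.node 2002 (BT.node 1999 (BT.node 1998 (BT.node 1997 (BT.leaf cX1997) (BT.leaf cX1998)) (BT.leaf cX1999)) (BT.node 2001 (BT.node 2000 (BT.leaf cX2000) (BT.leaf cX2001)) (BT.leaf cX2002))) (BT.node 2005 (BT.node 2004 (BT.node 2003 (BT.leaf cX2003) (BT.leaf cX2004)) (BT.leaf cX2005)) (BT.node 2007 (BT.node 2006 (BT.leaf cX2006) (BT.leaf cX2007)) (BT.leaf cX2008))))) (BT.node 2020 (BT.node 2014 (BT.node 2011 (BT.node 2010 (BT.node 2009 (BT.leaf cX2009) (BT.leaf cX2010)) (BT.leaf cX2011)) (BT.node 2013 (BT.node 2012 (BT.leaf cX2012) (BT.leaf cX2013)) (BT.leaf cX2014))) (BT.node 2017 (BT.node 2016 (BT.node 2015 (BT.leaf cX2015) (BT.leaf cX2016)) (BT.leaf cX2017)) (BT.node 2019 (BT.node 2018 (BT.leaf cX2018) (BT.leaf cX2019)) (BT.leaf cX2020)))) (BT.node 2026 (BT.node 2023 (BT.node 2022 (BT.node 2021 (BT.leaf cX2021) (BT.leaf cX2022)) (BT.leaf cX2023)) (BT.node 2025 (BT.node 2024 (BT.leaf cX2024) (BT.leaf cX2025)) (BT.leaf cX2026))) (BT.node 2029 (BT.node 2028 (BT.node 2027 (BT.leaf cX2027) (BT.leaf cX2028)) (BT.leaf cX2029)) (BT.node 2031 (BT.node 2030 (BT.leaf cX2030) (BT.leaf cX2031)) (BT.leaf cX2032))))))) (BT.node 2081 (BT.node 2057 (BT.node 2045 (BT.node 2039 (BT.node 2036 (BT.node 2034 (BT.node 2033 (BT.leaf cX2033) (BT.leaf cX2034)) (BT.node 2035 (BT.leaf cX2035) (BT.leaf cX2036))) (BT.node 2038 (BT.node 2037 (BT.leaf cX2037) (BT.leaf cX2038)) (BT.leaf cX2039))) (BT.node 2042 (BT.node 2041 (BT.node 2040 (BT.leaf cX2040) (BT.leaf cX2041)) (BT.leaf cX2042)) (BT.node 2044 (BT.node 2043 (BT.leaf cX2043) (BT.leaf cX2044)) (BT.leaf cX2045)))) (BT.node 2051 (BT.node 2048 (BT.node 2047 (BT.node 2046 (BT.leaf cX2046) (BT.leaf cX2047)) (BT.leaf cX2048)) (BT.node 2050 (BT.node 2049 (BT.leaf cX2049) (BT.leaf cX2050)) (BT.leaf cX2051))) (BT.node 2054 (BT.node 2053 (BT.node 2052 (BT.leaf cX2052) (BT.leaf cX2053)) (BT.leaf cX2054)) (BT.node 2056 (BT.node 2055 (BT.leaf cX2055) (BT.leaf cX2056)) (BT.leaf cX2057))))) (BT.node 2069 (BT.node 2063 (BT.node 2060 (BT.node 2059 (BT.node 2058 (BT.leaf cX2058) (BT.leaf cX2059)) (BT.leaf cX2060)) (BT.node 2062 (BT.node 2061 (BT.leaf cX2061) (BT.leaf cX2062)) (BT.leaf cX2063))) (BT.node 2066 (BT.node 2065 (BT.node 2064 (BT.leaf cX2064) (BT.leaf cX2065)) (BT.leaf cX2066)) (BT.node 2068 (BT.node 2067 (BT.leaf cX2067) (BT.leaf cX2068)) (BT.leaf cX2069)))) (BT.node 2075 (BT.node 2072 (BT.node 2071 (BT.node 2070 (BT.leaf cX2070) (BT.leaf cX2071)) (BT.leaf cX2072)) (BT.node 2074 (BT.node 2073 (BT.leaf cX2073) (BT.leaf cX2074)) (BT.leaf cX2075))) (BT.node 2078 (BT.node 2077 (BT.node 2076 (BT.leaf cX2076) (BT.leaf cX2077)) (BT.leaf cX2078)) (BT.node 2080 (BT.node 2079 (BT.leaf cX2079) (BT.leaf cX2080)) (BT.leaf cX2081)))))) (BT.node 2105 (BT.node 2093 (BT.node 2087 (BT.node 2084 (BT.node 2083 (BT.node 2082 (BT.leaf cX2082) (BT.leaf cX2083)) (BT.leaf cX2084)) (BT.node 2086 (BT.node 2085 (BT.leaf cX2085) (BT.leaf cX2086)) (BT.leaf cX2087))) (BT.node 2090 (BT.node 2089 (BT.node 2088 (BT.leaf cX2088) (BT.leaf cX2089)) (BT.leaf cX2090)) (BT.node 2092 (BT.node 2091 (BT.leaf cX2091) (BT.leaf cX2092)) (BT.leaf cX2093)))) (BT.node 2099 (BT.node 2096 (BT.node 2095 (BT.node 2094 (BT.leaf cX2094) (BT.leaf cX2095)) (BT.leaf cX2096)) (BT.node 2098 (BT.node 2097 (BT.leaf cX2097) (BT.leaf cX2098)) (BT.leaf cX2099))) (BT.node 2102 (BT.node 2101 (BT.node 2100 (BT.leaf cX2100) (BT.leaf cX2101)) (BT.leaf cX2102)) (BT.node 2104 (BT.node 2103 (BT.leaf cX2103) (BT.leaf cX2104)) (BT.leaf cX2105))))) (BT.node 2117 (BT.node 2111 (BT.node 2108 (BT.node 2107 (BT.node 2106 (BT.leaf cX2106) (BT.leaf cX2107)) (BT.leaf cX2108)) (BT.node 2110 (BT.node 2109 (BT.leaf cX2109) (BT.leaf cX2110)) (BT.leaf cX2111))) (BT.node 2114 (BT.node 2113 (BT.node 2112 (BT.leaf cX2112) (BT.leaf cX2113)) (BT.leaf cX2114)) (BT.node 2116 (BT.node 2115 (BT.leaf cX2115) (BT.leaf cX2116)) (BT.leaf cX2117)))) (BT.node 2123 (BT.node 2120 (BT.node 2119 (BT.node 2118 (BT.leaf cX2118) (BT.leaf cX2119)) (BT.leaf cX2120)) (BT.node 2122 (BT.node 2121 (BT.leaf cX2121) (BT.leaf cX2122)) (BT.leaf cX2123))) (BT.node 2126 (BT.node 2125 (BT.node 2124 (BT.leaf cX2124) (BT.leaf cX2125)) (BT.leaf cX2126)) (BT.node 2128 (BT.node 2127 (BT.leaf cX2127) (BT.leaf cX2128)) (BT.leaf cX2129))))))))) (BT.node 2324 (BT.node 2227 (BT.node 2178 (BT.node 2154 (BT.node 2142 (BT.node 2136 (BT.node 2133 (BT.node 2131 (BT.node 2130 (BT.leaf cX2130) (BT.leaf cX2131)) (BT.node 2132 (BT.leaf cX2132) (BT.leaf cX2133))) (BT.node 2135 (BT.node 2134 (BT.leaf cX2134) (BT.leaf cX2135)) (BT.leaf cX2136))) (BT.node 2139 (BT.node 2138 (BT.node 2137 (BT.leaf cX2137) (BT.leaf cX2138)) (BT.leaf cX2139)) (BT.node 2141 (BT.node 2140 (BT.leaf cX2140) (BT.leaf cX2141)) (BT.leaf cX2142)))) (BT.node 2148 (BT.node 2145 (BT.node 2144 (BT.node 2143 (BT.leaf cX2143) (BT.leaf cX2144)) (BT.leaf cX2145)) (BT.node 2147 (BT.node 2146 (BT.leaf cX2146) (BT.leaf cX2147)) (BT.leaf cX2148))) (BT.node 2151 (BT.node 2150 (BT.node 2149 (BT.leaf cX2149) (BT.leaf cX2150)) (BT.leaf cX2151)) (BT.node 2153 (BT.node 2152 (BT.leaf cX2152) (BT.leaf cX2153)) (BT.leaf cX2154))))) (BT.node 2166 (BT.node 2160 (BT.node 2157 (BT.node 2156 (BT.node 2155 (BT.leaf cX2155) (BT.leaf cX2156)) (BT.leaf cX2157)) (BT.node 2159 (BT.node 2158 (BT.leaf cX2158) (BT.leaf cX2159)) (BT.leaf cX2160))) (BT.node 2163 (BT.node 2162 (BT.node 2161 (BT.leaf cX2161) (BT.leaf cX2162)) (BT.leaf cX2163)) (BT.node 2165 (BT.node 2164 (BT.leaf cX2164) (BT.leaf cX2165)) (BT.leaf cX2166)))) (BT.node 2172 (BT.node 2169 (BT.node 2168 (BT.node 2167 (BT.leaf cX2167) (BT.leaf cX2168)) (BT.leaf cX2169)) (BT.node 2171 (BT.node 2170 (BT.leaf cX2170) (BT.leaf cX2171)) (BT.leaf cX2172))) (BT.node 2175 (BT.node 2174 (BT.node 2173 (BT.leaf cX2173) (BT.leaf cX2174)) (BT.leaf cX2175)) (BT.node 2177 (BT.node 2176 (BT.leaf cX2176) (BT.leaf cX2177)) (BT.leaf cX2178)))))) (BT.node 2203 (BT.node 2191 (BT.node 2185 (BT.node 2182 (BT.node 2180 (BT.node 2179 (BT.leaf cX2179) (BT.leaf cX2180)) (BT.node 2181 (BT.leaf cX2181) (BT.leaf cX2182))) (BT.node 2184 (BT.node 2183 (BT.leaf cX2183) (BT.leaf cX2184)) (BT.leaf cX2185))) (BT.node 2188 (BT.node 2187 (BT.node 2186 (BT.leaf cX2186) (BT.leaf cX2187)) (BT.leaf cX2188)) (BT.node 2190 (BT.node 2189 (BT.leaf cX2189) (BT.leaf cX2190)) (BT.leaf cX2191)))) (BT.node 2197 (BT.node 2194 (BT.node 2193 (BT.node 2192 (BT.leaf cX2192) (BT.leaf cX2193)) (BT.leaf cX2194)) (BT.node 2196 (BT.node 2195 (BT.leaf cX2195) (BT.leaf cX2196)) (BT.leaf cX2197))) (BT.node 2200 (BT.node 2199 (BT.node 2198 (BT.leaf cX2198) (BT.leaf cX2199)) (BT.leaf cX2200)) (BT.node 2202 (BT.node 2201 (BT.leaf cX2201) (BT.leaf cX2202)) (BT.leaf cX2203))))) (BT.node 2215 (BT.node 2209 (BT.node 2206 (BT.node 2205 (BT.node 2204 (BT.leaf cX2204) (BT.leaf cX2205)) (BT.leaf cX2206)) (BT.node 2208 (BT.node 2207 (BT.leaf cX2207) (BT.leaf cX2208)) (BT.leaf cX2209))) (BT.node 2212 (BT.node 2211 (BT.node 2210 (BT.leaf cX2210) (BT.leaf cX2211)) (BT.leaf cX2212)) (BT.node 2214 (BT.node 2213 (BT.leaf cX2213) (BT.leaf cX2214)) (BT.leaf cX2215)))) (BT.node 2221 (BT.node 2218 (BT.node 2217 (BT.node 2216 (BT.leaf cX2216) (BT.leaf cX2217)) (BT.leaf cX2218)) (BT.node 2220 (BT.node 2219 (BT.leaf cX2219) (BT.leaf cX2220)) (BT.leaf cX2221))) (BT.node 2224 (BT.node 2223 (BT.node 2222 (BT.leaf cX2222) (BT.leaf cX2223)) (BT.leaf cX2224)) (BT.node 2226 (BT.node 2225 (BT.leaf cX2225) (BT.leaf cX2226)) (BT.leaf cX2227))))))) (BT.node 2276 (BT.node 2252 (BT.node 2240 (BT.node 2234 (BT.node 2231 (BT.node 2229 (BT.node 2228 (BT.leaf cX2228) (BT.leaf cX2229)) (BT.node 2230 (BT.leaf cX2230) (BT.leaf cX2231))) (BT.node 2233 (BT.node 2232 (BT.leaf cX2232) (BT.leaf cX2233)) (BT.leaf cX2234))) (BT.node 2237 (BT.node 2236 (BT.node 2235 (BT.leaf cX2235) (BT.leaf cX2236)) (BT.leaf cX2237)) (BT.node 2239 (BT.node 2238 (BT.leaf cX2238) (BT.leaf cX2239)) (BT.leaf cX2240)))) (BT.node 2246 (BT.node 2243 (BT.node 2242 (BT.node 2241 (BT.leaf cX2241) (BT.leaf cX2242)) (BT.leaf cX2243)) (BT.node 2245 (BT.node 2244 (BT.leaf cX2244) (BT.leaf cX2245)) (BT.leaf cX2246))) (BT.node 2249 (BT.node 2248 (BT.node 2247 (BT.leaf cX2247) (BT.leaf cX2248)) (BT.leaf cX2249)) (BT.node 2251 (BT.node 2250 (BT.leaf cX2250) (BT.leaf cX2251)) (BT.leaf cX2252))))) (BT.node 2264 (BT.node 2258 (BT.node 2255 (BT.node 2254 (BT.node 2253 (BT.leaf cX2253) (BT.leaf cX2254)) (BT.leaf cX2255)) (BT.node 2257 (BT.node 2256 (BT.leaf cX2256) (BT.leaf cX2257)) (BT.leaf cX2258))) (BT.node 2261 (BT.node 2260 (BT.node 2259 (BT.leaf cX2259) (BT.leaf cX2260)) (BT.leaf cX2261)) (BT.node 2263 (BT.node 2262 (BT.leaf cX2262) (BT.leaf cX2263)) (BT.leaf cX2264)))) (BT.node 2270 (BT.node 2267 (BT.node 2266 (BT.node 2265 (BT.leaf cX2265) (BT.leaf cX2266)) (BT.leaf cX2267)) (BT.node 2269 (BT.node 2268 (BT.leaf cX2268) (BT.leaf cX2269)) (BT.leaf cX2270))) (BT.node 2273 (BT.node 2272 (BT.node 2271 (BT.leaf cX2271) (BT.leaf cX2272)) (BT.leaf cX2273)) (BT.node 2275 (BT.node 2274 (BT.leaf cX2274) (BT.leaf cX2275)) (BT.leaf cX2276)))))) (BT.node 2300 (BT.node 2288 (BT.node 2282 (BT.node 2279 (BT.node 2278 (BT.node 2277 (BT.leaf cX2277) (BT.leaf cX2278)) (BT.leaf cX2279)) (BT.node 2281 (BT.node 2280 (BT.leaf cX2280) (BT.leaf cX2281)) (BT.leaf cX2282))) (BT.node 2285 (BT.node 2284 (BT.node 2283 (BT.leaf cX2283) (BT.leaf cX2284)) (BT.leaf cX2285)) (BT.node 2287 (BT.node 2286 (BT.leaf cX2286) (BT.leaf cX2287)) (BT.leaf cX2288)))) (BT.node 2294 (BT.node 2291 (BT.node 2290 (BT.node 2289 (BT.leaf cX2289) (BT.leaf cX2290)) (BT.leaf cX2291)) (BT.node 2293 (BT.node 2292 (BT.leaf cX2292) (BT.leaf cX2293)) (BT.leaf cX2294))) (BT.node 2297 (BT.node 2296 (BT.node 2295 (BT.leaf cX2295) (BT.leaf cX2296)) (BT.leaf cX2297)) (BT.node 2299 (BT.node 2298 (BT.leaf cX2298) (BT.leaf cX2299)) (BT.leaf cX2300))))) (BT.node 2312 (BT.node 2306 (BT.node 2303 (BT.node 2302 (BT.node 2301 (BT.leaf cX2301) (BT.leaf cX2302)) (BT.leaf cX2303)) (BT.node 2305 (BT.node 2304 (BT.leaf cX2304) (BT.leaf cX2305)) (BT.leaf cX2306))) (BT.node 2309 (BT.node 2308 (BT.node 2307 (BT.leaf cX2307) (BT.leaf cX2308)) (BT.leaf cX2309)) (BT.node 2311 (BT.node 2310 (BT.leaf cX2310) (BT.leaf cX2311)) (BT.leaf cX2312)))) (BT.node 2318 (BT.node 2315 (BT.node 2314 (BT.node 2313 (BT.leaf cX2313) (BT.leaf cX2314)) (BT.leaf cX2315)) (BT.node 2317 (BT.node 2316 (BT.leaf cX2316) (BT.leaf cX2317)) (BT.leaf cX2318))) (BT.node 2321 (BT.node 2320 (BT.node 2319 (BT.leaf cX2319) (BT.leaf cX2320)) (BT.leaf cX2321)) (BT.node 2323 (BT.node 2322 (BT.leaf cX2322) (BT.leaf cX2323)) (BT.leaf cX2324)))))))) (BT.node 2422 (BT.node 2373 (BT.node 2349 (BT.node 2337 (BT.node 2331 (BT.node 2328 (BT.node 2326 (BT.node 2325 (BT.leaf cX2325) (BT.leaf cX2326)) (BT.node 2327 (BT.leaf cX2327) (BT.leaf cX2328))) (BT.node 2330 (BT.node 2329 (BT.leaf cX2329) (BT.leaf cX2330)) (BT.leaf cX2331))) (BT.node 2334 (BT.node 2333 (BT.node 2332 (BT.leaf cX2332) (BT.leaf cX2333)) (BT.leaf cX2334)) (BT.node 2336 (BT.node 2335 (BT.leaf cX2335) (BT.leaf cX2336)) (BT.leaf cX2337)))) (BT.node 2343 (BT.node 2340 (BT.node 2339 (BT.node 2338 (BT.leaf cX2338) (BT.leaf cX2339)) (BT.leaf cX2340)) (BT.node 2342 (BT.node 2341 (BT.leaf cX2341) (BT.leaf cX2342)) (BT.leaf cX2343))) (BT.node 2346 (BT.node 2345 (BT.node 2344 (BT.leaf cX2344) (BT.leaf cX2345)) (BT.leaf cX2346)) (BT.node 2348 (BT.node 2347 (BT.leaf cX2347) (BT.leaf cX2348)) (BT.leaf cX2349))))) (BT.node 2361 (BT.node 2355 (BT.node 2352 (BT.node 2351 (BT.node 2350 (BT.leaf cX2350) (BT.leaf cX2351)) (BT.leaf cX2352)) (BT.node 2354 (BT.node 2353 (BT.leaf cX2353) (BT.leaf cX2354)) (BT.leaf cX2355))) (BT.node 2358 (BT.node 2357 (BT.node 2356 (BT.leaf cX2356) (BT.leaf cX2357)) (BT.leaf cX2358)) (BT.node 2360 (BT.node 2359 (BT.leaf cX2359) (BT.leaf cX2360)) (BT.leaf cX2361)))) (BT.node 2367 (BT.node 2364 (BT.node 2363 (BT.node 2362 (BT.leaf cX2362) (BT.leaf cX2363)) (BT.leaf cX2364)) (BT.node 2366 (BT.node 2365 (BT.leaf cX2365) (BT.leaf cX2366)) (BT.leaf cX2367))) (BT.node 2370 (BT.node 2369 (BT.node 2368 (BT.leaf cX2368) (BT.leaf cX2369)) (BT.leaf cX2370)) (BT.node 2372 (BT.node 2371 (BT.leaf cX2371) (BT.leaf cX2372)) (BT.leaf cX2373)))))) (BT.node 2398 (BT.node 2386 (BT.node 2380 (BT.node 2377 (BT.node 2375 (BT.node 2374 (BT.leaf cX2374) (BT.leaf cX2375)) (BT.node 2376 (BT.leaf cX2376) (BT.leaf cX2377))) (BT.node 2379 (BT.node 2378 (BT.leaf cX2378) (BT.leaf cX2379)) (BT.leaf cX2380))) (BT.node 2383 (BT.node 2382 (BT.node 2381 (BT.leaf cX2381) (BT.leaf cX2382)) (BT.leaf cX2383)) (BT.node 2385 (BT.node 2384 (BT.leaf cX2384) (BT.leaf cX2385)) (BT.leaf cX2386)))) (BT.node 2392 (BT.node 2389 (BT.node 2388 (BT.node 2387 (BT.leaf cX2387) (BT.leaf cX2388)) (BT.leaf cX2389)) (BT.node 2391 (BT.node 2390 (BT.leaf cX2390) (BT.leaf cX2391)) (BT.leaf cX2392))) (BT.node 2395 (BT.node 2394 (BT.node 2393 (BT.leaf cX2393) (BT.leaf cX2394)) (BT.leaf cX2395)) (BT.node 2397 (BT.node 2396 (BT.leaf cX2396) (BT.leaf cX2397)) (BT.leaf cX2398))))) (BT.node 2410 (BT.node 2404 (BT.node 2401 (BT.node 2400 (BT.node 2399 (BT.leaf cX2399) (BT.leaf cX2400)) (BT.leaf cX2401)) (BT.node 2403 (BT.node 2402 (BT.leaf cX2402) (BT.leaf cX2403)) (BT.leaf cX2404))) (BT.node 2407 (BT.node 2406 (BT.node 2405 (BT.leaf cX2405) (BT.leaf cX2406)) (BT.leaf cX2407)) (BT.node 2409 (BT.node 2408 (BT.leaf cX2408) (BT.leaf cX2409)) (BT.leaf cX2410)))) (BT.node 2416 (BT.node 2413 (BT.node 2412 (BT.node 2411 (BT.leaf cX2411) (BT.leaf cX2412)) (BT.leaf cX2413)) (BT.node 2415 (BT.node 2414 (BT.leaf cX2414) (BT.leaf cX2415)) (BT.leaf cX2416))) (BT.node 2419 (BT.node 2418 (BT.node 2417 (BT.leaf cX2417) (BT.leaf cX2418)) (BT.leaf cX2419)) (BT.node 2421 (BT.node 2420 (BT.leaf cX2420) (BT.leaf cX2421)) (BT.leaf cX2422))))))) (BT.node 2471 (BT.node 2447 (BT.node 2435 (BT.node 2429 (BT.node 2426 (BT.node 2424 (BT.node 2423 (BT.leaf cX2423) (BT.leaf cX2424)) (BT.node 2425 (BT.leaf cX2425) (BT.leaf cX2426))) (BT.node 2428 (BT.node 2427 (BT.leaf cX2427) (BT.leaf cX2428)) (BT.leaf cX2429))) (BT.node 2432 (BT.node 2431 (BT.node 2430 (BT.leaf cX2430) (BT.leaf cX2431)) (BT.leaf cX2432)) (BT.node 2434 (BT.node 2433 (BT.leaf cX2433) (BT.leaf cX2434)) (BT.leaf cX2435)))) (BT.node 2441 (BT.node 2438 (BT.node 2437 (BT.node 2436 (BT.leaf cX2436) (BT.leaf cX2437)) (BT.leaf cX2438)) (BT.node 2440 (BT.node 2439 (BT.leaf cX2439) (BT.leaf cX2440)) (BT.leaf cX2441))) (BT.node 2444 (BT.node 2443 (BT.node 2442 (BT.leaf cX2442) (BT.leaf cX2443)) (BT.leaf cX2444)) (BT.node 2446 (BT.node 2445 (BT.leaf cX2445) (BT.leaf cX2446)) (BT.leaf cX2447))))) (BT.node 2459 (BT.node 2453 (BT.node 2450 (BT.node 2449 (BT.node 2448 (BT.leaf cX2448) (BT.leaf cX2449)) (BT.leaf cX2450)) (BT.node 2452 (BT.node 2451 (BT.leaf cX2451) (BT.leaf cX2452)) (BT.leaf cX2453))) (BT.node 2456 (BT.node 2455 (BT.node 2454 (BT.leaf cX2454) (BT.leaf cX2455)) (BT.leaf cX2456)) (BT.node 2458 (BT.node 2457 (BT.leaf cX2457) (BT.leaf cX2458)) (BT.leaf cX2459)))) (BT.node 2465 (BT.node 2462 (BT.node 2461 (BT.node 2460 (BT.leaf cX2460) (BT.leaf cX2461)) (BT.leaf cX2462)) (BT.node 2464 (BT.node 2463 (BT.leaf cX2463) (BT.leaf cX2464)) (BT.leaf cX2465))) (BT.node 2468 (BT.node 2467 (BT.node 2466 (BT.leaf cX2466) (BT.leaf cX2467)) (BT.leaf cX2468)) (BT.node 2470 (BT.node 2469 (BT.leaf cX2469) (BT.leaf cX2470)) (BT.leaf cX2471)))))) (BT.node 2495 (BT.node 2483 (BT.node 2477 (BT.node 2474 (BT.node 2473 (BT.node 2472 (BT.leaf cX2472) (BT.leaf cX2473)) (BT.leaf cX2474)) (BT.node 2476 (BT.node 2475 (BT.leaf cX2475) (BT.leaf cX2476)) (BT.leaf cX2477))) (BT.node 2480 (BT.node 2479 (BT.node 2478 (BT.leaf cX2478) (BT.leaf cX2479)) (BT.leaf cX2480)) (BT.node 2482 (BT.node 2481 (BT.leaf cX2481) (BT.leaf cX2482)) (BT.leaf cX2483)))) (BT.node 2489 (BT.node 2486 (BT.node 2485 (BT.node 2484 (BT.leaf cX2484) (BT.leaf cX2485)) (BT.leaf cX2486)) (BT.node 2488 (BT.node 2487 (BT.leaf cX2487) (BT.leaf cX2488)) (BT.leaf cX2489))) (BT.node 2492 (BT.node 2491 (BT.node 2490 (BT.leaf cX2490) (BT.leaf cX2491)) (BT.leaf cX2492)) (BT.node 2494 (BT.node 2493 (BT.leaf cX2493) (BT.leaf cX2494)) (BT.leaf cX2495))))) (BT.node 2507 (BT.node 2501 (BT.node 2498 (BT.node 2497 (BT.node 2496 (BT.leaf cX2496) (BT.leaf cX2497)) (BT.leaf cX2498)) (BT.node 2500 (BT.node 2499 (BT.leaf cX2499) (BT.leaf cX2500)) (BT.leaf cX2501))) (BT.node 2504 (BT.node 2503 (BT.node 2502 (BT.leaf cX2502) (BT.leaf cX2503)) (BT.leaf cX2504)) (BT.node 2506 (BT.node 2505 (BT.leaf cX2505) (BT.leaf cX2506)) (BT.leaf cX2507)))) (BT.node 2513 (BT.node 2510 (BT.node 2509 (BT.node 2508 (BT.leaf cX2508) (BT.leaf cX2509)) (BT.leaf cX2510)) (BT.node 2512 (BT.node 2511 (BT.leaf cX2511) (BT.leaf cX2512)) (BT.leaf cX2513))) (BT.node 2516 (BT.node 2515 (BT.node 2514 (BT.leaf cX2514) (BT.leaf cX2515)) (BT.leaf cX2516)) (BT.node 2518 (BT.node 2517 (BT.leaf cX2517) (BT.leaf cX2518)) (BT.leaf cX2519))))))))))) (BT.node 3299 (BT.node 2909 (BT.node 2714 (BT.node 2617 (BT.node 2568 (BT.node 2544 (BT.node 2532 (BT.node 2526 (BT.node 2523 (BT.node 2521 (BT.node 2520 (BT.leaf cX2520) (BT.leaf cX2521)) (BT.node 2522 (BT.leaf cX2522) (BT.leaf cX2523))) (BT.node 2525 (BT.node 2524 (BT.leaf cX2524) (BT.leaf cX2525)) (BT.leaf cX2526))) (BT.node 2529 (BT.node 2528 (BT.node 2527 (BT.leaf cX2527) (BT.leaf cX2528)) (BT.leaf cX2529)) (BT.node 2531 (BT.node 2530 (BT.leaf cX2530) (BT.leaf cX2531)) (BT.leaf cX2532)))) (BT.node 2538 (BT.node 2535 (BT.node 2534 (BT.node 2533 (BT.leaf cX2533) (BT.leaf cX2534)) (BT.leaf cX2535)) (BT.node 2537 (BT.node 2536 (BT.leaf cX2536) (BT.leaf cX2537)) (BT.leaf cX2538))) (BT.node 2541 (BT.node 2540 (BT.node 2539 (BT.leaf cX2539) (BT.leaf cX2540)) (BT.leaf cX2541)) (BT.node 2543 (BT.node 2542 (BT.leaf cX2542) (BT.leaf cX2543)) (BT.leaf cX2544))))) (BT.node 2556 (BT.node 2550 (BT.node 2547 (BT.node 2546 (BT.node 2545 (BT.leaf cX2545) (BT.leaf cX2546)) (BT.leaf cX2547)) (BT.node 2549 (BT.node 2548 (BT.leaf cX2548) (BT.leaf cX2549)) (BT.leaf cX2550))) (BT.node 2553 (BT.node 2552 (BT.node 2551 (BT.leaf cX2551) (BT.leaf cX2552)) (BT.leaf cX2553)) (BT.node 2555 (BT.node 2554 (BT.leaf cX2554) (BT.leaf cX2555)) (BT.leaf cX2556)))) (BT.node 2562 (BT.node 2559 (BT.node 2558 (BT.node 2557 (BT.leaf cX2557) (BT.leaf cX2558)) (BT.leaf cX2559)) (BT.node 2561 (BT.node 2560 (BT.leaf cX2560) (BT.leaf cX2561)) (BT.leaf cX2562))) (BT.node 2565 (BT.node 2564 (BT.node 2563 (BT.leaf cX2563) (BT.leaf cX2564)) (BT.leaf cX2565)) (BT.node 2567 (BT.node 2566 (BT.leaf cX2566) (BT.leaf cX2567)) (BT.leaf cX2568)))))) (BT.node 2593 (BT.node 2581 (BT.node 2575 (BT.node 2572 (BT.node 2570 (BT.node 2569 (BT.leaf cX2569) (BT.leaf cX2570)) (BT.node 2571 (BT.leaf cX2571) (BT.leaf cX2572))) (BT.node 2574 (BT.node 2573 (BT.leaf cX2573) (BT.leaf cX2574)) (BT.leaf cX2575))) (BT.node 2578 (BT.node 2577 (BT.node 2576 (BT.leaf cX2576) (BT.leaf cX2577)) (BT.leaf cX2578)) (BT.node 2580 (BT.node 2579 (BT.leaf cX2579) (BT.leaf cX2580)) (BT.leaf cX2581)))) (BT.node 2587 (BT.node 2584 (BT.node 2583 (BT.node 2582 (BT.leaf cX2582) (BT.leaf cX2583)) (BT.leaf cX2584)) (BT.node 2586 (BT.node 2585 (BT.leaf cX2585) (BT.leaf cX2586)) (BT.leaf cX2587))) (BT.node 2590 (BT.node 2589 (BT.node 2588 (BT.leaf cX2588) (BT.leaf cX2589)) (BT.leaf cX2590)) (BT.node 2592 (BT.node 2591 (BT.leaf cX2591) (BT.leaf cX2592)) (BT.leaf cX2593))))) (BT.node 2605 (BT.node 2599 (BT.node 2596 (BT.node 2595 (BT.node 2594 (BT.leaf cX2594) (BT.leaf cX2595)) (BT.leaf cX2596)) (BT.node 2598 (BT.node 2597 (BT.leaf cX2597) (BT.leaf cX2598)) (BT.leaf cX2599))) (BT.node 2602 (BT.node 2601 (BT.node 2600 (BT.leaf cX2600) (BT.leaf cX2601)) (BT.leaf cX2602)) (BT.node 2604 (BT.node 2603 (BT.leaf cX2603) (BT.leaf cX2604)) (BT.leaf cX2605)))) (BT.node 2611 (BT.node 2608 (BT.node 2607 (BT.node 2606 (BT.leaf cX2606) (BT.leaf cX2607)) (BT.leaf cX2608)) (BT.node 2610 (BT.node 2609 (BT.leaf cX2609) (BT.leaf cX2610)) (BT.leaf cX2611))) (BT.node 2614 (BT.node 2613 (BT.node 2612 (BT.leaf cX2612) (BT.leaf cX2613)) (BT.leaf cX2614)) (BT.node 2616 (BT.node 2615 (BT.leaf cX2615) (BT.leaf cX2616)) (BT.leaf cX2617))))))) (BT.node 2666 (BT.node 2642 (BT.node 2630 (BT.node 2624 (BT.node 2621 (BT.node 2619 (BT.node 2618 (BT.leaf cX2618) (BT.leaf cX2619)) (BT.node 2620 (BT.leaf cX2620) (BT.leaf cX2621))) (BT.node 2623 (BT.node 2622 (BT.leaf cX2622) (BT.leaf cX2623)) (BT.leaf cX2624))) (BT.node 2627 (BT.node 2626 (BT.node 2625 (BT.leaf cX2625) (BT.leaf cX2626)) (BT.leaf cX2627)) (BT.node 2629 (BT.node 2628 (BT.leaf cX2628) (BT.leaf cX2629)) (BT.leaf cX2630)))) (BT.node 2636 (BT.node 2633 (BT.node 2632 (BT.node 2631 (BT.leaf cX2631) (BT.leaf cX2632)) (BT.leaf cX2633)) (BT.node 2635 (BT.node 2634 (BT.leaf cX2634) (BT.leaf cX2635)) (BT.leaf cX2636))) (BT.node 2639 (BT.node 2638 (BT.node 2637 (BT.leaf cX2637) (BT.leaf cX2638)) (BT.leaf cX2639)) (BT.node 2641 (BT.node 2640 (BT.leaf cX2640) (BT.leaf cX2641)) (BT.leaf cX2642))))) (BT.node 2654 (BT.node 2648 (BT.node 2645 (BT.node 2644 (BT.node 2643 (BT.leaf cX2643) (BT.leaf cX2644)) (BT.leaf cX2645)) (BT.node 2647 (BT.node 2646 (BT.leaf cX2646) (BT.leaf cX2647)) (BT.leaf cX2648))) (BT.node 2651 (BT.node 2650 (BT.node 2649 (BT.leaf cX2649) (BT.leaf cX2650)) (BT.leaf cX2651)) (BT.node 2653 (BT.node 2652 (BT.leaf cX2652) (BT.leaf cX2653)) (BT.leaf cX2654)))) (BT.node 2660 (BT.node 2657 (BT.node 2656 (BT.node 2655 (BT.leaf cX2655) (BT.leaf cX2656)) (BT.leaf cX2657)) (BT.node 2659 (BT.node 2658 (BT.leaf cX2658) (BT.leaf cX2659)) (BT.leaf cX2660))) (BT.node 2663 (BT.node 2662 (BT.node 2661 (BT.leaf cX2661) (BT.leaf cX2662)) (BT.leaf cX2663)) (BT.node 2665 (BT.node 2664 (BT.leaf cX2664) (BT.leaf cX2665)) (BT.leaf cX2666)))))) (BT.node 2690 (BT.node 2678 (BT.node 2672 (BT.node 2669 (BT.node 2668 (BT.node 2667 (BT.leaf cX2667) (BT.leaf cX2668)) (BT.leaf cX2669)) (BT.node 2671 (BT.node 2670 (BT.leaf cX2670) (BT.leaf cX2671)) (BT.leaf cX2672))) (BT.node 2675 (BT.node 2674 (BT.node 2673 (BT.leaf cX2673) (BT.leaf cX2674)) (BT.leaf cX2675)) (BT.node 2677 (BT.node 2676 (BT.leaf cX2676) (BT.leaf cX2677)) (BT.leaf cX2678)))) (BT.node 2684 (BT.node 2681 (BT.node 2680 (BT.node 2679 (BT.leaf cX2679) (BT.leaf cX2680)) (BT.leaf cX2681)) (BT.node 2683 (BT.node 2682 (BT.leaf cX2682) (BT.leaf cX2683)) (BT.leaf cX2684))) (BT.node 2687 (BT.node 2686 (BT.node 2685 (BT.leaf cX2685) (BT.leaf cX2686)) (BT.leaf cX2687)) (BT.node 2689 (BT.node 2688 (BT.leaf cX2688) (BT.leaf cX2689)) (BT.leaf cX2690))))) (BT.node 2702 (BT.node 2696 (BT.node 2693 (BT.node 2692 (BT.node 2691 (BT.leaf cX2691) (BT.leaf cX2692)) (BT.leaf cX2693)) (BT.node 2695 (BT.node 2694 (BT.leaf cX2694) (BT.leaf cX2695)) (BT.leaf cX2696))) (BT.node 2699 (BT.node 2698 (BT.node 2697 (BT.leaf cX2697) (BT.leaf cX2698)) (BT.leaf cX2699)) (BT.node 2701 (BT.node 2700 (BT.leaf cX2700) (BT.leaf cX2701)) (BT.leaf cX2702)))) (BT.node 2708 (BT.node 2705 (BT.node 2704 (BT.node 2703 (BT.leaf cX2703) (BT.leaf cX2704)) (BT.leaf cX2705)) (BT.node 2707 (BT.node 2706 (BT.leaf cX2706) (BT.leaf cX2707)) (BT.leaf cX2708))) (BT.node 2711 (BT.node 2710 (BT.node 2709 (BT.leaf cX2709) (BT.leaf cX2710)) (BT.leaf cX2711)) (BT.node 2713 (BT.node 2712 (BT.leaf cX2712) (BT.leaf cX2713)) (BT.leaf cX2714)))))))) (BT.node 2812 (BT.node 2763 (BT.node 2739 (BT.node 2727 (BT.node 2721 (BT.node 2718 (BT.node 2716 (BT.node 2715 (BT.leaf cX2715) (BT.leaf cX2716)) (BT.node 2717 (BT.leaf cX2717) (BT.leaf cX2718))) (BT.node 2720 (BT.node 2719 (BT.leaf cX2719) (BT.leaf cX2720)) (BT.leaf cX2721))) (BT.node 2724 (BT.node 2723 (BT.node 2722 (BT.leaf cX2722) (BT.leaf cX2723)) (BT.leaf cX2724)) (BT.node 2726 (BT.node 2725 (BT.leaf cX2725) (BT.leaf cX2726)) (BT.leaf cX2727)))) (BT.node 2733 (BT.node 2730 (BT.node 2729 (BT.node 2728 (BT.leaf cX2728) (BT.leaf cX2729)) (BT.leaf cX2730)) (BT.node 2732 (BT.node 2731 (BT.leaf cX2731) (BT.leaf cX2732)) (BT.leaf cX2733))) (BT.node 2736 (BT.node 2735 (BT.node 2734 (BT.leaf cX2734) (BT.leaf cX2735)) (BT.leaf cX2736)) (BT.node 2738 (BT.node 2737 (BT.leaf cX2737) (BT.leaf cX2738)) (BT.leaf cX2739))))) (BT.node 2751 (BT.node 2745 (BT.node 2742 (BT.node 2741 (BT.node 2740 (BT.leaf cX2740) (BT.leaf cX2741)) (BT.leaf cX2742)) (BT.node 2744 (BT.node 2743 (BT.leaf cX2743) (BT.leaf cX2744)) (BT.leaf cX2745))) (BT.node 2748 (BT.node 2747 (BT.node 2746 (BT.leaf cX2746) (BT.leaf cX2747)) (BT.leaf cX2748)) (BT.node 2750 (BT.node 2749 (BT.leaf cX2749) (BT.leaf cX2750)) (BT.leaf cX2751)))) (BT.node 2757 (BT.node 2754 (BT.node 2753 (BT.node 2752 (BT.leaf cX2752) (BT.leaf cX2753)) (BT.leaf cX2754)) (BT.node 2756 (BT.node 2755 (BT.leaf cX2755) (BT.leaf cX2756)) (BT.leaf cX2757))) (BT.node 2760 (BT.node 2759 (BT.node 2758 (BT.leaf cX2758) (BT.leaf cX2759)) (BT.leaf cX2760)) (BT.node 2762 (BT.node 2761 (BT.leaf cX2761) (BT.leaf cX2762)) (BT.leaf cX2763)))))) (BT.node 2788 (BT.node 2776 (BT.node 2770 (BT.node 2767 (BT.node 2765 (BT.node 2764 (BT.leaf cX2764) (BT.leaf cX2765)) (BT.node 2766 (BT.leaf cX2766) (BT.leaf cX2767))) (BT.node 2769 (BT.node 2768 (BT.leaf cX2768) (BT.leaf cX2769)) (BT.leaf cX2770))) (BT.node 2773 (BT.node 2772 (BT.node 2771 (BT.leaf cX2771) (BT.leaf cX2772)) (BT.leaf cX2773)) (BT.node 2775 (BT.node 2774 (BT.leaf cX2774) (BT.leaf cX2775)) (BT.leaf cX2776)))) (BT.node 2782 (BT.node 2779 (BT.node 2778 (BT.node 2777 (BT.leaf cX2777) (BT.leaf cX2778)) (BT.leaf cX2779)) (BT.node 2781 (BT.node 2780 (BT.leaf cX2780) (BT.leaf cX2781)) (BT.leaf cX2782))) (BT.node 2785 (BT.node 2784 (BT.node 2783 (BT.leaf cX2783) (BT.leaf cX2784)) (BT.leaf cX2785)) (BT.node 2787 (BT.node 2786 (BT.leaf cX2786) (BT.leaf cX2787)) (BT.leaf cX2788))))) (BT.node 2800 (BT.node 2794 (BT.node 2791 (BT.node 2790 (BT.node 2789 (BT.leaf cX2789) (BT.leaf cX2790)) (BT.leaf cX2791)) (BT.node 2793 (BT.node 2792 (BT.leaf cX2792) (BT.leaf cX2793)) (BT.leaf cX2794))) (BT.node 2797 (BT.node 2796 (BT.node 2795 (BT.leaf cX2795) (BT.leaf cX2796)) (BT.leaf cX2797)) (BT.node 2799 (BT.node 2798 (BT.leaf cX2798) (BT.leaf cX2799)) (BT.leaf cX2800)))) (BT.node 2806 (BT.node 2803 (BT.node 2802 (BT.node 2801 (BT.leaf cX2801) (BT.leaf cX2802)) (BT.leaf cX2803)) (BT.node 2805 (BT.node 2804 (BT.leaf cX2804) (BT.leaf cX2805)) (BT.leaf cX2806))) (BT.node 2809 (BT.node 2808 (BT.node 2807 (BT.leaf cX2807) (BT.leaf cX2808)) (BT.leaf cX2809)) (BT.node 2811 (BT.node 2810 (BT.leaf cX2810) (BT.leaf cX2811)) (BT.leaf cX2812))))))) (BT.node 2861 (BT.node 2837 (BT.node 2825 (BT.node 2819 (BT.node 2816 (BT.node 2814 (BT.node 2813 (BT.leaf cX2813) (BT.leaf cX2814)) (BT.node 2815 (BT.leaf cX2815) (BT.leaf cX2816))) (BT.node 2818 (BT.node 2817 (BT.leaf cX2817) (BT.leaf cX2818)) (BT.leaf cX2819))) (BT.node 2822 (BT.node 2821 (BT.node 2820 (BT.leaf cX2820) (BT.leaf cX2821)) (BT.leaf cX2822)) (BT.node 2824 (BT.node 2823 (BT.leaf cX2823) (BT.leaf cX2824)) (BT.leaf cX2825)))) (BT.node 2831 (BT.node 2828 (BT.node 2827 (BT.node 2826 (BT.leaf cX2826) (BT.leaf cX2827)) (BT.leaf cX2828)) (BT.node 2830 (BT.node 2829 (BT.leaf cX2829) (BT.leaf cX2830)) (BT.leaf cX2831))) (BT.node 2834 (BT.node 2833 (BT.node 2832 (BT.leaf cX2832) (BT.leaf cX2833)) (BT.leaf cX2834)) (BT.node 2836 (BT.node 2835 (BT.leaf cX2835) (BT.leaf cX2836)) (BT.leaf cX2837))))) (BT.node 2849 (BT.node 2843 (BT.node 2840 (BT.node 2839 (BT.node 2838 (BT.leaf cX2838) (BT.leaf cX2839)) (BT.leaf cX2840)) (BT.node 2842 (BT.node 2841 (BT.leaf cX2841) (BT.leaf cX2842)) (BT.leaf cX2843))) (BT.node 2846 (BT.node 2845 (BT.node 2844 (BT.leaf cX2844) (BT.leaf cX2845)) (BT.leaf cX2846)) (BT.node 2848 (BT.node 2847 (BT.leaf cX2847) (BT.leaf cX2848)) (BT.leaf cX2849)))) (BT.node 2855 (BT.node 2852 (BT.node 2851 (BT.node 2850 (BT.leaf cX2850) (BT.leaf cX2851)) (BT.leaf cX2852)) (BT.node 2854 (BT.node 2853 (BT.leaf cX2853) (BT.leaf cX2854)) (BT.leaf cX2855))) (BT.node 2858 (BT.node 2857 (BT.node 2856 (BT.leaf cX2856) (BT.leaf cX2857)) (BT.leaf cX2858)) (BT.node 2860 (BT.node 2859 (BT.leaf cX2859) (BT.leaf cX2860)) (BT.leaf cX2861)))))) (BT.node 2885 (BT.node 2873 (BT.node 2867 (BT.node 2864 (BT.node 2863 (BT.node 2862 (BT.leaf cX2862) (BT.leaf cX2863)) (BT.leaf cX2864)) (BT.node 2866 (BT.node 2865 (BT.leaf cX2865) (BT.leaf cX2866)) (BT.leaf cX2867))) (BT.node 2870 (BT.node 2869 (BT.node 2868 (BT.leaf cX2868) (BT.leaf cX2869)) (BT.leaf cX2870)) (BT.node 2872 (BT.node 2871 (BT.leaf cX2871) (BT.leaf cX2872)) (BT.leaf cX2873)))) (BT.node 2879 (BT.node 2876 (BT.node 2875 (BT.node 2874 (BT.leaf cX2874) (BT.leaf cX2875)) (BT.leaf cX2876)) (BT.node 2878 (BT.node 2877 (BT.leaf cX2877) (BT.leaf cX2878)) (BT.leaf cX2879))) (BT.node 2882 (BT.node 2881 (BT.node 2880 (BT.leaf cX2880) (BT.leaf cX2881)) (BT.leaf cX2882)) (BT.node 2884 (BT.node 2883 (BT.leaf cX2883) (BT.leaf cX2884)) (BT.leaf cX2885))))) (BT.node 2897 (BT.node 2891 (BT.node 2888 (BT.node 2887 (BT.node 2886 (BT.leaf cX2886) (BT.leaf cX2887)) (BT.leaf cX2888)) (BT.node 2890 (BT.node 2889 (BT.leaf cX2889) (BT.leaf cX2890)) (BT.leaf cX2891))) (BT.node 2894 (BT.node 2893 (BT.node 2892 (BT.leaf cX2892) (BT.leaf cX2893)) (BT.leaf cX2894)) (BT.node 2896 (BT.node 2895 (BT.leaf cX2895) (BT.leaf cX2896)) (BT.leaf cX2897)))) (BT.node 2903 (BT.node 2900 (BT.node 2899 (BT.node 2898 (BT.leaf cX2898) (BT.leaf cX2899)) (BT.leaf cX2900)) (BT.node 2902 (BT.node 2901 (BT.leaf cX2901) (BT.leaf cX2902)) (BT.leaf cX2903))) (BT.node 2906 (BT.node 2905 (BT.node 2904 (BT.leaf cX2904) (BT.leaf cX2905)) (BT.leaf cX2906)) (BT.node 2908 (BT.node 2907 (BT.leaf cX2907) (BT.leaf cX2908)) (BT.leaf cX2909))))))))) (BT.node 3104 (BT.node 3007 (BT.node 2958 (BT.node 2934 (BT.node 2922 (BT.node 2916 (BT.node 2913 (BT.node 2911 (BT.node 2910 (BT.leaf cX2910) (BT.leaf cX2911)) (BT.node 2912 (BT.leaf cX2912) (BT.leaf cX2913))) (BT.node 2915 (BT.node 2914 (BT.leaf cX2914) (BT.leaf cX2915)) (BT.leaf cX2916))) (BT.node 2919 (BT.node 2918 (BT.node 2917 (BT.leaf cX2917) (BT.leaf cX2918)) (BT.leaf cX2919)) (BT.node 2921 (BT.node 2920 (BT.leaf cX2920) (BT.leaf cX2921)) (BT.leaf cX2922)))) (BT.node 2928 (BT.node 2925 (BT.node 2924 (BT.node 2923 (BT.leaf cX2923) (BT.leaf cX2924)) (BT.leaf cX2925)) (BT.node 2927 (BT.node 2926 (BT.leaf cX2926) (BT.leaf cX2927)) (BT.leaf cX2928))) (BT.node 2931 (BT.node 2930 (BT.node 2929 (BT.leaf cX2929) (BT.leaf cX2930)) (BT.leaf cX2931)) (BT.node 2933 (BT.node 2932 (BT.leaf cX2932) (BT.leaf cX2933)) (BT.leaf cX2934))))) (BT.node 2946 (BT.node 2940 (BT.node 2937 (BT.node 2936 (BT.node 2935 (BT.leaf cX2935) (BT.leaf cX2936)) (BT.leaf cX2937)) (BT.node 2939 (BT.node 2938 (BT.leaf cX2938) (BT.leaf cX2939)) (BT.leaf cX2940))) (BT.node 2943 (BT.node 2942 (BT.node 2941 (BT.leaf cX2941) (BT.leaf cX2942)) (BT.leaf cX2943)) (BT.node 2945 (BT.node 2944 (BT.leaf cX2944) (BT.leaf cX2945)) (BT.leaf cX2946)))) (BT.node 2952 (BT.node 2949 (BT.node 2948 (BT.node 2947 (BT.leaf cX2947) (BT.leaf cX2948)) (BT.leaf cX2949)) (BT.node 2951 (BT.node 2950 (BT.leaf cX2950) (BT.leaf cX2951)) (BT.leaf cX2952))) (BT.node 2955 (BT.node 2954 (BT.node 2953 (BT.leaf cX2953) (BT.leaf cX2954)) (BT.leaf cX2955)) (BT.node 2957 (BT.node 2956 (BT.leaf cX2956) (BT.leaf cX2957)) (BT.leaf cX2958)))))) (BT.node 2983 (BT.node 2971 (BT.node 2965 (BT.node 2962 (BT.node 2960 (BT.node 2959 (BT.leaf cX2959) (BT.leaf cX2960)) (BT.node 2961 (BT.leaf cX2961) (BT.leaf cX2962))) (BT.node 2964 (BT.node 2963 (BT.leaf cX2963) (BT.leaf cX2964)) (BT.leaf cX2965))) (BT.node 2968 (BT.node 2967 (BT.node 2966 (BT.leaf cX2966) (BT.leaf cX2967)) (BT.leaf cX2968)) (BT.node 2970 (BT.node 2969 (BT.leaf cX2969) (BT.leaf cX2970)) (BT.leaf cX2971)))) (BT.node 2977 (BT.node 2974 (BT.node 2973 (BT.node 2972 (BT.leaf cX2972) (BT.leaf cX2973)) (BT.leaf cX2974)) (BT.node 2976 (BT.node 2975 (BT.leaf cX2975) (BT.leaf cX2976)) (BT.leaf cX2977))) (BT.node 2980 (BT.node 2979 (BT.node 2978 (BT.leaf cX2978) (BT.leaf cX2979)) (BT.leaf cX2980)) (BT.node 2982 (BT.node 2981 (BT.leaf cX2981) (BT.leaf cX2982)) (BT.leaf cX2983))))) (BT.node 2995 (BT.node 2989 (BT.node 2986 (BT.node 2985 (BT.node 2984 (BT.leaf cX2984) (BT.leaf cX2985)) (BT.leaf cX2986)) (BT.node 2988 (BT.node 2987 (BT.leaf cX2987) (BT.leaf cX2988)) (BT.leaf cX2989))) (BT.node 2992 (BT.node 2991 (BT.node 2990 (BT.leaf cX2990) (BT.leaf cX2991)) (BT.leaf cX2992)) (BT.node 2994 (BT.node 2993 (BT.leaf cX2993) (BT.leaf cX2994)) (BT.leaf cX2995)))) (BT.node 3001 (BT.node 2998 (BT.node 2997 (BT.node 2996 (BT.leaf cX2996) (BT.leaf cX2997)) (BT.leaf cX2998)) (BT.node 3000 (BT.node 2999 (BT.leaf cX2999) (BT.leaf cX3000)) (BT.leaf cX3001))) (BT.node 3004 (BT.node 3003 (BT.node 3002 (BT.leaf cX3002) (BT.leaf cX3003)) (BT.leaf cX3004)) (BT.node 3006 (BT.node 3005 (BT.leaf cX3005) (BT.leaf cX3006)) (BT.leaf cX3007))))))) (BT.node 3056 (BT.node 3032 (BT.node 3020 (BT.node 3014 (BT.node 3011 (BT.node 3009 (BT.node 3008 (BT.leaf cX3008) (BT.leaf cX3009)) (BT.node 3010 (BT.leaf cX3010) (BT.leaf cX3011))) (BT.node 3013 (BT.node 3012 (BT.leaf cX3012) (BT.leaf cX3013)) (BT.leaf cX3014))) (BT.node 3017 (BT.node 3016 (BT.node 3015 (BT.leaf cX3015) (BT.leaf cX3016)) (BT.leaf cX3017)) (BT.node 3019 (BT.node 3018 (BT.leaf cX3018) (BT.leaf cX3019)) (BT.leaf cX3020)))) (BT.node 3026 (BT.node 3023 (BT.node 3022 (BT.node 3021 (BT.leaf cX3021) (BT.leaf cX3022)) (BT.leaf cX3023)) (BT.node 3025 (BT.node 3024 (BT.leaf cX3024) (BT.leaf cX3025)) (BT.leaf cX3026))) (BT.node 3029 (BT.node 3028 (BT.node 3027 (BT.leaf cX3027) (BT.leaf cX3028)) (BT.leaf cX3029)) (BT.node 3031 (BT.node 3030 (BT.leaf cX3030) (BT.leaf cX3031)) (BT.leaf cX3032))))) (BT.node 3044 (BT.node 3038 (BT.node 3035 (BT.node 3034 (BT.node 3033 (BT.leaf cX3033) (BT.leaf cX3034)) (BT.leaf cX3035)) (BT.node 3037 (BT.node 3036 (BT.leaf cX3036) (BT.leaf cX3037)) (BT.leaf cX3038))) (BT.node 3041 (BT.node 3040 (BT.node 3039 (BT.leaf cX3039) (BT.leaf cX3040)) (BT.leaf cX3041)) (BT.node 3043 (BT.node 3042 (BT.leaf cX3042) (BT.leaf cX3043)) (BT.leaf cX3044)))) (BT.node 3050 (BT.node 3047 (BT.node 3046 (BT.node 3045 (BT.leaf cX3045) (BT.leaf cX3046)) (BT.leaf cX3047)) (BT.node 3049 (BT.node 3048 (BT.leaf cX3048) (BT.leaf cX3049)) (BT.leaf cX3050))) (BT.node 3053 (BT.node 3052 (BT.node 3051 (BT.leaf cX3051) (BT.leaf cX3052)) (BT.leaf cX3053)) (BT.node 3055 (BT.node 3054 (BT.leaf cX3054) (BT.leaf cX3055)) (BT.leaf cX3056)))))) (BT.node 3080 (BT.node 3068 (BT.node 3062 (BT.node 3059 (BT.node 3058 (BT.node 3057 (BT.leaf cX3057) (BT.leaf cX3058)) (BT.leaf cX3059)) (BT.node 3061 (BT.node 3060 (BT.leaf cX3060) (BT.leaf cX3061)) (BT.leaf cX3062))) (BT.node 3065 (BT.node 3064 (BT.node 3063 (BT.leaf cX3063) (BT.leaf cX3064)) (BT.leaf cX3065)) (BT.node 3067 (BT.node 3066 (BT.leaf cX3066) (BT.leaf cX3067)) (BT.leaf cX3068)))) (BT.node 3074 (BT.node 3071 (BT.node 3070 (BT.node 3069 (BT.leaf cX3069) (BT.leaf cX3070)) (BT.leaf cX3071)) (BT.node 3073 (BT.node 3072 (BT.leaf cX3072) (BT.leaf cX3073)) (BT.leaf cX3074))) (BT.node 3077 (BT.node 3076 (BT.node 3075 (BT.leaf cX3075) (BT.leaf cX3076)) (BT.leaf cX3077)) (BT.node 3079 (BT.node 3078 (BT.leaf cX3078) (BT.leaf cX3079)) (BT.leaf cX3080))))) (BT.node 3092 (BT.node 3086 (BT.node 3083 (BT.node 3082 (BT.node 3081 (BT.leaf cX3081) (BT.leaf cX3082)) (BT.leaf cX3083)) (BT.node 3085 (BT.node 3084 (BT.leaf cX3084) (BT.leaf cX3085)) (BT.leaf cX3086))) (BT.node 3089 (BT.node 3088 (BT.node 3087 (BT.leaf cX3087) (BT.leaf cX3088)) (BT.leaf cX3089)) (BT.node 3091 (BT.node 3090 (BT.leaf cX3090) (BT.leaf cX3091)) (BT.leaf cX3092)))) (BT.node 3098 (BT.node 3095 (BT.node 3094 (BT.node 3093 (BT.leaf cX3093) (BT.leaf cX3094)) (BT.leaf cX3095)) (BT.node 3097 (BT.node 3096 (BT.leaf cX3096) (BT.leaf cX3097)) (BT.leaf cX3098))) (BT.node 3101 (BT.node 3100 (BT.node 3099 (BT.leaf cX3099) (BT.leaf cX3100)) (BT.leaf cX3101)) (BT.node 3103 (BT.node 3102 (BT.leaf cX3102) (BT.leaf cX3103)) (BT.leaf cX3104)))))))) (BT.node 3202 (BT.node 3153 (BT.node 3129 (BT.node 3117 (BT.node 3111 (BT.node 3108 (BT.node 3106 (BT.node 3105 (BT.leaf cX3105) (BT.leaf cX3106)) (BT.node 3107 (BT.leaf cX3107) (BT.leaf cX3108))) (BT.node 3110 (BT.node 3109 (BT.leaf cX3109) (BT.leaf cX3110)) (BT.leaf cX3111))) (BT.node 3114 (BT.node 3113 (BT.node 3112 (BT.leaf cX3112) (BT.leaf cX3113)) (BT.leaf cX3114)) (BT.node 3116 (BT.node 3115 (BT.leaf cX3115) (BT.leaf cX3116)) (BT.leaf cX3117)))) (BT.node 3123 (BT.node 3120 (BT.node 3119 (BT.node 3118 (BT.leaf cX3118) (BT.leaf cX3119)) (BT.leaf cX3120)) (BT.node 3122 (BT.node 3121 (BT.leaf cX3121) (BT.leaf cX3122)) (BT.leaf cX3123))) (BT.node 3126 (BT.node 3125 (BT.node 3124 (BT.leaf cX3124) (BT.leaf cX3125)) (BT.leaf cX3126)) (BT.node 3128 (BT.node 3127 (BT.leaf cX3127) (BT.leaf cX3128)) (BT.leaf cX3129))))) (BT.node 3141 (BT.node 3135 (BT.node 3132 (BT.node 3131 (BT.node 3130 (BT.leaf cX3130) (BT.leaf cX3131)) (BT.leaf cX3132)) (BT.node 3134 (BT.node 3133 (BT.leaf cX3133) (BT.leaf cX3134)) (BT.leaf cX3135))) (BT.node 3138 (BT.node 3137 (BT.node 3136 (BT.leaf cX3136) (BT.leaf cX3137)) (BT.leaf cX3138)) (BT.node 3140 (BT.node 3139 (BT.leaf cX3139) (BT.leaf cX3140)) (BT.leaf cX3141)))) (BT.node 3147 (BT.node 3144 (BT.node 3143 (BT.node 3142 (BT.leaf cX3142) (BT.leaf cX3143)) (BT.leaf cX3144)) (BT.node 3146 (BT.node 3145 (BT.leaf cX3145) (BT.leaf cX3146)) (BT.leaf cX3147))) (BT.node 3150 (BT.node 3149 (BT.node 3148 (BT.leaf cX3148) (BT.leaf cX3149)) (BT.leaf cX3150)) (BT.node 3152 (BT.node 3151 (BT.leaf cX3151) (BT.leaf cX3152)) (BT.leaf cX3153)))))) (BT.node 3178 (BT.node 3166 (BT.node 3160 (BT.node 3157 (BT.node 3155 (BT.node 3154 (BT.leaf cX3154) (BT.leaf cX3155)) (BT.node 3156 (BT.leaf cX3156) (BT.leaf cX3157))) (BT.node 3159 (BT.node 3158 (BT.leaf cX3158) (BT.leaf cX3159)) (BT.leaf cX3160))) (BT.node 3163 (BT.node 3162 (BT.node 3161 (BT.leaf cX3161) (BT.leaf cX3162)) (BT.leaf cX3163)) (BT.node 3165 (BT.node 3164 (BT.leaf cX3164) (BT.leaf cX3165)) (BT.leaf cX3166)))) (BT.node 3172 (BT.node 3169 (BT.node 3168 (BT.node 3167 (BT.leaf cX3167) (BT.leaf cX3168)) (BT.leaf cX3169)) (BT.node 3171 (BT.node 3170 (BT.leaf cX3170) (BT.leaf cX3171)) (BT.leaf cX3172))) (BT.node 3175 (BT.node 3174 (BT.node 3173 (BT.leaf cX3173) (BT.leaf cX3174)) (BT.leaf cX3175)) (BT.node 3177 (BT.node 3176 (BT.leaf cX3176) (BT.leaf cX3177)) (BT.leaf cX3178))))) (BT.node 3190 (BT.node 3184 (BT.node 3181 (BT.node 3180 (BT.node 3179 (BT.leaf cX3179) (BT.leaf cX3180)) (BT.leaf cX3181)) (BT.node 3183 (BT.node 3182 (BT.leaf cX3182) (BT.leaf cX3183)) (BT.leaf cX3184))) (BT.node 3187 (BT.node 3186 (BT.node 3185 (BT.leaf cX3185) (BT.leaf cX3186)) (BT.leaf cX3187)) (BT.node 3189 (BT.node 3188 (BT.leaf cX3188) (BT.leaf cX3189)) (BT.leaf cX3190)))) (BT.node 3196 (BT.node 3193 (BT.node 3192 (BT.node 3191 (BT.leaf cX3191) (BT.leaf cX3192)) (BT.leaf cX3193)) (BT.node 3195 (BT.node 3194 (BT.leaf cX3194) (BT.leaf cX3195)) (BT.leaf cX3196))) (BT.node 3199 (BT.node 3198 (BT.node 3197 (BT.leaf cX3197) (BT.leaf cX3198)) (BT.leaf cX3199)) (BT.node 3201 (BT.node 3200 (BT.leaf cX3200) (BT.leaf cX3201)) (BT.leaf cX3202))))))) (BT.node 3251 (BT.node 3227 (BT.node 3215 (BT.node 3209 (BT.node 3206 (BT.node 3204 (BT.node 3203 (BT.leaf cX3203) (BT.leaf cX3204)) (BT.node 3205 (BT.leaf cX3205) (BT.leaf cX3206))) (BT.node 3208 (BT.node 3207 (BT.leaf cX3207) (BT.leaf cX3208)) (BT.leaf cX3209))) (BT.node 3212 (BT.node 3211 (BT.node 3210 (BT.leaf cX3210) (BT.leaf cX3211)) (BT.leaf cX3212)) (BT.node 3214 (BT.node 3213 (BT.leaf cX3213) (BT.leaf cX3214)) (BT.leaf cX3215)))) (BT.node 3221 (BT.node 3218 (BT.node 3217 (BT.node 3216 (BT.leaf cX3216) (BT.leaf cX3217)) (BT.leaf cX3218)) (BT.node 3220 (BT.node 3219 (BT.leaf cX3219) (BT.leaf cX3220)) (BT.leaf cX3221))) (BT.node 3224 (BT.node 3223 (BT.node 3222 (BT.leaf cX3222) (BT.leaf cX3223)) (BT.leaf cX3224)) (BT.node 3226 (BT.node 3225 (BT.leaf cX3225) (BT.leaf cX3226)) (BT.leaf cX3227))))) (BT.node 3239 (BT.node 3233 (BT.node 3230 (BT.node 3229 (BT.node 3228 (BT.leaf cX3228) (BT.leaf cX3229)) (BT.leaf cX3230)) (BT.node 3232 (BT.node 3231 (BT.leaf cX3231) (BT.leaf cX3232)) (BT.leaf cX3233))) (BT.node 3236 (BT.node 3235 (BT.node 3234 (BT.leaf cX3234) (BT.leaf cX3235)) (BT.leaf cX3236)) (BT.node 3238 (BT.node 3237 (BT.leaf cX3237) (BT.leaf cX3238)) (BT.leaf cX3239)))) (BT.node 3245 (BT.node 3242 (BT.node 3241 (BT.node 3240 (BT.leaf cX3240) (BT.leaf cX3241)) (BT.leaf cX3242)) (BT.node 3244 (BT.node 3243 (BT.leaf cX3243) (BT.leaf cX3244)) (BT.leaf cX3245))) (BT.node 3248 (BT.node 3247 (BT.node 3246 (BT.leaf cX3246) (BT.leaf cX3247)) (BT.leaf cX3248)) (BT.node 3250 (BT.node 3249 (BT.leaf cX3249) (BT.leaf cX3250)) (BT.leaf cX3251)))))) (BT.node 3275 (BT.node 3263 (BT.node 3257 (BT.node 3254 (BT.node 3253 (BT.node 3252 (BT.leaf cX3252) (BT.leaf cX3253)) (BT.leaf cX3254)) (BT.node 3256 (BT.node 3255 (BT.leaf cX3255) (BT.leaf cX3256)) (BT.leaf cX3257))) (BT.node 3260 (BT.node 3259 (BT.node 3258 (BT.leaf cX3258) (BT.leaf cX3259)) (BT.leaf cX3260)) (BT.node 3262 (BT.node 3261 (BT.leaf cX3261) (BT.leaf cX3262)) (BT.leaf cX3263)))) (BT.node 3269 (BT.node 3266 (BT.node 3265 (BT.node 3264 (BT.leaf cX3264) (BT.leaf cX3265)) (BT.leaf cX3266)) (BT.node 3268 (BT.node 3267 (BT.leaf cX3267) (BT.leaf cX3268)) (BT.leaf cX3269))) (BT.node 3272 (BT.node 3271 (BT.node 3270 (BT.leaf cX3270) (BT.leaf cX3271)) (BT.leaf cX3272)) (BT.node 3274 (BT.node 3273 (BT.leaf cX3273) (BT.leaf cX3274)) (BT.leaf cX3275))))) (BT.node 3287 (BT.node 3281 (BT.node 3278 (BT.node 3277 (BT.node 3276 (BT.leaf cX3276) (BT.leaf cX3277)) (BT.leaf cX3278)) (BT.node 3280 (BT.node 3279 (BT.leaf cX3279) (BT.leaf cX3280)) (BT.leaf cX3281))) (BT.node 3284 (BT.node 3283 (BT.node 3282 (BT.leaf cX3282) (BT.leaf cX3283)) (BT.leaf cX3284)) (BT.node 3286 (BT.node 3285 (BT.leaf cX3285) (BT.leaf cX3286)) (BT.leaf cX3287)))) (BT.node 3293 (BT.node 3290 (BT.node 3289 (BT.node 3288 (BT.leaf cX3288) (BT.leaf cX3289)) (BT.leaf cX3290)) (BT.node 3292 (BT.node 3291 (BT.leaf cX3291) (BT.leaf cX3292)) (BT.leaf cX3293))) (BT.node 3296 (BT.node 3295 (BT.node 3294 (BT.leaf cX3294) (BT.leaf cX3295)) (BT.leaf cX3296)) (BT.node 3298 (BT.node 3297 (BT.leaf cX3297) (BT.leaf cX3298)) (BT.leaf cX3299)))))))))) (BT.node 3689 (BT.node 3494 (BT.node 3397 (BT.node 3348 (BT.node 3324 (BT.node 3312 (BT.node 3306 (BT.node 3303 (BT.node 3301 (BT.node 3300 (BT.leaf cX3300) (BT.leaf cX3301)) (BT.node 3302 (BT.leaf cX3302) (BT.leaf cX3303))) (BT.node 3305 (BT.node 3304 (BT.leaf cX3304) (BT.leaf cX3305)) (BT.leaf cX3306))) (BT.node 3309 (BT.node 3308 (BT.node 3307 (BT.leaf cX3307) (BT.leaf cX3308)) (BT.leaf cX3309)) (BT.node 3311 (BT.node 3310 (BT.leaf cX3310) (BT.leaf cX3311)) (BT.leaf cX3312)))) (BT.node 3318 (BT.node 3315 (BT.node 3314 (BT.node 3313 (BT.leaf cX3313) (BT.leaf cX3314)) (BT.leaf cX3315)) (BT.node 3317 (BT.node 3316 (BT.leaf cX3316) (BT.leaf cX3317)) (BT.leaf cX3318))) (BT.node 3321 (BT.node 3320 (BT.node 3319 (BT.leaf cX3319) (BT.leaf cX3320)) (BT.leaf cX3321)) (BT.node 3323 (BT.node 3322 (BT.leaf cX3322) (BT.leaf cX3323)) (BT.leaf cX3324))))) (BT.node 3336 (BT.node 3330 (BT.node 3327 (BT.node 3326 (BT.node 3325 (BT.leaf cX3325) (BT.leaf cX3326)) (BT.leaf cX3327)) (BT.node 3329 (BT.node 3328 (BT.leaf cX3328) (BT.leaf cX3329)) (BT.leaf cX3330))) (BT.node 3333 (BT.node 3332 (BT.node 3331 (BT.leaf cX3331) (BT.leaf cX3332)) (BT.leaf cX3333)) (BT.node 3335 (BT.node 3334 (BT.leaf cX3334) (BT.leaf cX3335)) (BT.leaf cX3336)))) (BT.node 3342 (BT.node 3339 (BT.node 3338 (BT.node 3337 (BT.leaf cX3337) (BT.leaf cX3338)) (BT.leaf cX3339)) (BT.node 3341 (BT.node 3340 (BT.leaf cX3340) (BT.leaf cX3341)) (BT.leaf cX3342))) (BT.node 3345 (BT.node 3344 (BT.node 3343 (BT.leaf cX3343) (BT.leaf cX3344)) (BT.leaf cX3345)) (BT.node 3347 (BT.node 3346 (BT.leaf cX3346) (BT.leaf cX3347)) (BT.leaf cX3348)))))) (BT.node 3373 (BT.node 3361 (BT.node 3355 (BT.node 3352 (BT.node 3350 (BT.node 3349 (BT.leaf cX3349) (BT.leaf cX3350)) (BT.node 3351 (BT.leaf cX3351) (BT.leaf cX3352))) (BT.node 3354 (BT.node 3353 (BT.leaf cX3353) (BT.leaf cX3354)) (BT.leaf cX3355))) (BT.node 3358 (BT.node 3357 (BT.node 3356 (BT.leaf cX3356) (BT.leaf cX3357)) (BT.leaf cX3358)) (BT.node 3360 (BT.node 3359 (BT.leaf cX3359) (BT.leaf cX3360)) (BT.leaf cX3361)))) (BT.node 3367 (BT.node 3364 (BT.node 3363 (BT.node 3362 (BT.leaf cX3362) (BT.leaf cX3363)) (BT.leaf cX3364)) (BT.node 3366 (BT.node 3365 (BT.leaf cX3365) (BT.leaf cX3366)) (BT.leaf cX3367))) (BT.node 3370 (BT.node 3369 (BT.node 3368 (BT.leaf cX3368) (BT.leaf cX3369)) (BT.leaf cX3370)) (BT.node 3372 (BT.node 3371 (BT.leaf cX3371) (BT.leaf cX3372)) (BT.leaf cX3373))))) (BT.node 3385 (BT.node 3379 (BT.node 3376 (BT.node 3375 (BT.node 3374 (BT.leaf cX3374) (BT.leaf cX3375)) (BT.leaf cX3376)) (BT.node 3378 (BT.node 3377 (BT.leaf cX3377) (BT.leaf cX3378)) (BT.leaf cX3379))) (BT.node 3382 (BT.node 3381 (BT.node 3380 (BT.leaf cX3380) (BT.leaf cX3381)) (BT.leaf cX3382)) (BT.node 3384 (BT.node 3383 (BT.leaf cX3383) (BT.leaf cX3384)) (BT.leaf cX3385)))) (BT.node 3391 (BT.node 3388 (BT.node 3387 (BT.node 3386 (BT.leaf cX3386) (BT.leaf cX3387)) (BT.leaf cX3388)) (BT.node 3390 (BT.node 3389 (BT.leaf cX3389) (BT.leaf cX3390)) (BT.leaf cX3391))) (BT.node 3394 (BT.node 3393 (BT.node 3392 (BT.leaf cX3392) (BT.leaf cX3393)) (BT.leaf cX3394)) (BT.node 3396 (BT.node 3395 (BT.leaf cX3395) (BT.leaf cX3396)) (BT.leaf cX3397))))))) (BT.node 3446 (BT.node 3422 (BT.node 3410 (BT.node 3404 (BT.node 3401 (BT.node 3399 (BT.node 3398 (BT.leaf cX3398) (BT.leaf cX3399)) (BT.node 3400 (BT.leaf cX3400) (BT.leaf cX3401))) (BT.node 3403 (BT.node 3402 (BT.leaf cX3402) (BT.leaf cX3403)) (BT.leaf cX3404))) (BT.node 3407 (BT.node 3406 (BT.node 3405 (BT.leaf cX3405) (BT.leaf cX3406)) (BT.leaf cX3407)) (BT.node 3409 (BT.node 3408 (BT.leaf cX3408) (BT.leaf cX3409)) (BT.leaf cX3410)))) (BT.node 3416 (BT.node 3413 (BT.node 3412 (BT.node 3411 (BT.leaf cX3411) (BT.leaf cX3412)) (BT.leaf cX3413)) (BT.node 3415 (BT.node 3414 (BT.leaf cX3414) (BT.leaf cX3415)) (BT.leaf cX3416))) (BT.node 3419 (BT.node 3418 (BT.node 3417 (BT.leaf cX3417) (BT.leaf cX3418)) (BT.leaf cX3419)) (BT.node 3421 (BT.node 3420 (BT.leaf cX3420) (BT.leaf cX3421)) (BT.leaf cX3422))))) (BT.node 3434 (BT.node 3428 (BT.node 3425 (BT.node 3424 (BT.node 3423 (BT.leaf cX3423) (BT.leaf cX3424)) (BT.leaf cX3425)) (BT.node 3427 (BT.node 3426 (BT.leaf cX3426) (BT.leaf cX3427)) (BT.leaf cX3428))) (BT.node 3431 (BT.node 3430 (BT.node 3429 (BT.leaf cX3429) (BT.leaf cX3430)) (BT.leaf cX3431)) (BT.node 3433 (BT.node 3432 (BT.leaf cX3432) (BT.leaf cX3433)) (BT.leaf cX3434)))) (BT.node 3440 (BT.node 3437 (BT.node 3436 (BT.node 3435 (BT.leaf cX3435) (BT.leaf cX3436)) (BT.leaf cX3437)) (BT.node 3439 (BT.node 3438 (BT.leaf cX3438) (BT.leaf cX3439)) (BT.leaf cX3440))) (BT.node 3443 (BT.node 3442 (BT.node 3441 (BT.leaf cX3441) (BT.leaf cX3442)) (BT.leaf cX3443)) (BT.node 3445 (BT.node 3444 (BT.leaf cX3444) (BT.leaf cX3445)) (BT.leaf cX3446)))))) (BT.node 3470 (BT.node 3458 (BT.node 3452 (BT.node 3449 (BT.node 3448 (BT.node 3447 (BT.leaf cX3447) (BT.leaf cX3448)) (BT.leaf cX3449)) (BT.node 3451 (BT.node 3450 (BT.leaf cX3450) (BT.leaf cX3451)) (BT.leaf cX3452))) (BT.node 3455 (BT.node 3454 (BT.node 3453 (BT.leaf cX3453) (BT.leaf cX3454)) (BT.leaf cX3455)) (BT.node 3457 (BT.node 3456 (BT.leaf cX3456) (BT.leaf cX3457)) (BT.leaf cX3458)))) (BT.node 3464 (BT.node 3461 (BT.node 3460 (BT.node 3459 (BT.leaf cX3459) (BT.leaf cX3460)) (BT.leaf cX3461)) (BT.node 3463 (BT.node 3462 (BT.leaf cX3462) (BT.leaf cX3463)) (BT.leaf cX3464))) (BT.node 3467 (BT.node 3466 (BT.node 3465 (BT.leaf cX3465) (BT.leaf cX3466)) (BT.leaf cX3467)) (BT.node 3469 (BT.node 3468 (BT.leaf cX3468) (BT.leaf cX3469)) (BT.leaf cX3470))))) (BT.node 3482 (BT.node 3476 (BT.node 3473 (BT.node 3472 (BT.node 3471 (BT.leaf cX3471) (BT.leaf cX3472)) (BT.leaf cX3473)) (BT.node 3475 (BT.node 3474 (BT.leaf cX3474) (BT.leaf cX3475)) (BT.leaf cX3476))) (BT.node 3479 (BT.node 3478 (BT.node 3477 (BT.leaf cX3477) (BT.leaf cX3478)) (BT.leaf cX3479)) (BT.node 3481 (BT.node 3480 (BT.leaf cX3480) (BT.leaf cX3481)) (BT.leaf cX3482)))) (BT.node 3488 (BT.node 3485 (BT.node 3484 (BT.node 3483 (BT.leaf cX3483) (BT.leaf cX3484)) (BT.leaf cX3485)) (BT.node 3487 (BT.node 3486 (BT.leaf cX3486) (BT.leaf cX3487)) (BT.leaf cX3488))) (BT.node 3491 (BT.node 3490 (BT.node 3489 (BT.leaf cX3489) (BT.leaf cX3490)) (BT.leaf cX3491)) (BT.node 3493 (BT.node 3492 (BT.leaf cX3492) (BT.leaf cX3493)) (BT.leaf cX3494)))))))) (BT.node 3592 (BT.node 3543 (BT.node 3519 (BT.node 3507 (BT.node 3501 (BT.node 3498 (BT.node 3496 (BT.node 3495 (BT.leaf cX3495) (BT.leaf cX3496)) (BT.node 3497 (BT.leaf cX3497) (BT.leaf cX3498))) (BT.node 3500 (BT.node 3499 (BT.leaf cX3499) (BT.leaf cX3500)) (BT.leaf cX3501))) (BT.node 3504 (BT.node 3503 (BT.node 3502 (BT.leaf cX3502) (BT.leaf cX3503)) (BT.leaf cX3504)) (BT.node 3506 (BT.node 3505 (BT.leaf cX3505) (BT.leaf cX3506)) (BT.leaf cX3507)))) (BT.node 3513 (BT.node 3510 (BT.node 3509 (BT.node 3508 (BT.leaf cX3508) (BT.leaf cX3509)) (BT.leaf cX3510)) (BT.node 3512 (BT.node 3511 (BT.leaf cX3511) (BT.leaf cX3512)) (BT.leaf cX3513))) (BT.node 3516 (BT.node 3515 (BT.node 3514 (BT.leaf cX3514) (BT.leaf cX3515)) (BT.leaf cX3516)) (BT.node 3518 (BT.node 3517 (BT.leaf cX3517) (BT.leaf cX3518)) (BT.leaf cX3519))))) (BT.node 3531 (BT.node 3525 (BT.node 3522 (BT.node 3521 (BT.node 3520 (BT.leaf cX3520) (BT.leaf cX3521)) (BT.leaf cX3522)) (BT.node 3524 (BT.node 3523 (BT.leaf cX3523) (BT.leaf cX3524)) (BT.leaf cX3525))) (BT.node 3528 (BT.node 3527 (BT.node 3526 (BT.leaf cX3526) (BT.leaf cX3527)) (BT.leaf cX3528)) (BT.node 3530 (BT.node 3529 (BT.leaf cX3529) (BT.leaf cX3530)) (BT.leaf cX3531)))) (BT.node 3537 (BT.node 3534 (BT.node 3533 (BT.node 3532 (BT.leaf cX3532) (BT.leaf cX3533)) (BT.leaf cX3534)) (BT.node 3536 (BT.node 3535 (BT.leaf cX3535) (BT.leaf cX3536)) (BT.leaf cX3537))) (BT.node 3540 (BT.node 3539 (BT.node 3538 (BT.leaf cX3538) (BT.leaf cX3539)) (BT.leaf cX3540)) (BT.node 3542 (BT.node 3541 (BT.leaf cX3541) (BT.leaf cX3542)) (BT.leaf cX3543)))))) (BT.node 3568 (BT.node 3556 (BT.node 3550 (BT.node 3547 (BT.node 3545 (BT.node 3544 (BT.leaf cX3544) (BT.leaf cX3545)) (BT.node 3546 (BT.leaf cX3546) (BT.leaf cX3547))) (BT.node 3549 (BT.node 3548 (BT.leaf cX3548) (BT.leaf cX3549)) (BT.leaf cX3550))) (BT.node 3553 (BT.node 3552 (BT.node 3551 (BT.leaf cX3551) (BT.leaf cX3552)) (BT.leaf cX3553)) (BT.node 3555 (BT.node 3554 (BT.leaf cX3554) (BT.leaf cX3555)) (BT.leaf cX3556)))) (BT.node 3562 (BT.node 3559 (BT.node 3558 (BT.node 3557 (BT.leaf cX3557) (BT.leaf cX3558)) (BT.leaf cX3559)) (BT.node 3561 (BT.node 3560 (BT.leaf cX3560) (BT.leaf cX3561)) (BT.leaf cX3562))) (BT.node 3565 (BT.node 3564 (BT.node 3563 (BT.leaf cX3563) (BT.leaf cX3564)) (BT.leaf cX3565)) (BT.node 3567 (BT.node 3566 (BT.leaf cX3566) (BT.leaf cX3567)) (BT.leaf cX3568))))) (BT.node 3580 (BT.node 3574 (BT.node 3571 (BT.node 3570 (BT.node 3569 (BT.leaf cX3569) (BT.leaf cX3570)) (BT.leaf cX3571)) (BT.node 3573 (BT.node 3572 (BT.leaf cX3572) (BT.leaf cX3573)) (BT.leaf cX3574))) (BT.node 3577 (BT.node 3576 (BT.node 3575 (BT.leaf cX3575) (BT.leaf cX3576)) (BT.leaf cX3577)) (BT.node 3579 (BT.node 3578 (BT.leaf cX3578) (BT.leaf cX3579)) (BT.leaf cX3580)))) (BT.node 3586 (BT.node 3583 (BT.node 3582 (BT.node 3581 (BT.leaf cX3581) (BT.leaf cX3582)) (BT.leaf cX3583)) (BT.node 3585 (BT.node 3584 (BT.leaf cX3584) (BT.leaf cX3585)) (BT.leaf cX3586))) (BT.node 3589 (BT.node 3588 (BT.node 3587 (BT.leaf cX3587) (BT.leaf cX3588)) (BT.leaf cX3589)) (BT.node 3591 (BT.node 3590 (BT.leaf cX3590) (BT.leaf cX3591)) (BT.leaf cX3592))))))) (BT.node 3641 (BT.node 3617 (BT.node 3605 (BT.node 3599 (BT.node 3596 (BT.node 3594 (BT.node 3593 (BT.leaf cX3593) (BT.leaf cX3594)) (BT.node 3595 (BT.leaf cX3595) (BT.leaf cX3596))) (BT.node 3598 (BT.node 3597 (BT.leaf cX3597) (BT.leaf cX3598)) (BT.leaf cX3599))) (BT.node 3602 (BT.node 3601 (BT.node 3600 (BT.leaf cX3600) (BT.leaf cX3601)) (BT.leaf cX3602)) (BT.node 3604 (BT.node 3603 (BT.leaf cX3603) (BT.leaf cX3604)) (BT.leaf cX3605)))) (BT.node 3611 (BT.node 3608 (BT.node 3607 (BT.node 3606 (BT.leaf cX3606) (BT.leaf cX3607)) (BT.leaf cX3608)) (BT.node 3610 (BT.node 3609 (BT.leaf cX3609) (BT.leaf cX3610)) (BT.leaf cX3611))) (BT.node 3614 (BT.node 3613 (BT.node 3612 (BT.leaf cX3612) (BT.leaf cX3613)) (BT.leaf cX3614)) (BT.node 3616 (BT.node 3615 (BT.leaf cX3615) (BT.leaf cX3616)) (BT.leaf cX3617))))) (BT.node 3629 (BT.node 3623 (BT.node 3620 (BT.node 3619 (BT.node 3618 (BT.leaf cX3618) (BT.leaf cX3619)) (BT.leaf cX3620)) (BT.node 3622 (BT.node 3621 (BT.leaf cX3621) (BT.leaf cX3622)) (BT.leaf cX3623))) (BT.node 3626 (BT.node 3625 (BT.node 3624 (BT.leaf cX3624) (BT.leaf cX3625)) (BT.leaf cX3626)) (BT.node 3628 (BT.node 3627 (BT.leaf cX3627) (BT.leaf cX3628)) (BT.leaf cX3629)))) (BT.node 3635 (BT.node 3632 (BT.node 3631 (BT.node 3630 (BT.leaf cX3630) (BT.leaf cX3631)) (BT.leaf cX3632)) (BT.node 3634 (BT.node 3633 (BT.leaf cX3633) (BT.leaf cX3634)) (BT.leaf cX3635))) (BT.node 3638 (BT.node 3637 (BT.node 3636 (BT.leaf cX3636) (BT.leaf cX3637)) (BT.leaf cX3638)) (BT.node 3640 (BT.node 3639 (BT.leaf cX3639) (BT.leaf cX3640)) (BT.leaf cX3641)))))) (BT.node 3665 (BT.node 3653 (BT.node 3647 (BT.node 3644 (BT.node 3643 (BT.node 3642 (BT.leaf cX3642) (BT.leaf cX3643)) (BT.leaf cX3644)) (BT.node 3646 (BT.node 3645 (BT.leaf cX3645) (BT.leaf cX3646)) (BT.leaf cX3647))) (BT.node 3650 (BT.node 3649 (BT.node 3648 (BT.leaf cX3648) (BT.leaf cX3649)) (BT.leaf cX3650)) (BT.node 3652 (BT.node 3651 (BT.leaf cX3651) (BT.leaf cX3652)) (BT.leaf cX3653)))) (BT.node 3659 (BT.node 3656 (BT.node 3655 (BT.node 3654 (BT.leaf cX3654) (BT.leaf cX3655)) (BT.leaf cX3656)) (BT.node 3658 (BT.node 3657 (BT.leaf cX3657) (BT.leaf cX3658)) (BT.leaf cX3659))) (BT.node 3662 (BT.node 3661 (BT.node 3660 (BT.leaf cX3660) (BT.leaf cX3661)) (BT.leaf cX3662)) (BT.node 3664 (BT.node 3663 (BT.leaf cX3663) (BT.leaf cX3664)) (BT.leaf cX3665))))) (BT.node 3677 (BT.node 3671 (BT.node 3668 (BT.node 3667 (BT.node 3666 (BT.leaf cX3666) (BT.leaf cX3667)) (BT.leaf cX3668)) (BT.node 3670 (BT.node 3669 (BT.leaf cX3669) (BT.leaf cX3670)) (BT.leaf cX3671))) (BT.node 3674 (BT.node 3673 (BT.node 3672 (BT.leaf cX3672) (BT.leaf cX3673)) (BT.leaf cX3674)) (BT.node 3676 (BT.node 3675 (BT.leaf cX3675) (BT.leaf cX3676)) (BT.leaf cX3677)))) (BT.node 3683 (BT.node 3680 (BT.node 3679 (BT.node 3678 (BT.leaf cX3678) (BT.leaf cX3679)) (BT.leaf cX3680)) (BT.node 3682 (BT.node 3681 (BT.leaf cX3681) (BT.leaf cX3682)) (BT.leaf cX3683))) (BT.node 3686 (BT.node 3685 (BT.node 3684 (BT.leaf cX3684) (BT.leaf cX3685)) (BT.leaf cX3686)) (BT.node 3688 (BT.node 3687 (BT.leaf cX3687) (BT.leaf cX3688)) (BT.leaf cX3689))))))))) (BT.node 3884 (BT.node 3787 (BT.node 3738 (BT.node 3714 (BT.node 3702 (BT.node 3696 (BT.node 3693 (BT.node 3691 (BT.node 3690 (BT.leaf cX3690) (BT.leaf cX3691)) (BT.node 3692 (BT.leaf cX3692) (BT.leaf cX3693))) (BT.node 3695 (BT.node 3694 (BT.leaf cX3694) (BT.leaf cX3695)) (BT.leaf cX3696))) (BT.node 3699 (BT.node 3698 (BT.node 3697 (BT.leaf cX3697) (BT.leaf cX3698)) (BT.leaf cX3699)) (BT.node 3701 (BT.node 3700 (BT.leaf cX3700) (BT.leaf cX3701)) (BT.leaf cX3702)))) (BT.node 3708 (BT.node 3705 (BT.node 3704 (BT.node 3703 (BT.leaf cX3703) (BT.leaf cX3704)) (BT.leaf cX3705)) (BT.node 3707 (BT.node 3706 (BT.leaf cX3706) (BT.leaf cX3707)) (BT.leaf cX3708))) (BT.node 3711 (BT.node 3710 (BT.node 3709 (BT.leaf cX3709) (BT.leaf cX3710)) (BT.leaf cX3711)) (BT.node 3713 (BT.node 3712 (BT.leaf cX3712) (BT.leaf cX3713)) (BT.leaf cX3714))))) (BT.node 3726 (BT.node 3720 (BT.node 3717 (BT.node 3716 (BT.node 3715 (BT.leaf cX3715) (BT.leaf cX3716)) (BT.leaf cX3717)) (BT.node 3719 (BT.node 3718 (BT.leaf cX3718) (BT.leaf cX3719)) (BT.leaf cX3720))) (BT.node 3723 (BT.node 3722 (BT.node 3721 (BT.leaf cX3721) (BT.leaf cX3722)) (BT.leaf cX3723)) (BT.node 3725 (BT.node 3724 (BT.leaf cX3724) (BT.leaf cX3725)) (BT.leaf cX3726)))) (BT.node 3732 (BT.node 3729 (BT.node 3728 (BT.node 3727 (BT.leaf cX3727) (BT.leaf cX3728)) (BT.leaf cX3729)) (BT.node 3731 (BT.node 3730 (BT.leaf cX3730) (BT.leaf cX3731)) (BT.leaf cX3732))) (BT.node 3735 (BT.node 3734 (BT.node 3733 (BT.leaf cX3733) (BT.leaf cX3734)) (BT.leaf cX3735)) (BT.node 3737 (BT.node 3736 (BT.leaf cX3736) (BT.leaf cX3737)) (BT.leaf cX3738)))))) (BT.node 3763 (BT.node 3751 (BT.node 3745 (BT.node 3742 (BT.node 3740 (BT.node 3739 (BT.leaf cX3739) (BT.leaf cX3740)) (BT.node 3741 (BT.leaf cX3741) (BT.leaf cX3742))) (BT.node 3744 (BT.node 3743 (BT.leaf cX3743) (BT.leaf cX3744)) (BT.leaf cX3745))) (BT.node 3748 (BT.node 3747 (BT.node 3746 (BT.leaf cX3746) (BT.leaf cX3747)) (BT.leaf cX3748)) (BT.node 3750 (BT.node 3749 (BT.leaf cX3749) (BT.leaf cX3750)) (BT.leaf cX3751)))) (BT.node 3757 (BT.node 3754 (BT.node 3753 (BT.node 3752 (BT.leaf cX3752) (BT.leaf cX3753)) (BT.leaf cX3754)) (BT.node 3756 (BT.node 3755 (BT.leaf cX3755) (BT.leaf cX3756)) (BT.leaf cX3757))) (BT.node 3760 (BT.node 3759 (BT.node 3758 (BT.leaf cX3758) (BT.leaf cX3759)) (BT.leaf cX3760)) (BT.node 3762 (BT.node 3761 (BT.leaf cX3761) (BT.leaf cX3762)) (BT.leaf cX3763))))) (BT.node 3775 (BT.node 3769 (BT.node 3766 (BT.node 3765 (BT.node 3764 (BT.leaf cX3764) (BT.leaf cX3765)) (BT.leaf cX3766)) (BT.node 3768 (BT.node 3767 (BT.leaf cX3767) (BT.leaf cX3768)) (BT.leaf cX3769))) (BT.node 3772 (BT.node 3771 (BT.node 3770 (BT.leaf cX3770) (BT.leaf cX3771)) (BT.leaf cX3772)) (BT.node 3774 (BT.node 3773 (BT.leaf cX3773) (BT.leaf cX3774)) (BT.leaf cX3775)))) (BT.node 3781 (BT.node 3778 (BT.node 3777 (BT.node 3776 (BT.leaf cX3776) (BT.leaf cX3777)) (BT.leaf cX3778)) (BT.node 3780 (BT.node 3779 (BT.leaf cX3779) (BT.leaf cX3780)) (BT.leaf cX3781))) (BT.node 3784 (BT.node 3783 (BT.node 3782 (BT.leaf cX3782) (BT.leaf cX3783)) (BT.leaf cX3784)) (BT.node 3786 (BT.node 3785 (BT.leaf cX3785) (BT.leaf cX3786)) (BT.leaf cX3787))))))) (BT.node 3836 (BT.node 3812 (BT.node 3800 (BT.node 3794 (BT.node 3791 (BT.node 3789 (BT.node 3788 (BT.leaf cX3788) (BT.leaf cX3789)) (BT.node 3790 (BT.leaf cX3790) (BT.leaf cX3791))) (BT.node 3793 (BT.node 3792 (BT.leaf cX3792) (BT.leaf cX3793)) (BT.leaf cX3794))) (BT.node 3797 (BT.node 3796 (BT.node 3795 (BT.leaf cX3795) (BT.leaf cX3796)) (BT.leaf cX3797)) (BT.node 3799 (BT.node 3798 (BT.leaf cX3798) (BT.leaf cX3799)) (BT.leaf cX3800)))) (BT.node 3806 (BT.node 3803 (BT.node 3802 (BT.node 3801 (BT.leaf cX3801) (BT.leaf cX3802)) (BT.leaf cX3803)) (BT.node 3805 (BT.node 3804 (BT.leaf cX3804) (BT.leaf cX3805)) (BT.leaf cX3806))) (BT.node 3809 (BT.node 3808 (BT.node 3807 (BT.leaf cX3807) (BT.leaf cX3808)) (BT.leaf cX3809)) (BT.node 3811 (BT.node 3810 (BT.leaf cX3810) (BT.leaf cX3811)) (BT.leaf cX3812))))) (BT.node 3824 (BT.node 3818 (BT.node 3815 (BT.node 3814 (BT.node 3813 (BT.leaf cX3813) (BT.leaf cX3814)) (BT.leaf cX3815)) (BT.node 3817 (BT.node 3816 (BT.leaf cX3816) (BT.leaf cX3817)) (BT.leaf cX3818))) (BT.node 3821 (BT.node 3820 (BT.node 3819 (BT.leaf cX3819) (BT.leaf cX3820)) (BT.leaf cX3821)) (BT.node 3823 (BT.node 3822 (BT.leaf cX3822) (BT.leaf cX3823)) (BT.leaf cX3824)))) (BT.node 3830 (BT.node 3827 (BT.node 3826 (BT.node 3825 (BT.leaf cX3825) (BT.leaf cX3826)) (BT.leaf cX3827)) (BT.node 3829 (BT.node 3828 (BT.leaf cX3828) (BT.leaf cX3829)) (BT.leaf cX3830))) (BT.node 3833 (BT.node 3832 (BT.node 3831 (BT.leaf cX3831) (BT.leaf cX3832)) (BT.leaf cX3833)) (BT.node 3835 (BT.node 3834 (BT.leaf cX3834) (BT.leaf cX3835)) (BT.leaf cX3836)))))) (BT.node 3860 (BT.node 3848 (BT.node 3842 (BT.node 3839 (BT.node 3838 (BT.node 3837 (BT.leaf cX3837) (BT.leaf cX3838)) (BT.leaf cX3839)) (BT.node 3841 (BT.node 3840 (BT.leaf cX3840) (BT.leaf cX3841)) (BT.leaf cX3842))) (BT.node 3845 (BT.node 3844 (BT.node 3843 (BT.leaf cX3843) (BT.leaf cX3844)) (BT.leaf cX3845)) (BT.node 3847 (BT.node 3846 (BT.leaf cX3846) (BT.leaf cX3847)) (BT.leaf cX3848)))) (BT.node 3854 (BT.node 3851 (BT.node 3850 (BT.node 3849 (BT.leaf cX3849) (BT.leaf cX3850)) (BT.leaf cX3851)) (BT.node 3853 (BT.node 3852 (BT.leaf cX3852) (BT.leaf cX3853)) (BT.leaf cX3854))) (BT.node 3857 (BT.node 3856 (BT.node 3855 (BT.leaf cX3855) (BT.leaf cX3856)) (BT.leaf cX3857)) (BT.node 3859 (BT.node 3858 (BT.leaf cX3858) (BT.leaf cX3859)) (BT.leaf cX3860))))) (BT.node 3872 (BT.node 3866 (BT.node 3863 (BT.node 3862 (BT.node 3861 (BT.leaf cX3861) (BT.leaf cX3862)) (BT.leaf cX3863)) (BT.node 3865 (BT.node 3864 (BT.leaf cX3864) (BT.leaf cX3865)) (BT.leaf cX3866))) (BT.node 3869 (BT.node 3868 (BT.node 3867 (BT.leaf cX3867) (BT.leaf cX3868)) (BT.leaf cX3869)) (BT.node 3871 (BT.node 3870 (BT.leaf cX3870) (BT.leaf cX3871)) (BT.leaf cX3872)))) (BT.node 3878 (BT.node 3875 (BT.node 3874 (BT.node 3873 (BT.leaf cX3873) (BT.leaf cX3874)) (BT.leaf cX3875)) (BT.node 3877 (BT.node 3876 (BT.leaf cX3876) (BT.leaf cX3877)) (BT.leaf cX3878))) (BT.node 3881 (BT.node 3880 (BT.node 3879 (BT.leaf cX3879) (BT.leaf cX3880)) (BT.leaf cX3881)) (BT.node 3883 (BT.node 3882 (BT.leaf cX3882) (BT.leaf cX3883)) (BT.leaf cX3884)))))))) (BT.node 3982 (BT.node 3933 (BT.node 3909 (BT.node 3897 (BT.node 3891 (BT.node 3888 (BT.node 3886 (BT.node 3885 (BT.leaf cX3885) (BT.leaf cX3886)) (BT.node 3887 (BT.leaf cX3887) (BT.leaf cX3888))) (BT.node 3890 (BT.node 3889 (BT.leaf cX3889) (BT.leaf cX3890)) (BT.leaf cX3891))) (BT.node 3894 (BT.node 3893 (BT.node 3892 (BT.leaf cX3892) (BT.leaf cX3893)) (BT.leaf cX3894)) (BT.node 3896 (BT.node 3895 (BT.leaf cX3895) (BT.leaf cX3896)) (BT.leaf cX3897)))) (BT.node 3903 (BT.node 3900 (BT.node 3899 (BT.node 3898 (BT.leaf cX3898) (BT.leaf cX3899)) (BT.leaf cX3900)) (BT.node 3902 (BT.node 3901 (BT.leaf cX3901) (BT.leaf cX3902)) (BT.leaf cX3903))) (BT.node 3906 (BT.node 3905 (BT.node 3904 (BT.leaf cX3904) (BT.leaf cX3905)) (BT.leaf cX3906)) (BT.node 3908 (BT.node 3907 (BT.leaf cX3907) (BT.leaf cX3908)) (BT.leaf cX3909))))) (BT.node 3921 (BT.node 3915 (BT.node 3912 (BT.node 3911 (BT.node 3910 (BT.leaf cX3910) (BT.leaf cX3911)) (BT.leaf cX3912)) (BT.node 3914 (BT.node 3913 (BT.leaf cX3913) (BT.leaf cX3914)) (BT.leaf cX3915))) (BT.node 3918 (BT.node 3917 (BT.node 3916 (BT.leaf cX3916) (BT.leaf cX3917)) (BT.leaf cX3918)) (BT.node 3920 (BT.node 3919 (BT.leaf cX3919) (BT.leaf cX3920)) (BT.leaf cX3921)))) (BT.node 3927 (BT.node 3924 (BT.node 3923 (BT.node 3922 (BT.leaf cX3922) (BT.leaf cX3923)) (BT.leaf cX3924)) (BT.node 3926 (BT.node 3925 (BT.leaf cX3925) (BT.leaf cX3926)) (BT.leaf cX3927))) (BT.node 3930 (BT.node 3929 (BT.node 3928 (BT.leaf cX3928) (BT.leaf cX3929)) (BT.leaf cX3930)) (BT.node 3932 (BT.node 3931 (BT.leaf cX3931) (BT.leaf cX3932)) (BT.leaf cX3933)))))) (BT.node 3958 (BT.node 3946 (BT.node 3940 (BT.node 3937 (BT.node 3935 (BT.node 3934 (BT.leaf cX3934) (BT.leaf cX3935)) (BT.node 3936 (BT.leaf cX3936) (BT.leaf cX3937))) (BT.node 3939 (BT.node 3938 (BT.leaf cX3938) (BT.leaf cX3939)) (BT.leaf cX3940))) (BT.node 3943 (BT.node 3942 (BT.node 3941 (BT.leaf cX3941) (BT.leaf cX3942)) (BT.leaf cX3943)) (BT.node 3945 (BT.node 3944 (BT.leaf cX3944) (BT.leaf cX3945)) (BT.leaf cX3946)))) (BT.node 3952 (BT.node 3949 (BT.node 3948 (BT.node 3947 (BT.leaf cX3947) (BT.leaf cX3948)) (BT.leaf cX3949)) (BT.node 3951 (BT.node 3950 (BT.leaf cX3950) (BT.leaf cX3951)) (BT.leaf cX3952))) (BT.node 3955 (BT.node 3954 (BT.node 3953 (BT.leaf cX3953) (BT.leaf cX3954)) (BT.leaf cX3955)) (BT.node 3957 (BT.node 3956 (BT.leaf cX3956) (BT.leaf cX3957)) (BT.leaf cX3958))))) (BT.node 3970 (BT.node 3964 (BT.node 3961 (BT.node 3960 (BT.node 3959 (BT.leaf cX3959) (BT.leaf cX3960)) (BT.leaf cX3961)) (BT.node 3963 (BT.node 3962 (BT.leaf cX3962) (BT.leaf cX3963)) (BT.leaf cX3964))) (BT.node 3967 (BT.node 3966 (BT.node 3965 (BT.leaf cX3965) (BT.leaf cX3966)) (BT.leaf cX3967)) (BT.node 3969 (BT.node 3968 (BT.leaf cX3968) (BT.leaf cX3969)) (BT.leaf cX3970)))) (BT.node 3976 (BT.node 3973 (BT.node 3972 (BT.node 3971 (BT.leaf cX3971) (BT.leaf cX3972)) (BT.leaf cX3973)) (BT.node 3975 (BT.node 3974 (BT.leaf cX3974) (BT.leaf cX3975)) (BT.leaf cX3976))) (BT.node 3979 (BT.node 3978 (BT.node 3977 (BT.leaf cX3977) (BT.leaf cX3978)) (BT.leaf cX3979)) (BT.node 3981 (BT.node 3980 (BT.leaf cX3980) (BT.leaf cX3981)) (BT.leaf cX3982))))))) (BT.node 4031 (BT.node 4007 (BT.node 3995 (BT.node 3989 (BT.node 3986 (BT.node 3984 (BT.node 3983 (BT.leaf cX3983) (BT.leaf cX3984)) (BT.node 3985 (BT.leaf cX3985) (BT.leaf cX3986))) (BT.node 3988 (BT.node 3987 (BT.leaf cX3987) (BT.leaf cX3988)) (BT.leaf cX3989))) (BT.node 3992 (BT.node 3991 (BT.node 3990 (BT.leaf cX3990) (BT.leaf cX3991)) (BT.leaf cX3992)) (BT.node 3994 (BT.node 3993 (BT.leaf cX3993) (BT.leaf cX3994)) (BT.leaf cX3995)))) (BT.node 4001 (BT.node 3998 (BT.node 3997 (BT.node 3996 (BT.leaf cX3996) (BT.leaf cX3997)) (BT.leaf cX3998)) (BT.node 4000 (BT.node 3999 (BT.leaf cX3999) (BT.leaf cX4000)) (BT.leaf cX4001))) (BT.node 4004 (BT.node 4003 (BT.node 4002 (BT.leaf cX4002) (BT.leaf cX4003)) (BT.leaf cX4004)) (BT.node 4006 (BT.node 4005 (BT.leaf cX4005) (BT.leaf cX4006)) (BT.leaf cX4007))))) (BT.node 4019 (BT.node 4013 (BT.node 4010 (BT.node 4009 (BT.node 4008 (BT.leaf cX4008) (BT.leaf cX4009)) (BT.leaf cX4010)) (BT.node 4012 (BT.node 4011 (BT.leaf cX4011) (BT.leaf cX4012)) (BT.leaf cX4013))) (BT.node 4016 (BT.node 4015 (BT.node 4014 (BT.leaf cX4014) (BT.leaf cX4015)) (BT.leaf cX4016)) (BT.node 4018 (BT.node 4017 (BT.leaf cX4017) (BT.leaf cX4018)) (BT.leaf cX4019)))) (BT.node 4025 (BT.node 4022 (BT.node 4021 (BT.node 4020 (BT.leaf cX4020) (BT.leaf cX4021)) (BT.leaf cX4022)) (BT.node 4024 (BT.node 4023 (BT.leaf cX4023) (BT.leaf cX4024)) (BT.leaf cX4025))) (BT.node 4028 (BT.node 4027 (BT.node 4026 (BT.leaf cX4026) (BT.leaf cX4027)) (BT.leaf cX4028)) (BT.node 4030 (BT.node 4029 (BT.leaf cX4029) (BT.leaf cX4030)) (BT.leaf cX4031)))))) (BT.node 4055 (BT.node 4043 (BT.node 4037 (BT.node 4034 (BT.node 4033 (BT.node 4032 (BT.leaf cX4032) (BT.leaf cX4033)) (BT.leaf cX4034)) (BT.node 4036 (BT.node 4035 (BT.leaf cX4035) (BT.leaf cX4036)) (BT.leaf cX4037))) (BT.node 4040 (BT.node 4039 (BT.node 4038 (BT.leaf cX4038) (BT.leaf cX4039)) (BT.leaf cX4040)) (BT.node 4042 (BT.node 4041 (BT.leaf cX4041) (BT.leaf cX4042)) (BT.leaf cX4043)))) (BT.node 4049 (BT.node 4046 (BT.node 4045 (BT.node 4044 (BT.leaf cX4044) (BT.leaf cX4045)) (BT.leaf cX4046)) (BT.node 4048 (BT.node 4047 (BT.leaf cX4047) (BT.leaf cX4048)) (BT.leaf cX4049))) (BT.node 4052 (BT.node 4051 (BT.node 4050 (BT.leaf cX4050) (BT.leaf cX4051)) (BT.leaf cX4052)) (BT.node 4054 (BT.node 4053 (BT.leaf cX4053) (BT.leaf cX4054)) (BT.leaf cX4055))))) (BT.node 4067 (BT.node 4061 (BT.node 4058 (BT.node 4057 (BT.node 4056 (BT.leaf cX4056) (BT.leaf cX4057)) (BT.leaf cX4058)) (BT.node 4060 (BT.node 4059 (BT.leaf cX4059) (BT.leaf cX4060)) (BT.leaf cX4061))) (BT.node 4064 (BT.node 4063 (BT.node 4062 (BT.leaf cX4062) (BT.leaf cX4063)) (BT.leaf cX4064)) (BT.node 4066 (BT.node 4065 (BT.leaf cX4065) (BT.leaf cX4066)) (BT.leaf cX4067)))) (BT.node 4073 (BT.node 4070 (BT.node 4069 (BT.node 4068 (BT.leaf cX4068) (BT.leaf cX4069)) (BT.leaf cX4070)) (BT.node 4072 (BT.node 4071 (BT.leaf cX4071) (BT.leaf cX4072)) (BT.leaf cX4073))) (BT.node 4076 (BT.node 4075 (BT.node 4074 (BT.leaf cX4074) (BT.leaf cX4075)) (BT.leaf cX4076)) (BT.node 4078 (BT.node 4077 (BT.leaf cX4077) (BT.leaf cX4078)) (BT.leaf cX4079))))))))))))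

/-- the chunks of all columns -/
def colX : BT ℕ := BT.node 959 Cfsg.Agent.Lib.Helper28.TCONTable.colTT colRest

/-- the inverse letters -/
def invX : BT ℕ := (BT.node 16 (BT.node 8 (BT.node 4 (BT.node 2 (BT.node 1 (BT.node 0 (BT.leaf 1) (BT.leaf 0)) (BT.leaf 2)) (BT.node 3 (BT.leaf 3) (BT.leaf 4))) (BT.node 6 (BT.node 5 (BT.leaf 5) (BT.leaf 6)) (BT.node 7 (BT.leaf 7) (BT.leaf 8)))) (BT.node 12 (BT.node 10 (BT.node 9 (BT.leaf 9) (BT.leaf 10)) (BT.node 11 (BT.leaf 11) (BT.leaf 12))) (BT.node 14 (BT.node 13 (BT.leaf 13) (BT.leaf 14)) (BT.node 15 (BT.leaf 15) (BT.leaf 16))))) (BT.node 25 (BT.node 21 (BT.node 19 (BT.node 18 (BT.node 17 (BT.leaf 17) (BT.leaf 18)) (BT.leaf 19)) (BT.node 20 (BT.leaf 20) (BT.leaf 21))) (BT.node 23 (BT.node 22 (BT.leaf 22) (BT.leaf 23)) (BT.node 24 (BT.leaf 24) (BT.leaf 25)))) (BT.node 29 (BT.node 27 (BT.node 26 (BT.leaf 26) (BT.leaf 27)) (BT.node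 28 (BT.leaf 28) (BT.leaf 29))) (BT.node 31 (BT.node 30 (BT.leaf 30) (BT.leaf 31)) (BT.node 32 (BT.leaf 33) (BT.leaf 32))))))

/-- the defining words of the derived letters -/
def defsX : BT (List ℕ) := (BT.node 16 (BT.node 8 (BT.node 4 (BT.node 2 (BT.node 1 (BT.node 0 (BT.leaf []) (BT.leaf [])) (BT.leaf [])) (BT.node 3 (BT.leaf []) (BT.leaf []))) (BT.node 6 (BT.node 5 (BT.leaf []) (BT.leaf [])) (BT.node 7 (BT.leaf []) (BT.leaf [6, 5, 6])))) (BT.node 12 (BT.node 10 (BT.node 9 (BT.leaf [7, 8, 7]) (BT.leaf [4, 5, 4])) (BT.node 11 (BT.leaf [3, 2, 3]) (BT.leaf [0, 11, 1]))) (BT.node 14 (BT.node 13 (BT.leaf [7, 6, 7]) (BT.leaf [1, 5, 0])) (BT.node 15 (BT.leaf [3, 12, 3]) (BT.leaf [4, 3, 4]))))) (BT.node 25 (BT.node 21 (BT.node 19 (BT.node 18 (BT.node 17 (BT.leaf [14, 9, 14]) (BT.leaf [16, 14, 16])) (BT.leaf [18, 12, 18])) (BT.node 20 (BT.leaf [0, 10, 1]) (BT.leaf [0, 19, 1])))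 (BT.node 23 (BT.node 22 (BT.leaf [19, 8, 19]) (BT.leaf [8, 4, 8])) (BT.node 24 (BT.leaf [13, 21, 13]) (BT.leaf [18, 23, 18])))) (BT.node 29 (BT.node 27 (BT.node 26 (BT.leaf [17, 18, 17]) (BT.leaf [6, 10, 6])) (BT.node 28 (BT.leaf [12, 21, 12]) (BT.leaf [27, 8, 27]))) (BT.node 31 (BT.node 30 (BT.leaf [22, 12, 22]) (BT.leaf [26, 10, 26])) (BT.node 32 (BT.leaf [3, 0, 6, 5, 4]) (BT.leaf [4, 5, 6, 1, 3]))))))

/-- the table of the 34 letters -/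
def XT : Table where
  n := 122760
  k := 34
  w := 17
  M := 131072
  CH := 1024
  NCH := 120
  col := colX
  inv := invX
  tw := 0
  TM := 1
  tree := BT.leaf 0

end Cfsg.Agent.Lib.Helper15.OnO
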