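/-
helper15: leaf GEO1 (`exists_partner`) of helper9's S2143 market "OQ" (`notes/S2143_leaves_w1.lean`).
-/
import Mathlib
import Cfsg.Agent.Lib.Helper9.OqTools

set_option autoImplicit false

open Cfsg.Agent.Lib.Helper9.Oq

namespace Cfsg.Agent.Lib.Helper15.OqLeaf

variable {F V G : Type*} [Field F] [AddCommGroup V] [Module F V] [Group G] [DistribMulAction G V]
  (S : Setting F V G)

/-- making a vector singular along a singular direction: `z - Q z • y` for `B z y = 1` -/
theorem sing_of_B_eq_one {y z : V} (hy : S.Q y = 0) (h : S.B z y = 1) :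
    S.Q (z - S.Q z • y) = 0 := by
  rw [S.Q_sub, S.Q_smul, hy, S.Bsmul_right, h]
  ring

/-- GEO1: a singular partner. [`z` with `B x z = 1`, `x' = z - Q z • x`.] -/
theorem exists_partner {x : V} (hx0 : x ≠ 0) (hx : S.Q x = 0) :
    ∃ x', S.Q x' = 0 ∧ S.B x x' = 1 := by
  obtain ⟨z, hz⟩ := S.exists_B_eq_one hx0
  refine ⟨z - S.Q z • x, sing_of_B_eq_one S hx hz, ?_⟩
  rw [S.Bsub_right, S.Bsmul_right, S.B_self_of_sing hx, mul_zero, sub_zero, S.B_symm, hz]

end Cfsg.Agent.Lib.Helper15.OqLeaf
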