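/-
helper15: leaf GEO1P (`exists_partner_perp`) of helper9's S2143 market "OQ"
(`notes/S2143_leaves_w1.lean`).
-/
import Mathlib
import Cfsg.Agent.Lib.Helper9.OqTools
import Cfsg.Agent.Lib.Helper15.OqGEO1

set_option autoImplicit false

open Cfsg.Agent.Lib.Helper9.Oq

namespace Cfsg.Agent.Lib.Helper15.OqLeaf

variable {F V G : Type*} [Field F] [AddCommGroup V] [Module F V] [Group G] [DistribMulAction G V]
  (S : Setting F V G)

/-- GEO1': a singular partner of `y` inside `<x, x'>^⊥`. -/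
theorem exists_partner_perp {x x' y : V} (hx : S.Q x = 0) (hx' : S.Q x' = 0)
    (hxx' : S.B x x' = 1) (hy0 : y ≠ 0) (hy : S.Q y = 0) (hxy : S.B x y = 0)
    (hx'y : S.B x' y = 0) :
    ∃ y', S.Q y' = 0 ∧ S.B y y' = 1 ∧ S.B x y' = 0 ∧ S.B x' y' = 0 := by
  obtain ⟨z, hz⟩ := S.exists_B_eq_one hy0
  have hxx := S.B_self_of_sing hx
  have hx'x' := S.B_self_of_sing hx'
  have hyy := S.B_self_of_sing hy
  have hx'x : S.B x' x = 1 := by rw [S.B_symm]; exact hxx'
  -- the projection of `z` to `<x, x'>^⊥`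
  have h1 : S.B (z - S.B z x' • x - S.B z x • x') y = 1 := by
    rw [S.Bsub_left, S.Bsub_left, S.Bsmul_left, S.Bsmul_left, hxy, hx'y, hz]
    ring
  have h2 : S.B x (z - S.B z x' • x - S.B z x • x') = 0 := by
    rw [S.Bsub_right, S.Bsub_right, S.Bsmul_right, S.Bsmul_right, hxx, hxx', S.B_symm x z]
    ring
  have h3 : S.B x' (z - S.B z x' • x - S.B z x • x') = 0 := by
    rw [S.Bsub_right, S.Bsub_right, S.Bsmul_right, S.Bsmul_right, hx'x', hx'x, S.B_symm x' z]
    ring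
  refine ⟨(z - S.B z x' • x - S.B z x • x') -
    S.Q (z - S.B z x' • x - S.B z x • x') • y, sing_of_B_eq_one S hy h1, ?_, ?_, ?_⟩
  · rw [S.Bsub_right, S.Bsmul_right, hyy, mul_zero, sub_zero, S.B_symm, h1]
  · rw [S.Bsub_right, S.Bsmul_right, hxy, mul_zero, sub_zero, h2]
  · rw [S.Bsub_right, S.Bsmul_right, hx'y, mul_zero, sub_zero, h3]

end Cfsg.Agent.Lib.Helper15.OqLeaf
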