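import Mathlib
import Cfsg.Agent.Lib.Helper15.OrBNF
import Cfsg.Agent.Lib.Helper15.UnBNL

/-!
helper15: the Steinberg character of `PΩ_n` (`n` odd, odd characteristic) in the model
`GUJ (RingHom.id F) n`: central elements of the commutator subgroup are scalar, the restriction of
the Steinberg function to the commutator subgroup is irreducible and factors through the central
quotient.
-/

set_option autoImplicit false

namespace Cfsg.Agent.Lib.Helper15.OrBN

open Matrix Equiv Cfsg Cfsg.Agent.Lib.Helper3.BN Cfsg.Agent.Lib.Helper6.BNSt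
  Cfsg.Agent.Lib.Helper6.GLBN Cfsg.Agent.Lib.Helper6.GLSt Cfsg.Agent.Lib.Helper15.UnBN

variable {n : ℕ} {F : Type*} [Field F] [Fintype F] (p : ℕ) [Fact p.Prime] [CharP F p]

local notation "σ₀" => RingHom.id F

/-- the elements of the centre of the commutator subgroup are scalar matrices -/
lemma center_scalar (hp2 : p ≠ 2) (h2 : (2 : F) ≠ 0) (hodd : Odd n)
    {z : ↥(commutator ↥(GUJ σ₀ n))} (hz : z ∈ Subgroup.center ↥(commutator ↥(GUJ σ₀ n))) :
    ∃ c : F, (((z : ↥(GUJ σ₀ n)) : GL (Fin n) F) : Matrix (Fin n) (Fin n) F) = c • 1 := by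
  set Z : ↥(GUJ σ₀ n) := (z : ↥(GUJ σ₀ n)) with hZ
  have hnorm : (commutator ↥(GUJ σ₀ n)).Normal := inferInstance
  have hcomm : ∀ w ∈ commutator ↥(GUJ σ₀ n), Z * w = w * Z := by
    intro w hw
    have := (Subgroup.mem_center_iff.mp hz) ⟨w, hw⟩
    exact (congrArg Subtype.val this).symm
  have hsk := id_skOK (F := F) (n := n) h2 hodd
  have hac := id_hac (F := F) h2
  have hZB : Z ∈ BG σ₀ n := by
    apply mem_BG_of_conj_UG id_invol hsk hodd hac
    intro u hu
    have h1 := hcomm u (UG_le_commutator p hp2 h2 hu)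
    have e : Z⁻¹ * u * Z = u := by
      rw [mul_assoc, ← h1, ← mul_assoc, inv_mul_cancel, one_mul]
    rw [e]
    exact UG_le_BG hu
  have hZL : (w0G σ₀ n)⁻¹ * Z * w0G σ₀ n ∈ BG σ₀ n := by
    apply mem_BG_of_conj_UG id_invol hsk hodd hac
    intro u hu
    have hw : w0G σ₀ n * u * (w0G σ₀ n)⁻¹ ∈ commutator ↥(GUJ σ₀ n) :=
      hnorm.conj_mem _ (UG_le_commutator p hp2 h2 hu) _
    have h1 := hcomm _ hw
    have e : ((w0G σ₀ n)⁻¹ * Z * w0G σ₀ n)⁻¹ * u * ((w0G σ₀ n)⁻¹ * Z * w0G σ₀ n) =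
        (w0G σ₀ n)⁻¹ * (Z⁻¹ * (w0G σ₀ n * u * (w0G σ₀ n)⁻¹) * Z) * w0G σ₀ n := by group
    have e' : Z⁻¹ * (w0G σ₀ n * u * (w0G σ₀ n)⁻¹) * Z = w0G σ₀ n * u * (w0G σ₀ n)⁻¹ := by
      rw [mul_assoc, ← h1, ← mul_assoc, inv_mul_cancel, one_mul]
    rw [e, e']
    have e'' : (w0G σ₀ n)⁻¹ * (w0G σ₀ n * u * (w0G σ₀ n)⁻¹) * w0G σ₀ n = u := by group
    rw [e'']
    exact UG_le_BG hu
  have hup : ∀ i j : Fin n, j < i →
      ((Z : GL (Fin n) F) : Matrix (Fin n) (Fin n) F) i j = 0 :=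
    fun i j hji => (mem_Bup.mp (mem_BG.mp hZB)) i j hji
  have hlow : ∀ i j : Fin n, i < j →
      ((Z : GL (Fin n) F) : Matrix (Fin n) (Fin n) F) i j = 0 := by
    intro i j hij
    have h1 := (mem_Bup.mp (mem_BG.mp hZL)) i.rev j.rev (Fin.rev_lt_rev.mpr hij)
    have h3 := w0G_conj_apply Z i.rev j.rev
    rw [Fin.rev_rev, Fin.rev_rev] at h3
    rw [← h3]
    exact h1
  have hoff : ∀ i j : Fin n, i ≠ j →
      ((Z : GL (Fin n) F) : Matrix (Fin n) (Fin n) F) i j = 0 := by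
    intro i j hij
    rcases lt_or_gt_of_ne hij with h | h
    · exact hlow i j h
    · exact hup i j h
  have hadj : ∀ i j : Fin n, j.val = i.val + 1 →
      ((Z : GL (Fin n) F) : Matrix (Fin n) (Fin n) F) j j =
        ((Z : GL (Fin n) F) : Matrix (Fin n) (Fin n) F) i i := by
    intro i j hij
    obtain ⟨X, hXU, hX⟩ := exists_UG_entry id_invol hodd hac hij
    have h1 := hcomm X (UG_le_commutator p hp2 h2 hXU)
    have h3 := congrArg (fun g : ↥(GUJ σ₀ n) =>
      ((g : GL (Fin n) F) : Matrix (Fin n) (Fin n) F) i j) h1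
    beta_reduce at h3
    have e1 : (((Z * X : ↥(GUJ σ₀ n)) : GL (Fin n) F) : Matrix (Fin n) (Fin n) F) i j =
        ((Z : GL (Fin n) F) : Matrix (Fin n) (Fin n) F) i i *
          ((X : GL (Fin n) F) : Matrix (Fin n) (Fin n) F) i j := by
      show (((Z : GL (Fin n) F) : Matrix (Fin n) (Fin n) F) *
        ((X : GL (Fin n) F) : Matrix (Fin n) (Fin n) F)) i j = _
      rw [Matrix.mul_apply, Finset.sum_eq_single i]
      · intro l _ hl
        rw [hoff i l (Ne.symm hl), zero_mul]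
      · intro h; exact absurd (Finset.mem_univ _) h
    have e2 : (((X * Z : ↥(GUJ σ₀ n)) : GL (Fin n) F) : Matrix (Fin n) (Fin n) F) i j =
        ((X : GL (Fin n) F) : Matrix (Fin n) (Fin n) F) i j *
          ((Z : GL (Fin n) F) : Matrix (Fin n) (Fin n) F) j j := by
      show (((X : GL (Fin n) F) : Matrix (Fin n) (Fin n) F) *
        ((Z : GL (Fin n) F) : Matrix (Fin n) (Fin n) F)) i j = _
      rw [Matrix.mul_apply, Finset.sum_eq_single j]
      · intro l _ hl
        rw [hoff l j hl, mul_zero]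
      · intro h; exact absurd (Finset.mem_univ _) h
    rw [e1, e2] at h3
    have h4 : ((X : GL (Fin n) F) : Matrix (Fin n) (Fin n) F) i j *
        (((Z : GL (Fin n) F) : Matrix (Fin n) (Fin n) F) j j -
          ((Z : GL (Fin n) F) : Matrix (Fin n) (Fin n) F) i i) = 0 := by
      linear_combination -h3
    rcases mul_eq_zero.mp h4 with h5 | h5
    · exact absurd h5 hX
    · exact sub_eq_zero.mp h5
  have hn0 : 0 < n := hodd.pos
  have hdiag : ∀ d : ℕ, ∀ i : Fin n, i.val = d →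
      ((Z : GL (Fin n) F) : Matrix (Fin n) (Fin n) F) i i =
        ((Z : GL (Fin n) F) : Matrix (Fin n) (Fin n) F) ⟨0, hn0⟩ ⟨0, hn0⟩ := by
    intro d
    induction d with
    | zero =>
      intro i hi
      have : i = ⟨0, hn0⟩ := Fin.ext hi
      rw [this]
    | succ d ih =>
      intro i hi
      have hd : d < n := by have := i.2; omega
      rw [hadj ⟨d, hd⟩ i (by rw [hi]), ih ⟨d, hd⟩ rfl]
  refine ⟨((Z : GL (Fin n) F) : Matrix (Fin n) (Fin n) F) ⟨0, hn0⟩ ⟨0, hn0⟩, ?_⟩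
  ext i j
  rw [Matrix.smul_apply, Matrix.one_apply, smul_eq_mul]
  by_cases hij : i = j
  · subst hij
    rw [if_pos rfl, mul_one]
    exact hdiag i.val i rfl
  · rw [if_neg hij, mul_zero]
    exact hoff i j hij

/-! ### the Steinberg function on the commutator subgroup -/

section steinberg

/-- the restriction of the Steinberg function to the commutator subgroup -/
noncomputable def stOm (n : ℕ) (F : Type*) [Field F] [Fintype F] (h2 : (2 : F) ≠ 0)
    (hodd : Odd n) : ↥(commutator ↥(GUJ (RingHom.id F) n)) → ℂ :=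
  fun h => stUn (RingHom.id F) n id_invol (id_skOK h2 hodd) (h : ↥(GUJ (RingHom.id F) n))

theorem isIrrCharacter_stOm (hp2 : p ≠ 2) (h2 : (2 : F) ≠ 0) (hodd : Odd n) :
    IsIrrCharacter ↥(commutator ↥(GUJ σ₀ n)) (stOm n F h2 hodd) := by
  classical
  have : Fintype ↥(GUJ σ₀ n) := Fintype.ofFinite _
  have : Fintype ↥(commutator ↥(GUJ σ₀ n)) := Fintype.ofFinite _
  have hnorm : (commutator ↥(GUJ σ₀ n)).Normal := inferInstance
  exact isIrrCharacter_stFun_hom (unBN σ₀ n id_invol (id_skOK h2 hodd))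
    (commutator ↥(GUJ σ₀ n)).subtype
    (fun g h => ⟨⟨g * (h : ↥(GUJ σ₀ n)) * g⁻¹, hnorm.conj_mem _ h.2 g⟩, rfl⟩)
    (exists_commutator_mul_torus p hp2 h2 hodd) (SfinUn σ₀ n)
    (coe_SfinUn id_invol (id_skOK h2 hodd))

/-- the restricted Steinberg function is constant on the centre -/
theorem stOm_center (hp2 : p ≠ 2) (h2 : (2 : F) ≠ 0) (hodd : Odd n)
    {z : ↥(commutator ↥(GUJ σ₀ n))} (hz : z ∈ Subgroup.center ↥(commutator ↥(GUJ σ₀ n))) :
    stOm n F h2 hodd z = stOm n F h2 hodd 1 := by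
  obtain ⟨c, hc⟩ := center_scalar p hp2 h2 hodd hz
  unfold stOm
  rw [Subgroup.coe_one]
  apply stFun_central
  · rw [Subgroup.mem_center_iff]
    intro x
    apply Subtype.ext
    apply Units.ext
    show ((x : GL (Fin n) F) : Matrix (Fin n) (Fin n) F) *
      (((z : ↥(GUJ σ₀ n)) : GL (Fin n) F) : Matrix (Fin n) (Fin n) F) =
      (((z : ↥(GUJ σ₀ n)) : GL (Fin n) F) : Matrix (Fin n) (Fin n) F) *
        ((x : GL (Fin n) F) : Matrix (Fin n) (Fin n) F)
    rw [hc, Matrix.mul_smul, Matrix.smul_mul, Matrix.mul_one, Matrix.one_mul]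
  · show (z : ↥(GUJ σ₀ n)) ∈ BG σ₀ n
    rw [mem_BG, mem_Bup]
    intro i j hji
    rw [hc, Matrix.smul_apply, Matrix.one_apply_ne (ne_of_gt hji), smul_zero]

/-- a unitriangular element of the centre of the commutator subgroup is trivial -/
lemma eq_one_of_mem_center_of_mem_UG (hp2 : p ≠ 2) (h2 : (2 : F) ≠ 0) (hodd : Odd n)
    {z : ↥(commutator ↥(GUJ σ₀ n))} (hz : z ∈ Subgroup.center ↥(commutator ↥(GUJ σ₀ n)))
    (hu : (z : ↥(GUJ σ₀ n)) ∈ UG σ₀ n) : z = 1 := by
  obtain ⟨c, hc⟩ := center_scalar p hp2 h2 hodd hz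
  have hn0 : 0 < n := hodd.pos
  have h1 := hu.2 ⟨0, hn0⟩
  rw [hc, Matrix.smul_apply, Matrix.one_apply_eq, smul_eq_mul, mul_one] at h1
  rw [h1, one_smul] at hc
  apply Subtype.ext
  apply Subtype.ext
  apply Units.ext
  exact hc

end steinberg

end Cfsg.Agent.Lib.Helper15.OrBN
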