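import Mathlib
import Cfsg.Agent.Lib.Helper15.OrBNG

/-!
helper15: the Steinberg character of the central quotient of the commutator subgroup of the
orthogonal group `GUJ (RingHom.id F) n` (`n` odd, odd characteristic), transported along an
isomorphism.
-/

set_option autoImplicit false

namespace Cfsg.Agent.Lib.Helper15.OrBN

open Matrix Equiv Cfsg Cfsg.Agent.Lib.Helper3.BN Cfsg.Agent.Lib.Helper6.BNSt
  Cfsg.Agent.Lib.Helper6.GLBN Cfsg.Agent.Lib.Helper6.GLSt Cfsg.Agent.Lib.Helper15.UnBN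

variable {n : ℕ} {F : Type*} [Field F] [Fintype F] (p : ℕ) [Fact p.Prime] [CharP F p]

local notation "σ₀" => RingHom.id F

/-- the Steinberg character of (any group isomorphic to) the central quotient of the commutator
subgroup of the orthogonal group in odd dimension and odd characteristic -/
theorem steinberg_orth {G' : Type*} [Group G'] (hp2 : p ≠ 2) (h2 : (2 : F) ≠ 0) (hodd : Odd n)
    (e : (↥(commutator ↥(GUJ σ₀ n)) ⧸ Subgroup.center ↥(commutator ↥(GUJ σ₀ n))) ≃* G') :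
    ∃ χ : G' → ℂ, IsIrrCharacter G' χ ∧ ∀ P : Sylow p G', χ 1 = Nat.card P ∧
      ∀ x : G', x ∈ P → x ≠ 1 → χ x = 0 := by
  classical
  have hp : p.Prime := Fact.out
  have hsk := id_skOK (F := F) (n := n) h2 hodd
  have hac := id_hac (F := F) h2
  obtain ⟨χ₁, hχ₁, hχ₁θ⟩ := Cfsg.Agent.Lib.Helper13.exists_deflate
    (Subgroup.center ↥(commutator ↥(GUJ σ₀ n))) (isIrrCharacter_stOm p hp2 h2 hodd)
    (fun z hz => stOm_center p hp2 h2 hodd hz)
  have hUle : UG σ₀ n ≤ commutator ↥(GUJ σ₀ n) := UG_le_commutator p hp2 h2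
  set UΩ : Subgroup ↥(commutator ↥(GUJ σ₀ n)) :=
    (UG σ₀ n).subgroupOf (commutator ↥(GUJ σ₀ n)) with hUΩ
  have hcard1 : Nat.card UΩ = Nat.card (UG σ₀ n) :=
    Nat.card_congr (Subgroup.subgroupOfEquivOfLe hUle).toEquiv
  have hcardU := card_UG_eq (σ := σ₀) (n := n) id_invol hsk p hodd hac
  -- the `p`-parts of the orders of the group and of its commutator subgroup agree
  have hfac : (Nat.card ↥(commutator ↥(GUJ σ₀ n))).factorization p =
      (Nat.card ↥(GUJ σ₀ n)).factorization p := by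
    have hG0 : Nat.card ↥(GUJ σ₀ n) ≠ 0 := Nat.card_pos.ne'
    have hΩ0 : Nat.card ↥(commutator ↥(GUJ σ₀ n)) ≠ 0 := Nat.card_pos.ne'
    apply le_antisymm
    · exact (Nat.factorization_le_iff_dvd hΩ0 hG0).mpr (Subgroup.card_subgroup_dvd_card _) p
    · have h1 : Nat.card UΩ ∣ Nat.card ↥(commutator ↥(GUJ σ₀ n)) :=
        Subgroup.card_subgroup_dvd_card _
      rw [hcard1, hcardU] at h1
      exact (hp.pow_dvd_iff_le_factorization hΩ0).mp h1
  have hcardΩ : Nat.card UΩ = p ^ (Nat.card ↥(commutator ↥(GUJ σ₀ n))).factorization p := by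
    rw [hcard1, hcardU, hfac]
  have hsurj : Function.Surjective
      (QuotientGroup.mk' (Subgroup.center ↥(commutator ↥(GUJ σ₀ n)))) :=
    QuotientGroup.mk'_surjective _
  set P₁ : Sylow p ↥(commutator ↥(GUJ σ₀ n)) := Sylow.ofCard UΩ hcardΩ with hP₁
  set P₀ := P₁.mapSurjective hsurj with hP₀
  set Ub : Subgroup (↥(commutator ↥(GUJ σ₀ n)) ⧸ Subgroup.center ↥(commutator ↥(GUJ σ₀ n))) :=
    UΩ.map (QuotientGroup.mk' (Subgroup.center ↥(commutator ↥(GUJ σ₀ n)))) with hUb
  have hP₀coe : (P₀ : Subgroup _) = Ub := by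
    rw [hP₀, Sylow.coe_mapSurjective]
    rfl
  have hUbcard : Nat.card Ub = p ^ (Nat.card (↥(commutator ↥(GUJ σ₀ n)) ⧸
      Subgroup.center ↥(commutator ↥(GUJ σ₀ n)))).factorization p := by
    rw [← hP₀coe]
    exact Sylow.card_eq_multiplicity P₀
  -- the quotient map is injective on the unitriangular group
  have hinj : ∀ u ∈ UΩ, (QuotientGroup.mk' (Subgroup.center ↥(commutator ↥(GUJ σ₀ n)))) u = 1 →
      u = 1 := by
    intro u hu h1
    have hz : u ∈ Subgroup.center ↥(commutator ↥(GUJ σ₀ n)) := by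
      rw [← QuotientGroup.ker_mk' (Subgroup.center ↥(commutator ↥(GUJ σ₀ n)))]
      exact h1
    exact eq_one_of_mem_center_of_mem_UG p hp2 h2 hodd hz (Subgroup.mem_subgroupOf.mp hu)
  have hcard2 : Nat.card Ub = Nat.card UΩ := by
    symm
    let ψ : UΩ → Ub := fun u => ⟨(QuotientGroup.mk' _) u.1, Subgroup.mem_map_of_mem _ u.2⟩
    apply Nat.card_congr
    refine Equiv.ofBijective ψ ⟨?_, ?_⟩
    · intro u u' h
      have h' : (QuotientGroup.mk' (Subgroup.center ↥(commutator ↥(GUJ σ₀ n)))) u.1 =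
          (QuotientGroup.mk' _) u'.1 := congrArg Subtype.val h
      have h'' : (QuotientGroup.mk' (Subgroup.center ↥(commutator ↥(GUJ σ₀ n))))
          (u.1⁻¹ * u'.1) = 1 := by
        rw [map_mul, map_inv, h', inv_mul_cancel]
      have := hinj _ (UΩ.mul_mem (UΩ.inv_mem u.2) u'.2) h''
      apply Subtype.ext
      exact inv_mul_eq_one.mp this
    · rintro ⟨x, hx⟩
      obtain ⟨u, hu, rfl⟩ := Subgroup.mem_map.mp hx
      exact ⟨⟨u, hu⟩, rfl⟩
  apply steinberg_transfer e p Ub hUbcard hχ₁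
  · have := hχ₁θ 1
    rw [QuotientGroup.mk_one] at this
    rw [this, hcard2, hcard1]
    unfold stOm
    rw [Subgroup.coe_one, stUn_one]
  · intro x hx hx1
    obtain ⟨u, hu, rfl⟩ := Subgroup.mem_map.mp hx
    have : (QuotientGroup.mk' (Subgroup.center ↥(commutator ↥(GUJ σ₀ n)))) u =
        ((u : ↥(commutator ↥(GUJ σ₀ n))) : _ ⧸ _) := rfl
    rw [this, hχ₁θ]
    unfold stOm
    apply stUn_unipotent _ _ (Subgroup.mem_subgroupOf.mp hu)
    intro h
    apply hx1
    have hu1 : u = 1 := Subtype.ext h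
    rw [hu1, map_one]

end Cfsg.Agent.Lib.Helper15.OrBN
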