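import Mathlib
import Cfsg.Agent.Lib.Helper15.OrGenA

/-!
helper15: the upper unitriangular subgroup of the orthogonal group `GUJ (RingHom.id F) n`, `n` odd,
odd characteristic, is generated by the positive root elements (row reduction).
-/

set_option autoImplicit false

namespace Cfsg.Agent.Lib.Helper15.OrGen

open Matrix Equiv Cfsg Cfsg.Agent.Lib.Helper6.GLBN Cfsg.Agent.Lib.Helper15.UnBN
  Cfsg.Agent.Lib.Helper15.OrBN

variable {n : ℕ} {F : Type*} [Field F]

local notation "σ₀" => RingHom.id F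

/-- the long root elements, in the group -/
def xsUG {c : Fin n} (hc : c.rev = c) (p q : Fin n) (hpq : p ≠ q) (hp : p ≠ c) (hq : q ≠ c)
    (t : F) : ↥(GUJ σ₀ n) :=
  ⟨xsU σ₀ p q hpq t, xsU_mem id_invol hpq (ne_rev_of_ne_mid hc hp) (ne_rev_of_ne_mid hc hq) t⟩

/-- the short root elements, in the group -/
def eSG {c : Fin n} (hc : c.rev = c) (h2F : (2 : F) ≠ 0) (q : Fin n) (hq : q ≠ c) (s : F) :
    ↥(GUJ σ₀ n) :=
  ⟨eS hc q hq s, eS_mem hc h2F q hq s⟩

/-- the first `k` rows are those of the identity matrix -/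
def RowTriv (A : Matrix (Fin n) (Fin n) F) (k : ℕ) : Prop :=
  ∀ i j : Fin n, i.val < k → A i j = if i = j then 1 else 0

/-- moreover the row `k` vanishes strictly between the columns `k` and `l` -/
def RowPat (A : Matrix (Fin n) (Fin n) F) (k l : ℕ) : Prop :=
  RowTriv A k ∧ ∀ i j : Fin n, i.val = k → k < j.val → j.val < l → A i j = 0

/-- if a row of an orthogonal matrix is trivial then so is the mirror column -/
lemma col_of_row {g : GL (Fin n) F} (hg : g ∈ GUJ σ₀ n) {i : Fin n}
    (hi : ∀ j, (g : Matrix (Fin n) (Fin n) F) i j = if i = j then 1 else 0) (l : Fin n) :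
    (g : Matrix (Fin n) (Fin n) F) l i.rev = if l = i.rev then 1 else 0 := by
  have h := GUJ_entry' hg i l.rev
  rw [Finset.sum_eq_single i] at h
  · rw [hi i, if_pos rfl, one_mul, Fin.rev_rev, RingHom.id_apply] at h
    rw [h]
    by_cases e : i = l.rev
    · rw [if_pos e, if_pos (by rw [e, Fin.rev_rev])]
    · rw [if_neg e, if_neg]
      intro e'
      apply e
      rw [e', Fin.rev_rev]
  · intro x _ hx
    rw [hi x, if_neg (Ne.symm hx), zero_mul]
  · intro h; exact absurd (Finset.mem_univ _) h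

lemma xGL_diag {p q : Fin n} (hpq : p ≠ q) (t : F) (i : Fin n) :
    ((xGL p q hpq t : GL (Fin n) F) : Matrix (Fin n) (Fin n) F) i i = 1 := by
  rw [coe_xGL, transvection_apply', if_pos rfl, if_neg, add_zero]
  rintro ⟨h1, h2⟩
  exact hpq (h1.symm.trans h2)

lemma mid_val {c : Fin n} (hc : c.rev = c) : n = 2 * c.val + 1 := by
  have h := Fin.val_rev c
  rw [hc] at h
  have := c.2
  omega

/-- the short root elements above the diagonal are upper unitriangular -/
lemma eSG_mem_UG {c : Fin n} (hc : c.rev = c) (h2F : (2 : F) ≠ 0) {q : Fin n} (hqc : q < c)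
    (s : F) : eSG hc h2F q (ne_of_lt hqc) s ∈ UG σ₀ n := by
  have hn := mid_val hc
  have h1 : c < q.rev := by
    rw [Fin.lt_def, Fin.val_rev]
    rw [Fin.lt_def] at hqc
    omega
  have h2 : q < q.rev := lt_trans hqc h1
  have hB1 := xGL_mem_Bup (F := F) hqc s
  have hB2 := xGL_mem_Bup (F := F) h1 (-s)
  have hB3 := xGL_mem_Bup (F := F) h2 (s ^ 2 / 2)
  refine ⟨Subgroup.mul_mem _ (Subgroup.mul_mem _ hB1 hB2) hB3, fun i => ?_⟩
  show ((xGL q c _ s * xGL c q.rev _ (-s) * xGL q q.rev _ (s ^ 2 / 2) : GL (Fin n) F) :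
    Matrix (Fin n) (Fin n) F) i i = 1
  rw [Cfsg.Agent.Lib.Helper6.GLSt.Bup_mul_diag (Subgroup.mul_mem _ hB1 hB2) hB3,
    Cfsg.Agent.Lib.Helper6.GLSt.Bup_mul_diag hB1 hB2, xGL_diag, xGL_diag, xGL_diag, mul_one,
    mul_one]

section reduce

variable {c : Fin n} (hc : c.rev = c) (h2F : (2 : F) ≠ 0)
  (H : Subgroup ↥(GUJ (RingHom.id F) n))

/-- one step of the reduction of the row `k`: a long root element -/
lemma step_row_long
    (hL : ∀ (p q : Fin n) (hpc : p < c) (hpq : p < q) (hq : q ≠ c) (_ : q < p.rev) (t : F),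
      xsUG hc p q (ne_of_lt hpq) (ne_of_lt hpc) hq t ∈ H)
    {k l : ℕ} (hk : k < c.val) (hkl : k < l) (hl : l + k + 1 < n) (hlc : l ≠ c.val)
    (u : ↥(GUJ σ₀ n)) (hu : u ∈ UG σ₀ n) (hP : RowPat (mat u) k l) :
    ∃ h ∈ H, h ∈ UG σ₀ n ∧ RowPat (mat (h * u)) k (l + 1) := by
  have hkn : k < n := by omega
  have hln : l < n := by omega
  obtain ⟨p, hpv⟩ : ∃ p : Fin n, p.val = k := ⟨⟨k, hkn⟩, rfl⟩
  obtain ⟨q, hqv⟩ : ∃ q : Fin n, q.val = l := ⟨⟨l, hln⟩, rfl⟩
  have hpc : p < c := by rw [Fin.lt_def]; omega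
  have hpq : p < q := by rw [Fin.lt_def]; omega
  have hq : q ≠ c := fun e => hlc (by rw [← hqv, e])
  have hqp : q < p.rev := by rw [Fin.lt_def, Fin.val_rev]; omega
  have hqr : q.rev.val = n - (l + 1) := by rw [Fin.val_rev, hqv]
  have hupper : ∀ i j : Fin n, j < i → mat u i j = 0 := fun i j hji => (mem_Bup.mp hu.1) i j hji
  have hdiag : ∀ i : Fin n, mat u i i = 1 := fun i => hu.2 i
  set t : F := -(mat u p q) with ht
  have hmul : ∀ a j, mat (xsUG hc p q (ne_of_lt hpq) (ne_of_lt hpc) hq t * u) a j =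
      mat u a j + (if a = q.rev then -σ₀ t * mat u p.rev j else 0) +
        (if a = p then t * mat u q j else 0) := fun a j =>
    xsU_mul_apply (σ := σ₀) (ne_of_lt hpq) (ne_rev_of_ne_mid hc hq) t (mat u) a j
  refine ⟨xsUG hc p q (ne_of_lt hpq) (ne_of_lt hpc) hq t, hL p q hpc hpq hq hqp _, ?_, ?_⟩
  · exact xsU_mem_UG id_invol hpq (ne_rev_of_ne_mid hc (ne_of_lt hpc)) (ne_rev_of_ne_mid hc hq) _
  · refine ⟨fun i j hi => ?_, fun i j hi hj1 hj2 => ?_⟩
    · rw [hmul, if_neg, if_neg, add_zero, add_zero]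
      · exact hP.1 i j hi
      · intro e
        rw [e] at hi
        omega
      · intro e
        rw [e] at hi
        omega
    · have hip : i = p := Fin.ext (by omega)
      rw [hmul, if_neg, if_pos hip, add_zero]
      · by_cases hjl : j.val < l
        · rw [hP.2 i j hi hj1 hjl, hupper q j (by rw [Fin.lt_def]; omega), mul_zero, add_zero]
        · have hjq : j = q := Fin.ext (by omega)
          rw [hjq, hdiag q, hip, ht]
          ring
      · intro e
        rw [e] at hi
        omega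

/-- one step of the reduction of the row `k`: a short root element -/
lemma step_row_short
    (hS : ∀ (q : Fin n) (hqc : q < c) (s : F), eSG hc h2F q (ne_of_lt hqc) s ∈ H)
    {k : ℕ} (hk : k < c.val)
    (u : ↥(GUJ σ₀ n)) (hu : u ∈ UG σ₀ n) (hP : RowPat (mat u) k c.val) :
    ∃ h ∈ H, h ∈ UG σ₀ n ∧ RowPat (mat (h * u)) k (c.val + 1) := by
  have hn := mid_val hc
  have hkn : k < n := by omega
  obtain ⟨p, hpv⟩ : ∃ p : Fin n, p.val = k := ⟨⟨k, hkn⟩, rfl⟩
  have hpc : p < c := by rw [Fin.lt_def]; omega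
  have hpr : p.rev.val = n - (k + 1) := by rw [Fin.val_rev, hpv]
  have hupper : ∀ i j : Fin n, j < i → mat u i j = 0 := fun i j hji => (mem_Bup.mp hu.1) i j hji
  have hdiag : ∀ i : Fin n, mat u i i = 1 := fun i => hu.2 i
  set t : F := -(mat u p c) with ht
  have hmul : ∀ a j, mat (eSG hc h2F p (ne_of_lt hpc) t * u) a j =
      mat u a j + (if a = p then t * mat u c j - t ^ 2 / 2 * mat u p.rev j else 0) +
        (if a = c then -t * mat u p.rev j else 0) := fun a j =>
    eS_mul_apply hc h2F p (ne_of_lt hpc) t (mat u) a j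
  refine ⟨eSG hc h2F p (ne_of_lt hpc) t, hS p hpc _, eSG_mem_UG hc h2F hpc _, ?_⟩
  refine ⟨fun i j hi => ?_, fun i j hi hj1 hj2 => ?_⟩
  · rw [hmul, if_neg, if_neg, add_zero, add_zero]
    · exact hP.1 i j hi
    · intro e
      rw [e] at hi
      omega
    · intro e
      rw [e] at hi
      omega
  · have hip : i = p := Fin.ext (by omega)
    rw [hmul, if_pos hip, if_neg, add_zero]
    · by_cases hjl : j.val < c.val
      · rw [hP.2 i j hi hj1 hjl, hupper c j (by rw [Fin.lt_def]; omega),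
          hupper p.rev j (by rw [Fin.lt_def]; omega), mul_zero, mul_zero, sub_zero, add_zero]
      · have hjq : j = c := Fin.ext (by omega)
        rw [hjq, hdiag c, hupper p.rev c (by rw [Fin.lt_def]; omega), hip, ht]
        ring
    · intro e
      rw [e] at hi
      omega

include hc h2F in
/-- the end of the reduction of the row `k` -/
lemma rowTriv_succ {k : ℕ} (hk : k < c.val)
    (u : ↥(GUJ σ₀ n)) (hu : u ∈ UG σ₀ n) (hP : RowPat (mat u) k (n - 1 - k)) :
    RowTriv (mat u) (k + 1) := by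
  have hn := mid_val hc
  have hupper : ∀ i j : Fin n, j < i → mat u i j = 0 := fun i j hji => (mem_Bup.mp hu.1) i j hji
  intro i j hi
  by_cases hik : i.val < k
  · exact hP.1 i j hik
  have hik' : i.val = k := by omega
  have hir : i.rev.val = n - (k + 1) := by rw [Fin.val_rev, hik']
  have hne : i ≠ i.rev := by
    apply Fin.ne_of_val_ne
    omega
  -- the entry at the mirror position
  have hmirror : mat u i i.rev = 0 := by
    have h := row_relation (σ := σ₀) u.2 hne
    rw [sum_eq_two i i.rev hne] at h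
    · simp only [RingHom.id_apply, Fin.rev_rev] at h
      have h1 : mat u i i = 1 := hu.2 i
      have h2 : ((u : GL (Fin n) F) : Matrix (Fin n) (Fin n) F) i i = 1 := hu.2 i
      rw [h2] at h
      have h3 : (2 : F) * ((u : GL (Fin n) F) : Matrix (Fin n) (Fin n) F) i i.rev = 0 := by
        rw [← h]
        ring
      rcases mul_eq_zero.mp h3 with h4 | h4
      · exact absurd h4 h2F
      · exact h4
    · intro l hl1 hl2
      have hlv : l.val ≠ k := fun e => hl1 (Fin.ext (by omega))
      have hlv' : l.val ≠ n - (k + 1) := fun e => hl2 (Fin.ext (by omega))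
      have hlr : l.rev.val = n - (l.val + 1) := Fin.val_rev l
      by_cases c1 : l.val < k
      · have : mat u i l = 0 := hupper i l (by rw [Fin.lt_def]; omega)
        show mat u i l * σ₀ (mat u i l.rev) = 0
        rw [this, zero_mul]
      · by_cases c2 : l.val < n - (k + 1)
        · have : mat u i l = 0 := hP.2 i l hik' (by omega) (by omega)
          show mat u i l * σ₀ (mat u i l.rev) = 0
          rw [this, zero_mul]
        · have : mat u i l.rev = 0 := hupper i l.rev (by rw [Fin.lt_def]; omega)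
          show mat u i l * σ₀ (mat u i l.rev) = 0
          rw [this, map_zero, mul_zero]
  by_cases c0 : j.val < k
  · rw [hupper i j (by rw [Fin.lt_def]; omega), if_neg]
    intro e
    rw [e] at hik'
    omega
  by_cases c1 : j.val = k
  · have : i = j := Fin.ext (by omega)
    rw [if_pos this, ← this]
    exact hu.2 i
  have hij : i ≠ j := fun e => c1 (by rw [← e, hik'])
  rw [if_neg hij]
  by_cases c2 : j.val < n - (k + 1)
  · exact hP.2 i j hik' (by omega) (by omega)
  by_cases c3 : j.val = n - (k + 1)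
  · have : j = i.rev := Fin.ext (by omega)
    rw [this]
    exact hmirror
  · -- the column `j` is the mirror of a trivial row
    have hjr : j.rev.val = n - (j.val + 1) := Fin.val_rev j
    have hrow : ∀ x, ((u : GL (Fin n) F) : Matrix (Fin n) (Fin n) F) j.rev x =
        if j.rev = x then 1 else 0 := fun x => hP.1 j.rev x (by have := j.2; omega)
    have := col_of_row u.2 hrow i
    rw [Fin.rev_rev] at this
    rw [if_neg hij] at this
    exact this

/-- the reduction of the row `k` -/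
lemma reduce_row
    (hL : ∀ (p q : Fin n) (hpc : p < c) (hpq : p < q) (hq : q ≠ c) (_ : q < p.rev) (t : F),
      xsUG hc p q (ne_of_lt hpq) (ne_of_lt hpc) hq t ∈ H)
    (hS : ∀ (q : Fin n) (hqc : q < c) (s : F), eSG hc h2F q (ne_of_lt hqc) s ∈ H)
    {k : ℕ} (hk : k < c.val) (u : ↥(GUJ σ₀ n)) (hu : u ∈ UG σ₀ n) (hT : RowTriv (mat u) k) :
    ∀ e l : ℕ, l = k + 1 + e → l + k + 1 ≤ n →
      ∃ h ∈ H, h ∈ UG σ₀ n ∧ RowPat (mat (h * u)) k l := by
  have hn := mid_val hc
  intro e
  induction e with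
  | zero =>
    intro l hl _
    refine ⟨1, Subgroup.one_mem _, Subgroup.one_mem _, ?_⟩
    rw [one_mul]
    refine ⟨hT, fun i j _ h1 h2 => ?_⟩
    omega
  | succ e ihe =>
    intro l hl hln
    obtain ⟨h1, hh1, hu1, hP1⟩ := ihe (l - 1) (by omega) (by omega)
    have hu' : h1 * u ∈ UG σ₀ n := Subgroup.mul_mem _ hu1 hu
    by_cases hlc : l - 1 = c.val
    · rw [hlc] at hP1
      obtain ⟨h2, hh2, hu2, hP2⟩ := step_row_short hc h2F H hS hk (h1 * u) hu' hP1
      refine ⟨h2 * h1, Subgroup.mul_mem _ hh2 hh1, Subgroup.mul_mem _ hu2 hu1, ?_⟩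
      rw [mul_assoc]
      have e' : l = c.val + 1 := by omega
      rw [e']
      exact hP2
    · obtain ⟨h2, hh2, hu2, hP2⟩ := step_row_long hc H hL hk (by omega) (by omega) hlc
        (h1 * u) hu' hP1
      refine ⟨h2 * h1, Subgroup.mul_mem _ hh2 hh1, Subgroup.mul_mem _ hu2 hu1, ?_⟩
      rw [mul_assoc]
      have e' : l = l - 1 + 1 := by omega
      rw [e']
      exact hP2

/-- the reduction of the first `k` rows -/
lemma reduce_rows
    (hL : ∀ (p q : Fin n) (hpc : p < c) (hpq : p < q) (hq : q ≠ c) (_ : q < p.rev) (t : F),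
      xsUG hc p q (ne_of_lt hpq) (ne_of_lt hpc) hq t ∈ H)
    (hS : ∀ (q : Fin n) (hqc : q < c) (s : F), eSG hc h2F q (ne_of_lt hqc) s ∈ H)
    (u : ↥(GUJ σ₀ n)) (hu : u ∈ UG σ₀ n) :
    ∀ k : ℕ, k ≤ c.val → ∃ h ∈ H, h ∈ UG σ₀ n ∧ RowTriv (mat (h * u)) k := by
  have hn := mid_val hc
  intro k
  induction k with
  | zero =>
    intro _
    refine ⟨1, Subgroup.one_mem _, Subgroup.one_mem _, fun i j hi => ?_⟩
    omega
  | succ k ihk =>
    intro hk
    obtain ⟨h1, hh1, hu1, hT1⟩ := ihk (by omega)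
    have hu' : h1 * u ∈ UG σ₀ n := Subgroup.mul_mem _ hu1 hu
    obtain ⟨h2, hh2, hu2, hP2⟩ := reduce_row hc h2F H hL hS (by omega) (h1 * u) hu' hT1
      (n - 1 - k - (k + 1)) (n - 1 - k) (by omega) (by omega)
    refine ⟨h2 * h1, Subgroup.mul_mem _ hh2 hh1, Subgroup.mul_mem _ hu2 hu1, ?_⟩
    rw [mul_assoc]
    exact rowTriv_succ hc h2F (by omega) _ (Subgroup.mul_mem _ hu2 hu') hP2

/-- **the upper unitriangular subgroup is generated by the positive root elements** -/
theorem UG_le_of_roots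
    (hL : ∀ (p q : Fin n) (hpc : p < c) (hpq : p < q) (hq : q ≠ c) (_ : q < p.rev) (t : F),
      xsUG hc p q (ne_of_lt hpq) (ne_of_lt hpc) hq t ∈ H)
    (hS : ∀ (q : Fin n) (hqc : q < c) (s : F), eSG hc h2F q (ne_of_lt hqc) s ∈ H) :
    UG σ₀ n ≤ H := by
  have hn := mid_val hc
  intro u hu
  obtain ⟨h, hh, hhU, hT⟩ := reduce_rows hc h2F H hL hS u hu c.val le_rfl
  have hu' : h * u ∈ UG σ₀ n := Subgroup.mul_mem _ hhU hu
  have hupper : ∀ i j : Fin n, j < i → mat (h * u) i j = 0 :=
    fun i j hji => (mem_Bup.mp hu'.1) i j hji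
  have h1 : h * u = 1 := by
    apply eq_one_of_offdiag hu'
    intro i j hij
    by_cases c1 : i.val < c.val
    · have := hT i j c1
      rw [if_neg hij] at this
      exact this
    · by_cases c2 : j < i
      · exact hupper i j c2
      · have hji : i.val < j.val := by
          rw [Fin.lt_def] at c2
          have : i.val ≠ j.val := fun e => hij (Fin.ext e)
          omega
        have hjr : j.rev.val = n - (j.val + 1) := Fin.val_rev j
        have hrow : ∀ x, ((h * u : ↥(GUJ σ₀ n)) : GL (Fin n) F).1 j.rev x =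
            if j.rev = x then 1 else 0 := fun x => hT j.rev x (by have := j.2; omega)
        have := col_of_row (h * u).2 hrow i
        rw [Fin.rev_rev, if_neg hij] at this
        exact this
  have : u = h⁻¹ := by
    rw [eq_inv_iff_mul_eq_one, ← h1]
    have := mul_eq_one_iff_eq_inv.mp h1
    rw [this]
    group
  rw [this]
  exact Subgroup.inv_mem _ hh

end reduce

end Cfsg.Agent.Lib.Helper15.OrGen
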