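import Mathlib
import Cfsg.Agent.Lib.Helper15.OrGenB

/-!
helper15: in the orthogonal group `GUJ (RingHom.id F) n`, `n` odd, odd characteristic, a subgroup
containing the upper and the lower unitriangular elements contains the commutator subgroup.
-/

set_option autoImplicit false

namespace Cfsg.Agent.Lib.Helper15.OrGen

open Matrix Equiv Cfsg Cfsg.Agent.Lib.Helper3.BN Cfsg.Agent.Lib.Helper6.BNSt
  Cfsg.Agent.Lib.Helper6.GLBN Cfsg.Agent.Lib.Helper6.GLSt Cfsg.Agent.Lib.Helper15.UnBN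
  Cfsg.Agent.Lib.Helper15.OrBN
open Cfsg.Agent.Lib.Helper15.SpBN (conj_monoGL_apply)

variable {n : ℕ} {F : Type*} [Field F]

local notation "σ₀" => RingHom.id F

/-- lower unitriangular elements -/
def IsLower (y : ↥(GUJ (RingHom.id F) n)) : Prop :=
  (∀ i j : Fin n, i < j → ((y : GL (Fin n) F) : Matrix (Fin n) (Fin n) F) i j = 0) ∧
    ∀ i : Fin n, ((y : GL (Fin n) F) : Matrix (Fin n) (Fin n) F) i i = 1

/-- the simple reflections lie in the product of the torus and a subgroup containing the upper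
and lower unitriangular elements -/
lemma SG_subset_sup' (R : Subgroup ↥(GUJ (RingHom.id F) n)) (hU : UG σ₀ n ≤ R)
    (hLow : ∀ y : ↥(GUJ σ₀ n), IsLower y → y ∈ R)
    (h2 : (2 : F) ≠ 0) (hodd : Odd n) {s : ↥(GUJ σ₀ n)}
    (hs : s ∈ SG σ₀ n) : s ∈ R ⊔ TG σ₀ n := by
  have hUle : UG σ₀ n ≤ R ⊔ TG σ₀ n := le_trans hU le_sup_left
  have hBle : BG σ₀ n ≤ R ⊔ TG σ₀ n := by
    intro b hb
    obtain ⟨u, hu, d, hd, rfl⟩ := exists_UG_mul_TG hb
    exact Subgroup.mul_mem _ (hUle hu) (Subgroup.mem_sup_right hd)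
  have key : ∀ x y : ↥(GUJ σ₀ n), x ∈ R ⊔ TG σ₀ n →
      y ∈ R ⊔ TG σ₀ n → s * x * y ∈ BG σ₀ n →
      s ∈ R ⊔ TG σ₀ n := by
    intro x y hx hy hb
    have e : s = (s * x * y) * y⁻¹ * x⁻¹ := by group
    rw [e]
    exact Subgroup.mul_mem _ (Subgroup.mul_mem _ (hBle hb) (Subgroup.inv_mem _ hy))
      (Subgroup.inv_mem _ hx)
  obtain ⟨k, hk⟩ := hs
  rcases hk with ⟨k', hk', hkm, hs'⟩ | ⟨hl | ho, hs'⟩
  · obtain ⟨g1, g2, g3, g4, g5, g6, g7, g8⟩ := short_idx hk' hkm
    have hlt : k < k' := by rw [Fin.lt_def]; omega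
    apply key ⟨xsU σ₀ k k' g1 1, xsU_mem id_invol g1 g3 g4 1⟩
      ⟨xsU σ₀ k' k g1.symm (-(1 : F)⁻¹), xsU_mem id_invol g1.symm g4 g3 _⟩
    · exact hUle (xsU_mem_UG id_invol hlt g3 g4 1)
    · apply Subgroup.mem_sup_left
      apply hLow
      refine ⟨?_, ?_⟩
      · intro i j hij
        exact xsU_lower hlt g3 _ hij
      · intro i
        exact xsU_diag g1.symm g3 _ i
    · rw [mem_BG, coe_mul3, hs']
      exact short_rank_one hk' hkm g1 one_ne_zero
  · exfalso
    rw [← hl] at hodd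
    exact (Nat.not_even_iff_odd.mpr hodd) ⟨k.val + 1, by ring⟩
  · have hlt : k.val + 1 < n := by omega
    have hk' : (⟨k.val + 1, hlt⟩ : Fin n).val = k.val + 1 := rfl
    have hc0 : (-(2 : F)⁻¹) ≠ 0 := neg_ne_zero.mpr (inv_ne_zero h2)
    have hrel : (-(2 : F)⁻¹) + σ₀ (-(2 : F)⁻¹) + 1 * σ₀ 1 = 0 := by
      simp only [RingHom.id_apply]
      field_simp
      ring
    have hrel' : (1 / σ₀ (-(2 : F)⁻¹)) + σ₀ (1 / σ₀ (-(2 : F)⁻¹)) +
        (-1 / (-(2 : F)⁻¹)) * σ₀ (-1 / (-(2 : F)⁻¹)) = 0 := by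
      simp only [RingHom.id_apply]
      field_simp
      ring
    have hy : lO hk' ho (-1 / (-(2 : F)⁻¹)) (-σ₀ 1 / σ₀ (-(2 : F)⁻¹)) (1 / σ₀ (-(2 : F)⁻¹)) ∈
        GUJ σ₀ n := lO_mem hk' ho id_invol hrel'
    apply key ⟨uO hk' ho 1 (σ₀ 1) (-(2 : F)⁻¹), uO_mem hk' ho id_invol hrel⟩ ⟨_, hy⟩
    · apply hUle
      exact ⟨uO_mem_Bup hk' ho _ _ _, fun i => uO_diag hk' ho _ _ _ i⟩
    · apply Subgroup.mem_sup_left
      apply hLow
      refine ⟨?_, ?_⟩
      · intro i j hij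
        exact lO_lower hk' ho _ _ _ hij
      · intro i
        exact lO_diag hk' ho _ _ _ i
    · rw [mem_BG, coe_mul3, hs']
      exact odd_rank_one hk' ho hc0 hc0 hrel

/-- the group is the product of the torus and such a subgroup -/
theorem sup_TG_eq_top (R : Subgroup ↥(GUJ (RingHom.id F) n)) (hU : UG σ₀ n ≤ R)
    (hLow : ∀ y : ↥(GUJ σ₀ n), IsLower y → y ∈ R)
    (h2 : (2 : F) ≠ 0) (hodd : Odd n) : R ⊔ TG σ₀ n = ⊤ := by
  rw [eq_top_iff, ← BG_sup_NG (σ := σ₀) (n := n) id_invol]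
  apply sup_le
  · intro b hb
    obtain ⟨u, hu, d, hd, rfl⟩ := exists_UG_mul_TG hb
    exact Subgroup.mul_mem _ (Subgroup.mem_sup_left (hU hu)) (Subgroup.mem_sup_right hd)
  · apply sup_le
    · rw [Subgroup.closure_le]
      intro s hs
      exact SG_subset_sup' R hU hLow h2 hodd hs
    · exact le_sup_right

/-- conjugation preserves the closure of a set stable under it -/
lemma conj_mem_closure {G : Type*} [Group G] {S : Set G} {t : G}
    (h : ∀ s ∈ S, t * s * t⁻¹ ∈ Subgroup.closure S) :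
    ∀ x ∈ Subgroup.closure S, t * x * t⁻¹ ∈ Subgroup.closure S := by
  have : Subgroup.closure S ≤ (Subgroup.closure S).comap (MulAut.conj t).toMonoidHom := by
    rw [Subgroup.closure_le]
    intro s hs
    exact h s hs
  intro x hx
  exact this hx

/-- the torus is commutative -/
lemma TG_comm (a b : ↥(GUJ (RingHom.id F) n)) (ha : a ∈ TG σ₀ n) (hb : b ∈ TG σ₀ n) :
    a * b = b * a := by
  obtain ⟨c, hc⟩ := mem_TG.mp ha
  obtain ⟨d, hd⟩ := mem_TG.mp hb
  apply Subtype.ext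
  show (a : GL (Fin n) F) * (b : GL (Fin n) F) = (b : GL (Fin n) F) * (a : GL (Fin n) F)
  rw [hc, hd, monoGL_mul, monoGL_mul]
  congr 1
  funext j
  simp only [Perm.one_apply]
  exact mul_comm _ _

/-- conjugates of lower unitriangular elements by torus elements -/
lemma isLower_conj {t y : ↥(GUJ (RingHom.id F) n)} (ht : t ∈ TG σ₀ n) (hy : IsLower y) :
    IsLower (t⁻¹ * y * t) := by
  obtain ⟨c, hc⟩ := mem_TG.mp ht
  have hent : ∀ i j : Fin n, (((t⁻¹ * y * t : ↥(GUJ σ₀ n)) : GL (Fin n) F) :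
      Matrix (Fin n) (Fin n) F) i j =
      ((c i)⁻¹ : Fˣ) * ((y : GL (Fin n) F) : Matrix (Fin n) (Fin n) F) i j * c j := by
    intro i j
    have := conj_monoGL_apply (1 : Perm (Fin n)) c (y : GL (Fin n) F) i j
    rw [← hc] at this
    exact this
  refine ⟨fun i j hij => ?_, fun i => ?_⟩
  · rw [hent, hy.1 i j hij, mul_zero, zero_mul]
  · rw [hent, hy.2 i, mul_one, ← Units.val_mul, inv_mul_cancel, Units.val_one]

/-- **a subgroup containing the upper and the lower unitriangular elements contains the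
commutator subgroup** -/
theorem commutator_le_of_UG_lower (M : Subgroup ↥(GUJ (RingHom.id F) n)) (hU : UG σ₀ n ≤ M)
    (hLow : ∀ y : ↥(GUJ σ₀ n), IsLower y → y ∈ M)
    (h2 : (2 : F) ≠ 0) (hodd : Odd n) : commutator ↥(GUJ σ₀ n) ≤ M := by
  set S : Set ↥(GUJ σ₀ n) := (UG σ₀ n : Set ↥(GUJ σ₀ n)) ∪ {y | IsLower y} with hS
  set R : Subgroup ↥(GUJ σ₀ n) := Subgroup.closure S with hR
  have hRM : R ≤ M := by
    rw [hR, Subgroup.closure_le]
    rintro x (hx | hx)
    · exact hU hx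
    · exact hLow x hx
  have hUR : UG σ₀ n ≤ R := fun x hx => Subgroup.subset_closure (Or.inl hx)
  have hLR : ∀ y : ↥(GUJ σ₀ n), IsLower y → y ∈ R := fun y hy =>
    Subgroup.subset_closure (Or.inr hy)
  have htop := sup_TG_eq_top R hUR hLR h2 hodd
  -- the torus normalises `R`
  have hconj : ∀ t ∈ TG σ₀ n, ∀ x ∈ R, t * x * t⁻¹ ∈ R := by
    intro t ht
    apply conj_mem_closure
    rintro s (hs | hs)
    · apply Subgroup.subset_closure
      left
      exact UG_conj_mem (TG_le_BG ht) hs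
    · apply Subgroup.subset_closure
      right
      have := isLower_conj (Subgroup.inv_mem _ ht) hs
      rw [inv_inv] at this
      exact this
  have hTN : TG σ₀ n ≤ Subgroup.normalizer (R : Set ↥(GUJ σ₀ n)) := by
    intro t ht
    rw [Subgroup.mem_normalizer_iff]
    intro x
    constructor
    · exact hconj t ht x
    · intro hx
      have := hconj t⁻¹ (Subgroup.inv_mem _ ht) _ hx
      have e : t⁻¹ * (t * x * t⁻¹) * t⁻¹⁻¹ = x := by group
      rw [e] at this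
      exact this
  have hnormal : R.Normal := by
    rw [← Subgroup.normalizer_eq_top_iff, eq_top_iff, ← htop]
    exact sup_le Subgroup.le_normalizer hTN
  have hcomm : IsMulCommutative ↥(TG σ₀ n) :=
    ⟨⟨fun a b => Subtype.ext (TG_comm a.1 b.1 a.2 b.2)⟩⟩
  exact le_trans (hnormal.commutator_le_of_self_sup_commutative_eq_top htop hcomm) hRM

end Cfsg.Agent.Lib.Helper15.OrGen
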