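import Mathlib
import Cfsg.Agent.Lib.Helper15.OrGenC

/-!
helper15: in the orthogonal group `GUJ (RingHom.id F) n`, `n` odd, odd characteristic, a subgroup
containing all the short root elements contains the commutator subgroup.
-/

set_option autoImplicit false

namespace Cfsg.Agent.Lib.Helper15.OrGen

open Matrix Equiv Cfsg Cfsg.Agent.Lib.Helper6.GLBN Cfsg.Agent.Lib.Helper15.UnBN
  Cfsg.Agent.Lib.Helper15.OrBN

variable {n : ℕ} {F : Type*} [Field F]

local notation "σ₀" => RingHom.id F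

section

variable {c : Fin n} (hc : c.rev = c) (h2F : (2 : F) ≠ 0)

lemma xsU_congr {p q p' q' : Fin n} (hpq : p ≠ q) (hpq' : p' ≠ q') (hp : p = p') (hq : q = q')
    {t t' : F} (ht : t = t') : xsU σ₀ p q hpq t = xsU σ₀ p' q' hpq' t' := by
  subst hp hq ht
  rfl

/-- a long root element as a commutator of short root elements -/
lemma xsUG_eq_comm (p r : Fin n) (hpr : p ≠ r) (hp : p ≠ c) (hr : r ≠ c) (hpr' : p ≠ r.rev)
    (u : F) :
    xsUG hc p r hpr hp hr u =
      eSG hc h2F p hp (-u) * eSG hc h2F r.rev (fun e => mid_ne_rev hc hr e.symm) 1 *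
        (eSG hc h2F p hp (-u))⁻¹ * (eSG hc h2F r.rev (fun e => mid_ne_rev hc hr e.symm) 1)⁻¹ := by
  have hr' : r.rev ≠ c := fun e => mid_ne_rev hc hr e.symm
  have hpr'' : p ≠ r.rev.rev := by rw [Fin.rev_rev]; exact hpr
  have h := eS_comm_rel hc hp hr' hpr' hpr'' (-u) (1 : F)
  have h' : xsU σ₀ p r.rev.rev hpr'' (-(-u * 1)) = xsU σ₀ p r hpr u :=
    xsU_congr _ _ rfl (Fin.rev_rev r) (by ring)
  rw [h'] at h
  apply Subtype.ext
  show xsU σ₀ p r hpr u = eS hc p hp (-u) * eS hc r.rev hr' 1 * (eS hc p hp (-u))⁻¹ *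
    (eS hc r.rev hr' 1)⁻¹
  rw [h]
  group

/-- conjugation of short root elements by the longest element -/
lemma w0G_conj_eSG (q : Fin n) (hq : q ≠ c) (s : F) :
    w0G σ₀ n * eSG hc h2F q hq s * (w0G σ₀ n)⁻¹ =
      eSG hc h2F q.rev (fun e => mid_ne_rev hc hq e.symm) s := by
  apply Subtype.ext
  show monoGL Fin.revPerm (fun _ => 1) * eS hc q hq s * (monoGL Fin.revPerm (fun _ => 1))⁻¹ =
    eS hc q.rev _ s
  rw [monoGL_conj_eS hc Fin.revPerm (fun _ => 1) (fun a => by simp [Fin.revPerm_apply])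
    (fun a => by simp) (by rw [Fin.revPerm_apply, hc])]
  apply eS_congr
  · rw [Fin.revPerm_apply]
  · simp

/-- conjugation of long root elements by the longest element -/
lemma w0G_conj_xsUG (p q : Fin n) (hpq : p ≠ q) (hp : p ≠ c) (hq : q ≠ c) (t : F) :
    w0G σ₀ n * xsUG hc p q hpq hp hq t * (w0G σ₀ n)⁻¹ =
      xsUG hc p.rev q.rev (fun e => hpq (Fin.rev_injective e))
        (fun e => mid_ne_rev hc hp e.symm) (fun e => mid_ne_rev hc hq e.symm) t := by
  apply Subtype.ext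
  show monoGL Fin.revPerm (fun _ => 1) * xsU σ₀ p q hpq t *
    (monoGL Fin.revPerm (fun _ => 1))⁻¹ = xsU σ₀ p.rev q.rev _ t
  rw [monoGL_conj_xsU Fin.revPerm (fun _ => 1) (fun a => by simp [Fin.revPerm_apply])
    (fun a => by simp)]
  apply xsU_congr
  · rw [Fin.revPerm_apply]
  · rw [Fin.revPerm_apply]
  · simp

/-- **a subgroup containing all the short root elements contains the commutator subgroup** -/
theorem commutator_le_of_short (hodd : Odd n) (M : Subgroup ↥(GUJ (RingHom.id F) n))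
    (hE : ∀ (q : Fin n) (hq : q ≠ c) (s : F), eSG hc h2F q hq s ∈ M) :
    commutator ↥(GUJ σ₀ n) ≤ M := by
  -- the long root elements
  have hLong : ∀ (p r : Fin n) (hpr : p ≠ r) (hp : p ≠ c) (hr : r ≠ c) (_ : p ≠ r.rev) (u : F),
      xsUG hc p r hpr hp hr u ∈ M := by
    intro p r hpr hp hr hpr' u
    rw [xsUG_eq_comm hc h2F p r hpr hp hr hpr' u]
    exact Subgroup.mul_mem _ (Subgroup.mul_mem _ (Subgroup.mul_mem _ (hE _ _ _) (hE _ _ _))
      (Subgroup.inv_mem _ (hE _ _ _))) (Subgroup.inv_mem _ (hE _ _ _))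
  -- the upper unitriangular subgroup
  have hU : UG σ₀ n ≤ M := by
    apply UG_le_of_roots hc h2F M
    · intro p q hpc hpq hq hqp t
      apply hLong
      intro e
      rw [e, Fin.rev_rev] at hqp
      exact lt_irrefl _ hqp
    · intro q hqc s
      exact hE _ _ _
  -- the lower unitriangular elements
  set M' : Subgroup ↥(GUJ σ₀ n) := M.comap (MulAut.conj (w0G σ₀ n)).toMonoidHom with hM'
  have hmem' : ∀ x : ↥(GUJ σ₀ n), x ∈ M' ↔ w0G σ₀ n * x * (w0G σ₀ n)⁻¹ ∈ M := fun x => Iff.rfl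
  have hU' : UG σ₀ n ≤ M' := by
    apply UG_le_of_roots hc h2F M'
    · intro p q hpc hpq hq hqp t
      rw [hmem', w0G_conj_xsUG]
      apply hLong
      intro e
      rw [Fin.rev_rev] at e
      rw [← e] at hqp
      exact lt_irrefl _ hqp
    · intro q hqc s
      rw [hmem', w0G_conj_eSG]
      exact hE _ _ _
  have hLow : ∀ y : ↥(GUJ σ₀ n), IsLower y → y ∈ M := by
    intro y hy
    have h1 := hU' (w0G_conj_mem_UG hy.1 hy.2)
    rw [hmem'] at h1
    have e : w0G σ₀ n * ((w0G σ₀ n)⁻¹ * y * w0G σ₀ n) * (w0G σ₀ n)⁻¹ = y := by group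
    rw [e] at h1
    exact h1
  exact commutator_le_of_UG_lower M hU hLow h2F hodd

end

end Cfsg.Agent.Lib.Helper15.OrGen
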