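import Mathlib
import Cfsg.Agent.Lib.Helper15.OrGenD
import Cfsg.Agent.Lib.Helper11.D4GenA

/-!
helper15: the orthogonal group `GUJ (RingHom.id F) n`, `n` odd, odd characteristic: a torus
element and the product of a Coxeter element with a short root element generate a subgroup
containing the commutator subgroup.
-/

set_option autoImplicit false

namespace Cfsg.Agent.Lib.Helper15.OrGen

open Matrix Equiv Cfsg Cfsg.Agent.Lib.Helper6.GLBN Cfsg.Agent.Lib.Helper15.UnBN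
  Cfsg.Agent.Lib.Helper15.OrBN

variable {n : ℕ} {F : Type*} [Field F]

local notation "σ₀" => RingHom.id F

/-- monomial orthogonal matrices -/
lemma monoGL_mem_of (τ : Perm (Fin n)) (d : Fin n → Fˣ) (hτ : ∀ a, τ a.rev = (τ a).rev)
    (hd : ∀ a, (d a : F) * (d a.rev : F) = 1) : monoGL τ d ∈ GUJ σ₀ n := by
  rw [monoGL_mem_GUJ_iff]
  exact ⟨hτ, fun a => by rw [RingHom.id_apply]; exact hd a⟩

/-- the monomial elements, in the group -/
def monoG (τ : Perm (Fin n)) (d : Fin n → Fˣ) (hτ : ∀ a, τ a.rev = (τ a).rev)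
    (hd : ∀ a, (d a : F) * (d a.rev : F) = 1) : ↥(GUJ σ₀ n) :=
  ⟨monoGL τ d, monoGL_mem_of τ d hτ hd⟩

section

variable {c : Fin n} (hc : c.rev = c) (h2F : (2 : F) ≠ 0)

/-- conjugation of a short root element by a monomial element -/
lemma monoG_conj_eSG (τ : Perm (Fin n)) (d : Fin n → Fˣ) (hτ : ∀ a, τ a.rev = (τ a).rev)
    (hd : ∀ a, (d a : F) * (d a.rev : F) = 1) (hτc : τ c = c)
    (q : Fin n) (hq : q ≠ c) (q' : Fin n) (hq' : q' ≠ c) (hqq' : τ q = q') (s : F) :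
    monoG τ d hτ hd * eSG hc h2F q hq s * (monoG τ d hτ hd)⁻¹ =
      eSG hc h2F q' hq' ((d q : F) / (d c : F) * s) := by
  apply Subtype.ext
  show monoGL τ d * eS hc q hq s * (monoGL τ d)⁻¹ = eS hc q' hq' _
  rw [monoGL_conj_eS hc τ d hτ hd hτc]
  exact eS_congr hc _ _ hqq' rfl

/-- a conjugate of a torus element by a monomial element lies in the torus -/
lemma monoG_conj_mem_TG (τ : Perm (Fin n)) (d e : Fin n → Fˣ) (hτ : ∀ a, τ a.rev = (τ a).rev)
    (hd : ∀ a, (d a : F) * (d a.rev : F) = 1) (he : ∀ a, (e a : F) * (e a.rev : F) = 1) :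
    monoG τ d hτ hd * monoG 1 e (fun _ => rfl) he * (monoG τ d hτ hd)⁻¹ ∈ TG σ₀ n := by
  rw [mem_TG]
  show monoGL τ d * monoGL 1 e * (monoGL τ d)⁻¹ ∈ diagSubgroup n F
  rw [monoGL_inv, monoGL_mul, monoGL_mul]
  refine ⟨fun j => d ((1 : Perm (Fin n)) (τ⁻¹ j)) * e (τ⁻¹ j) * (d (τ⁻¹ j))⁻¹, ?_⟩
  congr 1
  simp

lemma monoG_one_mem_TG (e : Fin n → Fˣ) (he : ∀ a, (e a : F) * (e a.rev : F) = 1) :
    monoG 1 e (fun _ => rfl) he ∈ TG σ₀ n := by
  rw [mem_TG]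
  exact ⟨e, rfl⟩

/-- **the generation theorem**: a subgroup containing a suitable torus element and the product
of a Coxeter element with a short root element contains the commutator subgroup -/
theorem two_gen_core (hodd : Odd n) (p0 : Fin n) (hp0 : p0 ≠ c)
    (τ : Perm (Fin n)) (d : Fin n → Fˣ) (hτ : ∀ a, τ a.rev = (τ a).rev)
    (hd : ∀ a, (d a : F) * (d a.rev : F) = 1) (hτc : τ c = c)
    (horb : ∀ q, q ≠ c → ∃ k : ℕ, (τ ^ k) p0 = q)
    (e : Fin n → Fˣ) (he : ∀ a, (e a : F) * (e a.rev : F) = 1) (hec : e c = 1)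
    (he0 : e p0 ≠ 1) (he1 : e (τ p0) ≠ 1)
    (hgen : ∀ x : F, x ≠ 0 → ∃ i : ℕ, ((e (τ p0) : Fˣ) : F) ^ i = x)
    (M : Subgroup ↥(GUJ (RingHom.id F) n))
    (hh : monoG 1 e (fun _ => rfl) he ∈ M)
    (hb : monoG τ d hτ hd * eSG hc h2F p0 hp0 1 ∈ M) :
    commutator ↥(GUJ σ₀ n) ≤ M := by
  have hτp0 : τ p0 ≠ c := fun h => hp0 (τ.injective (h.trans hτc.symm))
  have hec' : ((e c : Fˣ) : F) = 1 := by rw [hec, Units.val_one]
  -- the data of the core lemma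
  have hX : ∀ s t : F, eSG hc h2F p0 hp0 (s + t) = eSG hc h2F p0 hp0 s * eSG hc h2F p0 hp0 t := by
    intro s t
    apply Subtype.ext
    exact eS_add hc h2F p0 hp0 s t
  have hA : ∀ s : F, monoG 1 e (fun _ => rfl) he * eSG hc h2F p0 hp0 s *
      (monoG 1 e (fun _ => rfl) he)⁻¹ = eSG hc h2F p0 hp0 (((e p0 : Fˣ) : F) * s) := by
    intro s
    rw [monoG_conj_eSG hc h2F 1 e (fun _ => rfl) he rfl p0 hp0 p0 hp0 rfl, hec', div_one]
  have hS : ∀ s : F, monoG 1 e (fun _ => rfl) he *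
      (monoG τ d hτ hd * eSG hc h2F p0 hp0 s * (monoG τ d hτ hd)⁻¹) *
      (monoG 1 e (fun _ => rfl) he)⁻¹ =
      monoG τ d hτ hd * eSG hc h2F p0 hp0 (((e (τ p0) : Fˣ) : F) * s) *
        (monoG τ d hτ hd)⁻¹ := by
    intro s
    rw [monoG_conj_eSG hc h2F τ d hτ hd hτc p0 hp0 (τ p0) hτp0 rfl,
      monoG_conj_eSG hc h2F τ d hτ hd hτc p0 hp0 (τ p0) hτp0 rfl,
      monoG_conj_eSG hc h2F 1 e (fun _ => rfl) he rfl (τ p0) hτp0 (τ p0) hτp0 rfl, hec', div_one]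
    congr 1
    ring
  have hcomm : Commute (monoG 1 e (fun _ => rfl) he)
      (monoG τ d hτ hd * monoG 1 e (fun _ => rfl) he * (monoG τ d hτ hd)⁻¹) :=
    TG_comm _ _ (monoG_one_mem_TG e he) (monoG_conj_mem_TG τ d e hτ hd he)
  have hcA0 : ((e p0 : Fˣ) : F) ≠ 0 := (e p0).ne_zero
  have hcA1 : ((e p0 : Fˣ) : F) ≠ 1 := fun h => he0 (Units.ext h)
  have hcS1 : ((e (τ p0) : Fˣ) : F) ≠ 1 := fun h => he1 (Units.ext h)
  obtain ⟨hXM, hnM⟩ := Cfsg.Agent.Lib.Helper11.D4Gen.core_lemma M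
    (fun s : F => eSG hc h2F p0 hp0 s) hX (monoG 1 e (fun _ => rfl) he) (monoG τ d hτ hd)
    ((e p0 : Fˣ) : F) ((e (τ p0) : Fˣ) : F) hcA0 hcA1 hcS1 hA hS hgen hcomm hh hb
  -- the orbit of the Coxeter element
  have horbit : ∀ k : ℕ, ∀ (q : Fin n) (hq : q ≠ c), (τ ^ k) p0 = q →
      ∀ s : F, eSG hc h2F q hq s ∈ M := by
    intro k
    induction k with
    | zero =>
      intro q hq hk s
      rw [pow_zero, Perm.one_apply] at hk
      subst hk
      exact hXM s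
    | succ k ih =>
      intro q hq hk s
      rw [pow_succ', Perm.mul_apply] at hk
      have hq' : (τ ^ k) p0 ≠ c := by
        intro h
        rw [h, hτc] at hk
        exact hq hk.symm
      have h1 := ih _ hq' rfl (((d c : Fˣ) : F) / ((d ((τ ^ k) p0) : Fˣ) : F) * s)
      have h2 := monoG_conj_eSG hc h2F τ d hτ hd hτc _ hq' q hq hk
        (((d c : Fˣ) : F) / ((d ((τ ^ k) p0) : Fˣ) : F) * s)
      have h3 : ((d ((τ ^ k) p0) : Fˣ) : F) / ((d c : Fˣ) : F) *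
          (((d c : Fˣ) : F) / ((d ((τ ^ k) p0) : Fˣ) : F) * s) = s := by
        have a1 : ((d c : Fˣ) : F) ≠ 0 := (d c).ne_zero
        have a2 : ((d ((τ ^ k) p0) : Fˣ) : F) ≠ 0 := (d _).ne_zero
        field_simp
      rw [h3] at h2
      rw [← h2]
      exact Subgroup.mul_mem _ (Subgroup.mul_mem _ hnM h1) (Subgroup.inv_mem _ hnM)
  apply commutator_le_of_short hc h2F hodd M
  intro q hq s
  obtain ⟨k, hk⟩ := horb q hq
  exact horbit k q hq hk s

end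

end Cfsg.Agent.Lib.Helper15.OrGen
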