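import Mathlib
import Cfsg.Agent.Lib.Helper15.OrGenE

/-!
helper15: the Coxeter permutation of `Fin (2m+1)` (a `2m`-cycle commuting with the reversal and
fixing the middle index).
-/

set_option autoImplicit false

namespace Cfsg.Agent.Lib.Helper15.OrGen

open Matrix Equiv

/-- the Coxeter permutation, as a function -/
def coxFun (m : ℕ) (i : Fin (2 * m + 1)) : Fin (2 * m + 1) :=
  if h1 : i.val + 1 < m then ⟨i.val + 1, by omega⟩
  else if h2 : i.val + 1 = m then ⟨2 * m, by omega⟩
  else if h3 : i.val = m then i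
  else if h4 : i.val = m + 1 then ⟨0, by omega⟩
  else ⟨i.val - 1, by omega⟩

lemma coxFun_val (m : ℕ) (i : Fin (2 * m + 1)) : (coxFun m i).val =
    if i.val + 1 < m then i.val + 1 else if i.val + 1 = m then 2 * m
    else if i.val = m then m else if i.val = m + 1 then 0 else i.val - 1 := by
  unfold coxFun
  split_ifs <;> simp_all

lemma coxFun_injective (m : ℕ) : Function.Injective (coxFun m) := by
  intro a b h
  have := congrArg Fin.val h
  rw [coxFun_val, coxFun_val] at this
  apply Fin.ext
  have ha := a.2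
  have hb := b.2
  split_ifs at this <;> omega

/-- the Coxeter permutation -/
noncomputable def coxPerm (m : ℕ) : Perm (Fin (2 * m + 1)) :=
  Equiv.ofBijective (coxFun m) (Finite.injective_iff_bijective.mp (coxFun_injective m))

lemma coxPerm_val (m : ℕ) (i : Fin (2 * m + 1)) : (coxPerm m i).val =
    if i.val + 1 < m then i.val + 1 else if i.val + 1 = m then 2 * m
    else if i.val = m then m else if i.val = m + 1 then 0 else i.val - 1 :=
  coxFun_val m i

lemma coxPerm_rev (m : ℕ) (a : Fin (2 * m + 1)) : coxPerm m a.rev = (coxPerm m a).rev := by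
  apply Fin.ext
  rw [Fin.val_rev, coxPerm_val, coxPerm_val, Fin.val_rev]
  have ha := a.2
  split_ifs <;> omega

lemma coxPerm_mid (m : ℕ) (c : Fin (2 * m + 1)) (hc : c.val = m) : coxPerm m c = c := by
  apply Fin.ext
  rw [coxPerm_val]
  split_ifs <;> omega

lemma coxPerm_pow_zero (m : ℕ) (p0 : Fin (2 * m + 1)) (hp0 : p0.val = 0) :
    ∀ k : ℕ, k < 2 * m → ((coxPerm m ^ k) p0).val = if k < m then k else 3 * m - k := by
  intro k
  induction k with
  | zero =>
    intro h
    rw [pow_zero, Perm.one_apply, hp0, if_pos (by omega)]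
  | succ k ih =>
    intro h
    have := ih (by omega)
    rw [pow_succ', Perm.mul_apply, coxPerm_val, this]
    split_ifs <;> omega

lemma coxPerm_orbit (m : ℕ) (p0 : Fin (2 * m + 1)) (hp0 : p0.val = 0) (q : Fin (2 * m + 1))
    (hq : q.val ≠ m) : ∃ k : ℕ, (coxPerm m ^ k) p0 = q := by
  have hq2 := q.2
  by_cases h : q.val < m
  · refine ⟨q.val, Fin.ext ?_⟩
    rw [coxPerm_pow_zero m p0 hp0 _ (by omega), if_pos h]
  · refine ⟨3 * m - q.val, Fin.ext ?_⟩
    rw [coxPerm_pow_zero m p0 hp0 _ (by omega), if_neg (by omega)]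
    omega

end Cfsg.Agent.Lib.Helper15.OrGen
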