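import Mathlib
import Cfsg.Agent.Lib.Helper15.OrGenF

/-!
helper15: the commutator subgroup of the orthogonal group `GUJ (RingHom.id F) (2m+1)`, `m ≥ 2`,
over a finite field of odd characteristic, is generated by two elements.
-/

set_option autoImplicit false

namespace Cfsg.Agent.Lib.Helper15.OrGen

open Matrix Equiv Cfsg Cfsg.Agent.Lib.Helper6.GLBN Cfsg.Agent.Lib.Helper15.UnBN
  Cfsg.Agent.Lib.Helper15.OrBN

open scoped commutatorElement

variable {F : Type*} [Field F]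

local notation "σ₀" => RingHom.id F

/-- the coefficients of the auxiliary torus element -/
def e0 {n : ℕ} (p0 : Fin n) (κ : Fˣ) (j : Fin n) : Fˣ :=
  if j = p0 then κ else if j = p0.rev then κ⁻¹ else 1

lemma e0_mul_rev {n : ℕ} (p0 : Fin n) (hp0 : p0 ≠ p0.rev) (κ : Fˣ) (a : Fin n) :
    ((e0 p0 κ a : Fˣ) : F) * ((e0 p0 κ a.rev : Fˣ) : F) = 1 := by
  rw [← Units.val_mul, ← Units.val_one]
  congr 1
  unfold e0
  by_cases h1 : a = p0
  · subst h1
    rw [if_pos rfl, if_neg (fun e => hp0 e.symm), if_pos rfl, mul_inv_cancel]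
  · by_cases h2 : a = p0.rev
    · subst h2
      rw [if_neg (fun e => hp0 e.symm), if_pos rfl, Fin.rev_rev, if_pos rfl, inv_mul_cancel]
    · have h3 : a.rev ≠ p0 := fun e => h2 (by rw [← e, Fin.rev_rev])
      have h4 : a.rev ≠ p0.rev := fun e => h1 (Fin.rev_injective e)
      rw [if_neg h1, if_neg h2, if_neg h3, if_neg h4, mul_one]

/-- the commutator of a monomial element with a torus element -/
lemma comm_monoG {n : ℕ} (τ : Perm (Fin n)) (hτ : ∀ a, τ a.rev = (τ a).rev)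
    (e₀ : Fin n → Fˣ) (he₀ : ∀ a, ((e₀ a : Fˣ) : F) * ((e₀ a.rev : Fˣ) : F) = 1)
    (he : ∀ a, (((e₀ (τ⁻¹ a) * (e₀ a)⁻¹ : Fˣ)) : F) * (((e₀ (τ⁻¹ a.rev) * (e₀ a.rev)⁻¹ : Fˣ)) : F)
      = 1) :
    monoG 1 (fun j => e₀ (τ⁻¹ j) * (e₀ j)⁻¹) (fun _ => rfl) he =
      ⁅monoG τ (fun _ => (1 : Fˣ)) hτ (fun _ => by simp), monoG 1 e₀ (fun _ => rfl) he₀⁆ := by
  apply Subtype.ext
  show monoGL 1 (fun j => e₀ (τ⁻¹ j) * (e₀ j)⁻¹) =
    monoGL τ (fun _ => (1 : Fˣ)) * monoGL 1 e₀ * (monoGL τ (fun _ => (1 : Fˣ)))⁻¹ *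
      (monoGL 1 e₀)⁻¹
  rw [monoGL_inv, monoGL_inv, monoGL_mul, monoGL_mul, monoGL_mul]
  congr 1
  · simp
  · funext j
    simp

variable [Fintype F] (p : ℕ) [Fact p.Prime] [CharP F p]

/-- **two generators of the commutator subgroup of the odd-dimensional orthogonal group** -/
theorem exists_two_gen (hp2 : p ≠ 2) (h2 : (2 : F) ≠ 0) (m : ℕ) (hm : 2 ≤ m) :
    ∃ a b : ↥(GUJ σ₀ (2 * m + 1)),
      Subgroup.closure ({a, b} : Set ↥(GUJ σ₀ (2 * m + 1))) =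
        commutator ↥(GUJ σ₀ (2 * m + 1)) := by
  classical
  have hodd : Odd (2 * m + 1) := ⟨m, rfl⟩
  obtain ⟨c, hcv⟩ : ∃ c : Fin (2 * m + 1), c.val = m := ⟨⟨m, by omega⟩, rfl⟩
  have hc : c.rev = c := by
    apply Fin.ext
    rw [Fin.val_rev, hcv]
    omega
  obtain ⟨p0, hp0v⟩ : ∃ p0 : Fin (2 * m + 1), p0.val = 0 := ⟨⟨0, by omega⟩, rfl⟩
  have hp0 : p0 ≠ c := by
    apply Fin.ne_of_val_ne
    omega
  have hp0r : p0.rev.val = 2 * m := by
    rw [Fin.val_rev, hp0v]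
    omega
  have hp0' : p0 ≠ p0.rev := ne_rev_of_ne_mid hc hp0
  set τ := coxPerm m with hτdef
  have hτ : ∀ a, τ a.rev = (τ a).rev := coxPerm_rev m
  have hτc : τ c = c := coxPerm_mid m c hcv
  have horb : ∀ q, q ≠ c → ∃ k : ℕ, (τ ^ k) p0 = q := by
    intro q hq
    apply coxPerm_orbit m p0 hp0v q
    intro h
    exact hq (Fin.ext (h.trans hcv.symm))
  have hτp0 : (τ p0).val = 1 := by
    rw [hτdef, coxPerm_val, hp0v]
    split_ifs <;> omega
  -- the inverse images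
  obtain ⟨pm, hpmv⟩ : ∃ pm : Fin (2 * m + 1), pm.val = m + 1 := ⟨⟨m + 1, by omega⟩, rfl⟩
  have hτpm : τ pm = p0 := by
    apply Fin.ext
    rw [hτdef, coxPerm_val, hpmv, hp0v]
    split_ifs <;> omega
  have hinv0 : τ⁻¹ p0 = pm := by
    rw [Perm.inv_eq_iff_eq]
    exact hτpm.symm
  have hinv1 : τ⁻¹ (τ p0) = p0 := by simp
  have hinvc : τ⁻¹ c = c := by
    rw [Perm.inv_eq_iff_eq]
    exact hτc.symm
  -- a representative of the Coxeter element in the commutator subgroup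
  obtain ⟨d, hd, hnΩ⟩ : ∃ (d : Fin (2 * m + 1) → Fˣ)
      (hd : ∀ a, ((d a : Fˣ) : F) * ((d a.rev : Fˣ) : F) = 1),
      monoG τ d hτ hd ∈ commutator ↥(GUJ σ₀ (2 * m + 1)) := by
    obtain ⟨h, t, ht, hg⟩ := exists_commutator_mul_torus p hp2 h2 hodd
      (monoG τ (fun _ => (1 : Fˣ)) hτ (fun _ => by simp))
    rw [BG_inf_NG, mem_TG] at ht
    obtain ⟨c', hc'⟩ := ht
    have hh : ((h : ↥(GUJ σ₀ (2 * m + 1))) : GL (Fin (2 * m + 1)) F) =
        monoGL τ (fun j => (c' j)⁻¹) := by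
      have e1 : (h : ↥(GUJ σ₀ (2 * m + 1))) =
          monoG τ (fun _ => (1 : Fˣ)) hτ (fun _ => by simp) * t⁻¹ := by
        rw [hg]
        group
      rw [e1]
      show monoGL τ (fun _ => (1 : Fˣ)) * (t : GL (Fin (2 * m + 1)) F)⁻¹ = _
      rw [hc', monoGL_inv, monoGL_mul]
      congr 1
      funext j
      simp
    have hmem : monoGL τ (fun j => (c' j)⁻¹) ∈ GUJ σ₀ (2 * m + 1) := by
      rw [← hh]
      exact (h : ↥(GUJ σ₀ (2 * m + 1))).2
    rw [monoGL_mem_GUJ_iff] at hmem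
    refine ⟨fun j => (c' j)⁻¹, fun a => ?_, ?_⟩
    · have := hmem.2 a
      rw [RingHom.id_apply] at this
      exact this
    · have : monoG τ (fun j => (c' j)⁻¹) hτ (fun a => by
          have := hmem.2 a
          rw [RingHom.id_apply] at this
          exact this) = (h : ↥(GUJ σ₀ (2 * m + 1))) := Subtype.ext hh.symm
      rw [this]
      exact h.2
  -- a generator of the multiplicative group
  obtain ⟨κ, hκ⟩ := IsCyclic.exists_generator (α := Fˣ)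
  have hgen : ∀ x : F, x ≠ 0 → ∃ i : ℕ, ((κ : Fˣ) : F) ^ i = x := by
    intro x hx
    have hy := hκ (Units.mk0 x hx)
    rw [← mem_powers_iff_mem_zpowers] at hy
    obtain ⟨i, hi⟩ := hy
    refine ⟨i, ?_⟩
    have := congrArg (fun u : Fˣ => (u : F)) hi
    simpa using this
  have hκ1 : κ ≠ 1 := by
    intro h
    have h3 : ((1 : F) + 1) ≠ 0 := by
      have : (1 : F) + 1 = 2 := by norm_num
      rw [this]
      exact h2
    have h4 : (-1 : F) ≠ 0 := neg_ne_zero.mpr one_ne_zero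
    have hy := hκ (Units.mk0 (-1 : F) h4)
    rw [h, Subgroup.zpowers_one_eq_bot, Subgroup.mem_bot] at hy
    have h5 := congrArg (fun u : Fˣ => (u : F)) hy
    simp only [Units.val_mk0, Units.val_one] at h5
    apply h3
    linear_combination (-1 : F) * h5
  -- the torus element
  have he₀ := e0_mul_rev (F := F) p0 hp0' κ
  have he : ∀ a, (((e0 p0 κ (τ⁻¹ a) * (e0 p0 κ a)⁻¹ : Fˣ)) : F) *
      (((e0 p0 κ (τ⁻¹ a.rev) * (e0 p0 κ a.rev)⁻¹ : Fˣ)) : F) = 1 := by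
    intro a
    rw [inv_rev_of_comm hτ]
    have h1' : e0 p0 κ (τ⁻¹ a) * e0 p0 κ (τ⁻¹ a).rev = 1 :=
      Units.ext (by rw [Units.val_mul, Units.val_one]; exact he₀ _)
    have h2'' : e0 p0 κ a * e0 p0 κ a.rev = 1 :=
      Units.ext (by rw [Units.val_mul, Units.val_one]; exact he₀ _)
    have key : e0 p0 κ (τ⁻¹ a) * (e0 p0 κ a)⁻¹ * (e0 p0 κ (τ⁻¹ a).rev * (e0 p0 κ a.rev)⁻¹) = 1 := by
      calc e0 p0 κ (τ⁻¹ a) * (e0 p0 κ a)⁻¹ * (e0 p0 κ (τ⁻¹ a).rev * (e0 p0 κ a.rev)⁻¹)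
          = (e0 p0 κ (τ⁻¹ a) * e0 p0 κ (τ⁻¹ a).rev) * (e0 p0 κ a * e0 p0 κ a.rev)⁻¹ := by
            rw [_root_.mul_inv]
            ac_rfl
        _ = 1 := by rw [h1', h2'', inv_one, mul_one]
    rw [← Units.val_mul, key, Units.val_one]
  have hhΩ : monoG 1 (fun j => e0 p0 κ (τ⁻¹ j) * (e0 p0 κ j)⁻¹) (fun _ => rfl) he ∈
      commutator ↥(GUJ σ₀ (2 * m + 1)) := by
    rw [comm_monoG τ hτ (e0 p0 κ) he₀ he]
    exact Subgroup.commutator_mem_commutator (Subgroup.mem_top _) (Subgroup.mem_top _)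
  -- the values of the coefficients
  have hpm0 : pm ≠ p0 := by apply Fin.ne_of_val_ne; omega
  have hpm0r : pm ≠ p0.rev := by apply Fin.ne_of_val_ne; omega
  have hτ0 : τ p0 ≠ p0 := by apply Fin.ne_of_val_ne; omega
  have hτ0r : τ p0 ≠ p0.rev := by apply Fin.ne_of_val_ne; omega
  have hcr : c ≠ p0.rev := by apply Fin.ne_of_val_ne; omega
  have hv0 : e0 p0 κ (τ⁻¹ p0) * (e0 p0 κ p0)⁻¹ = κ⁻¹ := by
    rw [hinv0]
    unfold e0
    rw [if_neg hpm0, if_neg hpm0r, if_pos rfl, one_mul]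
  have hv1 : e0 p0 κ (τ⁻¹ (τ p0)) * (e0 p0 κ (τ p0))⁻¹ = κ := by
    rw [hinv1]
    unfold e0
    rw [if_pos rfl, if_neg hτ0, if_neg hτ0r, inv_one, mul_one]
  have hvc : e0 p0 κ (τ⁻¹ c) * (e0 p0 κ c)⁻¹ = 1 := by
    rw [hinvc, mul_inv_cancel]
  -- the two generators
  refine ⟨monoG 1 (fun j => e0 p0 κ (τ⁻¹ j) * (e0 p0 κ j)⁻¹) (fun _ => rfl) he,
    monoG τ d hτ hd * eSG hc h2 p0 hp0 1, ?_⟩
  apply le_antisymm
  · rw [Subgroup.closure_le]
    rintro x (rfl | rfl)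
    · exact hhΩ
    · apply Subgroup.mul_mem _ hnΩ
      apply UG_le_commutator p hp2 h2
      apply eSG_mem_UG hc h2
      rw [Fin.lt_def]
      omega
  · apply two_gen_core hc h2 hodd p0 hp0 τ d hτ hd hτc horb
      (fun j => e0 p0 κ (τ⁻¹ j) * (e0 p0 κ j)⁻¹) he hvc
    · rw [hv0]
      intro h
      exact hκ1 (inv_eq_one.mp h)
    · rw [hv1]
      exact hκ1
    · rw [hv1]
      exact hgen
    · exact Subgroup.subset_closure (by simp)
    · exact Subgroup.subset_closure (by simp)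

end Cfsg.Agent.Lib.Helper15.OrGen
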