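import Cfsg.Agent.Lib.Helper6.Orb.Basic

/-!
# S4125 orbit lemma, leaf OrbA1a: the decomposition of `V` under a Klein-type group `⟨y, z⟩`
with `z` fixed-point-free (pure computation with the trace maps of the elements `y z^j`).
-/

set_option autoImplicit false

namespace Cfsg.Agent.Lib.Helper15.OrbLeaf
open Cfsg.Agent.Lib.Helper6.Orb

universe u v

variable {p q : ℕ} [hp : Fact p.Prime] [hq : Fact q.Prime]
  {H : Type u} {V : Type v} [Group H] [Finite H] [AddCommGroup V] [Finite V] [DistribMulAction H V]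
  [FaithfulSMul H V]

/-- the trace of an element of order dividing `n` -/
def trN (n : ℕ) (x : H) (v : V) : V := ∑ k ∈ Finset.range n, x ^ k • v

omit [Finite H] [Finite V] [FaithfulSMul H V] in
theorem trN_fixed (n : ℕ) (x : H) (hx : x ^ n = 1) (v : V) : x • trN n x v = trN n x v := by
  unfold trN
  rw [Finset.smul_sum]
  have h1 : ∀ k ∈ Finset.range n, x • x ^ k • v = x ^ (k + 1) • v := by
    intro k _
    rw [← mul_smul, ← pow_succ']
  rw [Finset.sum_congr rfl h1]
  have h2 := Finset.sum_range_succ' (fun k => x ^ k • v) n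
  have h3 := Finset.sum_range_succ (fun k => x ^ k • v) n
  rw [h2] at h3
  simp only [hx, pow_zero] at h3
  exact add_right_cancel h3

omit [Finite H] [Finite V] [FaithfulSMul H V] in
theorem trN_sum {ι : Type*} (n : ℕ) (s : Finset ι) (x : H) (f : ι → V) :
    trN n x (∑ i ∈ s, f i) = ∑ i ∈ s, trN n x (f i) := by
  unfold trN
  rw [Finset.sum_comm]
  apply Finset.sum_congr rfl
  intro k _
  rw [Finset.smul_sum]

omit [Finite H] [Finite V] [FaithfulSMul H V] in
theorem pow_smul_of_fixed (x : H) (v : V) (hv : x • v = v) (k : ℕ) : x ^ k • v = v := by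
  induction k with
  | zero => rw [pow_zero, one_smul]
  | succ n ih => rw [pow_succ, mul_smul, hv, ih]

omit [Finite H] [Finite V] [FaithfulSMul H V] in
theorem trN_of_fixed (n : ℕ) (x : H) (v : V) (hv : x • v = v) : trN n x v = n • v := by
  unfold trN
  rw [Finset.sum_congr rfl (fun k _ => pow_smul_of_fixed x v hv k), Finset.sum_const,
    Finset.card_range]

omit [Finite H] [Finite V] [FaithfulSMul H V] hq in
theorem fixed_of_pow_fixed (z : H) (hz : z ^ p = 1) (c : ℕ) (hc : ¬ p ∣ c) (u : V)
    (hu : z ^ c • u = u) : z • u = u := by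
  have hcop : Nat.Coprime c p := ((Nat.Prime.coprime_iff_not_dvd hp.out).mpr hc).symm
  obtain ⟨c', -, hc'⟩ := Nat.exists_mul_mod_eq_one_of_coprime hcop hp.out.one_lt
  have h1 : (z ^ c) ^ c' = z := by
    rw [← pow_mul]
    have h2 : c * c' = p * (c * c' / p) + 1 := by
      have := Nat.div_add_mod (c * c') p
      omega
    rw [h2, pow_add, pow_mul, hz, one_pow, one_mul, pow_one]
  calc z • u = (z ^ c) ^ c' • u := by rw [h1]
    _ = u := pow_smul_of_fixed (z ^ c) u hu c'

omit [Finite H] [Finite V] [FaithfulSMul H V] hq in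
theorem trN_pow_eq_zero (z : H) (hz : z ^ p = 1) (hzfix : ∀ v : V, z • v = v → v = 0)
    (c : ℕ) (hc : ¬ p ∣ c) (w : V) : trN p (z ^ c) w = 0 := by
  apply hzfix
  apply fixed_of_pow_fixed z hz c hc
  exact trN_fixed p (z ^ c) (by rw [← pow_mul, mul_comm, pow_mul, hz, one_pow]) w

omit [Finite H] [Finite V] [FaithfulSMul H V] hq in
theorem trN_cross (y z : H) (hyz : Commute y z) (hz : z ^ p = 1)
    (hzfix : ∀ v : V, z • v = v → v = 0) (i j : ℕ) (hi : i < p) (hj : j < p) (hij : i ≠ j)
    (d : V) (hd : (y * z ^ i) • d = d) : trN p (y * z ^ j) d = 0 := by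
  set c := j + p - i with hc
  have hcp : ¬ p ∣ c := by
    rintro ⟨t, ht⟩
    rcases t with _ | _ | t
    · omega
    · omega
    · have : p * (t + 1 + 1) = p * t + 2 * p := by ring
      omega
  have hcomm : Commute (z ^ c) (y * z ^ i) :=
    ((hyz.pow_right c).symm).mul_right ((Commute.refl z).pow_pow c i)
  have hx : y * z ^ j = z ^ c * (y * z ^ i) := by
    rw [hcomm.eq, mul_assoc, ← pow_add]
    have h2 : i + c = j + p := by omega
    rw [h2, pow_add, hz, mul_one]
  have h3 : ∀ k ∈ Finset.range p, (y * z ^ j) ^ k • d = (z ^ c) ^ k • d := by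
    intro k _
    rw [hx, hcomm.mul_pow, mul_smul, pow_smul_of_fixed _ d hd k]
  have h4 : trN p (y * z ^ j) d = trN p (z ^ c) d := Finset.sum_congr rfl h3
  rw [h4]
  exact trN_pow_eq_zero z hz hzfix c hcp d

/-- OrbA1a -/
theorem klein_decomp (S : Setup p q H V) (hpq : p ≠ q) (y z : H) (hyz : Commute y z)
    (hy : y ^ p = 1) (hz : z ^ p = 1) (hzfix : ∀ v : V, z • v = v → v = 0) :
    (∀ f g : Fin p → V, (∀ i : Fin p, (y * z ^ (i : ℕ)) • f i = f i) →
      (∀ i : Fin p, (y * z ^ (i : ℕ)) • g i = g i) → ∑ i, f i = ∑ i, g i → f = g) ∧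
    (∀ v : V, ∃ f : Fin p → V, (∀ i : Fin p, (y * z ^ (i : ℕ)) • f i = f i) ∧ ∑ i, f i = v) := by
  have hcop : Nat.Coprime p q := (Nat.coprime_primes hp.out hq.out).mpr hpq
  obtain ⟨m, -, hm⟩ := Nat.exists_mul_mod_eq_one_of_coprime hcop hq.out.one_lt
  have hmv : ∀ v : V, m • (p • v) = v := by
    intro v
    rw [← mul_smul]
    have h2 : m * p = q * (p * m / q) + 1 := by
      have := Nat.div_add_mod (p * m) q
      rw [mul_comm m p]
      omega
    rw [h2, add_smul, mul_smul, one_smul, S.nsmul_eq_zero, zero_add]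
  have hxp : ∀ j : ℕ, (y * z ^ j) ^ p = 1 := by
    intro j
    rw [(hyz.pow_right j).mul_pow, hy, ← pow_mul, mul_comm, pow_mul, hz, one_pow, mul_one]
  constructor
  · intro f g hf hg hsum
    funext j
    have h1 := congrArg (trN p (y * z ^ (j : ℕ))) hsum
    rw [trN_sum, trN_sum] at h1
    rw [Finset.sum_eq_single j, Finset.sum_eq_single j] at h1
    · rw [trN_of_fixed _ _ _ (hf j), trN_of_fixed _ _ _ (hg j)] at h1
      rw [← hmv (f j), ← hmv (g j), h1]
    · intro i _ hij
      exact trN_cross y z hyz hz hzfix i j i.2 j.2 (fun h => hij (Fin.ext h)) (g i) (hg i)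
    · intro h
      exact absurd (Finset.mem_univ j) h
    · intro i _ hij
      exact trN_cross y z hyz hz hzfix i j i.2 j.2 (fun h => hij (Fin.ext h)) (f i) (hf i)
    · intro h
      exact absurd (Finset.mem_univ j) h
  · intro v
    refine ⟨fun j => m • trN p (y * z ^ (j : ℕ)) v, ?_, ?_⟩
    · intro j
      rw [smul_comm, trN_fixed _ _ (hxp j)]
    · rw [← Finset.smul_sum]
      have key : ∑ j : Fin p, trN p (y * z ^ (j : ℕ)) v = p • v := by
        unfold trN
        rw [Finset.sum_comm]
        have hk : ∀ k ∈ Finset.range p,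
            ∑ j : Fin p, (y * z ^ (j : ℕ)) ^ k • v = if k = 0 then p • v else 0 := by
          intro k hk
          have h1 : ∀ j : Fin p,
              (y * z ^ (j : ℕ)) ^ k • v = y ^ k • ((z ^ k) ^ (j : ℕ) • v) := by
            intro j
            rw [(hyz.pow_right _).mul_pow, mul_smul, ← pow_mul, ← pow_mul, mul_comm]
          rw [Finset.sum_congr rfl (fun j _ => h1 j), ← Finset.smul_sum,
            Fin.sum_univ_eq_sum_range (fun j => (z ^ k) ^ j • v) p]
          split_ifs with h0
          · subst h0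
            simp
          · have hpk : ¬ p ∣ k := by
              intro hd
              have h5 := Nat.le_of_dvd (Nat.pos_of_ne_zero h0) hd
              have h6 := Finset.mem_range.mp hk
              omega
            show y ^ k • trN p (z ^ k) v = 0
            rw [trN_pow_eq_zero z hz hzfix k hpk, smul_zero]
        rw [Finset.sum_congr rfl hk, Finset.sum_ite_eq' (Finset.range p) 0 (fun _ => p • v),
          if_pos (Finset.mem_range.mpr hp.out.pos)]
      rw [key, hmv]

end Cfsg.Agent.Lib.Helper15.OrbLeaf
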