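import Cfsg.Agent.Lib.Helper6.Orb.Basic

/-!
# S4125 orbit lemma, leaf OrbE2 (step 1, second half): if `H` centralises a nonzero invariant
subgroup `W` of `V`, pass to the action on `V ⧸ W`.
-/

set_option autoImplicit false

namespace Cfsg.Agent.Lib.Helper15.OrbLeaf
open Cfsg.Agent.Lib.Helper6.Orb

universe u v

variable {p q : ℕ} [hp : Fact p.Prime] [hq : Fact q.Prime]
  {H : Type u} {V : Type v} [Group H] [Finite H] [AddCommGroup V] [Finite V] [DistribMulAction H V]
  [FaithfulSMul H V]

/-- the action on the quotient by an invariant subgroup -/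
@[reducible] def quotAction (W : AddSubgroup V) (hW : ∀ h : H, ∀ w ∈ W, h • w ∈ W) :
    DistribMulAction H (V ⧸ W) where
  smul h := QuotientAddGroup.map W W (DistribSMul.toAddMonoidHom V h)
    (show W ≤ AddSubgroup.comap (DistribSMul.toAddMonoidHom V h) W from fun w hw => hW h w hw)
  one_smul x := by
    induction x using QuotientAddGroup.induction_on with
    | H v =>
      show (QuotientAddGroup.mk ((1 : H) • v) : V ⧸ W) = QuotientAddGroup.mk v
      rw [one_smul]
  mul_smul g h x := by
    induction x using QuotientAddGroup.induction_on with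
    | H v =>
      show (QuotientAddGroup.mk ((g * h) • v) : V ⧸ W) = QuotientAddGroup.mk (g • h • v)
      rw [mul_smul]
  smul_zero h := map_zero _
  smul_add h x y := map_add _ x y

/-- OrbE2 (step 1, second half) -/
theorem solvable_of_centralizes (hV : ∃ k : ℕ, Nat.card V = q ^ k)
    (hcop : (Nat.card H).Coprime q) (hpp : PP p H V)
    (ih : ∀ (H' : Type u) (V' : Type v) [Group H'] [Finite H'] [AddCommGroup V'] [Finite V']
      [DistribMulAction H' V'] [FaithfulSMul H' V'], (∃ k : ℕ, Nat.card V' = q ^ k) →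
      (Nat.card H').Coprime q → PP p H' V' →
      Nat.card H' + Nat.card V' < Nat.card H + Nat.card V → Group.IsSolvable H')
    (W : AddSubgroup V) (hW0 : W ≠ ⊥) (hWc : ∀ h : H, ∀ w ∈ W, h • w = w) :
    Group.IsSolvable H := by
  classical
  have hWinv : ∀ h : H, ∀ w ∈ W, h • w ∈ W := fun h w hw => by rw [hWc h w hw]; exact hw
  let act : DistribMulAction H (V ⧸ W) := quotAction W hWinv
  have hmk : ∀ (h : H) (v : V),
      h • (QuotientAddGroup.mk v : V ⧸ W) = QuotientAddGroup.mk (h • v) := fun h v => rfl
  obtain ⟨k, hk⟩ := hV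
  -- the action on the quotient is faithful
  have hfaith : FaithfulSMul H (V ⧸ W) := by
    refine ⟨fun {h₁ h₂} hh => ?_⟩
    have hg : ∀ v : V, (h₂⁻¹ * h₁) • v - v ∈ W := by
      intro v
      have h1 := hh (QuotientAddGroup.mk v)
      rw [hmk, hmk, QuotientAddGroup.eq] at h1
      have h2 := hWinv h₂⁻¹ _ h1
      rw [smul_add, smul_neg, ← mul_smul, ← mul_smul, inv_mul_cancel, one_smul] at h2
      have h3 := W.neg_mem h2
      rw [neg_add, neg_neg, ← sub_eq_add_neg] at h3
      exact h3
    have hg1 : h₂⁻¹ * h₁ = 1 := by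
      set g := h₂⁻¹ * h₁ with hgdef
      apply eq_of_smul_eq_smul (α := V)
      intro v
      rw [one_smul]
      have hwW : g • v - v ∈ W := hg v
      have hgw : g • (g • v - v) = g • v - v := hWc g _ hwW
      have hpow : ∀ n : ℕ, g ^ n • v = v + n • (g • v - v) := by
        intro n
        induction n with
        | zero => simp
        | succ n ih =>
          rw [pow_succ', mul_smul, ih, smul_add, smul_comm g n, hgw, succ_nsmul]
          abel
      have h0 : orderOf g • (g • v - v) = 0 := by
        have h5 := hpow (orderOf g)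
        rw [pow_orderOf_eq_one, one_smul] at h5
        exact left_eq_add.mp h5
      have h1 : Nat.card V • (g • v - v) = 0 := card_nsmul_eq_zero'
      have hd0 : addOrderOf (g • v - v) ∣ orderOf g := addOrderOf_dvd_of_nsmul_eq_zero h0
      have hd1 : addOrderOf (g • v - v) ∣ q ^ k := hk ▸ addOrderOf_dvd_of_nsmul_eq_zero h1
      have hc : Nat.Coprime (orderOf g) (q ^ k) :=
        Nat.Coprime.pow_right k (Nat.Coprime.coprime_dvd_left (orderOf_dvd_natCard g) hcop)
      have hone : addOrderOf (g • v - v) = 1 :=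
        Nat.eq_one_of_dvd_coprimes hc hd0 hd1
      exact sub_eq_zero.mp (AddMonoid.addOrderOf_eq_one_iff.mp hone)
    exact (inv_mul_eq_one.mp hg1).symm
  -- the orbits on the quotient have p-power length
  have hpp' : PP p H (V ⧸ W) := by
    intro x
    induction x using QuotientAddGroup.induction_on with
    | H v =>
      obtain ⟨a, ha⟩ := hpp v
      rw [card_orbit_eq_index] at ha ⊢
      have hle : MulAction.stabilizer H v ≤
          MulAction.stabilizer H (QuotientAddGroup.mk v : V ⧸ W) := by
        intro h hh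
        rw [MulAction.mem_stabilizer_iff] at hh ⊢
        rw [hmk, hh]
      have hd := Subgroup.index_dvd_of_le hle
      rw [ha] at hd
      obtain ⟨b, -, hb⟩ := (Nat.dvd_prime_pow hp.out).mp hd
      exact ⟨b, hb⟩
  -- cardinalities
  have hcardmul : Nat.card V = Nat.card (V ⧸ W) * Nat.card W :=
    AddSubgroup.card_eq_card_quotient_mul_card_addSubgroup W
  have hVq : ∃ k', Nat.card (V ⧸ W) = q ^ k' := by
    have hdvd : Nat.card (V ⧸ W) ∣ q ^ k := hk ▸ Dvd.intro _ hcardmul.symm
    obtain ⟨k', -, hk'⟩ := (Nat.dvd_prime_pow hq.out).mp hdvd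
    exact ⟨k', hk'⟩
  have hlt : Nat.card (V ⧸ W) < Nat.card V := by
    have hW1 : 1 < Nat.card W := by
      rw [Finite.one_lt_card_iff_nontrivial]
      exact (AddSubgroup.nontrivial_iff_ne_bot W).mpr hW0
    have hpos : 0 < Nat.card (V ⧸ W) := Nat.card_pos
    rw [hcardmul]
    nlinarith
  exact ih H (V ⧸ W) hVq hcop hpp' (by omega)

end Cfsg.Agent.Lib.Helper15.OrbLeaf
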