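import Mathlib

set_option autoImplicit false

/-!
# Arithmetic for the centralizer orders of involutions in `Ω⁺_{2m}(q)`
-/

namespace Cfsg.Agent.Lib.Helper15.OrthInvArith

open Finset

/-- `∏_{i<n} (q^{2(i+1)} - 1)` -/
def PP (q n : ℕ) : ℕ := ∏ i ∈ range n, (q ^ (2 * (i + 1)) - 1)

/-- the factor of the frame count -/
def ff (q m i : ℕ) : ℕ := q ^ i * ((q ^ (m - i) - 1) * (q ^ (m - i - 1) + 1))

theorem PP_succ (q n : ℕ) : PP q (n + 1) = PP q n * (q ^ (2 * (n + 1)) - 1) := by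
  unfold PP
  rw [prod_range_succ]

theorem PP_pos (q n : ℕ) (hq : 2 ≤ q) : 0 < PP q n := by
  unfold PP
  apply prod_pos
  intro i _
  have : 2 ≤ q ^ (2 * (i + 1)) := by
    calc 2 ≤ q := hq
      _ = q ^ 1 := (pow_one q).symm
      _ ≤ q ^ (2 * (i + 1)) := Nat.pow_le_pow_right (by omega) (by omega)
  omega

theorem sq_sub_one (q n : ℕ) (hq : 1 ≤ q) :
    (q ^ n + 1) * (q ^ n - 1) = q ^ (2 * n) - 1 := by
  have h1 : 1 ≤ q ^ n := Nat.one_le_pow _ _ hq
  obtain ⟨X, hX⟩ : ∃ X, q ^ n = X + 1 := ⟨_, (Nat.sub_add_cancel h1).symm⟩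
  have h2 : q ^ (2 * n) = q ^ n * q ^ n := by rw [← pow_add]; congr 1; ring
  rw [h2, hX]
  simp only [Nat.add_sub_cancel]
  have : (X + 1) * (X + 1) = (X + 1 + 1) * X + 1 := by ring
  rw [this, Nat.add_sub_cancel]

theorem ar1 (q : ℕ) (hq : 1 ≤ q) : ∀ k j : ℕ,
    (∏ i ∈ range k, ff q (k + j + 1) i) * ((q ^ (j + 1) - 1) * PP q j) =
      q ^ (∑ i ∈ range k, i) * ((q ^ (k + j + 1) - 1) * PP q (k + j)) := by
  intro k
  induction k with
  | zero =>
    intro j
    simp
  | succ k ih =>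
    intro j
    have h := ih (j + 1)
    have e1 : k + 1 + j + 1 = k + (j + 1) + 1 := by ring
    have e2 : k + 1 + j = k + (j + 1) := by ring
    have hp : q ^ (∑ x ∈ range k, x + k) = q ^ (∑ x ∈ range k, x) * q ^ k := pow_add _ _ _
    rw [prod_range_succ, sum_range_succ, e1, e2, hp, mul_assoc (q ^ ∑ x ∈ range k, x),
      mul_comm (q ^ k), ← mul_assoc (q ^ ∑ x ∈ range k, x), ← h, PP_succ]
    have e3 : ff q (k + (j + 1) + 1) k = q ^ k * ((q ^ (j + 1 + 1) - 1) * (q ^ (j + 1) + 1)) := by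
      unfold ff
      have a1 : k + (j + 1) + 1 - k = j + 1 + 1 := by omega
      have a2 : j + 1 + 1 - 1 = j + 1 := by omega
      rw [a1, a2]
    rw [e3, ← sq_sub_one q (j + 1) hq]
    ring

theorem pow_sub_one_pos (q n : ℕ) (hq : 2 ≤ q) : 0 < q ^ (n + 1) - 1 := by
  have : 2 ≤ q ^ (n + 1) := by
    calc 2 ≤ q := hq
      _ = q ^ 1 := (pow_one q).symm
      _ ≤ q ^ (n + 1) := Nat.pow_le_pow_right (by omega) (by omega)
  omega

/-- types `b`, `c` -/
theorem solve_na (q k j C CO G : ℕ) (hq : 2 ≤ q) (hC : 2 * CO = C)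
    (h : C * ((∏ i ∈ range k, ff q (k + j + 1) i) * ((q ^ (j + 1) - 1) * q ^ j * q ^ k)) =
      (2 * q ^ ((k + j + 1) * (k + j)) * (q ^ (k + j + 1) - 1) * PP q (k + j)) * G) :
    CO * q ^ ((∑ i ∈ range k, i) + j + k) = q ^ ((k + j + 1) * (k + j)) * G * PP q j := by
  have har := ar1 q (by omega) k j
  have hpos : 0 < 2 * ((q ^ (k + j + 1) - 1) * PP q (k + j)) :=
    Nat.mul_pos (by norm_num) (Nat.mul_pos (pow_sub_one_pos q (k + j) hq) (PP_pos q _ hq))
  apply Nat.eq_of_mul_eq_mul_right hpos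
  subst hC
  rw [pow_add, pow_add]
  generalize (q ^ (k + j + 1) - 1) = Y at *
  generalize (q ^ (j + 1) - 1) = X at *
  generalize (∏ i ∈ range k, ff q (k + j + 1) i) = A at *
  generalize q ^ (∑ i ∈ range k, i) = qT at *
  generalize q ^ ((k + j + 1) * (k + j)) = qM at *
  generalize PP q (k + j) = Pkj at *
  generalize PP q j = Pj at *
  generalize q ^ j = qj at *
  generalize q ^ k = qk at *
  zify at h har ⊢
  linear_combination (Pj : ℤ) * h - (2 * (CO : ℤ) * qj * qk) * har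

/-- type `a`, `s < m` -/
theorem solve_a (q s j C CO G : ℕ) (hq : 2 ≤ q) (hC : 2 * CO = C)
    (h : C * (∏ i ∈ range s, ff q (s + j + 1) i) =
      (2 * q ^ ((s + j + 1) * (s + j)) * (q ^ (s + j + 1) - 1) * PP q (s + j)) * G) :
    CO * q ^ (∑ i ∈ range s, i) =
      q ^ ((s + j + 1) * (s + j)) * G * ((q ^ (j + 1) - 1) * PP q j) := by
  have har := ar1 q (by omega) s j
  have hpos : 0 < 2 * ((q ^ (s + j + 1) - 1) * PP q (s + j)) :=
    Nat.mul_pos (by norm_num) (Nat.mul_pos (pow_sub_one_pos q (s + j) hq) (PP_pos q _ hq))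
  apply Nat.eq_of_mul_eq_mul_right hpos
  subst hC
  generalize (q ^ (s + j + 1) - 1) = Y at *
  generalize (q ^ (j + 1) - 1) = X at *
  generalize (∏ i ∈ range s, ff q (s + j + 1) i) = A at *
  generalize q ^ (∑ i ∈ range s, i) = qT at *
  generalize q ^ ((s + j + 1) * (s + j)) = qM at *
  generalize PP q (s + j) = Pkj at *
  generalize PP q j = Pj at *
  zify at h har ⊢
  linear_combination ((X : ℤ) * Pj) * h - (2 * (CO : ℤ)) * har

/-- type `a`, `s = m` -/
theorem solve_max (q k C G : ℕ) (hq : 2 ≤ q)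
    (h : C * (∏ i ∈ range (k + 1), ff q (k + 1) i) =
      (2 * q ^ ((k + 1) * k) * (q ^ (k + 1) - 1) * PP q k) * G) :
    C * q ^ (∑ i ∈ range (k + 1), i) = q ^ ((k + 1) * k) * G := by
  have har := ar1 q (by omega) k 0
  have hpos : 0 < 2 * ((q ^ (k + 1) - 1) * PP q k) :=
    Nat.mul_pos (by norm_num) (Nat.mul_pos (pow_sub_one_pos q k hq) (PP_pos q _ hq))
  apply Nat.eq_of_mul_eq_mul_right hpos
  rw [prod_range_succ] at h
  rw [sum_range_succ, pow_add]
  have e1 : ff q (k + 1) k = q ^ k * ((q ^ (0 + 1) - 1) * 2) := by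
    unfold ff
    have a1 : k + 1 - k = 0 + 1 := by omega
    have a2 : 0 + 1 - 1 = 0 := by omega
    rw [a1, a2, pow_zero]
  have e2 : PP q 0 = 1 := by unfold PP; simp
  rw [e1] at h
  rw [e2, mul_one] at har
  simp only [Nat.add_zero] at har
  generalize (q ^ (k + 1) - 1) = Y at *
  generalize (q ^ (0 + 1) - 1) = X at *
  generalize (∏ i ∈ range k, ff q (k + 1) i) = A at *
  generalize q ^ (∑ i ∈ range k, i) = qT at *
  generalize q ^ ((k + 1) * k) = qM at *
  generalize PP q k = Pk at *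
  generalize q ^ k = qk at *
  zify at h har ⊢
  linear_combination h - (2 * (C : ℤ) * qk) * har

theorem tri (k : ℕ) : (∑ i ∈ range k, i) * 2 = k * (k - 1) := Finset.sum_range_id_mul_two k

theorem exp_b (m s k j T : ℕ) (hs : s = k + 1) (hm : m = k + j + 1) (hT : T * 2 = k * (k - 1)) :
    2 * m * (s - 1) - (3 * s ^ 2 - 3 * s) / 2 + (m - s) ^ 2 + (T + j + k) =
      (k + j + 1) * (k + j) := by
  subst hs hm
  have hle : k ≤ k * k := Nat.le_mul_self k
  have e0 : k * (k - 1) = k * k - k := Nat.mul_sub_one k k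
  rw [e0] at hT
  have e1 : k + 1 - 1 = k := by omega
  have e2 : k + j + 1 - (k + 1) = j := by omega
  have e3 : 2 * (k + j + 1) * k = 2 * (k * k) + 2 * (k * j) + 2 * k := by ring
  have e4 : 3 * (k + 1) ^ 2 = 3 * (k * k) + 6 * k + 3 := by ring
  have e5 : (k + j + 1) * (k + j) = k * k + 2 * (k * j) + j * j + k + j := by ring
  have e6 : j ^ 2 = j * j := by ring
  rw [e1, e2, e3, e4, e5, e6]
  generalize k * k = K2 at *
  generalize k * j = KJ at *
  generalize j * j = J2 at *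
  omega

theorem exp_c (m s k j T : ℕ) (hs : s = k + 1) (hk : 1 ≤ k) (hm : m = k + j + 1)
    (hT : T * 2 = k * (k - 1)) :
    2 * m * (s - 1) - (3 * s ^ 2 - 5 * s) / 2 - 1 + (m - s) ^ 2 + (T + j + k) =
      (k + j + 1) * (k + j) + k := by
  subst hs hm
  have hle : k ≤ k * k := Nat.le_mul_self k
  have e0 : k * (k - 1) = k * k - k := Nat.mul_sub_one k k
  rw [e0] at hT
  have e1 : k + 1 - 1 = k := by omega
  have e2 : k + j + 1 - (k + 1) = j := by omega
  have e3 : 2 * (k + j + 1) * k = 2 * (k * k) + 2 * (k * j) + 2 * k := by ring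
  have e4 : 3 * (k + 1) ^ 2 = 3 * (k * k) + 6 * k + 3 := by ring
  have e5 : (k + j + 1) * (k + j) = k * k + 2 * (k * j) + j * j + k + j := by ring
  have e6 : j ^ 2 = j * j := by ring
  rw [e1, e2, e3, e4, e5, e6]
  generalize k * k = K2 at *
  generalize k * j = KJ at *
  generalize j * j = J2 at *
  omega

theorem exp_a (m s j T : ℕ) (hm : m = s + j + 1) (hT : T * 2 = s * (s - 1)) :
    2 * m * s - (3 * s ^ 2 + s) / 2 + (m - s) * (m - s - 1) + T = (s + j + 1) * (s + j) := by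
  subst hm
  have hle : s ≤ s * s := Nat.le_mul_self s
  have e0 : s * (s - 1) = s * s - s := Nat.mul_sub_one s s
  rw [e0] at hT
  have e1 : s + j + 1 - s = j + 1 := by omega
  have e2 : j + 1 - 1 = j := by omega
  have e3 : 2 * (s + j + 1) * s = 2 * (s * s) + 2 * (s * j) + 2 * s := by ring
  have e4 : 3 * s ^ 2 = 3 * (s * s) := by ring
  have e5 : (s + j + 1) * (s + j) = s * s + 2 * (s * j) + j * j + s + j := by ring
  have e6 : (j + 1) * j = j * j + j := by ring
  rw [e1, e2, e3, e4, e5, e6]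
  generalize s * s = K2 at *
  generalize s * j = KJ at *
  generalize j * j = J2 at *
  omega

theorem exp_max (k T : ℕ) (hT : T * 2 = (k + 1) * (k + 1 - 1)) :
    2 * (k + 1) * (k + 1) - (3 * (k + 1) ^ 2 + (k + 1)) / 2 + T = (k + 1) * k := by
  have e1 : k + 1 - 1 = k := by omega
  rw [e1] at hT
  have e3 : 2 * (k + 1) * (k + 1) = 2 * (k * k) + 4 * k + 2 := by ring
  have e4 : 3 * (k + 1) ^ 2 = 3 * (k * k) + 6 * k + 3 := by ring
  have e5 : (k + 1) * k = k * k + k := by ring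
  rw [e3, e4, e5]
  rw [e5] at hT
  generalize k * k = K2 at *
  omega

end Cfsg.Agent.Lib.Helper15.OrthInvArith
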