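import Mathlib
import Cfsg.Prelude.Def_ClassicalGeometry
import Cfsg.Agent.Lib.Helper15.SymIso
import Cfsg.Agent.S0775

/-! Helper15 library: centralizers of involutions of `Sp_2m(q)`, `q` even, as preimages of
isometry groups of a symmetric form on the image of `t - 1` under the restriction map from the
parabolic subgroup stabilizing that image. -/

set_option autoImplicit false

namespace Cfsg.Agent.Lib.Helper15.SpInvCent

open Module Matrix Cfsg.Agent.Lib.Helper15 Cfsg.Agent.Lib.Helper15.SymIso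

section setup

variable {F : Type*} [Field F] [CharP F 2] {m : ℕ}

/-- the nilpotent part -/
def Nm (t : Matrix.symplecticGroup (Fin m) F) : Matrix (Fin m ⊕ Fin m) (Fin m ⊕ Fin m) F :=
  t.1 - 1

variable (t : Matrix.symplecticGroup (Fin m) F)

lemma Nm_mulVec (v : Fin m ⊕ Fin m → F) : Nm t *ᵥ v = t.1 *ᵥ v - v := by
  unfold Nm
  rw [Matrix.sub_mulVec, Matrix.one_mulVec]

lemma two_zero : (2 : F) = 0 := by
  have := CharP.cast_eq_zero F 2
  exact_mod_cast this

variable (ht : t * t = 1)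

include ht in
lemma tt_mulVec (v : Fin m ⊕ Fin m → F) : t.1 *ᵥ (t.1 *ᵥ v) = v := by
  have h : (t * t).1 = 1 := by rw [ht]; rfl
  have h2 : t.1 * t.1 = 1 := h
  rw [Matrix.mulVec_mulVec, h2, Matrix.one_mulVec]

include ht in
lemma Nm_adj (u v : Fin m ⊕ Fin m → F) :
    Cfsg.sympForm m F (Nm t *ᵥ u) v = Cfsg.sympForm m F u (Nm t *ᵥ v) := by
  rw [Nm_mulVec, Nm_mulVec, Cfsg.Agent.Lib.Helper5.sympForm_sub_left,
    Cfsg.Agent.Lib.Helper5.sympForm_sub_right]
  congr 1
  have h1 := sympForm_invariant m t u (t.1 *ᵥ v)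
  rw [tt_mulVec t ht] at h1
  exact h1

include ht in
lemma Nm_sq (v : Fin m ⊕ Fin m → F) : Nm t *ᵥ (Nm t *ᵥ v) = 0 := by
  rw [Nm_mulVec, Nm_mulVec, Matrix.mulVec_sub, tt_mulVec t ht]
  have h2 : (2 : F) = 0 := two_zero
  have : v - t.1 *ᵥ v - (t.1 *ᵥ v - v) = (2 : F) • (v - t.1 *ᵥ v) := by
    rw [two_smul]
    abel
  rw [this, h2, zero_smul]

/-- the image of `t - 1` -/
def Wt : Submodule F (Fin m ⊕ Fin m → F) := LinearMap.range (Matrix.toLin' (Nm t))

lemma mem_Wt (w : Fin m ⊕ Fin m → F) : w ∈ Wt t ↔ ∃ u, Nm t *ᵥ u = w := by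
  unfold Wt
  rw [LinearMap.mem_range]
  simp only [Matrix.toLin'_apply]

lemma Nm_mem (u : Fin m ⊕ Fin m → F) : Nm t *ᵥ u ∈ Wt t := (mem_Wt t _).2 ⟨u, rfl⟩

lemma finrank_Wt : finrank F (Wt t) = (Nm t).rank := by
  unfold Wt Matrix.rank
  rw [Matrix.toLin'_apply']

include ht in
lemma Wt_ti (u v : Fin m ⊕ Fin m → F) (hu : u ∈ Wt t) (hv : v ∈ Wt t) :
    Cfsg.sympForm m F u v = 0 := by
  obtain ⟨a, rfl⟩ := (mem_Wt t u).1 hu
  obtain ⟨b, rfl⟩ := (mem_Wt t v).1 hv
  rw [Nm_adj t ht, Nm_sq t ht, Cfsg.Agent.Lib.Helper14.sympForm_zero_right]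

lemma sympForm_eq_zero_imp (x : Fin m ⊕ Fin m → F)
    (h : ∀ v, Cfsg.sympForm m F x v = 0) : x = 0 := by
  by_contra hx
  obtain ⟨a, ha⟩ := Cfsg.Agent.Lib.Helper5.sympForm_nondeg x hx
  exact ha (h a)

include ht in
lemma perp_Wt (x : Fin m ⊕ Fin m → F) (h : ∀ w ∈ Wt t, Cfsg.sympForm m F x w = 0) :
    Nm t *ᵥ x = 0 := by
  apply sympForm_eq_zero_imp
  intro v
  rw [Nm_adj t ht]
  exact h _ (Nm_mem t v)

include ht in
lemma finrank_Wt_le : finrank F (Wt t) ≤ m := by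
  have h1 := LinearMap.finrank_range_add_finrank_ker (Matrix.toLin' (Nm t))
  have h2 : LinearMap.range (Matrix.toLin' (Nm t)) ≤ LinearMap.ker (Matrix.toLin' (Nm t)) := by
    rintro _ ⟨u, rfl⟩
    rw [LinearMap.mem_ker, Matrix.toLin'_apply, Matrix.toLin'_apply, Nm_sq t ht]
  have h3 := Submodule.finrank_mono h2
  rw [Module.finrank_fintype_fun_eq_card, Fintype.card_sum, Fintype.card_fin] at h1
  unfold Wt
  omega


/-- a linear section of `t - 1` on its image -/
noncomputable def sec : Wt t →ₗ[F] (Fin m ⊕ Fin m → F) :=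
  Classical.choose ((Matrix.toLin' (Nm t)).rangeRestrict.exists_rightInverse_of_surjective
    (LinearMap.range_eq_top.2 (LinearMap.surjective_rangeRestrict _)))

lemma Nm_sec (w : Wt t) : Nm t *ᵥ (sec t w) = w.1 := by
  have h := Classical.choose_spec
    ((Matrix.toLin' (Nm t)).rangeRestrict.exists_rightInverse_of_surjective
    (LinearMap.range_eq_top.2 (LinearMap.surjective_rangeRestrict _)))
  have h1 := congrArg (fun f : Wt t →ₗ[F] Wt t => (f w).1) h
  rw [← Matrix.toLin'_apply]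
  exact h1

/-- the symmetric form on the image of `t - 1` -/
noncomputable def gam : LinearMap.BilinForm F (Wt t) :=
  (sympBilin m (F := F)).compl₁₂ (sec t) (Wt t).subtype

lemma gam_apply (w w' : Wt t) : gam t w w' = Cfsg.sympForm m F (sec t w) w'.1 := by
  unfold gam
  rw [LinearMap.compl₁₂_apply, sympBilin_apply]
  rfl

include ht in
lemma gam_eq (u : Fin m ⊕ Fin m → F) (w : Wt t) (hu : Nm t *ᵥ u = w.1) (w' : Wt t) :
    gam t w w' = Cfsg.sympForm m F u w'.1 := by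
  rw [gam_apply]
  obtain ⟨v, hv⟩ := (mem_Wt t w'.1).1 w'.2
  rw [← hv, ← Nm_adj t ht, ← Nm_adj t ht, Nm_sec, hu]

include ht in
lemma gam_symm (w w' : Wt t) : gam t w w' = gam t w' w := by
  obtain ⟨u, hu⟩ := (mem_Wt t w.1).1 w.2
  obtain ⟨v, hv⟩ := (mem_Wt t w'.1).1 w'.2
  rw [gam_eq t ht u w hu, gam_eq t ht v w' hv, ← hu, ← hv, ← Nm_adj t ht, sympForm_comm]

include ht in
lemma gam_nondeg (w : Wt t) (h : ∀ w', gam t w w' = 0) : w = 0 := by
  obtain ⟨u, hu⟩ := (mem_Wt t w.1).1 w.2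
  apply Subtype.ext
  rw [← hu]
  apply sympForm_eq_zero_imp
  intro v
  rw [Nm_adj t ht]
  have := h ⟨_, Nm_mem t v⟩
  rw [gam_eq t ht u w hu] at this
  exact this

include ht in
lemma gam_self (u : Fin m ⊕ Fin m → F) :
    gam t ⟨_, Nm_mem t u⟩ ⟨_, Nm_mem t u⟩ = Cfsg.sympForm m F u (t.1 *ᵥ u) := by
  rw [gam_eq t ht u _ rfl]
  show Cfsg.sympForm m F u (Nm t *ᵥ u) = _
  rw [Nm_mulVec, Cfsg.Agent.Lib.Helper5.sympForm_sub_right, Cfsg.Agent.Lib.Helper5.sympForm_self,
    sub_zero]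


/-- the parabolic subgroup stabilizing the image of `t - 1` -/
def Pt : Subgroup (Matrix.symplecticGroup (Fin m) F) :=
  Cfsg.stabilizing (Cfsg.spToMat m F) (Wt t : Set (Fin m ⊕ Fin m → F))

lemma mem_Pt (g : Matrix.symplecticGroup (Fin m) F) :
    g ∈ Pt t ↔ ∀ v, v ∈ Wt t ↔ g.1 *ᵥ v ∈ Wt t := Iff.rfl

lemma sp_inv_mulVec (g : Matrix.symplecticGroup (Fin m) F) (v : Fin m ⊕ Fin m → F) :
    (g⁻¹).1 *ᵥ (g.1 *ᵥ v) = v := by
  rw [Matrix.mulVec_mulVec, sp_val_inv_mul, Matrix.one_mulVec]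

lemma sp_mulVec_inv (g : Matrix.symplecticGroup (Fin m) F) (v : Fin m ⊕ Fin m → F) :
    g.1 *ᵥ ((g⁻¹).1 *ᵥ v) = v := by
  rw [Matrix.mulVec_mulVec, sp_val_mul_inv, Matrix.one_mulVec]

lemma sp_mulVec_inj (g : Matrix.symplecticGroup (Fin m) F) (u v : Fin m ⊕ Fin m → F)
    (h : g.1 *ᵥ u = g.1 *ᵥ v) : u = v := by
  rw [← sp_inv_mulVec g u, h, sp_inv_mulVec]

/-- restriction to the image of `t - 1` -/
noncomputable def rho : Pt t →* (Wt t ≃ₗ[F] Wt t) where
  toFun g := LinearEquiv.ofBijective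
    ((Matrix.toLin' g.1.1).restrict (p := Wt t) (q := Wt t)
      (fun v hv => by rw [Matrix.toLin'_apply]; exact ((mem_Pt t g.1).1 g.2 v).1 hv))
    (by
      have hinj : Function.Injective ((Matrix.toLin' g.1.1).restrict (p := Wt t) (q := Wt t)
          (fun v hv => by rw [Matrix.toLin'_apply]; exact ((mem_Pt t g.1).1 g.2 v).1 hv)) := by
        intro a b hab
        apply Subtype.ext
        have h1 := congrArg Subtype.val hab
        simp only [LinearMap.coe_restrict_apply, Matrix.toLin'_apply] at h1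
        exact sp_mulVec_inj g.1 _ _ h1
      exact ⟨hinj, LinearMap.injective_iff_surjective.1 hinj⟩)
  map_one' := by
    apply LinearEquiv.ext
    intro w
    apply Subtype.ext
    show Matrix.toLin' ((1 : Pt t).1.1) w.1 = w.1
    rw [Matrix.toLin'_apply]
    show (1 : Matrix (Fin m ⊕ Fin m) (Fin m ⊕ Fin m) F) *ᵥ w.1 = w.1
    rw [Matrix.one_mulVec]
  map_mul' g g' := by
    apply LinearEquiv.ext
    intro w
    apply Subtype.ext
    show Matrix.toLin' ((g * g').1.1) w.1 = Matrix.toLin' g.1.1 (Matrix.toLin' g'.1.1 w.1)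
    rw [Matrix.toLin'_apply, Matrix.toLin'_apply, Matrix.toLin'_apply, Matrix.mulVec_mulVec]
    rfl

lemma rho_apply (g : Pt t) (w : Wt t) : ((rho t g) w).1 = g.1.1 *ᵥ w.1 := by
  show Matrix.toLin' g.1.1 w.1 = _
  rw [Matrix.toLin'_apply]

lemma comm_iff (g : Matrix.symplecticGroup (Fin m) F) :
    g * t = t * g ↔ ∀ u, g.1 *ᵥ (Nm t *ᵥ u) = Nm t *ᵥ (g.1 *ᵥ u) := by
  constructor
  · intro h u
    have h1 : g.1 * t.1 = t.1 * g.1 := congrArg Subtype.val h
    rw [Nm_mulVec, Nm_mulVec, Matrix.mulVec_sub, Matrix.mulVec_mulVec, Matrix.mulVec_mulVec, h1]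
  · intro h
    apply Subtype.ext
    show g.1 * t.1 = t.1 * g.1
    apply Matrix.toLin'.injective
    apply LinearMap.ext
    intro u
    rw [Matrix.toLin'_apply, Matrix.toLin'_apply, ← Matrix.mulVec_mulVec, ← Matrix.mulVec_mulVec]
    have h1 := h u
    rw [Nm_mulVec, Nm_mulVec, Matrix.mulVec_sub] at h1
    exact sub_left_inj.1 h1

lemma cent_le_Pt (g : Matrix.symplecticGroup (Fin m) F)
    (hg : g ∈ Subgroup.centralizer ({t} : Set (Matrix.symplecticGroup (Fin m) F))) :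
    g ∈ Pt t := by
  have key : ∀ g' : Matrix.symplecticGroup (Fin m) F,
      g' ∈ Subgroup.centralizer ({t} : Set (Matrix.symplecticGroup (Fin m) F)) →
      ∀ v, v ∈ Wt t → g'.1 *ᵥ v ∈ Wt t := by
    intro g' hg' v hv
    rw [Subgroup.mem_centralizer_singleton_iff] at hg'
    obtain ⟨u, rfl⟩ := (mem_Wt t v).1 hv
    rw [(comm_iff t g').1 hg' u]
    exact Nm_mem t _
  rw [mem_Pt]
  intro v
  constructor
  · exact key g hg v
  · intro hv
    have := key g⁻¹ (Subgroup.inv_mem _ hg) _ hv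
    rw [sp_inv_mulVec] at this
    exact this

include ht in
lemma cent_iff (g : Pt t) :
    g.1 ∈ Subgroup.centralizer ({t} : Set (Matrix.symplecticGroup (Fin m) F)) ↔
      rho t g ∈ Og (gam t) := by
  rw [Subgroup.mem_centralizer_singleton_iff, comm_iff, mem_Og]
  constructor
  · intro h w w'
    obtain ⟨u, hu⟩ := (mem_Wt t w.1).1 w.2
    have h1 : Nm t *ᵥ (g.1.1 *ᵥ u) = ((rho t g) w).1 := by
      rw [rho_apply, ← hu, h u]
    rw [gam_eq t ht _ _ h1, gam_eq t ht u w hu, rho_apply, sympForm_invariant]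
  · intro h u
    obtain ⟨u', hu'⟩ := (mem_Wt t _).1 ((rho t g) ⟨_, Nm_mem t u⟩).2
    rw [rho_apply] at hu'
    have hu2 : Nm t *ᵥ u' = ((rho t g) ⟨_, Nm_mem t u⟩).1 := by rw [rho_apply]; exact hu'
    rw [← hu']
    -- show N u' = N (g u)
    have h3 : Nm t *ᵥ (u' - g.1.1 *ᵥ u) = 0 := by
      apply perp_Wt t ht
      intro w'' hw''
      -- w'' = g w'
      have hw' : (g.1⁻¹).1 *ᵥ w'' ∈ Wt t := by
        apply ((mem_Pt t g.1).1 g.2 _).2
        rw [sp_mulVec_inv]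
        exact hw''
      have h4 := h ⟨_, Nm_mem t u⟩ ⟨_, hw'⟩
      rw [gam_eq t ht u' _ hu2, gam_eq t ht u _ rfl, rho_apply] at h4
      simp only [sp_mulVec_inv] at h4
      rw [Cfsg.Agent.Lib.Helper5.sympForm_sub_left, h4]
      have h5 := sympForm_invariant m g.1 u ((g.1⁻¹).1 *ᵥ w'')
      rw [sp_mulVec_inv] at h5
      rw [h5, sub_self]
    rw [Matrix.mulVec_sub, sub_eq_zero] at h3
    exact h3


include ht in
lemma rho_surjective : Function.Surjective (rho t) := by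
  intro h
  set s := finrank F (Wt t) with hs
  let b : Basis (Fin s) F (Wt t) := Module.finBasis F (Wt t)
  let x : Fin s → (Fin m ⊕ Fin m → F) := fun i => (b i).1
  let y : Fin s → (Fin m ⊕ Fin m → F) := fun i => (h (b i)).1
  have hx : LinearIndependent F x :=
    b.linearIndependent.map' (Wt t).subtype (Submodule.ker_subtype _)
  have hy : LinearIndependent F y :=
    (b.map h).linearIndependent.map' (Wt t).subtype (Submodule.ker_subtype _)
  obtain ⟨A, hA⟩ := Cfsg.Agent.S2166.S2166aux.sp_witt_tuple s x y hx hy (fun i j => by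
    rw [Wt_ti t ht _ _ (b i).2 (b j).2, Wt_ti t ht _ _ (h (b i)).2 (h (b j)).2])
  -- A maps W to W
  have hmap : ∀ w : Wt t, A.1 *ᵥ w.1 = (h w).1 := by
    intro w
    have h1 : w = ∑ i, b.repr w i • b i := (b.sum_repr w).symm
    have h2 : w.1 = ∑ i, b.repr w i • x i := by
      conv_lhs => rw [h1]
      rw [Submodule.coe_sum]
      rfl
    have h3 : (h w).1 = ∑ i, b.repr w i • y i := by
      conv_lhs => rw [h1]
      rw [map_sum, Submodule.coe_sum]
      apply Finset.sum_congr rfl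
      intro i _
      rw [map_smul]
      rfl
    rw [h2, h3, Matrix.mulVec_sum]
    apply Finset.sum_congr rfl
    intro i _
    rw [Matrix.mulVec_smul, hA]
  have hAP : A ∈ Pt t := by
    rw [mem_Pt]
    intro v
    constructor
    · intro hv
      have := hmap ⟨v, hv⟩
      rw [this]
      exact (h ⟨v, hv⟩).2
    · intro hv
      obtain ⟨w, hw⟩ := h.surjective ⟨_, hv⟩
      have h1 := hmap w
      rw [hw] at h1
      have h2 : w.1 = v := sp_mulVec_inj A _ _ h1
      rw [← h2]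
      exact w.2
  refine ⟨⟨A, hAP⟩, ?_⟩
  apply LinearEquiv.ext
  intro w
  apply Subtype.ext
  rw [rho_apply]
  exact hmap w

include ht in
theorem card_cent_mul :
    Nat.card (Subgroup.centralizer ({t} : Set (Matrix.symplecticGroup (Fin m) F))) *
      Nat.card (Wt t ≃ₗ[F] Wt t) = Nat.card (Pt t) * Nat.card (Og (gam t)) := by
  have h1 : Nat.card (Subgroup.centralizer ({t} : Set (Matrix.symplecticGroup (Fin m) F))) =
      Nat.card ((Og (gam t)).comap (rho t)) := by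
    apply Nat.card_congr
    refine
      { toFun := fun g => ⟨⟨g.1, cent_le_Pt t g.1 g.2⟩, ?_⟩
        invFun := fun g => ⟨g.1.1, ?_⟩
        left_inv := fun g => rfl
        right_inv := fun g => rfl }
    · rw [Subgroup.mem_comap]
      exact (cent_iff t ht ⟨g.1, cent_le_Pt t g.1 g.2⟩).1 g.2
    · exact (cent_iff t ht g.1).2 (Subgroup.mem_comap.1 g.2)
  have h2 := Subgroup.index_comap_of_surjective (Og (gam t)) (rho_surjective t ht)
  have h3 := Subgroup.card_mul_index ((Og (gam t)).comap (rho t))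
  have h4 := Subgroup.card_mul_index (Og (gam t))
  rw [h1, ← h3, ← h4, h2]
  ring

end setup

section glcard

variable {F : Type*} [Field F] [Fintype F]

theorem card_linearEquiv (W : Type*) [AddCommGroup W] [Module F W] [FiniteDimensional F W] :
    Nat.card (W ≃ₗ[F] W) =
      ∏ i : Fin (finrank F W), (Fintype.card F ^ finrank F W - Fintype.card F ^ (i : ℕ)) := by
  classical
  rw [← Matrix.card_GL_field]
  let e : W ≃ₗ[F] (Fin (finrank F W) → F) := (Module.finBasis F W).equivFun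
  have e1 : (W ≃ₗ[F] W) ≃ ((Fin (finrank F W) → F) ≃ₗ[F] (Fin (finrank F W) → F)) :=
    { toFun := fun h => e.symm.trans (h.trans e)
      invFun := fun h => e.trans (h.trans e.symm)
      left_inv := fun h => by
        apply LinearEquiv.ext
        intro w
        simp
      right_inv := fun h => by
        apply LinearEquiv.ext
        intro w
        simp }
  rw [Nat.card_congr e1,
    Nat.card_congr (LinearMap.GeneralLinearGroup.generalLinearEquiv F
      (Fin (finrank F W) → F)).symm.toEquiv,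
    Nat.card_congr (Matrix.GeneralLinearGroup.toLin (n := Fin (finrank F W)) (R := F)).symm.toEquiv]



theorem card_linearEquiv' (W : Type*) [AddCommGroup W] [Module F W] [FiniteDimensional F W]
    (s : ℕ) (hs : finrank F W = s) :
    Nat.card (W ≃ₗ[F] W) = ∏ i : Fin s, (Fintype.card F ^ s - Fintype.card F ^ (i : ℕ)) := by
  subst hs
  exact card_linearEquiv W

lemma gl_pos (q s : ℕ) (hq : 2 ≤ q) : 0 < ∏ i : Fin s, (q ^ s - q ^ (i : ℕ)) := by
  apply Finset.prod_pos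
  intro i _
  have : q ^ (i : ℕ) < q ^ s := Nat.pow_lt_pow_right (by omega) i.2
  omega

end glcard


section final

variable {F : Type*} [Field F] [Fintype F] [CharP F 2] {m : ℕ}

/-- the centralizer order of an involution in terms of the isometry group of `gam` -/
theorem card_cent {q : ℕ} (hF : Fintype.card F = q) (t : Matrix.symplecticGroup (Fin m) F)
    (ht : t * t = 1) (s : ℕ) (hs : (t.1 - 1).rank = s) :
    Nat.card (Subgroup.centralizer ({t} : Set (Matrix.symplecticGroup (Fin m) F))) =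
      q ^ (s * (s + 1) / 2 + 2 * s * (m - s)) *
        (q ^ ((m - s) ^ 2) * ∏ i ∈ Finset.range (m - s), (q ^ (2 * (i + 1)) - 1)) *
        Nat.card (Og (gam t)) := by
  have hq : 2 ≤ q := by
    rw [← hF]
    exact Fintype.one_lt_card
  have hfr : finrank F (Wt t) = s := by rw [finrank_Wt]; exact hs
  have hsm : s ≤ m := by rw [← hfr]; exact finrank_Wt_le t ht
  have h := card_cent_mul t ht
  rw [card_linearEquiv' (Wt t) s hfr, hF] at h
  have hP : Nat.card (Pt t) = q ^ (s * (s + 1) / 2 + 2 * s * (m - s)) *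
        (q ^ ((m - s) ^ 2) * ∏ i ∈ Finset.range (m - s), (q ^ (2 * (i + 1)) - 1)) *
        ∏ i : Fin s, (q ^ s - q ^ (i : ℕ)) :=
    Cfsg.Agent.S0775.main hF m s hsm (Wt t) hfr (fun u hu v hv => Wt_ti t ht u v hu hv)
  rw [hP] at h
  apply Nat.eq_of_mul_eq_mul_right (gl_pos q s hq)
  rw [h]
  ring


lemma exp_arith (m s : ℕ) (hsm : s ≤ m) :
    s * (s + 1) / 2 + 2 * s * (m - s) = 2 * m * s - (3 * s ^ 2 - s) / 2 := by
  obtain ⟨d, rfl⟩ := Nat.exists_eq_add_of_le hsm
  obtain ⟨A, hA⟩ : ∃ A, s * s + s = 2 * A := by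
    have := Nat.even_mul_succ_self s
    obtain ⟨r, hr⟩ := this
    exact ⟨r, by rw [← two_mul] at hr; rw [← hr]; ring⟩
  have hle : s ≤ s * s := Nat.le_mul_self s
  have e1 : s * (s + 1) = s * s + s := by ring
  have e2 : 2 * s * (s + d - s) = 2 * (s * d) := by
    rw [Nat.add_sub_cancel_left]
    ring
  have e3 : 2 * (s + d) * s = 2 * (s * s) + 2 * (s * d) := by ring
  have e4 : 3 * s ^ 2 = 3 * (s * s) := by ring
  rw [e1, e2, e3, e4]
  generalize s * s = S2 at *
  generalize s * d = SD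
  omega

lemma exp_arith_c (m k : ℕ) (hsm : 2 * k + 2 ≤ m) :
    (2 * k + 2) * (2 * k + 2 + 1) / 2 + 2 * (2 * k + 2) * (m - (2 * k + 2)) + (2 * k + 1) =
      2 * m * (2 * k + 2) - (3 * (2 * k + 2) ^ 2 - 3 * (2 * k + 2)) / 2 - 1 := by
  have h := exp_arith m (2 * k + 2) hsm
  rw [h]
  obtain ⟨d, rfl⟩ := Nat.exists_eq_add_of_le hsm
  have e3 : 2 * (2 * k + 2 + d) * (2 * k + 2) = 8 * (k * k) + 16 * k + 8 + 4 * (k * d) + 4 * d := by
    ring
  have e4 : 3 * (2 * k + 2) ^ 2 = 12 * (k * k) + 24 * k + 12 := by ring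
  rw [e3, e4]
  generalize k * k = K2
  generalize k * d = KD
  omega

lemma sp_prod (q k : ℕ) :
    ∏ i ∈ Finset.range k, (q ^ (2 * (i + 1)) - 1) = ∏ i : Fin k, (q ^ (2 * ((i : ℕ) + 1)) - 1) :=
  (Fin.prod_univ_eq_prod_range (fun i => q ^ (2 * (i + 1)) - 1) k).symm

/-- type `b_s`: `s` odd -/
theorem main_b {q : ℕ} (hF : Fintype.card F = q) {s : ℕ} (t : Matrix.symplecticGroup (Fin m) F)
    (ht : t ^ 2 = 1) (hs : (t.1 - 1).rank = s) (hodd : Odd s) :
    Nat.card ↥(Subgroup.centralizer ({t} : Set ↥(Matrix.symplecticGroup (Fin m) F))) =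
      q ^ (2 * m * s - (3 * s ^ 2 - s) / 2) *
        ((q : ℕ) ^ (((s - 1) / 2) ^ 2) * ∏ i : Fin ((s - 1) / 2), (q ^ (2 * ((i : ℕ) + 1)) - 1)) *
        ((q : ℕ) ^ ((m - s) ^ 2) * ∏ i : Fin (m - s), (q ^ (2 * ((i : ℕ) + 1)) - 1)) := by
  have ht' : t * t = 1 := by rw [← pow_two]; exact ht
  have hfr : finrank F (Wt t) = s := by rw [finrank_Wt]; exact hs
  have hsm : s ≤ m := by rw [← hfr]; exact finrank_Wt_le t ht'
  obtain ⟨k, hk⟩ := hodd
  have hk' : (s - 1) / 2 = k := by omega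
  rw [card_cent hF t ht' s hs,
    card_Og_odd (gam t) (gam_symm t ht') (gam_nondeg t ht') k (by rw [hfr, hk]),
    Cfsg.Agent.Lib.Helper14.card_symplectic, hF, exp_arith m s hsm, hk', sp_prod, sp_prod]
  ring

/-- type `a_s`: `s` even, alternating -/
theorem main_a {q : ℕ} (hF : Fintype.card F = q) {s : ℕ} (t : Matrix.symplecticGroup (Fin m) F)
    (ht : t ^ 2 = 1) (hs : (t.1 - 1).rank = s) (heven : Even s)
    (halt : ∀ v : Fin m ⊕ Fin m → F, Cfsg.sympForm m F v (t.1.mulVec v) = 0) :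
    Nat.card ↥(Subgroup.centralizer ({t} : Set ↥(Matrix.symplecticGroup (Fin m) F))) =
      q ^ (2 * m * s - (3 * s ^ 2 - s) / 2) *
        ((q : ℕ) ^ ((s / 2) ^ 2) * ∏ i : Fin (s / 2), (q ^ (2 * ((i : ℕ) + 1)) - 1)) *
        ((q : ℕ) ^ ((m - s) ^ 2) * ∏ i : Fin (m - s), (q ^ (2 * ((i : ℕ) + 1)) - 1)) := by
  have ht' : t * t = 1 := by rw [← pow_two]; exact ht
  have hfr : finrank F (Wt t) = s := by rw [finrank_Wt]; exact hs
  have hsm : s ≤ m := by rw [← hfr]; exact finrank_Wt_le t ht'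
  obtain ⟨k, hk⟩ := heven
  have hk' : s / 2 = k := by omega
  have halt' : ∀ w : Wt t, gam t w w = 0 := by
    intro w
    obtain ⟨u, hu⟩ := (mem_Wt t w.1).1 w.2
    have h1 : w = ⟨_, Nm_mem t u⟩ := Subtype.ext hu.symm
    rw [h1, gam_self t ht']
    exact halt u
  rw [card_cent hF t ht' s hs,
    card_Og_alt (Wt t) (gam t) halt' (gam_nondeg t ht') k (by rw [hfr, hk]; ring),
    Cfsg.Agent.Lib.Helper14.card_symplectic, hF, exp_arith m s hsm, hk', sp_prod, sp_prod]
  ring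

/-- type `c_s`: `s` even, not alternating -/
theorem main_c {q : ℕ} (hF : Fintype.card F = q) {s : ℕ} (t : Matrix.symplecticGroup (Fin m) F)
    (ht : t ^ 2 = 1) (hs : (t.1 - 1).rank = s) (heven : Even s)
    (hna : ∃ v : Fin m ⊕ Fin m → F, Cfsg.sympForm m F v (t.1.mulVec v) ≠ 0) :
    Nat.card ↥(Subgroup.centralizer ({t} : Set ↥(Matrix.symplecticGroup (Fin m) F))) =
      q ^ (2 * m * s - (3 * s ^ 2 - 3 * s) / 2 - 1) *
        ((q : ℕ) ^ (((s - 2) / 2) ^ 2) * ∏ i : Fin ((s - 2) / 2), (q ^ (2 * ((i : ℕ) + 1)) - 1)) *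
        ((q : ℕ) ^ ((m - s) ^ 2) * ∏ i : Fin (m - s), (q ^ (2 * ((i : ℕ) + 1)) - 1)) := by
  have ht' : t * t = 1 := by rw [← pow_two]; exact ht
  have hfr : finrank F (Wt t) = s := by rw [finrank_Wt]; exact hs
  have hsm : s ≤ m := by rw [← hfr]; exact finrank_Wt_le t ht'
  have hna' : ∃ w : Wt t, gam t w w ≠ 0 := by
    obtain ⟨u, hu⟩ := hna
    refine ⟨⟨_, Nm_mem t u⟩, ?_⟩
    rw [gam_self t ht']
    exact hu
  have hs0 : s ≠ 0 := by
    intro h0
    rw [h0] at hfr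
    obtain ⟨w, hw⟩ := hna'
    have : w = 0 := by
      have := Module.finrank_zero_iff.1 hfr
      exact Subsingleton.elim _ _
    apply hw
    rw [this, map_zero]
  obtain ⟨k', hk'⟩ := heven
  obtain ⟨k, rfl⟩ : ∃ k, s = 2 * k + 2 := ⟨k' - 1, by omega⟩
  have hk2 : (2 * k + 2 - 2) / 2 = k := by omega
  rw [card_cent hF t ht' (2 * k + 2) hs,
    card_Og_even (gam t) (gam_symm t ht') (gam_nondeg t ht') hna' k hfr,
    Cfsg.Agent.Lib.Helper14.card_symplectic, Nat.card_eq_fintype_card, hF,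
    ← exp_arith_c m k hsm, hk2, sp_prod, sp_prod, pow_add (q) _ (2 * k + 1)]
  ring

end final

end Cfsg.Agent.Lib.Helper15.SpInvCent
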