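import Mathlib
import Cfsg.Prelude.Def_Classical
import Cfsg.Agent.Lib.Helper15.PlusFrames
import Cfsg.Agent.Lib.Helper15.SpInvCent

set_option autoImplicit false

/-!
# Centralizers of involutions in `O⁺_{2m}(q)`, `q` even
-/

namespace Cfsg.Agent.Lib.Helper15.OrthInvCent

open Module Matrix QuadraticMap Cfsg.Agent.Lib.Helper14 Cfsg.Agent.Lib.Helper25.MaxTS
  Cfsg.Agent.Lib.Helper15 Cfsg.Agent.Lib.Helper15.SymIso Cfsg.Agent.Lib.Helper15.SpInvCent
  Cfsg.Agent.Lib.Helper15.PlusFrames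

section basic
variable {F : Type*} [Field F] {m : ℕ}

/-- the orthogonal group -/
abbrev OO (m : ℕ) (F : Type*) [Field F] := ↥(Cfsg.isometryGroup F (Cfsg.quadFormPlus m F))

/-- the matrix of an element -/
abbrev mat (g : OO m F) : Matrix (Fin m ⊕ Fin m) (Fin m ⊕ Fin m) F :=
  ((g : GL (Fin m ⊕ Fin m) F) : Matrix (Fin m ⊕ Fin m) (Fin m ⊕ Fin m) F)

lemma mat_Q (g : OO m F) (v : Fin m ⊕ Fin m → F) :
    Cfsg.quadFormPlus m F (mat g *ᵥ v) = Cfsg.quadFormPlus m F v := g.2 v v

lemma mat_B (g : OO m F) (u v : Fin m ⊕ Fin m → F) :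
    plusPolar m F (mat g *ᵥ u) (mat g *ᵥ v) = plusPolar m F u v :=
  polar_mulVec_of_preserves isQF_plus (mat g) (mat_Q g) u v

lemma mat_mul (g h : OO m F) : mat (g * h) = mat g * mat h := rfl

lemma mat_one : mat (1 : OO m F) = 1 := rfl

lemma mat_inv_mulVec (g : OO m F) (v : Fin m ⊕ Fin m → F) : mat g⁻¹ *ᵥ (mat g *ᵥ v) = v := by
  rw [Matrix.mulVec_mulVec, ← mat_mul, inv_mul_cancel, mat_one, Matrix.one_mulVec]

lemma mat_mulVec_inv (g : OO m F) (v : Fin m ⊕ Fin m → F) : mat g *ᵥ (mat g⁻¹ *ᵥ v) = v := by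
  rw [Matrix.mulVec_mulVec, ← mat_mul, mul_inv_cancel, mat_one, Matrix.one_mulVec]

lemma mat_inj (g h : OO m F) (hgh : mat g = mat h) : g = h := by
  apply Subtype.ext
  apply Units.ext
  exact hgh

/-- group element from a linear isometry -/
noncomputable def ofIsom (g : (Fin m ⊕ Fin m → F) ≃ₗ[F] (Fin m ⊕ Fin m → F))
    (hg : ∀ v, Cfsg.quadFormPlus m F (g v) = Cfsg.quadFormPlus m F v) : OO m F :=
  ⟨⟨LinearMap.toMatrix' g.toLinearMap, LinearMap.toMatrix' g.symm.toLinearMap,
    by rw [← LinearMap.toMatrix'_comp, LinearEquiv.comp_symm, LinearMap.toMatrix'_id],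
    by rw [← LinearMap.toMatrix'_comp, LinearEquiv.symm_comp, LinearMap.toMatrix'_id]⟩,
   fun u v => by
    change Cfsg.quadFormPlus m F ((LinearMap.toMatrix' g.toLinearMap).mulVec u) = _
    rw [LinearMap.toMatrix'_mulVec]
    exact hg u⟩

lemma mat_ofIsom (g : (Fin m ⊕ Fin m → F) ≃ₗ[F] (Fin m ⊕ Fin m → F))
    (hg : ∀ v, Cfsg.quadFormPlus m F (g v) = Cfsg.quadFormPlus m F v) (v : Fin m ⊕ Fin m → F) :
    mat (ofIsom g hg) *ᵥ v = g v := by
  show (LinearMap.toMatrix' g.toLinearMap).mulVec v = _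
  rw [LinearMap.toMatrix'_mulVec]
  rfl

/-- Witt's theorem for tuples, in the matrix group -/
theorem witt_tuple_mat {k : ℕ} (x y : Fin k → (Fin m ⊕ Fin m → F)) (hx : LinearIndependent F x)
    (hy : LinearIndependent F y)
    (hQ : ∀ a, Cfsg.quadFormPlus m F (x a) = Cfsg.quadFormPlus m F (y a))
    (hB : ∀ a b, plusPolar m F (x a) (x b) = plusPolar m F (y a) (y b)) :
    ∃ g : OO m F, ∀ a, mat g *ᵥ x a = y a := by
  obtain ⟨g, hgQ, hg⟩ := Cfsg.Agent.S0750.S0750aux.witt_tuple (plusQ m (F := F))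
    (plusQ_nondegenerate m) k x y hx hy
    (fun a => by rw [plusQ_apply, plusQ_apply, hQ a])
    (fun a b => by rw [← plusPolar_eq, ← plusPolar_eq, hB a b])
  refine ⟨ofIsom g (fun v => by rw [← plusQ_apply, ← plusQ_apply]; exact hgQ v), fun a => ?_⟩
  rw [mat_ofIsom, hg]

/-- the action on tuples of vectors -/
def tupAct (m : ℕ) (F : Type*) [Field F] (k : ℕ) :
    MulAction (OO m F) (Fin k → (Fin m ⊕ Fin m → F)) where
  smul g v := fun i => mat g *ᵥ v i
  one_smul v := by
    funext i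
    show mat (1 : OO m F) *ᵥ v i = v i
    rw [mat_one, Matrix.one_mulVec]
  mul_smul g h v := by
    funext i
    show mat (g * h) *ᵥ v i = mat g *ᵥ (mat h *ᵥ v i)
    rw [mat_mul, Matrix.mulVec_mulVec]

lemma mat_li (g : OO m F) {k : ℕ} (w : Fin k → (Fin m ⊕ Fin m → F)) (hw : LinearIndependent F w) :
    LinearIndependent F (fun i => mat g *ᵥ w i) := by
  have h1 : LinearMap.ker (Matrix.toLin' (mat g)) = ⊥ := by
    rw [LinearMap.ker_eq_bot']
    intro v hv
    rw [Matrix.toLin'_apply] at hv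
    rw [← mat_inv_mulVec g v, hv, Matrix.mulVec_zero]
  have h2 := hw.map' (Matrix.toLin' (mat g)) h1
  have h3 : (fun i => mat g *ᵥ w i) = ⇑(Matrix.toLin' (mat g)) ∘ w := by
    funext i
    simp only [Function.comp_apply, Matrix.toLin'_apply]
  rw [h3]
  exact h2

/-- orbit–stabilizer for the action on tuples, with the orbit described by Witt's theorem -/
theorem card_stab_mul [Finite F] {k : ℕ} (w : Fin k → (Fin m ⊕ Fin m → F))
    (hw : LinearIndependent F w) :
    Nat.card {g : OO m F // ∀ i, mat g *ᵥ w i = w i} *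
      Nat.card {v : Fin k → (Fin m ⊕ Fin m → F) // LinearIndependent F v ∧
        (∀ i, Cfsg.quadFormPlus m F (v i) = Cfsg.quadFormPlus m F (w i)) ∧
        ∀ i j, plusPolar m F (v i) (v j) = plusPolar m F (w i) (w j)} = Nat.card (OO m F) := by
  classical
  have h1 := @MulAction.index_stabilizer (OO m F) _ _ (tupAct m F k) w
  have h2 := Subgroup.card_mul_index (@MulAction.stabilizer (OO m F) _ _ (tupAct m F k) w)
  rw [h1] at h2
  have h3 : Nat.card (@MulAction.stabilizer (OO m F) _ _ (tupAct m F k) w) =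
      Nat.card {g : OO m F // ∀ i, mat g *ᵥ w i = w i} := by
    apply Nat.card_congr
    apply Equiv.subtypeEquivRight
    intro g
    rw [@MulAction.mem_stabilizer_iff _ _ _ (tupAct m F k)]
    show (fun i => mat g *ᵥ w i) = w ↔ _
    rw [funext_iff]
  have h4 : @MulAction.orbit (OO m F) _ (tupAct m F k).toSMul w =
      {v : Fin k → (Fin m ⊕ Fin m → F) |
      LinearIndependent F v ∧
        (∀ i, Cfsg.quadFormPlus m F (v i) = Cfsg.quadFormPlus m F (w i)) ∧
        ∀ i j, plusPolar m F (v i) (v j) = plusPolar m F (w i) (w j)} := by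
    ext v
    rw [@MulAction.mem_orbit_iff _ _ (tupAct m F k).toSMul]
    show _ ↔ LinearIndependent F v ∧
        (∀ i, Cfsg.quadFormPlus m F (v i) = Cfsg.quadFormPlus m F (w i)) ∧
        ∀ i j, plusPolar m F (v i) (v j) = plusPolar m F (w i) (w j)
    constructor
    · rintro ⟨g, rfl⟩
      show LinearIndependent F (fun i => mat g *ᵥ w i) ∧
        (∀ i, Cfsg.quadFormPlus m F (mat g *ᵥ w i) = Cfsg.quadFormPlus m F (w i)) ∧
        ∀ i j, plusPolar m F (mat g *ᵥ w i) (mat g *ᵥ w j) = plusPolar m F (w i) (w j)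
      exact ⟨mat_li g w hw, fun i => mat_Q g _, fun i j => mat_B g _ _⟩
    · rintro ⟨hv, hQ, hB⟩
      obtain ⟨g, hg⟩ := witt_tuple_mat w v hw hv (fun a => (hQ a).symm) (fun a b => (hB a b).symm)
      refine ⟨g, ?_⟩
      show (fun i => mat g *ᵥ w i) = v
      funext i
      exact hg i
  rw [h3] at h2
  rw [← h2, ← _root_.Nat.card_coe_set_eq, h4]
  rfl

end basic

section cent
variable {F : Type*} [Field F] [CharP F 2] {m : ℕ}

lemma symp_eq_polar (u v : Fin m ⊕ Fin m → F) :
    Cfsg.sympForm m F u v = plusPolar m F u v := by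
  have h2 : (2 : F) = 0 := CharTwo.two_eq_zero
  rw [sympForm_eq]
  unfold plusPolar
  refine Finset.sum_congr rfl fun i _ => ?_
  linear_combination (- u (Sum.inl i) * v (Sum.inr i)) * h2

/-- the embedding into the symplectic group -/
def toSp : OO m F →* Matrix.symplecticGroup (Fin m) F where
  toFun g := ⟨mat g, mem_symplectic_of_preserves _ (fun u v => by
    rw [symp_eq_polar, symp_eq_polar, mat_B])⟩
  map_one' := Subtype.ext mat_one
  map_mul' g h := Subtype.ext (mat_mul g h)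

lemma toSp_val (g : OO m F) : (toSp g).1 = mat g := rfl

lemma toSp_injective : Function.Injective (toSp (F := F) (m := m)) := by
  intro g h hgh
  apply mat_inj
  exact congrArg Subtype.val hgh

variable (x : OO m F) (hx : x * x = 1)

include hx in
lemma toSp_sq : toSp x * toSp x = 1 := by rw [← map_mul, hx, map_one]

/-- the image of `x - 1` -/
abbrev WW : Submodule F (Fin m ⊕ Fin m → F) := Wt (toSp x)

include hx in
/-- the quadratic form on the image of `x - 1` is the diagonal of `gam` -/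
lemma Q_eq_gam (w : WW x) :
    Cfsg.quadFormPlus m F w.1 = gam (toSp x) w w := by
  have h2 : (2 : F) = 0 := CharTwo.two_eq_zero
  obtain ⟨u, hu⟩ := (mem_Wt (toSp x) w.1).1 w.2
  have h1 : w = ⟨_, Nm_mem (toSp x) u⟩ := Subtype.ext hu.symm
  rw [h1, gam_self (toSp x) (toSp_sq x hx)]
  show Cfsg.quadFormPlus m F (Nm (toSp x) *ᵥ u) = _
  rw [Nm_mulVec, toSp_val, symp_eq_polar]
  have hQ := isQF_plus (F := F) (m := m)
  rw [sub_eq_add_neg, hQ.polar, hQ.q_neg, mat_Q, hQ.b_symm, hQ.b_neg_left]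
  have h3 : plusPolar m F u (mat x *ᵥ u) = - plusPolar m F u (mat x *ᵥ u) := by
    linear_combination (plusPolar m F u (mat x *ᵥ u)) * h2
  rw [← h3]
  linear_combination (Cfsg.quadFormPlus m F u) * h2

lemma comm_toSp (g : OO m F) (hg : g * x = x * g) : toSp g * toSp x = toSp x * toSp g := by
  rw [← map_mul, ← map_mul, hg]

/-- restriction of the centralizer to the image of `x - 1` -/
noncomputable def psi :
    ↥(Subgroup.centralizer ({x} : Set (OO m F))) →* (WW x ≃ₗ[F] WW x) :=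
  (rho (toSp x)).comp
    ((toSp.comp (Subgroup.subtype _)).codRestrict (Pt (toSp x)) (fun g => by
      apply cent_le_Pt
      rw [Subgroup.mem_centralizer_singleton_iff]
      exact comm_toSp x g.1 (Subgroup.mem_centralizer_singleton_iff.1 g.2)))

lemma psi_apply (g : ↥(Subgroup.centralizer ({x} : Set (OO m F)))) (w : WW x) :
    ((psi x g) w).1 = mat g.1 *ᵥ w.1 := by
  unfold psi
  rw [MonoidHom.comp_apply, rho_apply]
  rfl

include hx in
lemma psi_mem_Og (g : ↥(Subgroup.centralizer ({x} : Set (OO m F)))) :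
    psi x g ∈ Og (gam (toSp x)) := by
  unfold psi
  rw [MonoidHom.comp_apply]
  apply (cent_iff (toSp x) (toSp_sq x hx) _).1
  rw [Subgroup.mem_centralizer_singleton_iff]
  exact comm_toSp x g.1 (Subgroup.mem_centralizer_singleton_iff.1 g.2)

include hx in
/-- elements fixing the image of `x - 1` pointwise centralize `x` -/
lemma comm_of_fix (g : OO m F) (hg : ∀ w ∈ WW x, mat g *ᵥ w = w) : g * x = x * g := by
  apply toSp_injective
  rw [map_mul, map_mul, comm_iff]
  intro u
  rw [toSp_val, hg _ (Nm_mem (toSp x) u)]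
  have h1 : Nm (toSp x) *ᵥ (mat g *ᵥ u - u) = 0 := by
    apply perp_Wt (toSp x) (toSp_sq x hx)
    intro w hw
    rw [Cfsg.Agent.Lib.Helper5.sympForm_sub_left, symp_eq_polar, symp_eq_polar]
    conv_lhs => rw [← hg w hw]
    rw [mat_B, hg w hw, sub_self]
  rw [Matrix.mulVec_sub, sub_eq_zero] at h1
  exact h1.symm

include hx in
lemma psi_surj (h : WW x ≃ₗ[F] WW x) (hh : h ∈ Og (gam (toSp x))) :
    ∃ g, psi x g = h := by
  have hQ : ∀ w : WW x, Cfsg.quadFormPlus m F ((h w).1) = Cfsg.quadFormPlus m F w.1 := by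
    intro w
    rw [Q_eq_gam x hx, Q_eq_gam x hx, (mem_Og _ _).1 hh]
  obtain ⟨g, hg1, hg2⟩ := Cfsg.Agent.S0750.S0750aux.main (plusQ m (F := F))
    (plusQ_nondegenerate m) (WW x) (WW x) h
    (fun w => by rw [plusQ_apply, plusQ_apply]; exact hQ w)
  have hg1' : ∀ v, Cfsg.quadFormPlus m F (g v) = Cfsg.quadFormPlus m F v := by
    intro v
    rw [← plusQ_apply, ← plusQ_apply]
    exact hg1 v
  have hgo : ∀ v, mat (ofIsom g hg1') *ᵥ v = g v := mat_ofIsom g hg1'
  have hP : toSp (ofIsom g hg1') ∈ Pt (toSp x) := by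
    rw [mem_Pt]
    intro v
    rw [toSp_val, hgo]
    constructor
    · intro hv
      rw [hg2 ⟨v, hv⟩]
      exact (h ⟨v, hv⟩).2
    · intro hv
      have h1 := hg2 (h.symm ⟨g v, hv⟩)
      rw [LinearEquiv.apply_symm_apply] at h1
      have h2 : ((h.symm ⟨g v, hv⟩ : WW x) : Fin m ⊕ Fin m → F) = v := g.injective h1
      rw [← h2]
      exact (h.symm ⟨g v, hv⟩).2
  have hrho : rho (toSp x) ⟨toSp (ofIsom g hg1'), hP⟩ = h := by
    apply LinearEquiv.ext
    intro w
    apply Subtype.ext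
    rw [rho_apply]
    show mat (ofIsom g hg1') *ᵥ w.1 = _
    rw [hgo, hg2]
  have hc : toSp (ofIsom g hg1') ∈
      Subgroup.centralizer ({toSp x} : Set (Matrix.symplecticGroup (Fin m) F)) := by
    have := (cent_iff (toSp x) (toSp_sq x hx) ⟨toSp (ofIsom g hg1'), hP⟩).2
    apply this
    rw [hrho]
    exact hh
  rw [Subgroup.mem_centralizer_singleton_iff, ← map_mul, ← map_mul] at hc
  have hc' : ofIsom g hg1' ∈ Subgroup.centralizer ({x} : Set (OO m F)) := by
    rw [Subgroup.mem_centralizer_singleton_iff]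
    exact toSp_injective hc
  refine ⟨⟨ofIsom g hg1', hc'⟩, ?_⟩
  apply LinearEquiv.ext
  intro w
  apply Subtype.ext
  rw [psi_apply]
  show mat (ofIsom g hg1') *ᵥ w.1 = _
  rw [hgo, hg2]

include hx in
/-- the order of the centralizer in terms of the pointwise stabilizer of the image of `x - 1` -/
theorem card_cent [Finite F] :
    Nat.card ↥(Subgroup.centralizer ({x} : Set (OO m F))) =
      Nat.card {g : OO m F // ∀ w ∈ WW x, mat g *ᵥ w = w} *
        Nat.card (Og (gam (toSp x))) := by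
  have h1 := Subgroup.card_mul_index (psi x).ker
  rw [Subgroup.index_ker] at h1
  have h2 : (psi x).range = Og (gam (toSp x)) := by
    ext h
    constructor
    · rintro ⟨g, rfl⟩
      exact psi_mem_Og x hx g
    · intro hh
      obtain ⟨g, hg⟩ := psi_surj x hx h hh
      exact ⟨g, hg⟩
  have h3 : Nat.card (psi x).ker = Nat.card {g : OO m F // ∀ w ∈ WW x, mat g *ᵥ w = w} := by
    apply Nat.card_congr
    refine
      { toFun := fun g => ⟨g.1.1, fun w hw => ?_⟩
        invFun := fun g => ⟨⟨g.1, ?_⟩, ?_⟩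
        left_inv := fun g => rfl
        right_inv := fun g => rfl }
    · have h4 := (MonoidHom.mem_ker).1 g.2
      have h5 := psi_apply x g.1 ⟨w, hw⟩
      rw [h4] at h5
      exact h5.symm
    · rw [Subgroup.mem_centralizer_singleton_iff]
      exact comm_of_fix x hx g.1 g.2
    · rw [MonoidHom.mem_ker]
      apply LinearEquiv.ext
      intro w
      apply Subtype.ext
      rw [psi_apply]
      exact g.2 w.1 w.2
  rw [h2, h3] at h1
  exact h1.symm

include hx in
/-- the centralizer order via the number of isometric images of a basis of the image of `x - 1` -/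
theorem card_cent_mul [Finite F] {s : ℕ} (w : Fin s → (Fin m ⊕ Fin m → F))
    (hw : LinearIndependent F w) (hwW : ∀ i, w i ∈ WW x) (hs : finrank F (WW x) = s) :
    Nat.card ↥(Subgroup.centralizer ({x} : Set (OO m F))) *
      Nat.card {v : Fin s → (Fin m ⊕ Fin m → F) // LinearIndependent F v ∧
        (∀ i, Cfsg.quadFormPlus m F (v i) = Cfsg.quadFormPlus m F (w i)) ∧
        ∀ i j, plusPolar m F (v i) (v j) = 0} =
      Nat.card (OO m F) * Nat.card (Og (gam (toSp x))) := by
  have hspan : Submodule.span F (Set.range w) = WW x := by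
    apply Submodule.eq_of_le_of_finrank_eq
    · rw [Submodule.span_le]
      rintro _ ⟨i, rfl⟩
      exact hwW i
    · rw [finrank_span_eq_card hw, Fintype.card_fin, hs]
  have hB : ∀ i j, plusPolar m F (w i) (w j) = 0 := by
    intro i j
    rw [← symp_eq_polar]
    exact Wt_ti (toSp x) (toSp_sq x hx) _ _ (hwW i) (hwW j)
  have h1 : Nat.card {g : OO m F // ∀ w' ∈ WW x, mat g *ᵥ w' = w'} =
      Nat.card {g : OO m F // ∀ i, mat g *ᵥ w i = w i} := by
    apply Nat.card_congr
    apply Equiv.subtypeEquivRight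
    intro g
    constructor
    · intro h i
      exact h _ (hwW i)
    · intro h w' hw'
      rw [← hspan] at hw'
      induction hw' using Submodule.span_induction with
      | mem v hv =>
        obtain ⟨i, rfl⟩ := hv
        exact h i
      | zero => exact Matrix.mulVec_zero _
      | add a b _ _ ha hb => rw [Matrix.mulVec_add, ha, hb]
      | smul c a _ ha => rw [Matrix.mulVec_smul, ha]
  have h2 := card_stab_mul w hw
  have h3 : Nat.card {v : Fin s → (Fin m ⊕ Fin m → F) // LinearIndependent F v ∧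
        (∀ i, Cfsg.quadFormPlus m F (v i) = Cfsg.quadFormPlus m F (w i)) ∧
        ∀ i j, plusPolar m F (v i) (v j) = plusPolar m F (w i) (w j)} =
      Nat.card {v : Fin s → (Fin m ⊕ Fin m → F) // LinearIndependent F v ∧
        (∀ i, Cfsg.quadFormPlus m F (v i) = Cfsg.quadFormPlus m F (w i)) ∧
        ∀ i j, plusPolar m F (v i) (v j) = 0} := by
    apply Nat.card_congr
    apply Equiv.subtypeEquivRight
    intro v
    simp only [hB]
  rw [card_cent x hx, h1, ← h2, h3]
  ring

omit [CharP F 2] in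
lemma exists_li_tuple {W : Type*} [AddCommGroup W] [Module F W] [FiniteDimensional F W] {k : ℕ}
    (hk : finrank F W = k) : ∃ b : Fin k → W, LinearIndependent F b := by
  subst hk
  exact ⟨_, (Module.finBasis F W).linearIndependent⟩

include hx in
/-- type `a`: the image of `x - 1` is totally singular -/
theorem card_cent_a [Finite F] {s : ℕ} (hs : finrank F (WW x) = s)
    (hQ0 : ∀ w ∈ WW x, Cfsg.quadFormPlus m F w = 0) :
    Nat.card ↥(Subgroup.centralizer ({x} : Set (OO m F))) *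
      Nat.card {v : Fin s → (Fin m ⊕ Fin m → F) // TSF m F s v} =
      Nat.card (OO m F) * Nat.card (Og (gam (toSp x))) := by
  obtain ⟨b, hb⟩ := exists_li_tuple (F := F) (W := WW x) hs
  have hw : LinearIndependent F (fun i => (b i).1) :=
    hb.map' (WW x).subtype (Submodule.ker_subtype _)
  rw [← card_cent_mul x hx (fun i => (b i).1) hw (fun i => (b i).2) hs]
  congr 1
  apply Nat.card_congr
  apply Equiv.subtypeEquivRight
  intro v
  unfold TSF
  simp only [hQ0 _ (b _).2]

include hx in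
lemma exists_adapted [Finite F] {k : ℕ} (hs : finrank F (WW x) = k + 1)
    (hna : ∃ w ∈ WW x, Cfsg.quadFormPlus m F w ≠ 0) :
    ∃ (u₀ : Fin m ⊕ Fin m → F) (v₀ : Fin k → (Fin m ⊕ Fin m → F)), u₀ ∈ WW x ∧
      (∀ i, v₀ i ∈ WW x) ∧ Cfsg.quadFormPlus m F u₀ = 1 ∧
      (∀ i, Cfsg.quadFormPlus m F (v₀ i) = 0) ∧ LinearIndependent F v₀ := by
  have ht := toSp_sq x hx
  have hsym := gam_symm (toSp x) ht
  obtain ⟨w₁, hw₁, hQw₁⟩ := hna
  have hl1 : lam (gam (toSp x)) hsym ⟨w₁, hw₁⟩ ≠ 0 := by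
    intro h0
    apply hQw₁
    have := Q_eq_gam x hx ⟨w₁, hw₁⟩
    rw [this, ← lam_sq (gam (toSp x)) hsym, h0, mul_zero]
  have hsurj : Function.Surjective (lam (gam (toSp x)) hsym) := by
    intro c
    refine ⟨(c / lam (gam (toSp x)) hsym ⟨w₁, hw₁⟩) • ⟨w₁, hw₁⟩, ?_⟩
    rw [map_smul, smul_eq_mul, div_mul_cancel₀ _ hl1]
  have hker : finrank F (LinearMap.ker (lam (gam (toSp x)) hsym)) = k := by
    have h1 := LinearMap.finrank_range_add_finrank_ker (lam (gam (toSp x)) hsym)
    rw [LinearMap.range_eq_top.2 hsurj, finrank_top, Module.finrank_self, hs] at h1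
    omega
  obtain ⟨b, hb⟩ := exists_li_tuple (F := F)
    (W := ↥(LinearMap.ker (lam (gam (toSp x)) hsym))) hker
  obtain ⟨u, hu⟩ := hsurj 1
  refine ⟨u.1, fun i => (b i).1.1, u.2, fun i => (b i).1.2, ?_, fun i => ?_, ?_⟩
  · have := Q_eq_gam x hx u
    rw [this, ← lam_sq (gam (toSp x)) hsym, hu, mul_one]
  · have := Q_eq_gam x hx (b i).1
    rw [this, ← lam_sq (gam (toSp x)) hsym, LinearMap.mem_ker.1 (b i).2, mul_zero]
  · have h1 := hb.map' (LinearMap.ker (lam (gam (toSp x)) hsym)).subtype (Submodule.ker_subtype _)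
    exact h1.map' (WW x).subtype (Submodule.ker_subtype _)

lemma frame_one_iff {k : ℕ} (u₀ : Fin m ⊕ Fin m → F) (v₀ : Fin k → (Fin m ⊕ Fin m → F))
    (hu₀ : Cfsg.quadFormPlus m F u₀ = 1) (hv₀ : ∀ i, Cfsg.quadFormPlus m F (v₀ i) = 0)
    (u : Fin m ⊕ Fin m → F) (v : Fin k → (Fin m ⊕ Fin m → F)) :
    (LinearIndependent F (Fin.cons u v : Fin (k + 1) → (Fin m ⊕ Fin m → F)) ∧
      (∀ i, Cfsg.quadFormPlus m F ((Fin.cons u v : Fin (k + 1) → (Fin m ⊕ Fin m → F)) i) =
        Cfsg.quadFormPlus m F ((Fin.cons u₀ v₀ : Fin (k + 1) → (Fin m ⊕ Fin m → F)) i)) ∧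
      ∀ i j, plusPolar m F ((Fin.cons u v : Fin (k + 1) → (Fin m ⊕ Fin m → F)) i)
        ((Fin.cons u v : Fin (k + 1) → (Fin m ⊕ Fin m → F)) j) = 0) ↔
    TSF m F k v ∧ ((∀ i, plusPolar m F u (v i) = 0) ∧ Cfsg.quadFormPlus m F u = 1) := by
  have hQ := isQF_plus (F := F) (m := m)
  have h2 : (2 : F) = 0 := CharTwo.two_eq_zero
  rw [linearIndependent_finCons]
  constructor
  · rintro ⟨⟨h1, -⟩, h3, h4⟩
    refine ⟨⟨h1, fun i => ?_, fun i j => ?_⟩, fun i => ?_, ?_⟩
    · have := h3 i.succ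
      rw [Fin.cons_succ, Fin.cons_succ, hv₀] at this
      exact this
    · have := h4 i.succ j.succ
      rwa [Fin.cons_succ, Fin.cons_succ] at this
    · have := h4 0 i.succ
      rwa [Fin.cons_succ, Fin.cons_zero] at this
    · have := h3 0
      rw [Fin.cons_zero, Fin.cons_zero, hu₀] at this
      exact this
  · rintro ⟨hv, h5, h6⟩
    refine ⟨⟨hv.1, fun hmem => ?_⟩, fun i => ?_, fun i j => ?_⟩
    · have := (span_perp v hv u hmem).2
      rw [h6] at this
      exact one_ne_zero this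
    · refine Fin.cases ?_ (fun i' => ?_) i
      · rw [Fin.cons_zero, Fin.cons_zero, h6, hu₀]
      · rw [Fin.cons_succ, Fin.cons_succ, hv.2.1, hv₀]
    · refine Fin.cases ?_ (fun i' => ?_) i <;> refine Fin.cases ?_ (fun j' => ?_) j
      · rw [Fin.cons_zero, hQ.b_self, h2, zero_mul]
      · rw [Fin.cons_zero, Fin.cons_succ]; exact h5 j'
      · rw [Fin.cons_zero, Fin.cons_succ, hQ.b_symm]; exact h5 i'
      · rw [Fin.cons_succ, Fin.cons_succ]; exact hv.2.2 i' j'

/-- types `b`, `c`: the image of `x - 1` contains a nonsingular vector -/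
theorem card_cent_na [Fintype F] [DecidableEq F] (k j : ℕ) (x : OO (k + j + 1) F)
    (hx : x * x = 1) (hs : finrank F (WW x) = k + 1)
    (hna : ∃ w ∈ WW x, Cfsg.quadFormPlus (k + j + 1) F w ≠ 0) :
    Nat.card ↥(Subgroup.centralizer ({x} : Set (OO (k + j + 1) F))) *
      (Nat.card {v : Fin k → (Fin (k + j + 1) ⊕ Fin (k + j + 1) → F) // TSF (k + j + 1) F k v} *
        ((Fintype.card F ^ (j + 1) - 1) * Fintype.card F ^ j * Fintype.card F ^ k)) =
      Nat.card (OO (k + j + 1) F) * Nat.card (Og (gam (toSp x))) := by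
  obtain ⟨u₀, v₀, hu₀W, hv₀W, hu₀, hv₀, hli⟩ := exists_adapted x hx hs hna
  have hB : ∀ a b, a ∈ WW x → b ∈ WW x → plusPolar (k + j + 1) F a b = 0 := by
    intro a b ha hb
    rw [← symp_eq_polar]
    exact Wt_ti (toSp x) (toSp_sq x hx) _ _ ha hb
  have htsf : TSF (k + j + 1) F k v₀ := ⟨hli, hv₀, fun a b => hB _ _ (hv₀W a) (hv₀W b)⟩
  have hw : LinearIndependent F
      (Fin.cons u₀ v₀ : Fin (k + 1) → (Fin (k + j + 1) ⊕ Fin (k + j + 1) → F)) :=
    ((frame_one_iff u₀ v₀ hu₀ hv₀ u₀ v₀).2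
      ⟨htsf, fun i => hB _ _ hu₀W (hv₀W i), hu₀⟩).1
  have hwW : ∀ i, (Fin.cons u₀ v₀ : Fin (k + 1) → (Fin (k + j + 1) ⊕ Fin (k + j + 1) → F)) i ∈
      WW x := by
    intro i
    refine Fin.cases ?_ (fun i' => ?_) i
    · rw [Fin.cons_zero]; exact hu₀W
    · rw [Fin.cons_succ]; exact hv₀W i'
  rw [← card_cent_mul x hx _ hw hwW hs, ← card_tsf_one k j 1 one_ne_zero]
  congr 1
  apply Nat.card_congr
  refine (Equiv.subtypeEquiv (consE _ k) (fun v => ?_)).symm
  rw [consE_apply, ← frame_one_iff u₀ v₀ hu₀ hv₀]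
  simp only [Fin.cons_self_tail]

end cent

end Cfsg.Agent.Lib.Helper15.OrthInvCent
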