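import Mathlib
import Cfsg.Prelude.Def_Classical
import Cfsg.Agent.Lib.Helper15.OrthInvCent
import Cfsg.Agent.S2172
import Cfsg.Agent.S2597

set_option autoImplicit false

/-!
# Centralizers of involutions in `Ω⁺_{2m}(q)`, `q` even: index in the full centralizer
-/

namespace Cfsg.Agent.Lib.Helper15.OrthInvOmega

open Module Matrix QuadraticMap Cfsg.Agent.Lib.Helper14 Cfsg.Agent.Lib.Helper25.MaxTS
  Cfsg.Agent.Lib.Helper15 Cfsg.Agent.Lib.Helper15.OrthInvCent

section grp
variable {G : Type*} [Group G]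

theorem card_cent_index_two [Finite G] (N : Subgroup G) (hN : N.index = 2) (x r : G)
    (hr : r * x = x * r) (hrN : r ∉ N) :
    2 * Nat.card {g : N // (g : G) * x = x * (g : G)} =
      Nat.card (Subgroup.centralizer ({x} : Set G)) := by
  classical
  have hrC : r ∈ Subgroup.centralizer ({x} : Set G) :=
    Subgroup.mem_centralizer_singleton_iff.2 hr
  have e1 : {g : N // (g : G) * x = x * (g : G)} ≃
      {g : Subgroup.centralizer ({x} : Set G) // (g : G) ∈ N} :=
    { toFun := fun g => ⟨⟨g.1.1, Subgroup.mem_centralizer_singleton_iff.2 g.2⟩, g.1.2⟩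
      invFun := fun g => ⟨⟨g.1.1, g.2⟩, Subgroup.mem_centralizer_singleton_iff.1 g.1.2⟩
      left_inv := fun g => rfl
      right_inv := fun g => rfl }
  have e2 : {g : Subgroup.centralizer ({x} : Set G) // (g : G) ∈ N} ≃
      {g : Subgroup.centralizer ({x} : Set G) // ¬ (g : G) ∈ N} :=
    { toFun := fun g => ⟨g.1 * ⟨r, hrC⟩, by
        show ¬ (g.1.1 * r ∈ N)
        rw [Subgroup.mul_mem_iff_of_index_two hN]
        intro h
        exact hrN (h.1 g.2)⟩
      invFun := fun g => ⟨g.1 * ⟨r, hrC⟩⁻¹, by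
        show (g.1.1 * r⁻¹ ∈ N)
        rw [Subgroup.mul_mem_iff_of_index_two hN, inv_mem_iff]
        exact ⟨fun h => absurd h g.2, fun h => absurd h hrN⟩⟩
      left_inv := fun g => by
        apply Subtype.ext
        show g.1 * ⟨r, hrC⟩ * ⟨r, hrC⟩⁻¹ = g.1
        rw [mul_inv_cancel_right]
      right_inv := fun g => by
        apply Subtype.ext
        show g.1 * ⟨r, hrC⟩⁻¹ * ⟨r, hrC⟩ = g.1
        rw [inv_mul_cancel_right] }
  have h3 := Nat.card_congr
    (Equiv.sumCompl (fun g : Subgroup.centralizer ({x} : Set G) => (g : G) ∈ N)).symm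
  rw [Nat.card_sum, ← Nat.card_congr e2, ← Nat.card_congr e1] at h3
  rw [h3]
  ring

theorem card_cent_index_one (N : Subgroup G) (x : G)
    (h : ∀ g : G, g * x = x * g → g ∈ N) :
    Nat.card {g : N // (g : G) * x = x * (g : G)} =
      Nat.card (Subgroup.centralizer ({x} : Set G)) := by
  apply Nat.card_congr
  exact
    { toFun := fun g => ⟨g.1.1, Subgroup.mem_centralizer_singleton_iff.2 g.2⟩
      invFun := fun g => ⟨⟨g.1, h g.1 (Subgroup.mem_centralizer_singleton_iff.1 g.2)⟩,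
        Subgroup.mem_centralizer_singleton_iff.1 g.2⟩
      left_inv := fun g => rfl
      right_inv := fun g => rfl }

end grp

section plus
variable {F : Type*} [Field F] [Fintype F] [CharP F 2] {m : ℕ}

open Cfsg.Agent.Lib.Helper25.CD Cfsg.Agent.S2172.S2172aux
  Cfsg.Agent.Lib.Helper25.OrthDet

omit [CharP F 2] in
lemma hex_of (hex : Fintype.card F ≠ 2 ∨ m ≠ 2) :
    Fintype.card F ≠ 2 ∨ Fintype.card (Fin m ⊕ Fin m) ≠ 4 := by
  rcases hex with h | h
  · exact Or.inl h
  · right; rw [Fintype.card_sum, Fintype.card_fin]; omega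

lemma index_aux (hm : 1 ≤ m) (hex : Fintype.card F ≠ 2 ∨ m ≠ 2)
    (q : (Fin m ⊕ Fin m → F) → F) (hq : ⇑(plusQ m (F := F)) = q) :
    (Cfsg.Omega F q).index = 2 := by
  subst hq
  haveI : Nonempty (Fin m ⊕ Fin m) := ⟨Sum.inl ⟨0, hm⟩⟩
  exact omega_index_two (plusQ m (F := F)) (plusQ_nondegenerate m) (hex_of hex)

lemma refl_aux (hex : Fintype.card F ≠ 2 ∨ m ≠ 2)
    (q : (Fin m ⊕ Fin m → F) → F) (hq : ⇑(plusQ m (F := F)) = q)
    (x : ↥(Cfsg.isometryGroup F q)) (u : Fin m ⊕ Fin m → F) (hu : q u ≠ 0)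
    (hxu : ((x : GL (Fin m ⊕ Fin m) F) : Matrix (Fin m ⊕ Fin m) (Fin m ⊕ Fin m) F) *ᵥ u = u) :
    ∃ r : ↥(Cfsg.isometryGroup F q), r * x = x * r ∧ r ∉ Cfsg.Omega F q := by
  subst hq
  refine ⟨reflM (plusQ m (F := F)) u, ?_,
    reflM_not_mem_omega (plusQ m (F := F)) (plusQ_nondegenerate m) (hex_of hex) hu⟩
  have h1 := conj_reflM (plusQ m (F := F)) x u
  rw [hxu] at h1
  have h2 : x * reflM (plusQ m (F := F)) u = reflM (plusQ m (F := F)) u * x := by
    conv_rhs => rw [← h1]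
    group
  exact h2.symm

omit [Fintype F] in
lemma fix_aux (q : (Fin m ⊕ Fin m → F) → F) (hq : ⇑(plusQ m (F := F)) = q)
    (x : ↥(Cfsg.isometryGroup F q)) (hxx : x * x = 1) :
    (∃ u, q u ≠ 0 ∧
      ((x : GL (Fin m ⊕ Fin m) F) : Matrix (Fin m ⊕ Fin m) (Fin m ⊕ Fin m) F) *ᵥ u = u) ∨
    (((x : GL (Fin m ⊕ Fin m) F) : Matrix (Fin m ⊕ Fin m) (Fin m ⊕ Fin m) F) - 1).rank = m := by
  subst hq
  rcases exists_fix_or_cond x hxx with h | h
  · exact Or.inl h
  · exact Or.inr h.1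

/-- the centralizer in `Ω` has index two in the centralizer in `O` when a nonsingular vector is
fixed -/
theorem card_omega_cent_fix (hm : 1 ≤ m) (hex : Fintype.card F ≠ 2 ∨ m ≠ 2) (x : OO m F)
    (h : ∃ u, Cfsg.quadFormPlus m F u ≠ 0 ∧ mat x *ᵥ u = u) :
    2 * Nat.card {g : ↥(Cfsg.Omega F (Cfsg.quadFormPlus m F)) //
      (g : OO m F) * x = x * (g : OO m F)} =
      Nat.card (Subgroup.centralizer ({x} : Set (OO m F))) := by
  obtain ⟨u, hu, hxu⟩ := h
  obtain ⟨r, hr, hrN⟩ := refl_aux hex _ coe_plusQ x u hu hxu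
  exact card_cent_index_two _ (index_aux hm hex _ coe_plusQ) x r hr hrN

/-- the same when `rank (x - 1)` is odd -/
theorem card_omega_cent_odd (hex : Fintype.card F ≠ 2 ∨ m ≠ 2) (x : OO m F)
    (hodd : Odd (mat x - 1).rank) :
    2 * Nat.card {g : ↥(Cfsg.Omega F (Cfsg.quadFormPlus m F)) //
      (g : OO m F) * x = x * (g : OO m F)} =
      Nat.card (Subgroup.centralizer ({x} : Set (OO m F))) := by
  have hm : 1 ≤ m := by
    by_contra hm0
    have hm0' : m = 0 := by omega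
    subst hm0'
    have h1 : (mat x - 1).rank ≤ Fintype.card (Fin 0 ⊕ Fin 0) := Matrix.rank_le_card_width _
    rw [Fintype.card_sum, Fintype.card_fin] at h1
    obtain ⟨k, hk⟩ := hodd
    omega
  have hx : x ∉ Cfsg.Omega F (Cfsg.quadFormPlus m F) := by
    rw [Cfsg.Agent.Lib.Helper5.DicksonRank.mem_omega_iff_even_rank (plusQ m (F := F))
      (plusQ_nondegenerate m) (hex_of hex) _ coe_plusQ x]
    exact Nat.not_even_iff_odd.2 hodd
  exact card_cent_index_two _ (index_aux hm hex _ coe_plusQ) x x rfl hx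

/-- for the involutions with `im (x - 1)` maximal totally singular, the centralizer lies in `Ω` -/
theorem card_omega_cent_max (hm : 1 ≤ m) (hex : Fintype.card F ≠ 2 ∨ m ≠ 2) (x : OO m F)
    (hrk : (mat x - 1).rank = m)
    (halt : ∀ w ∈ WW x, Cfsg.quadFormPlus m F w = 0) :
    Nat.card {g : ↥(Cfsg.Omega F (Cfsg.quadFormPlus m F)) //
      (g : OO m F) * x = x * (g : OO m F)} =
      Nat.card (Subgroup.centralizer ({x} : Set (OO m F))) := by
  apply card_cent_index_one
  intro g hg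
  apply mem_omega_of_even_rk hm hex g
  have hE : TS (plusQ m (F := F)) (WW x) := by
    intro u hu
    rw [plusQ_apply]
    exact halt u hu
  have hEm : finrank F (WW x) = m := by
    rw [SpInvCent.finrank_Wt]
    exact hrk
  have hP : toSp g ∈ SpInvCent.Pt (toSp x) := by
    apply SpInvCent.cent_le_Pt
    rw [Subgroup.mem_centralizer_singleton_iff]
    exact comm_toSp x g hg
  rw [SpInvCent.mem_Pt] at hP
  have hmap : (WW x).map (mat g).mulVecLin = WW x := by
    ext y
    constructor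
    · rintro ⟨v, hv, rfl⟩
      rw [Matrix.mulVecLin_apply]
      exact (hP v).1 hv
    · intro hy
      refine ⟨mat g⁻¹ *ᵥ y, (hP _).2 ?_, ?_⟩
      · rw [toSp_val, mat_mulVec_inv]
        exact hy
      · rw [Matrix.mulVecLin_apply, mat_mulVec_inv]
  have hiso : IsIsoM m (mat g) := by
    intro v
    rw [plusQ_apply, plusQ_apply]
    exact mat_Q g v
  have h1 := rk_parity hiso hE hEm
  rw [hmap, inf_idem, hEm, Nat.sub_self, add_zero] at h1
  exact h1

/-- type `a_s` with `s < m` -/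
theorem card_omega_cent_a (hm : 1 ≤ m) (hex : Fintype.card F ≠ 2 ∨ m ≠ 2) (x : OO m F)
    (hxx : x * x = 1) (hrk : (mat x - 1).rank ≠ m) :
    2 * Nat.card {g : ↥(Cfsg.Omega F (Cfsg.quadFormPlus m F)) //
      (g : OO m F) * x = x * (g : OO m F)} =
      Nat.card (Subgroup.centralizer ({x} : Set (OO m F))) := by
  apply card_omega_cent_fix hm hex x
  rcases fix_aux _ coe_plusQ x hxx with h | h
  · exact h
  · exact absurd h hrk

/-- type `c_s` -/
theorem card_omega_cent_c (hm : 1 ≤ m) (hex : Fintype.card F ≠ 2 ∨ m ≠ 2) (x : OO m F)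
    (hxx : x * x = 1) (hna : ∃ w ∈ WW x, Cfsg.quadFormPlus m F w ≠ 0) :
    2 * Nat.card {g : ↥(Cfsg.Omega F (Cfsg.quadFormPlus m F)) //
      (g : OO m F) * x = x * (g : OO m F)} =
      Nat.card (Subgroup.centralizer ({x} : Set (OO m F))) := by
  apply card_omega_cent_fix hm hex x
  obtain ⟨w, hw, hQw⟩ := hna
  refine ⟨w, hQw, ?_⟩
  obtain ⟨u, rfl⟩ := (SpInvCent.mem_Wt (toSp x) w).1 hw
  have h1 := SpInvCent.Nm_sq (toSp x) (toSp_sq x hxx) u
  rw [SpInvCent.Nm_mulVec (toSp x) (SpInvCent.Nm (toSp x) *ᵥ u), sub_eq_zero] at h1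
  exact h1

end plus

end Cfsg.Agent.Lib.Helper15.OrthInvOmega
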