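import Mathlib

/-! Helper15 library: orthonormal bases for non-alternating symmetric bilinear forms over finite
fields of characteristic two. -/

set_option autoImplicit false

namespace Cfsg.Agent.Lib.Helper15

open Module

variable {F V : Type*} [Field F] [AddCommGroup V] [Module F V]

/-- Nondegeneracy of a bilinear form on a submodule. -/
def NdB (B : LinearMap.BilinForm F V) (W : Submodule F V) : Prop :=
  ∀ w ∈ W, (∀ w' ∈ W, B w w' = 0) → w = 0

/-- The part of `W` orthogonal to `x`. -/
def perpB (B : LinearMap.BilinForm F V) (W : Submodule F V) (x : V) : Submodule F V :=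
  W ⊓ LinearMap.ker (B x)

theorem mem_perpB (B : LinearMap.BilinForm F V) (W : Submodule F V) (x v : V) :
    v ∈ perpB B W x ↔ v ∈ W ∧ B x v = 0 := by
  simp [perpB, LinearMap.mem_ker]

theorem perpB_le (B : LinearMap.BilinForm F V) (W : Submodule F V) (x : V) : perpB B W x ≤ W :=
  inf_le_left

theorem perpB_nd (B : LinearMap.BilinForm F V) (hS : B.IsSymm) (W : Submodule F V) (hW : NdB B W)
    {x : V} (hxW : x ∈ W) (hxx : B x x ≠ 0) : NdB B (perpB B W x) := by
  intro w hw hall
  rw [mem_perpB] at hw
  obtain ⟨hwW, hwx⟩ := hw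
  apply hW w hwW
  intro v hv
  obtain ⟨v', hv'mem, hv'⟩ : ∃ v' ∈ perpB B W x, v = v' + (B x v / B x x) • x := by
    refine ⟨v - (B x v / B x x) • x, ?_, by abel⟩
    rw [mem_perpB]
    refine ⟨W.sub_mem hv (W.smul_mem _ hxW), ?_⟩
    rw [map_sub, map_smul, smul_eq_mul, div_mul_cancel₀ _ hxx, sub_self]
  rw [hv', map_add, hall v' hv'mem, map_smul, hS.eq w x, hwx]
  simp

theorem perpB_finrank [FiniteDimensional F V] (B : LinearMap.BilinForm F V) (W : Submodule F V)
    {x : V} (hxW : x ∈ W) (hxx : B x x ≠ 0) : finrank F (perpB B W x) + 1 = finrank F W := by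
  let φ : W →ₗ[F] F := (B x).comp W.subtype
  have hker : LinearMap.ker φ = Submodule.comap W.subtype (perpB B W x) := by
    ext w
    simp [φ, mem_perpB]
  have hrange : LinearMap.range φ = ⊤ := by
    rw [eq_top_iff]
    rintro a -
    refine ⟨(a / B x x) • ⟨x, hxW⟩, ?_⟩
    have : φ ⟨x, hxW⟩ = B x x := rfl
    rw [map_smul, this, smul_eq_mul, div_mul_cancel₀ _ hxx]
  have h1 := LinearMap.finrank_range_add_finrank_ker φ
  rw [hrange, finrank_top, finrank_self, hker,
    (Submodule.comapSubtypeEquivOfLe (perpB_le B W x)).finrank_eq] at h1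
  omega

/-- Orthonormal families for non-alternating symmetric forms over finite fields of characteristic 2. -/
theorem orthonormal_family [Finite F] [CharP F 2] [FiniteDimensional F V]
    (B : LinearMap.BilinForm F V) (hS : B.IsSymm) :
    ∀ (n : ℕ) (W : Submodule F V), NdB B W → finrank F W = n + 1 → (∃ v ∈ W, B v v ≠ 0) →
      ∃ b : Fin (n + 1) → V, (∀ i, b i ∈ W) ∧ ∀ i j, B (b i) (b j) = if i = j then 1 else 0 := by
  have h2 : (2 : F) = 0 := CharTwo.two_eq_zero
  have hsq : ∀ a : F, IsSquare a := FiniteField.isSquare_of_char_two (ringChar.eq F 2)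
  -- normalising a vector
  have hnorm : ∀ (W : Submodule F V), (∃ v ∈ W, B v v ≠ 0) → ∃ v ∈ W, B v v = 1 := by
    rintro W ⟨v, hvW, hv⟩
    obtain ⟨r, hr⟩ := hsq (B v v)
    have hr0 : r ≠ 0 := by
      rintro rfl
      apply hv
      rw [hr, mul_zero]
    refine ⟨r⁻¹ • v, W.smul_mem _ hvW, ?_⟩
    simp only [map_smul, LinearMap.smul_apply, smul_eq_mul, hr]
    field_simp
  have hsum : ∀ u v : V, B (u + v) (u + v) = B u u + B v v := by
    intro u v
    simp only [map_add, LinearMap.add_apply]
    rw [hS.eq v u]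
    linear_combination (B u v) * h2
  intro n
  induction n with
  | zero =>
    intro W hW hdim hna
    obtain ⟨v, hvW, hv⟩ := hnorm W hna
    refine ⟨fun _ => v, fun _ => hvW, fun i j => ?_⟩
    have : i = j := Fin.ext (by have := i.2; have := j.2; omega)
    rw [if_pos this, hv]
  | succ n ih =>
    intro W hW hdim hna
    obtain ⟨v₀, hv₀W, hv₀⟩ := hnorm W hna
    have hv₀' : B v₀ v₀ ≠ 0 := by rw [hv₀]; exact one_ne_zero
    -- the good vector: its perp is non-alternating
    obtain ⟨v, hvW, hv, hgood⟩ : ∃ v ∈ W, B v v = 1 ∧ ∃ u ∈ perpB B W v, B u u ≠ 0 := by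
      by_cases h : ∃ u ∈ perpB B W v₀, B u u ≠ 0
      · exact ⟨v₀, hv₀W, hv₀, h⟩
      · push Not at h
        have hnd := perpB_nd B hS W hW hv₀W hv₀'
        have hfr := perpB_finrank B W hv₀W hv₀'
        have hne : perpB B W v₀ ≠ ⊥ := by
          intro hb
          rw [hb, finrank_bot] at hfr
          omega
        obtain ⟨e, heW', he0⟩ := Submodule.exists_mem_ne_zero_of_ne_bot hne
        obtain ⟨f, hfW', hef⟩ : ∃ f ∈ perpB B W v₀, B e f = 1 := by
          have : ∃ w' ∈ perpB B W v₀, B e w' ≠ 0 := by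
            by_contra hcon
            push Not at hcon
            exact he0 (hnd e heW' hcon)
          obtain ⟨w', hw', hne'⟩ := this
          refine ⟨(B e w')⁻¹ • w', Submodule.smul_mem _ _ hw', ?_⟩
          rw [map_smul, smul_eq_mul, inv_mul_cancel₀ hne']
        have he := (mem_perpB B W v₀ e).mp heW'
        have hf := (mem_perpB B W v₀ f).mp hfW'
        have hee := h e heW'
        have hff := h f hfW'
        refine ⟨v₀ + e, W.add_mem hv₀W he.1, by rw [hsum, hv₀, hee, add_zero], v₀ + f, ?_, ?_⟩
        · rw [mem_perpB]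
          refine ⟨W.add_mem hv₀W hf.1, ?_⟩
          simp only [map_add, LinearMap.add_apply]
          rw [hv₀, hf.2, hS.eq e v₀, he.2, hef]
          linear_combination h2
        · rw [hsum, hv₀, hff, add_zero]
          exact one_ne_zero
    have hv' : B v v ≠ 0 := by rw [hv]; exact one_ne_zero
    have hnd := perpB_nd B hS W hW hvW hv'
    have hfr := perpB_finrank B W hvW hv'
    obtain ⟨b, hbW, hb⟩ := ih (perpB B W v) hnd (by omega) hgood
    have hb' : ∀ i, b i ∈ W ∧ B v (b i) = 0 := fun i => (mem_perpB B W v _).mp (hbW i)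
    refine ⟨Fin.cons v b, ?_, ?_⟩
    · intro i
      refine Fin.cases ?_ (fun i => ?_) i
      · simpa using hvW
      · simpa using (hb' i).1
    · intro i j
      refine Fin.cases ?_ (fun i => ?_) i <;> refine Fin.cases ?_ (fun j => ?_) j
      · simpa using hv
      · simpa [Fin.succ_ne_zero, eq_comm] using (hb' j).2
      · simp only [Fin.cons_succ, Fin.cons_zero, Fin.succ_ne_zero, if_false]
        rw [hS.eq]; exact (hb' i).2
      · simpa [Fin.succ_inj] using hb i j

/-- an orthonormal family is linearly independent -/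
theorem orthonormal_linearIndependent (B : LinearMap.BilinForm F V) {ι : Type*} [Fintype ι]
    [DecidableEq ι] (b : ι → V) (hb : ∀ i j, B (b i) (b j) = if i = j then 1 else 0) :
    LinearIndependent F b := by
  rw [Fintype.linearIndependent_iff]
  intro g hg j
  have := congrArg (fun w => B (b j) w) hg
  simp only [map_sum, map_smul, map_zero, smul_eq_mul, hb, mul_ite, mul_one, mul_zero,
    Finset.sum_ite_eq, Finset.mem_univ, if_true] at this
  exact this

theorem ndB_top (B : LinearMap.BilinForm F V) (hB : B.Nondegenerate) : NdB B ⊤ := by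
  intro w _ h
  apply hB.1 w
  intro y
  exact h y Submodule.mem_top

end Cfsg.Agent.Lib.Helper15
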