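/-
Helper15 library (S3664): prime divisors and orders `a * b` in a semidirect product `N ⋊ L`
with `N` abelian of prime exponent `p`; Sylow conjugacy for elements of prime order `r` with
`r ∥ |G|`; the prime graph with vertices 2, 3, 5, 7, 13 and edges 2-3, 2-5, 3-5, 2-7.
-/
import Mathlib
import Cfsg.Agent.Lib.Helper6.PGSemi

set_option autoImplicit false

namespace Cfsg.Agent.Lib.Helper15.PG63

open SemidirectProduct Cfsg.Agent.Lib.Helper6.PGSemi

section semi

variable {N L : Type*} [CommGroup N] [Group L] (φ : L →* MulAut N) {p : ℕ}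

theorem semi_prime_dvd [Finite N] [Finite L] (hp : p.Prime) (hexp : ∀ n : N, n ^ p = 1)
    (hN : ∃ n : N, n ≠ 1) (q : ℕ) (hq : q.Prime) :
    q ∣ Nat.card (N ⋊[φ] L) ↔ q = p ∨ q ∣ Nat.card L := by
  rw [SemidirectProduct.card]
  constructor
  · intro h
    rcases (Nat.Prime.dvd_mul hq).mp h with h1 | h1
    · left
      have : Fact q.Prime := ⟨hq⟩
      obtain ⟨n, hn⟩ := exists_prime_orderOf_dvd_card' (G := N) q h1
      have h2 : q ∣ p := by
        rw [← hn]
        exact orderOf_dvd_of_pow_eq_one (hexp n)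
      exact (Nat.prime_dvd_prime_iff_eq hq hp).mp h2
    · right; exact h1
  · rintro (rfl | h)
    · obtain ⟨n, hn⟩ := hN
      have : Fact q.Prime := ⟨hq⟩
      have h1 : orderOf n = q := orderOf_eq_prime (hexp n) hn
      apply Dvd.dvd.mul_right
      rw [← h1]
      exact orderOf_dvd_natCard n
    · exact Dvd.dvd.mul_left h _

theorem semi_coprime (hp : p.Prime) (hexp : ∀ n : N, n ^ p = 1) {a b : ℕ} (ha : a.Prime)
    (hb : b.Prime) (hap : a ≠ p) (hbp : b ≠ p) :
    (∃ x : N ⋊[φ] L, orderOf x = a * b) ↔ ∃ l : L, orderOf l = a * b := by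
  constructor
  · rintro ⟨x, hx⟩
    refine ⟨x.right, ?_⟩
    rw [← hx]
    apply orderOf_right_of_coprime φ hexp
    rw [hx]
    exact Nat.Coprime.mul_left ((Nat.coprime_primes ha hp).mpr hap)
      ((Nat.coprime_primes hb hp).mpr hbp)
  · rintro ⟨l, hl⟩
    refine ⟨inr l, ?_⟩
    rw [orderOf_injective (inr : L →* N ⋊[φ] L) inr_injective, hl]

theorem semi_with_p (hp : p.Prime) (hexp : ∀ n : N, n ^ p = 1) {a : ℕ} (ha : a.Prime)
    (hap : a ≠ p) :
    (∃ x : N ⋊[φ] L, orderOf x = p * a) ↔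
      (∃ l : L, orderOf l = p * a) ∨ ∃ l : L, orderOf l = a ∧ ∃ n : N, n ≠ 1 ∧ φ l n = n := by
  constructor
  · rintro ⟨x, hx⟩
    rcases order_mul_cases φ hexp hp ha hap x hx with h | ⟨h1, n, hn, hfx⟩
    · exact Or.inl ⟨x.right, h⟩
    · exact Or.inr ⟨x.right, h1, n, hn, hfx⟩
  · rintro (⟨l, hl⟩ | ⟨l, hl, n, hn, hfx⟩)
    · refine ⟨inr l, ?_⟩
      rw [orderOf_injective (inr : L →* N ⋊[φ] L) inr_injective, hl]
    · refine ⟨inl n * inr l, ?_⟩
      have : Fact p.Prime := ⟨hp⟩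
      have h1 : orderOf (inl n : N ⋊[φ] L) = p := by
        rw [orderOf_injective (inl : N →* N ⋊[φ] L) inl_injective]
        exact orderOf_eq_prime (hexp n) hn
      have h2 : orderOf (inr l : N ⋊[φ] L) = a := by
        rw [orderOf_injective (inr : L →* N ⋊[φ] L) inr_injective, hl]
      have hc : Commute (inl n : N ⋊[φ] L) (inr l) := by
        have h3 := inl_aut (φ := φ) l n
        rw [hfx] at h3
        show inl n * inr l = inr l * inl n
        conv_lhs => rw [h3]
        rw [map_inv, inv_mul_cancel_right]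
      rw [hc.orderOf_mul_eq_mul_orderOf_of_coprime, h1, h2]
      rw [h1, h2]
      exact (Nat.coprime_primes hp ha).mpr (Ne.symm hap)

end semi

/-- Sylow conjugacy for cyclic Sylow subgroups of prime order. -/
theorem exists_conj_pow {G : Type*} [Group G] [Finite G] (r : ℕ) [hr : Fact r.Prime]
    (hfac : (Nat.card G).factorization r = 1) (g₀ x : G) (hg₀ : orderOf g₀ = r)
    (hx : orderOf x = r) : ∃ c : G, ∃ j : ℕ, x = c⁻¹ * g₀ ^ j * c := by
  have hcard : ∀ z : G, orderOf z = r →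
      Nat.card (Subgroup.zpowers z) = r ^ (Nat.card G).factorization r := by
    intro z hz
    rw [hfac, pow_one, Nat.card_zpowers, hz]
  let P : Sylow r G := Sylow.ofCard (Subgroup.zpowers x) (hcard x hx)
  let Q : Sylow r G := Sylow.ofCard (Subgroup.zpowers g₀) (hcard g₀ hg₀)
  obtain ⟨c, hc⟩ := MulAction.exists_smul_eq G P Q
  have hmem : c * x * c⁻¹ ∈ (Q : Subgroup G) := by
    rw [← hc, Sylow.coe_subgroup_smul, Subgroup.mem_pointwise_smul_iff_inv_smul_mem]
    have : (MulAut.conj c)⁻¹ • (c * x * c⁻¹) = x := by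
      rw [MulAut.smul_def, MulAut.conj_inv_apply]
      group
    rw [this]
    show x ∈ Subgroup.zpowers x
    exact Subgroup.mem_zpowers x
  have hmem' : c * x * c⁻¹ ∈ Subgroup.zpowers g₀ := hmem
  have hfin : IsOfFinOrder g₀ := isOfFinOrder_of_finite g₀
  rw [← mem_powers_iff_mem_zpowers, Submonoid.mem_powers_iff] at hmem'
  obtain ⟨j, hj⟩ := hmem'
  refine ⟨c, j, ?_⟩
  rw [hj]
  group

/-- the prime graph of `PSp₆(3)`, as a list of facts. -/
structure HasGraph (X : Type*) [Group X] : Prop where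
  primes : ∀ q : ℕ, q.Prime → (q ∣ Nat.card X ↔ q = 2 ∨ q = 3 ∨ q = 5 ∨ q = 7 ∨ q = 13)
  e6 : ∃ x : X, orderOf x = 6
  e10 : ∃ x : X, orderOf x = 10
  e14 : ∃ x : X, orderOf x = 14
  e15 : ∃ x : X, orderOf x = 15
  n26 : ∀ x : X, orderOf x ≠ 26
  n21 : ∀ x : X, orderOf x ≠ 21
  n39 : ∀ x : X, orderOf x ≠ 39
  n35 : ∀ x : X, orderOf x ≠ 35
  n65 : ∀ x : X, orderOf x ≠ 65
  n91 : ∀ x : X, orderOf x ≠ 91

theorem HasGraph.edge_iff {X : Type*} [Group X] [Finite X] (h : HasGraph X) {a b : ℕ}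
    (ha : a.Prime) (hb : b.Prime) (hab : a ≠ b) :
    (∃ x : X, orderOf x = a * b) ↔
      (a * b = 6 ∨ a * b = 10 ∨ a * b = 14 ∨ a * b = 15) := by
  constructor
  · rintro ⟨x, hx⟩
    have h1 : a ∣ Nat.card X := by
      have := orderOf_dvd_natCard x
      rw [hx] at this
      exact (Dvd.intro _ rfl).trans this
    have h2 : b ∣ Nat.card X := by
      have := orderOf_dvd_natCard x
      rw [hx] at this
      exact (Dvd.intro_left _ rfl).trans this
    rw [h.primes a ha] at h1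
    rw [h.primes b hb] at h2
    have n26 := h.n26 x
    have n21 := h.n21 x
    have n39 := h.n39 x
    have n35 := h.n35 x
    have n65 := h.n65 x
    have n91 := h.n91 x
    rcases h1 with rfl | rfl | rfl | rfl | rfl <;> rcases h2 with rfl | rfl | rfl | rfl | rfl <;>
      omega
  · rintro (h6 | h10 | h14 | h15)
    · obtain ⟨x, hx⟩ := h.e6
      exact ⟨x, by rw [hx, h6]⟩
    · obtain ⟨x, hx⟩ := h.e10
      exact ⟨x, by rw [hx, h10]⟩
    · obtain ⟨x, hx⟩ := h.e14
      exact ⟨x, by rw [hx, h14]⟩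
    · obtain ⟨x, hx⟩ := h.e15
      exact ⟨x, by rw [hx, h15]⟩

theorem HasGraph.same {X Y : Type*} [Group X] [Group Y] [Finite X] [Finite Y]
    (hX : HasGraph X) (hY : HasGraph Y) :
    (∀ p : ℕ, p.Prime → (p ∣ Nat.card X ↔ p ∣ Nat.card Y)) ∧
    (∀ p q : ℕ, p.Prime → q.Prime → p ≠ q →
      ((∃ g : X, orderOf g = p * q) ↔ ∃ g : Y, orderOf g = p * q)) := by
  constructor
  · intro p hp
    rw [hX.primes p hp, hY.primes p hp]
  · intro p q hp hq hpq
    rw [hX.edge_iff hp hq hpq, hY.edge_iff hp hq hpq]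

end Cfsg.Agent.Lib.Helper15.PG63
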