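/-
Helper15 library (S3664): the Suzuki group over the concrete field with eight elements: explicit
elements of orders 2, 5, 7, 13; no elements of orders 26, 35, 65, 91; elements of order 7 and 13
are conjugate to powers of the explicit ones.
-/
import Cfsg.Agent.Lib.Helper15.PG63A
import Cfsg.Agent.Lib.Helper19.F8Model
import Cfsg.Agent.Lib.Helper15.SuzukiTori
import Cfsg.Agent.S2410

set_option autoImplicit false
set_option maxRecDepth 100000

namespace Cfsg.Agent.Lib.Helper15.PG63

open Cfsg.Agent.Lib.Helper19.F8Model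
open Cfsg.Agent.Lib.Helper15.SuzukiAlg Cfsg.Agent.Lib.Helper15.SuzukiOvoid
  Cfsg.Agent.Lib.Helper15.SuzukiForm Cfsg.Agent.Lib.Helper15.SuzukiMat
  Cfsg.Agent.Lib.Helper15.SuzukiGroup Cfsg.Agent.Lib.Helper15.SuzukiOrder
  Cfsg.Agent.Lib.Helper15.SuzukiZassenhaus Cfsg.Agent.Lib.Helper15.SuzukiBorel
  Cfsg.Agent.Lib.Helper15.SuzukiFpf Cfsg.Agent.Lib.Helper15.SuzukiTori

/-- the field with eight elements -/
abbrev K8 := F8

theorem hK8 : Fintype.card K8 = 2 ^ (2 * 1 + 1) := by decide

/-- the Suzuki group `Sz(8)` -/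
abbrev G8 : Type := ↥(Cfsg.Sz K8 1)

/-- a generator of the multiplicative group of the field -/
def zeta8 : K8ˣ := ⟨toF8 2, (toF8 2)⁻¹, by decide, by decide⟩

/-- an involution with entries in the prime field -/
def e2 : G8 := Ts hK8 0 1
/-- an element of order 5 with entries in the prime field -/
def e5 : G8 := Ts hK8 0 1 * Cfsg.Agent.S2410.Js hK8
/-- an element of order 7 -/
def e7 : G8 := Hs hK8 zeta8
/-- an element of order 13 -/
def e13 : G8 := Ts hK8 0 (toF8 3) * Cfsg.Agent.S2410.Js hK8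

theorem card_G8 : Nat.card G8 = 29120 := by
  rw [card_Sz hK8 le_rfl]
  norm_num

theorem orderOf_e2 : orderOf e2 = 2 := by
  have : Fact (Nat.Prime 2) := ⟨Nat.prime_two⟩
  exact orderOf_eq_prime (by decide) (by decide)

theorem orderOf_e5 : orderOf e5 = 5 := by
  have : Fact (Nat.Prime 5) := ⟨by norm_num⟩
  exact orderOf_eq_prime (by decide) (by decide)

theorem orderOf_e7 : orderOf e7 = 7 := by
  have : Fact (Nat.Prime 7) := ⟨by norm_num⟩
  exact orderOf_eq_prime (by decide) (by decide)

theorem orderOf_e13 : orderOf e13 = 13 := by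
  have : Fact (Nat.Prime 13) := ⟨by norm_num⟩
  exact orderOf_eq_prime (by decide) (by decide)


/-- an element whose order is divisible by 5 or 13 has order 5 or 13 -/
theorem order_of_dvd_65 {p : ℕ} (hp : p.Prime) (hp65 : p ∣ 65) (x : G8) (hpx : p ∣ orderOf x) :
    orderOf x ∣ 13 ∨ orderOf x ∣ 5 := by
  obtain ⟨x₁, x₂, -, -, h1, h2, -, -, hall⟩ := tori hK8 (le_refl 1)
  have hn0 : orderOf x ≠ 0 := (orderOf_pos x).ne'
  set y := x ^ (orderOf x / p) with hy
  have hoy : orderOf y = p := orderOf_pow_orderOf_div hn0 hpx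
  have hy1 : y ≠ 1 := by
    intro h
    rw [h, orderOf_one] at hoy
    exact hp.one_lt.ne' hoy.symm
  have hfpf : IsFpf y := by
    apply isFpf_of_order_dvd hK8 (le_refl 1) hy1
    rw [hoy]
    exact hp65
  have hxc : x ∈ Subgroup.centralizer ({y} : Set G8) := by
    rw [Subgroup.mem_centralizer_singleton_iff, hy]
    exact (pow_mul_comm' x _).symm
  have hdvd : orderOf x ∣ dd y := by
    have h3 := orderOf_dvd_natCard (⟨x, hxc⟩ : Subgroup.centralizer ({y} : Set G8))
    rwa [← Subgroup.orderOf_coe] at h3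
  rcases hall y hfpf with h | h
  · left
    rw [h, h1] at hdvd
    exact hdvd
  · right
    rw [h, h2] at hdvd
    exact hdvd

theorem no_mixed (x : G8) :
    orderOf x ≠ 26 ∧ orderOf x ≠ 35 ∧ orderOf x ≠ 65 ∧ orderOf x ≠ 91 := by
  refine ⟨?_, ?_, ?_, ?_⟩
  · intro h
    have := order_of_dvd_65 (p := 13) (by norm_num) (by norm_num) x (by rw [h]; norm_num)
    rw [h] at this
    omega
  · intro h
    have := order_of_dvd_65 (p := 5) (by norm_num) (by norm_num) x (by rw [h]; norm_num)
    rw [h] at this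
    omega
  · intro h
    have := order_of_dvd_65 (p := 5) (by norm_num) (by norm_num) x (by rw [h]; norm_num)
    rw [h] at this
    omega
  · intro h
    have := order_of_dvd_65 (p := 13) (by norm_num) (by norm_num) x (by rw [h]; norm_num)
    rw [h] at this
    omega

theorem fac7 : (Nat.card G8).factorization 7 = 1 := by
  rw [card_G8]
  have : (29120 : ℕ) = 7 ^ 1 * 4160 := by norm_num
  rw [this, Nat.factorization_mul (by norm_num) (by norm_num), Nat.Prime.factorization_pow
    (by norm_num)]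
  simp [Nat.factorization_eq_zero_of_not_dvd (show ¬ 7 ∣ 4160 by norm_num)]

theorem fac13 : (Nat.card G8).factorization 13 = 1 := by
  rw [card_G8]
  have : (29120 : ℕ) = 13 ^ 1 * 2240 := by norm_num
  rw [this, Nat.factorization_mul (by norm_num) (by norm_num), Nat.Prime.factorization_pow
    (by norm_num)]
  simp [Nat.factorization_eq_zero_of_not_dvd (show ¬ 13 ∣ 2240 by norm_num)]

theorem conj7 (x : G8) (hx : orderOf x = 7) : ∃ c : G8, ∃ j : ℕ, x = c⁻¹ * e7 ^ j * c := by
  have : Fact (Nat.Prime 7) := ⟨by norm_num⟩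
  exact exists_conj_pow 7 fac7 e7 x orderOf_e7 hx

theorem conj13 (x : G8) (hx : orderOf x = 13) : ∃ c : G8, ∃ j : ℕ, x = c⁻¹ * e13 ^ j * c := by
  have : Fact (Nat.Prime 13) := ⟨by norm_num⟩
  exact exists_conj_pow 13 fac13 e13 x orderOf_e13 hx

theorem conj13' (x : G8) (hx : orderOf x = 13) : ∃ c : G8, ∃ j : ℕ, e13 = c⁻¹ * x ^ j * c := by
  have : Fact (Nat.Prime 13) := ⟨by norm_num⟩
  exact exists_conj_pow 13 fac13 x e13 hx orderOf_e13

/-- the traces of the nontrivial powers of the explicit elements are not in the prime field -/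
theorem trace_e7 : ∀ j : Fin 7, e7 ^ j.val = 1 ∨
    (Matrix.trace (mat (e7 ^ j.val)) ≠ 0 ∧ Matrix.trace (mat (e7 ^ j.val)) ≠ 1) := by
  decide

theorem trace_e13 : ∀ j : Fin 13, e13 ^ j.val = 1 ∨
    (Matrix.trace (mat (e13 ^ j.val)) ≠ 0 ∧ Matrix.trace (mat (e13 ^ j.val)) ≠ 1) := by
  decide

theorem trace_conj (c y : G8) : Matrix.trace (mat (c⁻¹ * y * c)) = Matrix.trace (mat y) := by
  rw [mat_mul, mat_mul, Matrix.trace_mul_comm, ← mat_mul, ← mat_mul, mul_inv_cancel_left]

/-- elements of order 7 or 13 have their trace outside the prime field -/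
theorem trace_not_prime (x : G8) (hx : orderOf x = 7 ∨ orderOf x = 13) :
    Matrix.trace (mat x) ≠ 0 ∧ Matrix.trace (mat x) ≠ 1 := by
  have hx1 : x ≠ 1 := by
    intro h
    rw [h, orderOf_one] at hx
    omega
  rcases hx with hx | hx
  · obtain ⟨c, j, hj⟩ := conj7 x hx
    have h7 : e7 ^ j = e7 ^ (j % 7) := by
      conv_lhs => rw [← Nat.div_add_mod j 7, pow_add, pow_mul]
      have : e7 ^ 7 = 1 := by rw [← orderOf_e7]; exact pow_orderOf_eq_one _
      rw [this, one_pow, one_mul]
    rw [h7] at hj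
    rcases trace_e7 ⟨j % 7, Nat.mod_lt _ (by norm_num)⟩ with h | h
    · exfalso
      apply hx1
      rw [hj]
      simp only at h
      rw [h]
      group
    · rw [hj, trace_conj]
      exact h
  · obtain ⟨c, j, hj⟩ := conj13 x hx
    have h13 : e13 ^ j = e13 ^ (j % 13) := by
      conv_lhs => rw [← Nat.div_add_mod j 13, pow_add, pow_mul]
      have : e13 ^ 13 = 1 := by rw [← orderOf_e13]; exact pow_orderOf_eq_one _
      rw [this, one_pow, one_mul]
    rw [h13] at hj
    rcases trace_e13 ⟨j % 13, Nat.mod_lt _ (by norm_num)⟩ with h | h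
    · exfalso
      apply hx1
      rw [hj]
      simp only at h
      rw [h]
      group
    · rw [hj, trace_conj]
      exact h

end Cfsg.Agent.Lib.Helper15.PG63
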