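/-
Helper15 library (S3664): the group `Sz(8) : 3` (extension by the field automorphisms), its action
on the `4 × 4` matrices over the field with eight elements (`X ↦ g κ(X) (g^(2))ᵀ`), and the
semidirect product `2^48 : (Sz(8) : 3)`.
-/
import Cfsg.Agent.Lib.Helper15.PG63B
import Cfsg.Agent.Lib.Helper18.SzFieldAut

set_option autoImplicit false
set_option maxRecDepth 100000

namespace Cfsg.Agent.Lib.Helper15.PG63

open Cfsg.Agent.Lib.Helper19.F8Model
open Cfsg.Agent.Lib.Helper15.SuzukiAlg Cfsg.Agent.Lib.Helper15.SuzukiOvoid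
  Cfsg.Agent.Lib.Helper15.SuzukiForm Cfsg.Agent.Lib.Helper15.SuzukiMat
  Cfsg.Agent.Lib.Helper15.SuzukiGroup Cfsg.Agent.Lib.Helper15.SuzukiOrder
  Cfsg.Agent.Lib.Helper15.SuzukiZassenhaus Cfsg.Agent.Lib.Helper15.SuzukiBorel
  Cfsg.Agent.Lib.Helper15.SuzukiFpf Cfsg.Agent.Lib.Helper15.SuzukiTori
  Cfsg.Agent.Lib.Helper18.SzFieldAut
open SemidirectProduct Matrix

/-- the group of field automorphisms -/
abbrev A8 : Type := K8 ≃+* K8

instance finite_A8 : Finite A8 :=
  Finite.of_injective (fun e : A8 => (e : K8 → K8)) DFunLike.coe_injective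

theorem two_K8 : (2 : K8) = 0 := by decide

theorem card_A8 : Nat.card A8 = 3 := by
  have : CharP K8 2 := CharTwo.of_one_ne_zero_of_two_eq_zero one_ne_zero two_K8
  let _ : Algebra (ZMod 2) K8 := ZMod.algebra K8 2
  have hfin : Module.finrank (ZMod 2) K8 = 3 := by
    have h3 := Module.card_eq_pow_finrank (K := ZMod 2) (V := K8)
    rw [card_F8, ZMod.card] at h3
    exact (Nat.pow_right_injective (le_refl 2) (show 2 ^ 3 = 2 ^ _ from h3)).symm
  have e1 : (K8 ≃+* K8) ≃ (K8 ≃ₐ[ZMod 2] K8) :=
    { toFun := fun ψ => AlgEquiv.ofRingEquiv (f := ψ) (fun r => by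
        have : (ψ : K8 →+* K8).comp (algebraMap (ZMod 2) K8) = algebraMap (ZMod 2) K8 :=
          Subsingleton.elim _ _
        exact RingHom.congr_fun this r)
      invFun := fun ψ => ψ.toRingEquiv
      left_inv := fun ψ => by ext; rfl
      right_inv := fun ψ => by ext; rfl }
  rw [Nat.card_congr e1, ← Nat.card_congr (Equiv.ofBijective _
    (FiniteField.bijective_frobeniusAlgEquivOfAlgebraic_pow (ZMod 2) K8)), Nat.card_fin, hfin]

/-- the field automorphisms acting on the Suzuki group -/
noncomputable def phi1 : A8 →* MulAut G8 where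
  toFun κ := fieldAut hK8 κ
  map_one' := by
    ext g : 1
    apply Subtype.ext
    apply Subtype.ext
    ext i j
    rfl
  map_mul' κ l := by
    ext g : 1
    apply Subtype.ext
    apply Subtype.ext
    ext i j
    rfl

theorem mat_phi1 (κ : A8) (g : G8) : mat (phi1 κ g) = (mat g).map κ := rfl

/-- the group `Sz(8) : 3` -/
abbrev L8 : Type := G8 ⋊[phi1] A8

instance finite_L8 : Finite L8 := Finite.of_equiv _ SemidirectProduct.equivProd.symm

theorem card_L8 : Nat.card L8 = 87360 := by
  rw [SemidirectProduct.card, card_G8, card_A8]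

/-- the module -/
abbrev M8 : Type := Matrix (Fin 4) (Fin 4) K8

/-- squaring as a ring homomorphism -/
def sq8 : K8 →+* K8 where
  toFun x := x * x
  map_one' := by decide
  map_mul' := by decide
  map_zero' := by decide
  map_add' := by decide

/-- the action on the module -/
def act8 (x : L8) (X : M8) : M8 := mat x.left * X.map x.right * ((mat x.left).map sq8)ᵀ

theorem map_mul_equiv (κ : A8) (P Q : M8) : (P * Q).map κ = P.map κ * Q.map κ :=
  Matrix.map_mul (f := (κ : K8 →+* K8))

theorem act8_one (X : M8) : act8 1 X = X := by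
  unfold act8
  have h1 : mat ((1 : L8).left) = 1 := rfl
  have h2 : X.map ((1 : L8).right) = X := by
    ext i j
    rfl
  rw [h1, h2, Matrix.map_one _ (map_zero sq8) (map_one sq8), Matrix.transpose_one, Matrix.one_mul,
    Matrix.mul_one]

theorem act8_mul (x y : L8) (X : M8) : act8 (x * y) X = act8 x (act8 y X) := by
  unfold act8
  have h1 : mat (x * y).left = mat x.left * (mat y.left).map x.right := by
    rw [SemidirectProduct.mul_left, mat_mul, mat_phi1]
  have h2 : X.map (x * y).right = (X.map y.right).map x.right := by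
    ext i j
    rfl
  have h3 : ((mat y.left).map sq8)ᵀ.map x.right = (((mat y.left).map x.right).map sq8)ᵀ := by
    ext i j
    simp only [Matrix.map_apply, Matrix.transpose_apply, sq8, RingHom.coe_mk, MonoidHom.coe_mk,
      OneHom.coe_mk, map_mul]
  rw [h1, h2, map_mul_equiv, map_mul_equiv, h3, Matrix.map_mul, Matrix.transpose_mul]
  simp only [Matrix.mul_assoc]

theorem act8_zero (x : L8) : act8 x 0 = 0 := by
  unfold act8
  have : (0 : M8).map x.right = 0 := by
    ext i j
    simp
  rw [this, Matrix.mul_zero, Matrix.zero_mul]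

theorem act8_add (x : L8) (X Y : M8) : act8 x (X + Y) = act8 x X + act8 x Y := by
  unfold act8
  have : (X + Y).map x.right = X.map x.right + Y.map x.right := by
    ext i j
    simp
  rw [this, Matrix.mul_add, Matrix.add_mul]

instance distrib_L8 : DistribMulAction L8 M8 where
  smul := act8
  one_smul := act8_one
  mul_smul := act8_mul
  smul_zero := act8_zero
  smul_add := act8_add

theorem smul_def8 (x : L8) (X : M8) : x • X = act8 x X := rfl

/-- the action as a homomorphism -/
noncomputable def Phi8 : L8 →* MulAut (Multiplicative M8) :=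
  (MulAutMultiplicative M8).symm.toMonoidHom.comp (DistribMulAction.toAddAut L8 M8)

theorem Phi8_apply (x : L8) (X : M8) :
    Phi8 x (Multiplicative.ofAdd X) = Multiplicative.ofAdd (x • X) := rfl

/-- the group `2^48 : (Sz(8) : 3)` -/
abbrev G0 : Type := Multiplicative M8 ⋊[Phi8] L8

instance finite_G0 : Finite G0 := Finite.of_equiv _ SemidirectProduct.equivProd.symm

theorem act8_inl (g : G8) (X : M8) :
    (inl g : L8) • X = mat g * X * ((mat g).map sq8)ᵀ := by
  rw [smul_def8]
  unfold act8
  have h2 : X.map ((inl g : L8).right) = X := by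
    ext i j
    rfl
  rw [h2]
  rfl

end Cfsg.Agent.Lib.Helper15.PG63
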