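/-
Helper15 library (S3664): element orders in `Sz(8) : 3`.
-/
import Cfsg.Agent.Lib.Helper15.PG63C

set_option autoImplicit false
set_option maxRecDepth 100000

namespace Cfsg.Agent.Lib.Helper15.PG63

open Cfsg.Agent.Lib.Helper19.F8Model
open Cfsg.Agent.Lib.Helper15.SuzukiAlg Cfsg.Agent.Lib.Helper15.SuzukiOvoid
  Cfsg.Agent.Lib.Helper15.SuzukiForm Cfsg.Agent.Lib.Helper15.SuzukiMat
  Cfsg.Agent.Lib.Helper15.SuzukiGroup Cfsg.Agent.Lib.Helper15.SuzukiOrder
  Cfsg.Agent.Lib.Helper15.SuzukiZassenhaus Cfsg.Agent.Lib.Helper15.SuzukiBorel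
  Cfsg.Agent.Lib.Helper15.SuzukiFpf Cfsg.Agent.Lib.Helper15.SuzukiTori
  Cfsg.Agent.Lib.Helper18.SzFieldAut
open SemidirectProduct Matrix

theorem right_pow8 (x : L8) (k : ℕ) : (x ^ k).right = x.right ^ k := by
  have := map_pow (rightHom : L8 →* A8) x k
  simpa using this

theorem right_pow_three (x : L8) : x.right ^ 3 = 1 := by
  rw [← card_A8]
  exact pow_card_eq_one'

theorem eq_inl8 (x : L8) (h : x.right = 1) : x = inl x.left := by
  apply SemidirectProduct.ext
  · simp
  · simp [h]

theorem right_eq_one_of_coprime (x : L8) (h : Nat.Coprime (orderOf x) 3) : x.right = 1 := by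
  have h1 : x.right ^ orderOf x = 1 := by
    rw [← right_pow8, pow_orderOf_eq_one]
    rfl
  have h2 : orderOf x.right ∣ Nat.gcd (orderOf x) 3 :=
    Nat.dvd_gcd (orderOf_dvd_of_pow_eq_one h1) (orderOf_dvd_of_pow_eq_one (right_pow_three x))
  rw [h] at h2
  exact orderOf_eq_one_iff.mp (Nat.dvd_one.mp h2)

theorem orderOf_inl8 (g : G8) : orderOf (inl g : L8) = orderOf g :=
  orderOf_injective (inl : G8 →* L8) inl_injective g

theorem L8_no_mixed (x : L8) :
    orderOf x ≠ 26 ∧ orderOf x ≠ 35 ∧ orderOf x ≠ 65 ∧ orderOf x ≠ 91 := by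
  by_cases hc : Nat.Coprime (orderOf x) 3
  · have h1 := eq_inl8 x (right_eq_one_of_coprime x hc)
    have h2 : orderOf x = orderOf x.left := by
      conv_lhs => rw [h1]
      exact orderOf_inl8 _
    rw [h2]
    exact no_mixed x.left
  · refine ⟨?_, ?_, ?_, ?_⟩ <;> intro h <;> apply hc <;> rw [h] <;> norm_num

/-- the generation of the field by an element outside the prime field -/
theorem span8 : ∀ a b : K8, a = 0 ∨ a = 1 ∨ ∃ c0 c1 c2 : Bool,
    b = (if c0 then 1 else 0) + (if c1 then a else 0) + (if c2 then a * a else 0) := by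
  decide

theorem fixed_prime (κ : A8) (hκ : κ ≠ 1) (a : K8) (ha : κ a = a) : a = 0 ∨ a = 1 := by
  by_contra hcon
  push Not at hcon
  apply hκ
  apply RingEquiv.ext
  intro b
  rcases span8 a b with h | h | ⟨c0, c1, c2, hb⟩
  · exact absurd h hcon.1
  · exact absurd h hcon.2
  · rw [hb]
    show κ _ = _
    cases c0 <;> cases c1 <;> cases c2 <;> simp [ha]

theorem L8_no_3r (x : L8) (r : ℕ) (hr : r = 7 ∨ r = 13) : orderOf x ≠ 3 * r := by
  intro hx
  set t := x ^ 3 with ht
  have hot : orderOf t = r := by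
    rw [ht, orderOf_pow' x (by norm_num), hx]
    rcases hr with rfl | rfl <;> norm_num
  have htr : t.right = 1 := by rw [ht, right_pow8, right_pow_three]
  have ht' := eq_inl8 t htr
  set t' := t.left with ht'def
  have hot' : orderOf t' = r := by
    rw [← orderOf_inl8, ← ht', hot]
  have hcomm : x * t = t * x := ((Commute.refl x).pow_right 3).eq
  by_cases hκ : x.right = 1
  · have h1 := eq_inl8 x hκ
    have h2 : orderOf x.left = 3 * r := by
      rw [← orderOf_inl8, ← h1, hx]
    have h3 := orderOf_dvd_natCard x.left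
    rw [h2, card_G8] at h3
    have h4 : (3 : ℕ) ∣ 29120 := (Dvd.intro _ rfl).trans h3
    norm_num at h4
  · have key : phi1 x.right t' = x.left⁻¹ * t' * x.left := by
      have h1 := congrArg SemidirectProduct.left hcomm
      rw [ht'] at h1
      simp only [SemidirectProduct.mul_left, SemidirectProduct.left_inl,
        SemidirectProduct.right_inl, map_one, MulAut.one_apply] at h1
      rw [mul_assoc, ← h1, inv_mul_cancel_left]
    have h2 : Matrix.trace (mat (phi1 x.right t')) = x.right (Matrix.trace (mat t')) := by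
      rw [mat_phi1]
      exact (AddMonoidHom.map_trace x.right (mat t')).symm
    rw [key, trace_conj] at h2
    have h3 := trace_not_prime t' (by rcases hr with rfl | rfl <;> [left; right] <;> exact hot')
    rcases fixed_prime x.right hκ _ h2.symm with h | h
    · exact h3.1 h
    · exact h3.2 h

theorem L8_no_21_39 (x : L8) : orderOf x ≠ 21 ∧ orderOf x ≠ 39 :=
  ⟨L8_no_3r x 7 (Or.inl rfl), L8_no_3r x 13 (Or.inr rfl)⟩

/-- the Frobenius automorphism -/
def frobE : A8 where
  toFun x := x * x
  invFun x := (x * x) * (x * x)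
  left_inv := by
    intro x
    revert x
    decide
  right_inv := by
    intro x
    revert x
    decide
  map_mul' := by decide
  map_add' := by decide

theorem orderOf_frobE : orderOf frobE = 3 := by
  have : Fact (Nat.Prime 3) := ⟨by norm_num⟩
  apply orderOf_eq_prime
  · apply RingEquiv.ext
    intro x
    show frobE (frobE (frobE x)) = x
    revert x
    decide
  · intro h
    have h1 : frobE (toF8 2) = toF8 2 := by rw [h]; rfl
    revert h1
    decide

theorem phi1_e2 : phi1 frobE e2 = e2 := by decide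

theorem phi1_e5 : phi1 frobE e5 = e5 := by decide

theorem commute_inl_inr (g : G8) (κ : A8) (h : phi1 κ g = g) :
    Commute (inl g : L8) (inr κ) := by
  have h3 := inl_aut (φ := phi1) κ g
  rw [h] at h3
  show inl g * inr κ = inr κ * inl g
  conv_lhs => rw [h3]
  rw [map_inv, inv_mul_cancel_right]

theorem orderOf_inr8 (κ : A8) : orderOf (inr κ : L8) = orderOf κ :=
  orderOf_injective (inr : A8 →* L8) inr_injective κ

theorem L8_e6 : ∃ x : L8, orderOf x = 6 := by
  refine ⟨inl e2 * inr frobE, ?_⟩
  rw [(commute_inl_inr e2 frobE phi1_e2).orderOf_mul_eq_mul_orderOf_of_coprime, orderOf_inl8,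
    orderOf_inr8, orderOf_e2, orderOf_frobE]
  rw [orderOf_inl8, orderOf_inr8, orderOf_e2, orderOf_frobE]
  norm_num

theorem L8_e15 : ∃ x : L8, orderOf x = 15 := by
  refine ⟨inl e5 * inr frobE, ?_⟩
  rw [(commute_inl_inr e5 frobE phi1_e5).orderOf_mul_eq_mul_orderOf_of_coprime, orderOf_inl8,
    orderOf_inr8, orderOf_e5, orderOf_frobE]
  rw [orderOf_inl8, orderOf_inr8, orderOf_e5, orderOf_frobE]
  norm_num

theorem prime_dvd_87360 (q : ℕ) (hq : q.Prime) :
    q ∣ 87360 ↔ q = 2 ∨ q = 3 ∨ q = 5 ∨ q = 7 ∨ q = 13 := by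
  have h : (87360 : ℕ) = 2 ^ 6 * 3 * 5 * 7 * 13 := by norm_num
  rw [h]
  constructor
  · intro hd
    rcases (Nat.Prime.dvd_mul hq).mp hd with hd | hd
    · rcases (Nat.Prime.dvd_mul hq).mp hd with hd | hd
      · rcases (Nat.Prime.dvd_mul hq).mp hd with hd | hd
        · rcases (Nat.Prime.dvd_mul hq).mp hd with hd | hd
          · left
            exact (Nat.prime_dvd_prime_iff_eq hq Nat.prime_two).mp (hq.dvd_of_dvd_pow hd)
          · right; left
            exact (Nat.prime_dvd_prime_iff_eq hq (by norm_num)).mp hd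
        · right; right; left
          exact (Nat.prime_dvd_prime_iff_eq hq (by norm_num)).mp hd
      · right; right; right; left
        exact (Nat.prime_dvd_prime_iff_eq hq (by norm_num)).mp hd
    · right; right; right; right
      exact (Nat.prime_dvd_prime_iff_eq hq (by norm_num)).mp hd
  · rintro (rfl | rfl | rfl | rfl | rfl) <;> norm_num

end Cfsg.Agent.Lib.Helper15.PG63
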