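/-
Helper15 library (S3664): the prime graph of `2^48 : (Sz(8) : 3)`.
-/
import Cfsg.Agent.Lib.Helper15.PG63D

set_option autoImplicit false
set_option maxRecDepth 100000

namespace Cfsg.Agent.Lib.Helper15.PG63

open Cfsg.Agent.Lib.Helper19.F8Model
open Cfsg.Agent.Lib.Helper15.SuzukiAlg Cfsg.Agent.Lib.Helper15.SuzukiOvoid
  Cfsg.Agent.Lib.Helper15.SuzukiForm Cfsg.Agent.Lib.Helper15.SuzukiMat
  Cfsg.Agent.Lib.Helper15.SuzukiGroup Cfsg.Agent.Lib.Helper15.SuzukiOrder
  Cfsg.Agent.Lib.Helper15.SuzukiZassenhaus Cfsg.Agent.Lib.Helper15.SuzukiBorel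
  Cfsg.Agent.Lib.Helper15.SuzukiFpf Cfsg.Agent.Lib.Helper15.SuzukiTori
  Cfsg.Agent.Lib.Helper18.SzFieldAut
open SemidirectProduct Matrix

/-- decoding of a list of sixteen numbers as a matrix -/
def mk4 (l : List ℕ) : M8 := Matrix.of fun i j => toF8 (l.getD (4 * i.val + j.val) 0)

/-- the matrix of the element of order 13 -/
def A13 : M8 := mk4 [7, 3, 0, 1, 3, 0, 1, 0, 0, 1, 0, 0, 1, 0, 0, 0]
/-- the inverse of the twisted transpose -/
def C13 : M8 := mk4 [0, 0, 0, 1, 0, 0, 1, 0, 0, 1, 0, 5, 1, 0, 5, 3]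
/-- the inverse of the characteristic polynomial of `A13` evaluated at `C13` -/
def D13 : M8 := mk4 [1, 3, 2, 5, 3, 0, 2, 2, 2, 2, 1, 4, 5, 2, 4, 4]

theorem mat_e13 : mat e13 = A13 := by decide

theorem B13_C13 : ((mat e13).map sq8)ᵀ * C13 = 1 := by decide

theorem poly_A13 : A13 * A13 * A13 * A13 + toF8 7 • (A13 * A13 * A13) + toF8 5 • (A13 * A13) +
    toF8 7 • A13 + 1 = 0 := by decide

theorem poly_C13 : (C13 * C13 * C13 * C13 + toF8 7 • (C13 * C13 * C13) + toF8 5 • (C13 * C13) +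
    toF8 7 • C13 + 1) * D13 = 1 := by decide

/-- the element of order 13 has no nonzero fixed point -/
theorem fpf_e13 (X : M8) (h : (inl e13 : L8) • X = X) : X = 0 := by
  rw [act8_inl, mat_e13] at h
  have hB := B13_C13
  rw [mat_e13] at hB
  have h1 : A13 * X = X * C13 := by
    calc A13 * X = A13 * X * (((A13).map sq8)ᵀ * C13) := by rw [hB, Matrix.mul_one]
      _ = (A13 * X * ((A13).map sq8)ᵀ) * C13 := by simp only [Matrix.mul_assoc]
      _ = X * C13 := by rw [h]
  have h2 : A13 * A13 * X = X * (C13 * C13) := by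
    rw [Matrix.mul_assoc, h1, ← Matrix.mul_assoc, h1, Matrix.mul_assoc]
  have h3 : A13 * A13 * A13 * X = X * (C13 * C13 * C13) := by
    rw [Matrix.mul_assoc, h1, ← Matrix.mul_assoc, h2, Matrix.mul_assoc]
  have h4 : A13 * A13 * A13 * A13 * X = X * (C13 * C13 * C13 * C13) := by
    rw [Matrix.mul_assoc, h1, ← Matrix.mul_assoc, h3, Matrix.mul_assoc]
  have h5 : X * (C13 * C13 * C13 * C13 + toF8 7 • (C13 * C13 * C13) + toF8 5 • (C13 * C13) +
      toF8 7 • C13 + 1) = 0 := by
    have := congrArg (fun P => P * X) poly_A13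
    simp only [Matrix.add_mul, Matrix.smul_mul, Matrix.one_mul, Matrix.zero_mul, h1, h2, h3,
      h4] at this
    rw [← this]
    simp only [Matrix.mul_add, Matrix.mul_smul, Matrix.mul_one]
  calc X = X * ((C13 * C13 * C13 * C13 + toF8 7 • (C13 * C13 * C13) + toF8 5 • (C13 * C13) +
      toF8 7 • C13 + 1) * D13) := by rw [poly_C13, Matrix.mul_one]
    _ = 0 := by rw [← Matrix.mul_assoc, h5, Matrix.zero_mul]

/-- a matrix fixed by the element of order 5 -/
def X5 : M8 := mk4 [0, 0, 0, 1, 0, 0, 1, 0, 0, 1, 0, 0, 1, 0, 0, 0]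
/-- a matrix fixed by the element of order 7 -/
def X7 : M8 := mk4 [0, 1, 0, 0, 0, 0, 0, 0, 0, 0, 0, 0, 0, 0, 0, 0]

theorem fix_e5 : (inl e5 : L8) • X5 = X5 := by
  rw [act8_inl]
  decide

theorem fix_e7 : (inl e7 : L8) • X7 = X7 := by
  rw [act8_inl]
  decide

theorem X5_ne : X5 ≠ 0 := by decide
theorem X7_ne : X7 ≠ 0 := by decide

theorem hexp8 (n : Multiplicative M8) : n ^ 2 = 1 := by
  apply Multiplicative.toAdd.injective
  rw [toAdd_pow, toAdd_one, two_nsmul]
  ext i j
  have : ∀ a : K8, a + a = 0 := by decide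
  exact this _

theorem G0_fix_iff (l : L8) (n : Multiplicative M8) :
    Phi8 l n = n ↔ l • (Multiplicative.toAdd n) = Multiplicative.toAdd n := by
  constructor
  · intro h
    have := congrArg Multiplicative.toAdd h
    exact this
  · intro h
    exact congrArg Multiplicative.ofAdd h

theorem pow_smul_fixed (l : L8) (X : M8) (h : l • X = X) (j : ℕ) : l ^ j • X = X := by
  induction j with
  | zero => rw [pow_zero, one_smul]
  | succ k ih => rw [pow_succ, mul_smul, h, ih]

/-- no element of order 13 fixes a nonzero matrix -/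
theorem fpf_13 (l : L8) (hl : orderOf l = 13) (X : M8) (hX : l • X = X) : X = 0 := by
  have hr := right_eq_one_of_coprime l (by rw [hl]; norm_num)
  have h1 := eq_inl8 l hr
  set g := l.left with hg
  have hog : orderOf g = 13 := by rw [← orderOf_inl8, ← h1, hl]
  obtain ⟨c, j, hj⟩ := conj13' g hog
  have h2 : (inl e13 : L8) = (inl c)⁻¹ * l ^ j * inl c := by
    rw [hj, h1, map_mul, map_mul, map_pow, map_inv]
  have h3 : (inl e13 : L8) • ((inl c : L8)⁻¹ • X) = (inl c : L8)⁻¹ • X := by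
    rw [h2, mul_smul, mul_smul, smul_inv_smul, pow_smul_fixed l X hX]
  have h4 := fpf_e13 _ h3
  have h5 : X = (inl c : L8) • ((inl c : L8)⁻¹ • X) := (smul_inv_smul _ _).symm
  rw [h5, h4, smul_zero]

theorem G0_graph : HasGraph G0 where
  primes := by
    intro q hq
    have hN : ∃ n : Multiplicative M8, n ≠ 1 := ⟨Multiplicative.ofAdd X5, fun h => X5_ne h⟩
    rw [semi_prime_dvd Phi8 Nat.prime_two hexp8 hN q hq, card_L8, prime_dvd_87360 q hq]
    constructor
    · rintro (h | h)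
      · exact Or.inl h
      · exact h
    · intro h
      exact Or.inr h
  e6 := by
    obtain ⟨l, hl⟩ := L8_e6
    exact ⟨inr l, by rw [orderOf_injective (inr : L8 →* G0) inr_injective, hl]⟩
  e15 := by
    obtain ⟨l, hl⟩ := L8_e15
    exact ⟨inr l, by rw [orderOf_injective (inr : L8 →* G0) inr_injective, hl]⟩
  e10 := by
    have := (semi_with_p Phi8 Nat.prime_two hexp8 (a := 5) (by norm_num) (by norm_num)).mpr
      (Or.inr ⟨inl e5, by rw [orderOf_inl8, orderOf_e5], Multiplicative.ofAdd X5,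
        fun h => X5_ne h, (G0_fix_iff _ _).mpr fix_e5⟩)
    exact this
  e14 := by
    have := (semi_with_p Phi8 Nat.prime_two hexp8 (a := 7) (by norm_num) (by norm_num)).mpr
      (Or.inr ⟨inl e7, by rw [orderOf_inl8, orderOf_e7], Multiplicative.ofAdd X7,
        fun h => X7_ne h, (G0_fix_iff _ _).mpr fix_e7⟩)
    exact this
  n26 := by
    intro x hx
    rcases (semi_with_p Phi8 Nat.prime_two hexp8 (a := 13) (by norm_num) (by norm_num)).mp
      ⟨x, hx⟩ with ⟨l, hl⟩ | ⟨l, hl, n, hn, hfx⟩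
    · exact (L8_no_mixed l).1 hl
    · apply hn
      have := fpf_13 l hl _ ((G0_fix_iff l n).mp hfx)
      exact this
  n21 := by
    intro x hx
    obtain ⟨l, hl⟩ := (semi_coprime Phi8 Nat.prime_two hexp8 (a := 3) (b := 7) (by norm_num)
      (by norm_num) (by norm_num) (by norm_num)).mp ⟨x, hx⟩
    exact (L8_no_21_39 l).1 hl
  n39 := by
    intro x hx
    obtain ⟨l, hl⟩ := (semi_coprime Phi8 Nat.prime_two hexp8 (a := 3) (b := 13) (by norm_num)
      (by norm_num) (by norm_num) (by norm_num)).mp ⟨x, hx⟩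
    exact (L8_no_21_39 l).2 hl
  n35 := by
    intro x hx
    obtain ⟨l, hl⟩ := (semi_coprime Phi8 Nat.prime_two hexp8 (a := 5) (b := 7) (by norm_num)
      (by norm_num) (by norm_num) (by norm_num)).mp ⟨x, hx⟩
    exact (L8_no_mixed l).2.1 hl
  n65 := by
    intro x hx
    obtain ⟨l, hl⟩ := (semi_coprime Phi8 Nat.prime_two hexp8 (a := 5) (b := 13) (by norm_num)
      (by norm_num) (by norm_num) (by norm_num)).mp ⟨x, hx⟩
    exact (L8_no_mixed l).2.2.1 hl
  n91 := by
    intro x hx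
    obtain ⟨l, hl⟩ := (semi_coprime Phi8 Nat.prime_two hexp8 (a := 7) (b := 13) (by norm_num)
      (by norm_num) (by norm_num) (by norm_num)).mp ⟨x, hx⟩
    exact (L8_no_mixed l).2.2.2 hl

/-- the normal subgroup of exponent two -/
theorem G0_normal :
    ∃ V : Subgroup G0, V.Normal ∧ V ≠ ⊥ ∧ ∀ x ∈ V, x ^ 2 = 1 := by
  refine ⟨(inl : Multiplicative M8 →* G0).range, ?_, ?_, ?_⟩
  · rw [SemidirectProduct.range_inl_eq_ker_rightHom]
    infer_instance
  · intro h
    have hmem : (inl (Multiplicative.ofAdd X5) : G0) ∈ (inl : Multiplicative M8 →* G0).range :=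
      ⟨_, rfl⟩
    rw [h, Subgroup.mem_bot] at hmem
    have h2 : Multiplicative.ofAdd X5 = 1 := inl_injective (by rw [hmem, map_one])
    exact X5_ne h2
  · rintro _ ⟨n, rfl⟩
    rw [← map_pow, hexp8, map_one]

end Cfsg.Agent.Lib.Helper15.PG63
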