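/-
Helper15 library (S3664): generic tools for the target side: symplectic groups over isomorphic
fields, the commutant of a cyclic matrix, orders in a central quotient from the centraliser of an
element generating a Sylow subgroup.
-/
import Cfsg.Agent.Lib.Helper15.PG63A
import Cfsg.Prelude.Def_Classical

set_option autoImplicit false

namespace Cfsg.Agent.Lib.Helper15.PG63

open Matrix

section congr

variable {F F' : Type*} [Field F] [Field F'] {m : ℕ}

theorem J_map (e : F ≃+* F') : (Matrix.J (Fin m) F).map e = Matrix.J (Fin m) F' := by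
  rw [Matrix.J, Matrix.fromBlocks_map, Matrix.map_zero _ (map_zero e),
    Matrix.map_neg _ (map_neg e), Matrix.map_one _ (map_zero e) (map_one e)]
  rfl

theorem map_mem_symplectic (e : F ≃+* F') {A : Matrix (Fin m ⊕ Fin m) (Fin m ⊕ Fin m) F}
    (hA : A ∈ Matrix.symplecticGroup (Fin m) F) :
    A.map e ∈ Matrix.symplecticGroup (Fin m) F' := by
  rw [SymplecticGroup.mem_iff] at hA ⊢
  have h1 : (A * Matrix.J (Fin m) F * Aᵀ).map e = (Matrix.J (Fin m) F).map e := by rw [hA]
  have hm : ∀ P Q : Matrix (Fin m ⊕ Fin m) (Fin m ⊕ Fin m) F,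
      (P * Q).map e = P.map e * Q.map e := fun P Q => Matrix.map_mul (f := (e : F →+* F'))
  rw [hm, hm] at h1
  rw [← J_map e, ← Matrix.transpose_map]
  exact h1

/-- symplectic groups over isomorphic fields -/
def sympCongr (e : F ≃+* F') :
    Matrix.symplecticGroup (Fin m) F ≃* Matrix.symplecticGroup (Fin m) F' where
  toFun A := ⟨A.1.map e, map_mem_symplectic e A.2⟩
  invFun A := ⟨A.1.map e.symm, map_mem_symplectic e.symm A.2⟩
  left_inv A := by
    apply Subtype.ext
    ext i j
    simp
  right_inv A := by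
    apply Subtype.ext
    ext i j
    simp
  map_mul' A B := by
    apply Subtype.ext
    exact Matrix.map_mul (f := (e : F →+* F')) (L := A.1) (M := B.1)

theorem map_center_equiv {H H' : Type*} [Group H] [Group H'] (e : H ≃* H') :
    (Subgroup.center H).map e.toMonoidHom = Subgroup.center H' := by
  ext x
  constructor
  · rintro ⟨z, hz, rfl⟩
    rw [Subgroup.mem_center_iff]
    intro y
    obtain ⟨w, rfl⟩ := e.surjective y
    have := Subgroup.mem_center_iff.mp hz w
    change e w * e z = e z * e w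
    rw [← map_mul, ← map_mul, this]
  · intro hx
    refine ⟨e.symm x, ?_, by simp⟩
    show e.symm x ∈ Subgroup.center H
    rw [Subgroup.mem_center_iff]
    intro y
    have := Subgroup.mem_center_iff.mp hx (e y)
    apply e.injective
    rw [map_mul, map_mul, e.apply_symm_apply]
    exact this

/-- projective symplectic groups over isomorphic fields -/
noncomputable def pspCongr (e : F ≃+* F') : Cfsg.PSp m F ≃* Cfsg.PSp m F' :=
  QuotientGroup.congr _ _ (sympCongr e) (map_center_equiv (sympCongr e))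

end congr

theorem HasGraph.of_equiv {X Y : Type*} [Group X] [Group Y] (e : X ≃* Y) (h : HasGraph X) :
    HasGraph Y where
  primes := by
    intro q hq
    rw [← Nat.card_congr e.toEquiv]
    exact h.primes q hq
  e6 := by
    obtain ⟨x, hx⟩ := h.e6
    exact ⟨e x, by rw [e.orderOf_eq, hx]⟩
  e10 := by
    obtain ⟨x, hx⟩ := h.e10
    exact ⟨e x, by rw [e.orderOf_eq, hx]⟩
  e14 := by
    obtain ⟨x, hx⟩ := h.e14
    exact ⟨e x, by rw [e.orderOf_eq, hx]⟩
  e15 := by
    obtain ⟨x, hx⟩ := h.e15
    exact ⟨e x, by rw [e.orderOf_eq, hx]⟩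
  n26 := fun y hy => h.n26 (e.symm y) (by rw [e.symm.orderOf_eq, hy])
  n21 := fun y hy => h.n21 (e.symm y) (by rw [e.symm.orderOf_eq, hy])
  n39 := fun y hy => h.n39 (e.symm y) (by rw [e.symm.orderOf_eq, hy])
  n35 := fun y hy => h.n35 (e.symm y) (by rw [e.symm.orderOf_eq, hy])
  n65 := fun y hy => h.n65 (e.symm y) (by rw [e.symm.orderOf_eq, hy])
  n91 := fun y hy => h.n91 (e.symm y) (by rw [e.symm.orderOf_eq, hy])

/-- the commutant of a matrix with a cyclic vector consists of polynomials in the matrix -/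
theorem commutant_eq {n : Type*} [Fintype n] [DecidableEq n] {R : Type*} [CommRing R] {d : ℕ}
    (g : Matrix n n R) (v : n → R) (Kinv : Matrix (Fin d) n R)
    (hK : (Matrix.of fun i (j : Fin d) => ((g ^ j.val) *ᵥ v) i) * Kinv = 1)
    (x : Matrix n n R) (hx : x * g = g * x) :
    x = ∑ j : Fin d, (Kinv *ᵥ (x *ᵥ v)) j • g ^ j.val := by
  set Kry : Matrix n (Fin d) R := Matrix.of fun i (j : Fin d) => ((g ^ j.val) *ᵥ v) i with hKry
  set c := Kinv *ᵥ (x *ᵥ v) with hc
  set P := ∑ j : Fin d, c j • g ^ j.val with hP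
  have hcomm : ∀ (y : Matrix n n R), y * g = g * y → ∀ k : ℕ, y * g ^ k = g ^ k * y := by
    intro y hy k
    exact ((Commute.pow_right (show Commute y g from hy)) k).eq
  have hPg : P * g = g * P := by
    rw [hP, Finset.sum_mul, Finset.mul_sum]
    apply Finset.sum_congr rfl
    intro j _
    rw [Matrix.smul_mul, Matrix.mul_smul, ← pow_succ, ← pow_succ']
  have hPv : P *ᵥ v = x *ᵥ v := by
    have h1 : P *ᵥ v = Kry *ᵥ c := by
      ext i
      rw [hP, Matrix.sum_mulVec]
      simp only [Finset.sum_apply, Matrix.smul_mulVec, Pi.smul_apply, smul_eq_mul]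
      simp only [Matrix.mulVec, dotProduct, hKry, Matrix.of_apply]
      apply Finset.sum_congr rfl
      intro j _
      rw [mul_comm]
    rw [h1, hc, Matrix.mulVec_mulVec, hK, Matrix.one_mulVec]
  have hy : ∀ y : Matrix n n R, y * g = g * y → y *ᵥ v = 0 → y = 0 := by
    intro y hyg hyv
    have h1 : y * Kry = 0 := by
      ext i j
      have h2 : (y * Kry) i j = ((y * g ^ j.val) *ᵥ v) i := by
        rw [← Matrix.mulVec_mulVec]
        simp only [Matrix.mul_apply, Matrix.mulVec, dotProduct, hKry, Matrix.of_apply]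
      rw [h2, hcomm y hyg, ← Matrix.mulVec_mulVec, hyv, Matrix.mulVec_zero]
      rfl
    calc y = y * (Kry * Kinv) := by rw [hK, Matrix.mul_one]
      _ = 0 := by rw [← Matrix.mul_assoc, h1, Matrix.zero_mul]
  have := hy (x - P) (by rw [Matrix.sub_mul, Matrix.mul_sub, hx, hPg])
    (by rw [Matrix.sub_mulVec, hPv, sub_self])
  exact sub_eq_zero.mp this

/-- orders in a central quotient, from the centraliser of a generator of a Sylow subgroup of prime
order -/
theorem order_dvd_of_cent {S : Type*} [Group S] [Finite S] (r e : ℕ) [hr : Fact r.Prime]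
    (hr2 : r ≠ 2) (hfac : (Nat.card S).factorization r = 1) (g : S) (hg : orderOf g = r)
    (hZ : ∀ z ∈ Subgroup.center S, z ^ 2 = 1)
    (hcent : ∀ x : S, x * g = g * x → x ^ e ∈ Subgroup.center S)
    (xb : S ⧸ Subgroup.center S) (hrx : r ∣ orderOf xb) : orderOf xb ∣ e := by
  obtain ⟨x, rfl⟩ := QuotientGroup.mk_surjective xb
  obtain ⟨k, hk⟩ := hrx
  set n := orderOf (x : S ⧸ Subgroup.center S) with hn
  have hn0 : 0 < n := orderOf_pos _
  have hk0 : 0 < k := by
    rcases Nat.eq_zero_or_pos k with h | h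
    · rw [h, mul_zero] at hk
      omega
    · exact h
  have hxn : x ^ n ∈ Subgroup.center S := by
    rw [← QuotientGroup.eq_one_iff, QuotientGroup.mk_pow, hn, pow_orderOf_eq_one]
  set y := x ^ (2 * k) with hy
  have hyr : y ^ r = 1 := by
    have h2kr : 2 * k * r = n * 2 := by rw [hk]; ring
    rw [hy, ← pow_mul, h2kr, pow_mul]
    exact hZ _ hxn
  have hy1 : y ≠ 1 := by
    intro h
    have h1 : ((x : S ⧸ Subgroup.center S)) ^ (2 * k) = 1 := by
      rw [← QuotientGroup.mk_pow, ← hy, h]
      rfl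
    have h2 := orderOf_dvd_of_pow_eq_one h1
    rw [← hn, hk, mul_comm 2 k, mul_comm r k] at h2
    have h3 : r ∣ 2 := (Nat.mul_dvd_mul_iff_left hk0).mp h2
    exact hr2 ((Nat.prime_dvd_prime_iff_eq hr.out Nat.prime_two).mp h3)
  have hoy : orderOf y = r := orderOf_eq_prime hyr hy1
  obtain ⟨c, j, hj⟩ := exists_conj_pow r hfac y g hoy hg
  have hxy : x * y = y * x := by
    rw [hy]
    exact ((Commute.refl x).pow_right _).eq
  have hxyj : x * y ^ j = y ^ j * x := ((show Commute x y from hxy).pow_right j).eq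
  have hc : (c⁻¹ * x * c) * g = g * (c⁻¹ * x * c) := by
    rw [hj]
    calc c⁻¹ * x * c * (c⁻¹ * y ^ j * c) = c⁻¹ * (x * y ^ j) * c := by group
      _ = c⁻¹ * (y ^ j * x) * c := by rw [hxyj]
      _ = c⁻¹ * y ^ j * c * (c⁻¹ * x * c) := by group
  have h1 := hcent _ hc
  have h2 : (c⁻¹ * x * c) ^ e = c⁻¹ * x ^ e * c := by
    have := conj_pow (a := c⁻¹) (b := x) (i := e)
    rw [inv_inv] at this
    exact this
  rw [h2] at h1
  have h3 : x ^ e ∈ Subgroup.center S := by
    have h5 : c * (c⁻¹ * x ^ e * c) * c⁻¹ = x ^ e := by group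
    rw [← h5]
    have h6 := Subgroup.mem_center_iff.mp h1 c
    rw [h6, mul_inv_cancel_right]
    exact h1
  apply orderOf_dvd_of_pow_eq_one
  rw [← QuotientGroup.mk_pow]
  exact (QuotientGroup.eq_one_iff _).mpr h3

end Cfsg.Agent.Lib.Helper15.PG63
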