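/-
Helper15 library (S3664): the centraliser of an element of order 13 in the symplectic group of degree 6 over the field with three elements.
-/
import Cfsg.Agent.Lib.Helper15.PG63F

set_option autoImplicit false
set_option maxRecDepth 1000000

namespace Cfsg.Agent.Lib.Helper15.PG63

open Matrix

/-- the field with three elements -/
abbrev R3 : Type := ZMod 3
/-- the index type -/
abbrev I6 : Type := Fin 3 ⊕ Fin 3
/-- the matrices -/
abbrev M6 : Type := Matrix I6 I6 R3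
/-- the symplectic group -/
abbrev S6 : Type := ↥(Matrix.symplecticGroup (Fin 3) R3)

/-- position in a list -/
def idx6 : I6 → ℕ
  | Sum.inl a => a.val
  | Sum.inr a => 3 + a.val

/-- decoding of a list of 36 numbers as a matrix -/
def mk6 (l : List ℕ) : M6 := Matrix.of fun i j => ((l.getD (6 * idx6 i + idx6 j) 0 : ℕ) : R3)

/-- decoding of a list of 6 numbers as a vector -/
def mkv6 (l : List ℕ) : I6 → R3 := fun i => ((l.getD (idx6 i) 0 : ℕ) : R3)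

/-- squaring -/
def sq6 (P : M6) : M6 := P * P

theorem sq6_eq (P : M6) : sq6 P = P ^ 2 := (pow_two P).symm

/-- the 13th power by repeated squaring -/
def pow13 (P : M6) : M6 := sq6 (sq6 (sq6 P)) * sq6 (sq6 P) * P

theorem pow13_eq (P : M6) : pow13 P = P ^ 13 := by
  unfold pow13
  simp only [sq6_eq, ← pow_mul]
  rw [← pow_add, ← pow_succ]

/-- the 14th power by repeated squaring -/
def pow14 (P : M6) : M6 := sq6 (sq6 (sq6 P)) * sq6 (sq6 P) * sq6 P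

theorem pow14_eq (P : M6) : pow14 P = P ^ 14 := by
  unfold pow14
  simp only [sq6_eq, ← pow_mul]
  rw [← pow_add, ← pow_add]

theorem neg_one_mem_center (z : S6) (hz : (z : M6) = -1) : z ∈ Subgroup.center S6 := by
  rw [Subgroup.mem_center_iff]
  intro h
  apply Subtype.ext
  show (h : M6) * (z : M6) = (z : M6) * (h : M6)
  rw [hz, Matrix.mul_neg, Matrix.neg_mul, Matrix.mul_one, Matrix.one_mul]

theorem mem_center_of_pm (z : S6) (hz : (z : M6) = 1 ∨ (z : M6) = -1) :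
    z ∈ Subgroup.center S6 := by
  rcases hz with h | h
  · have : z = 1 := Subtype.ext h
    rw [this]
    exact Subgroup.one_mem _
  · exact neg_one_mem_center z h

/-- a power of the element of order 13 -/
def P13_0 : M6 := mk6 [1, 0, 0, 0, 0, 0, 0, 1, 0, 0, 0, 0, 0, 0, 1, 0, 0, 0, 0, 0, 0, 1, 0, 0, 0, 0, 0, 0, 1, 0, 0, 0, 0, 0, 0, 1]
/-- a power of the element of order 13 -/
def P13_1 : M6 := mk6 [0, 0, 1, 0, 0, 0, 1, 0, 1, 0, 0, 0, 0, 1, 0, 0, 0, 0, 0, 0, 0, 2, 0, 1, 0, 0, 0, 1, 0, 0, 0, 0, 0, 0, 1, 0]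
/-- a power of the element of order 13 -/
def P13_2 : M6 := mk6 [0, 1, 0, 0, 0, 0, 0, 1, 1, 0, 0, 0, 1, 0, 1, 0, 0, 0, 0, 0, 0, 1, 1, 2, 0, 0, 0, 2, 0, 1, 0, 0, 0, 1, 0, 0]
/-- a power of the element of order 13 -/
def P13_3 : M6 := mk6 [1, 0, 1, 0, 0, 0, 1, 1, 1, 0, 0, 0, 0, 1, 1, 0, 0, 0, 0, 0, 0, 0, 2, 1, 0, 0, 0, 1, 1, 2, 0, 0, 0, 2, 0, 1]
/-- a power of the element of order 13 -/
def P13_4 : M6 := mk6 [0, 1, 1, 0, 0, 0, 1, 1, 2, 0, 0, 0, 1, 1, 1, 0, 0, 0, 0, 0, 0, 2, 1, 0, 0, 0, 0, 0, 2, 1, 0, 0, 0, 1, 1, 2]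
/-- a power of the element of order 13 -/
def P13_5 : M6 := mk6 [1, 1, 1, 0, 0, 0, 1, 2, 2, 0, 0, 0, 1, 1, 2, 0, 0, 0, 0, 0, 0, 2, 0, 2, 0, 0, 0, 2, 1, 0, 0, 0, 0, 0, 2, 1]

/-- the element of order 13, as a matrix -/
def m13 : M6 := P13_1

theorem m13_mem : m13 ∈ Matrix.symplecticGroup (Fin 3) R3 := by
  rw [SymplecticGroup.mem_iff]
  decide +kernel

/-- the element of order 13 -/
def s13 : S6 := ⟨m13, m13_mem⟩

theorem m13_pow : m13 ^ 0 = P13_0 ∧ m13 ^ 1 = P13_1 ∧ m13 ^ 2 = P13_2 ∧ m13 ^ 3 = P13_3 ∧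
    m13 ^ 4 = P13_4 ∧ m13 ^ 5 = P13_5 := by
  decide +kernel

theorem m13_pow_order : m13 ^ 13 = 1 ∧ m13 ≠ 1 := by
  decide +kernel

theorem orderOf_s13 : orderOf s13 = 13 := by
  have : Fact (Nat.Prime 13) := ⟨by norm_num⟩
  apply orderOf_eq_prime
  · apply Subtype.ext
    rw [SubmonoidClass.coe_pow]
    exact m13_pow_order.1
  · intro h
    exact m13_pow_order.2 (congrArg Subtype.val h)

/-- a cyclic vector -/
def v13 : I6 → R3 := mkv6 [1, 0, 0, 1, 0, 0]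

/-- the inverse of the Krylov matrix -/
def K13 : Matrix (Fin 6) I6 R3 :=
  Matrix.of fun i j => (([1, 0, 2, 0, 0, 1, 2, 1, 2, 1, 1, 1, 2, 2, 2, 1, 2, 0, 0, 2, 2, 0, 1, 2, 1, 0, 0, 2, 2, 0, 0, 1, 2, 0, 2, 0].getD (6 * i.val + idx6 j) 0 : ℕ) : R3)

theorem kry13 :
    (Matrix.of fun i (j : Fin 6) => ((m13 ^ j.val) *ᵥ v13) i) * K13 = 1 := by
  decide +kernel

/-- the polynomials in the element of order 13 -/
def comb13 (c0 c1 c2 c3 c4 c5 : R3) : M6 :=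
  c0 • P13_0 + c1 • P13_1 + c2 • P13_2 + c3 • P13_3 + c4 • P13_4 + c5 • P13_5

theorem enum13 : ∀ c0 c1 c2 c3 c4 c5 : R3,
    comb13 c0 c1 c2 c3 c4 c5 * Matrix.J (Fin 3) R3 * (comb13 c0 c1 c2 c3 c4 c5)ᵀ =
      Matrix.J (Fin 3) R3 →
    (pow13 (comb13 c0 c1 c2 c3 c4 c5) = 1 ∨ pow13 (comb13 c0 c1 c2 c3 c4 c5) = -1) := by
  decide +kernel

/-- the centraliser of the element of order 13 -/
theorem cent13 (x : S6) (hx : x * s13 = s13 * x) : x ^ 13 ∈ Subgroup.center S6 := by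
  have hx' : (x : M6) * m13 = m13 * (x : M6) := congrArg Subtype.val hx
  have h1 := commutant_eq m13 v13 K13 kry13 (x : M6) hx'
  obtain ⟨p0, p1, p2, p3, p4, p5⟩ := m13_pow
  rw [Fin.sum_univ_six] at h1
  simp only [Fin.val_zero, Fin.val_one, Fin.val_two, Fin.isValue] at h1
  have e3 : ((3 : Fin 6) : ℕ) = 3 := rfl
  have e4 : ((4 : Fin 6) : ℕ) = 4 := rfl
  have e5 : ((5 : Fin 6) : ℕ) = 5 := rfl
  rw [e3, e4, e5, p0, p1, p2, p3, p4, p5] at h1
  have h2 : (x : M6) = comb13 _ _ _ _ _ _ := h1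
  have h3 := enum13 _ _ _ _ _ _ (h2 ▸ SymplecticGroup.mem_iff.mp x.2)
  rw [← h2, pow13_eq] at h3
  apply mem_center_of_pm
  rw [SubmonoidClass.coe_pow]
  exact h3

end Cfsg.Agent.Lib.Helper15.PG63
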