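/-
Helper15 library (S3664): the centraliser of an element of order 7 in the symplectic group of degree 6 over the field with three elements.
-/
import Cfsg.Agent.Lib.Helper15.PG63G

set_option autoImplicit false
set_option maxRecDepth 1000000

namespace Cfsg.Agent.Lib.Helper15.PG63

open Matrix

/-- a power of the element of order 7 -/
def P7_0 : M6 := mk6 [1, 0, 0, 0, 0, 0, 0, 1, 0, 0, 0, 0, 0, 0, 1, 0, 0, 0, 0, 0, 0, 1, 0, 0, 0, 0, 0, 0, 1, 0, 0, 0, 0, 0, 0, 1]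
/-- a power of the element of order 7 -/
def P7_1 : M6 := mk6 [0, 2, 0, 2, 1, 0, 1, 1, 0, 1, 0, 2, 1, 2, 1, 1, 2, 1, 1, 2, 1, 2, 1, 2, 2, 2, 0, 0, 0, 0, 0, 2, 0, 2, 1, 1]
/-- a power of the element of order 7 -/
def P7_2 : M6 := mk6 [0, 2, 2, 0, 2, 2, 2, 0, 1, 0, 1, 0, 2, 2, 2, 0, 2, 2, 1, 1, 0, 1, 1, 2, 2, 0, 0, 0, 2, 1, 0, 1, 2, 2, 0, 0]
/-- a power of the element of order 7 -/
def P7_3 : M6 := mk6 [2, 2, 2, 2, 0, 2, 0, 2, 1, 2, 1, 1, 2, 0, 2, 0, 2, 2, 1, 2, 1, 0, 1, 0, 1, 1, 0, 0, 0, 1, 2, 0, 1, 1, 0, 2]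
/-- a power of the element of order 7 -/
def P7_4 : M6 := mk6 [0, 0, 1, 1, 1, 0, 1, 0, 0, 0, 2, 1, 0, 1, 2, 1, 2, 1, 2, 2, 1, 2, 0, 2, 1, 2, 0, 2, 2, 0, 2, 0, 2, 2, 1, 2]
/-- a power of the element of order 7 -/
def P7_5 : M6 := mk6 [1, 0, 2, 0, 0, 0, 1, 2, 0, 1, 2, 1, 2, 1, 0, 1, 0, 1, 2, 1, 0, 0, 2, 2, 2, 0, 2, 2, 0, 2, 0, 0, 1, 2, 1, 2]

/-- the element of order 7, as a matrix -/
def m7 : M6 := P7_1

theorem m7_mem : m7 ∈ Matrix.symplecticGroup (Fin 3) R3 := by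
  rw [SymplecticGroup.mem_iff]
  decide +kernel

/-- the element of order 7 -/
def s7 : S6 := ⟨m7, m7_mem⟩

theorem m7_pow : m7 ^ 0 = P7_0 ∧ m7 ^ 1 = P7_1 ∧ m7 ^ 2 = P7_2 ∧ m7 ^ 3 = P7_3 ∧
    m7 ^ 4 = P7_4 ∧ m7 ^ 5 = P7_5 := by
  decide +kernel

theorem m7_pow_order : m7 ^ 7 = 1 ∧ m7 ≠ 1 := by
  decide +kernel

theorem orderOf_s7 : orderOf s7 = 7 := by
  have : Fact (Nat.Prime 7) := ⟨by norm_num⟩
  apply orderOf_eq_prime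
  · apply Subtype.ext
    rw [SubmonoidClass.coe_pow]
    exact m7_pow_order.1
  · intro h
    exact m7_pow_order.2 (congrArg Subtype.val h)

/-- a cyclic vector -/
def v7 : I6 → R3 := mkv6 [1, 0, 0, 0, 0, 0]

/-- the inverse of the Krylov matrix -/
def K7 : Matrix (Fin 6) I6 R3 :=
  Matrix.of fun i j => (([1, 0, 0, 2, 2, 0, 0, 1, 1, 1, 2, 2, 0, 0, 1, 2, 0, 1, 0, 2, 1, 2, 2, 2, 0, 1, 2, 1, 1, 0, 0, 2, 1, 0, 0, 2].getD (6 * i.val + idx6 j) 0 : ℕ) : R3)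

theorem kry7 :
    (Matrix.of fun i (j : Fin 6) => ((m7 ^ j.val) *ᵥ v7) i) * K7 = 1 := by
  decide +kernel

/-- the polynomials in the element of order 7 -/
def comb7 (c0 c1 c2 c3 c4 c5 : R3) : M6 :=
  c0 • P7_0 + c1 • P7_1 + c2 • P7_2 + c3 • P7_3 + c4 • P7_4 + c5 • P7_5

theorem enum7 : ∀ c0 c1 c2 c3 c4 c5 : R3,
    comb7 c0 c1 c2 c3 c4 c5 * Matrix.J (Fin 3) R3 * (comb7 c0 c1 c2 c3 c4 c5)ᵀ =
      Matrix.J (Fin 3) R3 →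
    (pow14 (comb7 c0 c1 c2 c3 c4 c5) = 1 ∨ pow14 (comb7 c0 c1 c2 c3 c4 c5) = -1) := by
  decide +kernel

/-- the centraliser of the element of order 7 -/
theorem cent7 (x : S6) (hx : x * s7 = s7 * x) : x ^ 14 ∈ Subgroup.center S6 := by
  have hx' : (x : M6) * m7 = m7 * (x : M6) := congrArg Subtype.val hx
  have h1 := commutant_eq m7 v7 K7 kry7 (x : M6) hx'
  obtain ⟨p0, p1, p2, p3, p4, p5⟩ := m7_pow
  rw [Fin.sum_univ_six] at h1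
  simp only [Fin.val_zero, Fin.val_one, Fin.val_two, Fin.isValue] at h1
  have e3 : ((3 : Fin 6) : ℕ) = 3 := rfl
  have e4 : ((4 : Fin 6) : ℕ) = 4 := rfl
  have e5 : ((5 : Fin 6) : ℕ) = 5 := rfl
  rw [e3, e4, e5, p0, p1, p2, p3, p4, p5] at h1
  have h2 : (x : M6) = comb7 _ _ _ _ _ _ := h1
  have h3 := enum7 _ _ _ _ _ _ (h2 ▸ SymplecticGroup.mem_iff.mp x.2)
  rw [← h2, pow14_eq] at h3
  apply mem_center_of_pm
  rw [SubmonoidClass.coe_pow]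
  exact h3

end Cfsg.Agent.Lib.Helper15.PG63
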