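/-
Helper15 library (S3664): the prime graph of the projective symplectic group of degree 6 over a
field with three elements.
-/
import Cfsg.Agent.Lib.Helper15.PG63H
import Cfsg.Agent.S0245
import Cfsg.Agent.S0246

set_option autoImplicit false
set_option maxRecDepth 1000000

namespace Cfsg.Agent.Lib.Helper15.PG63

open Matrix

theorem card_S6 : Nat.card S6 = 9170703360 := by
  have h := Cfsg.Agent.S0245.result (F := R3) (q := 3) (ZMod.card 3) 3
  rw [h]
  simp [Finset.prod_range_succ]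

theorem card_center_S6 : Nat.card (Subgroup.center S6) = 2 := by
  have h := Cfsg.Agent.S0246.result (F := R3) (q := 3) (ZMod.card 3) 3 (by norm_num)
  rw [h]
  rfl

theorem card_P6 : Nat.card (Cfsg.PSp 3 R3) = 4585351680 := by
  have h := Subgroup.card_eq_card_quotient_mul_card_subgroup (Subgroup.center S6)
  rw [card_S6, card_center_S6] at h
  have h2 : Nat.card (Cfsg.PSp 3 R3) = Nat.card (S6 ⧸ Subgroup.center S6) := rfl
  omega

theorem S6_fac7 : (Nat.card S6).factorization 7 = 1 := by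
  rw [card_S6]
  have : (9170703360 : ℕ) = 7 ^ 1 * 1310100480 := by norm_num
  rw [this, Nat.factorization_mul (by norm_num) (by norm_num), Nat.Prime.factorization_pow
    (by norm_num)]
  simp [Nat.factorization_eq_zero_of_not_dvd (show ¬ 7 ∣ 1310100480 by norm_num)]

theorem S6_fac13 : (Nat.card S6).factorization 13 = 1 := by
  rw [card_S6]
  have : (9170703360 : ℕ) = 13 ^ 1 * 705438720 := by norm_num
  rw [this, Nat.factorization_mul (by norm_num) (by norm_num), Nat.Prime.factorization_pow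
    (by norm_num)]
  simp [Nat.factorization_eq_zero_of_not_dvd (show ¬ 13 ∣ 705438720 by norm_num)]

theorem center_S6 (z : S6) (hz : z ∈ Subgroup.center S6) : (z : M6) = 1 ∨ (z : M6) = -1 :=
  Cfsg.Agent.S0246.center_scalar 3 (by norm_num) z hz

theorem center_S6_sq (z : S6) (hz : z ∈ Subgroup.center S6) : z ^ 2 = 1 := by
  apply Subtype.ext
  rw [SubmonoidClass.coe_pow]
  rcases center_S6 z hz with h | h <;> rw [h] <;> simp

theorem psp_13 (xb : Cfsg.PSp 3 R3) (h : 13 ∣ orderOf xb) : orderOf xb ∣ 13 := by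
  have : Fact (Nat.Prime 13) := ⟨by norm_num⟩
  exact order_dvd_of_cent 13 13 (by norm_num) S6_fac13 s13 orderOf_s13 center_S6_sq cent13 xb h

theorem psp_7 (xb : Cfsg.PSp 3 R3) (h : 7 ∣ orderOf xb) : orderOf xb ∣ 14 := by
  have : Fact (Nat.Prime 7) := ⟨by norm_num⟩
  exact order_dvd_of_cent 7 14 (by norm_num) S6_fac7 s7 orderOf_s7 center_S6_sq cent7 xb h

theorem orderOf_mk_mul {a b : ℕ} (ha : a.Prime) (hb : b.Prime) (g : S6)
    (h1 : g ^ (a * b) ∈ Subgroup.center S6) (h2 : g ^ a ∉ Subgroup.center S6)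
    (h3 : g ^ b ∉ Subgroup.center S6) :
    orderOf (QuotientGroup.mk g : Cfsg.PSp 3 R3) = a * b := by
  apply orderOf_eq_of_pow_and_pow_div_prime (Nat.mul_pos ha.pos hb.pos)
  · rw [← QuotientGroup.mk_pow]
    exact (QuotientGroup.eq_one_iff _).mpr h1
  · intro p hp hpd
    rw [← QuotientGroup.mk_pow]
    intro hcon
    have hmem := (QuotientGroup.eq_one_iff _).mp hcon
    rcases (Nat.Prime.dvd_mul hp).mp hpd with h | h
    · have : p = a := (Nat.prime_dvd_prime_iff_eq hp ha).mp h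
      rw [this, Nat.mul_div_cancel_left _ ha.pos] at hmem
      exact h3 hmem
    · have : p = b := (Nat.prime_dvd_prime_iff_eq hp hb).mp h
      rw [this, Nat.mul_div_cancel _ hb.pos] at hmem
      exact h2 hmem

theorem not_mem_center_pow (g : S6) (k : ℕ) (h : (g : M6) ^ k ≠ 1 ∧ (g : M6) ^ k ≠ -1) :
    g ^ k ∉ Subgroup.center S6 := by
  intro hz
  have := center_S6 _ hz
  rw [SubmonoidClass.coe_pow] at this
  rcases this with h' | h'
  · exact h.1 h'
  · exact h.2 h'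

theorem mem_center_pow (g : S6) (k : ℕ) (h : (g : M6) ^ k = 1 ∨ (g : M6) ^ k = -1) :
    g ^ k ∈ Subgroup.center S6 := by
  apply mem_center_of_pm
  rw [SubmonoidClass.coe_pow]
  exact h

/-- an element of projective order 6 -/
def w6 : M6 := mk6 [1, 0, 0, 0, 0, 0, 0, 1, 1, 0, 1, 0, 0, 0, 1, 0, 0, 0, 2, 2, 2, 1, 2, 0, 2, 2, 2, 0, 0, 0, 0, 0, 2, 0, 2, 1]
/-- an element of projective order 10 -/
def w10 : M6 := mk6 [0, 1, 2, 2, 1, 0, 1, 0, 1, 1, 2, 0, 0, 1, 2, 1, 2, 1, 2, 0, 0, 1, 0, 1, 1, 1, 0, 2, 2, 2, 2, 2, 2, 2, 1, 1]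
/-- an element of projective order 14 -/
def w14 : M6 := mk6 [1, 2, 1, 1, 1, 0, 2, 2, 1, 2, 1, 0, 2, 0, 2, 2, 0, 0, 1, 0, 1, 0, 2, 1, 1, 2, 0, 2, 1, 2, 2, 0, 1, 2, 2, 2]
/-- an element of projective order 15 -/
def w15 : M6 := mk6 [1, 0, 2, 2, 2, 2, 1, 0, 2, 2, 1, 2, 1, 0, 1, 2, 0, 1, 0, 2, 2, 1, 0, 1, 0, 1, 2, 1, 0, 1, 0, 0, 2, 2, 0, 1]

theorem w6_mem : w6 ∈ Matrix.symplecticGroup (Fin 3) R3 := by
  rw [SymplecticGroup.mem_iff]
  decide +kernel
theorem w10_mem : w10 ∈ Matrix.symplecticGroup (Fin 3) R3 := by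
  rw [SymplecticGroup.mem_iff]
  decide +kernel
theorem w14_mem : w14 ∈ Matrix.symplecticGroup (Fin 3) R3 := by
  rw [SymplecticGroup.mem_iff]
  decide +kernel
theorem w15_mem : w15 ∈ Matrix.symplecticGroup (Fin 3) R3 := by
  rw [SymplecticGroup.mem_iff]
  decide +kernel

theorem w6_pow : (w6 ^ (2 * 3) = 1 ∨ w6 ^ (2 * 3) = -1) ∧ (w6 ^ 2 ≠ 1 ∧ w6 ^ 2 ≠ -1) ∧
    (w6 ^ 3 ≠ 1 ∧ w6 ^ 3 ≠ -1) := by decide +kernel
theorem w10_pow : (w10 ^ (2 * 5) = 1 ∨ w10 ^ (2 * 5) = -1) ∧ (w10 ^ 2 ≠ 1 ∧ w10 ^ 2 ≠ -1) ∧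
    (w10 ^ 5 ≠ 1 ∧ w10 ^ 5 ≠ -1) := by decide +kernel
theorem w14_pow : (w14 ^ (2 * 7) = 1 ∨ w14 ^ (2 * 7) = -1) ∧ (w14 ^ 2 ≠ 1 ∧ w14 ^ 2 ≠ -1) ∧
    (w14 ^ 7 ≠ 1 ∧ w14 ^ 7 ≠ -1) := by decide +kernel
theorem w15_pow : (w15 ^ (3 * 5) = 1 ∨ w15 ^ (3 * 5) = -1) ∧ (w15 ^ 3 ≠ 1 ∧ w15 ^ 3 ≠ -1) ∧
    (w15 ^ 5 ≠ 1 ∧ w15 ^ 5 ≠ -1) := by decide +kernel

theorem prime_dvd_card_P6 (q : ℕ) (hq : q.Prime) :
    q ∣ 4585351680 ↔ q = 2 ∨ q = 3 ∨ q = 5 ∨ q = 7 ∨ q = 13 := by
  have h : (4585351680 : ℕ) = 2 ^ 9 * 3 ^ 9 * 5 * 7 * 13 := by norm_num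
  rw [h]
  constructor
  · intro hd
    rcases (Nat.Prime.dvd_mul hq).mp hd with hd | hd
    · rcases (Nat.Prime.dvd_mul hq).mp hd with hd | hd
      · rcases (Nat.Prime.dvd_mul hq).mp hd with hd | hd
        · rcases (Nat.Prime.dvd_mul hq).mp hd with hd | hd
          · left
            exact (Nat.prime_dvd_prime_iff_eq hq Nat.prime_two).mp (hq.dvd_of_dvd_pow hd)
          · right; left
            exact (Nat.prime_dvd_prime_iff_eq hq (by norm_num)).mp (hq.dvd_of_dvd_pow hd)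
        · right; right; left
          exact (Nat.prime_dvd_prime_iff_eq hq (by norm_num)).mp hd
      · right; right; right; left
        exact (Nat.prime_dvd_prime_iff_eq hq (by norm_num)).mp hd
    · right; right; right; right
      exact (Nat.prime_dvd_prime_iff_eq hq (by norm_num)).mp hd
  · rintro (rfl | rfl | rfl | rfl | rfl) <;> norm_num

theorem P6_graph : HasGraph (Cfsg.PSp 3 R3) where
  primes := by
    intro q hq
    rw [card_P6]
    exact prime_dvd_card_P6 q hq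
  e6 := ⟨QuotientGroup.mk (⟨w6, w6_mem⟩ : S6), by
    have h := orderOf_mk_mul (a := 2) (b := 3) (by norm_num) (by norm_num) (⟨w6, w6_mem⟩ : S6)
      (mem_center_pow _ _ w6_pow.1) (not_mem_center_pow _ _ w6_pow.2.1)
      (not_mem_center_pow _ _ w6_pow.2.2)
    exact h⟩
  e10 := ⟨QuotientGroup.mk (⟨w10, w10_mem⟩ : S6), by
    have h := orderOf_mk_mul (a := 2) (b := 5) (by norm_num) (by norm_num) (⟨w10, w10_mem⟩ : S6)
      (mem_center_pow _ _ w10_pow.1) (not_mem_center_pow _ _ w10_pow.2.1)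
      (not_mem_center_pow _ _ w10_pow.2.2)
    exact h⟩
  e14 := ⟨QuotientGroup.mk (⟨w14, w14_mem⟩ : S6), by
    have h := orderOf_mk_mul (a := 2) (b := 7) (by norm_num) (by norm_num) (⟨w14, w14_mem⟩ : S6)
      (mem_center_pow _ _ w14_pow.1) (not_mem_center_pow _ _ w14_pow.2.1)
      (not_mem_center_pow _ _ w14_pow.2.2)
    exact h⟩
  e15 := ⟨QuotientGroup.mk (⟨w15, w15_mem⟩ : S6), by
    have h := orderOf_mk_mul (a := 3) (b := 5) (by norm_num) (by norm_num) (⟨w15, w15_mem⟩ : S6)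
      (mem_center_pow _ _ w15_pow.1) (not_mem_center_pow _ _ w15_pow.2.1)
      (not_mem_center_pow _ _ w15_pow.2.2)
    exact h⟩
  n26 := by
    intro x hx
    have := psp_13 x (by rw [hx]; norm_num)
    rw [hx] at this
    omega
  n21 := by
    intro x hx
    have := psp_7 x (by rw [hx]; norm_num)
    rw [hx] at this
    omega
  n39 := by
    intro x hx
    have := psp_13 x (by rw [hx]; norm_num)
    rw [hx] at this
    omega
  n35 := by
    intro x hx
    have := psp_7 x (by rw [hx]; norm_num)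
    rw [hx] at this
    omega
  n65 := by
    intro x hx
    have := psp_13 x (by rw [hx]; norm_num)
    rw [hx] at this
    omega
  n91 := by
    intro x hx
    have := psp_13 x (by rw [hx]; norm_num)
    rw [hx] at this
    omega

/-- the prime graph of `PSp₆(F)` for a field with three elements -/
theorem psp_graph {F : Type*} [Field F] [Fintype F] (hF : Fintype.card F = 3) :
    HasGraph (Cfsg.PSp 3 F) := by
  have hp : Nat.Prime 3 := by norm_num
  have : Fact (Nat.Prime 3) := ⟨hp⟩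
  let e : ZMod 3 ≃+* F := ZMod.ringEquivOfPrime F hp hF
  exact P6_graph.of_equiv (pspCongr e)

end Cfsg.Agent.Lib.Helper15.PG63
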