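import Cfsg.Agent.Lib.Helper15.PGLInvol

set_option autoImplicit false

namespace Cfsg.Agent.Lib.Helper15.PGLPrime

open Polynomial Module Cfsg.Agent.Lib.Helper15.SemisimpleConj Cfsg.Agent.Lib.Helper15.PGLInvol

variable {F : Type*} [Field F]

section zp

variable {r : ℕ} [NeZero r]

/-- powers of a root of unity indexed by `ZMod r` -/
def zp (ω : F) (j : ZMod r) : F := ω ^ j.val

lemma zp_zero (ω : F) : zp ω (0 : ZMod r) = 1 := by
  unfold zp; rw [ZMod.val_zero, pow_zero]

lemma zp_add (ω : F) (hω : ω ^ r = 1) (j k : ZMod r) : zp ω (j + k) = zp ω j * zp ω k := by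
  unfold zp
  rw [ZMod.val_add, ← pow_add, ← pow_eq_pow_mod _ hω]

lemma zp_pow (ω : F) (hω : ω ^ r = 1) (j : ZMod r) : zp ω j ^ r = 1 := by
  unfold zp; rw [← pow_mul, mul_comm, pow_mul, hω, one_pow]

lemma zp_ne_zero (ω : F) (hω : ω ^ r = 1) (j : ZMod r) : zp ω j ≠ 0 := by
  intro h
  have := zp_pow ω hω j
  rw [h, zero_pow (NeZero.ne r)] at this
  exact zero_ne_one this

lemma zp_injective (ω : F) (hω : IsPrimitiveRoot ω r) : Function.Injective (zp ω : ZMod r → F) := by
  intro j k h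
  exact ZMod.val_injective r (hω.pow_inj (ZMod.val_lt j) (ZMod.val_lt k) h)

lemma exists_zp (ω : F) (hω : IsPrimitiveRoot ω r) (ζ : F) (hζ : ζ ^ r = 1) :
    ∃ k : ZMod r, ζ = zp ω k := by
  obtain ⟨i, hi, h⟩ := hω.eq_pow_of_pow_eq_one hζ
  refine ⟨(i : ZMod r), ?_⟩
  unfold zp
  rw [ZMod.val_natCast_of_lt hi, h]

lemma prod_zp (ω : F) (hω : IsPrimitiveRoot ω r) :
    ∏ j : ZMod r, (X - C (zp ω j)) = (X ^ r - C (1 : F)) := by
  rw [X_pow_sub_C_eq_prod hω (NeZero.pos r) (one_pow r)]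
  refine Finset.prod_bij (fun j _ => j.val) (fun j _ => Finset.mem_range.2 (ZMod.val_lt j))
    (fun j _ k _ h => ZMod.val_injective r h)
    (fun i hi => ⟨(i : ZMod r), Finset.mem_univ _, ZMod.val_natCast_of_lt (Finset.mem_range.1 hi)⟩)
    (fun j _ => ?_)
  unfold zp
  rw [mul_one]

end zp

section eigen

variable {V : Type*} [AddCommGroup V] [Module F V]

lemma eig_eq_ker_aeval (T : End F V) (μ : F) : eig T μ = LinearMap.ker (aeval T (X - C μ)) := by
  unfold eig
  rw [map_sub, aeval_X, aeval_C, Algebra.algebraMap_eq_smul_one]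

lemma eig_eq_eigenspace (T : End F V) (μ : F) : eig T μ = Module.End.eigenspace T μ := by
  ext v
  rw [mem_eig, Module.End.mem_eigenspace_iff]

/-- kernel of a product of distinct linear factors -/
lemma ker_prod {ι : Type*} [DecidableEq ι] (T : End F V) (c : ι → F) (hc : Function.Injective c)
    (s : Finset ι) :
    LinearMap.ker (aeval T (∏ j ∈ s, (X - C (c j)))) = ⨆ j ∈ s, eig T (c j) := by
  induction s using Finset.induction_on with
  | empty =>
    simp only [Finset.prod_empty, map_one, Finset.notMem_empty, iSup_false, iSup_bot]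
    exact LinearMap.ker_id
  | insert a s ha ih =>
    rw [Finset.prod_insert ha, Finset.iSup_insert, ← ih, eig_eq_ker_aeval]
    refine (sup_ker_aeval_eq_ker_aeval_mul_of_coprime T ?_).symm
    apply IsCoprime.prod_right
    intro j hj
    apply Polynomial.isCoprime_X_sub_C_of_isUnit_sub
    rw [isUnit_iff_ne_zero, sub_ne_zero]
    intro h
    exact ha ((hc h) ▸ hj)

variable {r : ℕ} [NeZero r]

lemma iSup_eig_eq_top (ω : F) (hω : IsPrimitiveRoot ω r) (T : End F V) (hT : T ^ r = 1) :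
    ⨆ j : ZMod r, eig T (zp ω j) = ⊤ := by
  classical
  have h1 := ker_prod T (zp ω : ZMod r → F) (zp_injective ω hω) Finset.univ
  rw [prod_zp ω hω] at h1
  have h2 : aeval T (X ^ r - C (1 : F)) = 0 := by
    rw [map_sub, map_pow, aeval_X, aeval_C, map_one, hT, sub_self]
  rw [h2, LinearMap.ker_zero] at h1
  rw [h1]
  simp

lemma iSupIndep_eig (ω : F) (hω : IsPrimitiveRoot ω r) (T : End F V) :
    iSupIndep (fun j : ZMod r => eig T (zp ω j)) := by
  have h1 := (Module.End.eigenspaces_iSupIndep T).comp (zp_injective ω hω)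
  have h2 : (fun j : ZMod r => eig T (zp ω j)) = (Module.End.eigenspace T) ∘ (zp ω) := by
    funext j
    exact eig_eq_eigenspace T _
  rw [h2]
  exact h1

/-- an eigenbasis adapted to the eigenspace decomposition -/
theorem exists_eig_basis [FiniteDimensional F V] (ω : F) (hω : IsPrimitiveRoot ω r) (T : End F V)
    (hT : T ^ r = 1) (a : ZMod r → ℕ) (ha : ∀ j, finrank F (eig T (zp ω j)) = a j) :
    ∃ B : Basis (Σ j : ZMod r, Fin (a j)) F V, ∀ x, T (B x) = zp ω x.1 • B x := by
  classical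
  have hint : DirectSum.IsInternal (fun j : ZMod r => eig T (zp ω j)) :=
    DirectSum.isInternal_submodule_of_iSupIndep_of_iSup_eq_top (iSupIndep_eig ω hω T)
      (iSup_eig_eq_top ω hω T hT)
  let b : ∀ j : ZMod r, Basis (Fin (a j)) F (eig T (zp ω j)) :=
    fun j => Module.finBasisOfFinrankEq F _ (ha j)
  refine ⟨hint.collectedBasis b, fun x => ?_⟩
  rw [DirectSum.IsInternal.collectedBasis_coe]
  exact (mem_eig T _ _).1 (b x.1 x.2).2

theorem sum_eig_finrank [FiniteDimensional F V] (ω : F) (hω : IsPrimitiveRoot ω r) (T : End F V)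
    (hT : T ^ r = 1) : ∑ j : ZMod r, finrank F (eig T (zp ω j)) = finrank F V := by
  obtain ⟨B, -⟩ := exists_eig_basis ω hω T hT (fun j => finrank F (eig T (zp ω j))) (fun _ => rfl)
  rw [Module.finrank_eq_card_basis B, Fintype.card_sigma]
  simp

theorem conj_of_eig_eq {V' : Type*} [AddCommGroup V'] [Module F V'] [FiniteDimensional F V]
    [FiniteDimensional F V'] (ω : F) (hω : IsPrimitiveRoot ω r) (T : End F V) (T' : End F V')
    (hT : T ^ r = 1) (hT' : T' ^ r = 1)
    (h : ∀ j : ZMod r, finrank F (eig T (zp ω j)) = finrank F (eig T' (zp ω j))) : Conj T T' := by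
  obtain ⟨B, hB⟩ := exists_eig_basis ω hω T hT (fun j => finrank F (eig T (zp ω j))) (fun _ => rfl)
  obtain ⟨B', hB'⟩ := exists_eig_basis ω hω T' hT' (fun j => finrank F (eig T (zp ω j)))
    (fun j => (h j).symm)
  refine ⟨B.equiv B' (Equiv.refl _), fun v => ?_⟩
  have h1 : ((B.equiv B' (Equiv.refl _) : V ≃ₗ[F] V') : V →ₗ[F] V') ∘ₗ T =
      T' ∘ₗ ((B.equiv B' (Equiv.refl _) : V ≃ₗ[F] V') : V →ₗ[F] V') := by
    apply B.ext
    intro x
    simp only [LinearMap.comp_apply, LinearEquiv.coe_coe, hB, map_smul, Basis.equiv_apply,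
      Equiv.refl_apply, hB']
  exact LinearMap.congr_fun h1 v

end eigen

section kummer

universe u

variable {F' : Type u} [Field F'] {r : ℕ}

lemma kummer_facts (hr : r.Prime) (lam : F') (hlam : ∀ b : F', b ^ r ≠ lam) :
    (X ^ r - C lam : F'[X]).Monic ∧ (X ^ r - C lam : F'[X]).natDegree = r ∧
      Irreducible (X ^ r - C lam : F'[X]) :=
  ⟨monic_X_pow_sub_C lam hr.ne_zero, natDegree_X_pow_sub_C,
    X_pow_sub_C_irreducible_of_prime hr hlam⟩

lemma aeval_kummer {V : Type*} [AddCommGroup V] [Module F' V] (lam : F') (S : End F' V)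
    (hS : S ^ r = lam • (1 : End F' V)) : aeval S (X ^ r - C lam : F'[X]) = 0 := by
  rw [map_sub, map_pow, aeval_X, aeval_C, hS, Algebra.algebraMap_eq_smul_one, sub_self]

theorem conj_of_nonpow {V : Type u} [AddCommGroup V] [Module F' V] [FiniteDimensional F' V]
    (hr : r.Prime) (T T' : End F' V) (lam : F') (hlam : ∀ b : F', b ^ r ≠ lam)
    (hT : T ^ r = lam • (1 : End F' V)) (hT' : T' ^ r = lam • (1 : End F' V)) : Conj T T' := by
  obtain ⟨hPm, hPd, hPi⟩ := kummer_facts hr lam hlam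
  have h1 := charpoly_isotypic _ hPm hPi (finrank F' V) V T rfl (aeval_kummer lam T hT)
  have h3 := charpoly_isotypic _ hPm hPi (finrank F' V) V T' rfl (aeval_kummer lam T' hT')
  exact conj_of_charpoly_eq _ hPi.squarefree (finrank F' V) V V T T' rfl (aeval_kummer lam T hT)
    (aeval_kummer lam T' hT') (by rw [h1, h3])

theorem dvd_of_nonpow {V : Type u} [AddCommGroup V] [Module F' V] [FiniteDimensional F' V]
    (hr : r.Prime) (T : End F' V) (lam : F') (hlam : ∀ b : F', b ^ r ≠ lam)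
    (hT : T ^ r = lam • (1 : End F' V)) : r ∣ finrank F' V := by
  obtain ⟨hPm, hPd, hPi⟩ := kummer_facts hr lam hlam
  have h1 := charpoly_isotypic _ hPm hPi (finrank F' V) V T rfl (aeval_kummer lam T hT)
  have h2 := LinearMap.charpoly_natDegree T
  rw [h1, hPm.natDegree_pow, hPd] at h2
  exact Dvd.intro_left _ h2

theorem nonpow_matrix [Fintype F'] {n : ℕ} (hr : r.Prime) (m : ℕ) (hnm : n = r * m) (lam : F')
    (hlam : ∀ b : F', b ^ r ≠ lam) :
    ∃ A : Matrix (Fin n) (Fin n) F', A ^ r = lam • 1 := by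
  classical
  obtain ⟨hPm, hPd, hPi⟩ := kummer_facts hr lam hlam
  have hlam0 : lam ≠ 0 := by
    rintro rfl
    exact hlam 0 (zero_pow hr.ne_zero)
  set P : F'[X] := X ^ r - C lam with hP
  have hχm : (P ^ m).Monic := hPm.pow m
  have hχd : (P ^ m).natDegree = n := by
    rw [hPm.natDegree_pow, hPd, hnm, mul_comm]
  have hχ0 : (P ^ m).coeff 0 ≠ 0 := by
    rw [coeff_zero_eq_eval_zero, eval_pow]
    apply pow_ne_zero
    rw [hP, eval_sub, eval_pow, eval_X, eval_C, zero_pow hr.ne_zero, zero_sub]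
    exact neg_ne_zero.2 hlam0
  obtain ⟨A, hA, N, hN, hAN⟩ :=
    Cfsg.Agent.Lib.Helper15.SemisimpleCount.exists_matrix_of_charpoly n (P ^ m) hχm hχd hχ0
  refine ⟨A, ?_⟩
  have hss : (tlin A).IsSemisimple := by
    apply End.isSemisimple_of_squarefree_aeval_eq_zero
      (separable_X_pow_sub_C (1 : F') hN one_ne_zero).squarefree
    rw [map_sub, map_pow, aeval_X, aeval_C, map_one]
    unfold tlin
    rw [← map_pow, hAN, map_one, sub_self]
  have hsq := hss.minpoly_squarefree
  have hdvd : minpoly F' (tlin A) ∣ P ^ m := by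
    have h1 := LinearMap.minpoly_dvd_charpoly (tlin A)
    have h3 : (tlin A).charpoly = A.charpoly := Matrix.charpoly_toLin' A
    rwa [h3, hA] at h1
  have hdvd' : minpoly F' (tlin A) ∣ P := hsq.isRadical m P hdvd
  have h0 : aeval (tlin A) P = 0 := by
    obtain ⟨c, hc⟩ := hdvd'
    rw [hc, map_mul, minpoly.aeval, zero_mul]
  rw [hP, map_sub, map_pow, aeval_X, aeval_C, sub_eq_zero, Algebra.algebraMap_eq_smul_one] at h0
  apply tlin_injective
  rw [tlin_smul, tlin_one, ← h0]
  unfold tlin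
  rw [map_pow]

end kummer

section diag

variable {r n : ℕ} [NeZero r]

/-- a diagonal matrix with prescribed eigenvalue multiplicities -/
theorem exists_diag (ω : F) (hω : IsPrimitiveRoot ω r) (a : ZMod r → ℕ) (ha : ∑ j, a j = n) :
    ∃ w : Fin n → F, (∀ i, w i ^ r = 1) ∧
      ∀ j, finrank F (eig (tlin (Matrix.diagonal w)) (zp ω j)) = a j := by
  classical
  have hcard : Fintype.card (Σ j : ZMod r, Fin (a j)) = Fintype.card (Fin n) := by
    rw [Fintype.card_sigma, Fintype.card_fin]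
    simpa using ha
  let ε : (Σ j : ZMod r, Fin (a j)) ≃ Fin n := Fintype.equivOfCardEq hcard
  refine ⟨fun i => zp ω (ε.symm i).1, fun i => zp_pow ω hω.pow_eq_one _, fun j => ?_⟩
  rw [finrank_eig_diag]
  have e1 : {i : Fin n // zp ω (ε.symm i).1 = zp ω j} ≃ Fin (a j) :=
    ((Equiv.subtypeEquivRight (fun i => (zp_injective ω hω).eq_iff)).trans
      (ε.symm.subtypeEquiv (p := fun i => (ε.symm i).1 = j) (q := fun x => x.1 = j)
        (fun i => Iff.rfl))).trans (Equiv.sigmaSubtype j)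
  rw [Fintype.card_congr e1, Fintype.card_fin]

end diag

end Cfsg.Agent.Lib.Helper15.PGLPrime
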