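import Cfsg.Agent.S0942
import Cfsg.Agent.Lib.Helper24.Deflation
import Cfsg.Agent.Lib.Helper9.PLength
import Cfsg.Agent.Lib.Helper12.Cores

/-!
Leaf L8 of S4711 (helper6's market): if `G` has `p`-length one then every character of the
principal `p`-block restricts irreducibly to `N_G(P)`, `P` a Sylow `p`-subgroup.

`O_{p'}(G)` lies in the kernel of the principal block (S0942 at `u = 1`), `G = O_{p'}(G) N_G(P)`
by the Frattini argument, so the operators of `G` and of `N_G(P)` are the same.
-/

set_option autoImplicit false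

namespace Cfsg.Agent.Lib.Helper15.PLenBlk

open Subgroup

universe u

variable {G : Type u} [Group G]

/-- `O_{p'}(G) ≤ O_{p'}(C_G(1))`. -/
theorem pPrimeCore_le_centralizerPPrimeCore_one [Finite G] (p : ℕ) :
    Cfsg.pPrimeCore p G ≤ Cfsg.centralizerPPrimeCore p (1 : G) := by
  intro v hv
  have hC : ∀ x : G, x ∈ Subgroup.centralizer ({1} : Set G) := by
    intro x
    rw [Subgroup.mem_centralizer_iff]
    intro h hh
    rw [Set.mem_singleton_iff] at hh
    subst hh; simp
  have : (Cfsg.pPrimeCore p G).Normal :=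
    @Subgroup.normal_of_characteristic _ _ _ (Cfsg.Agent.Lib.Helper12.pPrimeCore_characteristic p)
  have hle : (Cfsg.pPrimeCore p G).subgroupOf (Subgroup.centralizer ({1} : Set G)) ≤
      Cfsg.pPrimeCore p ↥(Subgroup.centralizer ({1} : Set G)) := by
    apply Cfsg.Agent.Lib.Helper12.le_pPrimeCore p _ inferInstance
    have hcard : Nat.card ↥((Cfsg.pPrimeCore p G).subgroupOf (Subgroup.centralizer ({1} : Set G)))
        = Nat.card ↥(Cfsg.pPrimeCore p G) := by
      apply Nat.card_congr
      exact (Subgroup.subgroupOfEquivOfLe (fun x _ => hC x)).toEquiv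
    rw [hcard]
    exact Cfsg.Agent.Lib.Helper12.pPrimeCore_coprime p
  unfold Cfsg.centralizerPPrimeCore
  refine ⟨⟨v, hC v⟩, hle ?_, rfl⟩
  exact hv

/-- A normal subgroup of index prime to `p` contains every Sylow `p`-subgroup. -/
theorem sylow_le_of_normal_of_coprime_index [Finite G] (p : ℕ) [Fact p.Prime] (L : Subgroup G)
    [L.Normal] (hL : (L.index).Coprime p) (P : Sylow p G) : (P : Subgroup G) ≤ L := by
  intro x hx
  obtain ⟨k, hk⟩ := P.2 ⟨x, hx⟩
  have hk' : x ^ p ^ k = 1 := by
    have := congrArg Subtype.val hk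
    simpa using this
  have h1 : (QuotientGroup.mk' L x) ^ p ^ k = 1 := by
    rw [← map_pow, hk', map_one]
  have h2 : (QuotientGroup.mk' L x) ^ L.index = 1 := by
    rw [Subgroup.index_eq_card]
    exact pow_card_eq_one'
  have h3 := pow_gcd_eq_one.mpr ⟨h1, h2⟩
  have hg : Nat.gcd (p ^ k) L.index = 1 := by
    have : Nat.Coprime (p ^ k) L.index := Nat.Coprime.pow_left k hL.symm
    exact this
  rw [hg, pow_one] at h3
  exact (QuotientGroup.eq_one_iff x).mp h3


/-- `p`-length one: `G = N_G(P) O_{p'}(G)` (Frattini). -/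
theorem normalizer_sup_pPrimeCore_eq_top [Finite G] (p : ℕ) [Fact p.Prime]
    (h : Cfsg.PLengthLE p 1 G) (P : Sylow p G) :
    Subgroup.normalizer ((P : Subgroup G) : Set G) ⊔ Cfsg.pPrimeCore p G = ⊤ := by
  set K := Cfsg.pPrimeCore p G with hK
  set L := Cfsg.pPrimePCore p G with hL
  have hKn : K.Normal :=
    @Subgroup.normal_of_characteristic _ _ _ (Cfsg.Agent.Lib.Helper12.pPrimeCore_characteristic p)
  have hRn : (Cfsg.pCore p (G ⧸ K)).Normal :=
    @Subgroup.normal_of_characteristic _ _ _ (Cfsg.Agent.Lib.Helper12.pCore_characteristic' p)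
  have hLdef : L = (Cfsg.pCore p (G ⧸ K)).comap (QuotientGroup.mk' K) := rfl
  have hLn : L.Normal := by rw [hLdef]; infer_instance
  have hidx : (L.index).Coprime p :=
    Cfsg.Agent.Lib.Helper9.coprime_index_pPrimePCore_of_pLengthLE_one p h
  have hPL : (P : Subgroup G) ≤ L := sylow_le_of_normal_of_coprime_index p L hidx P
  have hKL : K ≤ L := by
    rw [hLdef]
    intro x hx
    rw [Subgroup.mem_comap]
    have : QuotientGroup.mk' K x = 1 := (QuotientGroup.eq_one_iff x).mpr hx
    rw [this]; exact Subgroup.one_mem _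
  -- Frattini
  have hfr : Subgroup.normalizer ((P : Subgroup G) : Set G) ⊔ L = ⊤ :=
    Sylow.normalizer_sup_eq_top' P hPL
  -- `L ≤ K ⊔ P` by an index count
  have hrel : (K ⊔ (P : Subgroup G)).relIndex L = 1 := by
    -- divides a power of `p`
    have h1 : (K ⊔ (P : Subgroup G)).relIndex L ∣ K.relIndex L :=
      Subgroup.relIndex_dvd_of_le_left L le_sup_left
    have h2 : K.relIndex L = Nat.card ↥(Cfsg.pCore p (G ⧸ K)) := by
      have hKker : K = (⊥ : Subgroup (G ⧸ K)).comap (QuotientGroup.mk' K) := by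
        rw [MonoidHom.comap_bot, QuotientGroup.ker_mk']
      conv_lhs => rw [hKker]
      rw [Subgroup.relIndex_comap, hLdef,
        Subgroup.map_comap_eq_self_of_surjective (QuotientGroup.mk'_surjective K),
        Subgroup.relIndex_bot_left]
    obtain ⟨a, ha⟩ := IsPGroup.iff_card.mp (Cfsg.Agent.Lib.Helper12.pCore_isPGroup' (X := G ⧸ K) p)
    rw [h2, ha] at h1
    -- prime to `p`
    have h3 : (K ⊔ (P : Subgroup G)).relIndex L ∣ (P : Subgroup G).relIndex L :=
      Subgroup.relIndex_dvd_of_le_left L le_sup_right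
    have h4 : (P : Subgroup G).relIndex L ∣ (P : Subgroup G).index :=
      Subgroup.relIndex_dvd_index_of_le hPL
    have h5 : ¬ p ∣ (P : Subgroup G).index := P.not_dvd_index
    have h6 : ¬ p ∣ (K ⊔ (P : Subgroup G)).relIndex L := fun hd => h5 (dvd_trans hd (dvd_trans h3 h4))
    obtain ⟨b, hb, hb2⟩ := (Nat.dvd_prime_pow (Fact.out : p.Prime)).mp h1
    rcases Nat.eq_zero_or_pos b with h0 | h0
    · rw [hb2, h0, pow_zero]
    · exfalso; apply h6; rw [hb2]; exact dvd_pow_self p (by omega)
  have hLle : L ≤ K ⊔ (P : Subgroup G) := Subgroup.relIndex_eq_one.mp hrel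
  apply top_le_iff.mp
  rw [← hfr]
  apply sup_le le_sup_left
  refine le_trans hLle (sup_le le_sup_right ?_)
  exact le_trans Subgroup.le_normalizer le_sup_left


/-- If the normal subgroup `K` acts trivially and `G = N K`, then the restriction of an irreducible
representation to `N` is irreducible. -/
theorem isIrreducible_comp_subtype {V : Type*} [AddCommGroup V] [Module ℂ V]
    (ρ : Representation ℂ G V) (N K : Subgroup G) [K.Normal] (hK : ∀ k ∈ K, ρ k = 1)
    (hNK : N ⊔ K = ⊤) (hρ : ρ.IsIrreducible) :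
    Representation.IsIrreducible (MonoidHom.comp ρ N.subtype : Representation ℂ ↥N V) := by
  let e : Subrepresentation (MonoidHom.comp ρ N.subtype : Representation ℂ ↥N V) ≃o
      Subrepresentation ρ :=
    { toFun := fun W => ⟨W.toSubmodule, fun g v hv => by
        have hg : g ∈ ((N ⊔ K : Subgroup G) : Set G) := by rw [hNK]; exact Set.mem_univ g
        rw [Subgroup.mul_normal] at hg
        obtain ⟨n, hn, k, hk, rfl⟩ := Set.mem_mul.mp hg
        rw [map_mul, hK k hk, mul_one]
        exact W.apply_mem_toSubmodule (⟨n, hn⟩ : ↥N) hv⟩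
      invFun := fun W => ⟨W.toSubmodule, fun g v hv => W.apply_mem_toSubmodule (g : G) hv⟩
      left_inv := fun W => rfl
      right_inv := fun W => rfl
      map_rel_iff' := Iff.rfl }
  exact e.isSimpleOrder_iff.mpr hρ

/-- **Leaf L8 of S4711**: the forward direction. -/
theorem forward [Finite G] (p : ℕ) [Fact p.Prime] (M : Ideal Cfsg.AlgInt)
    (hM : Cfsg.IsPModular p M) (P : Sylow p G) (h : Cfsg.PLengthLE p 1 G) :
    ∀ χ ∈ Cfsg.principalBlock M G,
      Cfsg.IsIrrCharacter ↥(Subgroup.normalizer ((P : Subgroup G) : Set G))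
        (fun n : ↥(Subgroup.normalizer ((P : Subgroup G) : Set G)) => (χ : G → ℂ) n) := by
  intro χ hχ
  obtain ⟨k, ρ, hirr, hchar⟩ := χ.2
  have hKn : (Cfsg.pPrimeCore p G).Normal :=
    @Subgroup.normal_of_characteristic _ _ _ (Cfsg.Agent.Lib.Helper12.pPrimeCore_characteristic p)
  -- `O_{p'}(G)` acts trivially
  have hK : ∀ v ∈ Cfsg.pPrimeCore p G, ρ v = 1 := by
    intro v hv
    apply Cfsg.Agent.Lib.Helper24.rep_eq_one_of_char_eq_finrank ρ v
    have h1 := Cfsg.Agent.S0942.result p M hM 1 ⟨0, by simp⟩ v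
      (pPrimeCore_le_centralizerPPrimeCore_one p hv) χ hχ
    rw [one_mul] at h1
    rw [hchar, h1, ← hchar, Representation.char_one]
  have hirr' := isIrreducible_comp_subtype ρ (Subgroup.normalizer ((P : Subgroup G) : Set G))
    (Cfsg.pPrimeCore p G) hK (normalizer_sup_pPrimeCore_eq_top p h P) hirr
  refine ⟨k, MonoidHom.comp ρ (Subgroup.normalizer ((P : Subgroup G) : Set G)).subtype, hirr', ?_⟩
  funext n
  rw [← hchar]
  rfl

end Cfsg.Agent.Lib.Helper15.PLenBlk
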