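import Cfsg.Agent.Lib.Helper15.QBEcore
import Cfsg.Agent.Lib.Helper1.QBW
import Cfsg.Agent.Lib.Helper1.QBB3

/-!
# S4125 main body, leaf QBE: the case `p = q` (the Sylow `q`-subgroup is a direct factor).
-/

set_option autoImplicit false

namespace Cfsg.Agent.Lib.Helper15.QBLeaf

variable {G : Type*} [Group G] [Finite G]

local notation "C(" x ")" => Subgroup.centralizer ({x} : Set G)

/-- QBE (p = q). -/
theorem direct_factor_of_eq (q : ℕ) [Fact q.Prime]
    (h : ∀ x : G, (∃ k : ℕ, orderOf x = q ^ k) → ∃ a : ℕ, (C(x)).index = q ^ a)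
    (Q : Sylow q G) :
    (Q : Subgroup G).Normal ∧ ∃ N : Subgroup G, N.Normal ∧ N.IsComplement' (Q : Subgroup G) :=
  direct_factor_of_eq_of q
    (fun x hx a ha => Cfsg.Agent.Lib.Helper1.QBLeaf.mem_pCore_of_index_pow q x hx a ha)
    (fun Q hQ N hN u hu a ha =>
      Cfsg.Agent.Lib.Helper1.QBLeaf.exists_conj_commute_complement q Q hQ N hN u hu a ha)
    h Q

end Cfsg.Agent.Lib.Helper15.QBLeaf
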