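import Mathlib
import Cfsg.Prelude.Def_Solvable
import Cfsg.Agent.Lib.Helper1.Fitting
import Cfsg.Agent.Lib.Helper13.SzSubA

/-!
# S4125 main body, leaf QBE (core): the case `p = q`, with the leaves QBW and QBB3 as hypotheses.
-/

set_option autoImplicit false

namespace Cfsg.Agent.Lib.Helper15.QBLeaf

open Cfsg.Agent.Lib.Helper1

variable {G : Type*} [Group G] [Finite G]

local notation "C(" x ")" => Subgroup.centralizer ({x} : Set G)

/-- QBE with QBW and QBB3 as hypotheses. -/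
theorem direct_factor_of_eq_of (q : ℕ) [Fact q.Prime]
    (hW : ∀ x : G, (∃ k : ℕ, orderOf x = q ^ k) → ∀ a : ℕ, (C(x)).index = q ^ a →
      x ∈ Cfsg.pCore q G)
    (hB3 : ∀ Q : Sylow q G, (Q : Subgroup G).Normal → ∀ N : Subgroup G,
      N.IsComplement' (Q : Subgroup G) → ∀ u ∈ (Q : Subgroup G), ∀ a : ℕ,
      (C(u)).index = q ^ a →
      ∃ v ∈ (Q : Subgroup G), ∀ n ∈ N, n * (v * u * v⁻¹) = (v * u * v⁻¹) * n)
    (h : ∀ x : G, (∃ k : ℕ, orderOf x = q ^ k) → ∃ a : ℕ, (C(x)).index = q ^ a)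
    (Q : Sylow q G) :
    (Q : Subgroup G).Normal ∧ ∃ N : Subgroup G, N.Normal ∧ N.IsComplement' (Q : Subgroup G) := by
  classical
  -- elements of `Q` are `q`-elements
  have hqel : ∀ u ∈ (Q : Subgroup G), ∃ k : ℕ, orderOf u = q ^ k := by
    intro u hu
    obtain ⟨k, hk⟩ := (IsPGroup.iff_orderOf.mp Q.2) ⟨u, hu⟩
    exact ⟨k, by rw [← hk, Subgroup.orderOf_mk]⟩
  -- `Q` is the `q`-core
  have hQle : (Q : Subgroup G) ≤ Cfsg.pCore q G := by
    intro u hu
    obtain ⟨a, ha⟩ := h u (hqel u hu)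
    exact hW u (hqel u hu) a ha
  have hQeq : (Q : Subgroup G) = Cfsg.pCore q G := le_antisymm hQle (pCore_le_sylow Q)
  have hQn : (Q : Subgroup G).Normal := hQeq ▸ pCore_normal q G
  refine ⟨hQn, ?_⟩
  -- a complement
  have := hQn
  obtain ⟨N, hN'⟩ := Subgroup.exists_right_complement'_of_coprime
    (N := (Q : Subgroup G)) Q.card_coprime_index
  have hN : N.IsComplement' (Q : Subgroup G) := hN'.symm
  -- every element of `Q` is `Q`-conjugate into the centralizer of `N`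
  have hconj : ∀ u ∈ (Q : Subgroup G), ∃ v ∈ (Q : Subgroup G),
      ∀ n ∈ N, n * (v * u * v⁻¹) = (v * u * v⁻¹) * n := by
    intro u hu
    obtain ⟨a, ha⟩ := h u (hqel u hu)
    exact hB3 Q hQn N hN u hu a ha
  -- so `N` centralizes `Q`
  let A : Subgroup (Q : Subgroup G) :=
    (Subgroup.centralizer (N : Set G)).subgroupOf (Q : Subgroup G)
  have hA : A = ⊤ := by
    by_contra hne
    obtain ⟨g, hg⟩ := Cfsg.Agent.Lib.Helper13.SzSub.exists_not_mem_conj hne
    obtain ⟨v, hv, hvn⟩ := hconj g g.2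
    apply hg ⟨v, hv⟩
    rw [Subgroup.mem_subgroupOf, Subgroup.mem_centralizer_iff]
    intro n hn
    exact hvn n hn
  have hcent : ∀ u ∈ (Q : Subgroup G), ∀ n ∈ N, n * u = u * n := by
    intro u hu n hn
    have hmem : (⟨u, hu⟩ : (Q : Subgroup G)) ∈ A := hA ▸ Subgroup.mem_top _
    rw [Subgroup.mem_subgroupOf, Subgroup.mem_centralizer_iff] at hmem
    exact hmem n hn
  -- `N` is normal
  refine ⟨N, ⟨fun n hn g => ?_⟩, hN⟩
  have hg : g ∈ N ⊔ (Q : Subgroup G) := hN.sup_eq_top ▸ Subgroup.mem_top g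
  rw [Subgroup.mem_sup_of_normal_right] at hg
  obtain ⟨n', hn', u, hu, rfl⟩ := hg
  have h1 : n' * u * n * (n' * u)⁻¹ = n' * n * n'⁻¹ := by
    rw [mul_inv_rev, mul_assoc n' u n, ← hcent u hu n hn]
    group
  rw [h1]
  exact N.mul_mem (N.mul_mem hn' hn) (N.inv_mem hn')

end Cfsg.Agent.Lib.Helper15.QBLeaf
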