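import Mathlib
import Cfsg.Prelude.Def_Solvable

/-!
# S4125 main body, leaf QBU (core): uniqueness of the prime, from Case A and Case B as hypotheses.
-/

set_option autoImplicit false

namespace Cfsg.Agent.Lib.Helper15.QBLeaf

variable {G : Type*} [Group G] [Finite G]

local notation "C(" x ")" => Subgroup.centralizer ({x} : Set G)

omit [Finite G] in
/-- QBU with the two cases (QBA, QBB) as hypotheses. -/
theorem exists_prime_forall_of (q : ℕ) [Fact q.Prime]
    (hBaer : ∀ x : G, (∃ k : ℕ, orderOf x = q ^ k) →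
      ∃ (r : ℕ) (a : ℕ), r.Prime ∧ (C(x)).index = r ^ a)
    (hA : ∀ (p r a b : ℕ), p.Prime → r.Prime → p ≠ r → p ≠ q → r ≠ q → 1 ≤ a → 1 ≤ b →
      ∀ x y : G, (∃ k : ℕ, orderOf x = q ^ k) → (∃ k : ℕ, orderOf y = q ^ k) →
      (C(x)).index = p ^ a → (C(y)).index = r ^ b → False)
    (hB : ∀ (r a b : ℕ), r.Prime → r ≠ q → 1 ≤ a → 1 ≤ b →
      ∀ x y : G, (∃ k : ℕ, orderOf x = q ^ k) → (∃ k : ℕ, orderOf y = q ^ k) →
      (C(x)).index = q ^ a → (C(y)).index = r ^ b → False) :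
    ∃ p : ℕ, p.Prime ∧ ∀ x : G, (∃ k : ℕ, orderOf x = q ^ k) →
      ∃ a : ℕ, (C(x)).index = p ^ a := by
  have hqp : q.Prime := Fact.out
  by_cases hall : ∀ x : G, (∃ k : ℕ, orderOf x = q ^ k) → (C(x)).index = 1
  · exact ⟨q, hqp, fun x hx => ⟨0, by rw [hall x hx, pow_zero]⟩⟩
  · push Not at hall
    obtain ⟨x0, hx0, hne⟩ := hall
    obtain ⟨p0, a0, hp0, hi0⟩ := hBaer x0 hx0
    have ha0 : 1 ≤ a0 := by
      rcases Nat.eq_zero_or_pos a0 with h | h
      · exfalso
        apply hne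
        rw [hi0, h, pow_zero]
      · exact h
    refine ⟨p0, hp0, fun y hy => ?_⟩
    obtain ⟨r, b, hr, hyi⟩ := hBaer y hy
    rcases Nat.eq_zero_or_pos b with hb | hb
    · exact ⟨0, by rw [hyi, hb, pow_zero, pow_zero]⟩
    · by_cases hrp : r = p0
      · exact ⟨b, by rw [hyi, hrp]⟩
      · exfalso
        by_cases hp0q : p0 = q
        · subst hp0q
          exact hB r a0 b hr hrp ha0 hb x0 y hx0 hy hi0 hyi
        · by_cases hrq : r = q
          · subst hrq
            exact hB p0 b a0 hp0 hp0q hb ha0 y x0 hy hx0 hyi hi0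
          · exact hA p0 r a0 b hp0 hr (fun h => hrp h.symm) hp0q hrq ha0 hb x0 y hx0 hy hi0 hyi

end Cfsg.Agent.Lib.Helper15.QBLeaf
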