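import Mathlib
import Cfsg.Prelude.Def_Solvable
import Cfsg.Agent.Lib.Helper15.QBUcore
import Cfsg.Agent.Lib.Lead.QBA
import Cfsg.Agent.Lib.Helper2.QBB

/-!
# S4125 main body, leaf QBU: uniqueness of the prime, from Case A (QBA, lead) and Case B (QBB, helper2).
-/

set_option autoImplicit false

namespace Cfsg.Agent.Lib.Helper15.QBLeaf

variable {G : Type*} [Group G] [Finite G]

local notation "C(" x ")" => Subgroup.centralizer ({x} : Set G)

/-- QBU (uniqueness of the prime), from QBA and QBB. -/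
theorem exists_prime_forall (q : ℕ) [Fact q.Prime]
    (hBaer : ∀ x : G, (∃ k : ℕ, orderOf x = q ^ k) →
      ∃ (r : ℕ) (a : ℕ), r.Prime ∧ (C(x)).index = r ^ a) :
    ∃ p : ℕ, p.Prime ∧ ∀ x : G, (∃ k : ℕ, orderOf x = q ^ k) →
      ∃ a : ℕ, (C(x)).index = p ^ a :=
  exists_prime_forall_of q hBaer
    (fun p r a b hp hr hpr hpq hrq ha hb x y hx hy hxi hyi =>
      Cfsg.Agent.Lib.Lead.QBLeaf.false_of_two_types q hBaer p r a b hp hr hpr hpq hrq ha hb x y hx hy hxi hyi)
    (fun r a b hr hrq ha hb x y hx hy hxi hyi =>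
      Cfsg.Agent.Lib.Helper2.QBLeaf.false_of_mixed q hBaer r a b hr hrq ha hb x y hx hy hxi hyi)

end Cfsg.Agent.Lib.Helper15.QBLeaf
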