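import Cfsg.Agent.Lib.Helper15.QuadClass

/-! Helper15 library: similarities of quadratic forms over finite fields (every multiplier occurs in
even dimension); extensionality of quadratic forms on a basis. -/

set_option autoImplicit false

namespace Cfsg.Agent.Lib.Helper15

open Module QuadraticMap

variable {F V : Type*} [Field F] [AddCommGroup V] [Module F V]




/-- Two quadratic forms agreeing on a basis, with polars agreeing on distinct basis vectors, are equal. -/
theorem quad_ext_basis {ι : Type*} (b : Basis ι F V) (Q₁ Q₂ : QuadraticForm F V)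
    (h1 : ∀ i, Q₁ (b i) = Q₂ (b i))
    (h2 : ∀ i j, i ≠ j → polar Q₁ (b i) (b j) = polar Q₂ (b i) (b j)) : Q₁ = Q₂ := by
  classical
  let _ : LinearOrder ι := IsWellOrder.linearOrder WellOrderingRel
  rw [← toQuadraticMap_toBilin Q₁ b, ← toQuadraticMap_toBilin Q₂ b]
  congr 1
  apply b.ext
  intro i
  apply b.ext
  intro j
  rw [toBilin_apply, toBilin_apply, h1]
  by_cases hij : i = j
  · simp [hij]
  · rw [h2 i j hij]

/-- A linear map scaling a quadratic form with nondegenerate polar by a nonzero scalar is bijective. -/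
theorem similarity_of_comp_eq [FiniteDimensional F V] (Q : QuadraticForm F V)
    (hQ : (polarBilin Q).Nondegenerate) (c : F) (hc : c ≠ 0) (g₀ : V →ₗ[F] V)
    (hg : ∀ v, Q (g₀ v) = c * Q v) :
    ∃ g : V ≃ₗ[F] V, ∀ v, Q (g v) = c * Q v := by
  have hpol : ∀ v w, polar Q (g₀ v) (g₀ w) = c * polar Q v w := by
    intro v w
    simp only [polar, ← map_add, hg]
    ring
  have hinj : Function.Injective g₀ := by
    rw [injective_iff_map_eq_zero]
    intro v hv
    apply hQ.1 v
    intro w
    rw [polarBilin_apply_apply]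
    have := hpol v w
    rw [hv, polar_zero_left] at this
    exact (mul_eq_zero.mp this.symm).resolve_left hc
  refine ⟨LinearEquiv.ofInjectiveEndo g₀ hinj, fun v => ?_⟩
  rw [LinearEquiv.coe_ofInjectiveEndo]
  exact hg v

/-- A linear map defined on a basis scales `Q` by `c` as soon as it does so on the basis data. -/
theorem scales_of_basis {ι : Type*} (b : Basis ι F V) (Q : QuadraticForm F V) (c : F)
    (b' : ι → V) (h1 : ∀ i, Q (b' i) = c * Q (b i))
    (h2 : ∀ i j, i ≠ j → polar Q (b' i) (b' j) = c * polar Q (b i) (b j)) :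
    ∀ v, Q (b.constr F b' v) = c * Q v := by
  have : Q.comp (b.constr F b') = c • Q := by
    apply quad_ext_basis b
    · intro i
      rw [comp_apply, Basis.constr_basis, h1]
      rfl
    · intro i j hij
      have e1 : polar (Q.comp (b.constr F b')) (b i) (b j) = polar Q (b' i) (b' j) := by
        simp only [polar, comp_apply, map_add, Basis.constr_basis]
      have e2 : polar (c • Q) (b i) (b j) = c * polar Q (b i) (b j) := by
        simp only [polar, smul_apply, smul_eq_mul]
        ring
      rw [e1, e2, h2 i j hij]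
  intro v
  have := DFunLike.congr_fun this v
  simpa using this

theorem hyp_similarity [FiniteDimensional F V] (Q : QuadraticForm F V)
    (hQ : (polarBilin Q).Nondegenerate) {m : ℕ} {e f : Fin m → V} (H : HypFam Q ⊤ e f)
    (hV : finrank F V = 2 * m) (c : F) (hc : c ≠ 0) :
    ∃ g : V ≃ₗ[F] V, ∀ v, Q (g v) = c * Q v := by
  have hcard : Fintype.card (Fin m ⊕ Fin m) = finrank F V := by
    rw [hV]; simp; omega
  let b := basisOfLinearIndependentOfCardEqFinrank' _ H.linearIndependent hcard
  have hb : ⇑b = Sum.elim e f := coe_basisOfLinearIndependentOfCardEqFinrank' _ _ _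
  have H2 := H.2.1
  have H3 := H.2.2.1
  have H4 := H.2.2.2
  apply similarity_of_comp_eq Q hQ c hc (b.constr F (Sum.elim (fun i => c • e i) f))
  apply scales_of_basis
  · rintro (i | i)
    · simp [hb, QuadraticMap.map_smul, (H2 i).1]
    · simp [hb, (H2 i).2]
  · rintro (i | i) (j | j) hij
    · simp [hb, polar_smul_left, polar_smul_right, (H4 i j).1]
    · simp [hb, polar_smul_left]
    · simp [hb, polar_smul_right]
    · simp [hb, (H4 i j).2]

theorem quad_pair (Q : QuadraticForm F V) (x y : V) (s t : F) :
    Q (s • x + t • y) = s ^ 2 * Q x + t ^ 2 * Q y + s * t * polar Q x y := by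
  have : Q (s • x + t • y) = Q (s • x) + Q (t • y) + polar Q (s • x) (t • y) := by
    rw [polar]; ring
  rw [this, QuadraticMap.map_smul, QuadraticMap.map_smul, polar_smul_left, polar_smul_right]
  simp only [smul_eq_mul]
  ring

theorem polar_pair (Q : QuadraticForm F V) (x y : V) (s t s' t' : F) :
    polar Q (s • x + t • y) (s' • x + t' • y) =
      2 * s * s' * Q x + 2 * t * t' * Q y + (s * t' + t * s') * polar Q x y := by
  simp only [polar_add_left, polar_add_right, polar_smul_left, polar_smul_right, polar_self,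
    polar_comm Q y x, smul_eq_mul, nsmul_eq_mul]
  push_cast
  ring

/-- The anisotropic pair of an elliptic family represents every scalar. -/
theorem EllFam.represents [Finite F] [FiniteDimensional F V] {Q : QuadraticForm F V}
    {W : Submodule F V} {k : ℕ} {e f : Fin k → V} {x y : V} {ζ : F} (H : EllFam Q W e f x y ζ)
    (c : F) : ∃ u v : F, u ^ 2 + u * v + ζ * v ^ 2 = c := by
  have hli := H.pair_indep
  obtain ⟨-, -, -, hζ, -, hQx, hxy, hQy, -⟩ := H
  have hval : ∀ s t : F, Q (s • x + t • y) = s ^ 2 + s * t + ζ * t ^ 2 := by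
    intro s t
    rw [quad_pair, hQx, hQy, hxy]; ring
  have h2 : finrank F (Submodule.span F (Set.range ![x, y])) = 2 := by
    rw [finrank_span_eq_card hli]; simp
  have hmem : ∀ w ∈ Submodule.span F (Set.range ![x, y]), ∃ s t : F, w = s • x + t • y := by
    intro w hw
    rw [Submodule.mem_span_range_iff_exists_fun] at hw
    obtain ⟨g, hg⟩ := hw
    exact ⟨g 0, g 1, by rw [← hg, Fin.sum_univ_two]; simp⟩
  have han : ∀ w ∈ Submodule.span F (Set.range ![x, y]), Q w = 0 → w = 0 := by
    intro w hw hq
    obtain ⟨s, t, rfl⟩ := hmem w hw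
    rw [hval] at hq
    have ht : t = 0 := by
      by_contra ht
      apply hζ (s / t)
      field_simp
      linear_combination hq
    rw [ht] at hq ⊢
    have hs : s = 0 := by
      have : s ^ 2 = 0 := by linear_combination hq
      exact pow_eq_zero_iff (two_ne_zero) |>.mp this
    rw [hs]; simp
  obtain ⟨w, hw, hq⟩ := exists_represents Q _ h2 han c
  obtain ⟨s, t, rfl⟩ := hmem w hw
  rw [hval] at hq
  exact ⟨s, t, hq⟩

theorem ell_similarity [Finite F] [FiniteDimensional F V] (Q : QuadraticForm F V)
    (hQ : (polarBilin Q).Nondegenerate) {k : ℕ} {e f : Fin k → V} {x y : V} {ζ : F}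
    (H : EllFam Q ⊤ e f x y ζ)
    (hV : finrank F V = 2 * (k + 1)) (c : F) (hc : c ≠ 0) :
    ∃ g : V ≃ₗ[F] V, ∀ v, Q (g v) = c * Q v := by
  obtain ⟨u, v, huv⟩ := H.represents c
  have hcard : Fintype.card ((Fin k ⊕ Fin k) ⊕ Fin 2) = finrank F V := by
    rw [hV]; simp; omega
  let b := basisOfLinearIndependentOfCardEqFinrank' _ H.linearIndependent hcard
  have hb : ⇑b = Sum.elim (Sum.elim e f) ![x, y] := coe_basisOfLinearIndependentOfCardEqFinrank' _ _ _
  have H2 := H.1.2.1
  have H3 := H.1.2.2.1
  have H4 := H.1.2.2.2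
  have hQx := H.2.2.2.2.2.1
  have hxy := H.2.2.2.2.2.2.1
  have hQy := H.2.2.2.2.2.2.2.1
  have hyx : polar Q y x = 1 := by rw [polar_comm]; exact hxy
  have hxe : ∀ i, polar Q x (e i) = 0 := fun i => (H.2.2.2.2.1 i).1.1
  have hxf : ∀ i, polar Q x (f i) = 0 := fun i => (H.2.2.2.2.1 i).1.2
  have hye : ∀ i, polar Q y (e i) = 0 := fun i => (H.2.2.2.2.1 i).2.1
  have hyf : ∀ i, polar Q y (f i) = 0 := fun i => (H.2.2.2.2.1 i).2.2
  have hex : ∀ i, polar Q (e i) x = 0 := fun i => by rw [polar_comm]; exact hxe i
  have hfx : ∀ i, polar Q (f i) x = 0 := fun i => by rw [polar_comm]; exact hxf i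
  have hey : ∀ i, polar Q (e i) y = 0 := fun i => by rw [polar_comm]; exact hye i
  have hfy : ∀ i, polar Q (f i) y = 0 := fun i => by rw [polar_comm]; exact hyf i
  apply similarity_of_comp_eq Q hQ c hc (b.constr F (Sum.elim (Sum.elim (fun i => c • e i) f)
    ![u • x + v • y, (-(ζ * v)) • x + (u + v) • y]))
  apply scales_of_basis
  · rintro ((i | i) | j)
    · simp [hb, QuadraticMap.map_smul, (H2 i).1]
    · simp [hb, (H2 i).2]
    · fin_cases j
      · simp only [hb, Sum.elim_inr, Fin.zero_eta, Matrix.cons_val_zero]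
        rw [quad_pair, hQx, hQy, hxy]
        linear_combination huv
      · simp only [hb, Sum.elim_inr, Fin.mk_one, Matrix.cons_val_one, Matrix.cons_val_fin_one]
        rw [quad_pair, hQx, hQy, hxy]
        linear_combination ζ * huv
  · rintro ((i | i) | j) ((i' | i') | j') hij
    · simp [hb, polar_smul_left, polar_smul_right, (H4 i i').1]
    · simp [hb, polar_smul_left]
    · fin_cases j' <;> simp [hb, polar_smul_left, polar_smul_right, polar_add_right, hex, hey]
    · simp [hb, polar_smul_right]
    · simp [hb, (H4 i i').2]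
    · fin_cases j' <;> simp [hb, polar_smul_right, polar_add_right, hfx, hfy]
    · fin_cases j <;> simp [hb, polar_smul_left, polar_smul_right, polar_add_left, hxe, hye]
    · fin_cases j <;> simp [hb, polar_smul_left, polar_add_left, hxf, hyf]
    · fin_cases j <;> fin_cases j'
      · exact absurd rfl hij
      · simp only [hb, Sum.elim_inr, Fin.zero_eta, Fin.mk_one, Matrix.cons_val_zero,
          Matrix.cons_val_one, Matrix.cons_val_fin_one]
        rw [polar_pair, hQx, hQy, hxy]
        linear_combination huv
      · simp only [hb, Sum.elim_inr, Fin.zero_eta, Fin.mk_one, Matrix.cons_val_zero,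
          Matrix.cons_val_one, Matrix.cons_val_fin_one]
        rw [polar_pair, hQx, hQy, hxy, hyx]
        linear_combination huv
      · exact absurd rfl hij

/-- Every nonzero scalar is the multiplier of a similarity of a nondegenerate even-dimensional
quadratic space over a finite field. -/
theorem exists_similarity [Finite F] [FiniteDimensional F V] (Q : QuadraticForm F V)
    (hQ : (polarBilin Q).Nondegenerate) (k : ℕ) (hV : finrank F V = 2 * (k + 1)) (c : F)
    (hc : c ≠ 0) : ∃ g : V ≃ₗ[F] V, ∀ v, Q (g v) = c * Q v := by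
  rcases even_family Q k ⊤ (ndOn_top Q hQ) (by rw [finrank_top, hV]) with
    ⟨e, f, H⟩ | ⟨e, f, x, y, ζ, H⟩
  · exact hyp_similarity Q hQ H hV c hc
  · exact ell_similarity Q hQ H hV c hc

end Cfsg.Agent.Lib.Helper15
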