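import Mathlib
import Cfsg.Prelude.Def_CaseTheorems
import Cfsg.Prelude.Def_OddOrderLocal
import Cfsg.Agent.Lib.Helper26.EssChain
import Cfsg.Agent.Lib.Helper26.R5Defs
import Cfsg.Agent.Lib.Helper1.OmegaQuot
import Cfsg.Agent.Lib.Helper27.Blackburn2
import Cfsg.Agent.S0120
/-!
helper15: S5289 leaf R5F (core): Case I, first half: `Ω₁(E)` abelian forces `E ≅ C_p × C_p`
(with the leaf R5B as a hypothesis; the final statement is in `R5F.lean`).
-/

set_option autoImplicit false
open scoped commutatorElement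
open Cfsg.Agent.Lib.Helper26 Cfsg.Agent.Lib.Helper26.R5

namespace Cfsg.Agent.Lib.Helper15.R5Leaf

/-- An automorphism of a `p`-group (`p` odd) fixing all elements of order dividing `p` is a `p`-element. -/
theorem exists_pow_eq_one_of_fix {E : Type*} [Group E] [Finite E] {p : ℕ} [Fact p.Prime] (hp2 : p ≠ 2)
    (hE : IsPGroup p E) (γ : MulAut E) (h : ∀ x : E, x ^ p = 1 → γ x = x) : ∃ j : ℕ, γ ^ p ^ j = 1 := by
  have hpp : p.Prime := Fact.out
  have hpos : 0 < orderOf γ := orderOf_pos γ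
  obtain ⟨a, m, hm, hom⟩ := Nat.exists_eq_pow_mul_and_not_dvd hpos.ne' p hpp.ne_one
  refine ⟨a, ?_⟩
  have hfix : ∀ (i : ℕ) (x : E), x ^ p = 1 → (γ ^ i) x = x := by
    intro i
    induction i with
    | zero => intro x _; simp
    | succ i ih =>
      intro x hx
      rw [pow_succ, MulAut.mul_apply, h x hx, ih x hx]
  apply Cfsg.Agent.S0120.result hp2 hE (γ ^ p ^ a) ?_ (hfix _)
  rw [orderOf_pow, hom, Nat.gcd_eq_right (dvd_mul_right _ _), Nat.mul_div_cancel_left _ (pow_pos hpp.pos a)]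
  exact ((Nat.Prime.coprime_iff_not_dvd hpp).mpr hm).symm

/-- No chain of invariant subgroups reaching `Ω₁` with factors of order `p` (or trivial). -/
theorem no_chain_omega {E : Type*} [Group E] [Finite E] {p : ℕ} [Fact p.Prime] (hp2 : p ≠ 2)
    (hE : IsPGroup p E) {X : Subgroup (MulAut E)} (hd : EssData p E X)
    (T : ℕ → Subgroup E) (hmono : Monotone T) (h0 : T 0 = ⊥) (n : ℕ)
    (hn : ∀ x : E, x ^ p = 1 → x ∈ T n)
    (hinv : ∀ γ ∈ X, ∀ i x, x ∈ T i ↔ γ x ∈ T i)
    (hstep : ∀ i, Nat.card (T (i + 1)) = p * Nat.card (T i) ∨ T (i + 1) = T i) : False := by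
  obtain ⟨α, hαA, hαInn, j, hαj⟩ := hd.out
  have hnorm : ∀ i, (T i).Normal := fun i => hd.normal_of_inv (fun γ hγ x => hinv γ hγ i x)
  have hα : α ∈ chainStab T hmono := by
    refine ⟨hinv α hαA, fun i x hx => ?_⟩
    rcases hstep i with hc | he
    · have := hnorm i
      exact triv_on_section' (T (i + 1)) (T i) (hmono (Nat.le_succ i)) inferInstance hc α
        (hinv α hαA (i + 1)) (hinv α hαA i) hαj x hx
    · rw [he] at hx
      exact (T i).mul_mem ((T i).inv_mem hx) ((hinv α hαA i x).mp hx)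
  have hBn := chainStab_inf_normal T hmono X hinv
  have hBp0 : IsPGroup p ↥(chainStab T hmono ⊓ X) := by
    rintro ⟨β, hβ⟩
    obtain ⟨k, hk⟩ := stab_chain (p := p) T hmono (fun i => inferInstance)
      (fun i => (hE.to_subgroup (T i)).exists_card_eq) ⟨0, fun x hx => by
        rw [h0, Subgroup.mem_bot] at hx
        rw [hx, map_one]⟩ (hβ.1).2 n
    obtain ⟨l, hl⟩ := exists_pow_eq_one_of_fix hp2 hE (β ^ p ^ k) (fun x hx => hk x (hn x hx))
    refine ⟨k + l, ?_⟩
    apply Subtype.ext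
    show β ^ p ^ (k + l) = 1
    rw [pow_add, pow_mul]
    exact hl
  have hBp : IsPGroup p ↥((chainStab T hmono ⊓ X).subgroupOf X) := hBp0.comap_subtype
  apply hαInn
  exact hd.core _ hBn hBp ⟨α, hαA⟩ (by rw [Subgroup.mem_subgroupOf]; exact ⟨hα, hαA⟩)


/-- characteristic-type invariance for the commutator subgroup -/
theorem mem_commutator_iff_aut {E : Type*} [Group E] (γ : MulAut E) (x : E) :
    x ∈ commutator E ↔ γ x ∈ commutator E := by
  have h := (inferInstance : (commutator E).Characteristic).fixed γ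
  constructor
  · intro hx
    rw [← h] at hx
    exact hx
  · intro hx
    rw [← h]
    exact hx

/-- The key consequence of `no_chain_omega` for an abelian `Ω₁ = D`. -/
theorem key_chain {E : Type*} [Group E] [Finite E] {p : ℕ} [Fact p.Prime] (hp2 : p ≠ 2)
    (hE : IsPGroup p E) {X : Subgroup (MulAut E)} (hd : EssData p E X)
    (D : Subgroup E) (hD : ∀ x, x ∈ D ↔ x ^ p = 1)
    (L : Subgroup E) (hLD : L ≤ D) (hLinv : ∀ γ ∈ X, ∀ x, x ∈ L ↔ γ x ∈ L)
    (hL : Nat.card L = 1 ∨ Nat.card L = p)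
    (hDL : Nat.card D = Nat.card L ∨ Nat.card D = p * Nat.card L) : False := by
  have hDinv : ∀ γ : MulAut E, ∀ x, x ∈ D ↔ γ x ∈ D := by
    intro γ x
    rw [hD, hD, ← map_pow]
    constructor
    · intro h
      rw [h, map_one]
    · intro h
      exact γ.injective (by rw [h, map_one])
  let T : ℕ → Subgroup E := fun i => if i = 0 then ⊥ else if i = 1 then L else D
  have hT0 : T 0 = ⊥ := rfl
  have hT1 : T 1 = L := rfl
  have hT2 : ∀ i, T (i + 2) = D := by
    intro i
    show (if i + 2 = 0 then ⊥ else if i + 2 = 1 then L else D) = D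
    rw [if_neg (by omega), if_neg (by omega)]
  have hmono : Monotone T := by
    apply monotone_nat_of_le_succ
    intro i
    rcases i with _ | _ | i
    · rw [hT0]; exact bot_le
    · rw [hT1, hT2]; exact hLD
    · rw [hT2, show i + 1 + 1 + 1 = (i + 1) + 2 from rfl, hT2]
  apply no_chain_omega hp2 hE hd T hmono hT0 2 (fun x hx => by rw [hT2 0]; exact (hD x).mpr hx)
  · intro γ hγ i x
    rcases i with _ | _ | i
    · rw [hT0, Subgroup.mem_bot, Subgroup.mem_bot]
      constructor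
      · intro h; rw [h, map_one]
      · intro h; exact γ.injective (by rw [h, map_one])
    · rw [hT1]; exact hLinv γ hγ x
    · rw [hT2]; exact hDinv γ x
  · intro i
    rcases i with _ | _ | i
    · rw [hT0, hT1, Subgroup.card_bot, mul_one]
      rcases hL with h | h
      · right
        exact Subgroup.card_eq_one.mp h
      · left; exact h
    · rw [hT1, hT2]
      rcases hDL with h | h
      · right
        exact (Subgroup.eq_of_le_of_card_ge hLD h.le).symm
      · left; exact h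
    · right
      rw [show i + 1 + 1 + 1 = (i + 1) + 2 from rfl, hT2, hT2]


/-- Step (1): `|D| = p²` and there is no invariant subgroup of order `p`. -/
theorem card_omega_sq {E : Type*} [Group E] [Finite E] {p : ℕ} [Fact p.Prime] (hp2 : p ≠ 2)
    (hE : IsPGroup p E) (hrk : Cfsg.PRankLE p 2 E) {X : Subgroup (MulAut E)} (hd : EssData p E X)
    (hab : ∀ x y : E, x ^ p = 1 → y ^ p = 1 → x * y = y * x)
    (D : Subgroup E) (hD : ∀ x, x ∈ D ↔ x ^ p = 1) :
    Nat.card D = p ^ 2 ∧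
      ∀ L : Subgroup E, L ≤ D → (∀ γ ∈ X, ∀ x, x ∈ L ↔ γ x ∈ L) → Nat.card L ≠ p := by
  have hpp : p.Prime := Fact.out
  have hDcomm : IsMulCommutative D :=
    ⟨⟨fun a b => Subtype.ext (hab a b ((hD a).mp a.2) ((hD b).mp b.2))⟩⟩
  have hDcard_le : Nat.card D ≤ p ^ 2 := hrk D hDcomm (fun a ha => (hD a).mp ha)
  have hbot_inv : ∀ γ ∈ X, ∀ x, x ∈ (⊥ : Subgroup E) ↔ γ x ∈ (⊥ : Subgroup E) := by
    intro γ _ x
    rw [Subgroup.mem_bot, Subgroup.mem_bot]
    constructor
    · intro h; rw [h, map_one]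
    · intro h; exact γ.injective (by rw [h, map_one])
  obtain ⟨a, ha⟩ := (hE.to_subgroup D).exists_card_eq
  have ha2 : a ≤ 2 := by
    rw [ha] at hDcard_le
    exact (Nat.pow_le_pow_iff_right hpp.one_lt).mp hDcard_le
  have hcard : Nat.card D = p ^ 2 := by
    rcases (show a = 0 ∨ a = 1 ∨ a = 2 by omega) with rfl | rfl | rfl
    · exfalso
      apply key_chain hp2 hE hd D hD ⊥ bot_le hbot_inv (Or.inl Subgroup.card_bot)
      left
      rw [ha, Subgroup.card_bot, pow_zero]
    · exfalso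
      apply key_chain hp2 hE hd D hD ⊥ bot_le hbot_inv (Or.inl Subgroup.card_bot)
      right
      rw [ha, Subgroup.card_bot, pow_one, mul_one]
    · exact ha
  refine ⟨hcard, fun L hLD hLinv hLp => ?_⟩
  apply key_chain hp2 hE hd D hD L hLD hLinv (Or.inr hLp)
  right
  rw [hcard, hLp, sq]


/-- Step (3): `E` is abelian. -/
theorem comm_of_omega {E : Type*} [Group E] [Finite E] {p : ℕ} [Fact p.Prime] (hp : 3 < p)
    (hE : IsPGroup p E) {X : Subgroup (MulAut E)}
    (D : Subgroup E) (hD : ∀ x, x ∈ D ↔ x ^ p = 1) (hDcard : Nat.card D = p ^ 2)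
    (hnoL : ∀ L : Subgroup E, L ≤ D → (∀ γ ∈ X, ∀ x, x ∈ L ↔ γ x ∈ L) → Nat.card L ≠ p) :
    ∀ x y : E, x * y = y * x := by
  have hpp : p.Prime := Fact.out
  have hp2 : p ≠ 2 := by omega
  have hΩ : Nat.card (Cfsg.omegaOne p (⊤ : Subgroup E)) ≤ p ^ 2 := by
    have h1 : Cfsg.omegaOne p (⊤ : Subgroup E) = D := by
      rw [Cfsg.Agent.Lib.Helper1.OmegaQuot.omegaOne_top_eq]
      have h2 : {x : E | x ^ p = 1} = (D : Set E) := by
        ext x
        exact (hD x).symm
      rw [h2, Subgroup.closure_eq]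
    rw [h1, hDcard]
  have h1 := Cfsg.Agent.Lib.Helper1.OmegaQuot.small_omega_quotient hp hE hΩ
    (Cfsg.Agent.Lib.Helper22.RankTwoChar.agemo p E)
  have htop : Cfsg.omegaOne p (⊤ : Subgroup (E ⧸ Cfsg.Agent.Lib.Helper22.RankTwoChar.agemo p E)) = ⊤ := by
    rw [Cfsg.Agent.Lib.Helper1.OmegaQuot.omegaOne_top_eq, eq_top_iff]
    intro q _
    apply Subgroup.subset_closure
    induction q using QuotientGroup.induction_on with
    | H x =>
      show (QuotientGroup.mk x : E ⧸ Cfsg.Agent.Lib.Helper22.RankTwoChar.agemo p E) ^ p = 1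
      rw [← QuotientGroup.mk_pow, QuotientGroup.eq_one_iff]
      exact Cfsg.Agent.Lib.Helper22.RankTwoChar.pow_mem_agemo p x
  rw [htop, Subgroup.card_top, ← Subgroup.index_eq_card] at h1
  obtain ⟨N, hN, hNc, hQc⟩ :=
    Cfsg.Agent.Lib.Helper27.Blackburn.isMetacyclic_of_index_agemo_le hp2 hE h1
  have hcomm_le : commutator E ≤ N :=
    Subgroup.Normal.quotient_commutative_iff_commutator_le.mp inferInstance
  -- the subgroup of order `p` of the derived group
  by_contra hne
  have hCne : commutator E ≠ ⊥ := by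
    intro h
    apply hne
    intro x y
    rw [← commutatorElement_eq_one_iff_mul_comm, ← Subgroup.mem_bot, ← h, commutator_eq_closure]
    exact Subgroup.subset_closure (commutator_mem_commutatorSet x y)
  apply hnoL (commutator E ⊓ D) inf_le_right
  · intro γ _ x
    rw [Subgroup.mem_inf, Subgroup.mem_inf, ← mem_commutator_iff_aut γ x, hD, hD, ← map_pow]
    constructor
    · rintro ⟨h1, h2⟩
      exact ⟨h1, by rw [h2, map_one]⟩
    · rintro ⟨h1, h2⟩
      exact ⟨h1, γ.injective (by rw [h2, map_one])⟩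
  · have hcyc : IsCyclic ↥(commutator E ⊓ D) := Subgroup.isCyclic_of_le (inf_le_left.trans hcomm_le)
    have hdvd : Nat.card ↥(commutator E ⊓ D) ∣ p := by
      rw [← IsCyclic.exponent_eq_card]
      apply Monoid.exponent_dvd_of_forall_pow_eq_one
      rintro ⟨g, hg⟩
      apply Subtype.ext
      exact (hD g).mp hg.2
    rcases (Nat.dvd_prime hpp).mp hdvd with h | h
    · exfalso
      rw [Subgroup.card_eq_one] at h
      -- the derived group is a nontrivial `p`-group so contains an element of order `p`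
      obtain ⟨⟨c, hc⟩, hc1⟩ := (Subgroup.ne_bot_iff_exists_ne_one.mp hCne)
      have hc1' : c ≠ 1 := fun h0 => hc1 (Subtype.ext h0)
      obtain ⟨n, hn⟩ := Cfsg.Agent.Lib.Helper27.Blackburn.exists_pow_orderOf_eq_prime hE hc1'
      have hmem : c ^ n ∈ commutator E ⊓ D := by
        refine ⟨Subgroup.pow_mem _ hc n, (hD _).mpr ?_⟩
        rw [← hn]
        exact pow_orderOf_eq_one _
      rw [h, Subgroup.mem_bot] at hmem
      rw [hmem, orderOf_one] at hn
      exact hpp.one_lt.ne hn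
    · exact h


/-- (F) with the leaf R5B (`abelian_exponent`, at the type `E`) as a hypothesis. -/
theorem caseI_abelian_of {E : Type*} [Group E] [Finite E] {p : ℕ} [Fact p.Prime] (hp : 3 < p)
    (hE : IsPGroup p E) (hrk : Cfsg.PRankLE p 2 E)
    (X : Subgroup (MulAut E)) (hd : EssData p E X)
    (hab : ∀ x y : E, x ^ p = 1 → y ^ p = 1 → x * y = y * x)
    (hB : (∀ x y : E, x * y = y * x) → Nat.card {x : E // x ^ p = 1} = p ^ 2 →
      ∀ k : ℕ, (∀ x : E, (x ^ p ^ k) ^ p = 1) → (∀ d : E, d ^ p = 1 → ∃ x : E, x ^ p ^ k = d) →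
      ∀ β : MulAut E, β ^ p = 1 → ∀ d₀ : E, d₀ ^ p = 1 → β d₀ ≠ d₀ → k = 0) :
    (∀ x y : E, x * y = y * x) ∧ (∀ x : E, x ^ p = 1) ∧ Nat.card E = p ^ 2 := by
  have hpp : p.Prime := Fact.out
  have hp2 : p ≠ 2 := by omega
  obtain ⟨D, hD⟩ : ∃ D : Subgroup E, ∀ x, x ∈ D ↔ x ^ p = 1 := by
    refine ⟨{ carrier := {x | x ^ p = 1}
              one_mem' := one_pow p
              mul_mem' := ?_
              inv_mem' := ?_ }, fun x => Iff.rfl⟩
    · intro a b ha hb
      show (a * b) ^ p = 1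
      rw [(show Commute a b from hab a b ha hb).mul_pow, show a ^ p = 1 from ha,
        show b ^ p = 1 from hb, one_mul]
    · intro a ha
      show (a⁻¹) ^ p = 1
      rw [inv_pow, show a ^ p = 1 from ha, inv_one]
  obtain ⟨hDcard, hnoL⟩ := card_omega_sq hp2 hE hrk hd hab D hD
  have hcomm : ∀ x y : E, x * y = y * x := comm_of_omega hp hE D hD hDcard hnoL
  have hΩcard : Nat.card {x : E // x ^ p = 1} = p ^ 2 := by
    rw [← hDcard]
    exact Nat.card_congr (Equiv.subtypeEquivRight (fun x => (hD x).symm))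
  -- the exponent
  have hex : ∃ k : ℕ, ∀ x : E, x ^ p ^ (k + 1) = 1 := by
    obtain ⟨e, he⟩ := hE.exists_card_eq
    refine ⟨e, fun x => ?_⟩
    rw [pow_succ, pow_mul, ← he, pow_card_eq_one', one_pow]
  classical
  set k := Nat.find hex with hk
  have hkspec : ∀ x : E, x ^ p ^ (k + 1) = 1 := Nat.find_spec hex
  have hk1 : ∀ x : E, (x ^ p ^ k) ^ p = 1 := by
    intro x
    rw [← pow_mul, ← pow_succ]
    exact hkspec x
  have hne : ∃ x : E, x ^ p ^ k ≠ 1 := by
    rcases Nat.eq_zero_or_pos k with h0 | hpos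
    · rw [h0, pow_zero]
      have h1 : 1 < Nat.card D := by
        rw [hDcard]
        exact Nat.one_lt_pow (by norm_num) hpp.one_lt
      have hnt : Nontrivial D := Finite.one_lt_card_iff_nontrivial.mp h1
      obtain ⟨⟨x, hx⟩, hx1⟩ := exists_ne (1 : D)
      refine ⟨x, ?_⟩
      rw [pow_one]
      exact fun h => hx1 (Subtype.ext h)
    · obtain ⟨k', hk'⟩ : ∃ k', k = k' + 1 := ⟨k - 1, by omega⟩
      have := Nat.find_min hex (m := k') (by omega)
      push Not at this
      rw [hk']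
      exact this
  -- the image of the `p ^ k`-th power map
  have hpow_mul : ∀ (n : ℕ) (x y : E), (x * y) ^ n = x ^ n * y ^ n :=
    fun n x y => (show Commute x y from hcomm x y).mul_pow n
  obtain ⟨I, hI⟩ : ∃ I : Subgroup E, ∀ y, y ∈ I ↔ ∃ x : E, x ^ p ^ k = y := by
    refine ⟨{ carrier := {y | ∃ x : E, x ^ p ^ k = y}
              one_mem' := ⟨1, one_pow _⟩
              mul_mem' := ?_
              inv_mem' := ?_ }, fun x => Iff.rfl⟩
    · rintro _ _ ⟨a, rfl⟩ ⟨b, rfl⟩
      exact ⟨a * b, hpow_mul _ a b⟩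
    · rintro _ ⟨a, rfl⟩
      exact ⟨a⁻¹, inv_pow a _⟩
  have hID : I ≤ D := by
    intro y hy
    obtain ⟨x, rfl⟩ := (hI y).mp hy
    exact (hD _).mpr (hk1 x)
  have hIne : I ≠ ⊥ := by
    obtain ⟨x, hx⟩ := hne
    intro h
    have : x ^ p ^ k ∈ I := (hI _).mpr ⟨x, rfl⟩
    rw [h, Subgroup.mem_bot] at this
    exact hx this
  have hIinv : ∀ γ ∈ X, ∀ y, y ∈ I ↔ γ y ∈ I := by
    intro γ _ y
    rw [hI, hI]
    constructor
    · rintro ⟨x, rfl⟩
      exact ⟨γ x, (map_pow γ x _).symm⟩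
    · rintro ⟨x, hx⟩
      refine ⟨γ.symm x, ?_⟩
      apply γ.injective
      rw [map_pow, MulEquiv.apply_symm_apply, hx]
  have hIeq : I = D := by
    apply Subgroup.eq_of_le_of_card_ge hID
    obtain ⟨a, ha⟩ := (hE.to_subgroup I).exists_card_eq
    have hdvd := Subgroup.card_dvd_of_le hID
    rw [hDcard, ha] at hdvd
    have ha2 : a ≤ 2 := (Nat.pow_dvd_pow_iff_le_right hpp.one_lt).mp hdvd
    rcases (show a = 0 ∨ a = 1 ∨ a = 2 by omega) with rfl | rfl | rfl
    · exfalso
      rw [pow_zero, Subgroup.card_eq_one] at ha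
      exact hIne ha
    · exfalso
      rw [pow_one] at ha
      exact hnoL I hID hIinv ha
    · rw [hDcard, ha]
  have hk2 : ∀ d : E, d ^ p = 1 → ∃ x : E, x ^ p ^ k = d := by
    intro d hd'
    have : d ∈ I := by
      rw [hIeq]
      exact (hD d).mpr hd'
    exact (hI d).mp this
  -- `X` is faithful on `D`
  obtain ⟨hdvdX, hcoreX⟩ := hd.of_comm hcomm
  let N : Subgroup X :=
    { carrier := {γ | ∀ x : E, x ^ p = 1 → (γ : MulAut E) x = x}
      one_mem' := fun x _ => rfl
      mul_mem' := by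
        intro a b ha hb x hx
        show (a : MulAut E) ((b : MulAut E) x) = x
        rw [hb x hx, ha x hx]
      inv_mem' := by
        intro a ha x hx
        show (a : MulAut E)⁻¹ x = x
        rw [MulAut.inv_apply, MulEquiv.symm_apply_eq, ha x hx] }
  have hNmem : ∀ γ : X, γ ∈ N ↔ ∀ x : E, x ^ p = 1 → (γ : MulAut E) x = x := fun γ => Iff.rfl
  have hNnormal : N.Normal := by
    constructor
    intro γ hγ g x hx
    show (g : MulAut E) ((γ : MulAut E) ((g : MulAut E)⁻¹ x)) = x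
    have h1 : ((g : MulAut E)⁻¹ x) ^ p = 1 := by
      rw [← map_pow, hx, map_one]
    rw [hγ _ h1, MulAut.apply_inv_self]
  have hNp : IsPGroup p N := by
    rintro ⟨γ, hγ⟩
    obtain ⟨j, hj⟩ := exists_pow_eq_one_of_fix hp2 hE (γ : MulAut E) hγ
    refine ⟨j, ?_⟩
    apply Subtype.ext
    apply Subtype.ext
    exact hj
  have hNbot : N = ⊥ := hcoreX N hNnormal hNp
  -- the element of order `p`
  obtain ⟨α, hαX, hαInn, j, hαj⟩ := hd.out
  have hα1 : α ≠ 1 := fun h => hαInn (h ▸ one_mem _)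
  obtain ⟨i, -, hi⟩ := (Nat.dvd_prime_pow hpp).mp (orderOf_dvd_of_pow_eq_one hαj)
  have hi0 : i ≠ 0 := by
    rintro rfl
    rw [pow_zero, orderOf_eq_one_iff] at hi
    exact hα1 hi
  obtain ⟨i', rfl⟩ : ∃ i', i = i' + 1 := ⟨i - 1, by omega⟩
  have hβp : (α ^ p ^ i') ^ p = 1 := by
    rw [← pow_mul, ← pow_succ, ← hi]
    exact pow_orderOf_eq_one α
  have hβ1 : α ^ p ^ i' ≠ 1 := by
    apply pow_ne_one_of_lt_orderOf (pow_pos hpp.pos i').ne'
    rw [hi]
    exact Nat.pow_lt_pow_right hpp.one_lt (Nat.lt_succ_self i')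
  have hβX : α ^ p ^ i' ∈ X := X.pow_mem hαX _
  have hmove : ∃ d₀ : E, d₀ ^ p = 1 ∧ (α ^ p ^ i') d₀ ≠ d₀ := by
    by_contra hcon
    push Not at hcon
    have hmem : (⟨α ^ p ^ i', hβX⟩ : X) ∈ N := (hNmem _).mpr hcon
    rw [hNbot, Subgroup.mem_bot] at hmem
    exact hβ1 (congrArg Subtype.val hmem)
  obtain ⟨d₀, hd₀, hβd⟩ := hmove
  have hk0 : k = 0 := hB hcomm hΩcard k hk1 hk2 (α ^ p ^ i') hβp d₀ hd₀ hβd
  have hexp : ∀ x : E, x ^ p = 1 := by
    intro x
    have := hk1 x
    rwa [hk0, pow_zero, pow_one] at this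
  refine ⟨hcomm, hexp, ?_⟩
  have hDtop : D = ⊤ := by
    rw [eq_top_iff]
    intro x _
    exact (hD x).mpr (hexp x)
  rw [← hDcard, hDtop, Subgroup.card_top]

end Cfsg.Agent.Lib.Helper15.R5Leaf
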