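import Mathlib
import Cfsg.Prelude.Def_CaseTheorems
import Cfsg.Prelude.Def_OddOrderLocal
import Cfsg.Agent.Lib.Helper26.EssChain
import Cfsg.Agent.Lib.Helper26.R5Defs
import Cfsg.Agent.Lib.Helper15.R5Fcore
import Cfsg.Agent.Lib.Helper8.R5B

/-!
helper15: S5289 leaf R5F: Case I, first half: `Ω₁(E)` abelian forces `E ≅ C_p × C_p`.
-/

set_option autoImplicit false
open scoped commutatorElement
open Cfsg.Agent.Lib.Helper26 Cfsg.Agent.Lib.Helper26.R5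

namespace Cfsg.Agent.Lib.Helper15.R5Leaf

/-- (F) Case I, first half: `Ω₁(E)` abelian forces `E ≅ C_p × C_p`. -/
theorem caseI_abelian {E : Type*} [Group E] [Finite E] {p : ℕ} [Fact p.Prime] (hp : 3 < p)
    (hE : IsPGroup p E) (hrk : Cfsg.PRankLE p 2 E)
    (X : Subgroup (MulAut E)) (hd : EssData p E X)
    (hab : ∀ x y : E, x ^ p = 1 → y ^ p = 1 → x * y = y * x) :
    (∀ x y : E, x * y = y * x) ∧ (∀ x : E, x ^ p = 1) ∧ Nat.card E = p ^ 2 :=
  caseI_abelian_of hp hE hrk X hd hab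
    (fun hcomm hΩ k hk1 hk2 β hβ d₀ hd₀ hβd =>
      Cfsg.Agent.Lib.Helper8.R5Leaf.abelian_exponent hp hcomm hE hΩ k hk1 hk2 β hβ d₀ hd₀ hβd)

end Cfsg.Agent.Lib.Helper15.R5Leaf
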