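import Mathlib
import Cfsg.Agent.Lib.Helper15.RegNil

set_option autoImplicit false

namespace Cfsg.Agent.Lib.Helper15.RegUni

open Matrix

section cayley

variable {R : Type*} [Ring R] [StarRing R]

/-- Cayley transform -/
noncomputable def cay (c : R) : R := (1 + c) * Ring.inverse (1 - c)

/-- inverse Cayley transform -/
noncomputable def cay' (g : R) : R := Ring.inverse (1 + g) * (g - 1)

theorem cay_spec (c : R) (hc : star c = -c) (hu : IsUnit (1 - c)) :
    star (cay c) * cay c = 1 ∧ cay c * star (cay c) = 1 ∧ cay c * (1 - c) = 1 + c ∧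
      1 + cay c = 2 * Ring.inverse (1 - c) := by
  obtain ⟨a, ha⟩ := hu
  have hb : ((star a : Rˣ) : R) = 1 + c := by
    rw [Units.coe_star, ha, star_sub, star_one, hc, sub_neg_eq_add]
  have hab : Commute a (star a) := by
    apply Units.ext
    rw [Units.val_mul, Units.val_mul, hb, ha]
    noncomm_ring
  have hg : cay c = ((star a * a⁻¹ : Rˣ) : R) := by
    unfold cay
    rw [← ha, Ring.inverse_unit, Units.val_mul, hb]
  have hsg : star (cay c) = (((star a)⁻¹ * a : Rˣ) : R) := by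
    rw [hg, ← Units.coe_star, star_mul, star_star, star_inv]
  refine ⟨?_, ?_, ?_, ?_⟩
  · rw [hsg, hg, ← Units.val_mul, ← Units.val_one]
    congr 1
    have h1 : a * star a * a⁻¹ = star a := by
      rw [hab.eq, mul_assoc, mul_inv_cancel, mul_one]
    rw [mul_assoc, ← mul_assoc a, h1, inv_mul_cancel]
  · rw [hsg, hg, ← Units.val_mul, ← Units.val_one]
    congr 1
    have h1 : a⁻¹ * (star a)⁻¹ = (star a)⁻¹ * a⁻¹ := (hab.inv_inv).eq
    rw [mul_assoc, ← mul_assoc a⁻¹, h1, mul_assoc, inv_mul_cancel, mul_one, mul_inv_cancel]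
  · rw [hg, ← ha, ← Units.val_mul, mul_assoc, inv_mul_cancel, mul_one, hb]
  · rw [hg, ← ha, Ring.inverse_unit, Units.val_mul, hb]
    have : (1 : R) = (a : R) * ((a⁻¹ : Rˣ) : R) := by rw [Units.mul_inv]
    nth_rewrite 1 [this]
    rw [← add_mul, ha]
    congr 1
    rw [sub_add_add_cancel]
    exact one_add_one_eq_two

theorem cay'_spec (g : R) (h1 : star g * g = 1) (h2 : g * star g = 1) (hu : IsUnit (1 + g)) :
    star (cay' g) = -cay' g ∧ 1 - cay' g = Ring.inverse (1 + g) * 2 ∧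
      g * (1 - cay' g) = 1 + cay' g := by
  obtain ⟨z, hz⟩ := hu
  set G : Rˣ := ⟨g, star g, h2, h1⟩ with hG
  have hGv : (G : R) = g := rfl
  have hGi : ((G⁻¹ : Rˣ) : R) = star g := rfl
  have hzG : Commute z G := by
    apply Units.ext
    rw [Units.val_mul, Units.val_mul, hz, hGv]
    noncomm_ring
  have hsz : star z = G⁻¹ * z := by
    apply Units.ext
    rw [Units.coe_star, Units.val_mul, hz, hGi, star_add, star_one, mul_add, mul_one, h1, add_comm]
  have hinv : Ring.inverse (1 + g) = ((z⁻¹ : Rˣ) : R) := by rw [← hz, Ring.inverse_unit]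
  have hc : cay' g = ((z⁻¹ : Rˣ) : R) * (g - 1) := by
    unfold cay'
    rw [hinv]
  have hcomm : ((z⁻¹ : Rˣ) : R) * g = g * ((z⁻¹ : Rˣ) : R) := by
    have := (hzG.inv_left).eq
    have h3 := congrArg Units.val this
    rwa [Units.val_mul, Units.val_mul, hGv] at h3
  have hone : (1 : R) = ((z⁻¹ : Rˣ) : R) * (1 + g) := by rw [← hz, Units.inv_mul]
  refine ⟨?_, ?_, ?_⟩
  · rw [hc, star_mul, ← Units.coe_star, star_inv, hsz, _root_.mul_inv_rev, inv_inv, Units.val_mul, hGv,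
      star_sub, star_one, hcomm, ← mul_assoc, sub_mul, h1, one_mul, sub_mul, one_mul, ← hcomm,
      mul_sub, mul_one, neg_sub]
  · rw [hc]
    nth_rewrite 1 [hone]
    rw [← mul_sub, hinv]
    congr 1
    rw [add_comm 1 g, add_sub_sub_cancel]
    exact one_add_one_eq_two
  · rw [hc]
    nth_rewrite 1 [hone]
    nth_rewrite 3 [hone]
    rw [← mul_sub, ← mul_add, ← mul_assoc, ← hcomm, mul_assoc]
    congr 1
    noncomm_ring

omit [StarRing R] in
theorem commute_inverse {x Y : R} (hx : IsUnit x) (h : Commute x Y) :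
    Commute (Ring.inverse x) Y := by
  obtain ⟨a, rfl⟩ := hx
  rw [Ring.inverse_unit]
  exact h.units_inv_left

omit [StarRing R] in
theorem cay_commute {c Y : R} (hu : IsUnit (1 - c)) (h : Commute c Y) : Commute (cay c) Y := by
  unfold cay
  exact ((Commute.one_left Y).add_left h).mul_left
    (commute_inverse hu ((Commute.one_left Y).sub_left h))

omit [StarRing R] in
theorem cay'_commute {g Y : R} (hu : IsUnit (1 + g)) (h : Commute g Y) : Commute (cay' g) Y := by
  unfold cay'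
  exact (commute_inverse hu ((Commute.one_left Y).add_left h)).mul_left
    (h.sub_left (Commute.one_left Y))

theorem isUnit_one_add_cay (c : R) (hc : star c = -c) (hu : IsUnit (1 - c)) (h2 : IsUnit (2 : R)) :
    IsUnit (1 + cay c) := by
  rw [(cay_spec c hc hu).2.2.2]
  exact h2.mul hu.ringInverse

theorem isUnit_one_sub_cay' (g : R) (h1 : star g * g = 1) (h2 : g * star g = 1)
    (hu : IsUnit (1 + g)) (h2' : IsUnit (2 : R)) : IsUnit (1 - cay' g) := by
  rw [(cay'_spec g h1 h2 hu).2.1]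
  exact hu.ringInverse.mul h2'

theorem cay'_cay (c : R) (hc : star c = -c) (hu : IsUnit (1 - c)) (h2 : IsUnit (2 : R)) :
    cay' (cay c) = c := by
  have hs := (cay_spec c hc hu).2.2.1
  have hU := isUnit_one_add_cay c hc hu h2
  have h3 : cay c - 1 = (1 + cay c) * c := by
    rw [mul_sub, mul_one] at hs
    rw [add_mul, one_mul]
    have : cay c = 1 + c + cay c * c := by rw [← hs, sub_add_cancel]
    nth_rewrite 1 [this]
    abel
  unfold cay'
  rw [h3, ← mul_assoc, Ring.inverse_mul_cancel _ hU, one_mul]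

theorem cay_cay' (g : R) (h1 : star g * g = 1) (h2 : g * star g = 1)
    (hu : IsUnit (1 + g)) (h2' : IsUnit (2 : R)) : cay (cay' g) = g := by
  have hs := (cay'_spec g h1 h2 hu).2.2
  have hU := isUnit_one_sub_cay' g h1 h2 hu h2'
  unfold cay
  rw [← hs, mul_assoc, Ring.mul_inverse_cancel _ hU, mul_one]

end cayley

section adj

variable {F : Type*} [Field F] {l : Type*} [Fintype l] [DecidableEq l]

/-- adjoint with respect to the standard symplectic form -/
def adj (M : Matrix (l ⊕ l) (l ⊕ l) F) : Matrix (l ⊕ l) (l ⊕ l) F := -(J l F * Mᵀ * J l F)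

lemma adj_add (M N : Matrix (l ⊕ l) (l ⊕ l) F) : adj (M + N) = adj M + adj N := by
  unfold adj
  rw [transpose_add, Matrix.mul_add, Matrix.add_mul, neg_add]

lemma adj_smul (c : F) (M : Matrix (l ⊕ l) (l ⊕ l) F) : adj (c • M) = c • adj M := by
  unfold adj
  rw [transpose_smul, Matrix.mul_smul, Matrix.smul_mul, smul_neg]

lemma adj_neg (M : Matrix (l ⊕ l) (l ⊕ l) F) : adj (-M) = -adj M := by
  unfold adj
  rw [transpose_neg, Matrix.mul_neg, Matrix.neg_mul]

lemma adj_sub (M N : Matrix (l ⊕ l) (l ⊕ l) F) : adj (M - N) = adj M - adj N := by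
  rw [sub_eq_add_neg, adj_add, adj_neg, ← sub_eq_add_neg]

lemma adj_one : adj (1 : Matrix (l ⊕ l) (l ⊕ l) F) = 1 := by
  unfold adj
  rw [transpose_one, Matrix.mul_one, J_squared, neg_neg]

lemma adj_mul (M N : Matrix (l ⊕ l) (l ⊕ l) F) : adj (M * N) = adj N * adj M := by
  unfold adj
  rw [transpose_mul, Matrix.neg_mul, Matrix.mul_neg, neg_neg]
  have h : J l F * Nᵀ * J l F * (J l F * Mᵀ * J l F) = J l F * Nᵀ * (J l F * J l F) * Mᵀ * J l F := by
    simp only [Matrix.mul_assoc]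
  rw [h, J_squared, Matrix.mul_neg, Matrix.mul_one, Matrix.neg_mul, Matrix.neg_mul]
  simp only [Matrix.mul_assoc]

lemma adj_adj (M : Matrix (l ⊕ l) (l ⊕ l) F) : adj (adj M) = M := by
  unfold adj
  rw [transpose_neg, transpose_mul, transpose_mul, transpose_transpose, J_transpose]
  simp only [Matrix.mul_neg, Matrix.neg_mul, neg_neg]
  have h : J l F * (J l F * (M * J l F)) * J l F = (J l F * J l F) * M * (J l F * J l F) := by
    simp only [Matrix.mul_assoc]
  rw [h, J_squared]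
  simp

lemma adj_pow (M : Matrix (l ⊕ l) (l ⊕ l) F) (k : ℕ) : adj (M ^ k) = adj M ^ k := by
  induction k with
  | zero => rw [pow_zero, pow_zero, adj_one]
  | succ k ih => rw [pow_succ, adj_mul, ih, pow_succ']

lemma mem_symp_iff (M : Matrix (l ⊕ l) (l ⊕ l) F) : M ∈ symplecticGroup l F ↔ M * adj M = 1 := by
  rw [SymplecticGroup.mem_iff]
  unfold adj
  constructor
  · intro h
    rw [Matrix.mul_neg, ← Matrix.mul_assoc, ← Matrix.mul_assoc, h, J_squared, neg_neg]
  · intro h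
    rw [Matrix.mul_neg, ← Matrix.mul_assoc, ← Matrix.mul_assoc] at h
    have h2 := congrArg (fun X => X * J l F) h
    simp only [Matrix.neg_mul, Matrix.one_mul, Matrix.mul_assoc, J_squared, Matrix.mul_neg,
      Matrix.mul_one, neg_neg] at h2
    rw [← Matrix.mul_assoc] at h2
    exact h2

lemma mem_symp_iff' (M : Matrix (l ⊕ l) (l ⊕ l) F) : M ∈ symplecticGroup l F ↔ adj M * M = 1 := by
  rw [mem_symp_iff, mul_eq_one_comm]

lemma adj_symp (u : symplecticGroup l F) : adj u.1 = (u⁻¹).1 := by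
  rw [SymplecticGroup.coe_inv]
  unfold adj
  simp only [Matrix.neg_mul]

/-- the star ring structure given by `adj` -/
@[reducible] def starRingAdj : StarRing (Matrix (l ⊕ l) (l ⊕ l) F) where
  star := adj
  star_involutive := adj_adj
  star_mul := adj_mul
  star_add := adj_add

end adj

section regular

open Cfsg.Agent.Lib.Helper15.RegNil

variable {F : Type*} [Field F] {l : Type*} [Fintype l] [DecidableEq l]

/-- the skew element `u - u⁻¹` attached to a symplectic matrix -/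
def Ysk (u : symplecticGroup l F) : Matrix (l ⊕ l) (l ⊕ l) F := u.1 - (u⁻¹).1

lemma adj_Ysk (u : symplecticGroup l F) : adj (Ysk u) = -Ysk u := by
  unfold Ysk
  rw [adj_sub, adj_symp, adj_symp, inv_inv, neg_sub]

lemma u_mul_inv (u : symplecticGroup l F) : u.1 * (u⁻¹).1 = 1 := by
  have h := congrArg Subtype.val (mul_inv_cancel u)
  exact h

lemma inv_mul_u (u : symplecticGroup l F) : (u⁻¹).1 * u.1 = 1 := by
  have h := congrArg Subtype.val (inv_mul_cancel u)
  exact h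

lemma Ysk_eq (u : symplecticGroup l F) : Ysk u = (u.1 - 1) * ((u⁻¹).1 * (u.1 + 1)) := by
  unfold Ysk
  rw [← Matrix.mul_assoc, Matrix.sub_mul, u_mul_inv, Matrix.one_mul, Matrix.sub_mul, Matrix.mul_add,
    Matrix.mul_add, inv_mul_u, Matrix.mul_one, Matrix.one_mul, Matrix.mul_one]
  abel

lemma isUnit_two (h2 : (2 : F) ≠ 0) : IsUnit (2 : Matrix (l ⊕ l) (l ⊕ l) F) := by
  have : (2 : Matrix (l ⊕ l) (l ⊕ l) F) = algebraMap F _ 2 := by rw [map_ofNat]
  rw [this]
  exact (IsUnit.mk0 2 h2).map _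

lemma isUnit_Z (h2 : (2 : F) ≠ 0) (u : symplecticGroup l F) {n : ℕ} (hnil : (u.1 - 1) ^ n = 0) :
    IsUnit ((u⁻¹).1 * (u.1 + 1)) := by
  have h1 : IsUnit (u⁻¹).1 := ⟨⟨(u⁻¹).1, u.1, inv_mul_u u, u_mul_inv u⟩, rfl⟩
  have h3 : IsUnit (u.1 + 1) := by
    have : u.1 + 1 = 2 + (u.1 - 1) := by
      rw [← one_add_one_eq_two]
      abel
    rw [this]
    apply IsNilpotent.isUnit_add_left_of_commute ⟨n, hnil⟩ (isUnit_two h2)
    rw [← one_add_one_eq_two]
    exact ((Commute.one_right _).add_right (Commute.one_right _))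
  exact h1.mul h3

lemma commute_N_Z (u : symplecticGroup l F) : Commute (u.1 - 1) ((u⁻¹).1 * (u.1 + 1)) := by
  have h1 : Commute u.1 (u⁻¹).1 := by
    show u.1 * (u⁻¹).1 = (u⁻¹).1 * u.1
    rw [u_mul_inv, inv_mul_u]
  have h2 : Commute (u.1 - 1) (u⁻¹).1 := h1.sub_left (Commute.one_left _)
  have h3 : Commute (u.1 - 1) (u.1 + 1) :=
    ((Commute.refl u.1).sub_left (Commute.one_left _)).add_right (Commute.one_right _)
  exact h2.mul_right h3

lemma Ysk_pow (u : symplecticGroup l F) {n : ℕ} (hnil : (u.1 - 1) ^ n = 0) : Ysk u ^ n = 0 := by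
  rw [Ysk_eq, (commute_N_Z u).mul_pow, hnil, Matrix.zero_mul]

lemma Ysk_rank (h2 : (2 : F) ≠ 0) (u : symplecticGroup l F) {n : ℕ} (hnil : (u.1 - 1) ^ n = 0) :
    (Ysk u).rank = (u.1 - 1).rank := by
  rw [Ysk_eq]
  apply Matrix.rank_mul_eq_left_of_isUnit_det
  exact (Matrix.isUnit_iff_isUnit_det _).1 (isUnit_Z h2 u hnil)

lemma comm_Ysk_of_comm (u : symplecticGroup l F) (g : Matrix (l ⊕ l) (l ⊕ l) F)
    (h : g * u.1 = u.1 * g) : g * Ysk u = Ysk u * g := by
  have h' : g * (u⁻¹).1 = (u⁻¹).1 * g := by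
    have : (u⁻¹).1 * (g * u.1) * (u⁻¹).1 = (u⁻¹).1 * (u.1 * g) * (u⁻¹).1 := by rw [h]
    rw [Matrix.mul_assoc, Matrix.mul_assoc, u_mul_inv, Matrix.mul_one, ← Matrix.mul_assoc,
      inv_mul_u, Matrix.one_mul] at this
    exact this.symm
  unfold Ysk
  rw [Matrix.mul_sub, Matrix.sub_mul, h, h']

lemma comm_iff (u : symplecticGroup l F) {n : ℕ} (hn : Fintype.card (l ⊕ l) = n)
    (hnil : (u.1 - 1) ^ n = 0) (v : l ⊕ l → F) (hv : Ysk u ^ (n - 1) *ᵥ v ≠ 0)
    (g : Matrix (l ⊕ l) (l ⊕ l) F) : g * u.1 = u.1 * g ↔ g * Ysk u = Ysk u * g := by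
  refine ⟨comm_Ysk_of_comm u g, ?_⟩
  intro h
  obtain ⟨a, ha⟩ := eq_pol_of_comm hn (Ysk u) (Ysk_pow u hnil) v hv u.1 (comm_Ysk_of_comm u u.1 rfl)
  rw [ha]
  unfold pol
  rw [Finset.mul_sum, Finset.sum_mul]
  apply Finset.sum_congr rfl
  intro k _
  rw [Matrix.mul_smul, Matrix.smul_mul]
  congr 1
  exact (Commute.pow_right h _).eq

/-- the conjugate coefficient vector -/
def bar {n : ℕ} (a : Fin n → F) : Fin n → F := fun k => (-1) ^ (k : ℕ) * a k

lemma adj_sum {κ : Type*} (s : Finset κ) (f : κ → Matrix (l ⊕ l) (l ⊕ l) F) :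
    adj (∑ k ∈ s, f k) = ∑ k ∈ s, adj (f k) := by
  classical
  induction s using Finset.induction_on with
  | empty =>
    rw [Finset.sum_empty, Finset.sum_empty]
    unfold adj
    rw [transpose_zero, Matrix.mul_zero, Matrix.zero_mul, neg_zero]
  | insert x s hx ih => rw [Finset.sum_insert hx, Finset.sum_insert hx, adj_add, ih]

lemma adj_pol (Y : Matrix (l ⊕ l) (l ⊕ l) F) (hY : adj Y = -Y) (n : ℕ) (a : Fin n → F) :
    adj (pol n Y a) = pol n Y (bar a) := by
  unfold pol bar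
  rw [adj_sum]
  apply Finset.sum_congr rfl
  intro k _
  rw [adj_smul, adj_pow, hY, ← neg_one_smul F Y, smul_pow, smul_smul, mul_comm]

lemma bar_zero {n : ℕ} (hn1 : 0 < n) (a : Fin n → F) : bar a ⟨0, hn1⟩ = a ⟨0, hn1⟩ := by
  unfold bar
  rw [pow_zero, one_mul]

/-- the constant coefficient of a matrix commuting with `Y` and preserving the form is `±1` -/
lemma unitary_const {n : ℕ} (hn1 : 0 < n) (Y : Matrix (l ⊕ l) (l ⊕ l) F) (hY : adj Y = -Y)
    (hnil : Y ^ n = 0) (v : l ⊕ l → F) (hv : Y ^ (n - 1) *ᵥ v ≠ 0) (a : Fin n → F)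
    (h : adj (pol n Y a) * pol n Y a = 1) : a ⟨0, hn1⟩ = 1 ∨ a ⟨0, hn1⟩ = -1 := by
  have h1 : (adj (pol n Y a) * pol n Y a) *ᵥ (Y ^ (n - 1) *ᵥ v) = 1 *ᵥ (Y ^ (n - 1) *ᵥ v) := by
    rw [h]
  rw [← Matrix.mulVec_mulVec, pol_top hn1 Y hnil, Matrix.mulVec_smul, adj_pol Y hY,
    pol_top hn1 Y hnil, bar_zero, Matrix.one_mulVec, smul_smul] at h1
  have h2 : (a ⟨0, hn1⟩ * a ⟨0, hn1⟩ - 1) • (Y ^ (n - 1) *ᵥ v) = 0 := by
    rw [sub_smul, h1, one_smul, sub_self]
  rcases smul_eq_zero.1 h2 with h3 | h3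
  · have : (a ⟨0, hn1⟩ - 1) * (a ⟨0, hn1⟩ + 1) = 0 := by
      rw [← h3]
      ring
    rcases mul_eq_zero.1 this with h4 | h4
    · left
      exact sub_eq_zero.1 h4
    · right
      exact eq_neg_of_add_eq_zero_left h4
  · exact absurd h3 hv

lemma nonempty_of_ne {Y : Matrix (l ⊕ l) (l ⊕ l) F} {k : ℕ} {v : l ⊕ l → F}
    (hv : Y ^ k *ᵥ v ≠ 0) : Nonempty (l ⊕ l) := by
  by_contra hne
  rw [not_nonempty_iff] at hne
  exact hv (Subsingleton.elim _ _)

lemma one_add_pol {n : ℕ} (hn1 : 0 < n) (Y : Matrix (l ⊕ l) (l ⊕ l) F) (a : Fin n → F) :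
    1 + pol n Y a = pol n Y (Pi.single ⟨0, hn1⟩ 1 + a) := by
  rw [pol_add, pol_single]

lemma one_sub_pol {n : ℕ} (hn1 : 0 < n) (Y : Matrix (l ⊕ l) (l ⊕ l) F) (a : Fin n → F) :
    1 - pol n Y a = pol n Y (Pi.single ⟨0, hn1⟩ 1 - a) := by
  rw [pol_sub, pol_single]

/-- a form-preserving matrix commuting with `Y`: exactly one of `1 + g`, `1 - g` is invertible -/
lemma dich {n : ℕ} (hn1 : 0 < n) (hn : Fintype.card (l ⊕ l) = n) (h2 : (2 : F) ≠ 0)
    (Y : Matrix (l ⊕ l) (l ⊕ l) F) (hY : adj Y = -Y)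
    (hnil : Y ^ n = 0) (v : l ⊕ l → F) (hv : Y ^ (n - 1) *ᵥ v ≠ 0)
    (g : Matrix (l ⊕ l) (l ⊕ l) F) (hg : adj g * g = 1) (hgY : g * Y = Y * g) :
    (IsUnit (1 + g) ∧ ¬ IsUnit (1 - g)) ∨ (¬ IsUnit (1 + g) ∧ IsUnit (1 - g)) := by
  have := nonempty_of_ne hv
  obtain ⟨a, rfl⟩ := eq_pol_of_comm hn Y hnil v hv g hgY
  rcases unitary_const hn1 Y hY hnil v hv a hg with h | h
  · left
    constructor
    · rw [one_add_pol hn1]
      apply pol_isUnit hn1 Y hnil
      rw [Pi.add_apply, Pi.single_eq_same, h, one_add_one_eq_two]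
      exact h2
    · rw [one_sub_pol hn1]
      apply IsNilpotent.not_isUnit
      apply pol_isNilpotent hn1 Y hnil
      rw [Pi.sub_apply, Pi.single_eq_same, h, sub_self]
  · right
    constructor
    · rw [one_add_pol hn1]
      apply IsNilpotent.not_isUnit
      apply pol_isNilpotent hn1 Y hnil
      rw [Pi.add_apply, Pi.single_eq_same, h, add_neg_cancel]
    · rw [one_sub_pol hn1]
      apply pol_isUnit hn1 Y hnil
      rw [Pi.sub_apply, Pi.single_eq_same, h, sub_neg_eq_add, one_add_one_eq_two]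
      exact h2

lemma skew_iff {n : ℕ} (h2 : (2 : F) ≠ 0)
    (Y : Matrix (l ⊕ l) (l ⊕ l) F) (hY : adj Y = -Y)
    (hnil : Y ^ n = 0) (v : l ⊕ l → F) (hv : Y ^ (n - 1) *ᵥ v ≠ 0) (a : Fin n → F) :
    adj (pol n Y a) = -pol n Y a ↔ ∀ k : Fin n, Even (k : ℕ) → a k = 0 := by
  rw [adj_pol Y hY, ← pol_neg]
  constructor
  · intro h k hk
    have h1 := congrFun (pol_injective Y hnil v hv h) k
    unfold bar at h1
    rw [hk.neg_one_pow, one_mul, Pi.neg_apply] at h1
    have : (2 : F) * a k = 0 := by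
      rw [two_mul]
      nth_rewrite 1 [h1]
      exact neg_add_cancel _
    rcases mul_eq_zero.1 this with h3 | h3
    · exact absurd h3 h2
    · exact h3
  · intro h
    congr 1
    funext k
    unfold bar
    rcases Nat.even_or_odd (k : ℕ) with hk | hk
    · rw [h k hk, mul_zero, Pi.neg_apply, h k hk, neg_zero]
    · rw [hk.neg_one_pow, neg_one_mul, Pi.neg_apply]

lemma skew_isUnit {n : ℕ} (hn1 : 0 < n) (hn : Fintype.card (l ⊕ l) = n) (h2 : (2 : F) ≠ 0)
    (Y : Matrix (l ⊕ l) (l ⊕ l) F) (hY : adj Y = -Y)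
    (hnil : Y ^ n = 0) (v : l ⊕ l → F) (hv : Y ^ (n - 1) *ᵥ v ≠ 0)
    (c : Matrix (l ⊕ l) (l ⊕ l) F) (hc : adj c = -c) (hcY : c * Y = Y * c) : IsUnit (1 - c) := by
  obtain ⟨a, rfl⟩ := eq_pol_of_comm hn Y hnil v hv c hcY
  apply IsNilpotent.isUnit_one_sub
  apply pol_isNilpotent hn1 Y hnil
  exact (skew_iff h2 Y hY hnil v hv a).1 hc ⟨0, hn1⟩ ⟨0, rfl⟩

end regular

section count

open Cfsg.Agent.Lib.Helper15.RegNil

variable {F : Type*} [Field F] {l : Type*} [Fintype l] [DecidableEq l]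

theorem card_plus {n : ℕ} (hn1 : 0 < n) (hn : Fintype.card (l ⊕ l) = n) (h2 : (2 : F) ≠ 0)
    (Y : Matrix (l ⊕ l) (l ⊕ l) F) (hY : adj Y = -Y)
    (hnil : Y ^ n = 0) (v : l ⊕ l → F) (hv : Y ^ (n - 1) *ᵥ v ≠ 0) :
    Nat.card {g : Matrix (l ⊕ l) (l ⊕ l) F // adj g * g = 1 ∧ g * Y = Y * g ∧ IsUnit (1 + g)} =
      Nat.card {c : Matrix (l ⊕ l) (l ⊕ l) F // adj c = -c ∧ c * Y = Y * c} := by
  let _ : StarRing (Matrix (l ⊕ l) (l ⊕ l) F) := starRingAdj
  have h2u := isUnit_two (l := l) h2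
  have hK : ∀ c : {c : Matrix (l ⊕ l) (l ⊕ l) F // adj c = -c ∧ c * Y = Y * c},
      IsUnit (1 - c.1) := fun c => skew_isUnit hn1 hn h2 Y hY hnil v hv c.1 c.2.1 c.2.2
  apply Nat.card_congr
  refine
    { toFun := fun g => ⟨cay' g.1, ?_, ?_⟩
      invFun := fun c => ⟨cay c.1, ?_, ?_, ?_⟩
      left_inv := ?_
      right_inv := ?_ }
  · exact (cay'_spec g.1 g.2.1 (mul_eq_one_comm.1 g.2.1) g.2.2.2).1
  · exact (cay'_commute g.2.2.2 g.2.2.1).eq
  · exact (cay_spec c.1 c.2.1 (hK c)).1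
  · exact (cay_commute (hK c) c.2.2).eq
  · exact isUnit_one_add_cay c.1 c.2.1 (hK c) h2u
  · intro g
    apply Subtype.ext
    exact cay_cay' g.1 g.2.1 (mul_eq_one_comm.1 g.2.1) g.2.2.2 h2u
  · intro c
    apply Subtype.ext
    exact cay'_cay c.1 c.2.1 (hK c) h2u

theorem card_skew {n : ℕ} (hn : Fintype.card (l ⊕ l) = n) (h2 : (2 : F) ≠ 0)
    (Y : Matrix (l ⊕ l) (l ⊕ l) F) (hY : adj Y = -Y)
    (hnil : Y ^ n = 0) (v : l ⊕ l → F) (hv : Y ^ (n - 1) *ᵥ v ≠ 0) :
    Nat.card {c : Matrix (l ⊕ l) (l ⊕ l) F // adj c = -c ∧ c * Y = Y * c} =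
      Nat.card {a : Fin n → F // ∀ k : Fin n, Even (k : ℕ) → a k = 0} := by
  symm
  apply Nat.card_congr
  refine Equiv.ofBijective
    (fun a => ⟨pol n Y a.1, (skew_iff h2 Y hY hnil v hv a.1).2 a.2, pol_comm n Y a.1⟩) ⟨?_, ?_⟩
  · intro a b hab
    apply Subtype.ext
    exact pol_injective Y hnil v hv (congrArg Subtype.val hab)
  · intro c
    obtain ⟨a, ha⟩ := eq_pol_of_comm hn Y hnil v hv c.1 c.2.2
    refine ⟨⟨a, ?_⟩, ?_⟩
    · apply (skew_iff h2 Y hY hnil v hv a).1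
      rw [← ha]
      exact c.2.1
    · apply Subtype.ext
      exact ha.symm

theorem card_even_zero [Finite F] (m : ℕ) :
    Nat.card {a : Fin (2 * m) → F // ∀ k : Fin (2 * m), Even (k : ℕ) → a k = 0} =
      Nat.card F ^ m := by
  have e : {a : Fin (2 * m) → F // ∀ k : Fin (2 * m), Even (k : ℕ) → a k = 0} ≃ (Fin m → F) :=
    { toFun := fun a j => a.1 ⟨2 * (j : ℕ) + 1, by have := j.2; omega⟩
      invFun := fun b => ⟨fun k => if h : Odd (k : ℕ) then b ⟨(k : ℕ) / 2, by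
          have := k.2
          omega⟩ else 0, by
        intro k hk
        exact dif_neg (Nat.not_odd_iff_even.2 hk)⟩
      left_inv := by
        intro a
        apply Subtype.ext
        funext k
        by_cases hk : Odd (k : ℕ)
        · simp only [dif_pos hk]
          have : (⟨2 * ((k : ℕ) / 2) + 1, by
              have := k.2
              obtain ⟨r, hr⟩ := hk
              omega⟩ : Fin (2 * m)) = k := by
            apply Fin.ext
            show 2 * ((k : ℕ) / 2) + 1 = k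
            obtain ⟨r, hr⟩ := hk
            omega
          rw [this]
        · simp only [dif_neg hk]
          exact (a.2 k (Nat.not_odd_iff_even.1 hk)).symm
      right_inv := by
        intro b
        funext j
        have hodd : Odd (2 * (j : ℕ) + 1) := ⟨j, rfl⟩
        simp only [dif_pos hodd]
        congr 1
        apply Fin.ext
        show (2 * (j : ℕ) + 1) / 2 = j
        omega }
  rw [Nat.card_congr e, Nat.card_fun, Nat.card_fin]

end count

end Cfsg.Agent.Lib.Helper15.RegUni
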