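import Mathlib
import Cfsg.Agent.Lib.Helper15.RegUni
import Cfsg.Agent.Lib.Helper15.RegConj

/-! Helper15 library: classes of regular unipotent elements of the symplectic group. -/

set_option autoImplicit false

namespace Cfsg.Agent.Lib.Helper15.RegCls

open Matrix Cfsg.Agent.Lib.Helper15.RegNil Cfsg.Agent.Lib.Helper15.RegUni

section explicit

variable {F : Type*} [Field F] (m : ℕ)

lemma adj_fromBlocks {l : Type*} [Fintype l] [DecidableEq l] (A B C D : Matrix l l F) :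
    adj (fromBlocks A B C D) = fromBlocks Dᵀ (-Bᵀ) (-Cᵀ) Aᵀ := by
  unfold adj J
  rw [fromBlocks_transpose, fromBlocks_multiply, fromBlocks_multiply, fromBlocks_neg]
  simp

/-- lower shift block -/
def Sblk : Matrix (Fin m) (Fin m) F := fun i j => if (i : ℕ) = (j : ℕ) + 1 then 1 else 0

/-- corner block -/
def Eblk : Matrix (Fin m) (Fin m) F :=
  fun i j => if (i : ℕ) + 1 = m ∧ (j : ℕ) + 1 = m then 1 else 0

/-- an explicit skew regular nilpotent matrix -/
def Y0 : Matrix (Fin m ⊕ Fin m) (Fin m ⊕ Fin m) F :=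
  fromBlocks (Sblk m) 0 (Eblk m) (-(Sblk m)ᵀ)

lemma Eblk_transpose : (Eblk m : Matrix (Fin m) (Fin m) F)ᵀ = Eblk m := by
  ext i j
  show Eblk m j i = Eblk m i j
  unfold Eblk
  simp only [and_comm]

lemma adj_Y0 : adj (Y0 m : Matrix (Fin m ⊕ Fin m) (Fin m ⊕ Fin m) F) = -Y0 m := by
  unfold Y0
  rw [adj_fromBlocks, fromBlocks_neg, Eblk_transpose, transpose_neg, transpose_transpose,
    transpose_zero, neg_neg]

/-- the chain of vectors -/
def chain (k : ℕ) : Fin m ⊕ Fin m → F :=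
  if h : k < m then Pi.single (Sum.inl ⟨k, h⟩) 1
  else if h' : k < 2 * m then (-1) ^ (k - m) • Pi.single (Sum.inr ⟨2 * m - 1 - k, by omega⟩) 1
  else 0

lemma Y0_chain (k : ℕ) : (Y0 m : Matrix _ _ F) *ᵥ chain m k = chain m (k + 1) := by
  unfold chain
  by_cases h : k < m
  · rw [dif_pos h, mulVec_single_one]
    by_cases h1 : k + 1 < m
    · rw [dif_pos h1]
      funext r
      rcases r with i | i
      · simp only [col_apply, Y0, fromBlocks_apply₁₁, Sblk, Pi.single_apply, Sum.inl.injEq,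
          Fin.ext_iff]
      · simp only [col_apply, Y0, fromBlocks_apply₂₁, Eblk, Pi.single_apply, reduceCtorEq,
          if_false]
        rw [if_neg]
        omega
    · rw [dif_neg h1, dif_pos (by omega)]
      have hk : k + 1 - m = 0 := by omega
      rw [hk, pow_zero, one_smul]
      funext r
      rcases r with i | i
      · simp only [col_apply, Y0, fromBlocks_apply₁₁, Sblk, Pi.single_apply, reduceCtorEq,
          if_false]
        rw [if_neg]
        have := i.2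
        omega
      · simp only [col_apply, Y0, fromBlocks_apply₂₁, Eblk, Pi.single_apply, Sum.inr.injEq,
          Fin.ext_iff]
        have := i.2
        congr 1
        apply propext
        constructor <;> intro _ <;> omega
  · rw [dif_neg h]
    by_cases h' : k < 2 * m
    · rw [dif_pos h', mulVec_smul, mulVec_single_one, dif_neg (by omega)]
      by_cases h1 : k + 1 < 2 * m
      · rw [dif_pos h1]
        have hk : k + 1 - m = (k - m) + 1 := by omega
        rw [hk, pow_succ, mul_smul]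
        congr 1
        funext r
        rcases r with i | i
        · simp only [col_apply, Y0, fromBlocks_apply₁₂, Pi.smul_apply, Pi.single_apply,
            reduceCtorEq, if_false, smul_zero, Matrix.zero_apply]
        · simp only [col_apply, Y0, fromBlocks_apply₂₂, Pi.smul_apply, Pi.single_apply,
            Sum.inr.injEq, Fin.ext_iff, Matrix.neg_apply, Matrix.transpose_apply, Sblk, smul_eq_mul]
          have := i.2
          by_cases hi : (i : ℕ) = 2 * m - 1 - (k + 1)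
          · rw [if_pos (by omega), if_pos hi]
            ring
          · rw [if_neg (by omega), if_neg hi]
            ring
      · rw [dif_neg h1]
        have hk : 2 * m - 1 - k = 0 := by omega
        funext r
        rcases r with i | i
        · simp only [col_apply, Y0, fromBlocks_apply₁₂, Pi.smul_apply, Pi.zero_apply, smul_zero,
            Matrix.zero_apply]
        · simp only [col_apply, Y0, fromBlocks_apply₂₂, Pi.smul_apply, Pi.zero_apply,
            Matrix.neg_apply, Matrix.transpose_apply, Sblk]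
          rw [if_neg (by omega), neg_zero, smul_zero]
    · rw [dif_neg h', dif_neg (by omega), dif_neg (by omega), mulVec_zero]

lemma Y0_pow_chain (j k : ℕ) : (Y0 m : Matrix _ _ F) ^ j *ᵥ chain m k = chain m (k + j) := by
  induction j generalizing k with
  | zero => rw [pow_zero, one_mulVec, add_zero]
  | succ j ih => rw [pow_succ, ← mulVec_mulVec, Y0_chain, ih, add_assoc, add_comm 1 j]

lemma chain_zero_of_le (k : ℕ) (hk : 2 * m ≤ k) : (chain m k : Fin m ⊕ Fin m → F) = 0 := by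
  unfold chain
  rw [dif_neg (by omega), dif_neg (by omega)]

lemma chain_top (hm : 1 ≤ m) : (chain m (2 * m - 1) : Fin m ⊕ Fin m → F) ≠ 0 := by
  intro h
  have h1 := congrFun h (Sum.inr ⟨0, by omega⟩)
  unfold chain at h1
  rw [dif_neg (by omega), dif_pos (by omega)] at h1
  have h2 : (⟨2 * m - 1 - (2 * m - 1), by omega⟩ : Fin m) = ⟨0, by omega⟩ := by
    apply Fin.ext
    show 2 * m - 1 - (2 * m - 1) = 0
    omega
  rw [h2, Pi.smul_apply, Pi.single_eq_same, Pi.zero_apply] at h1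
  have h3 : ((-1 : F)) ^ (2 * m - 1 - m) = 0 := by simpa using h1
  exact pow_ne_zero _ (neg_ne_zero.2 one_ne_zero) h3

lemma Y0_pow_single (b : Fin m ⊕ Fin m) :
    (Y0 m : Matrix _ _ F) ^ (2 * m) *ᵥ Pi.single b 1 = 0 := by
  rcases b with i | i
  · have h1 : (Pi.single (Sum.inl i) 1 : Fin m ⊕ Fin m → F) = chain m (i : ℕ) := by
      unfold chain
      rw [dif_pos i.2]
    rw [h1, Y0_pow_chain, chain_zero_of_le]
    omega
  · have hi := i.2
    have h1 : (chain m (2 * m - 1 - (i : ℕ)) : Fin m ⊕ Fin m → F) =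
        (-1) ^ (2 * m - 1 - (i : ℕ) - m) • Pi.single (Sum.inr i) 1 := by
      unfold chain
      rw [dif_neg (by omega), dif_pos (by omega)]
      congr 3
      apply Fin.ext
      show 2 * m - 1 - (2 * m - 1 - (i : ℕ)) = i
      omega
    have h2 : (Pi.single (Sum.inr i) 1 : Fin m ⊕ Fin m → F) =
        (-1) ^ (2 * m - 1 - (i : ℕ) - m) • chain m (2 * m - 1 - (i : ℕ)) := by
      rw [h1, smul_smul, ← mul_pow]
      simp
    rw [h2, mulVec_smul, Y0_pow_chain, chain_zero_of_le, smul_zero]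
    omega

lemma Y0_pow : (Y0 m : Matrix (Fin m ⊕ Fin m) (Fin m ⊕ Fin m) F) ^ (2 * m) = 0 := by
  ext r c
  have h := congrFun (Y0_pow_single (F := F) m c) r
  rw [mulVec_single_one] at h
  exact h

lemma Y0_cyclic (hm : 1 ≤ m) :
    (Y0 m : Matrix _ _ F) ^ (2 * m - 1) *ᵥ chain m 0 ≠ 0 := by
  rw [Y0_pow_chain, zero_add]
  exact chain_top m hm

end explicit

section general

variable {F : Type*} [Field F] {l : Type*} [Fintype l] [DecidableEq l]

lemma cay_mul (c : Matrix (l ⊕ l) (l ⊕ l) F) (hu : IsUnit (1 - c)) :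
    cay c * (1 - c) = 1 + c := by
  unfold cay
  rw [mul_assoc, Ring.inverse_mul_cancel _ hu, mul_one]

lemma cay_sub_one_mul (c : Matrix (l ⊕ l) (l ⊕ l) F) (hu : IsUnit (1 - c)) :
    (cay c - 1) * (1 - c) = c * ((2 : F) • (1 : Matrix (l ⊕ l) (l ⊕ l) F)) := by
  rw [sub_mul, cay_mul c hu, one_mul, Matrix.mul_smul, mul_one, two_smul]
  abel

lemma isUnit_two_smul (h2 : (2 : F) ≠ 0) : IsUnit ((2 : F) • (1 : Matrix (l ⊕ l) (l ⊕ l) F)) := by
  have : (2 : F) • (1 : Matrix (l ⊕ l) (l ⊕ l) F) = algebraMap F _ 2 := by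
    rw [Algebra.algebraMap_eq_smul_one]
  rw [this]
  exact (IsUnit.mk0 2 h2).map _

/-- the Cayley transform of a skew regular nilpotent matrix is a regular unipotent element -/
theorem cay_regular (h2 : (2 : F) ≠ 0) {n : ℕ} (c : Matrix (l ⊕ l) (l ⊕ l) F) (hc : adj c = -c)
    (hnil : c ^ n = 0) :
    cay c ∈ symplecticGroup l F ∧ (cay c - 1) ^ n = 0 ∧ (cay c - 1).rank = c.rank := by
  have hu : IsUnit (1 - c) := IsNilpotent.isUnit_one_sub ⟨n, hnil⟩
  refine ⟨?_, ?_, ?_⟩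
  · rw [mem_symp_iff']
    let _ : StarRing (Matrix (l ⊕ l) (l ⊕ l) F) := starRingAdj
    exact (cay_spec c hc hu).1
  · have hcomm : Commute (cay c - 1) (1 - c) := by
      have h1 : Commute c (1 - c) := (Commute.one_right c).sub_right (Commute.refl c)
      have h3 : Commute (cay c) (1 - c) := by
        unfold cay
        exact ((Commute.one_left _).add_left h1).mul_left
          (commute_inverse hu (Commute.refl _))
      exact h3.sub_left (Commute.one_left _)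
    have h4 : ((cay c - 1) * (1 - c)) ^ n = 0 := by
      rw [cay_sub_one_mul c hu, (Commute.smul_right (Commute.one_right c) _).mul_pow, hnil,
        zero_mul]
    rw [hcomm.mul_pow] at h4
    exact ((hu.pow n).mul_left_eq_zero).1 h4
  · have h5 := congrArg Matrix.rank (cay_sub_one_mul c hu)
    rw [Matrix.rank_mul_eq_left_of_isUnit_det _ _ ((Matrix.isUnit_iff_isUnit_det _).1 hu),
      Matrix.rank_mul_eq_left_of_isUnit_det _ _
        ((Matrix.isUnit_iff_isUnit_det _).1 (isUnit_two_smul h2))] at h5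
    exact h5

/-- the standard similitude with multiplier `ε` -/
def dsim (ε : F) : Matrix (l ⊕ l) (l ⊕ l) F := fromBlocks (ε • 1) 0 0 1

lemma adj_dsim_mul (ε : F) : adj (dsim ε : Matrix (l ⊕ l) (l ⊕ l) F) * dsim ε = ε • 1 := by
  unfold dsim
  rw [adj_fromBlocks, fromBlocks_multiply, ← fromBlocks_one, fromBlocks_smul]
  simp

lemma sim_inv (g : Matrix (l ⊕ l) (l ⊕ l) F) (lam : F) (hl : lam ≠ 0) (hg : adj g * g = lam • 1) :
    (lam⁻¹ • adj g) * g = 1 ∧ g * (lam⁻¹ • adj g) = 1 ∧ g * adj g = lam • 1 := by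
  have h1 : (lam⁻¹ • adj g) * g = 1 := by
    rw [Matrix.smul_mul, hg, smul_smul, inv_mul_cancel₀ hl, one_smul]
  have h2 : g * (lam⁻¹ • adj g) = 1 := mul_eq_one_comm.1 h1
  refine ⟨h1, h2, ?_⟩
  rw [Matrix.mul_smul] at h2
  have h3 := congrArg (fun M => lam • M) h2
  simp only [smul_smul, mul_inv_cancel₀ hl, one_smul] at h3
  exact h3

lemma sim_conj_mem (g : Matrix (l ⊕ l) (l ⊕ l) F) (lam : F) (hl : lam ≠ 0)
    (hg : adj g * g = lam • 1) (u : Matrix (l ⊕ l) (l ⊕ l) F) (hu : u ∈ symplecticGroup l F) :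
    g * u * (lam⁻¹ • adj g) ∈ symplecticGroup l F := by
  rw [mem_symp_iff']
  have hu' := (mem_symp_iff' u).1 hu
  have hg' := (sim_inv g lam hl hg).2.2
  have e1 : adj (g * u * (lam⁻¹ • adj g)) = lam⁻¹ • (g * (adj u * adj g)) := by
    rw [adj_mul, adj_mul, adj_smul, adj_adj, Matrix.smul_mul]
  have e2 : g * (adj u * adj g) * (g * u * adj g) = lam • (lam • (1 : Matrix (l ⊕ l) (l ⊕ l) F)) := by
    have : g * (adj u * adj g) * (g * u * adj g) = g * (adj u * ((adj g * g) * (u * adj g))) := by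
      simp only [Matrix.mul_assoc]
    rw [this, hg, Matrix.smul_mul, Matrix.one_mul, Matrix.mul_smul, Matrix.mul_smul,
      ← Matrix.mul_assoc (adj u), hu', Matrix.one_mul, hg']
  rw [e1]
  simp only [Matrix.smul_mul, Matrix.mul_smul, smul_smul]
  rw [e2, smul_smul, smul_smul]
  have : lam⁻¹ * lam⁻¹ * lam * lam = 1 := by
    field_simp
  rw [this, one_smul]

lemma sim_conj_sub_one (g : Matrix (l ⊕ l) (l ⊕ l) F) (lam : F) (hl : lam ≠ 0)
    (hg : adj g * g = lam • 1) (u : Matrix (l ⊕ l) (l ⊕ l) F) :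
    g * u * (lam⁻¹ • adj g) - 1 = g * (u - 1) * (lam⁻¹ • adj g) := by
  rw [Matrix.mul_sub, Matrix.sub_mul, Matrix.mul_one, (sim_inv g lam hl hg).2.1]

lemma sim_conj_regular (g : Matrix (l ⊕ l) (l ⊕ l) F) (lam : F) (hl : lam ≠ 0)
    (hg : adj g * g = lam • 1) (u : Matrix (l ⊕ l) (l ⊕ l) F) {n : ℕ} (hnil : (u - 1) ^ n = 0) :
    (g * u * (lam⁻¹ • adj g) - 1) ^ n = 0 ∧ (g * u * (lam⁻¹ • adj g) - 1).rank = (u - 1).rank := by
  have hi := sim_inv g lam hl hg
  have hgu : IsUnit g := ⟨⟨g, lam⁻¹ • adj g, hi.2.1, hi.1⟩, rfl⟩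
  have hgu' : IsUnit (lam⁻¹ • adj g) := ⟨⟨lam⁻¹ • adj g, g, hi.1, hi.2.1⟩, rfl⟩
  rw [sim_conj_sub_one g lam hl hg]
  constructor
  · have : ∀ k : ℕ, (g * (u - 1) * (lam⁻¹ • adj g)) ^ k = g * (u - 1) ^ k * (lam⁻¹ • adj g) := by
      intro k
      induction k with
      | zero => rw [pow_zero, pow_zero, Matrix.mul_one, hi.2.1]
      | succ k ih =>
        rw [pow_succ, ih, pow_succ]
        have : g * (u - 1) ^ k * (lam⁻¹ • adj g) * (g * (u - 1) * (lam⁻¹ • adj g)) =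
            g * (u - 1) ^ k * ((lam⁻¹ • adj g) * g) * (u - 1) * (lam⁻¹ • adj g) := by
          simp only [Matrix.mul_assoc]
        rw [this, hi.1, Matrix.mul_one]
        simp only [Matrix.mul_assoc]
    rw [this, hnil, Matrix.mul_zero, Matrix.zero_mul]
  · rw [Matrix.rank_mul_eq_left_of_isUnit_det _ _ ((Matrix.isUnit_iff_isUnit_det _).1 hgu'),
      Matrix.rank_mul_eq_right_of_isUnit_det _ _ ((Matrix.isUnit_iff_isUnit_det _).1 hgu)]

lemma sim_const {n : ℕ} (hn1 : 0 < n) (Y : Matrix (l ⊕ l) (l ⊕ l) F) (hY : adj Y = -Y)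
    (hnil : Y ^ n = 0) (v : l ⊕ l → F) (hv : Y ^ (n - 1) *ᵥ v ≠ 0) (a : Fin n → F) (lam : F)
    (h : adj (pol n Y a) * pol n Y a = lam • 1) : a ⟨0, hn1⟩ * a ⟨0, hn1⟩ = lam := by
  have h1 : (adj (pol n Y a) * pol n Y a) *ᵥ (Y ^ (n - 1) *ᵥ v) =
      (lam • (1 : Matrix (l ⊕ l) (l ⊕ l) F)) *ᵥ (Y ^ (n - 1) *ᵥ v) := by
    rw [h]
  rw [← Matrix.mulVec_mulVec, pol_top hn1 Y hnil, Matrix.mulVec_smul, adj_pol Y hY,
    pol_top hn1 Y hnil, bar_zero, Matrix.smul_mulVec, Matrix.one_mulVec, smul_smul] at h1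
  have h2 : (a ⟨0, hn1⟩ * a ⟨0, hn1⟩ - lam) • (Y ^ (n - 1) *ᵥ v) = 0 := by
    rw [sub_smul, h1, sub_self]
  rcases smul_eq_zero.1 h2 with h3 | h3
  · exact sub_eq_zero.1 h3
  · exact absurd h3 hv

lemma const_eq_of_top {n : ℕ} (hn1 : 0 < n) (Y : Matrix (l ⊕ l) (l ⊕ l) F)
    (hnil : Y ^ n = 0) (v : l ⊕ l → F) (hv : Y ^ (n - 1) *ᵥ v ≠ 0) (a : Fin n → F) (c : F)
    (h : pol n Y a *ᵥ (Y ^ (n - 1) *ᵥ v) = c • (Y ^ (n - 1) *ᵥ v)) : a ⟨0, hn1⟩ = c := by
  rw [pol_top hn1 Y hnil] at h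
  have h2 : (a ⟨0, hn1⟩ - c) • (Y ^ (n - 1) *ᵥ v) = 0 := by
    rw [sub_smul, h, sub_self]
  rcases smul_eq_zero.1 h2 with h3 | h3
  · exact sub_eq_zero.1 h3
  · exact absurd h3 hv

/-- square roots of symmetric unipotent elements of the centralizer -/
theorem exists_sqrt [Finite F] {n : ℕ} (hn1 : 0 < n) (hn : Fintype.card (l ⊕ l) = n)
    (h2 : (2 : F) ≠ 0) (Y : Matrix (l ⊕ l) (l ⊕ l) F)
    (hnil : Y ^ n = 0) (v : l ⊕ l → F) (hv : Y ^ (n - 1) *ᵥ v ≠ 0)
    (a : Matrix (l ⊕ l) (l ⊕ l) F) (haY : a * Y = Y * a) (hadj : adj a = a)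
    (hat : a *ᵥ (Y ^ (n - 1) *ᵥ v) = Y ^ (n - 1) *ᵥ v) :
    ∃ s : Matrix (l ⊕ l) (l ⊕ l) F, s * Y = Y * s ∧ adj s = s ∧
      s *ᵥ (Y ^ (n - 1) *ᵥ v) = Y ^ (n - 1) *ᵥ v ∧ s * s = a := by
  set H := {M : Matrix (l ⊕ l) (l ⊕ l) F // M * Y = Y * M ∧ adj M = M ∧
    M *ᵥ (Y ^ (n - 1) *ᵥ v) = Y ^ (n - 1) *ᵥ v} with hH
  have hfin : Finite H := Subtype.finite
  let sq : H → H := fun M => ⟨M.1 * M.1, by
    rw [Matrix.mul_assoc, M.2.1, ← Matrix.mul_assoc, M.2.1, Matrix.mul_assoc], by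
    rw [adj_mul, M.2.2.1], by
    rw [← Matrix.mulVec_mulVec, M.2.2.2, M.2.2.2]⟩
  have hinj : Function.Injective sq := by
    intro M M' hMM
    have hsq : M.1 * M.1 = M'.1 * M'.1 := congrArg Subtype.val hMM
    obtain ⟨a1, ha1⟩ := eq_pol_of_comm hn Y hnil v hv M.1 M.2.1
    obtain ⟨b1, hb1⟩ := eq_pol_of_comm hn Y hnil v hv M'.1 M'.2.1
    have hc : M.1 * M'.1 = M'.1 * M.1 := by rw [ha1, hb1, pol_mul_comm]
    have ha0 : a1 ⟨0, hn1⟩ = 1 := by
      apply const_eq_of_top hn1 Y hnil v hv a1 1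
      rw [← ha1, M.2.2.2, one_smul]
    have hb0 : b1 ⟨0, hn1⟩ = 1 := by
      apply const_eq_of_top hn1 Y hnil v hv b1 1
      rw [← hb1, M'.2.2.2, one_smul]
    have hu : IsUnit (M.1 + M'.1) := by
      rw [ha1, hb1, ← pol_add]
      apply pol_isUnit hn1 Y hnil
      rw [Pi.add_apply, ha0, hb0, one_add_one_eq_two]
      exact h2
    have hz : (M.1 - M'.1) * (M.1 + M'.1) = 0 := by
      rw [Matrix.sub_mul, Matrix.mul_add, Matrix.mul_add, hsq, hc]
      abel
    apply Subtype.ext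
    exact sub_eq_zero.1 ((hu.mul_left_eq_zero).1 hz)
  obtain ⟨s, hs⟩ := (Finite.injective_iff_surjective.1 hinj) ⟨a, haY, hadj, hat⟩
  exact ⟨s.1, s.2.1, s.2.2.1, s.2.2.2, congrArg Subtype.val hs⟩

/-- any two regular unipotent elements are conjugate under a similitude -/
theorem exists_sim_conj [Finite F] {n : ℕ} (hn1 : 0 < n) (hn : Fintype.card (l ⊕ l) = n)
    (h2 : (2 : F) ≠ 0) (u₀ u : symplecticGroup l F)
    (hnil₀ : (u₀.1 - 1) ^ n = 0) (hreg₀ : (u₀.1 - 1).rank = n - 1)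
    (hnil : (u.1 - 1) ^ n = 0) (hreg : (u.1 - 1).rank = n - 1) :
    ∃ (g : Matrix (l ⊕ l) (l ⊕ l) F) (lam : F), lam ≠ 0 ∧ adj g * g = lam • 1 ∧
      g * u₀.1 = u.1 * g := by
  obtain ⟨w₀, hw₀⟩ := exists_cyclic hn hn1 (u₀.1 - 1) hreg₀
  obtain ⟨w, hw⟩ := exists_cyclic hn hn1 (u.1 - 1) hreg
  obtain ⟨h, hhu, hh⟩ := exists_conj hn (u₀.1 - 1) (u.1 - 1) hnil₀ hnil w₀ w hw₀ hw
  have hh' : h * u₀.1 = u.1 * h := by
    rw [Matrix.mul_sub, Matrix.sub_mul, Matrix.mul_one, Matrix.one_mul] at hh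
    exact sub_left_injective hh
  have hY := adj_Ysk u₀
  have hYn : Ysk u₀ ^ n = 0 := Ysk_pow u₀ hnil₀
  have hYr : (Ysk u₀).rank = n - 1 := by rw [Ysk_rank h2 u₀ hnil₀, hreg₀]
  obtain ⟨v, hv⟩ := exists_cyclic hn hn1 (Ysk u₀) hYr
  have hne := nonempty_of_ne hv
  obtain ⟨⟨h, hinv, hhi, hih⟩, rfl⟩ := hhu
  simp only [] at hh'
  -- the symmetric element
  have ha_u : adj h * h * u₀.1 = u₀.1 * (adj h * h) := by
    have h3 : adj h * u.1 = u₀.1 * adj h := by
      have h4 := congrArg adj hh'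
      rw [adj_mul, adj_mul, adj_symp, adj_symp] at h4
      have h5 : u₀.1 * ((u₀⁻¹).1 * adj h) * u.1 = u₀.1 * (adj h * (u⁻¹).1) * u.1 := by rw [h4]
      rw [← Matrix.mul_assoc, u_mul_inv, Matrix.one_mul, Matrix.mul_assoc, Matrix.mul_assoc,
        inv_mul_u, Matrix.mul_one] at h5
      exact h5
    rw [Matrix.mul_assoc, hh', ← Matrix.mul_assoc, h3, Matrix.mul_assoc]
  have ha_Y := comm_Ysk_of_comm u₀ _ ha_u
  have ha_adj : adj (adj h * h) = adj h * h := by rw [adj_mul, adj_adj]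
  have ha_unit : IsUnit (adj h * h) := by
    have h6 : IsUnit (adj h) := by
      refine ⟨⟨adj h, adj hinv, ?_, ?_⟩, rfl⟩
      · rw [← adj_mul, hih, adj_one]
      · rw [← adj_mul, hhi, adj_one]
    exact h6.mul ⟨⟨h, hinv, hhi, hih⟩, rfl⟩
  obtain ⟨e, he⟩ := eq_pol_of_comm hn (Ysk u₀) hYn v hv _ ha_Y
  have he0 : e ⟨0, hn1⟩ ≠ 0 := by
    intro h0
    have := pol_isNilpotent hn1 (Ysk u₀) hYn e h0
    rw [← he] at this
    exact ha_unit.not_isNilpotent this
  have hatop : (adj h * h) *ᵥ (Ysk u₀ ^ (n - 1) *ᵥ v) =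
      e ⟨0, hn1⟩ • (Ysk u₀ ^ (n - 1) *ᵥ v) := by
    rw [he, pol_top hn1 (Ysk u₀) hYn]
  obtain ⟨s, hsY, hsadj, hst, hss⟩ := exists_sqrt hn1 hn h2 (Ysk u₀) hYn v hv
    ((e ⟨0, hn1⟩)⁻¹ • (adj h * h))
    (by rw [Matrix.smul_mul, Matrix.mul_smul, ha_Y])
    (by rw [adj_smul, ha_adj])
    (by rw [Matrix.smul_mulVec, hatop, smul_smul, inv_mul_cancel₀ he0, one_smul])
  have hsunit : IsUnit s := by
    obtain ⟨b, hb⟩ := eq_pol_of_comm hn (Ysk u₀) hYn v hv s hsY
    rw [hb]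
    apply pol_isUnit hn1 (Ysk u₀) hYn
    have : b ⟨0, hn1⟩ = 1 := by
      apply const_eq_of_top hn1 (Ysk u₀) hYn v hv b 1
      rw [← hb, hst, one_smul]
    rw [this]
    exact one_ne_zero
  obtain ⟨⟨s, si, hssi, hsis⟩, rfl⟩ := hsunit
  simp only [] at hsY hsadj hst hss
  have hsu : s * u₀.1 = u₀.1 * s := (comm_iff u₀ hn hnil₀ v hv s).2 hsY
  have hsiu : si * u₀.1 = u₀.1 * si := by
    have : si * (s * u₀.1) * si = si * (u₀.1 * s) * si := by rw [hsu]
    rw [← Matrix.mul_assoc, hsis, Matrix.one_mul, Matrix.mul_assoc, Matrix.mul_assoc, hssi,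
      Matrix.mul_one] at this
    exact this.symm
  have hsiadj : adj si = si := by
    have h7 : adj si * s = 1 := by
      rw [← hsadj, ← adj_mul, hssi, adj_one]
    calc adj si = adj si * (s * si) := by rw [hssi, Matrix.mul_one]
      _ = si := by rw [← Matrix.mul_assoc, h7, Matrix.one_mul]
  have hass : adj h * h = e ⟨0, hn1⟩ • (s * s) := by
    rw [hss, smul_smul, mul_inv_cancel₀ he0, one_smul]
  refine ⟨h * si, e ⟨0, hn1⟩, he0, ?_, ?_⟩
  · rw [adj_mul, hsiadj]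
    have : si * adj h * (h * si) = si * ((adj h * h) * si) := by simp only [Matrix.mul_assoc]
    rw [this, hass, Matrix.smul_mul, Matrix.mul_smul, Matrix.mul_assoc, hssi, Matrix.mul_one,
      hsis]
  · rw [Matrix.mul_assoc, hsiu, ← Matrix.mul_assoc, hh', Matrix.mul_assoc]

end general

end Cfsg.Agent.Lib.Helper15.RegCls
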