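import Mathlib

set_option autoImplicit false

namespace Cfsg.Agent.Lib.Helper15.RotCount

variable (n r : ℕ) [NeZero r]

/-- multiplicity tuples summing to `n` with all entries below `n` -/
def Tup : Type := {a : ZMod r → ℕ // ∑ j, a j = n ∧ ∀ j, a j < n}

noncomputable instance : Fintype (Tup n r) := by
  classical
  have : Finite (Tup n r) := by
    have hinj : Function.Injective (fun a : Tup n r => (fun j => (⟨a.1 j, (a.2.2 j)⟩ : Fin n))) := by
      intro a b h
      apply Subtype.ext
      funext j
      have := congrFun h j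
      exact congrArg Fin.val this
    exact Finite.of_injective _ hinj
  exact Fintype.ofFinite _

variable {n r}

lemma sum_shift (a : ZMod r → ℕ) (k : ZMod r) : ∑ j, a (j + k) = ∑ j, a j :=
  Fintype.sum_equiv (Equiv.addRight k) _ _ (fun _ => rfl)

instance : MulAction (Multiplicative (ZMod r)) (Tup n r) where
  smul k a := ⟨fun j => a.1 (j + Multiplicative.toAdd k),
    by rw [sum_shift]; exact a.2.1, fun j => a.2.2 _⟩
  one_smul a := by
    apply Subtype.ext
    funext j
    show a.1 (j + Multiplicative.toAdd 1) = a.1 j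
    rw [toAdd_one, add_zero]
  mul_smul k l a := by
    apply Subtype.ext
    funext j
    show a.1 (j + Multiplicative.toAdd (k * l)) = a.1 (j + Multiplicative.toAdd k + Multiplicative.toAdd l)
    rw [toAdd_mul, add_assoc]

lemma smul_apply (k : Multiplicative (ZMod r)) (a : Tup n r) (j : ZMod r) :
    (k • a).1 j = a.1 (j + Multiplicative.toAdd k) := rfl

/-- all tuples summing to `n` -/
abbrev Tup' (n r : ℕ) [NeZero r] : Type := {a : ZMod r → ℕ // ∑ j, a j = n}

instance : Finite (Tup' n r) := Finite.of_equiv _ (Sym.equivNatSumOfFintype (ZMod r) n)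

lemma card_tup' : Nat.card (Tup' n r) = (n + r - 1).choose (r - 1) := by
  classical
  rw [← Nat.card_congr (Sym.equivNatSumOfFintype (ZMod r) n), Nat.card_eq_fintype_card,
    Sym.card_sym_eq_choose, ZMod.card]
  have hr : 1 ≤ r := NeZero.pos r
  rw [add_comm r n]
  exact Nat.choose_symm_of_eq_add (by omega)

lemma eq_single_of_le (a : Tup' n r) (j : ZMod r) (hj : n ≤ a.1 j) : a.1 = Pi.single j n := by
  classical
  have h1 := Finset.add_sum_erase Finset.univ a.1 (Finset.mem_univ j)
  rw [a.2] at h1
  have h2 : ∑ x ∈ Finset.univ.erase j, a.1 x = 0 := by omega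
  have h3 : a.1 j = n := by omega
  rw [Finset.sum_eq_zero_iff] at h2
  funext k
  by_cases hk : k = j
  · subst hk
    rw [Pi.single_eq_same, h3]
  · rw [Pi.single_eq_of_ne hk]
    exact h2 k (Finset.mem_erase.2 ⟨hk, Finset.mem_univ _⟩)

lemma card_bad (hn : 1 ≤ n) : Nat.card {a : Tup' n r // ¬ ∀ j, a.1 j < n} = r := by
  classical
  have e : ZMod r ≃ {a : Tup' n r // ¬ ∀ j, a.1 j < n} := by
    refine Equiv.ofBijective (fun j => ⟨⟨Pi.single j n, ?_⟩, ?_⟩) ⟨?_, ?_⟩
    · rw [Finset.sum_pi_single']
      simp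
    · intro h
      have := h j
      simp at this
    · intro j k h
      have h1 : (Pi.single j n : ZMod r → ℕ) = Pi.single k n := congrArg (fun a => a.1.1) h
      by_contra hjk
      have h2 := congrFun h1 j
      rw [Pi.single_eq_same, Pi.single_eq_of_ne hjk] at h2
      omega
    · rintro ⟨a, ha⟩
      push Not at ha
      obtain ⟨j, hj⟩ := ha
      refine ⟨j, ?_⟩
      apply Subtype.ext
      apply Subtype.ext
      exact (eq_single_of_le a j hj).symm
  rw [← Nat.card_congr e, Nat.card_eq_fintype_card, ZMod.card]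

lemma card_tup (hn : 1 ≤ n) : Nat.card (Tup n r) + r = (n + r - 1).choose (r - 1) := by
  classical
  rw [← card_tup', ← Nat.card_congr (Equiv.sumCompl (fun a : Tup' n r => ∀ j, a.1 j < n)),
    Nat.card_sum, card_bad hn]
  congr 1
  apply Nat.card_congr
  exact
    { toFun := fun a => ⟨⟨a.1, a.2.1⟩, a.2.2⟩
      invFun := fun a => ⟨a.1.1, a.1.2, a.2⟩
      left_inv := fun a => rfl
      right_inv := fun a => rfl }

section burnside

variable [Fact r.Prime]

lemma const_of_fixed (k : Multiplicative (ZMod r)) (hk : k ≠ 1) (a : Tup n r) (h : k • a = a) :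
    ∀ j, a.1 j = a.1 0 := by
  set κ : ZMod r := Multiplicative.toAdd k with hκ
  have hκ0 : κ ≠ 0 := by
    intro h0
    apply hk
    rw [← ofAdd_toAdd k, ← hκ, h0, ofAdd_zero]
  have h1 : ∀ j, a.1 (j + κ) = a.1 j := by
    intro j
    have := congrFun (congrArg Subtype.val h) j
    rwa [smul_apply] at this
  have h2 : ∀ m : ℕ, ∀ j, a.1 (j + m • κ) = a.1 j := by
    intro m
    induction m with
    | zero => intro j; rw [zero_smul, add_zero]
    | succ m ih =>
      intro j
      rw [succ_nsmul, ← add_assoc, h1, ih]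
  intro j
  have h3 := h2 (j * κ⁻¹).val 0
  rw [zero_add, nsmul_eq_mul, ZMod.natCast_zmod_val, mul_assoc, inv_mul_cancel₀ hκ0, mul_one] at h3
  exact h3

lemma sum_const_tup (a : Tup n r) (h : ∀ j, a.1 j = a.1 0) : r * a.1 0 = n := by
  have h1 := a.2.1
  rw [Finset.sum_congr rfl (fun j _ => h j), Finset.sum_const, Finset.card_univ, ZMod.card,
    smul_eq_mul] at h1
  exact h1

/-- the constant tuple -/
def constTup (c : ℕ) (hc : n = r * c) (hlt : c < n) : Tup n r :=
  ⟨fun _ => c, by rw [Finset.sum_const, Finset.card_univ, ZMod.card, smul_eq_mul, hc],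
    fun _ => hlt⟩

lemma card_fixedBy (hn : 1 ≤ n) (k : Multiplicative (ZMod r)) (hk : k ≠ 1)
    [Fintype (MulAction.fixedBy (Tup n r) k)] :
    Fintype.card (MulAction.fixedBy (Tup n r) k) = if r ∣ n then 1 else 0 := by
  have hr2 : 2 ≤ r := (Fact.out : r.Prime).two_le
  by_cases hrn : r ∣ n
  · rw [if_pos hrn, Fintype.card_eq_one_iff]
    obtain ⟨c, hc⟩ := hrn
    have hc1 : 1 ≤ c := by
      rcases Nat.eq_zero_or_pos c with h | h
      · subst h; omega
      · exact h
    have hlt : c < n := by
      rw [hc]; nlinarith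
    refine ⟨⟨constTup c hc hlt, ?_⟩, ?_⟩
    · rw [MulAction.mem_fixedBy]
      apply Subtype.ext
      funext j
      rfl
    · rintro ⟨a, ha⟩
      rw [MulAction.mem_fixedBy] at ha
      apply Subtype.ext
      apply Subtype.ext
      funext j
      have h1 := const_of_fixed k hk a ha
      have h2 := sum_const_tup a h1
      show a.1 j = c
      rw [h1 j]
      have h3 : r * a.1 0 = r * c := h2.trans hc
      exact Nat.eq_of_mul_eq_mul_left (by omega) h3
  · rw [if_neg hrn, Fintype.card_eq_zero_iff]
    constructor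
    rintro ⟨a, ha⟩
    rw [MulAction.mem_fixedBy] at ha
    have h1 := const_of_fixed k hk a ha
    exact hrn ⟨_, (sum_const_tup a h1).symm⟩

theorem card_orbits (hn : 1 ≤ n) :
    Nat.card (Quotient (MulAction.orbitRel (Multiplicative (ZMod r)) (Tup n r))) * r + r =
      (n + r - 1).choose (r - 1) + (r - 1) * (if r ∣ n then 1 else 0) := by
  classical
  have hr2 : 2 ≤ r := (Fact.out : r.Prime).two_le
  have hB := MulAction.sum_card_fixedBy_eq_card_orbits_mul_card_group (Multiplicative (ZMod r))
    (Tup n r)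
  rw [Nat.card_eq_fintype_card, ← card_tup hn, Nat.card_eq_fintype_card]
  have hM : Fintype.card (Multiplicative (ZMod r)) = r := by
    rw [Fintype.card_multiplicative, ZMod.card]
  rw [hM] at hB
  rw [← hB, ← Finset.add_sum_erase Finset.univ _ (Finset.mem_univ (1 : Multiplicative (ZMod r)))]
  have h1 : Fintype.card (MulAction.fixedBy (Tup n r) (1 : Multiplicative (ZMod r))) =
      Fintype.card (Tup n r) := by
    apply Fintype.card_congr
    exact
      { toFun := fun a => a.1
        invFun := fun a => ⟨a, by rw [MulAction.mem_fixedBy, one_smul]⟩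
        left_inv := fun a => rfl
        right_inv := fun a => rfl }
  have h2 : ∑ k ∈ Finset.univ.erase (1 : Multiplicative (ZMod r)),
      Fintype.card (MulAction.fixedBy (Tup n r) k) =
      (r - 1) * (if r ∣ n then 1 else 0) := by
    rw [Finset.sum_congr rfl (fun k hk => card_fixedBy hn k (Finset.ne_of_mem_erase hk)),
      Finset.sum_const, Finset.card_erase_of_mem (Finset.mem_univ _), Finset.card_univ, hM,
      smul_eq_mul]
  rw [h1, h2]
  ring

lemma orbits_pos (hn : 1 ≤ n) (hrn : r ∣ n) :
    0 < Nat.card (Quotient (MulAction.orbitRel (Multiplicative (ZMod r)) (Tup n r))) := by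
  have hr2 : 2 ≤ r := (Fact.out : r.Prime).two_le
  obtain ⟨c, hc⟩ := hrn
  have hc1 : 1 ≤ c := by
    rcases Nat.eq_zero_or_pos c with h | h
    · subst h; omega
    · exact h
  have hlt : c < n := by
    rw [hc]; nlinarith
  exact Nat.card_pos_iff.2 ⟨⟨Quotient.mk'' (constTup c hc hlt)⟩, inferInstance⟩

/-- the final arithmetic -/
theorem count_formula (hn : 1 ≤ n) :
    Nat.card (Quotient (MulAction.orbitRel (Multiplicative (ZMod r)) (Tup n r))) +
      (if r ∣ n then r - 1 else 0) =
    ((n + r - 1).choose (r - 1) - r - (if r ∣ n then 1 else 0)) / r +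
      r * (if r ∣ n then 1 else 0) := by
  have hr2 : 2 ≤ r := (Fact.out : r.Prime).two_le
  have h1 := card_orbits (n := n) (r := r) hn
  set N := Nat.card (Quotient (MulAction.orbitRel (Multiplicative (ZMod r)) (Tup n r))) with hN
  set C := (n + r - 1).choose (r - 1) with hC
  by_cases hrn : r ∣ n
  · have hpos := orbits_pos (r := r) hn hrn
    rw [if_pos hrn] at h1 ⊢
    rw [if_pos hrn]
    obtain ⟨N', hN'⟩ : ∃ N', N = N' + 1 := ⟨N - 1, by omega⟩
    rw [hN'] at h1 ⊢
    have h3 : (N' + 1) * r = N' * r + r := by ring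
    have h2 : C - r - 1 = N' * r := by omega
    rw [h2, Nat.mul_div_cancel _ (by omega)]
    omega
  · rw [if_neg hrn] at h1 ⊢
    rw [if_neg hrn]
    have h2 : C - r - 0 = N * r := by omega
    rw [h2, Nat.mul_div_cancel _ (by omega)]
    omega

end burnside

end Cfsg.Agent.Lib.Helper15.RotCount
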