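import Cfsg.Agent.Lib.Helper15.RuOTable
import Cfsg.Agent.Lib.Helper3.TCX.RuPTable
import Cfsg.Agent.Lib.Helper3.TCX.RuPBSTable
set_option autoImplicit false
set_option maxRecDepth 100000
set_option maxHeartbeats 0

/-!
Checks of the table of the Rudvalis group on 4060 points: the letters are permutations, the first
five agree with the letters of the coset tables of the presentation, the other letters are given by
their defining words.
-/

namespace Cfsg.Agent.Lib.Helper15.RuO
open Cfsg.Agent.Lib.Helper28.TC2Upper Cfsg.Agent.Lib.Helper28.TC2Lower Cfsg.Agent.Lib.Helper28.TC2Range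
open Cfsg.Agent.Lib.Helper28.TC2Bsgs

theorem hinvX : XT.invOK = true := by decide +kernel

theorem prmX : Table.permRange XT 0 4060 = true := by decide +kernel

theorem agreeB : agreeRange Cfsg.Agent.Lib.Helper3.TCX.RuPTable.table XT 5 0 4060 = true := by
  decide +kernel

theorem agreeBS : agreeRange Cfsg.Agent.Lib.Helper3.TCX.RuPBSTable.btable XT 5 0 4060 = true := by
  decide +kernel

theorem hdefsLt : defsLt 5 80 defsX = true := by decide +kernel

/-- all the derived letters act as their defining words -/
noncomputable def defAll (lo cnt : ℕ) : Bool :=
  allLoop (fun i => defRange XT defsX (Nat.add 5 i) lo cnt) 75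

theorem hdefAll : defAll 0 4060 = true := by decide +kernel

end Cfsg.Agent.Lib.Helper15.RuO
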