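import Cfsg.Agent.Lib.Helper3.TCX.RuPSimple
import Cfsg.Agent.Lib.Helper15.RuOChk0
import Cfsg.Agent.Lib.Helper10.OutGen

set_option autoImplicit false
set_option maxRecDepth 100000

/-!
The Rudvalis group as a group of permutations of 4060 points: words in 80 letters, their evaluation
on points, equality of elements by the images of four base points, the isomorphism with the presented
group (the presentation on five involutions).  Adapted from the files of the Rudvalis group.
-/

namespace Cfsg.Agent.Lib.Helper15.RuO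
open Cfsg.Agent.Lib.Helper28.TC2Upper Cfsg.Agent.Lib.Helper28.TC2Lower Cfsg.Agent.Lib.Helper28.TC2Range
open Cfsg.Agent.Lib.Helper28.TC2Bsgs Cfsg.Agent.Lib.Helper28.TC2Simple Cfsg.Agent.Lib.Helper28.TC2Glue
open Cfsg.Agent.Lib.Helper3.TCX

noncomputable section

/-! ### the tables -/

theorem hpermX : ∀ p, p < XT.n → Table.permRow XT p = true := by
  intro p hp
  have hp' : p < 4060 := hp
  exact (Table.permRange_iff XT 0 4060).mp prmX p (by omega) (by omega)

theorem hXT : XT.OK := Table.ok_of_rows XT hinvX hpermX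

/-- the permutation of a letter -/
def σ (l : ℕ) : Equiv.Perm (Fin XT.n) := Table.sigma hXT l

/-- the Rudvalis group on 4060 points -/
def G : Subgroup (Equiv.Perm (Fin XT.n)) := baseGroup hXT 5

theorem hdefX : ∀ e, 5 ≤ e → e < XT.k → ∀ p, p < XT.n → XT.walkT (defsX.look e) p = XT.tau e p := by
  intro e he hk p hp
  have hk' : e < 80 := hk
  have hp' : p < 4060 := hp
  have h := hdefAll
  unfold defAll at h
  rw [allLoop_eq_true] at h
  have h1 := h (e - 5) (by omega)
  have e7 : Nat.add 5 (e - 5) = e := by simp only [Nat.add_eq]; omega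
  rw [e7, defRange_iff] at h1
  exact h1 p (by omega) (by omega)

theorem σ_mem (l : ℕ) (hl : l < 80) : σ l ∈ G :=
  sigma_mem_baseGroup hXT 5 defsX hdefsLt hdefX l hl

/-! ### words -/

/-- letters out of range are read as the first letter -/
def nl (l : ℕ) : ℕ := cond (Nat.blt l 80) l 0

theorem nl_lt (l : ℕ) : nl l < 80 := by
  unfold nl
  cases h : Nat.blt l 80
  · exact (by norm_num : (0 : ℕ) < 80)
  · simpa [Nat.blt] using h

theorem nl_of_lt {l : ℕ} (h : l < 80) : nl l = l := by
  unfold nl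
  have : Nat.blt l 80 = true := by simpa [Nat.blt] using h
  rw [this]
  rfl

/-- the letters of a word, read in range -/
def nw (w : List ℕ) : List ℕ := w.map nl

theorem nw_lt (w : List ℕ) : ∀ l ∈ nw w, l < XT.k := by
  intro l hl
  obtain ⟨l', -, rfl⟩ := List.mem_map.mp hl
  exact nl_lt l'

/-- the permutation of a word: the letters are applied from left to right -/
def gwp (w : List ℕ) : Equiv.Perm (Fin XT.n) := pathProd σ (nw w)

theorem gwp_mem (w : List ℕ) : gwp w ∈ G :=
  pathProd_mem G σ (nw w) fun l hl => σ_mem l (nw_lt w l hl)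

/-- the element of a word -/
def gw (w : List ℕ) : ↥G := ⟨gwp w, gwp_mem w⟩

/-- the image of a point under a word -/
def wk (w : List ℕ) (p : ℕ) : ℕ := XT.walkT (nw w) p

theorem gwp_apply (w : List ℕ) (p : Fin XT.n) : (gwp w p).val = wk w p.val :=
  Table.pathProd_sigma_apply hXT (nw w) (nw_lt w) p

theorem pathProd_append {K : Type*} [Monoid K] (γ : ℕ → K) (w w' : List ℕ) :
    pathProd γ (w ++ w') = pathProd γ w' * pathProd γ w := by
  rw [pathProd_eq, pathProd_eq, pathProd_eq, List.reverse_append, List.map_append, List.prod_append]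

theorem gwp_nil : gwp [] = 1 := rfl

theorem gwp_append (w w' : List ℕ) : gwp (w ++ w') = gwp w' * gwp w := by
  unfold gwp nw
  rw [List.map_append, pathProd_append]

theorem gwp_singleton (l : ℕ) : gwp [l] = σ (nl l) := by
  show 1 * σ (nl l) = σ (nl l)
  rw [one_mul]

theorem gw_nil : gw [] = 1 := rfl

theorem gw_append (w w' : List ℕ) : gw (w ++ w') = gw w' * gw w :=
  Subtype.ext (gwp_append w w')

/-- the inverse letter -/
def il (l : ℕ) : ℕ := XT.invl (nl l)

theorem il_lt (l : ℕ) : il l < 80 := (hXT.inv (nl l) (nl_lt l)).1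

theorem σ_il (l : ℕ) : σ (nl (il l)) = (σ (nl l))⁻¹ := by
  rw [nl_of_lt (il_lt l)]
  exact Table.sigma_inv hXT (nl_lt l)

/-- the inverse word -/
def winv (w : List ℕ) : List ℕ := (w.map il).reverse

theorem gwp_winv (w : List ℕ) : gwp (winv w) = (gwp w)⁻¹ := by
  induction w with
  | nil => exact inv_one.symm
  | cons l w ih =>
    have e1 : winv (l :: w) = winv w ++ [il l] := by
      unfold winv
      rw [List.map_cons, List.reverse_cons]
    have e2 : l :: w = [l] ++ w := rfl
    rw [e1, gwp_append, ih, gwp_singleton, σ_il, e2, gwp_append, gwp_singleton, mul_inv_rev]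

theorem gw_winv (w : List ℕ) : gw (winv w) = (gw w)⁻¹ :=
  Subtype.ext (gwp_winv w)

/-- repetition of a word -/
def rpt : ℕ → List ℕ → List ℕ
  | 0, _ => []
  | m + 1, l => l ++ rpt m l

theorem gw_rpt (m : ℕ) (l : List ℕ) : gw (rpt m l) = gw l ^ m := by
  induction m with
  | zero => rfl
  | succ m ih => rw [rpt, gw_append, ih, pow_succ]

/-- the conjugate of the element of the word `u` by the element of the word `c` -/
def cj (c u : List ℕ) : List ℕ := winv c ++ (u ++ c)

theorem gw_cj (c u : List ℕ) : gw (cj c u) = gw c * gw u * (gw c)⁻¹ := by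
  unfold cj
  rw [gw_append, gw_append, gw_winv]

/-! ### the isomorphism with the presented group -/

theorem pathProd_congr {K : Type*} [Monoid K] (γ γ' : ℕ → K) (w : List ℕ)
    (h : ∀ l ∈ w, γ l = γ' l) : pathProd γ w = pathProd γ' w := by
  induction w with
  | nil => rfl
  | cons l ls ih =>
    show pathProd γ ls * γ l = pathProd γ' ls * γ' l
    rw [ih fun x hx => h x (List.mem_cons_of_mem _ hx), h l List.mem_cons_self]

theorem map_pathProd {K K' : Type*} [Monoid K] [Monoid K'] (f : K →* K') (γ : ℕ → K) (w : List ℕ) :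
    f (pathProd γ w) = pathProd (fun l => f (γ l)) w := by
  induction w with
  | nil => exact map_one f
  | cons l ls ih =>
    show f (pathProd γ ls * γ l) = pathProd (fun l => f (γ l)) ls * f (γ l)
    rw [map_mul, ih]

theorem nw_of_lt (w : List ℕ) (h : ∀ l ∈ w, l < 80) : nw w = w := by
  unfold nw
  conv_rhs => rw [← List.map_id w]
  exact List.map_congr_left fun l hl => nl_of_lt (h l hl)

/-- the identification of the permutations of the points of the coset table of the presentation
with those of the points of the table of the 80 letters -/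
def ΦB : Equiv.Perm (Fin RuPTable.table.n) ≃* Equiv.Perm (Fin XT.n) :=
  (finCongr (rfl : RuPTable.table.n = XT.n)).permCongrHom

theorem ΦB_apply_val (π : Equiv.Perm (Fin RuPTable.table.n)) (p : Fin XT.n) :
    ((ΦB π) p).val = (π ((finCongr (rfl : RuPTable.table.n = XT.n)).symm p)).val := rfl

/-- the same for the extended coset table -/
def ΦBS : Equiv.Perm (Fin RuPBSTable.btable.n) ≃* Equiv.Perm (Fin XT.n) :=
  (finCongr (rfl : RuPBSTable.btable.n = XT.n)).permCongrHom

theorem ΦBS_apply_val (π : Equiv.Perm (Fin RuPBSTable.btable.n)) (p : Fin XT.n) :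
    ((ΦBS π) p).val = (π ((finCongr (rfl : RuPBSTable.btable.n = XT.n)).symm p)).val := rfl

theorem hagreeB : ∀ p, p < 4060 → ∀ l, l < 5 → XT.tau l p = RuPTable.table.tau l p := by
  intro p hp l hl
  exact (agreeRange_iff _ XT 5 0 4060).mp agreeB p (by omega) (by omega) l hl

theorem hagreeBS : ∀ p, p < 4060 → ∀ l, l < 5 → XT.tau l p = RuPBSTable.btable.tau l p := by
  intro p hp l hl
  exact (agreeRange_iff _ XT 5 0 4060).mp agreeBS p (by omega) (by omega) l hl

theorem σ_eq_B (l : ℕ) (hl : l < 5) : ΦB (Table.sigma RuPMain.hT l) = σ l := by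
  apply Equiv.ext
  intro p
  apply Fin.ext
  have h1 : (σ l p).val = XT.tau l p.val :=
    Table.sigma_apply hXT (show l < XT.k by show l < 80; omega) p
  rw [ΦB_apply_val, Table.sigma_apply RuPMain.hT (show l < RuPTable.table.k by show l < 5; exact hl), h1]
  exact (hagreeB p.val p.2 l hl).symm

theorem σ_eq_BS (l : ℕ) (hl : l < 5) : ΦBS (Table.sigma RuPBSMain.hTB l) = σ l := by
  apply Equiv.ext
  intro p
  apply Fin.ext
  have h1 : (σ l p).val = XT.tau l p.val :=
    Table.sigma_apply hXT (show l < XT.k by show l < 80; omega) p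
  rw [ΦBS_apply_val, Table.sigma_apply RuPBSMain.hTB (show l < RuPBSTable.btable.k by show l < 21; omega), h1]
  exact (hagreeBS p.val p.2 l hl).symm

theorem G_eq_BS : G = (baseGroup RuPBSMain.hTB 5).map ΦBS.toMonoidHom := by
  unfold G baseGroup
  rw [MonoidHom.map_closure]
  congr 1
  ext π
  constructor
  · rintro ⟨l, hl, rfl⟩
    exact ⟨_, ⟨l, hl, rfl⟩, σ_eq_BS l hl⟩
  · rintro ⟨_, ⟨l, hl, rfl⟩, rfl⟩
    exact ⟨l, hl, σ_eq_BS l hl⟩

theorem exists_phi : ∃ φ : PresentedGroup RuPLink.rels →* Equiv.Perm (Fin RuPTable.table.n),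
    (∀ x, φ (PresentedGroup.of x) = Table.sigma RuPMain.hT (RuPLink.lw (x, true))) ∧
      Function.Injective φ := by
  obtain ⟨-, -, φ, hinj, hφ, -⟩ := RuPSimple.main
  exact ⟨φ, hφ, hinj⟩

theorem lw_lt (xb : RuPDef.Gen × Bool) : RuPLink.lw xb < 5 := by
  obtain ⟨x, b⟩ := xb
  cases x <;> simp [RuPLink.lw]

theorem pathOf_lt (L : List (RuPDef.Gen × Bool)) : ∀ l ∈ pathOf RuPLink.lw L, l < 5 := by
  intro l hl
  unfold pathOf at hl
  rw [List.mem_reverse] at hl
  obtain ⟨xb, -, rfl⟩ := List.mem_map.mp hl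
  exact lw_lt xb

/-- the isomorphism of the presented Rudvalis group with the group of permutations -/
theorem exists_iso : ∃ e : PresentedGroup RuPLink.rels ≃* ↥G,
    ∀ L : List (RuPDef.Gen × Bool),
      e (PresentedGroup.mk RuPLink.rels (FreeGroup.mk L)) = gw (pathOf RuPLink.lw L) := by
  obtain ⟨φ, hφ, hinj⟩ := exists_phi
  have hval : ∀ L : List (RuPDef.Gen × Bool),
      ΦB (φ (PresentedGroup.mk RuPLink.rels (FreeGroup.mk L))) = gwp (pathOf RuPLink.lw L) := by
    intro L
    rw [phi_mk RuPLink.link RuPMain.hT φ hφ L]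
    unfold gwp
    rw [nw_of_lt _ fun l hl => lt_trans (pathOf_lt L l hl) (by norm_num)]
    have := map_pathProd ΦB.toMonoidHom (Table.sigma RuPMain.hT) (pathOf RuPLink.lw L)
    rw [MulEquiv.toMonoidHom_eq_coe, MonoidHom.coe_coe] at this
    rw [this]
    exact pathProd_congr _ _ _ fun l hl => σ_eq_B l (pathOf_lt L l hl)
  have hmem : ∀ x, ΦB (φ x) ∈ G := by
    intro x
    obtain ⟨w, rfl⟩ := PresentedGroup.mk_surjective RuPLink.rels x
    obtain ⟨L, rfl⟩ := Quot.exists_rep w
    have := hval L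
    rw [show (Quot.mk _ L : FreeGroup RuPDef.Gen) = FreeGroup.mk L from rfl, this]
    exact gwp_mem _
  let φ' : PresentedGroup RuPLink.rels →* Equiv.Perm (Fin XT.n) := ΦB.toMonoidHom.comp φ
  let ψ : PresentedGroup RuPLink.rels →* ↥G := φ'.codRestrict G hmem
  have hψinj : Function.Injective ψ := by
    intro a b h
    have h1 : ΦB (φ a) = ΦB (φ b) := congrArg Subtype.val h
    exact hinj (ΦB.injective h1)
  have hle : G ≤ φ'.range := by
    unfold G baseGroup
    rw [Subgroup.closure_le]
    rintro π ⟨l, hl, rfl⟩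
    obtain ⟨x, hx⟩ := sigma_mem_range RuPLink.link RuPMain.hT φ hφ l hl
    refine ⟨x, ?_⟩
    show ΦB (φ x) = Table.sigma hXT l
    rw [hx]
    exact σ_eq_B l hl
  have hψsurj : Function.Surjective ψ := by
    rintro ⟨g, hg⟩
    obtain ⟨x, hx⟩ := hle hg
    exact ⟨x, Subtype.ext hx⟩
  exact ⟨MulEquiv.ofBijective ψ ⟨hψinj, hψsurj⟩, fun L => Subtype.ext (hval L)⟩

theorem card_G : Nat.card ↥G = 145926144000 := by
  obtain ⟨e, -⟩ := exists_iso
  rw [← Nat.card_congr e.toEquiv]
  exact RuPSimple.main.2.1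

instance finite_G : Finite ↥G := Nat.finite_of_card_ne_zero (by rw [card_G]; norm_num)

instance isSimpleGroup_G : IsSimpleGroup ↥G := by
  obtain ⟨e, -⟩ := exists_iso
  have : IsSimpleGroup (PresentedGroup RuPLink.rels) := RuPSimple.main.1
  exact e.isSimpleGroup_congr.mp this

/-! ### equality of elements by the images of the base points -/

/-- the base points -/
def RB : List ℕ := [0, 1, 2, 3]

theorem RB_lt : ∀ b ∈ RB, b < XT.n := by decide

theorem card_pstab_BS : Nat.card (pstab (baseGroup RuPBSMain.hTB 5)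
    (toFin RuPBSTable.btable.n [3, 2, 1, 0])) ≤ 1 := by
  have h : 4060 * (2304 * (975 * (16 * Nat.card (pstab (baseGroup RuPBSMain.hTB 5)
      (toFin RuPBSTable.btable.n [3, 2, 1, 0]))))) ≤
      Nat.card (pstab (baseGroup RuPBSMain.hTB 5) (toFin RuPBSTable.btable.n [])) :=
    chain_stepN RuPBSMain.lev0 (chain_stepN RuPBSMain.lev1 (chain_stepN RuPBSMain.lev2
      (chain_stepN RuPBSMain.lev3 le_rfl)))
  have h0 : Nat.card (pstab (baseGroup RuPBSMain.hTB 5) (toFin RuPBSTable.btable.n [])) =
      145926144000 := by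
    show Nat.card ↥(baseGroup RuPBSMain.hTB 5) = 145926144000
    rw [← card_G, G_eq_BS, Subgroup.card_map_of_injective ΦBS.injective]
  rw [h0] at h
  omega

/-- an element of the group fixing the base points is trivial -/
theorem rigid (g : Equiv.Perm (Fin XT.n)) (hg : g ∈ G)
    (hfix : ∀ b ∈ RB, ∀ hb : b < XT.n, g ⟨b, hb⟩ = ⟨b, hb⟩) : g = 1 := by
  rw [G_eq_BS] at hg
  obtain ⟨g0, hg0, rfl⟩ := hg
  have hmem : g0 ∈ pstab (baseGroup RuPBSMain.hTB 5) (toFin RuPBSTable.btable.n [3, 2, 1, 0]) := by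
    rw [mem_pstab]
    refine ⟨hg0, ?_⟩
    intro q hq
    have hv := val_mem_of_mem_toFin hq
    have hq' : q.val ∈ RB := by
      simp only [List.mem_cons, List.not_mem_nil, or_false] at hv
      unfold RB
      simp only [List.mem_cons, List.not_mem_nil, or_false]
      omega
    have hqn : q.val < XT.n := q.2
    have h1 := hfix q.val hq' hqn
    apply Fin.ext
    have h2 := congrArg Fin.val h1
    rw [show (ΦBS.toMonoidHom g0) = ΦBS g0 from rfl, ΦBS_apply_val] at h2
    exact h2
  have hsub : Subsingleton ↥(pstab (baseGroup RuPBSMain.hTB 5)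
      (toFin RuPBSTable.btable.n [3, 2, 1, 0])) :=
    (Finite.card_le_one_iff_subsingleton).mp card_pstab_BS
  have := Subsingleton.elim (⟨g0, hmem⟩ : ↥(pstab (baseGroup RuPBSMain.hTB 5)
      (toFin RuPBSTable.btable.n [3, 2, 1, 0]))) 1
  have hg1 : g0 = 1 := congrArg Subtype.val this
  rw [hg1, map_one]

/-- Boolean equality of the elements of two words: the images of the base points -/
def sigEq (w w' : List ℕ) : Bool := RB.all fun b => Nat.beq (wk w b) (wk w' b)

theorem sigEq_iff (w w' : List ℕ) : sigEq w w' = true ↔ gw w = gw w' := by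
  unfold sigEq
  rw [List.all_eq_true]
  constructor
  · intro h
    have h1 : (gwp w')⁻¹ * gwp w = 1 := by
      apply rigid _ (G.mul_mem (G.inv_mem (gwp_mem w')) (gwp_mem w))
      intro b hb hbn
      rw [Equiv.Perm.mul_apply, Equiv.Perm.inv_eq_iff_eq]
      apply Fin.ext
      rw [gwp_apply, gwp_apply]
      exact Nat.eq_of_beq_eq_true (h b hb)
    rw [inv_mul_eq_one] at h1
    exact Subtype.ext h1.symm
  · intro h b hb
    have hbn := RB_lt b hb
    have := congrArg (fun g : ↥G => (g.1 ⟨b, hbn⟩).val) h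
    have e1 : ((gw w).1 ⟨b, hbn⟩).val = wk w b := gwp_apply w ⟨b, hbn⟩
    have e2 : ((gw w').1 ⟨b, hbn⟩).val = wk w' b := gwp_apply w' ⟨b, hbn⟩
    rw [e1, e2] at this
    rw [this]
    exact Nat.beq_refl _

theorem sigEq_eq_false_iff (w w' : List ℕ) : sigEq w w' = false ↔ gw w ≠ gw w' := by
  rw [Ne, ← sigEq_iff, Bool.not_eq_true]

/-- the code of an element: the images of the base points -/
def hcode (g : ↥G) : ℕ :=
  RB.foldl (fun acc b => acc * 4096 + if h : b < XT.n then (g.1 ⟨b, h⟩).val else 0) 0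

/-- the code of the element of a word -/
def codeW (w : List ℕ) : ℕ := RB.foldl (fun acc b => acc * 4096 + wk w b) 0

theorem foldl_congr' (f f' : ℕ → ℕ) (l : List ℕ) (h : ∀ b ∈ l, f b = f' b) (a : ℕ) :
    l.foldl (fun acc b => acc * 4096 + f b) a = l.foldl (fun acc b => acc * 4096 + f' b) a := by
  induction l generalizing a with
  | nil => rfl
  | cons b l ih =>
    rw [List.foldl_cons, List.foldl_cons, h b List.mem_cons_self]
    exact ih (fun x hx => h x (List.mem_cons_of_mem _ hx)) _

theorem codeW_eq (w : List ℕ) : codeW w = hcode (gw w) := by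
  unfold codeW hcode
  apply foldl_congr'
  intro b hb
  rw [dif_pos (RB_lt b hb)]
  exact (gwp_apply w ⟨b, RB_lt b hb⟩).symm

theorem foldl_inj (f f' : ℕ → ℕ) (l : List ℕ) (hf : ∀ b ∈ l, f b < 4096) (hf' : ∀ b ∈ l, f' b < 4096)
    (a a' : ℕ) (h : l.foldl (fun acc b => acc * 4096 + f b) a = l.foldl (fun acc b => acc * 4096 + f' b) a') :
    a = a' ∧ ∀ b ∈ l, f b = f' b := by
  induction l generalizing a a' with
  | nil => exact ⟨h, fun b hb => absurd hb List.not_mem_nil⟩
  | cons b l ih =>
    rw [List.foldl_cons, List.foldl_cons] at h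
    obtain ⟨h1, h2⟩ := ih (fun x hx => hf x (List.mem_cons_of_mem _ hx))
      (fun x hx => hf' x (List.mem_cons_of_mem _ hx)) _ _ h
    have hb := hf b List.mem_cons_self
    have hb' := hf' b List.mem_cons_self
    have e1 : a = a' := by omega
    have e2 : f b = f' b := by omega
    refine ⟨e1, ?_⟩
    intro x hx
    rcases List.mem_cons.mp hx with rfl | hx
    · exact e2
    · exact h2 x hx

theorem hcode_injective : Function.Injective hcode := by
  intro g g' h
  unfold hcode at h
  have hlt : ∀ (k : ↥G), ∀ b ∈ RB, (if h : b < XT.n then (k.1 ⟨b, h⟩).val else 0) < 4096 := by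
    intro k b hb
    rw [dif_pos (RB_lt b hb)]
    have : (k.1 ⟨b, RB_lt b hb⟩).val < 4060 := (k.1 ⟨b, RB_lt b hb⟩).2
    omega
  obtain ⟨-, h2⟩ := foldl_inj _ _ RB (hlt g) (hlt g') 0 0 h
  have h1 : g'.1⁻¹ * g.1 = 1 := by
    apply rigid _ (G.mul_mem (G.inv_mem g'.2) g.2)
    intro b hb hbn
    rw [Equiv.Perm.mul_apply, Equiv.Perm.inv_eq_iff_eq]
    apply Fin.ext
    have := h2 b hb
    rw [dif_pos hbn, dif_pos hbn] at this
    exact this
  rw [inv_mul_eq_one] at h1
  exact Subtype.ext h1.symm

theorem gw_eq_of_code {w w' : List ℕ} (h : codeW w = codeW w') : gw w = gw w' := by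
  apply hcode_injective
  rw [← codeW_eq, ← codeW_eq, h]

end

end Cfsg.Agent.Lib.Helper15.RuO
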