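import Cfsg.Agent.Lib.Helper15.RuOCls00
import Cfsg.Agent.Lib.Helper15.RuOCls01
import Cfsg.Agent.Lib.Helper15.RuOCls02
import Cfsg.Agent.Lib.Helper15.RuOCls03
import Cfsg.Agent.Lib.Helper15.RuOCls04
import Cfsg.Agent.Lib.Helper15.RuOCls05
import Cfsg.Agent.Lib.Helper15.RuOCls06
import Cfsg.Agent.Lib.Helper15.RuOCls07
import Cfsg.Agent.Lib.Helper15.RuOCls08
import Cfsg.Agent.Lib.Helper15.RuOCls09
import Cfsg.Agent.Lib.Helper15.RuOCls10
import Cfsg.Agent.Lib.Helper15.RuOCls11
import Cfsg.Agent.Lib.Helper15.RuOCls12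
import Cfsg.Agent.Lib.Helper15.RuOCls13
import Cfsg.Agent.Lib.Helper15.RuOCls14
import Cfsg.Agent.Lib.Helper15.RuOCls15
import Cfsg.Agent.Lib.Helper15.RuOCls16
import Cfsg.Agent.Lib.Helper15.RuOCls17
import Cfsg.Agent.Lib.Helper15.RuOCls18

set_option autoImplicit false
set_option maxRecDepth 100000

/-!
The conjugates of the first generator of the Rudvalis group on 4060 points: the 593775 packed words
give pairwise different conjugates, each of which fails a relation with the element of order 13 or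
has one of the 52 exceptional codes.
-/

namespace Cfsg.Agent.Lib.Helper15.RuO
open Cfsg.Agent.Lib.Helper28.TC2Upper Cfsg.Agent.Lib.Helper28.TC2Lower Cfsg.Agent.Lib.Helper28.TC2Range
open Cfsg.Agent.Lib.Helper28.TC2Bsgs

attribute [local irreducible] wk gwp codeW

noncomputable section

/-- the packed lists of the files -/
def clsFD : BT (BT ℕ) := (BT.node 9 (BT.node 4 (BT.node 2 (BT.node 1 (BT.node 0 (BT.leaf fileD0) (BT.leaf fileD1)) (BT.leaf fileD2)) (BT.node 3 (BT.leaf fileD3) (BT.leaf fileD4))) (BT.node 7 (BT.node 6 (BT.node 5 (BT.leaf fileD5) (BT.leaf fileD6)) (BT.leaf fileD7)) (BT.node 8 (BT.leaf fileD8) (BT.leaf fileD9)))) (BT.node 14 (BT.node 12 (BT.node 11 (BT.node 10 (BT.leaf fileD10) (BT.leaf fileD11)) (BT.leaf fileD12)) (BT.node 13 (BT.leaf fileD13) (BT.leaf fileD14))) (BT.node 16 (BT.node 15 (BT.leaf fileD15) (BT.leaf fileD16)) (BT.node 17 (BT.leaf fileD17) (BT.leaf fileD18)))))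

/-- the packed list of the part `c` -/
def gD (c : ℕ) : ℕ := (clsFD.look (c / 64)).look (c % 64)

theorem allChk (c : ℕ) (hc : c < 1160) :
    scanC (gD c) (clsBT.look c) (gN c) (clsBT.look (c + 1)) = true := by
  have hf : c / 64 < 19 := by omega
  have hj : c % 64 < 64 := Nat.mod_lt _ (by norm_num)
  have e : c = 64 * (c / 64) + c % 64 := (Nat.div_add_mod c 64).symm
  unfold gD
  generalize c / 64 = f at *
  generalize c % 64 = j at *
  subst e
  interval_cases f
  · exact fileChk0 j hj
  · exact fileChk1 j hj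
  · exact fileChk2 j hj
  · exact fileChk3 j hj
  · exact fileChk4 j hj
  · exact fileChk5 j hj
  · exact fileChk6 j hj
  · exact fileChk7 j hj
  · exact fileChk8 j hj
  · exact fileChk9 j hj
  · exact fileChk10 j hj
  · exact fileChk11 j hj
  · exact fileChk12 j hj
  · exact fileChk13 j hj
  · exact fileChk14 j hj
  · exact fileChk15 j hj
  · exact fileChk16 j hj
  · exact fileChk17 j hj
  · exact fileChk18 j (by omega)

theorem gN_eq (c : ℕ) : gN c = if c = 1159 then 367 else 512 := by
  unfold gN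
  by_cases h : c = 1159
  · subst h; rfl
  · rw [if_neg h]
    have : Nat.beq c 1159 = false := by
      cases hb : Nat.beq c 1159
      · rfl
      · exact absurd (Nat.eq_of_beq_eq_true hb) h
    rw [this]
    rfl

/-- the packed word with the index `g` -/
def gE (g : ℕ) : ℕ := ent (gD (g / 512)) (g % 512)

theorem idx_lt {g : ℕ} (hg : g < 593775) : g / 512 < 1160 ∧ g % 512 < gN (g / 512) := by
  refine ⟨by omega, ?_⟩
  rw [gN_eq]
  split_ifs with h
  · omega
  · exact Nat.mod_lt _ (by norm_num)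

theorem gE_ok {g : ℕ} (hg : g < 593775) : eok (gE g) (ecode (gE g)) = true := by
  obtain ⟨h1, h2⟩ := idx_lt hg
  exact ((scanC_spec _ _ _ _ (allChk _ h1)).1 _ h2).1

theorem gE_bounds {g : ℕ} (hg : g < 593775) :
    clsBT.look (g / 512) ≤ ecode (gE g) ∧ ecode (gE g) < clsBT.look (g / 512 + 1) := by
  obtain ⟨h1, h2⟩ := idx_lt hg
  exact ((scanC_spec _ _ _ _ (allChk _ h1)).1 _ h2).2

theorem bd_mono : ∀ c2 c1, c1 ≤ c2 → c2 ≤ 1160 → clsBT.look c1 ≤ clsBT.look c2 := by
  intro c2
  induction c2 with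
  | zero =>
    intro c1 h1 _
    have : c1 = 0 := by omega
    rw [this]
  | succ c2 ih =>
    intro c1 h1 h2
    rcases Nat.lt_succ_iff_lt_or_eq.mp (Nat.lt_succ_of_le h1) with h | rfl
    · exact le_trans (ih c1 (by omega) (by omega)) (scanC_spec _ _ _ _ (allChk c2 (by omega))).2.2
    · exact le_rfl

/-- the codes increase with the index -/
theorem gE_mono {g g' : ℕ} (h : g < g') (hg' : g' < 593775) : ecode (gE g) < ecode (gE g') := by
  have hg : g < 593775 := lt_trans h hg'
  obtain ⟨h1, h2⟩ := idx_lt hg'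
  rcases Nat.lt_or_ge (g / 512) (g' / 512) with hc | hc
  · have b1 := (gE_bounds hg).2
    have b2 := (gE_bounds hg').1
    have := bd_mono (g' / 512) (g / 512 + 1) (by omega) (by omega)
    omega
  · have hceq : g / 512 = g' / 512 := by
      have : g / 512 ≤ g' / 512 := Nat.div_le_div_right (le_of_lt h)
      omega
    have hlt : g % 512 < g' % 512 := by omega
    have := (scanC_spec _ _ _ _ (allChk _ h1)).2.1 (g % 512) (g' % 512) hlt h2
    unfold gE
    rw [hceq]
    exact this

/-- the conjugate of the first generator with the index `g` -/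
def gX (g : ℕ) : ↥G := gw (cjW (gE g))

theorem gX_conj (g : ℕ) : IsConj t (gX g) := by
  unfold gX cjW t
  rw [gw_cj, isConj_iff]
  exact ⟨gw (wlist (gE g)), rfl⟩

theorem wk_lt_n (w : List ℕ) (p : ℕ) (hp : p < 4060) : wk w p < 4060 := by
  have := gwp_apply w ⟨p, hp⟩
  rw [← this]
  exact (gwp w ⟨p, hp⟩).2

theorem ecode_congr {W W' : ℕ} (h : gw (cjW W) = gw (cjW W')) : ecode W = ecode W' := by
  rw [ecode_wk, ecode_wk]
  apply codeF_congr' _ _ (fun p hp => wk_lt_n _ p hp)
  intro p hp
  have e : gwp (cjW W) = gwp (cjW W') := congrArg Subtype.val h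
  rw [← gwp_apply (cjW W) ⟨p, hp⟩, ← gwp_apply (cjW W') ⟨p, hp⟩, e]

theorem gX_inj {g g' : ℕ} (hg : g < 593775) (hg' : g' < 593775) (h : gX g = gX g') : g = g' := by
  have hc : ecode (gE g) = ecode (gE g') := ecode_congr h
  rcases Nat.lt_trichotomy g g' with hlt | heq | hgt
  · exact absurd hc (ne_of_lt (gE_mono hlt hg'))
  · exact heq
  · exact absurd hc.symm (ne_of_lt (gE_mono hgt hg))

/-- when the class of the first generator has at most 593775 elements, every conjugate is listed -/
theorem exists_index (hcard : {x : ↥G | IsConj t x}.ncard ≤ 593775) (x : ↥G) (hx : IsConj t x) :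
    ∃ g, g < 593775 ∧ x = gX g := by
  let S : Finset ↥G := (Finset.range 593775).image gX
  have hS : S.card = 593775 := by
    rw [Finset.card_image_of_injOn, Finset.card_range]
    intro a ha b hb hab
    exact gX_inj (Finset.mem_range.mp ha) (Finset.mem_range.mp hb) hab
  have hsub : (↑S : Set ↥G) ⊆ {a | IsConj t a} := by
    intro z hz
    rw [Finset.mem_coe, Finset.mem_image] at hz
    obtain ⟨g, -, rfl⟩ := hz
    exact gX_conj g
  have heq : (↑S : Set ↥G) = {a | IsConj t a} := by
    refine Set.eq_of_subset_of_ncard_le hsub ?_ (Set.toFinite _)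
    rw [Set.ncard_coe_finset, hS]
    exact hcard
  have hmem : x ∈ (↑S : Set ↥G) := by rw [heq]; exact hx
  rw [Finset.mem_coe, Finset.mem_image] at hmem
  obtain ⟨g, hg, rfl⟩ := hmem
  exact ⟨g, Finset.mem_range.mp hg, rfl⟩

/-- a conjugate of the first generator fails a relation or has an exceptional code -/
theorem rel_or_exc (hcard : {x : ↥G | IsConj t x}.ncard ≤ 593775) (x : ↥G) (hx : IsConj t x) :
    ¬ Rel x y ∨ hcode x ∈ EXC4 := by
  obtain ⟨g, hg, rfl⟩ := exists_index hcard x hx
  have := eok_spec (gE g) (gE_ok hg)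
  unfold gX
  rw [← codeW_eq]
  exact this

end

end Cfsg.Agent.Lib.Helper15.RuO
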