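import Cfsg.Agent.Lib.Helper15.RuOFast

set_option autoImplicit false
set_option maxRecDepth 100000

/-!
The Rudvalis group on 4060 points: the two relations of the generating pair (the first generator and
an element of order 13), the check that a conjugate of the first generator fails one of them, and the
scan of a packed list of conjugates.
-/

namespace Cfsg.Agent.Lib.Helper15.RuO
open Cfsg.Agent.Lib.Helper28.TC2Upper Cfsg.Agent.Lib.Helper28.TC2Lower Cfsg.Agent.Lib.Helper28.TC2Range
open Cfsg.Agent.Lib.Helper28.TC2Bsgs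

noncomputable section

/-- the first generator, an involution -/
def t : ↥G := gw [0]

/-- the element of order 13 -/
def y : ↥G := gw [64]

/-- the words of three powers of the element of order 13 -/
def Y4 : List ℕ := [64, 64, 64, 64]
def Y7 : List ℕ := [64, 64, 64, 64, 64, 64, 64]
def Y8 : List ℕ := [64, 64, 64, 64, 64, 64, 64, 64]

theorem gw_Y4 : gw Y4 = y ^ 4 := gw_rpt 4 [64]
theorem gw_Y7 : gw Y7 = y ^ 7 := gw_rpt 7 [64]
theorem gw_Y8 : gw Y8 = y ^ 8 := gw_rpt 8 [64]

/-- the relations of the generating pair -/
def Rel (t y : ↥G) : Prop :=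
  (y * t) ^ 5 = 1 ∧ (y ^ 8 * t * (y ^ 7 * t) * (y ^ 4 * t)) ^ 6 = 1

/-- the relations are preserved by homomorphisms -/
theorem Rel.map {t y : ↥G} (h : Rel t y) (f : ↥G →* ↥G) : Rel (f t) (f y) := by
  obtain ⟨r1, r2⟩ := h
  refine ⟨?_, ?_⟩
  · rw [← map_mul, ← map_pow, r1, map_one]
  · rw [← map_pow f y 8, ← map_pow f y 7, ← map_pow f y 4, ← map_mul, ← map_mul, ← map_mul, ← map_mul,
      ← map_mul, ← map_pow, r2, map_one]

/-- the first relation, as a word -/
def R1 (A : List ℕ) : List ℕ := rpt 5 (A ++ [64])

/-- the second relation, as a word -/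
def R2 (A : List ℕ) : List ℕ := rpt 6 (A ++ Y4 ++ (A ++ Y7) ++ (A ++ Y8))

theorem gw_R1 (A : List ℕ) : gw (R1 A) = (y * gw A) ^ 5 := by
  unfold R1
  rw [gw_rpt, gw_append]
  rfl

theorem gw_R2 (A : List ℕ) : gw (R2 A) = (y ^ 8 * gw A * (y ^ 7 * gw A) * (y ^ 4 * gw A)) ^ 6 := by
  unfold R2
  rw [gw_rpt, gw_append, gw_append, gw_append, gw_append, gw_append, gw_Y4, gw_Y7, gw_Y8]
  simp only [mul_assoc]

/-- one of the two relations fails for the element of the word -/
def relFailA (A : List ℕ) : Bool := !(sigEq (R1 A) []) || !(sigEq (R2 A) [])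

theorem not_rel_of_fail {A : List ℕ} (h : relFailA A = true) : ¬ Rel (gw A) y := by
  rintro ⟨r1, r2⟩
  unfold relFailA at h
  have e1 : sigEq (R1 A) [] = true := by
    rw [sigEq_iff, gw_R1, gw_nil]
    exact r1
  have e2 : sigEq (R2 A) [] = true := by
    rw [sigEq_iff, gw_R2, gw_nil]
    exact r2
  rw [e1, e2] at h
  simp at h

theorem rel_of_not_fail {A : List ℕ} (h : relFailA A = false) : Rel (gw A) y := by
  unfold relFailA at h
  simp only [Bool.or_eq_false_iff, Bool.not_eq_false'] at h
  obtain ⟨h1, h2⟩ := h
  rw [sigEq_iff, gw_R1, gw_nil] at h1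
  rw [sigEq_iff, gw_R2, gw_nil] at h2
  exact ⟨h1, h2⟩

/-- the codes of the conjugates of the first generator by the elements of the centraliser of the
element of order 13 -/
def EXC4 : List ℕ := [16793603, 56143833394842, 66566768438484, 33996421054638, 191727660718033, 125705639858834, 7533594952893, 159918744302255, 267627697559894, 65335893510483, 53986027944813, 69868692495016, 176484694086203, 102225422888507, 72468316854423, 86340216054001, 272390556936647, 58237679901448, 223356722653281, 29565399307811, 225373845830650, 136611812884355, 158625309086914, 132024168464075, 31307603760059, 4585789039557, 158777822073878, 216081749664980, 203616522223399, 82296923375088, 152232710234588, 91707882479951, 98868604819909, 18572169761254, 262768609725343, 225322787786183, 238586743111605, 266803567834185, 131460386635779, 188008626212867, 28279523094037, 11168866985958, 255832352364927, 8066371406649, 29412737050596, 81338461261833, 161963548956010, 128347759317970, 138989177537582, 13503951616858, 79530156655699, 191547856029026]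

/-- the check of an involution which fixes the point 2 under the fifth power -/
def slowOK (W : ℕ) : Bool := relFailA (cjW W) || memB (codeW (cjW W)) EXC4

/-- the check of an involution with the code `c` -/
def eok (W c : ℕ) : Bool := or (not (Nat.beq (Nat.land c 4095) 2)) (slowOK W)

theorem wk_cjW_lt (W p : ℕ) (hp : p < 4096) : wk (cjW W) p < 4096 := by
  rw [← tpW_wk W p hp]
  exact tpW_lt W p

theorem wk_step (W p : ℕ) (hp : p < 4096) : wk (cjW W ++ [64]) p = tauX 64 (wk (cjW W) p) := by
  rw [wk_append, wk_cons_X 64 (by norm_num) [] _ (wk_cjW_lt W p hp), wk_nil]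

theorem wk_R1 (W : ℕ) : wk (R1 (cjW W)) 2 =
    tauX 64 (nx (wk (cjW W)) (nx (wk (cjW W)) (nx (wk (cjW W)) (nx (wk (cjW W)) (wk (cjW W) 2))))) := by
  unfold R1 rpt rpt rpt rpt rpt rpt nx
  rw [wk_append, wk_append, wk_append, wk_append, wk_append, wk_nil,
    wk_step W 2 (by norm_num), wk_step W _ (tauX_lt _ _), wk_step W _ (tauX_lt _ _),
    wk_step W _ (tauX_lt _ _), wk_step W _ (tauX_lt _ _)]

theorem gw_ne_one_of_wk {w : List ℕ} {p : ℕ} (hp : p < XT.n) (h : wk w p ≠ p) : gw w ≠ 1 := by
  intro e
  apply h
  have := gwp_apply w ⟨p, hp⟩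
  have e' : gwp w = 1 := congrArg Subtype.val e
  rw [e'] at this
  exact this.symm

theorem eok_spec (W : ℕ) (h : eok W (ecode W) = true) :
    ¬ Rel (gw (cjW W)) y ∨ codeW (cjW W) ∈ EXC4 := by
  unfold eok at h
  rw [Bool.or_eq_true] at h
  rcases h with h | h
  · left
    rintro ⟨r1, -⟩
    rw [ecode_wk, codeF_mod, ← wk_R1] at h
    have hne : wk (R1 (cjW W)) 2 ≠ 2 := by
      intro e
      rw [e] at h
      simp at h
    apply gw_ne_one_of_wk (show 2 < XT.n by decide) hne
    rw [gw_R1]
    exact r1
  · unfold slowOK at h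
    rw [Bool.or_eq_true] at h
    rcases h with h | h
    · exact Or.inl (not_rel_of_fail h)
    · exact Or.inr ((memB_iff _ _).mp h)

/-! ### the scan of a packed list of conjugates -/

/-- the entry `i` of a packed list: 24 bits for each entry -/
def ent (D i : ℕ) : ℕ := Nat.land (Nat.shiftRight D (Nat.mul 24 i)) 16777215

/-- the codes of the entries `0, …, n - 1` increase, lie in `[lo, prev)`, and the entries pass the check -/
def scanC (D lo : ℕ) (n : ℕ) : ℕ → Bool :=
  @Nat.rec (fun _ => ℕ → Bool) (fun prev => Nat.ble lo prev)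
    (fun i ih prev => force (ent D i) fun W => force (ecode W) fun c =>
      and (Nat.blt c prev) (and (eok W c) (ih c))) n

theorem scanC_eq (D lo : ℕ) : ∀ (n prev : ℕ), scanC D lo n prev =
    scanG (fun i => ecode (ent D i)) (fun i => eok (ent D i) (ecode (ent D i))) lo n prev := by
  intro n
  induction n with
  | zero => intro prev; rfl
  | succ n ih =>
    intro prev
    rw [scanG_succ, ← ih]
    show force (ent D n) (fun W => force (ecode W) fun c =>
      and (Nat.blt c prev) (and (eok W c) (scanC D lo n c))) = _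
    rw [force_eq, force_eq]

/-- what a successful scan gives -/
theorem scanC_spec (D lo n prev : ℕ) (h : scanC D lo n prev = true) :
    (∀ i, i < n → eok (ent D i) (ecode (ent D i)) = true ∧ lo ≤ ecode (ent D i) ∧
      ecode (ent D i) < prev) ∧
    (∀ i j, i < j → j < n → ecode (ent D i) < ecode (ent D j)) ∧ lo ≤ prev := by
  rw [scanC_eq] at h
  exact scanG_spec _ _ lo n prev h

end

end Cfsg.Agent.Lib.Helper15.RuO
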