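import Cfsg.Agent.Lib.Helper15.RuOBasic

set_option autoImplicit false
set_option maxRecDepth 100000

/-!
The Rudvalis group on 4060 points: fast evaluation of conjugates of the first generator that are
given by packed words of four involution letters, and a scan of a packed list of such words which
checks that their codes increase and that each of them fails a relation with the element of order 13.
-/

namespace Cfsg.Agent.Lib.Helper15.RuO
open Cfsg.Agent.Lib.Helper28.TC2Upper Cfsg.Agent.Lib.Helper28.TC2Lower Cfsg.Agent.Lib.Helper28.TC2Range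
open Cfsg.Agent.Lib.Helper28.TC2Bsgs

noncomputable section

/-! ### membership in a list of numbers -/

/-- Boolean membership -/
def memB (a : ℕ) : List ℕ → Bool
  | [] => false
  | b :: l => Nat.beq a b || memB a l

theorem memB_iff (a : ℕ) : ∀ l : List ℕ, memB a l = true ↔ a ∈ l
  | [] => by simp [memB]
  | b :: l => by
    rw [memB, Bool.or_eq_true, memB_iff a l, List.mem_cons]
    constructor
    · rintro (h | h)
      · exact Or.inl (Nat.eq_of_beq_eq_true h)
      · exact Or.inr h
    · rintro (h | h)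
      · left; rw [h]; exact Nat.beq_refl _
      · exact Or.inr h

/-! ### the fast table lookup -/

/-- image of the point `p` under the letter `l`: the columns are single numbers -/
def tauX (l p : ℕ) : ℕ := Nat.land (Nat.shiftRight (colX.look l) (Nat.mul 12 p)) 4095

theorem tauX_lt (l p : ℕ) : tauX l p < 4096 := by
  unfold tauX
  show (colX.look l >>> (12 * p)) &&& 4095 < 4096
  have := Nat.and_two_pow_sub_one_eq_mod (colX.look l >>> (12 * p)) 12
  norm_num at this
  rw [this]
  exact Nat.mod_lt _ (by norm_num)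

theorem tauX_eq (l p : ℕ) (hp : p < 4096) : tauX l p = XT.tau l p := by
  unfold tauX Table.tau
  rw [force_eq]
  show (colX.look l >>> (12 * p)) &&& 4095 = slot 12 4096 (colX.look (l * 1 + p / 4096)) (p % 4096)
  have := Nat.and_two_pow_sub_one_eq_mod (colX.look l >>> (12 * p)) 12
  norm_num at this
  rw [this, Nat.div_eq_of_lt hp, Nat.mod_eq_of_lt hp, mul_one, add_zero]
  rfl

/-! ### packed words of four letters -/

/-- the letter `i` of a packed word: six bits for each letter -/
def dig (W i : ℕ) : ℕ := Nat.land (Nat.shiftRight W (Nat.mul 6 i)) 63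

theorem dig_lt (W i : ℕ) : dig W i < 64 := by
  unfold dig
  show (W >>> (6 * i)) &&& 63 < 64
  have := Nat.and_two_pow_sub_one_eq_mod (W >>> (6 * i)) 6
  norm_num at this
  rw [this]
  exact Nat.mod_lt _ (by norm_num)

/-- the four letters of a packed word -/
def wlist (W : ℕ) : List ℕ := [dig W 0, dig W 1, dig W 2, dig W 3]

theorem wlist_lt (W : ℕ) : ∀ l ∈ wlist W, l < 64 := by
  intro l hl
  simp only [wlist, List.mem_cons, List.not_mem_nil, or_false] at hl
  rcases hl with rfl | rfl | rfl | rfl <;> exact dig_lt _ _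

/-- apply the letters `n - 1, …, 0` of a packed word, in this order -/
def wdn (W : ℕ) (n : ℕ) : ℕ → ℕ :=
  @Nat.rec (fun _ => ℕ → ℕ) (fun p => p) (fun i ih p => force (tauX (dig W i) p) ih) n

theorem wdn_zero (W p : ℕ) : wdn W 0 p = p := rfl

theorem wdn_succ (W n p : ℕ) : wdn W (n + 1) p = wdn W n (tauX (dig W n) p) := force_eq _ _

/-- apply the letters `m - (n - 1), …, m` of a packed word, in this order -/
def wup (W m : ℕ) (n : ℕ) : ℕ → ℕ :=
  @Nat.rec (fun _ => ℕ → ℕ) (fun p => p) (fun i ih p => force (tauX (dig W (Nat.sub m i)) p) ih) n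

theorem wup_zero (W m p : ℕ) : wup W m 0 p = p := rfl

theorem wup_succ (W m n p : ℕ) : wup W m (n + 1) p = wup W m n (tauX (dig W (m - n)) p) :=
  force_eq _ _

/-- the image of a point under the conjugate of the first generator by a packed word -/
def tpW (W p : ℕ) : ℕ := force (wdn W 4 p) fun q => force (tauX 0 q) fun r => wup W 3 4 r

theorem tpW_eq (W p : ℕ) : tpW W p =
    tauX (dig W 3) (tauX (dig W 2) (tauX (dig W 1) (tauX (dig W 0) (tauX 0
      (tauX (dig W 0) (tauX (dig W 1) (tauX (dig W 2) (tauX (dig W 3) p)))))))) := by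
  unfold tpW
  rw [force_eq, force_eq]
  rw [show (4 : ℕ) = 0 + 1 + 1 + 1 + 1 from rfl, wdn_succ, wdn_succ, wdn_succ, wdn_succ, wdn_zero,
    wup_succ, wup_succ, wup_succ, wup_succ, wup_zero]

theorem tpW_lt (W p : ℕ) : tpW W p < 4096 := by
  rw [tpW_eq]
  exact tauX_lt _ _

/-- the letters below 64 are involutions -/
theorem il_of_lt : ∀ l, l < 64 → il l = l := by decide +kernel

theorem winv_wlist (W : ℕ) : winv (wlist W) = [dig W 3, dig W 2, dig W 1, dig W 0] := by
  unfold winv wlist
  simp only [List.map_cons, List.map_nil, List.reverse_cons, List.reverse_nil, List.nil_append,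
    List.cons_append, il_of_lt _ (dig_lt _ _)]

/-- the word of the conjugate of the first generator by a packed word -/
def cjW (W : ℕ) : List ℕ := cj (wlist W) [0]

theorem cjW_eq (W : ℕ) : cjW W =
    [dig W 3, dig W 2, dig W 1, dig W 0, 0, dig W 0, dig W 1, dig W 2, dig W 3] := by
  unfold cjW cj
  rw [winv_wlist]
  rfl

theorem wk_cons (l : ℕ) (hl : l < 80) (w : List ℕ) (p : ℕ) : wk (l :: w) p = wk w (XT.tau l p) := by
  unfold wk nw
  rw [List.map_cons, nl_of_lt hl, Table.walkT_cons]

theorem wk_nil (p : ℕ) : wk [] p = p := rfl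

theorem wk_append (w w' : List ℕ) (p : ℕ) : wk (w ++ w') p = wk w' (wk w p) := by
  unfold wk nw
  rw [List.map_append, Table.walkT_append]

theorem wk_cons_X (l : ℕ) (hl : l < 80) (w : List ℕ) (p : ℕ) (hp : p < 4096) :
    wk (l :: w) p = wk w (tauX l p) := by
  rw [wk_cons l hl, tauX_eq l p hp]

theorem tpW_wk (W p : ℕ) (hp : p < 4096) : tpW W p = wk (cjW W) p := by
  have h0 := dig_lt W 0
  have h1 := dig_lt W 1
  have h2 := dig_lt W 2
  have h3 := dig_lt W 3
  rw [tpW_eq, cjW_eq, wk_cons_X _ (by omega) _ _ hp, wk_cons_X _ (by omega) _ _ (tauX_lt _ _),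
    wk_cons_X _ (by omega) _ _ (tauX_lt _ _), wk_cons_X _ (by omega) _ _ (tauX_lt _ _),
    wk_cons_X _ (by omega) _ _ (tauX_lt _ _), wk_cons_X _ (by omega) _ _ (tauX_lt _ _),
    wk_cons_X _ (by omega) _ _ (tauX_lt _ _), wk_cons_X _ (by omega) _ _ (tauX_lt _ _),
    wk_cons_X _ (by omega) _ _ (tauX_lt _ _), wk_nil]

/-! ### the code of an involution -/

/-- packing of two numbers -/
def pk (a b : ℕ) : ℕ := Nat.add (Nat.mul 4096 a) b

theorem pk_mod (a b : ℕ) (hb : b < 4096) : Nat.land (pk a b) 4095 = b := by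
  unfold pk
  show (4096 * a + b) &&& 4095 = b
  have := Nat.and_two_pow_sub_one_eq_mod (4096 * a + b) 12
  norm_num at this
  rw [this]
  exact Nat.mod_eq_of_lt hb

/-- the next point of the path: the element of order 13, then the map -/
def nx (f : ℕ → ℕ) (q : ℕ) : ℕ := f (tauX 64 q)

/-- the code of a map of the points: the images along the path of the point 2 under the map followed
by the element of order 13, five times, and the image of the point 1 -/
def codeF (f : ℕ → ℕ) : ℕ :=
  pk (pk (pk (pk (pk (pk (f 2) (nx f (f 2))) (nx f (nx f (f 2)))) (nx f (nx f (nx f (f 2)))))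
    (nx f (nx f (nx f (nx f (f 2)))))) (f 1)) (tauX 64 (nx f (nx f (nx f (nx f (f 2))))))

/-- the image of a point under the conjugate of the first generator by the word of four letters:
nested evaluation, the letters have to be numerals for the columns to be looked up only once -/
def tp4 (d0 d1 d2 d3 p : ℕ) : ℕ :=
  Nat.land (Nat.shiftRight (colX.look d3) (Nat.mul 12
  (Nat.land (Nat.shiftRight (colX.look d2) (Nat.mul 12
  (Nat.land (Nat.shiftRight (colX.look d1) (Nat.mul 12
  (Nat.land (Nat.shiftRight (colX.look d0) (Nat.mul 12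
  (Nat.land (Nat.shiftRight cX0 (Nat.mul 12
  (Nat.land (Nat.shiftRight (colX.look d0) (Nat.mul 12
  (Nat.land (Nat.shiftRight (colX.look d1) (Nat.mul 12
  (Nat.land (Nat.shiftRight (colX.look d2) (Nat.mul 12
  (Nat.land (Nat.shiftRight (colX.look d3) (Nat.mul 12 p)) 4095))) 4095))) 4095))) 4095))) 4095)))
    4095))) 4095))) 4095))) 4095

theorem tp4_eq (W p : ℕ) : tp4 (dig W 0) (dig W 1) (dig W 2) (dig W 3) p = tpW W p := by
  rw [tpW_eq]
  rfl

/-- the image of a point under the element of order 13 -/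
def yy (p : ℕ) : ℕ := Nat.land (Nat.shiftRight cX64 (Nat.mul 12 p)) 4095

theorem yy_eq (p : ℕ) : yy p = tauX 64 p := rfl

/-- the code of the conjugate of the first generator by the word of four letters -/
def ecode4 (d0 d1 d2 d3 : ℕ) : ℕ :=
  force (tp4 d0 d1 d2 d3 2) fun q1 => force (tp4 d0 d1 d2 d3 (yy q1)) fun q2 =>
  force (tp4 d0 d1 d2 d3 (yy q2)) fun q3 => force (tp4 d0 d1 d2 d3 (yy q3)) fun q4 =>
  force (tp4 d0 d1 d2 d3 (yy q4)) fun q5 => force (tp4 d0 d1 d2 d3 1) fun q6 =>
    pk (pk (pk (pk (pk (pk q1 q2) q3) q4) q5) q6) (yy q5)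

/-- the code of the conjugate of the first generator by a packed word -/
def ecode (W : ℕ) : ℕ :=
  force (Nat.land W 63) fun d0 => force (Nat.land (Nat.shiftRight W 6) 63) fun d1 =>
  force (Nat.land (Nat.shiftRight W 12) 63) fun d2 => force (Nat.land (Nat.shiftRight W 18) 63) fun d3 =>
    ecode4 d0 d1 d2 d3

theorem ecode_eq (W : ℕ) : ecode W = codeF (tpW W) := by
  have e0 : Nat.land W 63 = dig W 0 := by
    unfold dig
    show W &&& 63 = (W >>> (6 * 0)) &&& 63
    rw [Nat.mul_zero, Nat.shiftRight_zero]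
  have e1 : Nat.land (Nat.shiftRight W 6) 63 = dig W 1 := rfl
  have e2 : Nat.land (Nat.shiftRight W 12) 63 = dig W 2 := rfl
  have e3 : Nat.land (Nat.shiftRight W 18) 63 = dig W 3 := rfl
  unfold ecode ecode4 codeF nx
  simp only [force_eq, e0, e1, e2, e3, tp4_eq, yy_eq]

theorem nx_congr (f g : ℕ → ℕ) (h : ∀ p, p < 4096 → f p = g p) (q q' : ℕ) (hq : q = q') :
    nx f q = nx g q' := by
  unfold nx
  rw [hq]
  exact h _ (tauX_lt _ _)

theorem codeF_congr (f g : ℕ → ℕ) (h : ∀ p, p < 4096 → f p = g p) : codeF f = codeF g := by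
  unfold codeF
  have e1 : f 2 = g 2 := h 2 (by norm_num)
  have e2 := nx_congr f g h _ _ e1
  have e3 := nx_congr f g h _ _ e2
  have e4 := nx_congr f g h _ _ e3
  have e5 := nx_congr f g h _ _ e4
  have e6 : f 1 = g 1 := h 1 (by norm_num)
  rw [e5, e4, e3, e2, e1, e6]

theorem ecode_wk (W : ℕ) : ecode W = codeF (wk (cjW W)) := by
  rw [ecode_eq]
  exact codeF_congr _ _ fun p hp => tpW_wk W p hp

/-- the last component of the code: the image of the point 2 under the fifth power -/
theorem codeF_mod (f : ℕ → ℕ) :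
    Nat.land (codeF f) 4095 = tauX 64 (nx f (nx f (nx f (nx f (f 2))))) := by
  unfold codeF
  exact pk_mod _ _ (tauX_lt _ _)

theorem tauX_lt_n (l p : ℕ) (hl : l < 80) (hp : p < 4060) : tauX l p < 4060 := by
  rw [tauX_eq l p (by omega)]
  exact (hXT.perm p hp l hl).1

theorem nx_congr' (f g : ℕ → ℕ) (hf : ∀ p, p < 4060 → f p < 4060) (h : ∀ p, p < 4060 → f p = g p)
    (q q' : ℕ) (hq : q = q') (hlt : q < 4060) : nx f q = nx g q' ∧ nx f q < 4060 := by
  unfold nx
  rw [← hq]
  have := tauX_lt_n 64 q (by norm_num) hlt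
  exact ⟨h _ this, hf _ this⟩

/-- the code depends only on the images of the points below 4060 -/
theorem codeF_congr' (f g : ℕ → ℕ) (hf : ∀ p, p < 4060 → f p < 4060)
    (h : ∀ p, p < 4060 → f p = g p) : codeF f = codeF g := by
  unfold codeF
  have e1 : f 2 = g 2 := h 2 (by norm_num)
  have l1 : f 2 < 4060 := hf 2 (by norm_num)
  obtain ⟨e2, l2⟩ := nx_congr' f g hf h _ _ e1 l1
  obtain ⟨e3, l3⟩ := nx_congr' f g hf h _ _ e2 l2
  obtain ⟨e4, l4⟩ := nx_congr' f g hf h _ _ e3 l3
  obtain ⟨e5, l5⟩ := nx_congr' f g hf h _ _ e4 l4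
  have e6 : f 1 = g 1 := h 1 (by norm_num)
  rw [e5, e4, e3, e2, e1, e6]

/-! ### the scan of a list of numbers -/

/-- the values `cf 0 < cf 1 < … < cf (n - 1)` lie in `[lo, prev)`, and `okf` holds for the indices -/
def scanG (cf : ℕ → ℕ) (okf : ℕ → Bool) (lo : ℕ) (n : ℕ) : ℕ → Bool :=
  @Nat.rec (fun _ => ℕ → Bool) (fun prev => Nat.ble lo prev)
    (fun i ih prev => and (Nat.blt (cf i) prev) (and (okf i) (ih (cf i)))) n

theorem scanG_zero (cf : ℕ → ℕ) (okf : ℕ → Bool) (lo prev : ℕ) :
    scanG cf okf lo 0 prev = Nat.ble lo prev := rfl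

theorem scanG_succ (cf : ℕ → ℕ) (okf : ℕ → Bool) (lo n prev : ℕ) :
    scanG cf okf lo (n + 1) prev =
      and (Nat.blt (cf n) prev) (and (okf n) (scanG cf okf lo n (cf n))) := rfl

theorem scanG_spec (cf : ℕ → ℕ) (okf : ℕ → Bool) (lo : ℕ) : ∀ (n prev : ℕ),
    scanG cf okf lo n prev = true →
      (∀ i, i < n → okf i = true ∧ lo ≤ cf i ∧ cf i < prev) ∧
      (∀ i j, i < j → j < n → cf i < cf j) ∧ lo ≤ prev := by
  intro n
  induction n with
  | zero =>
    intro prev h
    rw [scanG_zero] at h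
    exact ⟨fun i hi => absurd hi (Nat.not_lt_zero i), fun i j _ hj => absurd hj (Nat.not_lt_zero j),
      Nat.le_of_ble_eq_true h⟩
  | succ n ih =>
    intro prev h
    rw [scanG_succ, Bool.and_eq_true, Bool.and_eq_true] at h
    obtain ⟨h1, h2, h3⟩ := h
    have h1' : cf n < prev := by simpa [Nat.blt] using h1
    obtain ⟨a, b, c⟩ := ih (cf n) h3
    refine ⟨?_, ?_, by omega⟩
    · intro i hi
      rcases Nat.lt_succ_iff_lt_or_eq.mp hi with hlt | rfl
      · obtain ⟨x1, x2, x3⟩ := a i hlt
        exact ⟨x1, x2, by omega⟩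
      · exact ⟨h2, c, h1'⟩
    · intro i j hij hj
      rcases Nat.lt_succ_iff_lt_or_eq.mp hj with hlt | rfl
      · exact b i j hij hlt
      · exact (a i hij).2.2

end

end Cfsg.Agent.Lib.Helper15.RuO
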