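import Cfsg.Agent.Lib.Helper15.RuOClsDef

set_option autoImplicit false
set_option maxRecDepth 100000
set_option maxHeartbeats 0

/-!
Further checks for the Rudvalis group on 4060 points: the element of order 13, the element
normalising it, the elements centralising it, the exceptional conjugates of the first generator, the
generators as words in the generating pair, elements of orders 3 and 5 centralising the first
generator.
-/

namespace Cfsg.Agent.Lib.Helper15.RuO
open Cfsg.Agent.Lib.Helper28.TC2Upper Cfsg.Agent.Lib.Helper28.TC2Lower

noncomputable section

theorem chk_y13 : sigEq (rpt 13 [64]) [] = true := by decide +kernel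

theorem chk_y1 : sigEq [64] [] = false := by decide +kernel

theorem chk_yinv : sigEq [64, 65] [] = true := by decide +kernel

theorem chk_n : sigEq (cj [66] [64]) (rpt 2 [64]) = true := by decide +kernel

theorem chk_rel : relFailA [0] = false := by decide +kernel

theorem chk_v1 : sigEq ([68] ++ [64]) ([64] ++ [68]) = true := by decide +kernel

theorem chk_v2 : sigEq ([71] ++ [64]) ([64] ++ [71]) = true := by decide +kernel

/-- the words of the elements of the four-group centralising the element of order 13 -/
def VW : List (List ℕ) := [[], [68], [71], [68, 71]]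

/-- the codes of the conjugates of the first generator by the centraliser of the element of order 13 -/
def excL : List ℕ :=
  VW.flatMap fun V => (List.range 13).map fun i => codeW (cj (V ++ rpt i [64]) [0])

theorem chk_exc : (EXC4.all fun c => memB c excL) = true := by decide +kernel

/-- the generators as conjugates of the first generator by words in the generating pair -/
def MWs : List (ℕ × List ℕ) :=
  [(1, [65, 0, 64, 64, 0, 65, 65, 65, 65, 65, 0, 64, 0, 65, 65, 0, 65, 65, 0, 65]),
   (2, [65, 0, 65, 0, 64, 64, 64, 64, 64, 0, 65, 65, 0, 65, 65, 65, 65, 0, 65, 0]),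
   (3, [65, 0, 65, 65, 0, 65, 65, 65, 0, 64, 64, 64, 64, 0, 65, 65, 65, 65, 65, 65]),
   (4, [64, 0, 64, 64, 64, 0, 65, 65, 0, 64, 64, 64, 0, 65, 0, 65, 65, 0, 64, 0, 64])]

theorem chk_mw : (MWs.all fun p => sigEq [p.1] (cj p.2 [0]) && p.2.all fun l => memB l [0, 64, 65]) =
    true := by
  decide +kernel

theorem chk_mw_letters : MWs.map Prod.fst = [1, 2, 3, 4] := by decide +kernel

/-- the word of an element of order 3 centralising the first generator -/
def C3 : List ℕ := [1, 72]

/-- the word of an element of order 5 centralising the first generator -/
def C5 : List ℕ := [0, 1, 4, 73]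

theorem chk_c3 : (sigEq (rpt 3 C3) [] && !(sigEq C3 []) && sigEq ([0] ++ C3) (C3 ++ [0])) = true := by
  decide +kernel

theorem chk_c5 : (sigEq (rpt 5 C5) [] && !(sigEq C5 []) && sigEq ([0] ++ C5) (C5 ++ [0])) = true := by
  decide +kernel

end

end Cfsg.Agent.Lib.Helper15.RuO
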