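import Cfsg.Agent.Lib.Helper15.RuOSylChk

set_option autoImplicit false
set_option maxRecDepth 100000

/-!
A Sylow 2-subgroup of the Rudvalis group on 4060 points: it has order 16384 and its centre is generated
by the first generator of the presentation; hence every automorphism maps the first generator to a
conjugate.
-/

namespace Cfsg.Agent.Lib.Helper15.RuO
open Cfsg.Agent.Lib.Helper28.TC2Upper Cfsg.Agent.Lib.Helper28.TC2Lower Cfsg.Agent.Lib.Helper28.TC2Range
open Cfsg.Agent.Lib.Helper28.TC2Bsgs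

attribute [local irreducible] wk gwp codeW

noncomputable section

/-! ### the checks for all indices -/

theorem syl_words (i : ℕ) (hi : i < 16384) : (∀ l ∈ pwl i, l ∈ SLs) ∧ codeW (pwl i) = pc i := by
  rcases Nat.lt_or_ge i 4096 with h | h
  · exact sylWordsB_spec sylWords0 i (by omega) (by omega)
  rcases Nat.lt_or_ge i 8192 with h' | h'
  · exact sylWordsB_spec sylWords1 i (by omega) (by omega)
  rcases Nat.lt_or_ge i 12288 with h'' | h''
  · exact sylWordsB_spec sylWords2 i (by omega) (by omega)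
  · exact sylWordsB_spec sylWords3 i (by omega) (by omega)

theorem syl_table (i : ℕ) (hi : i < 16384) (k : ℕ) (hk : k < 7) :
    mapCode (sylL k) (pc i) = pc (pm i k) := by
  rcases Nat.lt_or_ge i 4096 with h | h
  · exact sylTableB_spec sylTable0 i (by omega) (by omega) k hk
  rcases Nat.lt_or_ge i 8192 with h' | h'
  · exact sylTableB_spec sylTable1 i (by omega) (by omega) k hk
  rcases Nat.lt_or_ge i 12288 with h'' | h''
  · exact sylTableB_spec sylTable2 i (by omega) (by omega) k hk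
  · exact sylTableB_spec sylTable3 i (by omega) (by omega) k hk

theorem syl_cent (i : ℕ) (hi : i < 16384) (h1 : 1 < i) :
    ∃ l ∈ SLs, ∃ b, b < 4 ∧ wk (l :: pwl i) b ≠ wk (pwl i ++ [l]) b := by
  rcases Nat.lt_or_ge i 4096 with h | h
  · exact sylCentB_spec sylCent0 i (by omega) (by omega) h1
  rcases Nat.lt_or_ge i 8192 with h' | h'
  · exact sylCentB_spec sylCent1 i (by omega) (by omega) h1
  rcases Nat.lt_or_ge i 12288 with h'' | h''
  · exact sylCentB_spec sylCent2 i (by omega) (by omega) h1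
  · exact sylCentB_spec sylCent3 i (by omega) (by omega) h1

theorem syl_mono : ∀ j i, i < j → j < 16384 → pc i < pc j := by
  intro j
  induction j with
  | zero => intro i hi; omega
  | succ j ih =>
    intro i hi hj
    have h1 : pc j < pc (j + 1) := sylIncrB_spec sylIncr j (by omega) (by omega)
    rcases Nat.lt_succ_iff_lt_or_eq.mp hi with h | rfl
    · exact lt_trans (ih i h (by omega)) h1
    · exact h1

theorem pc_inj {i j : ℕ} (hi : i < 16384) (hj : j < 16384) (h : pc i = pc j) : i = j := by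
  rcases Nat.lt_trichotomy i j with hlt | heq | hgt
  · exact absurd h (ne_of_lt (syl_mono j i hlt hj))
  · exact heq
  · exact absurd h.symm (ne_of_lt (syl_mono i j hgt hi))

theorem pc_zero : pc 0 = codeW [] := by
  have h := sylOne
  rw [Bool.and_eq_true] at h
  exact Nat.eq_of_beq_eq_true h.1

theorem pc_one : pc 1 = codeW [0] := by
  have h := sylOne
  rw [Bool.and_eq_true] at h
  exact Nat.eq_of_beq_eq_true (of_decide_eq_true h.2)

/-! ### the codes of products with letters -/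

/-- the image of a point under an element -/
def pv (g : ↥G) (b : ℕ) : ℕ := if h : b < XT.n then (g.1 ⟨b, h⟩).val else 0

theorem pv_lt (g : ↥G) (b : ℕ) : pv g b < 4060 := by
  unfold pv
  split_ifs with h
  · exact (g.1 ⟨b, h⟩).2
  · norm_num

theorem hcode_eq (g : ↥G) :
    hcode g = (((0 * 4096 + pv g 0) * 4096 + pv g 1) * 4096 + pv g 2) * 4096 + pv g 3 := rfl

theorem pv_mul (l : ℕ) (hl : l < 80) (g : ↥G) (b : ℕ) (hb : b < 4060) :
    pv (gw [l] * g) b = tauX l (pv g b) := by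
  have hb' : b < XT.n := hb
  unfold pv
  rw [dif_pos hb', dif_pos hb']
  have e : (gw [l] * g).1 ⟨b, hb'⟩ = (gwp [l]) (g.1 ⟨b, hb'⟩) := rfl
  rw [e, gwp_apply, wk_cons l hl, wk_nil, tauX_eq]
  exact lt_trans (g.1 ⟨b, hb'⟩).2 (show (4060 : ℕ) < 4096 by norm_num)

theorem comp_code (a0 a1 a2 a3 : ℕ) (h0 : a0 < 4096) (h1 : a1 < 4096) (h2 : a2 < 4096)
    (h3 : a3 < 4096) :
    comp ((((0 * 4096 + a0) * 4096 + a1) * 4096 + a2) * 4096 + a3) 0 = a0 ∧
    comp ((((0 * 4096 + a0) * 4096 + a1) * 4096 + a2) * 4096 + a3) 1 = a1 ∧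
    comp ((((0 * 4096 + a0) * 4096 + a1) * 4096 + a2) * 4096 + a3) 2 = a2 ∧
    comp ((((0 * 4096 + a0) * 4096 + a1) * 4096 + a2) * 4096 + a3) 3 = a3 := by
  unfold comp
  refine ⟨?_, ?_, ?_, ?_⟩
  · show ((((0 * 4096 + a0) * 4096 + a1) * 4096 + a2) * 4096 + a3) >>> (12 * (3 - 0)) % 4096 = a0
    rw [Nat.shiftRight_eq_div_pow]
    norm_num
    omega
  · show ((((0 * 4096 + a0) * 4096 + a1) * 4096 + a2) * 4096 + a3) >>> (12 * (3 - 1)) % 4096 = a1
    rw [Nat.shiftRight_eq_div_pow]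
    norm_num
    omega
  · show ((((0 * 4096 + a0) * 4096 + a1) * 4096 + a2) * 4096 + a3) >>> (12 * (3 - 2)) % 4096 = a2
    rw [Nat.shiftRight_eq_div_pow]
    norm_num
    omega
  · show ((((0 * 4096 + a0) * 4096 + a1) * 4096 + a2) * 4096 + a3) >>> (12 * (3 - 3)) % 4096 = a3
    rw [Nat.shiftRight_eq_div_pow]
    norm_num
    omega

theorem hcode_mul (l : ℕ) (hl : l < 80) (g : ↥G) : hcode (gw [l] * g) = mapCode l (hcode g) := by
  have b0 := pv_lt g 0
  have b1 := pv_lt g 1
  have b2 := pv_lt g 2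
  have b3 := pv_lt g 3
  obtain ⟨c0, c1, c2, c3⟩ := comp_code (pv g 0) (pv g 1) (pv g 2) (pv g 3) (by omega) (by omega)
    (by omega) (by omega)
  rw [hcode_eq, hcode_eq g]
  unfold mapCode
  rw [c0, c1, c2, c3, pv_mul l hl g 0 (by norm_num), pv_mul l hl g 1 (by norm_num),
    pv_mul l hl g 2 (by norm_num), pv_mul l hl g 3 (by norm_num)]
  show _ = 4096 * (4096 * (4096 * tauX l (pv g 0) + tauX l (pv g 1)) + tauX l (pv g 2)) +
    tauX l (pv g 3)
  ring

/-! ### the Sylow subgroup -/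

/-- the elements with the listed codes -/
def X : Set ↥G := {g | ∃ i, i < 16384 ∧ hcode g = pc i}

theorem one_mem_X : (1 : ↥G) ∈ X := by
  refine ⟨0, by norm_num, ?_⟩
  rw [pc_zero, codeW_eq, gw_nil]

theorem mem_SLs {l : ℕ} (hl : l ∈ SLs) : ∃ k, k < 7 ∧ sylL k = l := by
  simp only [SLs, List.mem_cons, List.not_mem_nil, or_false] at hl
  rcases hl with rfl | rfl | rfl | rfl | rfl | rfl | rfl
  exacts [⟨0, by norm_num, rfl⟩, ⟨1, by norm_num, rfl⟩, ⟨2, by norm_num, rfl⟩, ⟨3, by norm_num, rfl⟩,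
    ⟨4, by norm_num, rfl⟩, ⟨5, by norm_num, rfl⟩, ⟨6, by norm_num, rfl⟩]

theorem mul_mem_X {l : ℕ} (hl : l ∈ SLs) {g : ↥G} (hg : g ∈ X) : gw [l] * g ∈ X := by
  obtain ⟨i, hi, hgi⟩ := hg
  obtain ⟨k, hk, rfl⟩ := mem_SLs hl
  refine ⟨pm i k, pm_lt i k, ?_⟩
  rw [hcode_mul _ (SLs_lt _ hl), hgi]
  exact syl_table i hi k hk

theorem pow_mul_mem_X {l : ℕ} (hl : l ∈ SLs) {g : ↥G} (hg : g ∈ X) (m : ℕ) : gw [l] ^ m * g ∈ X := by
  induction m with
  | zero => rw [pow_zero, one_mul]; exact hg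
  | succ m ih =>
    rw [pow_succ', mul_assoc]
    exact mul_mem_X hl ih

theorem inv_mul_mem_X {l : ℕ} (hl : l ∈ SLs) {g : ↥G} (hg : g ∈ X) : (gw [l])⁻¹ * g ∈ X := by
  have ho : 0 < orderOf (gw [l]) := orderOf_pos _
  have e : (gw [l])⁻¹ = gw [l] ^ (orderOf (gw [l]) - 1) := by
    rw [inv_eq_iff_mul_eq_one, ← pow_succ']
    have : orderOf (gw [l]) - 1 + 1 = orderOf (gw [l]) := by omega
    rw [this, pow_orderOf_eq_one]
  rw [e]
  exact pow_mul_mem_X hl hg _

/-- the Sylow 2-subgroup -/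
def P : Subgroup ↥G := Subgroup.closure {g | ∃ l ∈ SLs, g = gw [l]}

theorem P_le_X {g : ↥G} (hg : g ∈ P) : g ∈ X := by
  unfold P at hg
  induction hg using Subgroup.closure_induction_left with
  | one => exact one_mem_X
  | mul_left x hx y _ ih =>
    obtain ⟨l, hl, rfl⟩ := hx
    exact mul_mem_X hl ih
  | inv_mul_cancel x hx y _ ih =>
    obtain ⟨l, hl, rfl⟩ := hx
    exact inv_mul_mem_X hl ih

theorem gw_letter_mem_P {l : ℕ} (hl : l ∈ SLs) : gw [l] ∈ P :=
  Subgroup.subset_closure ⟨l, hl, rfl⟩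

theorem gw_mem_P (w : List ℕ) (hw : ∀ l ∈ w, l ∈ SLs) : gw w ∈ P := by
  induction w with
  | nil => rw [gw_nil]; exact P.one_mem
  | cons l w ih =>
    have e : l :: w = [l] ++ w := rfl
    rw [e, gw_append]
    exact P.mul_mem (ih fun x hx => hw x (List.mem_cons_of_mem _ hx))
      (gw_letter_mem_P (hw l List.mem_cons_self))

theorem hcode_pwl {i : ℕ} (hi : i < 16384) : hcode (gw (pwl i)) = pc i := by
  rw [← codeW_eq]
  exact (syl_words i hi).2

theorem pwl_mem_P {i : ℕ} (hi : i < 16384) : gw (pwl i) ∈ P := gw_mem_P _ (syl_words i hi).1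

theorem eq_pwl_of_mem_P {g : ↥G} (hg : g ∈ P) : ∃ i, i < 16384 ∧ g = gw (pwl i) := by
  obtain ⟨i, hi, hgi⟩ := P_le_X hg
  exact ⟨i, hi, hcode_injective (hgi.trans (hcode_pwl hi).symm)⟩

theorem card_P : Nat.card ↥P = 16384 := by
  let f : Fin 16384 → ↥P := fun i => ⟨gw (pwl i.val), pwl_mem_P i.isLt⟩
  have hf : Function.Bijective f := by
    constructor
    · intro i j h
      have h1 : gw (pwl i.val) = gw (pwl j.val) := congrArg Subtype.val h
      have h2 : pc i.val = pc j.val := by rw [← hcode_pwl i.isLt, ← hcode_pwl j.isLt, h1]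
      exact Fin.ext (pc_inj i.isLt j.isLt h2)
    · rintro ⟨g, hg⟩
      obtain ⟨i, hi, rfl⟩ := eq_pwl_of_mem_P hg
      exact ⟨⟨i, hi⟩, rfl⟩
  rw [← Nat.card_congr (Equiv.ofBijective f hf), Nat.card_fin]

/-! ### the centre of the Sylow subgroup -/

theorem gw_eq_wk {w w' : List ℕ} (h : gw w = gw w') (b : ℕ) (hb : b < XT.n) : wk w b = wk w' b := by
  have e : gwp w = gwp w' := congrArg Subtype.val h
  rw [← gwp_apply w ⟨b, hb⟩, ← gwp_apply w' ⟨b, hb⟩, e]

/-- the centre of the Sylow subgroup consists of the identity and the first generator -/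
theorem center_P {g : ↥G} (hg : g ∈ P) (hc : ∀ h ∈ P, h * g = g * h) : g = 1 ∨ g = gw [0] := by
  obtain ⟨i, hi, rfl⟩ := eq_pwl_of_mem_P hg
  rcases Nat.lt_or_ge 1 i with h1 | h1
  · exfalso
    obtain ⟨l, hl, b, hb, hne⟩ := syl_cent i hi h1
    apply hne
    apply gw_eq_wk _ b (lt_trans hb (by decide))
    have e : l :: pwl i = [l] ++ pwl i := rfl
    rw [e, gw_append, gw_append]
    exact (hc _ (gw_letter_mem_P hl)).symm
  · have : i = 0 ∨ i = 1 := by omega
    rcases this with rfl | rfl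
    · left
      apply hcode_injective
      rw [hcode_pwl hi, pc_zero, codeW_eq, gw_nil]
    · right
      apply hcode_injective
      rw [hcode_pwl hi, pc_one, codeW_eq]

/-! ### automorphisms and the Sylow subgroup -/

theorem isPGroup_of_card {H : Subgroup ↥G} (h : Nat.card ↥H = 16384) : IsPGroup 2 ↥H :=
  IsPGroup.of_card (n := 14) (by rw [h]; norm_num)

/-- a subgroup of order 16384 is a Sylow 2-subgroup -/
theorem exists_sylow_eq (H : Subgroup ↥G) (h : Nat.card ↥H = 16384) :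
    ∃ Q : Sylow 2 ↥G, (Q : Subgroup ↥G) = H := by
  have : Fact (Nat.Prime 2) := ⟨Nat.prime_two⟩
  obtain ⟨Q, hQ⟩ := (isPGroup_of_card h).exists_le_sylow
  refine ⟨Q, ?_⟩
  obtain ⟨n, hn⟩ := IsPGroup.iff_card.mp Q.isPGroup'
  have hdvd : 2 ^ n ∣ Nat.card ↥G := by
    rw [← hn]
    exact Subgroup.card_subgroup_dvd_card _
  have hn14 : n ≤ 14 := by
    by_contra hlt
    push Not at hlt
    have h15 : 2 ^ 15 ∣ Nat.card ↥G := (pow_dvd_pow 2 hlt).trans hdvd
    rw [card_G] at h15
    norm_num at h15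
  have hle : Nat.card (Q : Subgroup ↥G) ≤ Nat.card ↥H := by
    rw [hn, h]
    calc 2 ^ n ≤ 2 ^ 14 := Nat.pow_le_pow_right (by norm_num) hn14
      _ = 16384 := by norm_num
  exact (Subgroup.eq_of_le_of_card_ge hQ hle).symm

/-- an automorphism maps the Sylow subgroup to a conjugate -/
theorem exists_conj_P (α : MulAut ↥G) : ∃ g : ↥G, ∀ x ∈ P, g * α x * g⁻¹ ∈ P := by
  have : Fact (Nat.Prime 2) := ⟨Nat.prime_two⟩
  obtain ⟨Q0, hQ0⟩ := exists_sylow_eq P card_P
  have hcard : Nat.card ↥(P.map α.toMonoidHom) = 16384 := by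
    rw [Subgroup.card_map_of_injective α.injective]
    exact card_P
  obtain ⟨Q1, hQ1⟩ := exists_sylow_eq _ hcard
  obtain ⟨g, hg⟩ := MulAction.exists_smul_eq ↥G Q1 Q0
  refine ⟨g, ?_⟩
  intro x hx
  rw [← hQ0, ← hg, Sylow.coe_subgroup_smul]
  refine ⟨α x, ?_, rfl⟩
  rw [hQ1]
  exact ⟨x, hx, rfl⟩

/-- the first generator commutes with the generators of the Sylow subgroup -/
theorem P_le_centralizer : P ≤ Subgroup.centralizer ({gw [0]} : Set ↥G) := by
  unfold P
  rw [Subgroup.closure_le]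
  rintro _ ⟨l, hl, rfl⟩
  rw [SetLike.mem_coe, Subgroup.mem_centralizer_iff]
  intro h hh
  rw [Set.mem_singleton_iff] at hh
  subst hh
  have hc := sylComm
  rw [List.all_eq_true] at hc
  have := (sigEq_iff _ _).mp (hc l hl)
  rw [gw_append, gw_append] at this
  exact this.symm

theorem gw_zero_ne_one : gw [0] ≠ (1 : ↥G) := by
  intro h
  have h3 : pc 1 = pc 0 := by rw [pc_one, pc_zero, codeW_eq, codeW_eq, h, gw_nil]
  exact absurd (pc_inj (by norm_num) (by norm_num) h3) (by norm_num)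

/-- an automorphism maps the first generator to a conjugate -/
theorem aut_t_conj (α : MulAut ↥G) : ∃ g : ↥G, g * α (gw [0]) * g⁻¹ = gw [0] := by
  obtain ⟨g, hg⟩ := exists_conj_P α
  refine ⟨g, ?_⟩
  let β : MulAut ↥G := MulAut.conj g * α
  have hβ : ∀ x, β x = g * α x * g⁻¹ := fun x => rfl
  have hmaps : ∀ x ∈ P, β x ∈ P := fun x hx => by rw [hβ]; exact hg x hx
  have hfin : Finite ↥P := Nat.finite_of_card_ne_zero (by rw [card_P]; norm_num)
  let r : ↥P → ↥P := fun x => ⟨β x.1, hmaps x.1 x.2⟩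
  have hrinj : Function.Injective r := by
    intro a b hab
    have : β a.1 = β b.1 := congrArg Subtype.val hab
    exact Subtype.ext (β.injective this)
  have hrsurj : Function.Surjective r := Finite.injective_iff_surjective.mp hrinj
  have ht : gw [0] ∈ P := gw_letter_mem_P (by simp [SLs])
  have hcent : ∀ h ∈ P, h * β (gw [0]) = β (gw [0]) * h := by
    intro h hh
    obtain ⟨⟨h', hh'⟩, hr⟩ := hrsurj ⟨h, hh⟩
    have e : β h' = h := congrArg Subtype.val hr
    rw [← e, ← map_mul, ← map_mul]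
    congr 1
    have := Subgroup.mem_centralizer_iff.mp (P_le_centralizer hh') (gw [0]) (Set.mem_singleton _)
    exact this.symm
  rcases center_P (hmaps _ ht) hcent with h1 | h1
  · exfalso
    apply gw_zero_ne_one
    apply β.injective
    rw [h1, map_one]
  · rw [← hβ]
    exact h1

end

end Cfsg.Agent.Lib.Helper15.RuO
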