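import Cfsg.Agent.Lib.Helper15.RuOClsAll
import Cfsg.Agent.Lib.Helper15.RuOMainChk
import Cfsg.Agent.Lib.Helper15.RuOSyl

set_option autoImplicit false
set_option maxRecDepth 100000

/-!
The Rudvalis group on 4060 points has no outer automorphisms: every automorphism maps a generating
pair (the first generator, an element of order 13) to a conjugate of the pair.
-/

namespace Cfsg.Agent.Lib.Helper15.RuO
open Cfsg.Agent.Lib.Helper28.TC2Upper Cfsg.Agent.Lib.Helper28.TC2Lower Cfsg.Agent.Lib.Helper28.TC2Bsgs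
open Cfsg.Agent.Lib.Helper10.OutG

attribute [local irreducible] wk gwp codeW hcode sigEq

noncomputable section

/-- an element normalising the subgroup of order 13 -/
def nn : ↥G := gw [66]

/-! ### the generating pair -/

theorem y_pow : y ^ 13 = 1 := by
  have := (sigEq_iff _ _).mp chk_y13
  rwa [gw_rpt, gw_nil] at this

theorem y_ne : y ≠ 1 := by
  have := (sigEq_eq_false_iff [64] []).mp chk_y1
  rwa [gw_nil] at this

theorem orderOf_y : orderOf y = 13 := by
  have : Fact (Nat.Prime 13) := ⟨by norm_num⟩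
  exact orderOf_eq_prime y_pow y_ne

theorem gw_rpt_y (i : ℕ) : gw (rpt i [64]) = y ^ i := gw_rpt i [64]

theorem gw_yinv : gw [65] = y⁻¹ := by
  have := (sigEq_iff _ _).mp chk_yinv
  have e : ([64, 65] : List ℕ) = [64] ++ [65] := rfl
  rw [e, gw_append, gw_nil] at this
  exact eq_inv_of_mul_eq_one_left this

theorem nn_conj : nn * y * nn⁻¹ = y ^ 2 := by
  have := (sigEq_iff _ _).mp chk_n
  rw [gw_cj] at this
  exact this.trans (gw_rpt_y 2)

theorem nn_pow_conj (i m : ℕ) : nn ^ i * y ^ m * (nn ^ i)⁻¹ = y ^ (m * 2 ^ i) := by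
  induction i generalizing m with
  | zero => rw [pow_zero, one_mul, inv_one, mul_one, pow_zero, mul_one]
  | succ i ih =>
    have e : nn ^ (i + 1) * y ^ m * (nn ^ (i + 1))⁻¹ =
        nn * (nn ^ i * y ^ m * (nn ^ i)⁻¹) * nn⁻¹ := by
      rw [pow_succ']
      group
    rw [e, ih, ← conj_pow, nn_conj, ← pow_mul, pow_succ]
    congr 1
    ring

/-- the elements of order 13 are conjugate -/
theorem exists_conj_y (y' : ↥G) (hy' : orderOf y' = 13) : ∃ g : ↥G, g * y' * g⁻¹ = y := by
  have : Fact (Nat.Prime 13) := ⟨by norm_num⟩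
  obtain ⟨g0, hg0⟩ := exists_conj_mem_zpowers 13 (by rw [card_G]; norm_num) y y' orderOf_y hy'
  have ho : orderOf (g0 * y' * g0⁻¹) = 13 := by
    rw [← MulAut.conj_apply, MulEquiv.orderOf_eq]
    exact hy'
  rw [← mem_powers_iff_mem_zpowers, Submonoid.mem_powers_iff] at hg0
  obtain ⟨m, hm⟩ := hg0
  have hm' : y ^ (m % 13) = g0 * y' * g0⁻¹ := by
    rw [← hm, ← orderOf_y, pow_mod_orderOf]
  have hm0 : m % 13 ≠ 0 := by
    intro h0
    rw [h0, pow_zero] at hm'
    rw [← hm', orderOf_one] at ho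
    omega
  have hdec : ∀ r < 13, r ≠ 0 → ∃ i < 12, (r * 2 ^ i) % 13 = 1 := by
    decide
  obtain ⟨i, -, hi⟩ := hdec (m % 13) (Nat.mod_lt _ (by norm_num)) hm0
  refine ⟨nn ^ i * g0, ?_⟩
  have e : nn ^ i * g0 * y' * (nn ^ i * g0)⁻¹ = nn ^ i * (g0 * y' * g0⁻¹) * (nn ^ i)⁻¹ := by
    group
  rw [e, ← hm', nn_pow_conj]
  have hp : y ^ (m % 13 * 2 ^ i) = y ^ ((m % 13 * 2 ^ i) % 13) := by
    rw [← orderOf_y, pow_mod_orderOf]
  rw [hp, hi, pow_one]

theorem rel_ty : Rel t y := rel_of_not_fail (A := [0]) chk_rel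

/-! ### the class of the first generator -/

theorem gw_C3_mem : gw C3 ∈ Subgroup.centralizer ({t} : Set ↥G) := by
  rw [Subgroup.mem_centralizer_iff]
  intro h hh
  rw [Set.mem_singleton_iff] at hh
  subst hh
  have hc := chk_c3
  rw [Bool.and_eq_true, Bool.and_eq_true] at hc
  have := (sigEq_iff _ _).mp hc.2
  rw [gw_append, gw_append] at this
  exact this.symm

theorem orderOf_C3 : orderOf (gw C3) = 3 := by
  have : Fact (Nat.Prime 3) := ⟨by norm_num⟩
  have hc := chk_c3
  rw [Bool.and_eq_true, Bool.and_eq_true, Bool.not_eq_true'] at hc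
  apply orderOf_eq_prime
  · have := (sigEq_iff _ _).mp hc.1.1
    rwa [gw_rpt, gw_nil] at this
  · have := (sigEq_eq_false_iff _ _).mp hc.1.2
    rwa [gw_nil] at this

theorem gw_C5_mem : gw C5 ∈ Subgroup.centralizer ({t} : Set ↥G) := by
  rw [Subgroup.mem_centralizer_iff]
  intro h hh
  rw [Set.mem_singleton_iff] at hh
  subst hh
  have hc := chk_c5
  rw [Bool.and_eq_true, Bool.and_eq_true] at hc
  have := (sigEq_iff _ _).mp hc.2
  rw [gw_append, gw_append] at this
  exact this.symm

theorem orderOf_C5 : orderOf (gw C5) = 5 := by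
  have : Fact (Nat.Prime 5) := ⟨by norm_num⟩
  have hc := chk_c5
  rw [Bool.and_eq_true, Bool.and_eq_true, Bool.not_eq_true'] at hc
  apply orderOf_eq_prime
  · have := (sigEq_iff _ _).mp hc.1.1
    rwa [gw_rpt, gw_nil] at this
  · have := (sigEq_eq_false_iff _ _).mp hc.1.2
    rwa [gw_nil] at this

/-- the order of the centraliser of the first generator -/
theorem card_centralizer_ge : 245760 ≤ Nat.card ↥(Subgroup.centralizer ({t} : Set ↥G)) := by
  have h2 : 16384 ∣ Nat.card ↥(Subgroup.centralizer ({t} : Set ↥G)) := by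
    rw [← card_P]
    exact Subgroup.card_dvd_of_le P_le_centralizer
  have h3 : 3 ∣ Nat.card ↥(Subgroup.centralizer ({t} : Set ↥G)) := by
    rw [← orderOf_C3]
    exact Subgroup.orderOf_dvd_natCard _ gw_C3_mem
  have h5 : 5 ∣ Nat.card ↥(Subgroup.centralizer ({t} : Set ↥G)) := by
    rw [← orderOf_C5]
    exact Subgroup.orderOf_dvd_natCard _ gw_C5_mem
  have h15 : 15 ∣ Nat.card ↥(Subgroup.centralizer ({t} : Set ↥G)) :=
    Nat.Coprime.mul_dvd_of_dvd_of_dvd (by norm_num) h3 h5
  have hall : 16384 * 15 ∣ Nat.card ↥(Subgroup.centralizer ({t} : Set ↥G)) :=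
    Nat.Coprime.mul_dvd_of_dvd_of_dvd (by norm_num) h2 h15
  exact Nat.le_of_dvd Nat.card_pos hall

theorem card_class_t : {x : ↥G | IsConj t x}.ncard ≤ 593775 := by
  have h := ncard_isConj t
  rw [card_G] at h
  have hc := card_centralizer_ge
  by_contra hlt
  push Not at hlt
  have : 593776 * 245760 ≤ {x : ↥G | IsConj t x}.ncard *
      Nat.card ↥(Subgroup.centralizer ({t} : Set ↥G)) := Nat.mul_le_mul hlt hc
  omega

/-! ### the images of the generating pair under automorphisms -/

/-- the elements of the four-group centralising the element of order 13 commute with it -/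
theorem VW_comm {V : List ℕ} (hV : V ∈ VW) : gw V * y = y * gw V := by
  have c1 : gw [68] * y = y * gw [68] := by
    have := (sigEq_iff _ _).mp chk_v1
    rw [gw_append, gw_append] at this
    exact this.symm
  have c2 : gw [71] * y = y * gw [71] := by
    have := (sigEq_iff _ _).mp chk_v2
    rw [gw_append, gw_append] at this
    exact this.symm
  simp only [VW, List.mem_cons, List.not_mem_nil, or_false] at hV
  rcases hV with rfl | rfl | rfl | rfl
  · rw [gw_nil, one_mul, mul_one]
  · exact c1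
  · exact c2
  · have e : ([68, 71] : List ℕ) = [68] ++ [71] := rfl
    rw [e, gw_append, mul_assoc, c1, ← mul_assoc, c2, mul_assoc]

theorem exc_spec {c : ℕ} (hc : c ∈ EXC4) :
    ∃ V ∈ VW, ∃ i : ℕ, c = codeW (cj (V ++ rpt i [64]) [0]) := by
  have h := chk_exc
  rw [List.all_eq_true] at h
  have hm := (memB_iff _ _).mp (h c hc)
  unfold excL at hm
  rw [List.mem_flatMap] at hm
  obtain ⟨V, hV, hm⟩ := hm
  rw [List.mem_map] at hm
  obtain ⟨i, -, hi⟩ := hm
  exact ⟨V, hV, i, hi.symm⟩

theorem aut_images (α : MulAut ↥G) : ∃ h : ↥G, α t = h * t * h⁻¹ ∧ α y = h * y * h⁻¹ := by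
  have hαy : orderOf (α y) = 13 := by
    rw [MulEquiv.orderOf_eq]
    exact orderOf_y
  obtain ⟨g, hg⟩ := exists_conj_y (α y) hαy
  let β : MulAut ↥G := MulAut.conj g * α
  have hβt : β t = g * α t * g⁻¹ := rfl
  have hβy : β y = g * α y * g⁻¹ := rfl
  have hrel : Rel (β t) (β y) := rel_ty.map β.toMonoidHom
  rw [hβy, hg] at hrel
  have hconj : IsConj t (β t) := by
    obtain ⟨k, hk⟩ := aut_t_conj β
    have hk' : k * β t * k⁻¹ = t := hk
    rw [isConj_iff]
    refine ⟨k⁻¹, ?_⟩
    calc k⁻¹ * t * k⁻¹⁻¹ = k⁻¹ * (k * β t * k⁻¹) * k⁻¹⁻¹ := by rw [hk']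
      _ = β t := by group
  rcases rel_or_exc card_class_t (β t) hconj with hf | hex
  · exact absurd hrel hf
  · obtain ⟨V, hV, i, hi⟩ := exc_spec hex
    have hvw : β t = gw (cj (V ++ rpt i [64]) [0]) := by
      apply hcode_injective
      rw [hi, codeW_eq]
    rw [gw_cj, gw_append, gw_rpt_y] at hvw
    set c : ↥G := y ^ i * gw V with hc
    have hcy : c * y * c⁻¹ = y := by
      have h1 : c * y = y * c := by
        rw [hc, mul_assoc, VW_comm hV, ← mul_assoc, ← pow_succ, pow_succ', mul_assoc]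
      rw [h1, mul_inv_cancel_right]
    refine ⟨g⁻¹ * c, ?_, ?_⟩
    · calc α t = g⁻¹ * (g * α t * g⁻¹) * g := by group
        _ = g⁻¹ * (c * t * c⁻¹) * g := by rw [← hβt, hvw]; rfl
        _ = _ := by group
    · calc α y = g⁻¹ * (g * α y * g⁻¹) * g := by group
        _ = g⁻¹ * (c * y * c⁻¹) * g := by rw [hg, hcy]
        _ = _ := by group

/-! ### generation -/

theorem gw_mem_closure (w : List ℕ) (hw : ∀ l ∈ w, l ∈ [0, 64, 65]) :
    gw w ∈ Subgroup.closure ({t, y} : Set ↥G) := by
  induction w with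
  | nil =>
    rw [gw_nil]
    exact (Subgroup.closure ({t, y} : Set ↥G)).one_mem
  | cons l w ih =>
    have e : l :: w = [l] ++ w := rfl
    rw [e, gw_append]
    apply Subgroup.mul_mem _ (ih fun x hx => hw x (List.mem_cons_of_mem _ hx))
    have hl := hw l List.mem_cons_self
    simp only [List.mem_cons, List.not_mem_nil, or_false] at hl
    rcases hl with rfl | rfl | rfl
    · exact Subgroup.subset_closure (by simp [t])
    · exact Subgroup.subset_closure (by simp [y])
    · rw [gw_yinv]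
      exact Subgroup.inv_mem _ (Subgroup.subset_closure (by simp [y]))

theorem gw_letter_mem (l : ℕ) (hl : l < 5) : gw [l] ∈ Subgroup.closure ({t, y} : Set ↥G) := by
  rcases Nat.eq_zero_or_pos l with rfl | hpos
  · exact Subgroup.subset_closure (by simp [t])
  · have hmem : l ∈ MWs.map Prod.fst := by
      rw [chk_mw_letters]
      simp only [List.mem_cons, List.not_mem_nil, or_false]
      omega
    obtain ⟨p, hp, rfl⟩ := List.mem_map.mp hmem
    have h := chk_mw
    rw [List.all_eq_true] at h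
    have h1 := h p hp
    rw [Bool.and_eq_true, List.all_eq_true] at h1
    rw [(sigEq_iff _ _).mp h1.1, gw_cj]
    have hw := gw_mem_closure p.2 fun x hx => (memB_iff x _).mp (h1.2 x hx)
    exact Subgroup.mul_mem _ (Subgroup.mul_mem _ hw (Subgroup.subset_closure (by simp [t])))
      (Subgroup.inv_mem _ hw)

theorem gen_ty : Subgroup.closure ({t, y} : Set ↥G) = ⊤ := by
  rw [eq_top_iff]
  have hle : G ≤ (Subgroup.closure ({t, y} : Set ↥G)).map G.subtype := by
    unfold G baseGroup
    rw [Subgroup.closure_le]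
    rintro π ⟨l, hl, rfl⟩
    refine ⟨gw [l], gw_letter_mem l hl, ?_⟩
    show gwp [l] = Table.sigma hXT l
    rw [gwp_singleton, nl_of_lt (by omega)]
    rfl
  intro g _
  obtain ⟨m, hm, hmg⟩ := hle g.2
  have : m = g := Subtype.ext hmg
  rw [← this]
  exact hm

/-- when every automorphism maps a generating pair to a conjugate of the pair, all automorphisms
are inner -/
theorem card_out_eq_one_of_gen {J : Type*} [Group J] (t y : J)
    (hgen : Subgroup.closure ({t, y} : Set J) = ⊤)
    (h : ∀ α : MulAut J, ∃ g : J, α t = g * t * g⁻¹ ∧ α y = g * y * g⁻¹) :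
    Nat.card (Cfsg.Out J) = 1 := by
  show (Cfsg.Inn J).index = 1
  rw [Subgroup.index_eq_one, eq_top_iff]
  intro α _
  obtain ⟨g, h1, h2⟩ := h α
  have e : α = MulAut.conj g :=
    mulAut_ext_of_closure t y hgen α (MulAut.conj g) (by rw [h1, MulAut.conj_apply])
      (by rw [h2, MulAut.conj_apply])
  rw [e]
  exact ⟨g, rfl⟩

/-- the Rudvalis group on 4060 points has no outer automorphisms -/
theorem card_out_G : Nat.card (Cfsg.Out ↥G) = 1 :=
  card_out_eq_one_of_gen t y gen_ty aut_images

/-- the presented Rudvalis group has no outer automorphisms -/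
theorem card_out_P : Nat.card (Cfsg.Out (PresentedGroup Cfsg.Agent.Lib.Helper3.TCX.RuPLink.rels)) = 1 := by
  obtain ⟨e, -⟩ := exists_iso
  exact (card_out_congr e).trans card_out_G

end

end Cfsg.Agent.Lib.Helper15.RuO
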