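import Cfsg.Agent.Lib.Helper15.RuOSylDef

set_option autoImplicit false
set_option maxRecDepth 100000
set_option maxHeartbeats 0
set_option Elab.async false

/-! Checks of the data of a Sylow 2-subgroup of the Rudvalis group on 4060 points. -/

namespace Cfsg.Agent.Lib.Helper15.RuO
open Cfsg.Agent.Lib.Helper28.TC2Upper Cfsg.Agent.Lib.Helper28.TC2Lower

noncomputable section

theorem sylWords0 : sylWordsB 0 4096 = true := by decide +kernel
theorem sylWords1 : sylWordsB 4096 4096 = true := by decide +kernel
theorem sylWords2 : sylWordsB 8192 4096 = true := by decide +kernel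
theorem sylWords3 : sylWordsB 12288 4096 = true := by decide +kernel

theorem sylIncr : sylIncrB 0 16383 = true := by decide +kernel

theorem sylTable0 : sylTableB 0 4096 = true := by decide +kernel
theorem sylTable1 : sylTableB 4096 4096 = true := by decide +kernel
theorem sylTable2 : sylTableB 8192 4096 = true := by decide +kernel
theorem sylTable3 : sylTableB 12288 4096 = true := by decide +kernel

theorem sylCent0 : sylCentB 0 4096 = true := by decide +kernel
theorem sylCent1 : sylCentB 4096 4096 = true := by decide +kernel
theorem sylCent2 : sylCentB 8192 4096 = true := by decide +kernel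
theorem sylCent3 : sylCentB 12288 4096 = true := by decide +kernel

theorem sylComm : (SLs.all fun l => sigEq ([0] ++ [l]) ([l] ++ [0])) = true := by decide +kernel

theorem sylOne : Nat.beq (pc 0) (codeW []) && Nat.beq (pc 1) (codeW [0]) = true := by decide +kernel

end

end Cfsg.Agent.Lib.Helper15.RuO
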