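import Cfsg.Agent.Lib.Helper15.RuOSylData
import Cfsg.Agent.Lib.Helper15.RuOFast

set_option autoImplicit false
set_option maxRecDepth 100000

/-!
A Sylow 2-subgroup of the Rudvalis group on 4060 points: access to the packed data of its 16384
elements, and the Boolean checks of the words, of the codes, of the multiplication table and of the
centre.
-/

namespace Cfsg.Agent.Lib.Helper15.RuO
open Cfsg.Agent.Lib.Helper28.TC2Upper Cfsg.Agent.Lib.Helper28.TC2Lower Cfsg.Agent.Lib.Helper28.TC2Range
open Cfsg.Agent.Lib.Helper28.TC2Bsgs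

noncomputable section

/-- the letters of the generators of the Sylow subgroup -/
def SLs : List ℕ := [0, 1, 3, 4, 75, 77, 78]

/-- the letter of the generator `k` -/
def sylL (k : ℕ) : ℕ := SLs.getD k 0

theorem sylL_mem (k : ℕ) : sylL k ∈ SLs := by
  unfold sylL
  rcases Nat.lt_or_ge k SLs.length with h | h
  · rw [List.getD_eq_getElem _ _ h]
    exact List.getElem_mem h
  · rw [List.getD_eq_default _ _ h]
    simp [SLs]

theorem SLs_lt : ∀ l ∈ SLs, l < 80 := by decide

/-- the entry `i` of width `w` (modulus `M`) of a packed list in four chunks -/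
def sylEnt (T : BT ℕ) (w M i : ℕ) : ℕ :=
  force (Nat.div i 4096) fun c => Nat.mod (Nat.shiftRight (T.look c) (Nat.mul w (Nat.mod i 4096))) M

/-- the packed word of the element `i` -/
def pwE (i : ℕ) : ℕ := sylEnt sylWT 64 18446744073709551616 i

/-- the code of the element `i` -/
def pc (i : ℕ) : ℕ := sylEnt sylCT 48 281474976710656 i

/-- the packed row of the multiplication table of the element `i` -/
def pmE (i : ℕ) : ℕ := sylEnt sylMT 104 20282409603651670423947251286016 i

/-- the index of the product of the generator `k` and the element of the row `m` -/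
def pmOf (m k : ℕ) : ℕ := Nat.mod (Nat.shiftRight m (Nat.mul 14 k)) 16384

/-- the index of the product of the generator `k` and the element `i` -/
def pm (i k : ℕ) : ℕ := pmOf (pmE i) k

theorem pm_lt (i k : ℕ) : pm i k < 16384 := Nat.mod_lt _ (by norm_num)

/-- the witness generator for the element `i` -/
def pwk (i : ℕ) : ℕ := Nat.mod (Nat.shiftRight (pmE i) 98) 8

/-- the witness point for the element `i` -/
def pwb (i : ℕ) : ℕ := Nat.mod (Nat.shiftRight (pmE i) 101) 4

/-- the letters of a packed word -/
def pwlE (E : ℕ) : List ℕ :=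
  (List.range (Nat.mod E 16)).map fun j => Nat.mod (Nat.shiftRight E (Nat.add 4 (Nat.mul 7 j))) 128

/-- the word of the element `i` -/
def pwl (i : ℕ) : List ℕ := pwlE (pwE i)

/-! ### the action of a letter on codes -/

/-- the component `j` of a code -/
def comp (c j : ℕ) : ℕ := Nat.mod (Nat.shiftRight c (Nat.mul 12 (Nat.sub 3 j))) 4096

/-- the code of the product of a letter and an element with the code `c` -/
def mapCode (l c : ℕ) : ℕ :=
  Nat.add (Nat.mul 4096 (Nat.add (Nat.mul 4096 (Nat.add (Nat.mul 4096 (tauX l (comp c 0)))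
    (tauX l (comp c 1)))) (tauX l (comp c 2)))) (tauX l (comp c 3))

/-! ### the checks -/

/-- the words use the letters of the generators and have the listed codes -/
def sylWordsB (lo cnt : ℕ) : Bool :=
  allLoop (fun j => force (Nat.add lo j) fun i => force (pwE i) fun E =>
    and ((pwlE E).all fun l => memB l SLs) (Nat.beq (codeW (pwlE E)) (pc i))) cnt

/-- the codes increase -/
def sylIncrB (lo cnt : ℕ) : Bool :=
  allLoop (fun j => force (Nat.add lo j) fun i => Nat.blt (pc i) (pc (Nat.succ i))) cnt

/-- the multiplication table: the codes of the products -/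
def sylTableB (lo cnt : ℕ) : Bool :=
  allLoop (fun j => force (Nat.add lo j) fun i => force (pc i) fun c => force (pmE i) fun m =>
    allLoop (fun k => force (sylL k) fun l => force (pmOf m k) fun i' =>
      Nat.beq (mapCode l c) (pc i')) 7) cnt

/-- the elements other than the first two do not commute with a generator -/
def sylCentB (lo cnt : ℕ) : Bool :=
  allLoop (fun j => force (Nat.add lo j) fun i => or (Nat.ble i 1)
    (force (sylL (pwk i)) fun l => force (pwb i) fun b =>
      not (Nat.beq (wk (l :: pwl i) b) (wk (pwl i ++ [l]) b)))) cnt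

theorem allLoop_force_add (f : ℕ → Bool) (lo cnt : ℕ) :
    allLoop (fun j => force (Nat.add lo j) f) cnt = true ↔ ∀ i, lo ≤ i → i < lo + cnt → f i = true := by
  rw [allLoop_eq_true]
  constructor
  · intro h i h1 h2
    have := h (i - lo) (by omega)
    rw [force_eq] at this
    have e : Nat.add lo (i - lo) = i := by simp only [Nat.add_eq]; omega
    rwa [e] at this
  · intro h j hj
    rw [force_eq]
    exact h _ (by simp only [Nat.add_eq]; omega) (by simp only [Nat.add_eq]; omega)

theorem sylWordsB_spec {lo cnt : ℕ} (h : sylWordsB lo cnt = true) (i : ℕ) (h1 : lo ≤ i)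
    (h2 : i < lo + cnt) : (∀ l ∈ pwl i, l ∈ SLs) ∧ codeW (pwl i) = pc i := by
  unfold sylWordsB at h
  have := (allLoop_force_add _ lo cnt).mp h i h1 h2
  rw [force_eq, Bool.and_eq_true, List.all_eq_true] at this
  exact ⟨fun l hl => (memB_iff l SLs).mp (this.1 l hl), Nat.eq_of_beq_eq_true this.2⟩

theorem sylIncrB_spec {lo cnt : ℕ} (h : sylIncrB lo cnt = true) (i : ℕ) (h1 : lo ≤ i)
    (h2 : i < lo + cnt) : pc i < pc (i + 1) := by
  unfold sylIncrB at h
  have := (allLoop_force_add _ lo cnt).mp h i h1 h2
  simpa [Nat.blt] using this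

theorem sylTableB_spec {lo cnt : ℕ} (h : sylTableB lo cnt = true) (i : ℕ) (h1 : lo ≤ i)
    (h2 : i < lo + cnt) (k : ℕ) (hk : k < 7) : mapCode (sylL k) (pc i) = pc (pm i k) := by
  unfold sylTableB at h
  have := (allLoop_force_add _ lo cnt).mp h i h1 h2
  rw [force_eq, force_eq, allLoop_eq_true] at this
  have h3 := this k hk
  rw [force_eq, force_eq] at h3
  exact Nat.eq_of_beq_eq_true h3

theorem sylCentB_spec {lo cnt : ℕ} (h : sylCentB lo cnt = true) (i : ℕ) (h1 : lo ≤ i)
    (h2 : i < lo + cnt) (hi : 1 < i) :
    ∃ l ∈ SLs, ∃ b, b < 4 ∧ wk (l :: pwl i) b ≠ wk (pwl i ++ [l]) b := by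
  unfold sylCentB at h
  have := (allLoop_force_add _ lo cnt).mp h i h1 h2
  rw [Bool.or_eq_true] at this
  rcases this with h3 | h3
  · have : i ≤ 1 := Nat.le_of_ble_eq_true h3
    omega
  · rw [force_eq, force_eq] at h3
    refine ⟨sylL (pwk i), sylL_mem _, pwb i, Nat.mod_lt _ (by norm_num), ?_⟩
    intro e
    rw [e] at h3
    simp at h3

end

end Cfsg.Agent.Lib.Helper15.RuO
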