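/-
helper15: leaf pslEA of helper16's S2752 market "SF" (`notes/S2752_leaves.lean`):
`|PSL₂(q)|₂ = 4` for `q = 3^(2n+1)`.
-/
import Mathlib
import Cfsg.Agent.Lib.Helper13.PSL2

set_option autoImplicit false

namespace Cfsg.Agent.Lib.Helper15.SFLeaf

/-- `3^(2n+1) ≡ 3 (mod 8)` -/
theorem three_pow_odd_mod_eight (n : ℕ) : 3 ^ (2 * n + 1) % 8 = 3 := by
  have h : 3 ^ (2 * n + 1) = 3 * 9 ^ n := by
    rw [pow_succ, pow_mul]; norm_num; ring
  rw [h, Nat.mul_mod, Nat.pow_mod]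
  norm_num

/-- **pslEA**: `|PSL₂(q)|₂ = 4` for `q = 3^(2n+1)` (`q ≡ 3 mod 8`). -/
theorem pslEA {F : Type} [Field F] [Fintype F] (n : ℕ) (hF : Fintype.card F = 3 ^ (2 * n + 1))
    (E : Subgroup (Matrix.ProjectiveSpecialLinearGroup (Fin 2) F)) (hE : IsPGroup 2 E) :
    Nat.card E ≤ 4 := by
  classical
  have h2 : (2 : F) ≠ 0 := by
    intro h
    have hchar : ringChar F = 2 :=
      CharP.ringChar_of_prime_eq_zero Nat.prime_two (by exact_mod_cast h)
    have heven := FiniteField.even_card_iff_char_two.mp hchar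
    rw [hF] at heven
    have hodd : Odd (3 ^ (2 * n + 1)) := Odd.pow (by decide)
    rw [Nat.odd_iff] at hodd
    omega
  have hcard := Cfsg.Agent.Lib.Helper13.card_PSL2_mul_two (F := F) h2
  rw [hF] at hcard
  have hmod := three_pow_odd_mod_eight n
  obtain ⟨t, ht⟩ : ∃ t, 3 ^ (2 * n + 1) = 8 * t + 3 := ⟨3 ^ (2 * n + 1) / 8, by omega⟩
  rw [ht] at hcard
  have hsq : (8 * t + 3) ^ 2 - 1 = 8 * ((4 * t + 1) * (2 * t + 1)) := by
    have : (8 * t + 3) ^ 2 = 8 * ((4 * t + 1) * (2 * t + 1)) + 1 := by ring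
    omega
  rw [hsq] at hcard
  have hfin : Finite (Matrix.ProjectiveSpecialLinearGroup (Fin 2) F) := by
    apply Nat.finite_of_card_ne_zero
    intro h0
    rw [h0, zero_mul] at hcard
    have : 0 < (8 * t + 3) * (8 * ((4 * t + 1) * (2 * t + 1))) := by positivity
    omega
  obtain ⟨k, hk⟩ := hE.exists_card_eq
  have hdvd : Nat.card E ∣ Nat.card (Matrix.ProjectiveSpecialLinearGroup (Fin 2) F) :=
    Subgroup.card_subgroup_dvd_card E
  rw [hk] at hdvd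
  have h3 : 2 ^ (k + 1) ∣ 2 ^ 3 * ((8 * t + 3) * ((4 * t + 1) * (2 * t + 1))) := by
    have : 2 ^ k * 2 ∣ Nat.card (Matrix.ProjectiveSpecialLinearGroup (Fin 2) F) * 2 :=
      Nat.mul_dvd_mul_right hdvd 2
    rw [hcard] at this
    rw [pow_succ]
    have e : (8 * t + 3) * (8 * ((4 * t + 1) * (2 * t + 1))) =
        2 ^ 3 * ((8 * t + 3) * ((4 * t + 1) * (2 * t + 1))) := by ring
    rwa [e] at this
  have hoddc : Odd ((8 * t + 3) * ((4 * t + 1) * (2 * t + 1))) := by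
    apply Odd.mul
    · exact ⟨4 * t + 1, by ring⟩
    · apply Odd.mul
      · exact ⟨2 * t, by ring⟩
      · exact ⟨t, by ring⟩
  have hcop : Nat.Coprime (2 ^ (k + 1)) ((8 * t + 3) * ((4 * t + 1) * (2 * t + 1))) :=
    Nat.Coprime.pow_left _ ((Nat.coprime_two_left).mpr hoddc)
  have h4 : 2 ^ (k + 1) ∣ 2 ^ 3 := hcop.dvd_of_dvd_mul_right h3
  have h5 : k + 1 ≤ 3 := (Nat.pow_dvd_pow_iff_le_right (by norm_num)).mp h4
  rw [hk]
  calc 2 ^ k ≤ 2 ^ 2 := Nat.pow_le_pow_right (by norm_num) (by omega)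
    _ = 4 := by norm_num

end Cfsg.Agent.Lib.Helper15.SFLeaf
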