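/-
helper15: leaf pslOuter of helper16's S2752 market "SF" (`notes/S2752_leaves.lean`):
an involutory automorphism of `PSL₂(F)`, `|F| = 3^(2n+1)`, is inner or inverts an element of order `3`.
Route: `Helper18.PSL2Aut.aut_decomp'` (inner ∘ diagonal ∘ field), the field part dies (`|Aut F|` odd), a square
diagonal part is inner; otherwise `α = conj z ∘ δ`, `δ = dAut (-1)`, `z δ(z) = 1` forces a lift
`Z = !![a, b; c, a]`, and an explicit unipotent `U = 1 + N`, `N = (ZD + 1) E (ZD - 1)`, is inverted.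
-/
import Mathlib
import Cfsg.Agent.Lib.Helper18.PSL2AutOut

set_option autoImplicit false

namespace Cfsg.Agent.Lib.Helper15.SFLeaf

open Matrix Cfsg.Agent.Lib.Helper13 Cfsg.Agent.Lib.Helper18.PSL2Aut

section
variable {F : Type*} [Field F]

/-- an element of `SL₂` from its entries -/
def mkSL (a b c d : F) (h : a * d - b * c = 1) : SpecialLinearGroup (Fin 2) F :=
  ⟨!![a, b; c, d], by rw [Matrix.det_fin_two_of]; exact h⟩

theorem mkSL_coe (a b c d : F) (h : a * d - b * c = 1) :
    ((mkSL a b c d h : SpecialLinearGroup (Fin 2) F) : Matrix (Fin 2) (Fin 2) F) = !![a, b; c, d] :=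
  rfl

theorem eq_mkSL (Z : SpecialLinearGroup (Fin 2) F) :
    Z = mkSL ((Z : Matrix (Fin 2) (Fin 2) F) 0 0) ((Z : Matrix (Fin 2) (Fin 2) F) 0 1)
      ((Z : Matrix (Fin 2) (Fin 2) F) 1 0) ((Z : Matrix (Fin 2) (Fin 2) F) 1 1) (det_eq Z) := by
  apply Subtype.ext
  rw [mkSL_coe]
  exact Matrix.eta_fin_two _

theorem dMat_neg_one_mkSL (a b c d : F) (h : a * d - b * c = 1) :
    dMat (-1) (mkSL a b c d h) = mkSL a (-b) (-c) d (by linear_combination h) := by
  apply Subtype.ext
  rw [dMat_coe, mkSL_coe, mkSL_coe]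
  ext i j
  fin_cases i <;> fin_cases j <;> simp [inv_neg]

theorem mkSL_mul (a b c d a' b' c' d' : F) (h : a * d - b * c = 1) (h' : a' * d' - b' * c' = 1) :
    mkSL a b c d h * mkSL a' b' c' d' h' =
      mkSL (a * a' + b * c') (a * b' + b * d') (c * a' + d * c') (c * b' + d * d')
        (by linear_combination (a' * d' - b' * c') * h + h') := by
  apply Subtype.ext
  rw [Matrix.SpecialLinearGroup.coe_mul, mkSL_coe, mkSL_coe, mkSL_coe]
  ext i j
  fin_cases i <;> fin_cases j <;> simp [Matrix.mul_apply, Fin.sum_univ_two]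

theorem mkSL_congr {a b c d a' b' c' d' : F} (h : a * d - b * c = 1) (h' : a' * d' - b' * c' = 1)
    (ha : a = a') (hb : b = b') (hc : c = c') (hd : d = d') :
    mkSL a b c d h = mkSL a' b' c' d' h' := by
  subst ha hb hc hd
  rfl

theorem mkSL_one : mkSL (1 : F) 0 0 1 (by ring) = 1 := by
  apply Subtype.ext
  rw [mkSL_coe]
  ext i j
  fin_cases i <;> fin_cases j <;> simp

/-- `pi (mkSL a b c d) = 1` forces `b = 0` and `c = 0` -/
theorem offdiag_of_pi_eq_one (a b c d : F) (h : a * d - b * c = 1) (h1 : pi (mkSL a b c d h) = 1) :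
    b = 0 ∧ c = 0 := by
  have h2 : pi (1 : SpecialLinearGroup (Fin 2) F) = pi (mkSL a b c d h) := by rw [h1, map_one]
  obtain ⟨r, _, hr⟩ := (pi_eq_iff _ _).mp h2
  have e1 := hr 0 1
  have e2 := hr 1 0
  rw [mkSL_coe] at e1 e2
  simp at e1 e2
  exact ⟨e1, e2⟩

/-! ### the inverted unipotent element, generic case -/

/-- `1 + N`, `N = (b, 1+a)ᵀ (-(1+a), b)` -/
def UA (a b : F) : SpecialLinearGroup (Fin 2) F :=
  mkSL (1 - b * (1 + a)) (b * b) (-((1 + a) * (1 + a))) (1 + b * (1 + a)) (by ring)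

/-- its inverse -/
def UA' (a b : F) : SpecialLinearGroup (Fin 2) F :=
  mkSL (1 + b * (1 + a)) (-(b * b)) ((1 + a) * (1 + a)) (1 - b * (1 + a)) (by ring)

theorem UA'_mul_UA (a b : F) : UA' a b * UA a b = 1 := by
  rw [UA', UA, mkSL_mul, ← mkSL_one]
  apply mkSL_congr <;> ring

theorem UA_inv (a b : F) : (UA a b)⁻¹ = UA' a b :=
  inv_eq_of_mul_eq_one_left (UA'_mul_UA a b)

theorem UA_conj (a b c : F) (h : a * a - b * c = 1) :
    mkSL a b c a h * dMat (-1) (UA a b) * (mkSL a b c a h)⁻¹ = (UA a b)⁻¹ := by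
  rw [UA_inv, mul_inv_eq_iff_eq_mul, UA, dMat_neg_one_mkSL, mkSL_mul, UA', mkSL_mul]
  apply mkSL_congr
  · linear_combination (-b) * h
  · ring
  · ring
  · linear_combination b * h

theorem UA_pow_three (h3 : (3 : F) = 0) (a b : F) : UA a b ^ 3 = 1 := by
  have e : UA a b ^ 3 = UA a b * UA a b * UA a b := by
    rw [pow_succ, pow_two]
  rw [e, UA, mkSL_mul, mkSL_mul, ← mkSL_one]
  apply mkSL_congr
  · linear_combination (-(b * (1 + a))) * h3
  · linear_combination (b * b) * h3
  · linear_combination (-((1 + a) * (1 + a))) * h3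
  · linear_combination (b * (1 + a)) * h3

theorem pi_UA_ne_one (a b : F) (hab : ¬ (b = 0 ∧ 1 + a = 0)) : pi (UA a b) ≠ 1 := by
  intro h1
  obtain ⟨e1, e2⟩ := offdiag_of_pi_eq_one _ _ _ _ _ h1
  apply hab
  refine ⟨?_, ?_⟩
  · exact mul_self_eq_zero.mp e1
  · exact mul_self_eq_zero.mp (neg_eq_zero.mp e2)

/-! ### the inverted unipotent element, special case `a = -1`, `b = 0` -/

/-- `1 + N`, `N = !![c, -1; c², -c]` -/
def UB (c : F) : SpecialLinearGroup (Fin 2) F :=
  mkSL (1 + c) (-1) (c * c) (1 - c) (by ring)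

/-- its inverse -/
def UB' (c : F) : SpecialLinearGroup (Fin 2) F :=
  mkSL (1 - c) 1 (-(c * c)) (1 + c) (by ring)

theorem UB'_mul_UB (c : F) : UB' c * UB c = 1 := by
  rw [UB', UB, mkSL_mul, ← mkSL_one]
  apply mkSL_congr <;> ring

theorem UB_inv (c : F) : (UB c)⁻¹ = UB' c :=
  inv_eq_of_mul_eq_one_left (UB'_mul_UB c)

theorem UB_conj (h3 : (3 : F) = 0) (c : F) (h : (-1 : F) * (-1) - 0 * c = 1) :
    mkSL (-1) 0 c (-1) h * dMat (-1) (UB c) * (mkSL (-1) 0 c (-1) h)⁻¹ = (UB c)⁻¹ := by
  rw [UB_inv, mul_inv_eq_iff_eq_mul, UB, dMat_neg_one_mkSL, mkSL_mul, UB', mkSL_mul]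
  apply mkSL_congr
  · linear_combination (-c) * h3
  · ring
  · ring
  · linear_combination c * h3

theorem UB_pow_three (h3 : (3 : F) = 0) (c : F) : UB c ^ 3 = 1 := by
  have e : UB c ^ 3 = UB c * UB c * UB c := by
    rw [pow_succ, pow_two]
  rw [e, UB, mkSL_mul, mkSL_mul, ← mkSL_one]
  apply mkSL_congr
  · linear_combination c * h3
  · linear_combination (-1) * h3
  · linear_combination (c * c) * h3
  · linear_combination (-c) * h3

theorem pi_UB_ne_one (c : F) : pi (UB c) ≠ 1 := by
  intro h1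
  obtain ⟨e1, _⟩ := offdiag_of_pi_eq_one _ _ _ _ _ h1
  exact one_ne_zero (neg_eq_zero.mp e1)

/-- the centre of `PSL₂(F)` is trivial for `|F| ≥ 4` -/
theorem center_psl2_bot [Fintype F] (h4 : 4 ≤ Nat.card F) :
    Subgroup.center (ProjectiveSpecialLinearGroup (Fin 2) F) = ⊥ := by
  have hs : IsSimpleGroup (ProjectiveSpecialLinearGroup (Fin 2) F) :=
    Matrix.ProjectiveSpecialLinearGroup.rank_two_simple h4
  rcases (inferInstance : (Subgroup.center
    (ProjectiveSpecialLinearGroup (Fin 2) F)).Normal).eq_bot_or_eq_top with h | h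
  · exact h
  · exfalso
    have h1 : ub (1 : F) ∈ Subgroup.center (ProjectiveSpecialLinearGroup (Fin 2) F) :=
      h ▸ Subgroup.mem_top _
    have h2 := Subgroup.mem_center_iff.mp h1 (lb 1)
    rw [ub, lb, ← map_mul, ← map_mul, pi_eq_iff] at h2
    obtain ⟨r, _, he⟩ := h2
    have e01 := he 0 1
    have e00 := he 0 0
    rw [Matrix.SpecialLinearGroup.coe_mul, Matrix.SpecialLinearGroup.coe_mul, tSL_coe, lSL_coe]
      at e01 e00
    simp [Matrix.mul_apply, Fin.sum_univ_two] at e01 e00
    rw [← e01] at e00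
    exact one_ne_zero (by linear_combination e00 : (1 : F) = 0)

end

/-- **pslOuter**: an involutory automorphism of `PSL₂(F)`, `|F| = q = 3^(2n+1)`, is inner or inverts an element
of order `3`. -/
theorem pslOuter {F : Type} [Field F] [Fintype F] (n : ℕ) (hn : 1 ≤ n)
    (hF : Fintype.card F = 3 ^ (2 * n + 1))
    (α : MulAut (Matrix.ProjectiveSpecialLinearGroup (Fin 2) F)) (h2 : α * α = 1) :
    (∃ s, α = MulAut.conj s) ∨
      ∃ u : Matrix.ProjectiveSpecialLinearGroup (Fin 2) F, orderOf u = 3 ∧ α u = u⁻¹ := by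
  classical
  have : Fact (Nat.Prime 3) := ⟨Nat.prime_three⟩
  have : CharP F 3 := charP_of_card_eq_prime_pow hF
  have h3 : (3 : F) = 0 := by exact_mod_cast CharP.cast_eq_zero F 3
  have h2F : (2 : F) ≠ 0 := by
    intro h
    have : (1 : F) = 0 := by linear_combination h3 - h
    exact one_ne_zero this
  have hmod4 : Fintype.card F % 4 = 3 := by
    rw [hF]
    have h : 3 ^ (2 * n + 1) = 3 * 9 ^ n := by
      rw [pow_succ, pow_mul]; norm_num; ring
    rw [h, Nat.mul_mod, Nat.pow_mod]
    norm_num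
  have hnegone : ¬ IsSquare (-1 : F) := by
    rw [FiniteField.isSquare_neg_one_iff]
    simp [hmod4]
  have h4 : 4 ≤ Nat.card F := by
    rw [Nat.card_eq_fintype_card, hF]
    calc 4 ≤ 3 ^ 3 := by norm_num
      _ ≤ 3 ^ (2 * n + 1) := Nat.pow_le_pow_right (by norm_num) (by omega)
  -- the field part is trivial
  have hpsi : psi 3 α = 1 := by
    have hc : Nat.card (RingAut F) = 2 * n + 1 := ringAut_card 3 hF
    have h1 : (psi 3 α) ^ 2 = 1 := by rw [← map_pow, pow_two, h2, map_one]
    have h3' : (psi 3 α) ^ (Nat.card (RingAut F)) = 1 := pow_card_eq_one'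
    have hcop : Nat.Coprime 2 (Nat.card (RingAut F)) := by
      rw [hc]
      exact (Nat.coprime_two_left).mpr ⟨n, rfl⟩
    exact (pow_eq_one_iff_of_coprime hcop).mp ⟨h1, h3'⟩
  obtain ⟨y, a₀, hα⟩ := aut_decomp' 3 α
  have hα' : ∀ g, α g = y * dAut a₀ g * y⁻¹ := fun g => by rw [hα g, hpsi, fAut_one]
  by_cases hsq : IsSquare (a₀ : F)
  · left
    obtain ⟨b, hbb⟩ := hsq
    have hb0 : b ≠ 0 := by
      rintro rfl
      rw [mul_zero] at hbb
      exact a₀.ne_zero hbb
    have ha₀ : a₀ = (Units.mk0 b hb0) ^ 2 := by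
      apply Units.ext
      rw [Units.val_pow_eq_pow_val, Units.val_mk0, hbb, pow_two]
    refine ⟨y * hb (Units.mk0 b hb0), ?_⟩
    apply MulEquiv.ext
    intro g
    rw [hα', ha₀, dAut_sq, MulAut.conj_apply]
    group
  · right
    -- `-a₀` is a square
    have hneg : IsSquare (-(a₀ : F)) := by
      have ha0 : (a₀ : F) ≠ 0 := a₀.ne_zero
      have hna0 : -(a₀ : F) ≠ 0 := neg_ne_zero.mpr ha0
      rw [← quadraticChar_one_iff_isSquare hna0]
      have e1 : quadraticChar F (-(a₀ : F)) = quadraticChar F (-1) * quadraticChar F (a₀ : F) := by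
        rw [← map_mul]
        congr 1
        ring
      have e2 : quadraticChar F (-1 : F) = -1 := quadraticChar_neg_one_iff_not_isSquare.mpr hnegone
      have e3 : quadraticChar F (a₀ : F) = -1 := quadraticChar_neg_one_iff_not_isSquare.mpr hsq
      rw [e1, e2, e3]
      norm_num
    obtain ⟨b, hbb⟩ := hneg
    have hb0 : b ≠ 0 := by
      rintro rfl
      rw [mul_zero] at hbb
      exact a₀.ne_zero (neg_eq_zero.mp hbb)
    have ha₀ : a₀ = (-1) * (Units.mk0 b hb0) ^ 2 := by
      apply Units.ext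
      rw [Units.val_mul, Units.val_pow_eq_pow_val, Units.val_mk0, Units.val_neg, Units.val_one]
      linear_combination -hbb
    have hδδ : ∀ g, dAut (-1 : Fˣ) (dAut (-1 : Fˣ) g) = g := by
      intro g
      rw [← dAut_mul]
      have : (-1 : Fˣ) * (-1) = 1 := by simp
      rw [this, dAut_one]
    set z := y * dAut (-1 : Fˣ) (hb (Units.mk0 b hb0)) with hzdef
    have hz : ∀ g, α g = z * dAut (-1 : Fˣ) g * z⁻¹ := by
      intro g
      rw [hα', ha₀, dAut_mul, dAut_sq, map_mul, map_mul, map_inv, hzdef]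
      group
    -- `z δ(z) = 1`
    have hc : z * dAut (-1 : Fˣ) z = 1 := by
      have hcen : z * dAut (-1 : Fˣ) z ∈
          Subgroup.center (Matrix.ProjectiveSpecialLinearGroup (Fin 2) F) := by
        rw [Subgroup.mem_center_iff]
        intro g
        have h5 : α (α g) = g := by
          have := congrArg (fun β : MulAut _ => β g) h2
          simpa [MulAut.mul_apply] using this
        rw [hz (α g), hz g, map_mul, map_mul, map_inv, hδδ] at h5
        -- `z δz g (δz)⁻¹ z⁻¹ = g`
        calc g * (z * dAut (-1 : Fˣ) z)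
            = (z * (dAut (-1 : Fˣ) z * g * (dAut (-1 : Fˣ) z)⁻¹) * z⁻¹) *
                (z * dAut (-1 : Fˣ) z) := by rw [h5]
          _ = z * dAut (-1 : Fˣ) z * g := by group
      rw [center_psl2_bot h4, Subgroup.mem_bot] at hcen
      exact hcen
    obtain ⟨Z, hZ⟩ := pi_surjective z
    obtain ⟨a, b', c, d, hdet, rfl⟩ : ∃ (a b' c d : F) (h : a * d - b' * c = 1),
        Z = mkSL a b' c d h := ⟨_, _, _, _, _, eq_mkSL Z⟩
    rw [← hZ, dAut_pi, ← map_mul, dMat_neg_one_mkSL, mkSL_mul] at hc
    obtain ⟨r, hr, he⟩ := (pi_eq_iff (1 : SpecialLinearGroup (Fin 2) F) _).mp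
      ((map_one pi).trans hc.symm)
    have e00 := he 0 0
    have e01 := he 0 1
    have e10 := he 1 0
    have e11 := he 1 1
    rw [mkSL_coe] at e00 e01 e10 e11
    simp at e00 e01 e10 e11
    have hr' : r = 1 ∨ r = -1 := by
      have : (r - 1) * (r + 1) = 0 := by linear_combination hr
      rcases mul_eq_zero.mp this with h | h
      · left; linear_combination h
      · right; linear_combination h
    have had : d = a := by
      rcases hr' with rfl | rfl
      · by_contra hne
        have hda : d - a ≠ 0 := sub_ne_zero.mpr hne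
        have hb0' : b' = 0 := by
          have : b' * (d - a) = 0 := by linear_combination e01
          rcases mul_eq_zero.mp this with h | h
          · exact h
          · exact absurd h hda
        rw [hb0'] at e00 hdet
        have : a * (d - a) = 0 := by linear_combination hdet - e00
        rcases mul_eq_zero.mp this with h | h
        · rw [h] at hdet
          simp at hdet
        · exact hda h
      · exfalso
        have hne : d ≠ a := by
          rintro rfl
          apply h2F
          linear_combination e00 - hdet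
        have hda : d - a ≠ 0 := sub_ne_zero.mpr hne
        have hb0' : b' = 0 := by
          have : b' * (d - a) = 0 := by linear_combination e01
          rcases mul_eq_zero.mp this with h | h
          · exact h
          · exact absurd h hda
        apply hnegone
        refine ⟨a, ?_⟩
        rw [hb0'] at e00
        linear_combination -e00
    have had' : a = d := had.symm
    subst had'
    have hdet' : a * a - b' * c = 1 := hdet
    by_cases hab : b' = 0 ∧ 1 + a = 0
    · obtain ⟨rfl, ha⟩ := hab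
      have ha' : a = -1 := by linear_combination ha
      subst ha'
      refine ⟨pi (UB c), orderOf_eq_prime (by rw [← map_pow, UB_pow_three h3, map_one])
        (pi_UB_ne_one c), ?_⟩
      rw [hz, ← hZ, dAut_pi, ← map_mul, ← map_inv, ← map_mul, UB_conj h3 c hdet, map_inv]
    · refine ⟨pi (UA a b'), orderOf_eq_prime (by rw [← map_pow, UA_pow_three h3, map_one])
        (pi_UA_ne_one a b' hab), ?_⟩
      rw [hz, ← hZ, dAut_pi, ← map_mul, ← map_inv, ← map_mul, UA_conj a b' c hdet', map_inv]

end Cfsg.Agent.Lib.Helper15.SFLeaf
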