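import Mathlib
import Cfsg.Agent.Lib.Helper14.DihedralCrit

/-! S3685 market "SIMS2" (planner helper18): leaf G12 `dihedral_six_of_card` — helper15 (twin). -/

set_option autoImplicit false

namespace Cfsg.Agent.Lib.Helper15.SIMS2G12

/-- An involution `a` inverting `r` and lying in `⟨r⟩` forces `r * r = 1`. -/
theorem sq_eq_one_of_mem_zpowers {K : Type*} [Group K] (a r : K) (ha : a * a = 1)
    (hsr : a * r * a = r⁻¹) (h : a ∈ Subgroup.zpowers r) : r * r = 1 := by
  obtain ⟨k, hk⟩ := Subgroup.mem_zpowers_iff.1 h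
  have hc : Commute a r := by
    rw [← hk]
    exact (Commute.refl r).zpow_left k
  have h1 : r⁻¹ = r := by
    rw [← hsr, hc.eq, mul_assoc, ha, mul_one]
  calc r * r = r * r⁻¹ := by rw [h1]
    _ = 1 := mul_inv_cancel r

/-- Pure arithmetic: a positive divisor of `6` not dividing `2` is `3` or `6`. -/
theorem three_or_six (m : ℕ) (hpos : 0 < m) (h2 : ¬ m ∣ 2) (h6 : m ∣ 6) : m = 3 ∨ m = 6 := by
  have hle : m ≤ 6 := Nat.le_of_dvd (by norm_num) h6
  interval_cases m <;> simp_all

/-- Abstract form: a group of order 12 with a central involution and two non-commuting involutions is `D₁₂`. -/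
theorem dihedral_six_of_card' {K : Type*} [Group K] [Finite K] (hcard : Nat.card K = 12)
    (z a b : K) (hz1 : z ≠ 1) (hz2 : z * z = 1) (hzc : ∀ y : K, y * z = z * y)
    (ha : a * a = 1) (hb : b * b = 1) (hab : a * b ≠ b * a) : Nonempty (K ≃* DihedralGroup 6) := by
  have hainv : a⁻¹ = a := inv_eq_of_mul_eq_one_left ha
  have hbinv : b⁻¹ = b := inv_eq_of_mul_eq_one_left hb
  have hzinv : z⁻¹ = z := inv_eq_of_mul_eq_one_left hz2
  have huinv : (a * b)⁻¹ = b * a := by rw [mul_inv_rev, hainv, hbinv]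
  have hau : a * (a * b) * a = (a * b)⁻¹ := by
    rw [huinv, ← mul_assoc, ha, one_mul]
  have hu2 : (a * b) * (a * b) ≠ 1 := by
    intro h
    apply hab
    have : a * b = (a * b)⁻¹ := eq_inv_of_mul_eq_one_left h
    rw [huinv] at this
    exact this
  have hnot : a ∉ Subgroup.zpowers (a * b) := fun h =>
    hu2 (sq_eq_one_of_mem_zpowers a (a * b) ha hau h)
  have hmpos : 0 < orderOf (a * b) := orderOf_pos (a * b)
  have hm2 : ¬ orderOf (a * b) ∣ 2 := by
    intro h
    apply hu2
    have := orderOf_dvd_iff_pow_eq_one.1 h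
    rwa [pow_two] at this
  -- `D_m` embeds into `K`
  have hinj := Cfsg.Agent.Lib.Helper3.dihLift_injective (a * b) a (pow_orderOf_eq_one (a * b)) ha hau rfl hnot
  have hdvd := Subgroup.card_dvd_of_injective _ hinj
  rw [DihedralGroup.nat_card, hcard] at hdvd
  have hm6 : orderOf (a * b) ∣ 6 :=
    (Nat.mul_dvd_mul_iff_left two_pos).1 (show 2 * orderOf (a * b) ∣ 2 * 6 from hdvd)
  have hcases : orderOf (a * b) = 3 ∨ orderOf (a * b) = 6 :=
    three_or_six _ hmpos hm2 hm6
  rcases hcases with h3 | h6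
  · -- `m = 3`: use `r = u z`
    have hzord : orderOf z = 2 := by
      have : Fact (Nat.Prime 2) := ⟨Nat.prime_two⟩
      exact orderOf_eq_prime (by rw [pow_two]; exact hz2) hz1
    have hcomm : Commute (a * b) z := hzc (a * b)
    have hord : orderOf (a * b * z) = 6 := by
      rw [hcomm.orderOf_mul_eq_mul_orderOf_of_coprime (by rw [h3, hzord]; norm_num), h3, hzord]
    have hsr : a * (a * b * z) * a = (a * b * z)⁻¹ := by
      have e1 : a * (a * b * z) * a = a * (a * b) * a * z := by
        calc a * (a * b * z) * a = a * (a * b) * (z * a) := by simp only [mul_assoc]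
          _ = a * (a * b) * (a * z) := by rw [hzc a]
          _ = a * (a * b) * a * z := by simp only [mul_assoc]
      rw [e1, hau, mul_inv_rev (a * b) z, hzinv, hzc ((a * b)⁻¹)]
    have hnot' : a ∉ Subgroup.zpowers (a * b * z) := by
      intro h
      have h2 := sq_eq_one_of_mem_zpowers a (a * b * z) ha hsr h
      have : orderOf (a * b * z) ∣ 2 := orderOf_dvd_of_pow_eq_one (by rw [pow_two]; exact h2)
      rw [hord] at this
      omega
    exact Cfsg.Agent.Lib.Helper14.nonempty_mulEquiv_dihedral 6 (by rw [hcard]) (a * b * z) a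
      (by rw [← hord]; exact pow_orderOf_eq_one _) ha hsr hord hnot'
  · exact Cfsg.Agent.Lib.Helper14.nonempty_mulEquiv_dihedral 6 (by rw [hcard]) (a * b) a
      (by rw [← h6]; exact pow_orderOf_eq_one _) ha hau h6 hnot

variable {G : Type*} [Group G]

/-- LEAF G12. -/
theorem dihedral_six_of_card [Finite G] (H : Subgroup G) (hcard : Nat.card ↥H = 12)
    (z a b : G) (hzH : z ∈ H) (haH : a ∈ H) (hbH : b ∈ H) (hz1 : z ≠ 1) (hz2 : z * z = 1)
    (hzc : ∀ y ∈ H, y * z = z * y) (ha : a * a = 1) (hb : b * b = 1) (hab : a * b ≠ b * a) :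
    Nonempty (↥H ≃* DihedralGroup 6) := by
  refine dihedral_six_of_card' hcard ⟨z, hzH⟩ ⟨a, haH⟩ ⟨b, hbH⟩ ?_ ?_ ?_ ?_ ?_ ?_
  · intro h
    exact hz1 (congrArg Subtype.val h)
  · exact Subtype.ext hz2
  · intro y
    exact Subtype.ext (hzc y.1 y.2)
  · exact Subtype.ext ha
  · exact Subtype.ext hb
  · intro h
    exact hab (congrArg Subtype.val h)

end Cfsg.Agent.Lib.Helper15.SIMS2G12
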