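import Mathlib

/-! S3685 market "SIMS2" (planner helper18): leaf G48 `perm_four_prod_of_card` — helper15 (twin).

The three declarations `perm_sign_neg_one`, `cosetSign`, `cosetSign_eq_neg_one` and `index_ker_eq_two` are
copied from helper29's `Cfsg.Agent.S1924` (so that this module imports Mathlib only). -/

set_option autoImplicit false
set_option linter.style.haveILetI false

namespace Cfsg.Agent.Lib.Helper15.SIMS2G48

/-- A permutation of order dividing `2^(k+1)` whose `2^k`-th power is fixed-point-free, on a set of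
`2^(k+1) * r` points with `r` odd, is odd. -/
theorem perm_sign_neg_one {α : Type*} [Fintype α] [DecidableEq α] (σ : Equiv.Perm α) (k r : ℕ)
    (hr : Odd r) (hcard : Fintype.card α = 2 ^ (k + 1) * r) (h1 : σ ^ (2 ^ (k + 1)) = 1)
    (h2 : ∀ ω, (σ ^ (2 ^ k)) ω ≠ ω) : Equiv.Perm.sign σ = -1 := by
  have hall : ∀ n ∈ σ.cycleType, n = 2 ^ (k + 1) := by
    intro n hn
    have hdvd : n ∣ 2 ^ (k + 1) :=
      (Equiv.Perm.dvd_of_mem_cycleType hn).trans (orderOf_dvd_of_pow_eq_one h1)
    obtain ⟨j, hj, rfl⟩ := (Nat.dvd_prime_pow Nat.prime_two).mp hdvd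
    by_contra hne
    have hjk : j ≤ k := by
      rcases Nat.lt_or_ge k j with h | h
      · exfalso; apply hne
        have : j = k + 1 := by omega
        rw [this]
      · exact h
    obtain ⟨c, τ, hστ, hdisj, hcyc, hsupp⟩ := Equiv.Perm.mem_cycleType_iff.mp hn
    have hcyc' := hcyc
    obtain ⟨ω, hω, -⟩ := hcyc
    have hτω : τ ω = ω := by
      rcases hdisj ω with h | h
      · exact absurd h hω
      · exact h
    have hcpow : c ^ (2 ^ k) = 1 := by
      apply orderOf_dvd_iff_pow_eq_one.mp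
      rw [hcyc'.orderOf, hsupp]
      exact pow_dvd_pow 2 hjk
    apply h2 ω
    rw [hστ, hdisj.commute.mul_pow, hcpow, one_mul]
    exact Equiv.Perm.pow_apply_eq_self_of_apply_eq_self hτω _
  have hrep : σ.cycleType = Multiset.replicate (Multiset.card σ.cycleType) (2 ^ (k + 1)) :=
    Multiset.eq_replicate_card.mpr hall
  have hsupp : σ.support = Finset.univ := by
    ext ω
    simp only [Equiv.Perm.mem_support, Finset.mem_univ, iff_true]
    intro h
    exact h2 ω (Equiv.Perm.pow_apply_eq_self_of_apply_eq_self h _)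
  have hsum : σ.cycleType.sum = 2 ^ (k + 1) * r := by
    rw [Equiv.Perm.sum_cycleType, hsupp, Finset.card_univ, hcard]
  have hcardm : Multiset.card σ.cycleType = r := by
    have h3 : σ.cycleType.sum = Multiset.card σ.cycleType * 2 ^ (k + 1) := by
      conv_lhs => rw [hrep]
      simp
    rw [hsum, mul_comm] at h3
    exact (Nat.eq_of_mul_eq_mul_right (by positivity) h3).symm
  rw [Equiv.Perm.sign_of_cycleType, hsum, hcardm]
  apply Odd.neg_one_pow
  have : Even (2 ^ (k + 1) * r) := by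
    rw [pow_succ, mul_assoc]
    exact Even.mul_left (Even.mul_right even_two r) _
  exact this.add_odd hr


/-- the sign character of the action of `H` on the cosets of `A` -/
noncomputable def cosetSign {H : Type*} [Group H] [Finite H] (A : Subgroup H) : H →* ℤˣ :=
  letI := Fintype.ofFinite (H ⧸ A)
  letI : DecidableEq (H ⧸ A) := Classical.decEq _
  Equiv.Perm.sign.comp (MulAction.toPermHom H (H ⧸ A))

theorem cosetSign_eq_neg_one {H : Type*} [Group H] [Finite H] (A : Subgroup H) (k r : ℕ)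
    (hr : Odd r) (hidx : A.index = 2 ^ (k + 1) * r) (x : H) (hx : x ^ (2 ^ (k + 1)) = 1)
    (hfix : ∀ g : H, g⁻¹ * x ^ (2 ^ k) * g ∉ A) : cosetSign A x = -1 := by
  letI := Fintype.ofFinite (H ⧸ A)
  letI : DecidableEq (H ⧸ A) := Classical.decEq _
  show Equiv.Perm.sign (MulAction.toPermHom H (H ⧸ A) x) = -1
  apply perm_sign_neg_one _ k r hr
  · rw [← Nat.card_eq_fintype_card]; exact hidx
  · rw [← map_pow, hx, map_one]
  · intro ω
    induction ω using QuotientGroup.induction_on with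
    | H g =>
      rw [← map_pow, MulAction.toPermHom_apply, MulAction.toPerm_apply]
      intro h
      apply hfix g
      have h' : ((x ^ (2 ^ k) * g : H) : H ⧸ A) = (g : H ⧸ A) := h
      have := QuotientGroup.eq.mp h'.symm
      rwa [← mul_assoc] at this

theorem index_ker_eq_two {G : Type*} [Group G] (φ : G →* ℤˣ) (x : G) (hx : φ x = -1) :
    φ.ker.index = 2 := by
  rw [Subgroup.index_ker]
  have hr : φ.range = ⊤ := by
    rw [eq_top_iff]
    intro u _
    rcases Int.units_eq_one_or u with h | h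
    · rw [h]; exact one_mem _
    · rw [h]; exact ⟨x, hx⟩
  rw [hr, Subgroup.card_top]
  simp

/-- A central involution `z` on which a sign character `χ` is `-1` splits the group:
`H ≃* ker χ × C₂`. -/
theorem nonempty_mulEquiv_ker_prod {Hh : Type*} [Group Hh] (χ : Hh →* ℤˣ) (z : Hh)
    (hz2 : z * z = 1) (hzc : ∀ y : Hh, y * z = z * y) (hχz : χ z = -1) :
    Nonempty (Hh ≃* ↥χ.ker × Multiplicative (ZMod 2)) := by
  have hz1 : z ≠ 1 := by
    intro h
    rw [h, map_one] at hχz
    exact absurd hχz (by decide)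
  have hp : Fact (Nat.Prime 2) := ⟨Nat.prime_two⟩
  have hzord : orderOf z = 2 := orderOf_eq_prime (by rw [pow_two]; exact hz2) hz1
  have hZmem : ∀ y ∈ Subgroup.zpowers z, y = 1 ∨ y = z := by
    intro y hy
    obtain ⟨k, rfl⟩ := Subgroup.mem_zpowers_iff.1 hy
    have h := zpow_mod_orderOf z k
    rw [hzord] at h
    rcases Int.emod_two_eq_zero_or_one k with h0 | h1
    · left
      rw [← h]
      have : k % ((2 : ℕ) : ℤ) = 0 := by exact_mod_cast h0
      rw [this, zpow_zero]
    · right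
      rw [← h]
      have : k % ((2 : ℕ) : ℤ) = 1 := by exact_mod_cast h1
      rw [this, zpow_one]
  have hzcen : z ∈ Subgroup.center Hh := Subgroup.mem_center_iff.2 hzc
  let φ : ↥χ.ker × ↥(Subgroup.zpowers z) →* Hh :=
    MonoidHom.noncommCoprod χ.ker.subtype (Subgroup.zpowers z).subtype
      (fun l a => Subgroup.mem_center_iff.1 (Subgroup.zpowers_le.2 hzcen a.2) l.1)
  have hφ : ∀ x, φ x = x.1.1 * x.2.1 := fun x => rfl
  have hinj : Function.Injective φ := by
    rw [injective_iff_map_eq_one]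
    intro x hx
    rw [hφ] at hx
    have hker : χ x.1.1 = 1 := MonoidHom.mem_ker.1 x.1.2
    rcases hZmem x.2.1 x.2.2 with h1 | h1
    · rw [h1, mul_one] at hx
      exact Prod.ext (Subtype.ext hx) (Subtype.ext h1)
    · exfalso
      have h2 : χ (x.1.1 * x.2.1) = 1 := by rw [hx, map_one]
      rw [map_mul, hker, h1, hχz, one_mul] at h2
      exact absurd h2 (by decide)
  have hsurj : Function.Surjective φ := by
    intro y
    rcases Int.units_eq_one_or (χ y) with h | h
    · refine ⟨(⟨y, MonoidHom.mem_ker.2 h⟩, 1), ?_⟩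
      rw [hφ]
      simp
    · have hyz : y * z ∈ χ.ker := by
        rw [MonoidHom.mem_ker, map_mul, h, hχz]
        decide
      refine ⟨(⟨y * z, hyz⟩, ⟨z, Subgroup.mem_zpowers z⟩), ?_⟩
      rw [hφ]
      show y * z * z = y
      rw [mul_assoc, hz2, mul_one]
  have hcardZ : Nat.card ↥(Subgroup.zpowers z) = 2 := by rw [Nat.card_zpowers, hzord]
  have hcardC : Nat.card (Multiplicative (ZMod 2)) = 2 := by
    rw [Nat.card_eq_fintype_card, Fintype.card_multiplicative, ZMod.card]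
  have e2 : ↥(Subgroup.zpowers z) ≃* Multiplicative (ZMod 2) :=
    mulEquivOfPrimeCardEq (p := 2) hcardZ hcardC
  exact ⟨(MulEquiv.ofBijective φ ⟨hinj, hsurj⟩).symm.trans
    (MulEquiv.prodCongr (MulEquiv.refl _) e2)⟩

variable {G : Type*} [Group G]

/-- LEAF G48. -/
theorem perm_four_prod_of_card [Finite G]
    (h24 : ∀ H K : Subgroup G, K ≤ H → H ≤ Subgroup.normalizer (K : Set G) → Nat.card ↥H = 24 →
      Nat.card ↥K = 4 → (∀ y ∈ H, (∀ k ∈ K, y * k = k * y) → y ∈ K) →
      Nonempty (↥H ≃* Equiv.Perm (Fin 4)))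
    (H K S : Subgroup G) (hKH : K ≤ H) (hN : H ≤ Subgroup.normalizer (K : Set G))
    (hcard : Nat.card ↥H = 48) (hK : Nat.card ↥K = 8)
    (hC : ∀ y ∈ H, (∀ k ∈ K, y * k = k * y) → y ∈ K)
    (z : G) (hzK : z ∈ K) (hz2 : z * z = 1) (hzc : ∀ y ∈ H, y * z = z * y)
    (hSH : S ≤ H) (hS : Nat.card ↥S = 8) (hzS : z ∉ S) :
    Nonempty (↥H ≃* Equiv.Perm (Fin 4) × Multiplicative (ZMod 2)) := by
  have hzH : z ∈ H := hKH hzK
  have hz'2 : (⟨z, hzH⟩ : ↥H) * ⟨z, hzH⟩ = 1 := Subtype.ext hz2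
  have hz'c : ∀ y : ↥H, y * ⟨z, hzH⟩ = ⟨z, hzH⟩ * y := fun y => Subtype.ext (hzc y.1 y.2)
  -- the sign character of `H` on the cosets of `S`
  have hidx : (S.subgroupOf H).index = 2 ^ (0 + 1) * 3 := by
    have h1 := Subgroup.card_mul_index (S.subgroupOf H)
    rw [Nat.card_congr (Subgroup.subgroupOfEquivOfLe hSH).toEquiv, hS, hcard] at h1
    omega
  have hχz : cosetSign (S.subgroupOf H) ⟨z, hzH⟩ = -1 := by
    refine cosetSign_eq_neg_one (S.subgroupOf H) 0 3 (by decide) hidx ⟨z, hzH⟩ ?_ ?_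
    · rw [zero_add, pow_one, pow_two]
      exact hz'2
    · intro g
      rw [pow_zero, pow_one, mul_assoc, ← hz'c g, inv_mul_cancel_left, Subgroup.mem_subgroupOf]
      exact hzS
  generalize cosetSign (S.subgroupOf H) = χ at hχz
  -- `L = ker χ` as a subgroup of `G`
  have hLmem : ∀ g, g ∈ (χ.ker).map H.subtype ↔ ∃ hg : g ∈ H, χ ⟨g, hg⟩ = 1 := by
    intro g
    rw [Subgroup.mem_map]
    constructor
    · rintro ⟨x, hx, rfl⟩
      exact ⟨x.2, MonoidHom.mem_ker.1 hx⟩
    · rintro ⟨hg, h⟩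
      exact ⟨⟨g, hg⟩, MonoidHom.mem_ker.2 h, rfl⟩
  have hLH : (χ.ker).map H.subtype ≤ H := Subgroup.map_subtype_le _
  have hLcard : Nat.card ↥((χ.ker).map H.subtype) = 24 := by
    rw [Subgroup.card_map_of_injective H.subtype_injective]
    have h1 := Subgroup.card_mul_index χ.ker
    rw [index_ker_eq_two χ ⟨z, hzH⟩ hχz, hcard] at h1
    omega
  -- `V = K ∩ L`
  have hVmem : ∀ g, g ∈ ((χ.comp (Subgroup.inclusion hKH)).ker).map K.subtype ↔
      ∃ hg : g ∈ K, χ ⟨g, hKH hg⟩ = 1 := by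
    intro g
    rw [Subgroup.mem_map]
    constructor
    · rintro ⟨x, hx, rfl⟩
      exact ⟨x.2, MonoidHom.mem_ker.1 hx⟩
    · rintro ⟨hg, h⟩
      exact ⟨⟨g, hg⟩, MonoidHom.mem_ker.2 h, rfl⟩
  have hVcard : Nat.card ↥(((χ.comp (Subgroup.inclusion hKH)).ker).map K.subtype) = 4 := by
    rw [Subgroup.card_map_of_injective K.subtype_injective]
    have h1 := Subgroup.card_mul_index (χ.comp (Subgroup.inclusion hKH)).ker
    rw [index_ker_eq_two (χ.comp (Subgroup.inclusion hKH)) ⟨z, hzK⟩ hχz, hK] at h1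
    omega
  generalize hLdef : (χ.ker).map H.subtype = L at hLmem hLH hLcard
  generalize ((χ.comp (Subgroup.inclusion hKH)).ker).map K.subtype = V at hVmem hVcard
  have hVL : V ≤ L := by
    intro g hg
    obtain ⟨hgK, h⟩ := (hVmem g).1 hg
    exact (hLmem g).2 ⟨hKH hgK, h⟩
  have hVK : V ≤ K := fun g hg => ((hVmem g).1 hg).1
  -- conjugation invariance of `χ`
  have hconj : ∀ (l g : G) (hl : l ∈ H) (hg : g ∈ H),
      χ ⟨l * g * l⁻¹, H.mul_mem (H.mul_mem hl hg) (H.inv_mem hl)⟩ = χ ⟨g, hg⟩ := by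
    intro l g hl hg
    have : (⟨l * g * l⁻¹, H.mul_mem (H.mul_mem hl hg) (H.inv_mem hl)⟩ : ↥H)
        = ⟨l, hl⟩ * ⟨g, hg⟩ * (⟨l, hl⟩ : ↥H)⁻¹ := rfl
    rw [this, map_mul, map_mul, map_inv, mul_comm (χ ⟨l, hl⟩), mul_assoc, mul_inv_cancel, mul_one]
  have hLN : L ≤ Subgroup.normalizer (V : Set G) := by
    intro l hl
    have hlH : l ∈ H := hLH hl
    have hlK := Subgroup.mem_normalizer_iff.1 (hN hlH)
    rw [Subgroup.mem_normalizer_iff]
    intro g
    rw [hVmem, hVmem]
    constructor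
    · rintro ⟨hgK, h⟩
      refine ⟨(hlK g).1 hgK, ?_⟩
      rw [← h]
      exact hconj l g hlH (hKH hgK)
    · rintro ⟨hgK, h⟩
      have hgK' : g ∈ K := (hlK g).2 hgK
      refine ⟨hgK', ?_⟩
      rw [← h]
      exact (hconj l g hlH (hKH hgK')).symm
  have hCV : ∀ y ∈ L, (∀ k ∈ V, y * k = k * y) → y ∈ V := by
    intro y hy hyV
    obtain ⟨hyH, hχy⟩ := (hLmem y).1 hy
    have hyK : y ∈ K := by
      apply hC y hyH
      intro k hk
      rcases Int.units_eq_one_or (χ ⟨k, hKH hk⟩) with h | h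
      · exact hyV k ((hVmem k).2 ⟨hk, h⟩)
      · have hkz : k * z ∈ V := by
          rw [hVmem]
          refine ⟨K.mul_mem hk hzK, ?_⟩
          have : (⟨k * z, hKH (K.mul_mem hk hzK)⟩ : ↥H) = ⟨k, hKH hk⟩ * ⟨z, hzH⟩ := rfl
          rw [this, map_mul, h, hχz]
          decide
        have h1 := hyV (k * z) hkz
        have h2 : y * z = z * y := hzc y hyH
        -- `y k z = k z y = k y z`
        have h3 : y * k * z = k * y * z := by
          rw [mul_assoc, h1, mul_assoc k z y, ← h2, ← mul_assoc]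
        exact mul_right_cancel h3
    exact (hVmem y).2 ⟨hyK, hχy⟩
  obtain ⟨e⟩ := h24 L V hVL hLN hLcard hVcard hCV
  obtain ⟨f⟩ := nonempty_mulEquiv_ker_prod χ ⟨z, hzH⟩ hz'2 hz'c hχz
  have eL : ↥χ.ker ≃* ↥L := by
    rw [← hLdef]
    exact Subgroup.equivMapOfInjective χ.ker H.subtype H.subtype_injective
  exact ⟨f.trans (MulEquiv.prodCongr (eL.trans e) (MulEquiv.refl _))⟩

end Cfsg.Agent.Lib.Helper15.SIMS2G48
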