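import Mathlib
import Cfsg.Prelude.Def_CaseTheorems

/-! S2772 market "SIMS3" (planner helper18): leaf CENT `centralizer_pCore_ambient` — helper15. -/

set_option autoImplicit false

namespace Cfsg.Agent.Lib.Helper15.SIMS3CENT

open Cfsg

variable {G : Type*} [Group G]

/-- LEAF CENT (the hypothesis `C_A(O₂(A)) ≤ O₂(A)` in ambient form). -/
theorem centralizer_pCore_ambient (A : Subgroup G)
    (hchar : Subgroup.centralizer (Cfsg.pCore 2 ↥A : Set ↥A) ≤ Cfsg.pCore 2 ↥A) :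
    ∀ y ∈ A, (∀ k ∈ (Cfsg.pCore 2 ↥A).map A.subtype, y * k = k * y) →
      y ∈ (Cfsg.pCore 2 ↥A).map A.subtype := by
  intro y hy hyc
  refine ⟨⟨y, hy⟩, hchar ?_, rfl⟩
  rw [Subgroup.mem_centralizer_iff]
  intro k hk
  apply Subtype.ext
  exact (hyc k.1 ⟨k, hk, rfl⟩).symm

end Cfsg.Agent.Lib.Helper15.SIMS3CENT
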