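import Mathlib
import Cfsg.Prelude.Def_CaseTheorems

/-! S2772 market "SIMS3" (planner helper18): leaf Q2 `card_of_dihedral_quotient` — helper15. -/

set_option autoImplicit false

namespace Cfsg.Agent.Lib.Helper15.SIMS3Q2

open Cfsg

/-- LEAF Q2. -/
theorem card_of_dihedral_quotient {M : Type*} [Group M] [Finite M] (q : ℕ) (hq : q.Prime)
    (hD : Nonempty (M ⧸ Cfsg.pCore 2 M ≃* DihedralGroup q)) :
    q ≠ 2 ∧ Nat.card M = 2 * q * Nat.card ↥(Cfsg.pCore 2 M) := by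
  obtain ⟨e⟩ := hD
  have hquot : Nat.card (M ⧸ Cfsg.pCore 2 M) = 2 * q := by
    rw [Nat.card_congr e.toEquiv, DihedralGroup.nat_card]
  have hcard : Nat.card M = 2 * q * Nat.card ↥(Cfsg.pCore 2 M) := by
    rw [Subgroup.card_eq_card_quotient_mul_card_subgroup (Cfsg.pCore 2 M), hquot]
  refine ⟨?_, hcard⟩
  intro hq2
  subst hq2
  have hp2 : Fact (Nat.Prime 2) := ⟨Nat.prime_two⟩
  have hO : IsPGroup 2 (Cfsg.pCore 2 M) :=
    Sylow.sSup_of_normal _ (fun _ h => h.2) (fun _ h => h.1)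
  obtain ⟨k, hk⟩ := hO.exists_card_eq
  have hM : IsPGroup 2 M := by
    apply IsPGroup.of_card (n := k + 2)
    rw [hcard, hk]
    ring
  have htop : (⊤ : Subgroup M) ≤ Cfsg.pCore 2 M :=
    le_sSup ⟨inferInstance, hM.to_subgroup ⊤⟩
  have hcardO : Nat.card ↥(Cfsg.pCore 2 M) = Nat.card M := by
    rw [top_le_iff.1 htop, Subgroup.card_top]
  rw [hcardO] at hcard
  have hpos : 0 < Nat.card M := Nat.card_pos
  omega

end Cfsg.Agent.Lib.Helper15.SIMS3Q2
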