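import Mathlib
import Cfsg.Prelude.Def_CaseTheorems
import Cfsg.Agent.Lib.Helper29.TWPairA

/-! S2772 market "SIMS3" (planner helper18): leaf SETUP2 `coreIn_sylow_eq` — helper15. -/

set_option autoImplicit false

namespace Cfsg.Agent.Lib.Helper15.SIMS3SETUP2

open Cfsg Cfsg.Agent.Lib.Helper29.TWPair

variable {G : Type*} [Group G]

/-- LEAF SETUP2 (the core of a Sylow 2-subgroup is `O₂`). -/
theorem coreIn_sylow_eq [Finite G] (A : Subgroup G) (S : Sylow 2 ↥A) :
    coreIn A ((S : Subgroup ↥A).map A.subtype) = (Cfsg.pCore 2 ↥A).map A.subtype := by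
  have h1 : ((S : Subgroup ↥A).map A.subtype).subgroupOf A = (S : Subgroup ↥A) := by
    ext x
    rw [Subgroup.mem_subgroupOf]
    constructor
    · rintro ⟨y, hy, hyx⟩
      have : y = x := Subtype.ext hyx
      rwa [← this]
    · intro hx
      exact ⟨x, hx, rfl⟩
  have h2 : (S : Subgroup ↥A).normalCore = Cfsg.pCore 2 ↥A := by
    apply le_antisymm
    · exact le_sSup ⟨Subgroup.normalCore_normal _, S.2.to_le (Subgroup.normalCore_le _)⟩
    · rw [Subgroup.normal_le_normalCore]
      apply sSup_le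
      rintro N ⟨hN, hNp⟩
      exact hNp.le_sylow_of_normal S
  unfold coreIn
  rw [h1, h2]

end Cfsg.Agent.Lib.Helper15.SIMS3SETUP2
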