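/-
helper15 (S4538, part (B), leaves T6 of `notes/S4538_leaves.lean`): for any (B,N)-pair `P0` of
`↥(SLsub n F)` with `IsSLBN n F P0`:  `|B s_i B| = q |B|`  and  `|U| = q ^ ℓ(w₀)`.
-/
import Mathlib
import Cfsg.Agent.Lib.Helper27.SLGGDet
import Cfsg.Agent.Lib.Helper6.BNResA
import Cfsg.Agent.Lib.Helper7.BNCount

set_option autoImplicit false

namespace Cfsg.Agent.Lib.Helper15.SLGG

open Matrix Equiv Cfsg Cfsg.Agent.Lib.Helper6.GLBN Cfsg.Agent.Lib.Helper27.SLGG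
open Cfsg.Agent.Lib.Helper3.BN Cfsg.Agent.Lib.Helper3.WordLen Cfsg.Agent.Lib.Helper6.BNSt
open Cfsg.Agent.Lib.Helper6.CoxRed

section general
variable {G : Type*} [Group G] (P : Cfsg.BNPair G)

/-- `|B n B| = |B : B ∩ n B n⁻¹| · |B|` (copy of helper6 `GG.card_dc_eq`, to avoid its imports) -/
theorem card_dc_eq_index [Finite G] (n : G) :
    Nat.card (dc P n) = (BStab P n).index * Nat.card P.B := by
  rw [Subgroup.index, ← Nat.card_prod]
  symm
  apply Nat.card_congr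
  let rep : (P.B ⧸ BStab P n) → P.B := fun q => Quotient.out q
  have hrep : ∀ q : P.B ⧸ BStab P n, (QuotientGroup.mk (rep q) : P.B ⧸ BStab P n) = q := fun q =>
    Quotient.out_eq' q
  have hmem : ∀ z : (P.B ⧸ BStab P n) × P.B, ((rep z.1 : P.B) : G) * n * (z.2 : G) ∈ dc P n := by
    intro z
    rw [mem_dc]
    exact ⟨_, (rep z.1).2, _, z.2.2, rfl⟩
  refine Equiv.ofBijective (fun z => (⟨_, hmem z⟩ : dc P n)) ⟨?_, ?_⟩
  · rintro ⟨q1, b1⟩ ⟨q2, b2⟩ he
    have he' : ((rep q1 : P.B) : G) * n * (b1 : G) = ((rep q2 : P.B) : G) * n * (b2 : G) :=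
      congrArg Subtype.val he
    have h1 : n⁻¹ * (((rep q2)⁻¹ * rep q1 : P.B) : G) * n = (b2 : G) * (b1 : G)⁻¹ := by
      have e1 : n⁻¹ * (((rep q2)⁻¹ * rep q1 : P.B) : G) * n
          = n⁻¹ * ((rep q2 : P.B) : G)⁻¹ * (((rep q1 : P.B) : G) * n * (b1 : G)) * (b1 : G)⁻¹ := by
        rw [Subgroup.coe_mul, Subgroup.coe_inv]; group
      rw [e1, he']; group
    have h2 : (rep q2)⁻¹ * rep q1 ∈ BStab P n := by
      rw [mem_BStab, h1]
      exact P.B.mul_mem b2.2 (P.B.inv_mem b1.2)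
    have h3 : q2 = q1 := by
      rw [← hrep q2, ← hrep q1]
      exact QuotientGroup.eq.mpr h2
    subst h3
    have h4 : (b1 : G) = (b2 : G) := by
      have := mul_left_cancel he'
      exact this
    exact Prod.ext rfl (Subtype.ext h4)
  · rintro ⟨g, hg⟩
    rw [mem_dc] at hg
    obtain ⟨b, hb, b', hb', rfl⟩ := hg
    set q : P.B ⧸ BStab P n := QuotientGroup.mk (⟨b, hb⟩ : P.B) with hq
    have h1 : (rep q)⁻¹ * (⟨b, hb⟩ : P.B) ∈ BStab P n := by
      apply QuotientGroup.eq.mp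
      rw [hrep q]
    rw [mem_BStab] at h1
    refine ⟨(q, ⟨n⁻¹ * (((rep q)⁻¹ * (⟨b, hb⟩ : P.B) : P.B) : G) * n * b', P.B.mul_mem h1 hb'⟩), ?_⟩
    apply Subtype.ext
    show ((rep q : P.B) : G) * n * (n⁻¹ * (((rep q)⁻¹ * (⟨b, hb⟩ : P.B) : P.B) : G) * n * b')
      = b * n * b'
    rw [Subgroup.coe_mul, Subgroup.coe_inv]
    group

end general

section gl
variable {n : ℕ} {F : Type*} [Field F]

theorem det_xGL (p q : Fin n) (hpq : p ≠ q) (t : F) :
    ((xGL p q hpq t : GL (Fin n) F) : Matrix (Fin n) (Fin n) F).det = 1 := by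
  rw [coe_xGL]; exact Matrix.det_transvection_of_ne p q hpq t

theorem xGL_mem_SLsub (p q : Fin n) (hpq : p ≠ q) (t : F) : xGL p q hpq t ∈ SLsub n F :=
  mem_SLsub.mpr (det_xGL p q hpq t)

theorem xGL_entry (p q : Fin n) (hpq : p ≠ q) (t : F) :
    ((xGL p q hpq t : GL (Fin n) F) : Matrix (Fin n) (Fin n) F) p q = t := by
  rw [coe_xGL, transvection_apply', if_neg hpq, if_pos ⟨rfl, rfl⟩, zero_add]

theorem xGL_congr {p q p' q' : Fin n} (hpq : p ≠ q) (hpq' : p' ≠ q') (hp : p = p') (hq : q = q')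
    {t t' : F} (ht : t = t') : xGL p q hpq t = xGL p' q' hpq' t' := by
  subst hp; subst hq; subst ht; rfl

/-- the sign matrix `diag(1,..,-1,..,1)` with `-1` at `k'` -/
def dgm (k' : Fin n) : GL (Fin n) F := monoGL 1 (fun j => if j = k' then -1 else 1)

theorem dgm_mem_Bup (k' : Fin n) : (dgm k' : GL (Fin n) F) ∈ Bup n F :=
  (monoGL_mem_Bup_iff 1 _).mpr rfl

theorem sS_eq (k k' : Fin n) : (sS k k' : GL (Fin n) F) = dgm k' * sG k k' := by
  unfold sS dgm sG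
  rw [monoGL_mul]
  congr 1
  funext j
  by_cases hj : j = k
  · subst hj
    rw [if_pos rfl, swap_apply_left, if_pos rfl, mul_one]
  · rw [if_neg hj, if_neg, mul_one]
    intro h
    apply hj
    rw [swap_apply_eq_iff, swap_apply_right] at h
    exact h

theorem sS_inv_eq (k k' : Fin n) : (sS k k' : GL (Fin n) F)⁻¹ = sG k k' * (dgm k')⁻¹ := by
  rw [sS_eq, _root_.mul_inv_rev, sG_inv]

section adjacent
variable {k k' : Fin n} (hk : k.val + 1 = k'.val)
include hk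

theorem adj_ne : k ≠ k' := fun e => by rw [e] at hk; omega

theorem adj_lt : k < k' := by rw [Fin.lt_def]; omega

/-- conjugation by `sS` preserves the upper triangular matrices with vanishing `(k,k')` entry -/
theorem sS_conj_mem_Bup {b : GL (Fin n) F} (hb : b ∈ Bup n F)
    (h0 : (b : Matrix (Fin n) (Fin n) F) k k' = 0) :
    sS k k' * b * (sS k k')⁻¹ ∈ Bup n F := by
  have e : sS k k' * b * (sS k k')⁻¹ = dgm k' * (sG k k' * b * sG k k') * (dgm k')⁻¹ := by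
    rw [sS_inv_eq, sS_eq]; group
  rw [e]
  exact Subgroup.mul_mem _ (Subgroup.mul_mem _ (dgm_mem_Bup k')
    (sG_conj_mem_Bup hk.symm hb h0)) (Subgroup.inv_mem _ (dgm_mem_Bup k'))

/-- `sS x(u) sS⁻¹` is upper triangular only for `u = 0` -/
theorem eq_zero_of_sS_conj_mem {u : F}
    (h : sS k k' * xGL k k' (adj_ne hk) u * (sS k k')⁻¹ ∈ Bup n F) : u = 0 := by
  have hkk' := adj_ne hk
  have e : sG k k' * xGL k k' hkk' u * sG k k' =
      (dgm k')⁻¹ * (sS k k' * xGL k k' hkk' u * (sS k k')⁻¹) * dgm k' := by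
    rw [sS_inv_eq, sS_eq]; group
  have h1 : sG k k' * xGL k k' hkk' u * sG k k' ∈ Bup n F := by
    rw [e]
    exact Subgroup.mul_mem _ (Subgroup.mul_mem _ (Subgroup.inv_mem _ (dgm_mem_Bup k')) h)
      (dgm_mem_Bup k')
  have h2 : sG k k' * xGL k k' hkk' u * sG k k' = xGL k' k hkk'.symm u := by
    have h3 := xGL_mul_monoGL (swap k k') (fun _ => (1 : Fˣ)) k k' hkk' u
    have h4 : sG k k' * xGL k k' hkk' u * sG k k' = sG k k' * (xGL k k' hkk' u * sG k k') := by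
      group
    rw [h4]
    show sG k k' * (xGL k k' hkk' u * monoGL (swap k k') (fun _ => (1 : Fˣ))) = _
    rw [h3]
    show sG k k' * (sG k k' * _) = _
    rw [← mul_assoc, sG_mul_self, one_mul]
    apply xGL_congr
    · simp
    · simp
    · simp
  rw [h2] at h1
  have h5 := (mem_Bup.mp h1) k' k (adj_lt hk)
  rw [xGL_entry] at h5
  exact h5

end adjacent

end gl

section sl
variable {n : ℕ} {F : Type*} [Field F]

/-- the root elements `1 + t E_{k,k+1}` in `↥(SLsub n F)` -/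
def xSl (i : SLι n) (t : F) : SLsub n F :=
  ⟨xGL i.1.1 i.1.2 (SLι_ne i) t, xGL_mem_SLsub _ _ _ t⟩

theorem coe_xSl (i : SLι n) (t : F) :
    ((xSl i t : SLsub n F) : GL (Fin n) F) = xGL i.1.1 i.1.2 (SLι_ne i) t := rfl

variable (P0 : Cfsg.BNPair (SLsub n F)) (h0 : IsSLBN n F P0)
include h0

theorem mem_B_iff (x : SLsub n F) : x ∈ P0.B ↔ (x : GL (Fin n) F) ∈ Bup n F := by
  rw [h0.hB]; exact Subgroup.mem_subgroupOf

theorem mem_N_iff (x : SLsub n F) : x ∈ P0.N ↔ (x : GL (Fin n) F) ∈ monoSubgroup n F := by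
  rw [h0.hN]; exact Subgroup.mem_subgroupOf

theorem xSl_mem_B (i : SLι n) (t : F) : xSl i t ∈ P0.B :=
  (mem_B_iff P0 h0 _).mpr (xGL_mem_Bup (adj_lt i.2) t)

/-- **T6 (first half)**: `|B s_i B| = q |B|` -/
theorem sl_hcardC [Fintype F] (i : SLι n) (hs : sSl n F i ∈ P0.S) :
    Nat.card (C P0 (sb P0 (sSl n F i) hs)) = Fintype.card F * Nat.card P0.B := by
  classical
  have hkk' := SLι_ne i
  let φ : P0.B × F → C P0 (sb P0 (sSl n F i) hs) := fun p =>
    ⟨(p.1 : SLsub n F) * sSl n F i * xSl i p.2, by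
      rw [sb, C_mk, mem_dc]
      exact ⟨p.1, p.1.2, xSl i p.2, xSl_mem_B P0 h0 i p.2, rfl⟩⟩
  have hinj : Function.Injective φ := by
    rintro ⟨b, t⟩ ⟨b', t'⟩ h
    have h1 : (b : SLsub n F) * sSl n F i * xSl i t = (b' : SLsub n F) * sSl n F i * xSl i t' :=
      congrArg Subtype.val h
    have h2 : sSl n F i * (xSl i t * (xSl i t')⁻¹) * (sSl n F i)⁻¹ =
        (b : SLsub n F)⁻¹ * (b' : SLsub n F) := by
      have e1 : sSl n F i * (xSl i t * (xSl i t')⁻¹) * (sSl n F i)⁻¹ =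
          (b : SLsub n F)⁻¹ * ((b : SLsub n F) * sSl n F i * xSl i t) * (xSl i t')⁻¹ *
            (sSl n F i)⁻¹ := by group
      rw [e1, h1]; group
    have h3 : sSl n F i * (xSl i t * (xSl i t')⁻¹) * (sSl n F i)⁻¹ ∈ P0.B := by
      rw [h2]; exact P0.B.mul_mem (P0.B.inv_mem b.2) b'.2
    rw [mem_B_iff P0 h0] at h3
    have h4 : ((sSl n F i * (xSl i t * (xSl i t')⁻¹) * (sSl n F i)⁻¹ : SLsub n F) : GL (Fin n) F) =
        sS i.1.1 i.1.2 * xGL i.1.1 i.1.2 hkk' (t + -t') * (sS i.1.1 i.1.2)⁻¹ := by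
      rw [Subgroup.coe_mul, Subgroup.coe_mul, Subgroup.coe_mul, Subgroup.coe_inv, Subgroup.coe_inv,
        coe_sSl, coe_xSl, coe_xSl, xGL_inv, xGL_mul]
    rw [h4] at h3
    have h5 := eq_zero_of_sS_conj_mem i.2 h3
    have htt : t = t' := by
      have : t - t' = 0 := by rw [sub_eq_add_neg]; exact h5
      exact sub_eq_zero.mp this
    subst htt
    have hbb : (b : SLsub n F) = b' := by
      have := mul_right_cancel h1
      exact mul_right_cancel this
    exact Prod.ext (Subtype.ext hbb) rfl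
  have hsurj : Function.Surjective φ := by
    rintro ⟨g, hg⟩
    rw [sb, C_mk, mem_dc] at hg
    obtain ⟨b₁, hb₁, b₂, hb₂, rfl⟩ := hg
    obtain ⟨t, b', hb', hb'0, he⟩ := exists_factor i.2.symm ((mem_B_iff P0 h0 b₂).mp hb₂) hkk'
    have hb'e : ((b₂ * (xSl i t)⁻¹ : SLsub n F) : GL (Fin n) F) = b' := by
      rw [Subgroup.coe_mul, Subgroup.coe_inv, coe_xSl, he]; group
    refine ⟨(⟨b₁ * (sSl n F i * (b₂ * (xSl i t)⁻¹) * (sSl n F i)⁻¹), ?_⟩, t), ?_⟩
    · refine P0.B.mul_mem hb₁ ?_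
      rw [mem_B_iff P0 h0, Subgroup.coe_mul, Subgroup.coe_mul, Subgroup.coe_inv, hb'e, coe_sSl]
      exact sS_conj_mem_Bup i.2 hb' hb'0
    · apply Subtype.ext
      show b₁ * (sSl n F i * (b₂ * (xSl i t)⁻¹) * (sSl n F i)⁻¹) * sSl n F i * xSl i t =
        b₁ * sSl n F i * b₂
      group
  have hcard := Nat.card_congr (Equiv.ofBijective φ ⟨hinj, hsurj⟩)
  rw [Nat.card_prod, Nat.card_eq_fintype_card (α := F)] at hcard
  rw [← hcard, mul_comm]

end sl

end Cfsg.Agent.Lib.Helper15.SLGG
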