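/-
helper15 (S4538, part (B), leaf T6 second half of `notes/S4538_leaves.lean`): for any (B,N)-pair `P0` of
`↥(SLsub n F)` with `IsSLBN n F P0`:  `|U| = q ^ ℓ(w₀)`.
Route: the signed antidiagonal monomial matrix `n0s` represents `w₀`; `B ∩ n0s B n0s⁻¹` is the diagonal
torus `T`; `B ≃ U × T`; `|B w₀ B| = q ^ ℓ(w₀) |B|` (helper7 `card_C` + `sl_hcardC`).
-/
import Mathlib
import Cfsg.Agent.Lib.Helper15.SLGGCard

set_option autoImplicit false

namespace Cfsg.Agent.Lib.Helper15.SLGG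

open Matrix Equiv Cfsg Cfsg.Agent.Lib.Helper6.GLBN Cfsg.Agent.Lib.Helper27.SLGG
open Cfsg.Agent.Lib.Helper3.BN Cfsg.Agent.Lib.Helper3.WordLen Cfsg.Agent.Lib.Helper6.BNSt
open Cfsg.Agent.Lib.Helper6.CoxRed

section gl
variable {n : ℕ} {F : Type*} [Field F]

/-- the sign of the order reversing permutation, as a unit of `F` -/
def revEps (n : ℕ) (F : Type*) [Field F] : Fˣ :=
  if Perm.sign (Fin.revPerm : Perm (Fin n)) = 1 then 1 else -1

theorem sign_mul_revEps :
    (((Perm.sign (Fin.revPerm : Perm (Fin n)) : ℤˣ) : ℤ) : F) * ((revEps n F : Fˣ) : F) = 1 := by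
  unfold revEps
  rcases Int.units_eq_one_or (Perm.sign (Fin.revPerm : Perm (Fin n))) with h | h
  · rw [h, if_pos rfl]; simp
  · rw [h, if_neg (by decide)]; simp

/-- the coefficients of the signed antidiagonal matrix -/
def n0c (n : ℕ) (F : Type*) [Field F] : Fin n → Fˣ := fun j => if j.val = 0 then revEps n F else 1

/-- the signed antidiagonal monomial matrix -/
def n0G (n : ℕ) (F : Type*) [Field F] : GL (Fin n) F := monoGL Fin.revPerm (n0c n F)

theorem det_n0G : ((n0G n F : GL (Fin n) F) : Matrix (Fin n) (Fin n) F).det = 1 := by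
  unfold n0G
  rw [coe_monoGL, det_mono]
  cases n with
  | zero =>
    have : (Fin.revPerm : Perm (Fin 0)) = 1 := Subsingleton.elim _ _
    rw [this]; simp
  | succ m =>
    have hprod : ∏ j : Fin (m + 1), ((n0c (m + 1) F j : Fˣ) : F) = ((revEps (m + 1) F : Fˣ) : F) := by
      rw [Finset.prod_eq_single (0 : Fin (m + 1))]
      · unfold n0c; rw [if_pos (by simp)]
      · intro j _ hj
        unfold n0c
        rw [if_neg (fun h => hj (Fin.ext (by simpa using h)))]; simp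
      · intro h; exact absurd (Finset.mem_univ _) h
    rw [hprod]
    exact sign_mul_revEps

theorem n0G_mem_SLsub : n0G n F ∈ SLsub n F := mem_SLsub.mpr det_n0G

theorem n0G_mem_mono : n0G n F ∈ monoSubgroup n F := ⟨_, _, rfl⟩

theorem revPerm_inv' : (Fin.revPerm : Perm (Fin n))⁻¹ = Fin.revPerm := by
  ext i
  rw [Perm.inv_def, Fin.revPerm_symm]

/-- conjugating a matrix by `n0G` -/
theorem coe_n0G_conj (A : Matrix (Fin n) (Fin n) F) (i j : Fin n) :
    ((((n0G n F)⁻¹ : GL (Fin n) F) : Matrix (Fin n) (Fin n) F) * A *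
      ((n0G n F : GL (Fin n) F) : Matrix (Fin n) (Fin n) F)) i j =
      (((n0c n F i)⁻¹ : Fˣ) : F) * A i.rev j.rev * ((n0c n F j : Fˣ) : F) := by
  unfold n0G
  rw [monoGL_inv, coe_monoGL, coe_monoGL, mul_mono_apply, mono_mul_apply]
  simp [revPerm_inv']

end gl

section sl
variable {n : ℕ} {F : Type*} [Field F]

/-- the signed antidiagonal matrix in `↥(SLsub n F)` -/
def n0s (n : ℕ) (F : Type*) [Field F] : SLsub n F := ⟨n0G n F, n0G_mem_SLsub⟩

theorem coe_n0s : ((n0s n F : SLsub n F) : GL (Fin n) F) = n0G n F := rfl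

/-- the lower root elements `1 + t E_{k+1,k}` in `↥(SLsub n F)` -/
def ySl (i : SLι n) (t : F) : SLsub n F :=
  ⟨xGL i.1.2 i.1.1 (SLι_ne i).symm t, xGL_mem_SLsub _ _ _ t⟩

theorem coe_ySl (i : SLι n) (t : F) :
    ((ySl i t : SLsub n F) : GL (Fin n) F) = xGL i.1.2 i.1.1 (SLι_ne i).symm t := rfl

variable (P0 : Cfsg.BNPair (SLsub n F)) (h0 : IsSLBN n F P0)
include h0

theorem n0s_mem_N : n0s n F ∈ P0.N := (mem_N_iff P0 h0 _).mpr n0G_mem_mono

theorem Usl_le_B : Usl n F ≤ P0.B := by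
  intro u hu
  rw [mem_B_iff P0 h0]
  exact UGL_le_Bup (Subgroup.mem_subgroupOf.mp hu)

/-- the signed antidiagonal matrix represents the longest element -/
theorem mkW_n0s [Finite (SLsub n F)] : mkW P0 (n0s n F) (n0s_mem_N P0 h0) = w0 P0 := by
  apply mkW_eq_w0_of_exists
  intro s hs
  have hs' := hs
  rw [h0.S_eq_range] at hs'
  obtain ⟨i, rfl⟩ := hs'
  have hkk' := SLι_ne i
  refine ⟨xSl i 1 * n0s n F, ?_, ?_⟩
  · rw [mem_C_mk, mem_dc]
    exact ⟨xSl i 1, xSl_mem_B P0 h0 i 1, 1, P0.B.one_mem, by rw [mul_one]⟩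
  · rw [mem_C_mk, mem_dc]
    refine ⟨sSl n F i * xSl i 1 * (ySl i ((1 : F)⁻¹))⁻¹, ?_,
      (n0s n F)⁻¹ * ySl i ((1 : F)⁻¹) * n0s n F, ?_, by group⟩
    · rw [mem_B_iff P0 h0, Subgroup.coe_mul, Subgroup.coe_mul, Subgroup.coe_inv, coe_sSl, coe_xSl,
        coe_ySl, xGL_inv, sS_eq]
      have hr := rank_one_mem_Bup (F := F) i.2.symm hkk' (t := 1) one_ne_zero
      have e : dgm i.1.2 * sG i.1.1 i.1.2 * xGL i.1.1 i.1.2 hkk' 1 *
            xGL i.1.2 i.1.1 hkk'.symm (-(1 : F)⁻¹) =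
          dgm i.1.2 * (sG i.1.1 i.1.2 * xGL i.1.1 i.1.2 hkk' 1 *
            xGL i.1.2 i.1.1 hkk'.symm (-(1 : F)⁻¹)) := by group
      rw [e]
      exact Subgroup.mul_mem _ (dgm_mem_Bup _) hr
    · rw [mem_B_iff P0 h0, Subgroup.coe_mul, Subgroup.coe_mul, Subgroup.coe_inv, coe_ySl, coe_n0s]
      have h3 := xGL_mul_monoGL Fin.revPerm (n0c n F) i.1.2 i.1.1 hkk'.symm ((1 : F)⁻¹)
      have e : (n0G n F)⁻¹ * xGL i.1.2 i.1.1 hkk'.symm (1 : F)⁻¹ * n0G n F =
          (n0G n F)⁻¹ * (xGL i.1.2 i.1.1 hkk'.symm (1 : F)⁻¹ *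
            monoGL Fin.revPerm (n0c n F)) := by
        unfold n0G; group
      rw [e, h3, ← mul_assoc]
      have e2 : (n0G n F)⁻¹ * monoGL Fin.revPerm (n0c n F) = 1 := by
        unfold n0G; rw [inv_mul_cancel]
      rw [e2, one_mul]
      have hrev : (Fin.revPerm : Perm (Fin n))⁻¹ i.1.2 < (Fin.revPerm : Perm (Fin n))⁻¹ i.1.1 := by
        rw [revPerm_inv', Fin.revPerm_apply, Fin.revPerm_apply, Fin.rev_lt_rev]
        exact adj_lt i.2
      exact xGL_mem_Bup hrev _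

/-- `B ∩ n0s B n0s⁻¹`, as a subgroup of `B`, consists of the diagonal matrices -/
theorem mem_BStab_n0s (b : P0.B) :
    b ∈ BStab P0 (n0s n F) ↔ ∀ i j : Fin n, i ≠ j →
      (((b : SLsub n F) : GL (Fin n) F) : Matrix (Fin n) (Fin n) F) i j = 0 := by
  have hb : ((b : SLsub n F) : GL (Fin n) F) ∈ Bup n F := (mem_B_iff P0 h0 _).mp b.2
  rw [mem_BStab, mem_B_iff P0 h0, Subgroup.coe_mul, Subgroup.coe_mul, Subgroup.coe_inv, coe_n0s,
    mem_Bup]
  constructor
  · intro h i j hij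
    rcases lt_or_gt_of_ne hij with hlt | hgt
    · have := h i.rev j.rev (Fin.rev_lt_rev.mpr hlt)
      rw [Units.val_mul, Units.val_mul, coe_n0G_conj, Fin.rev_rev, Fin.rev_rev] at this
      have h1 : (((n0c n F i.rev)⁻¹ : Fˣ) : F) ≠ 0 := Units.ne_zero _
      have h2 : ((n0c n F j.rev : Fˣ) : F) ≠ 0 := Units.ne_zero _
      rcases mul_eq_zero.mp this with h3 | h3
      · rcases mul_eq_zero.mp h3 with h4 | h4
        · exact absurd h4 h1
        · exact h4
      · exact absurd h3 h2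
    · exact (mem_Bup.mp hb) i j hgt
  · intro h i j hji
    rw [Units.val_mul, Units.val_mul, coe_n0G_conj,
      h i.rev j.rev (fun he => (ne_of_gt hji) (Fin.rev_inj.mp he)), mul_zero, zero_mul]

omit h0 in
/-- a matrix which is unitriangular and diagonal is `1` -/
theorem eq_one_of_diag_of_uni {m : SLsub n F} (h1 : ∀ i, ((m : GL (Fin n) F) : Matrix (Fin n) (Fin n) F) i i = 1)
    (h2 : ∀ i j : Fin n, i ≠ j → ((m : GL (Fin n) F) : Matrix (Fin n) (Fin n) F) i j = 0) : m = 1 := by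
  apply Subtype.ext
  apply Units.ext
  ext i j
  rw [Subgroup.coe_one, Units.val_one, Matrix.one_apply]
  by_cases hij : i = j
  · subst hij; rw [if_pos rfl]; exact h1 i
  · rw [if_neg hij]; exact h2 i j hij

/-- `B ≃ U × T` -/
theorem card_B_eq_mul [Finite (SLsub n F)] :
    Nat.card P0.B = Nat.card (Usl n F) * Nat.card (BStab P0 (n0s n F)) := by
  rw [← Nat.card_prod]
  symm
  apply Nat.card_congr
  refine Equiv.ofBijective
    (fun z : Usl n F × BStab P0 (n0s n F) =>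
      (⟨(z.1 : SLsub n F) * ((z.2 : P0.B) : SLsub n F),
        P0.B.mul_mem (Usl_le_B P0 h0 z.1.2) (z.2 : P0.B).2⟩ : P0.B)) ⟨?_, ?_⟩
  · rintro ⟨u, d⟩ ⟨u', d'⟩ he
    have he' : (u : SLsub n F) * ((d : P0.B) : SLsub n F) =
        (u' : SLsub n F) * ((d' : P0.B) : SLsub n F) := congrArg Subtype.val he
    have h1 : (u' : SLsub n F)⁻¹ * (u : SLsub n F) =
        ((d' * d⁻¹ : BStab P0 (n0s n F)) : P0.B) := by
      have e1 : (u' : SLsub n F)⁻¹ * (u : SLsub n F) =
          (u' : SLsub n F)⁻¹ * ((u : SLsub n F) * ((d : P0.B) : SLsub n F)) *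
            ((d : P0.B) : SLsub n F)⁻¹ := by group
      rw [e1, he']
      push_cast
      group
    have h2 : (u' : SLsub n F)⁻¹ * (u : SLsub n F) = 1 := by
      apply eq_one_of_diag_of_uni
      · have hu : (u'⁻¹ * u : Usl n F).1 ∈ Usl n F := (u'⁻¹ * u).2
        have hu' := Subgroup.mem_subgroupOf.mp hu
        intro i
        exact (mem_UGL.mp hu').2 i
      · rw [h1]
        exact (mem_BStab_n0s P0 h0 _).mp (d' * d⁻¹).2
    have h3 : (u : SLsub n F) = (u' : SLsub n F) := by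
      have := congrArg (fun t => (u' : SLsub n F) * t) h2
      simpa using this
    have h4 : ((d : P0.B) : SLsub n F) = ((d' : P0.B) : SLsub n F) := by
      rw [h3] at he'
      exact mul_left_cancel he'
    exact Prod.ext (Subtype.ext h3) (Subtype.ext (Subtype.ext h4))
  · rintro ⟨b, hb⟩
    have hbB : (b : GL (Fin n) F) ∈ Bup n F := (mem_B_iff P0 h0 b).mp hb
    -- the diagonal part
    let c : Fin n → Fˣ := fun i => Units.mk0 _ (diag_ne_zero hbB i)
    have hdet : ((monoGL 1 c : GL (Fin n) F) : Matrix (Fin n) (Fin n) F).det = 1 := by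
      rw [coe_monoGL, det_mono]
      have h1 : ((b : GL (Fin n) F) : Matrix (Fin n) (Fin n) F).det = 1 := mem_SLsub.mp b.2
      rw [Matrix.det_of_isUpperTriangular hbB] at h1
      simp only [Perm.sign_one, Units.val_one, Int.cast_one, one_mul]
      exact h1
    let hS : SLsub n F := ⟨monoGL 1 c, mem_SLsub.mpr hdet⟩
    have hSB : hS ∈ P0.B := (mem_B_iff P0 h0 _).mpr ((monoGL_mem_Bup_iff 1 c).mpr rfl)
    have hST : (⟨hS, hSB⟩ : P0.B) ∈ BStab P0 (n0s n F) := by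
      rw [mem_BStab_n0s P0 h0]
      intro i j hij
      show ((monoGL 1 c : GL (Fin n) F) : Matrix (Fin n) (Fin n) F) i j = 0
      rw [coe_monoGL, mono_apply, Perm.one_apply, if_neg hij]
    have hU : b * hS⁻¹ ∈ Usl n F := by
      apply Subgroup.mem_subgroupOf.mpr
      rw [Subgroup.coe_mul, Subgroup.coe_inv]
      show (b : GL (Fin n) F) * (monoGL 1 c)⁻¹ ∈ UGL n F
      rw [mem_UGL]
      refine ⟨Subgroup.mul_mem _ hbB (Subgroup.inv_mem _ ((monoGL_mem_Bup_iff 1 c).mpr rfl)), ?_⟩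
      intro i
      rw [monoGL_inv, Units.val_mul, coe_monoGL, mul_mono_apply]
      simp [c]
      exact mul_inv_cancel₀ (diag_ne_zero hbB i)
    refine ⟨(⟨b * hS⁻¹, hU⟩, ⟨⟨hS, hSB⟩, hST⟩), ?_⟩
    apply Subtype.ext
    show b * hS⁻¹ * hS = b
    group

/-- **T6 (second half)**: `|U| = q ^ ℓ(w₀)` -/
theorem sl_hcardU [Fintype F] :
    Nat.card (Usl n F) = Fintype.card F ^ len (Sbar P0) (w0 P0) := by
  have hq : ∀ s, ∀ hs : s ∈ P0.S, Nat.card (C P0 (sb P0 s hs)) = Fintype.card F * Nat.card P0.B := by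
    intro s hs
    have hs' := hs
    rw [h0.S_eq_range] at hs'
    obtain ⟨i, rfl⟩ := hs'
    exact sl_hcardC P0 h0 i hs
  have h1 : Nat.card (C P0 (w0 P0)) = Fintype.card F ^ len (Sbar P0) (w0 P0) * Nat.card P0.B :=
    Cfsg.Agent.Lib.Helper7.card_C P0 (Fintype.card F) hq _ (w0 P0) rfl
  rw [← mkW_n0s P0 h0, C_mk, card_dc_eq_index P0 (n0s n F)] at h1
  have hBpos : 0 < Nat.card P0.B := Nat.card_pos
  have h3 : (BStab P0 (n0s n F)).index =
      Fintype.card F ^ len (Sbar P0) (mkW P0 (n0s n F) (n0s_mem_N P0 h0)) :=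
    Nat.eq_of_mul_eq_mul_right hBpos h1
  rw [← mkW_n0s P0 h0, ← h3]
  have h4 := Subgroup.card_mul_index (BStab P0 (n0s n F))
  rw [card_B_eq_mul P0 h0] at h4
  have hTpos : 0 < Nat.card (BStab P0 (n0s n F)) := Nat.card_pos
  have h7 : Nat.card (BStab P0 (n0s n F)) * (BStab P0 (n0s n F)).index =
      Nat.card (BStab P0 (n0s n F)) * Nat.card (Usl n F) := by
    rw [h4]; ring
  exact (Nat.eq_of_mul_eq_mul_left hTpos h7).symm

end sl

end Cfsg.Agent.Lib.Helper15.SLGG
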