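import Cfsg.Agent.S0157
import Mathlib.LinearAlgebra.Projectivization.Action
import Mathlib.LinearAlgebra.Projectivization.Cardinality

/-!
Leaf (E) of S2332 (helper16's market): `SL_n(F)`, `F` finite with `q` elements, has an irreducible
complex representation of degree `(q^n - q)/(q - 1)`: the permutation character on the projective
points minus `1` (2-transitivity is in Mathlib; `π - 1` irreducible is S0157).
-/

set_option autoImplicit false

namespace Cfsg.Agent.Lib.Helper15.SLMinExist

open scoped LinearAlgebra.Projectivization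

/-- `|ℙ(F^n)| - 1 = (q^n - q)/(q - 1)`. -/
theorem card_proj_sub_one {F : Type*} [Field F] [Fintype F] (n : ℕ) (hn : 1 ≤ n) :
    Nat.card (ℙ F (Fin n → F)) - 1 =
      (Fintype.card F ^ n - Fintype.card F) / (Fintype.card F - 1) := by
  have hq : 1 < Fintype.card F := Fintype.one_lt_card
  have h1 := Projectivization.card F (Fin n → F)
  have hV : Nat.card (Fin n → F) = Fintype.card F ^ n := by
    rw [Nat.card_eq_fintype_card, Fintype.card_fun, Fintype.card_fin]
  rw [hV, Nat.card_eq_fintype_card (α := F)] at h1
  set q := Fintype.card F with hqdef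
  set N := Nat.card (ℙ F (Fin n → F)) with hN
  have hNpos : 1 ≤ N := by
    rcases Nat.eq_zero_or_pos N with h0 | h0
    · exfalso
      rw [h0, zero_mul] at h1
      have : q ^ n ≤ 1 := by omega
      have h2 : q ^ 1 ≤ q ^ n := Nat.pow_le_pow_right (by omega) hn
      rw [pow_one] at h2
      omega
    · exact h0
  have hq1 : 0 < q - 1 := by omega
  symm
  apply Nat.div_eq_of_eq_mul_left hq1
  -- q^n - q = (N - 1) * (q - 1)
  have h3 : (N - 1) * (q - 1) = N * (q - 1) - (q - 1) := by
    rw [Nat.sub_mul, one_mul]
  rw [h3, ← h1]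
  have h2 : q ^ 1 ≤ q ^ n := Nat.pow_le_pow_right (by omega) hn
  rw [pow_one] at h2
  omega

/-- Existence conjunct of S2332 (no exception hypothesis needed). -/
theorem exists_irreducible_rep {F : Type*} [Field F] [Fintype F] [DecidableEq F] (n : ℕ)
    (hn : 3 ≤ n) :
    ∃ ρ : Representation ℂ (Matrix.SpecialLinearGroup (Fin n) F)
        (Fin ((Fintype.card F ^ n - Fintype.card F) / (Fintype.card F - 1)) → ℂ),
      ρ.IsIrreducible := by
  classical
  have hq : 1 < Fintype.card F := Fintype.one_lt_card
  have : Finite (ℙ F (Fin n → F)) :=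
    (Projectivization.finite_iff_of_finite F (Fin n → F)).mpr inferInstance
  have h2t : MulAction.IsMultiplyPretransitive (Matrix.SpecialLinearGroup (Fin n) F)
      (ℙ F (Fin n → F)) 2 := inferInstance
  have : MulAction.IsPretransitive (Matrix.SpecialLinearGroup (Fin n) F) (ℙ F (Fin n → F)) :=
    MulAction.isPretransitive_of_is_two_pretransitive
  have hcard := card_proj_sub_one (F := F) n (by omega)
  have hX : 2 ≤ Nat.card (ℙ F (Fin n → F)) := by
    have hfr : Module.finrank F (Fin n → F) = n := by simp
    rw [Projectivization.card_of_finrank F (Fin n → F) hfr]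
    have h3 : ∑ i ∈ Finset.range 2, Nat.card F ^ i ≤ ∑ i ∈ Finset.range n, Nat.card F ^ i :=
      Finset.sum_le_sum_of_subset (Finset.range_mono (by omega))
    rw [Finset.sum_range_succ, Finset.sum_range_one, pow_zero, pow_one] at h3
    have h4 : 1 < Nat.card F := by rw [Nat.card_eq_fintype_card]; exact hq
    omega
  obtain ⟨k, ρ, hirr, hchar⟩ :=
    (Cfsg.Agent.S0157.result (G := Matrix.SpecialLinearGroup (Fin n) F) (ℙ F (Fin n → F)) hX).mpr h2t
  have hk : k = (Fintype.card F ^ n - Fintype.card F) / (Fintype.card F - 1) := by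
    rw [← hcard]
    have h1 := congrFun hchar 1
    rw [Representation.char_one, Module.finrank_fin_fun] at h1
    have hfix : MulAction.fixedBy (ℙ F (Fin n → F)) (1 : Matrix.SpecialLinearGroup (Fin n) F)
        = Set.univ := by
      ext x; simp
    simp only [hfix, Nat.card_coe_set_eq, Set.ncard_univ] at h1
    have hpos : 1 ≤ Nat.card (ℙ F (Fin n → F)) := by omega
    have h2 : ((k : ℕ) : ℂ) = ((Nat.card (ℙ F (Fin n → F)) - 1 : ℕ) : ℂ) := by
      rw [Nat.cast_sub hpos, Nat.cast_one]; exact h1
    exact_mod_cast h2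
  subst hk
  exact ⟨ρ, hirr⟩

end Cfsg.Agent.Lib.Helper15.SLMinExist
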