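import Mathlib
import Cfsg.Prelude.Def_ClassicalGeometry
import Cfsg.Prelude.Def_GeometricClasses
import Cfsg.Agent.Lib.Helper2.SOTDefs
import Cfsg.Agent.Lib.Helper2.SOTGDefs
import Cfsg.Agent.Lib.Helper4.SOTS
import Cfsg.Agent.Lib.Helper7.SpTN
import Cfsg.Agent.Lib.Helper27.SOTLADefs

/-!
helper15: S5666 (LA) leaf R2a (`stab_blocks`, `stab_perp_blocks`) of notes/S5666_LA_leaves.lean, exact signatures.
By-products: `stab_col` (column `o` of blocks of a matrix stabilising `e_o ⊗ B`), `fV_pt_single_left`, `fV_pt_first`,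
`Jm_first_pair`.
-/

set_option autoImplicit false
set_option linter.unusedSectionVars false
set_option linter.unusedVariables false

namespace Cfsg.Agent.Lib.Helper15.SOTLALeaf
open Matrix
open Cfsg.Agent.Lib.Helper25.Tens Cfsg.Agent.Lib.Helper25.SpT Cfsg.Agent.Lib.Helper19.OSub
open Cfsg.Agent.Lib.Helper2.SOT Cfsg.Agent.Lib.Helper27.SOTLA
open scoped Kronecker

variable {F : Type*} [Field F] [Fintype F] {a b : ℕ} {G : Matrix (Fin b) (Fin b) F}
  {M : Subgroup (GL (Idx a b) F)}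

/-- a matrix stabilising `e_o ⊗ B`: the column `o` of blocks and the action on `e_o ⊗ B` -/
lemma stab_col {o : Fin a} (X : Matrix (Idx a b) (Idx a b) F)
    (hX : ∀ y : Fin b → F, ∃ y' : Fin b → F, X *ᵥ pt (Pi.single o 1) y = pt (Pi.single o 1) y') :
    (∀ i : Fin a, i ≠ o → ablk X i o = 0) ∧
    ∀ y : Fin b → F, X *ᵥ pt (Pi.single o 1) y = pt (Pi.single o 1) (ablk X o o *ᵥ y) := by
  have key : ∀ (y : Fin b → F) (i : Fin a), i ≠ o → ablk X i o *ᵥ y = 0 := by
    intro y i hi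
    obtain ⟨y', hy'⟩ := hX y
    rw [mulVec_pt_single_left] at hy'
    ext k
    have := congrFun hy' (i, k)
    simp only [pt, Pi.single_apply, if_neg hi, zero_mul] at this
    simpa using this
  have h1 : ∀ i : Fin a, i ≠ o → ablk X i o = 0 := by
    intro i hi
    apply Matrix.toLin'.injective
    apply LinearMap.ext
    intro y
    rw [Matrix.toLin'_apply, key y i hi]
    simp
  refine ⟨h1, ?_⟩
  intro y
  rw [mulVec_pt_single_left]
  ext ⟨i, k⟩
  by_cases hi : i = o
  · subst hi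
    simp [pt]
  · simp [pt, hi, h1 i hi]

lemma pt_single_eq_zero {o : Fin a} {y : Fin b → F}
    (h : pt (Pi.single o (1 : F)) y = 0) : y = 0 := by
  ext k
  have := congrFun h (o, k)
  simpa [pt] using this

lemma pt_zero_right' (x : Fin a → F) : pt x (0 : Fin b → F) = 0 := by
  ext p
  simp [pt]

/-- (R2a) the stabiliser of `R = e_o ⊗ B` in blocks; `g⁻¹` stabilises `R` too. -/
theorem stab_blocks {o : Fin a} (g : GL (Idx a b) F)
    (hg : ∀ y : Fin b → F, ∃ y' : Fin b → F, mv g (pt (Pi.single o 1) y) = pt (Pi.single o 1) y') :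
    (∀ i : Fin a, i ≠ o → ablk (g : Matrix (Idx a b) (Idx a b) F) i o = 0) ∧
    (∀ y : Fin b → F, ∃ y' : Fin b → F,
      mv g⁻¹ (pt (Pi.single o 1) y) = pt (Pi.single o 1) y') ∧
    ablk (g : Matrix (Idx a b) (Idx a b) F) o o *
      ablk ((g⁻¹ : GL (Idx a b) F) : Matrix (Idx a b) (Idx a b) F) o o = 1 := by
  obtain ⟨h1, h2⟩ := stab_col (g : Matrix (Idx a b) (Idx a b) F) hg
  set γ := ablk (g : Matrix (Idx a b) (Idx a b) F) o o with hγ
  -- γ is injective
  have hinj : Function.Injective γ.mulVec := by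
    intro y y' hyy'
    have e1 : mv g (pt (Pi.single o 1) y) = mv g (pt (Pi.single o 1) y') := by
      change (g : Matrix (Idx a b) (Idx a b) F) *ᵥ _ = (g : Matrix (Idx a b) (Idx a b) F) *ᵥ _
      rw [h2, h2]
      exact congrArg _ hyy'
    have e2 := mv_injective g e1
    have e3 : pt (Pi.single o (1 : F)) (y - y') = 0 := by
      ext p
      have := congrFun e2 p
      simp only [pt, Pi.sub_apply, Pi.zero_apply] at this ⊢
      rw [mul_sub, this, sub_self]
    exact sub_eq_zero.1 (pt_single_eq_zero e3)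
  have hunit : IsUnit γ := Matrix.mulVec_injective_iff_isUnit.1 hinj
  have hinv : ∀ y : Fin b → F, mv g⁻¹ (pt (Pi.single o 1) y) = pt (Pi.single o 1) (γ⁻¹ *ᵥ y) := by
    intro y
    have e1 : mv g (pt (Pi.single o 1) (γ⁻¹ *ᵥ y)) = pt (Pi.single o 1) y := by
      change (g : Matrix (Idx a b) (Idx a b) F) *ᵥ _ = _
      rw [h2, Matrix.mulVec_mulVec, Matrix.mul_nonsing_inv _ ((Matrix.isUnit_iff_isUnit_det _).1 hunit),
        Matrix.one_mulVec]
    rw [← e1, mv_inv_mv]
  have hg' : ∀ y : Fin b → F, ∃ y' : Fin b → F,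
      mv g⁻¹ (pt (Pi.single o 1) y) = pt (Pi.single o 1) y' := fun y => ⟨_, hinv y⟩
  refine ⟨h1, hg', ?_⟩
  obtain ⟨h1', h2'⟩ := stab_col ((g⁻¹ : GL (Idx a b) F) : Matrix (Idx a b) (Idx a b) F) hg'
  have e : ablk ((g : Matrix (Idx a b) (Idx a b) F) *
      ((g⁻¹ : GL (Idx a b) F) : Matrix (Idx a b) (Idx a b) F)) o o = 1 := by
    rw [← Units.val_mul, mul_inv_cancel, Units.val_one, ablk_one, if_pos rfl]
  rw [ablk_mul, Finset.sum_eq_single o] at e
  · exact e
  · intro i _ hi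
    rw [h1' i hi, mul_zero]
  · intro h; exact absurd (Finset.mem_univ o) h

/-- the form against `e_i ⊗ z` in slices -/
lemma fV_pt_single_left (i : Fin a) (z : Fin b → F) (w : Idx a b → F) :
    fV G (pt (Pi.single i 1) z) w = ∑ j, Jm a i j * fB G z (fun l => w (j, l)) := by
  unfold fV fB
  simp only [dotProduct, pt, Matrix.mulVec, Matrix.kroneckerMap_apply, Fintype.sum_prod_type]
  rw [Finset.sum_eq_single i]
  · simp only [Pi.single_eq_same, one_mul, Finset.mul_sum]
    rw [Finset.sum_comm]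
    apply Finset.sum_congr rfl; intro j _
    apply Finset.sum_congr rfl; intro k _
    apply Finset.sum_congr rfl; intro l _
    ring
  · intro i' _ hi'
    simp [hi']
  · simp

lemma Jm_first_pair (ea : Even a) {o o' : Fin a} (ho : o.val = 0) (ho' : o'.val = 1) :
    pr ea o = o' ∧ (Jm a : Matrix (Fin a) (Fin a) F) o o' = 1 := by
  have h1 : pr ea o = o' := by
    apply Fin.ext
    rw [pr_val_even ea o (by omega), ho, ho']
  refine ⟨h1, ?_⟩
  rw [← h1, Jm_pr, if_pos (by omega)]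

/-- the form against `e_o ⊗ z` is the slice `o'` -/
lemma fV_pt_first (ea : Even a) {o o' : Fin a} (ho : o.val = 0) (ho' : o'.val = 1)
    (z : Fin b → F) (w : Idx a b → F) :
    fV G (pt (Pi.single o 1) z) w = fB G z (fun l => w (o', l)) := by
  obtain ⟨hp, hJ⟩ := Jm_first_pair (F := F) ea ho ho'
  rw [fV_pt_single_left, Finset.sum_eq_single o']
  · rw [hJ, one_mul]
  · intro j _ hj
    rw [Jm_eq_zero_of_ne ea o j (by rw [hp]; exact hj), zero_mul]
  · intro h; exact absurd (Finset.mem_univ o') h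

lemma mat_eq_zero_of_mulVec {A : Matrix (Fin b) (Fin b) F} (h : ∀ y, A *ᵥ y = 0) : A = 0 := by
  apply Matrix.toLin'.injective
  apply LinearMap.ext
  intro y
  rw [Matrix.toLin'_apply, h y]
  simp

/-- (R2b) a symplectic `g` stabilising `R` stabilises `R^⊥`: row `o'` of `g`; and `γᵀ G γ* = G`. -/
theorem stab_perp_blocks (ea : Even a) (hG : Gᵀ = G) (hnd : G.det ≠ 0) {o o' : Fin a}
    (ho : o.val = 0) (ho' : o'.val = 1) (g : GL (Idx a b) F) (hS : g ∈ SpV G)
    (hg : ∀ y : Fin b → F, ∃ y' : Fin b → F, mv g (pt (Pi.single o 1) y) = pt (Pi.single o 1) y') :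
    (∀ j : Fin a, j ≠ o' → ablk (g : Matrix (Idx a b) (Idx a b) F) o' j = 0) ∧
    (ablk (g : Matrix (Idx a b) (Idx a b) F) o o)ᵀ * G *
      ablk (g : Matrix (Idx a b) (Idx a b) F) o' o' = G := by
  obtain ⟨h1, h2⟩ := stab_col (g : Matrix (Idx a b) (Idx a b) F) hg
  obtain ⟨_, hg', hγγ'⟩ := stab_blocks g hg
  set γ := ablk (g : Matrix (Idx a b) (Idx a b) F) o o with hγ
  obtain ⟨hp, hJ⟩ := Jm_first_pair (F := F) ea ho ho'
  -- the key identity
  have key : ∀ (j : Fin a) (y y' : Fin b → F),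
      fB G (γ *ᵥ y) (ablk (g : Matrix (Idx a b) (Idx a b) F) o' j *ᵥ y') =
        Jm a o j * fB G y y' := by
    intro j y y'
    have e := (mem_SpV.1 hS) (pt (Pi.single o 1) y) (pt (Pi.single j 1) y')
    rw [fV_pt, sf_single_single] at e
    rw [← e]
    change _ = fV G ((g : Matrix (Idx a b) (Idx a b) F) *ᵥ _) ((g : Matrix (Idx a b) (Idx a b) F) *ᵥ _)
    rw [h2, fV_pt_first ea ho ho', mulVec_pt_single_left]
  -- `γ` is surjective
  have hsurj : ∀ z : Fin b → F, ∃ y, γ *ᵥ y = z := by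
    intro z
    refine ⟨ablk ((g⁻¹ : GL (Idx a b) F) : Matrix (Idx a b) (Idx a b) F) o o *ᵥ z, ?_⟩
    rw [Matrix.mulVec_mulVec, hγγ', Matrix.one_mulVec]
  constructor
  · intro j hj
    apply mat_eq_zero_of_mulVec
    intro y'
    have hz : ∀ z : Fin b → F,
        fB G z (ablk (g : Matrix (Idx a b) (Idx a b) F) o' j *ᵥ y') = 0 := by
      intro z
      obtain ⟨y, rfl⟩ := hsurj z
      rw [key, Jm_eq_zero_of_ne ea o j (by rw [hp]; exact hj), zero_mul]
    -- nondegeneracy
    have h3 : G *ᵥ (ablk (g : Matrix (Idx a b) (Idx a b) F) o' j *ᵥ y') = 0 := by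
      ext i
      have := hz (Pi.single i 1)
      unfold fB at this
      rw [single_one_dotProduct] at this
      exact this
    have h4 : G⁻¹ *ᵥ (G *ᵥ (ablk (g : Matrix (Idx a b) (Idx a b) F) o' j *ᵥ y')) = G⁻¹ *ᵥ 0 := by
      rw [h3]
    rwa [Matrix.mulVec_mulVec _ G⁻¹ G, Matrix.nonsing_inv_mul _ (Ne.isUnit hnd), Matrix.one_mulVec,
      Matrix.mulVec_zero] at h4
  · ext k l
    have e := key o' (Pi.single k 1) (Pi.single l 1)
    rw [hJ, one_mul] at e
    unfold fB at e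
    rw [← Matrix.vecMul_transpose, ← Matrix.dotProduct_mulVec, single_one_dotProduct,
      single_one_dotProduct, Matrix.mulVec_mulVec, Matrix.mulVec_mulVec, Matrix.mulVec_single_one,
      Matrix.mulVec_single_one] at e
    exact e

end Cfsg.Agent.Lib.Helper15.SOTLALeaf
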