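/-
S3713 (planner helper18), leaf HEIS `heis_ext` (frozen statement in notes/S3713_leaves.lean):
the Heisenberg relation `q(u) q(u') = q(u+u') z(ω(u',u))` for ALL pairs of `VJ J`, from the non-orthogonal pairs
(`hrelN`) and the dependent pairs (`hrelD`), over a field with more than two elements.
Orthogonal independent pair: pick `v ∈ VJ J` with `ω u v = 1`, `ω u' v = -a` (`a ≠ 0, 1`), then
`q(u') = q(v) q(u'-v) z(-ω(u',v))`, `q(u) q(v) = q(u+v) z(ω(v,u))`, `q(u+v) q(u'-v) = q(u+u') z(ω(u'-v,u+v))`.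
-/
import Cfsg.Agent.Lib.Helper18.SPDec
import Cfsg.Agent.Lib.Helper18.SPHom

set_option autoImplicit false
set_option linter.unusedSectionVars false

namespace Cfsg.Agent.Lib.Helper15.SPHEIS

open Matrix Cfsg.Agent.Lib.Helper18.SP Cfsg.Agent.Lib.Helper5 Cfsg.Agent.Lib.Helper14.SpPerfect

variable {F : Type*} [Field F] {n : ℕ} {H : Type*} [Group H]

/-- for an independent pair `u, u'` of `VJ J` there is `v ∈ VJ J` with prescribed values `ω u v = x`, `ω u' v = y` -/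
theorem exists_prescribed (J : Set (Fin n)) {u u' : V n F} (hu : u ∈ VJ n F J) (hu' : u' ∈ VJ n F J)
    (hu'0 : u' ≠ 0) (hind : ∀ α : F, u ≠ α • u') (x y : F) :
    ∃ v ∈ VJ n F J, ω n F u v = x ∧ ω n F u' v = y := by
  -- `v₁` with `ω u' v₁ = 1`
  obtain ⟨v₁, hv₁m, e₁⟩ : ∃ v₁ ∈ VJ n F J, ω n F u' v₁ = 1 := by
    obtain ⟨a₁, ha₁, h₁⟩ := VJ_nondeg (F := F) J u' hu' hu'0
    exact ⟨(ω n F u' a₁)⁻¹ • a₁, (VJ n F J).smul_mem _ ha₁, by rw [ω_smul_right, inv_mul_cancel₀ h₁]⟩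
  obtain ⟨β, hβ⟩ : ∃ β : F, β = ω n F u v₁ := ⟨_, rfl⟩
  -- `w = u - β u' ≠ 0`, `ω w v₁ = 0`
  obtain ⟨w, hw⟩ : ∃ w : V n F, w = u - β • u' := ⟨_, rfl⟩
  have hwm : w ∈ VJ n F J := by
    rw [hw]; exact (VJ n F J).sub_mem hu ((VJ n F J).smul_mem _ hu')
  have hw0 : w ≠ 0 := fun e => hind β (sub_eq_zero.mp (hw ▸ e))
  have e₄ : ω n F w v₁ = 0 := by
    rw [hw, ω_sub_left, ω_smul_left, e₁, mul_one, ← hβ, sub_self]
  obtain ⟨b₂, hb₂m, e₂⟩ : ∃ b₂ ∈ VJ n F J, ω n F w b₂ = 1 := by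
    obtain ⟨a₂, ha₂, h₂⟩ := VJ_nondeg (F := F) J w hwm hw0
    exact ⟨(ω n F w a₂)⁻¹ • a₂, (VJ n F J).smul_mem _ ha₂, by rw [ω_smul_right, inv_mul_cancel₀ h₂]⟩
  obtain ⟨γ, hγ⟩ : ∃ γ : F, γ = ω n F u' b₂ := ⟨_, rfl⟩
  obtain ⟨v₂, hv₂m, e₃, e₅⟩ : ∃ v₂ ∈ VJ n F J, ω n F u' v₂ = 0 ∧ ω n F w v₂ = 1 := by
    refine ⟨b₂ - γ • v₁, (VJ n F J).sub_mem hb₂m ((VJ n F J).smul_mem _ hv₁m), ?_, ?_⟩
    · rw [ω_sub_right, ω_smul_right, e₁, mul_one, ← hγ, sub_self]
    · rw [ω_sub_right, ω_smul_right, e₄, mul_zero, sub_zero, e₂]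
  have e₆ : ω n F u v₂ = 1 := by
    have : u = w + β • u' := by rw [hw]; abel
    rw [this, ω_add_left, ω_smul_left, e₃, mul_zero, add_zero, e₅]
  -- `v = y v₁ + (x - y β) v₂`
  refine ⟨y • v₁ + (x - y * β) • v₂,
    (VJ n F J).add_mem ((VJ n F J).smul_mem _ hv₁m) ((VJ n F J).smul_mem _ hv₂m), ?_, ?_⟩
  · rw [ω_add_right, ω_smul_right, ω_smul_right, e₆, ← hβ]
    ring
  · rw [ω_add_right, ω_smul_right, ω_smul_right, e₁, e₃]
    ring

/-- **HEIS** (the Heisenberg relation for all pairs from the non-orthogonal and the dependent pairs; `|F| > 2`). -/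
theorem heis_ext (hF : ∃ a : F, a ≠ 0 ∧ a ≠ 1) (J : Set (Fin n)) (qt : V n F → H) (zt : F → H)
    (hz_add : ∀ c d, zt (c + d) = zt c * zt d)
    (hzq : ∀ u ∈ VJ n F J, ∀ c, Commute (zt c) (qt u))
    (hq0 : qt 0 = 1)
    (hrelN : ∀ u ∈ VJ n F J, ∀ u' ∈ VJ n F J, ω n F u u' ≠ 0 → qt u * qt u' = qt (u + u') * zt (ω n F u' u))
    (hrelD : ∀ u ∈ VJ n F J, ∀ t : F, qt u * qt (t • u) = qt (u + t • u)) :
    ∀ u ∈ VJ n F J, ∀ u' ∈ VJ n F J, qt u * qt u' = qt (u + u') * zt (ω n F u' u) := by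
  have hz0 : zt 0 = 1 := by
    have := hz_add 0 0
    rw [add_zero] at this
    exact mul_eq_left.mp this.symm
  have hzneg : ∀ c, zt (-c) = (zt c)⁻¹ := by
    intro c
    rw [eq_inv_iff_mul_eq_one, ← hz_add, neg_add_cancel, hz0]
  intro u hu u' hu'
  by_cases hN : ω n F u u' ≠ 0
  · exact hrelN u hu u' hu' hN
  rw [not_not] at hN
  have hN' : ω n F u' u = 0 := by rw [ω_swap, hN, neg_zero]
  rw [hN', hz0, mul_one]
  -- dependent cases
  by_cases hu'0 : u' = 0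
  · rw [hu'0, hq0, mul_one, add_zero]
  by_cases hdep : ∃ α : F, u = α • u'
  · obtain ⟨α, rfl⟩ := hdep
    by_cases hα : α = 0
    · rw [hα, zero_smul, hq0, one_mul, zero_add]
    · have := hrelD (α • u') hu α⁻¹
      rwa [smul_smul, inv_mul_cancel₀ hα, one_smul] at this
  -- orthogonal independent pair
  have hind : ∀ α : F, u ≠ α • u' := fun α e => hdep ⟨α, e⟩
  obtain ⟨a, ha0, ha1⟩ := hF
  obtain ⟨v, hv, hv1, hv2⟩ := exists_prescribed J hu hu' hu'0 hind 1 (-a)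
  have hvu : ω n F v u = -1 := by rw [ω_swap, hv1]
  have hvu' : ω n F v u' = a := by rw [ω_swap, hv2, neg_neg]
  have huv : u + v ∈ VJ n F J := (VJ n F J).add_mem hu hv
  have hu'v : u' - v ∈ VJ n F J := (VJ n F J).sub_mem hu' hv
  -- the three relations
  have r1 : qt v * qt (u' - v) = qt u' * zt (-a) := by
    have h := hrelN v hv (u' - v) hu'v (by rw [ω_sub_right, ω_self, sub_zero, hvu']; exact ha0)
    rw [add_sub_cancel, ω_sub_left, ω_self, sub_zero, hv2] at h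
    exact h
  have r2 : qt u * qt v = qt (u + v) * zt (-1) := by
    have h := hrelN u hu v hv (by rw [hv1]; exact one_ne_zero)
    rw [hvu] at h
    exact h
  have r3 : qt (u + v) * qt (u' - v) = qt (u + u') * zt (1 - a) := by
    have hne : ω n F (u + v) (u' - v) ≠ 0 := by
      rw [ω_add_left, ω_sub_right, ω_sub_right, hN, hv1, hvu', ω_self]
      intro e
      apply ha1
      have : a = 1 := by linear_combination e
      exact this
    have h := hrelN (u + v) huv (u' - v) hu'v hne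
    have e1 : u + v + (u' - v) = u + u' := by abel
    have e2 : ω n F (u' - v) (u + v) = 1 - a := by
      rw [ω_sub_left, ω_add_right, ω_add_right, hN', hv2, hvu, ω_self]
      ring
    rw [e1, e2] at h
    exact h
  -- assemble
  have hq' : qt u' = qt v * qt (u' - v) * zt a := by
    rw [r1, mul_assoc, ← hz_add, neg_add_cancel, hz0, mul_one]
  have c1 : Commute (zt (-1)) (qt (u' - v)) := hzq _ hu'v _
  calc qt u * qt u' = qt u * qt v * qt (u' - v) * zt a := by rw [hq']; simp only [mul_assoc]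
    _ = qt (u + v) * (zt (-1) * qt (u' - v)) * zt a := by rw [r2]; simp only [mul_assoc]
    _ = qt (u + v) * qt (u' - v) * (zt (-1) * zt a) := by rw [c1.eq]; simp only [mul_assoc]
    _ = qt (u + u') * (zt (1 - a) * (zt (-1) * zt a)) := by rw [r3]; simp only [mul_assoc]
    _ = qt (u + u') := by
        rw [← hz_add, ← hz_add]
        have : (1 - a + (-1 + a) : F) = 0 := by ring
        rw [this, hz0, mul_one]

end Cfsg.Agent.Lib.Helper15.SPHEIS
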