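/-
S3713 (planner helper18), leaf HEISHOM `heis_hom` (frozen statement in notes/S3713_leaves.lean):
the hom on `PJ (insert o J) o = Q ⋊ GJ J` from Heisenberg data `qt`, `zt` and a hom `φL` on `GJ J`.
`φP g := qt u * zt c * φL l` for the unique decomposition `g = qH o u c * l` (`PJ_decomp`, `qH_mul_eq`);
multiplicativity from `(q(u,c) l)(q(u',c') l') = q(u + l u', c + c' + ω(l u',u)) (l l')` (`conj_qH`, `qH_mul`).
-/
import Cfsg.Agent.Lib.Helper18.SPDec
import Cfsg.Agent.Lib.Helper18.SPHom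

set_option autoImplicit false
set_option linter.unusedSectionVars false

namespace Cfsg.Agent.Lib.Helper15.SPHEISHOM

open Matrix Cfsg.Agent.Lib.Helper18.SP Cfsg.Agent.Lib.Helper5 Cfsg.Agent.Lib.Helper14.SpPerfect

variable {F : Type*} [Field F] {n : ℕ} {H : Type*} [Group H]

/-- the product formula in `Q ⋊ GJ J` -/
theorem qH_mul_qH {J : Set (Fin n)} {o : Fin n} (ho : o ∉ J) {u u' : V n F} (hu : u ∈ VJ n F J)
    (hu' : u' ∈ VJ n F J) (c c' : F) {l l' : Sp n F} (hl : l ∈ GJ n F J) :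
    (qH o u c * l) * (qH o u' c' * l') =
      qH o (u + act l u') (c + c' + ω n F (act l u') u) * (l * l') := by
  have h1 : (qH o u c * l) * (qH o u' c' * l') = qH o u c * (l * qH o u' c' * l⁻¹) * (l * l') := by group
  rw [h1, conj_qH ho hl, qH_mul ho hu (act_mem_VJ hl hu')]

/-- **HEISHOM** (the hom on `PJ (insert o J) o = Q ⋊ GJ J` from Heisenberg data). -/
theorem heis_hom {J : Set (Fin n)} {o : Fin n} (ho : o ∉ J) (φL : Sp n F → H) (hL : HomOn (GJ n F J) φL)
    (qt : V n F → H) (zt : F → H)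
    (hz_add : ∀ c d, zt (c + d) = zt c * zt d)
    (hzL : ∀ l ∈ GJ n F J, ∀ c, Commute (φL l) (zt c))
    (hzq : ∀ u ∈ VJ n F J, ∀ c, Commute (zt c) (qt u))
    (hequiv : ∀ l ∈ GJ n F J, ∀ u ∈ VJ n F J, φL l * qt u * (φL l)⁻¹ = qt (act l u))
    (hrel : ∀ u ∈ VJ n F J, ∀ u' ∈ VJ n F J, qt u * qt u' = qt (u + u') * zt (ω n F u' u)) :
    ∃ φP : Sp n F → H, HomOn (PJ n F (insert o J) o) φP ∧
      ∀ u ∈ VJ n F J, ∀ c, ∀ l ∈ GJ n F J, φP (qH o u c * l) = qt u * zt c * φL l := by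
  classical
  -- the decomposition, as a triple
  have hdec : ∀ g : Sp n F, g ∈ PJ n F (insert o J) o →
      ∃ t : V n F × F × Sp n F, t.1 ∈ VJ n F J ∧ t.2.2 ∈ GJ n F J ∧ g = qH o t.1 t.2.1 * t.2.2 := by
    intro g hg
    obtain ⟨u, hu, c, l, hl, e⟩ := PJ_decomp ho hg
    exact ⟨(u, c, l), hu, hl, e⟩
  let φP : Sp n F → H := fun g =>
    if hg : g ∈ PJ n F (insert o J) o then
      qt (hdec g hg).choose.1 * zt (hdec g hg).choose.2.1 * φL (hdec g hg).choose.2.2
    else 1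
  have hmemP : ∀ u ∈ VJ n F J, ∀ (c : F), ∀ l ∈ GJ n F J, qH o u c * l ∈ PJ n F (insert o J) o := by
    intro u hu c l hl
    exact mul_mem (qH_mem_PJ ho hu c) (GJ_le_PJ (Set.subset_insert o J) ho hl)
  have hval : ∀ u ∈ VJ n F J, ∀ c, ∀ l ∈ GJ n F J, φP (qH o u c * l) = qt u * zt c * φL l := by
    intro u hu c l hl
    have hg := hmemP u hu c l hl
    show (if hg : qH o u c * l ∈ PJ n F (insert o J) o then _ else 1) = _
    rw [dif_pos hg]
    obtain ⟨h1, h2, h3⟩ := (hdec _ hg).choose_spec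
    obtain ⟨e1, e2, e3⟩ := qH_mul_eq ho hu h1 hl h2 h3
    rw [← e1, ← e2, ← e3]
  refine ⟨φP, ?_, hval⟩
  intro g hg g' hg'
  obtain ⟨u, hu, c, l, hl, rfl⟩ := PJ_decomp ho hg
  obtain ⟨u', hu', c', l', hl', rfl⟩ := PJ_decomp ho hg'
  have hlu' : act l u' ∈ VJ n F J := act_mem_VJ hl hu'
  rw [qH_mul_qH ho hu hu' c c' hl, hval _ ((VJ n F J).add_mem hu hlu') _ _ (mul_mem hl hl'),
    hval u hu c l hl, hval u' hu' c' l' hl', hL.map_mul hl hl']
  -- `φL l * qt u' = qt (l u') * φL l`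
  have e1 : φL l * qt u' = qt (act l u') * φL l := by
    rw [← hequiv l hl u' hu', inv_mul_cancel_right]
  have c1 : Commute (zt c) (qt (act l u')) := hzq _ hlu' c
  have c2 : Commute (φL l) (zt c') := hzL l hl c'
  have e2 : zt (c + c' + ω n F (act l u') u) = zt (ω n F (act l u') u) * zt c * zt c' := by
    rw [← hz_add, ← hz_add]
    congr 1
    ring
  calc qt (u + act l u') * zt (c + c' + ω n F (act l u') u) * (φL l * φL l')
      = (qt u * qt (act l u')) * zt c * zt c' * (φL l * φL l') := by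
        rw [hrel u hu _ hlu', e2]; simp only [mul_assoc]
    _ = qt u * (qt (act l u') * zt c) * (zt c' * φL l) * φL l' := by simp only [mul_assoc]
    _ = qt u * (zt c * qt (act l u')) * (φL l * zt c') * φL l' := by rw [c1.eq, c2.eq]
    _ = qt u * zt c * (qt (act l u') * φL l) * zt c' * φL l' := by simp only [mul_assoc]
    _ = qt u * zt c * (φL l * qt u') * zt c' * φL l' := by rw [e1]
    _ = qt u * zt c * φL l * (qt u' * zt c' * φL l') := by simp only [mul_assoc]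

end Cfsg.Agent.Lib.Helper15.SPHEISHOM
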