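/-
S3352 part (T1) (planner helper20), leaf STO-W2 `w2_torus` (frozen statement in notes/S3352_T1_leaves.lean):
`w2 * w2`, `w2⁻¹ * w2⁻¹` and the `w2`- and `wA`-conjugates of the torus elements lie in `P1`.
From the landed leaves WAB (`A`, `B` commute), WT (rank one identities) and WHB (`HB s ∈ P1`):
`w2 * w2 = H(-1) * HB(-1)`, `w2⁻¹ H s w2 = H s⁻¹`, `w2⁻¹ HB s w2 = HB s⁻¹`, `wA⁻¹ H s wA = H s⁻¹`,
`wA⁻¹ HB s wA = HB s`.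
-/
import Cfsg.Agent.Lib.Helper20.StOStep
import Cfsg.Agent.Lib.Helper15.STOWAB
import Cfsg.Agent.Lib.Helper15.STOWT
import Cfsg.Agent.Lib.Helper15.STOWHB

set_option autoImplicit false
set_option linter.unusedSectionVars false

namespace Cfsg.Agent.Lib.Helper15.STOW2

open Matrix
open Cfsg.Agent.Lib.Helper8.StSL
open Cfsg.Agent.Lib.Helper20.StO

universe u v

section step

variable {I : Type*} [Fintype I] [DecidableEq I] {bar : I → I} {K : Type*} [Field K] [Finite K]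
  {Γ : Type*} [Group Γ] (D : StepData I bar K Γ)

/-- the explicit identities behind `w2_torus` -/
theorem w2_identities :
    D.w2 * D.w2 = D.H (-1) * D.HB (-1) ∧
    (∀ s : K, s ≠ 0 → D.w2⁻¹ * D.H s * D.w2 = D.H s⁻¹) ∧
    (∀ s : K, s ≠ 0 → D.w2⁻¹ * D.HB s * D.w2 = D.HB s⁻¹) ∧
    (∀ s : K, s ≠ 0 → D.wA⁻¹ * D.H s * D.wA = D.H s⁻¹) ∧
    (∀ s : K, D.wA⁻¹ * D.HB s * D.wA = D.HB s) := by
  obtain ⟨hcomm, hwA, hH, -, hwB, hHB, -⟩ := Cfsg.Agent.Lib.Helper15.STOWAB.AB_comm D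
  obtain ⟨-, -, -, -, hAA, hBB, hAc, hBc, -, -, -, -⟩ := Cfsg.Agent.Lib.Helper15.STOWT.torus_facts D
  have c1 : Commute D.wA D.wB := hcomm _ hwA _ hwB
  have c2 : ∀ s, Commute (D.H s) D.wB := fun s => hcomm _ (hH s) _ hwB
  have c3 : ∀ s, Commute D.wA (D.HB s) := fun s => hcomm _ hwA _ (hHB s)
  refine ⟨?_, ?_, ?_, hAc, ?_⟩
  · show D.wA * D.wB * (D.wA * D.wB) = _
    rw [← hAA, ← hBB]
    calc D.wA * D.wB * (D.wA * D.wB) = D.wA * (D.wB * D.wA) * D.wB := by group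
      _ = D.wA * (D.wA * D.wB) * D.wB := by rw [c1.eq]
      _ = D.wA * D.wA * (D.wB * D.wB) := by group
  · intro s hs
    show (D.wA * D.wB)⁻¹ * D.H s * (D.wA * D.wB) = _
    calc (D.wA * D.wB)⁻¹ * D.H s * (D.wA * D.wB)
        = D.wB⁻¹ * (D.wA⁻¹ * D.H s * D.wA) * D.wB := by group
      _ = D.wB⁻¹ * (D.H s⁻¹ * D.wB) := by rw [hAc s hs, mul_assoc]
      _ = D.wB⁻¹ * (D.wB * D.H s⁻¹) := by rw [(c2 s⁻¹).eq]
      _ = D.H s⁻¹ := by group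
  · intro s hs
    show (D.wA * D.wB)⁻¹ * D.HB s * (D.wA * D.wB) = _
    calc (D.wA * D.wB)⁻¹ * D.HB s * (D.wA * D.wB)
        = D.wB⁻¹ * D.wA⁻¹ * (D.HB s * D.wA) * D.wB := by group
      _ = D.wB⁻¹ * D.wA⁻¹ * (D.wA * D.HB s) * D.wB := by rw [(c3 s).eq]
      _ = D.wB⁻¹ * D.HB s * D.wB := by group
      _ = D.HB s⁻¹ := hBc s hs
  · intro s
    calc D.wA⁻¹ * D.HB s * D.wA = D.wA⁻¹ * (D.HB s * D.wA) := by group
      _ = D.wA⁻¹ * (D.wA * D.HB s) := by rw [(c3 s).eq]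
      _ = D.HB s := by group

/-- LEAF W-2: `w2 * w2`, and the `w2`-conjugates of the torus elements, lie in `P1`. -/
theorem w2_torus :
    D.w2 * D.w2 ∈ D.P1 ∧ D.w2⁻¹ * D.w2⁻¹ ∈ D.P1 ∧
    (∀ s : K, s ≠ 0 → D.w2⁻¹ * D.H s * D.w2 ∈ D.P1 ∧ D.w2⁻¹ * D.HB s * D.w2 ∈ D.P1 ∧
      D.wA⁻¹ * D.H s * D.wA ∈ D.P1 ∧ D.wA⁻¹ * D.HB s * D.wA ∈ D.P1) := by
  obtain ⟨h1, h2, h3, h4, h5⟩ := w2_identities D
  have hm1 : (-1 : K) ≠ 0 := neg_ne_zero.mpr one_ne_zero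
  have hHB : ∀ s : K, s ≠ 0 → D.HB s ∈ D.P1 := Cfsg.Agent.Lib.Helper15.STOWHB.HB_mem_P1 D
  have hsq : D.w2 * D.w2 ∈ D.P1 := by
    rw [h1]
    exact D.P1.mul_mem (D.H_mem_P1 _ hm1) (hHB _ hm1)
  refine ⟨hsq, ?_, ?_⟩
  · have : D.w2⁻¹ * D.w2⁻¹ = (D.w2 * D.w2)⁻¹ := by group
    rw [this]
    exact D.P1.inv_mem hsq
  · intro s hs
    refine ⟨?_, ?_, ?_, ?_⟩
    · rw [h2 s hs]; exact D.H_mem_P1 _ (inv_ne_zero hs)
    · rw [h3 s hs]; exact hHB _ (inv_ne_zero hs)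
    · rw [h4 s hs]; exact D.H_mem_P1 _ (inv_ne_zero hs)
    · rw [h5 s]; exact hHB _ hs

end step

end Cfsg.Agent.Lib.Helper15.STOW2
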