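import Mathlib
import Cfsg.Agent.Lib.Helper29.PullbackExt
import Cfsg.Prelude.Def_KGroupFacts

set_option autoImplicit false

/-!
# A perfect subgroup with trivial Schur multiplier lifts to every central extension

`P` perfect with `Cfsg.HasCyclicSchurMultiplier P 1`, `ι : P →* Γ` injective, `τ : Δ →* Γ` a finite central
extension (surjective, kernel central): then `ι` lifts to a homomorphism `s : P →* Δ`, hence `τ` has a
retraction over the preimage of `ι.range` (`Helper28.SchurFox.Retraction`).

Route: pull `τ` back along `ι` (`Helper29.PullbackExt.P`); the commutator subgroup `C` of the pullback is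
perfect and `C → P` is a finite stem extension, hence an isomorphism; its inverse followed by the first
projection is the lift.  Universe-generic: `C` is transported to `ULift (Fin n)`.
-/

namespace Cfsg.Agent.Lib.Helper15.SchurSection

open Subgroup
open scoped commutatorElement
open Cfsg.Agent.Lib.Helper28.SchurFox (Retraction)
open Cfsg.Agent.Lib.Helper29

universe u v w

/-- a bare `n`-element type in any universe (no algebraic instances) -/
structure Box (n : ℕ) : Type u where
  /-- the index -/
  val : Fin n

/-- `Box n ≃ Fin n` -/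
def Box.equivFin (n : ℕ) : Box.{u} n ≃ Fin n :=
  ⟨Box.val, Box.mk, fun _ => rfl, fun _ => rfl⟩

/-- multiplying the left entry of a commutator by a central element does not change it -/
theorem commutatorElement_mul_central_left {G : Type*} [Group G] (c z b : G) (hz : z ∈ center G) :
    ⁅c * z, b⁆ = ⁅c, b⁆ := by
  have h := mem_center_iff.mp hz
  rw [commutatorElement_def, commutatorElement_def, mul_inv_rev]
  calc c * z * b * (z⁻¹ * c⁻¹) * b⁻¹ = c * (z * b) * z⁻¹ * c⁻¹ * b⁻¹ := by group
    _ = c * (b * z) * z⁻¹ * c⁻¹ * b⁻¹ := by rw [h b]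
    _ = c * b * c⁻¹ * b⁻¹ := by group

/-- multiplying the right entry of a commutator by a central element does not change it -/
theorem commutatorElement_mul_central_right {G : Type*} [Group G] (b c z : G) (hz : z ∈ center G) :
    ⁅b, c * z⁆ = ⁅b, c⁆ := by
  have h := mem_center_iff.mp hz
  rw [commutatorElement_def, commutatorElement_def, mul_inv_rev]
  calc b * (c * z) * b⁻¹ * (z⁻¹ * c⁻¹) = b * c * (z * b⁻¹) * z⁻¹ * c⁻¹ := by group
    _ = b * c * (b⁻¹ * z) * z⁻¹ * c⁻¹ := by rw [h b⁻¹]
    _ = b * c * b⁻¹ * c⁻¹ := by group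

/-- If `f : E →* Q` is onto `Q` perfect with central kernel, then `C = commutator E` is perfect,
`C → Q` is onto, and its kernel is central and inside `commutator C`. -/
theorem commutator_stem {E : Type*} {Q : Type*} [Group E] [Group Q] (f : E →* Q)
    (hf : Function.Surjective f) (hc : f.ker ≤ center E) (hQ : commutator Q = ⊤) :
    Cfsg.IsStemExtension (f.comp (commutator E).subtype) := by
  set C : Subgroup E := commutator E with hC
  -- `C → Q` is onto
  have hsurj : Function.Surjective (f.comp C.subtype) := by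
    intro q
    have h1 : C.map f = ⊤ := by
      rw [hC, commutator_def, Subgroup.map_commutator, Subgroup.map_top_of_surjective f hf,
        ← commutator_def, hQ]
    have h2 : q ∈ C.map f := by rw [h1]; trivial
    obtain ⟨c, hc1, rfl⟩ := h2
    exact ⟨⟨c, hc1⟩, rfl⟩
  -- `C ≤ ⁅C, C⁆`
  have hperf : C ≤ ⁅C, C⁆ := by
    rw [hC, commutator_def, Subgroup.commutator_le]
    intro a _ b _
    obtain ⟨c₁, h1⟩ := hsurj (f a)
    obtain ⟨c₂, h2⟩ := hsurj (f b)
    have hz₁ : (c₁ : E)⁻¹ * a ∈ center E := by
      apply hc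
      rw [MonoidHom.mem_ker, map_mul, map_inv]
      have : f (c₁ : E) = f a := h1
      rw [this, inv_mul_cancel]
    have hz₂ : (c₂ : E)⁻¹ * b ∈ center E := by
      apply hc
      rw [MonoidHom.mem_ker, map_mul, map_inv]
      have : f (c₂ : E) = f b := h2
      rw [this, inv_mul_cancel]
    have ha : a = (c₁ : E) * ((c₁ : E)⁻¹ * a) := by group
    have hb : b = (c₂ : E) * ((c₂ : E)⁻¹ * b) := by group
    rw [ha, hb, commutatorElement_mul_central_left _ _ _ hz₁,
      commutatorElement_mul_central_right _ _ _ hz₂]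
    exact Subgroup.commutator_mem_commutator c₁.2 c₂.2
  refine ⟨hsurj, ?_, ?_⟩
  · intro c hck
    rw [mem_center_iff]
    intro d
    have h1 : (c : E) ∈ center E := hc (by
      rw [MonoidHom.mem_ker] at hck ⊢
      exact hck)
    apply Subtype.ext
    exact mem_center_iff.mp h1 d
  · intro c _
    have h1 : (c : E) ∈ ⁅C, C⁆ := hperf c.2
    rw [← Subgroup.map_subtype_commutator] at h1
    obtain ⟨c', hc', hcc'⟩ := h1
    have : c' = c := Subtype.ext hcc'
    rw [← this]
    exact hc'

/-- stem extensions can be transported along an isomorphism of the source -/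
theorem isStemExtension_comp_mulEquiv {A : Type*} {B : Type*} {Q : Type*} [Group A] [Group B] [Group Q]
    (e : A ≃* B) (ρ : B →* Q) (h : Cfsg.IsStemExtension ρ) :
    Cfsg.IsStemExtension (ρ.comp e.toMonoidHom) := by
  obtain ⟨hs, hc, hd⟩ := h
  refine ⟨hs.comp e.surjective, ?_, ?_⟩
  · intro x hx
    have h1 : e x ∈ center B := hc (by
      rw [MonoidHom.mem_ker] at hx ⊢
      exact hx)
    rw [mem_center_iff] at h1 ⊢
    intro a
    apply e.injective
    rw [map_mul, map_mul]
    exact h1 (e a)
  · intro x hx
    have h1 : e x ∈ commutator B := hd (by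
      rw [MonoidHom.mem_ker] at hx ⊢
      exact hx)
    have h2 : e.symm (e x) ∈ (commutator B).map e.symm.toMonoidHom := ⟨e x, h1, rfl⟩
    rw [commutator_def, Subgroup.map_commutator] at h2
    have h3 : ⁅(⊤ : Subgroup B).map e.symm.toMonoidHom, (⊤ : Subgroup B).map e.symm.toMonoidHom⁆
        ≤ commutator A := by
      rw [commutator_def]
      exact Subgroup.commutator_mono le_top le_top
    have h4 := h3 h2
    rwa [MulEquiv.symm_apply_apply] at h4

/-- a finite stem extension of a group with trivial multiplier is injective (any universes) -/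
theorem injective_of_stem {P : Type u} [Group P] (hM : Cfsg.HasCyclicSchurMultiplier P 1)
    {C : Type v} [Group C] [Finite C] (ρ : C →* P) (hρ : Cfsg.IsStemExtension ρ) :
    Function.Injective ρ := by
  classical
  -- transport `C` to the universe of `P`
  let n := Nat.card C
  let e₀ : C ≃ Fin n := Finite.equivFin C
  let e' : Box.{u} n ≃ C := (Box.equivFin n).trans e₀.symm
  let _ : Group (Box.{u} n) := e'.group
  have : Finite (Box.{u} n) := Finite.of_equiv _ e'.symm
  let f : Box.{u} n ≃* C := e'.mulEquiv
  have hstem := isStemExtension_comp_mulEquiv f ρ hρ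
  obtain ⟨π, hπ⟩ := hM.2 (Box.{u} n) (ρ.comp f.toMonoidHom) hstem
  have hker : (ρ.comp f.toMonoidHom).ker = ⊥ := by
    rw [eq_bot_iff]
    intro k hk
    obtain ⟨a, ha⟩ := hπ ⟨k, hk⟩
    have h1 : a = 1 := Subsingleton.elim _ _
    rw [h1, map_one] at ha
    have := congrArg Subtype.val ha
    rw [Subgroup.mem_bot]
    exact this.symm
  have hinj : Function.Injective (ρ.comp f.toMonoidHom) := (MonoidHom.ker_eq_bot_iff _).mp hker
  intro a b hab
  have h1 : (ρ.comp f.toMonoidHom) (f.symm a) = (ρ.comp f.toMonoidHom) (f.symm b) := by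
    simpa using hab
  have h2 := hinj h1
  exact f.symm.injective h2

/-- **Lifting.**  `P` perfect with trivial multiplier, `ι : P →* Γ`, `τ : Δ →* Γ` a finite central extension:
`ι` lifts to `s : P →* Δ`. -/
theorem exists_lift {P : Type u} [Group P] [Finite P] {Γ : Type v} [Group Γ] {Δ : Type w} [Group Δ] [Finite Δ]
    (hperf : commutator P = ⊤) (hM : Cfsg.HasCyclicSchurMultiplier P 1)
    (ι : P →* Γ) (τ : Δ →* Γ) (hτs : Function.Surjective τ) (hτc : τ.ker ≤ center Δ) :
    ∃ s : P →* Δ, ∀ x, τ (s x) = ι x := by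
  classical
  let E : Subgroup (Δ × P) := PullbackExt.P τ ι
  let f : ↥E →* P := PullbackExt.σ' τ ι
  have hf : Function.Surjective f := PullbackExt.σ'_surjective τ ι hτs
  have hc : f.ker ≤ center ↥E := PullbackExt.ker_le_center τ ι hτc
  have hstem := commutator_stem f hf hc hperf
  have hinj := injective_of_stem hM _ hstem
  let φ : ↥(commutator ↥E) ≃* P := MulEquiv.ofBijective (f.comp (commutator ↥E).subtype) ⟨hinj, hstem.1⟩
  refine ⟨(PullbackExt.pr1 τ ι).comp ((commutator ↥E).subtype.comp φ.symm.toMonoidHom), fun x => ?_⟩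
  set c : ↥(commutator ↥E) := φ.symm x with hcdef
  have h1 : τ ((c : ↥E) : Δ × P).1 = ι ((c : ↥E) : Δ × P).2 := (c : ↥E).2
  have h2 : ((c : ↥E) : Δ × P).2 = x := by
    have : φ c = x := by rw [hcdef, MulEquiv.apply_symm_apply]
    exact this
  rw [h2] at h1
  exact h1

/-- **(H1)** `P` perfect with `Cfsg.HasCyclicSchurMultiplier P 1`, `ι : P →* Γ` injective, `τ : Δ →* Γ` a finite
central extension: `τ` has a retraction over the preimage of `ι.range`. -/
theorem retraction_of_trivial_multiplier {P : Type u} [Group P] {Γ : Type v} [Group Γ]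
    {Δ : Type w} [Group Δ] [Finite Δ]
    (hperf : commutator P = ⊤) (hM : Cfsg.HasCyclicSchurMultiplier P 1)
    (ι : P →* Γ) (hι : Function.Injective ι)
    (τ : Δ →* Γ) (hτs : Function.Surjective τ) (hτc : τ.ker ≤ center Δ) :
    Nonempty (Retraction τ (ι.range.comap τ)) := by
  have : Finite Γ := Finite.of_surjective τ hτs
  have : Finite P := Finite.of_injective ι hι
  obtain ⟨s, hs⟩ := exists_lift hperf hM ι τ hτs hτc
  obtain ⟨τ', hτ'⟩ := PullbackExt.exists_section τ ι s hs (by
    intro x hx
    have : x = 1 := hι (by rw [hx, map_one])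
    rw [this, map_one])
  exact PullbackExt.retraction_of_section τ hτc ι.range τ' hτ'

/-- the same for a stem extension `τ` -/
theorem retraction_of_trivial_multiplier_of_stem {P : Type u} [Group P] {Γ : Type v} [Group Γ]
    {Δ : Type w} [Group Δ] [Finite Δ]
    (hperf : commutator P = ⊤) (hM : Cfsg.HasCyclicSchurMultiplier P 1)
    (ι : P →* Γ) (hι : Function.Injective ι)
    (τ : Δ →* Γ) (hτ : Cfsg.IsStemExtension τ) :
    Nonempty (Retraction τ (ι.range.comap τ)) :=
  retraction_of_trivial_multiplier hperf hM ι hι τ hτ.1 hτ.2.1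

end Cfsg.Agent.Lib.Helper15.SchurSection
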