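import Mathlib
import Cfsg.Agent.Lib.Helper15.SchurSection

set_option autoImplicit false

/-!
# The kernel of a finite stem extension is killed by the index of a perfect subgroup with trivial multiplier

(H1) + (H2) of the S2055 plan combined: `τ : Δ →* Γ` a finite stem extension, `ι : P →* Γ` injective, `P` perfect
with `Cfsg.HasCyclicSchurMultiplier P 1`: every `a ∈ τ.ker` satisfies `a ^ ι.range.index = 1`; hence
`τ.ker = ⊥` if moreover `τ.ker` has exponent `p` prime to `ι.range.index`.
-/

namespace Cfsg.Agent.Lib.Helper15.SchurSection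

open Subgroup
open Cfsg.Agent.Lib.Helper28.SchurFox (Retraction)

universe u v w

/-- the kernel of a finite stem extension of `Γ` is killed by the index of (the image of) any perfect
`P` with trivial Schur multiplier -/
theorem pow_index_eq_one_of_trivial_multiplier {P : Type u} [Group P] {Γ : Type v} [Group Γ]
    {Δ : Type w} [Group Δ] [Finite Δ]
    (hperf : commutator P = ⊤) (hM : Cfsg.HasCyclicSchurMultiplier P 1)
    (ι : P →* Γ) (hι : Function.Injective ι)
    (τ : Δ →* Γ) (hτ : Cfsg.IsStemExtension τ) :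
    ∀ a ∈ τ.ker, a ^ ι.range.index = 1 := by
  intro a ha
  obtain ⟨R⟩ := retraction_of_trivial_multiplier_of_stem hperf hM ι hι τ hτ
  have hidx : (ι.range.comap τ).index = ι.range.index :=
    Subgroup.index_comap_of_surjective _ hτ.1
  have h1 := Cfsg.Agent.Lib.Helper3.SchurM.pow_index_mem_comm (ι.range.comap τ) a (hτ.2.1 ha)
    (hτ.2.2 ha)
  rw [hidx] at h1
  exact R.comm_inter _ (pow_mem ha _) h1

/-- (H1) + (H2): the transfer argument over a perfect subgroup with trivial multiplier -/
theorem ker_eq_bot_of_trivial_multiplier_of_coprime {P : Type u} [Group P] {Γ : Type v} [Group Γ]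
    {Δ : Type w} [Group Δ] [Finite Δ]
    (hperf : commutator P = ⊤) (hM : Cfsg.HasCyclicSchurMultiplier P 1)
    (ι : P →* Γ) (hι : Function.Injective ι)
    (τ : Δ →* Γ) (hτ : Cfsg.IsStemExtension τ)
    (p : ℕ) (hexp : ∀ a ∈ τ.ker, a ^ p = 1) (hcop : Nat.Coprime ι.range.index p) :
    τ.ker = ⊥ := by
  rw [eq_bot_iff]
  intro a ha
  have h2 := pow_index_eq_one_of_trivial_multiplier hperf hM ι hι τ hτ a ha
  have h3 : a ^ p = 1 := hexp a ha
  exact (pow_eq_one_iff_of_coprime hcop).mp ⟨h2, h3⟩

end Cfsg.Agent.Lib.Helper15.SchurSection
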