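import Mathlib

set_option autoImplicit false

namespace Cfsg.Agent.Lib.Helper15.SemidirectOrders

/-- a distributive action on an additive group as an action on its multiplicative version -/
@[reducible] def mdma' (B V : Type*) [Monoid B] [AddCommGroup V] [DistribMulAction B V] :
    MulDistribMulAction B (Multiplicative V) where
  smul b v := Multiplicative.ofAdd (b • Multiplicative.toAdd v)
  one_smul v := by
    show Multiplicative.ofAdd ((1 : B) • Multiplicative.toAdd v) = v
    rw [one_smul]; rfl
  mul_smul a b v := by
    show Multiplicative.ofAdd ((a * b) • Multiplicative.toAdd v) =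
      Multiplicative.ofAdd (a • (b • Multiplicative.toAdd v))
    rw [mul_smul]
  smul_mul b v w := by
    show Multiplicative.ofAdd (b • (Multiplicative.toAdd v + Multiplicative.toAdd w)) =
      Multiplicative.ofAdd (b • Multiplicative.toAdd v + b • Multiplicative.toAdd w)
    rw [smul_add]
  smul_one b := by
    show Multiplicative.ofAdd (b • (0 : V)) = 1
    rw [smul_zero]; rfl

section
variable {G V : Type*} [Group G] [AddCommGroup V] [DistribMulAction G V]

/-- the twisting homomorphism -/
def phi : G →* MulAut (Multiplicative V) :=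
  @MulDistribMulAction.toMulAut G (Multiplicative V) _ _ (mdma' G V)

theorem phi_apply (g : G) (w : Multiplicative V) :
    phi g w = Multiplicative.ofAdd (g • Multiplicative.toAdd w) := rfl

/-- element orders of products of two distinct primes come from the complement -/
theorem order_right (h2 : ∀ v : V, v + v = 0)
    (hfpf : ∀ (g : G) (p : ℕ), p.Prime → p ≠ 2 → orderOf g = p → ∀ v : V, g • v = v → v = 0)
    {r s : ℕ} (hr : r.Prime) (hs : s.Prime) (hrs : r ≠ s)
    (y : Multiplicative V ⋊[(phi : G →* MulAut (Multiplicative V))] G) (hy : orderOf y = r * s) :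
    orderOf y.right = r * s := by
  have hdvd : orderOf y.right ∣ r * s := by
    rw [← hy]
    exact orderOf_map_dvd SemidirectProduct.rightHom y
  by_contra hne
  have hpos : 0 < r * s := Nat.mul_pos hr.pos hs.pos
  have ho : 0 < orderOf y.right := Nat.pos_of_dvd_of_pos hdvd hpos
  -- `y ^ o` lies in the kernel
  have hright : ∀ n : ℕ, (y ^ n).right = y.right ^ n := by
    intro n
    exact map_pow (SemidirectProduct.rightHom : Multiplicative V ⋊[phi] G →* G) y n
  have hker : (y ^ orderOf y.right).right = 1 := by rw [hright, pow_orderOf_eq_one]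
  have hinl : y ^ orderOf y.right = SemidirectProduct.inl (y ^ orderOf y.right).left := by
    ext
    · rfl
    · rw [hker]; rfl
  have hsq : ∀ w : Multiplicative V, w * w = 1 := by
    intro w
    show Multiplicative.ofAdd (Multiplicative.toAdd w + Multiplicative.toAdd w) = 1
    rw [h2]; rfl
  have h2o : y ^ (orderOf y.right * 2) = 1 := by
    rw [pow_mul, hinl, sq, ← map_mul, hsq, map_one]
  have hdvd2 : r * s ∣ orderOf y.right * 2 := by
    rw [← hy]; exact orderOf_dvd_of_pow_eq_one h2o
  -- so the order of the right component is an odd prime `p` and `r s = 2 p`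
  obtain ⟨j, hj⟩ := hdvd
  obtain ⟨k, hk⟩ := hdvd2
  have hjk : j * k = 2 := by
    have : orderOf y.right * 2 = orderOf y.right * (j * k) := by
      rw [hk, hj]; ring
    exact (Nat.eq_of_mul_eq_mul_left ho this).symm
  have hj2 : j = 2 := by
    have hj12 : j ∣ 2 := ⟨k, hjk.symm⟩
    rcases (Nat.dvd_prime Nat.prime_two).mp hj12 with h | h
    · exfalso
      apply hne
      rw [hj, h, mul_one]
    · exact h
  have hrs2 : r * s = orderOf y.right * 2 := by rw [hj, hj2]
  obtain ⟨p, hp, hp2, hop⟩ : ∃ p : ℕ, p.Prime ∧ p ≠ 2 ∧ orderOf y.right = p := by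
    have h2rs : 2 ∣ r * s := ⟨orderOf y.right, by rw [hrs2, mul_comm]⟩
    rcases (Nat.Prime.dvd_mul Nat.prime_two).mp h2rs with h | h
    · have hr2 : r = 2 := ((Nat.prime_dvd_prime_iff_eq Nat.prime_two hr).mp h).symm
      refine ⟨s, hs, fun h => hrs (by rw [hr2, h]), ?_⟩
      rw [hr2] at hrs2
      omega
    · have hs2 : s = 2 := ((Nat.prime_dvd_prime_iff_eq Nat.prime_two hs).mp h).symm
      refine ⟨r, hr, fun h => hrs (by rw [hs2, h]), ?_⟩
      rw [hs2] at hrs2
      omega
  -- `y ^ p` is fixed by `y.right`
  rw [hop] at hinl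
  set w := (y ^ p).left with hw
  have hcomm : y * y ^ p = y ^ p * y := by rw [← pow_succ', ← pow_succ]
  have hleft := congrArg SemidirectProduct.left hcomm
  rw [SemidirectProduct.mul_left, SemidirectProduct.mul_left, hinl, SemidirectProduct.left_inl,
    SemidirectProduct.right_inl, map_one, MulAut.one_apply, mul_comm w y.left] at hleft
  have hfix : phi y.right w = w := mul_left_cancel hleft
  rw [phi_apply] at hfix
  have hfix' : y.right • Multiplicative.toAdd w = Multiplicative.toAdd w := by
    have := congrArg Multiplicative.toAdd hfix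
    simpa using this
  have hw0 := hfpf y.right p hp hp2 hop _ hfix'
  have hw1 : w = 1 := by
    have : Multiplicative.ofAdd (Multiplicative.toAdd w) = Multiplicative.ofAdd 0 := by rw [hw0]
    simpa using this
  rw [hw1, map_one] at hinl
  have := orderOf_dvd_of_pow_eq_one hinl
  rw [hy, hrs2, hop] at this
  have := Nat.le_of_dvd hp.pos this
  have := hp.two_le
  omega

end

end Cfsg.Agent.Lib.Helper15.SemidirectOrders
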