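import Mathlib
import Cfsg.Agent.S2364
import Cfsg.Agent.Lib.Helper19.Zsigmondy

set_option autoImplicit false

namespace Cfsg.Agent.Lib.Helper15.SingerNorm

open Polynomial Cfsg.Agent.Lib.Helper19.Zsigmondy

variable {F : Type*} [Field F] {n : ℕ}

/-- invariance of kernels of polynomials in `A`. -/
lemma ker_aeval_invariant (A : Matrix (Fin n) (Fin n) F) (a : F[X]) (w : Fin n → F)
    (hw : (aeval A a).mulVec w = 0) : (aeval A a).mulVec (A.mulVec w) = 0 := by
  have hc : aeval A a * A = A * aeval A a := by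
    have : Commute (aeval A a) A := by
      have h1 : Commute (aeval A a) (aeval A (X : F[X])) := by
        rw [Commute, SemiconjBy, ← map_mul, ← map_mul, mul_comm]
      simpa using h1
    exact this
  rw [Matrix.mulVec_mulVec, hc, ← Matrix.mulVec_mulVec, hw, Matrix.mulVec_zero]

theorem minpoly_irreducible (A : Matrix (Fin n) (Fin n) F) (hn : 0 < n)
    (hirr : ∀ W : Submodule F (Fin n → F), (∀ w ∈ W, A.mulVec w ∈ W) → W = ⊥ ∨ W = ⊤) :
    Irreducible (minpoly F A) := by
  have hint : IsIntegral F A := Algebra.IsIntegral.isIntegral A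
  have : Nonempty (Fin n) := ⟨⟨0, hn⟩⟩
  rw [irreducible_iff]
  refine ⟨minpoly.not_isUnit F A, fun a b hab => ?_⟩
  have hμ0 : minpoly F A ≠ 0 := minpoly.ne_zero hint
  have hprod : aeval A a * aeval A b = 0 := by
    rw [← map_mul, ← hab, minpoly.aeval]
  let W : Submodule F (Fin n → F) := LinearMap.ker (Matrix.mulVecLin (aeval A a))
  have hW : ∀ w ∈ W, A.mulVec w ∈ W := by
    intro w hw
    rw [LinearMap.mem_ker, Matrix.mulVecLin_apply] at hw ⊢
    exact ker_aeval_invariant A a w hw
  rcases hirr W hW with h | h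
  · -- a(A) injective, so b(A) = 0
    left
    have hb : aeval A b = 0 := by
      have h2 : Matrix.mulVecLin (aeval A b) = 0 := by
        apply LinearMap.ext
        intro w
        have h3 : (aeval A a).mulVec ((aeval A b).mulVec w) = 0 := by
          rw [Matrix.mulVec_mulVec, hprod, Matrix.zero_mulVec]
        have h4 : (aeval A b).mulVec w ∈ W := by
          rw [LinearMap.mem_ker, Matrix.mulVecLin_apply]; exact h3
        rw [h] at h4
        simpa using h4
      exact Matrix.toLin'.injective (by rw [Matrix.toLin'_apply', h2, map_zero])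
    obtain ⟨c, hc⟩ := minpoly.dvd F A hb
    have h5 : minpoly F A * 1 = minpoly F A * (a * c) := by
      rw [mul_one]
      conv_lhs => rw [hab, hc]
      ring
    have h6 := mul_left_cancel₀ hμ0 h5
    exact IsUnit.of_mul_eq_one c h6.symm
  · right
    have ha : aeval A a = 0 := by
      have h2 : Matrix.mulVecLin (aeval A a) = 0 := by
        apply LinearMap.ext
        intro w
        have : w ∈ W := by rw [h]; trivial
        simpa [W] using this
      exact Matrix.toLin'.injective (by rw [Matrix.toLin'_apply', h2, map_zero])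
    obtain ⟨c, hc⟩ := minpoly.dvd F A ha
    have h5 : minpoly F A * 1 = minpoly F A * (c * b) := by
      rw [mul_one]
      conv_lhs => rw [hab, hc]
      ring
    have h6 := mul_left_cancel₀ hμ0 h5
    exact IsUnit.of_mul_eq_one c (by rw [mul_comm]; exact h6.symm)


lemma mem_range_of_pow_card {K : Type*} [Fintype F] [Field K] [Algebra F K] (x : K)
    (hx : x ^ Fintype.card F = x) : ∃ c : F, algebraMap F K c = x := by
  classical
  set q := Fintype.card F with hqdef
  let P : K[X] := X ^ q - X
  have hq : 1 < q := Fintype.one_lt_card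
  have hP : P ≠ 0 := FiniteField.X_pow_card_sub_X_ne_zero K hq
  have hdeg : P.natDegree = q := FiniteField.X_pow_card_sub_X_natDegree_eq K hq
  have hroots : (Finset.univ.image (algebraMap F K)) ⊆ P.roots.toFinset := by
    intro y hy
    obtain ⟨c, -, rfl⟩ := Finset.mem_image.1 hy
    rw [Multiset.mem_toFinset, mem_roots hP, IsRoot.def]
    simp [P, ← map_pow, hqdef, FiniteField.pow_card]
  have hcard : (Finset.univ.image (algebraMap F K)).card = q := by
    rw [Finset.card_image_of_injective _ (algebraMap F K).injective, Finset.card_univ]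
  have hle : P.roots.toFinset.card ≤ q :=
    (Multiset.toFinset_card_le _).trans ((card_roots' P).trans hdeg.le)
  have heq := Finset.eq_of_subset_of_card_le hroots (by rw [hcard]; exact hle)
  have hxr : x ∈ P.roots.toFinset := by
    rw [Multiset.mem_toFinset, mem_roots hP, IsRoot.def]
    simp [P, hx]
  rw [← heq] at hxr
  obtain ⟨c, -, hc⟩ := Finset.mem_image.1 hxr
  exact ⟨c, hc⟩

section core

variable [Fintype F]

/-- the evaluation hom `F[X]/(μ) → M_n(F)`. -/
noncomputable def phi (A : Matrix (Fin n) (Fin n) F) :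
    AdjoinRoot (minpoly F A) →ₐ[F] Matrix (Fin n) (Fin n) F :=
  Ideal.Quotient.liftₐ (Ideal.span {minpoly F A}) (aeval A) (by
    intro a ha
    obtain ⟨c, rfl⟩ := Ideal.mem_span_singleton.1 ha
    rw [map_mul, minpoly.aeval, zero_mul])

omit [Fintype F] in
lemma phi_mk (A : Matrix (Fin n) (Fin n) F) (p : F[X]) :
    phi A (AdjoinRoot.mk (minpoly F A) p) = aeval A p := rfl

lemma phi_root (A : Matrix (Fin n) (Fin n) F) :
    phi A (AdjoinRoot.root (minpoly F A)) = A := by
  rw [AdjoinRoot.root, phi_mk, aeval_X]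

theorem irr_core (hn : 0 < n) (A : Matrix (Fin n) (Fin n) F)
    (hirr : ∀ W : Submodule F (Fin n → F), (∀ w ∈ W, A.mulVec w ∈ W) → W = ⊥ ∨ W = ⊤) :
    A ^ (∑ i ∈ Finset.range n, Fintype.card F ^ i) =
        algebraMap F (Matrix (Fin n) (Fin n) F) A.det ∧
    ∀ k, A ^ (k * (Fintype.card F - 1)) = 1 →
      ∃ c : F, A ^ k = algebraMap F (Matrix (Fin n) (Fin n) F) c := by
  classical
  have hμ : Irreducible (minpoly F A) := minpoly_irreducible A hn hirr
  have : Fact (Irreducible (minpoly F A)) := ⟨hμ⟩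
  have : Nonempty (Fin n) := ⟨⟨0, hn⟩⟩
  set K := AdjoinRoot (minpoly F A) with hK
  set ρ : K := AdjoinRoot.root (minpoly F A) with hρ
  have hφρ : phi A ρ = A := phi_root A
  have hφinj : Function.Injective (phi A) := (phi A).toRingHom.injective
  let v : Fin n → F := Pi.single ⟨0, hn⟩ 1
  have hv : v ≠ 0 := by
    intro h
    have := congrFun h ⟨0, hn⟩
    simp [v] at this
  let ψ : K →ₗ[F] (Fin n → F) :=
    (LinearMap.applyₗ v) ∘ₗ (Matrix.toLin' : _ ≃ₗ[F] _).toLinearMap ∘ₗ (phi A).toLinearMap
  have hψ : ∀ κ, ψ κ = (phi A κ).mulVec v := fun κ => by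
    simp [ψ]
  have hψmul : ∀ κ, ψ (ρ * κ) = A.mulVec (ψ κ) := by
    intro κ
    rw [hψ, hψ, map_mul, hφρ, Matrix.mulVec_mulVec]
  have hψinj : Function.Injective ψ := by
    rw [← LinearMap.ker_eq_bot, LinearMap.ker_eq_bot']
    intro κ hκ
    by_contra hne
    apply hv
    have h1 : phi A (κ⁻¹ * κ) = 1 := by rw [inv_mul_cancel₀ hne, map_one]
    have h2 : v = (phi A (κ⁻¹ * κ)).mulVec v := by rw [h1, Matrix.one_mulVec]
    rw [h2, map_mul, ← Matrix.mulVec_mulVec, ← hψ κ, hκ, Matrix.mulVec_zero]
  have hψsurj : Function.Surjective ψ := by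
    rw [← LinearMap.range_eq_top]
    rcases hirr (LinearMap.range ψ) (by
      rintro w ⟨κ, rfl⟩
      exact ⟨ρ * κ, hψmul κ⟩) with h | h
    · exfalso
      apply hv
      have : ψ 1 ∈ LinearMap.range ψ := ⟨1, rfl⟩
      rw [h, Submodule.mem_bot, hψ, map_one, Matrix.one_mulVec] at this
      exact this
    · exact h
  let e : K ≃ₗ[F] (Fin n → F) := LinearEquiv.ofBijective ψ ⟨hψinj, hψsurj⟩
  have he : ∀ κ, e κ = ψ κ := fun κ => rfl
  have hfr : Module.finrank F K = n := by
    rw [e.finrank_eq, Module.finrank_fin_fun]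
  have : Finite K := Finite.of_equiv _ e.symm.toEquiv
  have hdet : A.det = Algebra.norm F ρ := by
    rw [Algebra.norm_apply, ← LinearMap.det_conj (Algebra.lmul F K ρ) e, ← LinearMap.det_toLin']
    congr 1
    apply LinearMap.ext
    intro w
    obtain ⟨κ, rfl⟩ := e.surjective w
    simp only [LinearMap.comp_apply, LinearEquiv.coe_coe, LinearEquiv.symm_apply_apply,
      Matrix.toLin'_apply]
    rw [he, he]
    exact (hψmul κ).symm
  have hnorm := FiniteField.algebraMap_norm_eq_pow_sum F K ρ
  rw [hfr, Nat.card_eq_fintype_card, ← hdet] at hnorm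
  constructor
  · have := congrArg (phi A) hnorm
    rw [map_pow, hφρ, AlgHom.commutes] at this
    exact this.symm
  · intro k hk
    have h1 : ρ ^ (k * (Fintype.card F - 1)) = 1 := by
      apply hφinj
      rw [map_pow, hφρ, hk, map_one]
    have hq : 1 ≤ Fintype.card F := Fintype.card_pos
    have h2 : (ρ ^ k) ^ Fintype.card F = ρ ^ k := by
      have : Fintype.card F = (Fintype.card F - 1) + 1 := by omega
      rw [this, pow_succ, ← pow_mul, h1, one_mul]
    obtain ⟨c, hc⟩ := mem_range_of_pow_card (F := F) (ρ ^ k) h2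
    refine ⟨c, ?_⟩
    have := congrArg (phi A) hc
    rw [map_pow, hφρ, AlgHom.commutes] at this
    exact this.symm

end core

section prim

variable [Fintype F]


lemma orderOf_of_isPrim {q n r : ℕ} (hq : 0 < q) (hn : 0 < n) (h : IsPrim q n r) :
    orderOf (q : ZMod r) = n := by
  obtain ⟨hr, h1, h2⟩ := h
  rw [orderOf_eq_iff hn]
  refine ⟨(dvd_pow_sub_one_iff hq).1 h1, fun m hm hm0 hc => ?_⟩
  exact h2 m hm0 hm ((dvd_pow_sub_one_iff hq).2 hc)

lemma not_dvd_of_isPrim {q n r : ℕ} (hq : 0 < q) (hn : 0 < n) (h : IsPrim q n r) : ¬ r ∣ q := by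
  obtain ⟨hr, h1, h2⟩ := h
  intro hd
  have h3 : r ∣ q ^ n := dvd_pow hd hn.ne'
  have h4 : 1 ≤ q ^ n := Nat.one_le_pow _ _ hq
  have h5 : r ∣ 1 := by
    have := Nat.dvd_sub h3 h1
    rwa [Nat.sub_sub_self h4] at this
  exact hr.one_lt.ne' (Nat.dvd_one.1 h5)

theorem irr_of_prim {r : ℕ} (hn : 0 < n) (hprim : IsPrim (Fintype.card F) n r)
    (B : Matrix (Fin n) (Fin n) F) (hB : B ^ r = 1) (hB1 : B ≠ 1)
    (W : Submodule F (Fin n → F)) (hW : ∀ w ∈ W, B.mulVec w ∈ W) : W = ⊥ ∨ W = ⊤ := by
  classical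
  set q := Fintype.card F with hq
  have hq0 : 0 < q := Fintype.card_pos
  have : Fact r.Prime := ⟨hprim.1⟩
  have hrq : ¬ r ∣ q := not_dvd_of_isPrim hq0 hn hprim
  have hord : orderOf (q : ZMod r) = n := orderOf_of_isPrim hq0 hn hprim
  let T : Module.End F (Fin n → F) := Matrix.toLinAlgEquiv' B
  have hT : T ^ r = 1 := by
    rw [← map_pow, hB, map_one]
  have hTapp : ∀ w, T w = B.mulVec w := fun w => by simp [T]
  -- the key dichotomy
  have key : ∀ W' : Submodule F (Fin n → F), (∀ w ∈ W', T w ∈ W') →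
      W' ≤ LinearMap.ker (T - 1) ∨ (Module.finrank F W' = n ∧
        Module.finrank F ↥(W' ⊓ LinearMap.ker (T - 1)) = 0) := by
    intro W' hW'
    have h1 := Cfsg.Agent.S2364.mod_lemma T hT W' hW'
    rw [Cfsg.Agent.S2364.card_sub, Cfsg.Agent.S2364.card_sub] at h1
    have hle : Module.finrank F ↥(W' ⊓ LinearMap.ker (T - 1)) ≤ Module.finrank F W' :=
      Submodule.finrank_mono inf_le_left
    have h2 := Cfsg.Agent.S2364.e_dvd hrq hle h1
    rw [hord] at h2
    have hkn : Module.finrank F W' ≤ n := by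
      have := Submodule.finrank_le W'
      rwa [Module.finrank_fin_fun] at this
    rcases Nat.eq_zero_or_pos (Module.finrank F W' - Module.finrank F ↥(W' ⊓ LinearMap.ker (T - 1))) with h0 | h0
    · left
      have h3 : Module.finrank F ↥(W' ⊓ LinearMap.ker (T - 1)) = Module.finrank F W' := by omega
      have h4 : W' ⊓ LinearMap.ker (T - 1) = W' :=
        Submodule.eq_of_le_of_finrank_eq inf_le_left h3
      rw [← h4]
      exact inf_le_right
    · right
      have := Nat.le_of_dvd h0 h2
      omega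
  have hker : LinearMap.ker (T - 1) = ⊥ := by
    rcases key ⊤ (fun _ _ => trivial) with h | ⟨-, h⟩
    · exfalso
      apply hB1
      have h1 : T = 1 := by
        apply LinearMap.ext
        intro w
        have := h (show w ∈ (⊤ : Submodule F (Fin n → F)) from trivial)
        rw [LinearMap.mem_ker, LinearMap.sub_apply, sub_eq_zero] at this
        exact this
      have : Matrix.toLinAlgEquiv' B = Matrix.toLinAlgEquiv' (1 : Matrix (Fin n) (Fin n) F) := by
        rw [map_one]; exact h1
      exact Matrix.toLinAlgEquiv'.injective this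
    · rw [top_inf_eq] at h
      exact Submodule.finrank_eq_zero.1 h
  rcases key W (fun w hw => by rw [hTapp]; exact hW w hw) with h | ⟨h, -⟩
  · left
    rw [hker] at h
    exact le_bot_iff.1 h
  · right
    apply Submodule.eq_top_of_finrank_eq
    rw [h, Module.finrank_fin_fun]



end prim

end Cfsg.Agent.Lib.Helper15.SingerNorm
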