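/-
S5804 (sp6 geometric, row owner helper22), conjunct (9) at q = 2 (helper15):
`O_{2m}^±(2) < Sp_{2m}(2)` is maximal for all `3 ≤ m`, and the combined statement for all even `q`.
Built on `Cfsg.Agent.S5652.S5652aux` (helper's S5652 proof) and helper22's `Sp4EQ4.quad_max_low` (q ≥ 4).
-/
import Mathlib
import Cfsg.Agent.S5652
import Cfsg.Agent.Lib.Helper22.Sp4EQ4

set_option autoImplicit false
set_option linter.unusedSectionVars false
set_option linter.unusedVariables false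
set_option linter.unusedSimpArgs false

namespace Cfsg.Agent.Lib.Helper15.Sp6Q2
open Cfsg Matrix Cfsg.Agent.Lib.Helper5 Cfsg.Agent.Lib.Helper5.SpMax Cfsg.Agent.S5652.S5652aux

section Basic
variable {F : Type*} [Field F] {m : ℕ} {Q Q' : (Fin m ⊕ Fin m → F) → F}

/-- a non-singular vector orthogonal to three given vectors, the third of which is non-singular (`3 ≤ m`) -/
lemma exists_ns_perp3 (hQ : QF Q) (hm : 3 ≤ m) (x₁ x₂ x₃ : Fin m ⊕ Fin m → F) (hx₃ : Q x₃ ≠ 0) :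
    ∃ w, sympForm m F w x₁ = 0 ∧ sympForm m F w x₂ = 0 ∧ sympForm m F w x₃ = 0 ∧ Q w ≠ 0 := by
  classical
  obtain ⟨S, hS⟩ : ∃ S : Submodule F (Fin m ⊕ Fin m → F),
      S = Submodule.span F ((({x₁, x₂, x₃} : Finset (Fin m ⊕ Fin m → F))) :
        Set (Fin m ⊕ Fin m → F)) := ⟨_, rfl⟩
  have hS3 : Module.finrank F S ≤ 3 := by
    rw [hS]
    exact le_trans (finrank_span_finset_le_card _) Finset.card_le_three
  have hx₁ : x₁ ∈ S := by rw [hS]; exact Submodule.subset_span (by simp)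
  have hx₂ : x₂ ∈ S := by rw [hS]; exact Submodule.subset_span (by simp)
  have hx₃' : x₃ ∈ S := by rw [hS]; exact Submodule.subset_span (by simp)
  have hex : ∃ w₀ ∈ perp S, Q w₀ ≠ 0 := by
    by_contra hcon
    push Not at hcon
    have hti : perp S ≤ perp (perp S) := by
      intro w hw w' hw'
      have h1 := hQ.pol w w'
      rw [hcon w hw, hcon w' hw', hcon (w + w') ((perp S).add_mem hw hw'), zero_add,
        zero_add] at h1
      exact h1.symm
    have h1 := Submodule.finrank_mono hti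
    have h1' := h1
    rw [finrank_perp (perp S), finrank_perp S] at h1'
    -- equality of the two subspaces
    have heq : perp S = perp (perp S) := by
      apply Submodule.eq_of_le_of_finrank_le hti
      rw [finrank_perp (perp S), finrank_perp S]
      omega
    -- `x₃ ∈ perp (perp S) = perp S`, so `Q x₃ = 0`
    have hx₃pp : x₃ ∈ perp (perp S) := by
      intro w hw
      rw [sympForm_swap, hw x₃ hx₃', neg_zero]
    rw [← heq] at hx₃pp
    exact hx₃ (hcon x₃ hx₃pp)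
  obtain ⟨w₀, hw₀, hQw₀⟩ := hex
  exact ⟨w₀, hw₀ x₁ hx₁, hw₀ x₂ hx₂, hw₀ x₃ hx₃', hQw₀⟩

/-- over `F₂`: a singular vector `b` with `f(b,d) = 1` and `f(a,b) ≠ 0` -/
lemma exists_b_two (hF : ∀ x : F, x = 0 ∨ x = 1) (h2 : (2 : F) = 0) (hm : 3 ≤ m) (hQ : QF Q)
    {d a : Fin m ⊕ Fin m → F} (hd0 : d ≠ 0) (ha : a ≠ 0) :
    ∃ b, Q b = 0 ∧ sympForm m F b d = 1 ∧ sympForm m F a b ≠ 0 := by
  obtain ⟨v₁, hv₁⟩ := sympForm_nondeg d hd0
  obtain ⟨v₂, hv₂⟩ := sympForm_nondeg a ha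
  have hv : ∃ v, sympForm m F d v ≠ 0 ∧ sympForm m F a v ≠ 0 := by
    by_cases h1 : sympForm m F a v₁ = 0
    · by_cases h3 : sympForm m F d v₂ = 0
      · refine ⟨v₁ + v₂, ?_, ?_⟩
        · rw [sympForm_add_right, h3, add_zero]; exact hv₁
        · rw [sympForm_add_right, h1, zero_add]; exact hv₂
      · exact ⟨v₂, h3, hv₂⟩
    · exact ⟨v₁, hv₁, h1⟩
  obtain ⟨v, hvd, hva⟩ := hv
  have hvd' : sympForm m F v d = 1 := by
    rcases hF (sympForm m F v d) with h | h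
    · exfalso; apply hvd; rw [sympForm_swap, h, neg_zero]
    · exact h
  by_cases hQv : Q v = 0
  · exact ⟨v, hQv, hvd', hva⟩
  · have hQv1 : Q v = 1 := (hF (Q v)).resolve_left hQv
    obtain ⟨w, hwa, hwd, hwv, hQw⟩ := exists_ns_perp3 hQ hm a d v hQv
    have hQw1 : Q w = 1 := (hF (Q w)).resolve_left hQw
    refine ⟨v + w, ?_, ?_, ?_⟩
    · rw [hQ.pol, hQv1, hQw1, sympForm_swap, hwv, neg_zero, add_zero, one_add_one_eq_two, h2]
    · rw [sympForm_add_left, hvd', hwd, add_zero]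
    · rw [sympForm_add_right, sympForm_swap (u := a) (v := w), hwa, neg_zero, add_zero]
      exact hva

end Basic

section Main
variable {F : Type*} [Field F] {m : ℕ} {Q Q' : (Fin m ⊕ Fin m → F) → F}

lemma all_mem_two (hF : ∀ x : F, x = 0 ∨ x = 1) (h2 : (2 : F) = 0) (hm : 3 ≤ m) (hQ : QF Q)
    {M : Subgroup (GL (Fin m ⊕ Fin m) F)} (hMS : M ≤ spGL m F)
    (hHM : Geo.quadSimilarityGroup Q ⊓ spGL m F ≤ M) {g : GL (Fin m ⊕ Fin m) F} (hgM : g ∈ M)
    (hg : g ∉ Geo.quadSimilarityGroup Q) : ∀ a, a ∈ Sset M := by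
  have hsq : ∀ x : F, ∃ y, y ^ 2 = x := fun x => by
    rcases hF x with h | h
    · exact ⟨0, by rw [h]; ring⟩
    · exact ⟨1, by rw [h]; ring⟩
  have hgS := hMS hgM
  have hgiS : g⁻¹ ∈ spGL m F := (spGL m F).inv_mem hgS
  obtain ⟨Q', hQ'def⟩ : ∃ Q' : (Fin m ⊕ Fin m → F) → F, Q' = fun v =>
      Q (((g⁻¹ : GL (Fin m ⊕ Fin m) F) : Matrix (Fin m ⊕ Fin m) (Fin m ⊕ Fin m) F) *ᵥ v) :=
    ⟨_, rfl⟩
  have hQ'eq : ∀ v, Q' v =
      Q (((g⁻¹ : GL (Fin m ⊕ Fin m) F) : Matrix (Fin m ⊕ Fin m) (Fin m ⊕ Fin m) F) *ᵥ v) :=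
    fun v => by rw [hQ'def]
  have hQ' : QF Q' := by
    constructor
    · intro c v; rw [hQ'eq, hQ'eq, Matrix.mulVec_smul, hQ.smul]
    · intro u v; rw [hQ'eq, hQ'eq, hQ'eq, Matrix.mulVec_add, hQ.pol, mem_spGL.mp hgiS]
  obtain ⟨d, hd⟩ := exists_d h2 hsq hQ hQ'
  have hd0 : d ≠ 0 := by
    rintro rfl
    apply hg
    have h3 : g⁻¹ ∈ Geo.quadSimilarityGroup Q := mem_qsim.mpr ⟨1, fun v => by
      rw [Units.val_one, one_mul, ← hQ'eq, hd, sympForm_zero_right]; ring⟩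
    have h4' := (Geo.quadSimilarityGroup Q).inv_mem h3
    rwa [inv_inv] at h4'
  intro a
  by_cases ha : a = 0
  · rw [ha]; exact zero_mem_Sset M
  intro c
  by_cases hc : c = 0
  · rw [hc, tvc_zero_coeff]; exact M.one_mem
  have hc1 : c = 1 := (hF c).resolve_left hc
  subst hc1
  by_cases hcs : 1 / (1 : F) = Q a
  · have hQa : Q a ≠ 0 := by rw [← hcs]; exact one_div_ne_zero one_ne_zero
    have := hHM (refl_mem h2 hQ hQa)
    rwa [← hcs, one_div_one_div] at this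
  · have hQa0 : Q a = 0 := by
      rcases hF (Q a) with h | h
      · exact h
      · exfalso; apply hcs; rw [h, div_one]
    obtain ⟨b, hb1, hb2, hb3⟩ := exists_b_two hF h2 hm hQ hd0 ha
    have hb2' : Q' b = 1 / (1 : F) := by rw [hd, hb1, hb2]; ring
    have hbM : tvc b 1 ∈ M := by
      have hne : Q (((g⁻¹ : GL (Fin m ⊕ Fin m) F) :
          Matrix (Fin m ⊕ Fin m) (Fin m ⊕ Fin m) F) *ᵥ b) ≠ 0 := by
        rw [← hQ'eq, hb2']; exact one_div_ne_zero one_ne_zero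
      have h3 := hHM (refl_mem h2 hQ hne)
      rw [← hQ'eq, hb2', one_div_one_div] at h3
      have h4' := M.mul_mem (M.mul_mem hgM h3) (M.inv_mem hgM)
      rwa [conj_tvc hgS, mul_inv_mulVec] at h4'
    obtain ⟨hr, hrb⟩ := refl_map h2 hQ (a := a) (b := b) (by rw [hQa0, hb1]) hb3
    have h5 := M.mul_mem (M.mul_mem (hHM hr) hbM) (M.inv_mem (hHM hr))
    rwa [conj_tvc hr.2, hrb] at h5

/-- `O_{2m}^±(2) < Sp_{2m}(2)` is maximal for ALL `3 ≤ m` -/
theorem quad_max_two [Fintype F] (m : ℕ) (hm : 3 ≤ m) (hcard : Fintype.card F = 2)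
    (Q : (Fin m ⊕ Fin m → F) → F)
    (hQ : Geo.IsNondegenerateQuadraticForm Q)
    (hpol : ∀ u v, QuadraticMap.polar Q u v = sympForm m F u v) :
    Geo.IsMaximalIn (spGL m F) (Geo.quadSimilarityGroup Q ⊓ spGL m F) := by
  have hF : ∀ x : F, x = 0 ∨ x = 1 := by
    intro x
    by_contra hcon
    push Not at hcon
    have : 2 < Fintype.card F :=
      Fintype.two_lt_card_iff.mpr ⟨0, 1, x, zero_ne_one, Ne.symm hcon.1, Ne.symm hcon.2⟩
    omega
  have h2 : (2 : F) = 0 := by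
    rcases hF 2 with h | h
    · exact h
    · exfalso
      have : (1 : F) = 0 := by
        have h' : (1 : F) + 1 = 1 := by rw [one_add_one_eq_two]; exact h
        linear_combination h'
      exact one_ne_zero this
  have hQF : QF Q := ⟨hQ.smul, fun u v => by
    have := hpol u v
    rw [QuadraticMap.polar] at this
    rw [← this]; ring⟩
  have hm2 : 2 ≤ m := by omega
  refine ⟨lt_of_le_of_ne inf_le_right ?_, ?_⟩
  · intro hEq
    -- a non-zero singular vector `z` and `b₀` with `f(z,b₀) ≠ 0`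
    obtain ⟨z, b₀, hz, hzb⟩ : ∃ z b₀ : Fin m ⊕ Fin m → F, Q z = 0 ∧ sympForm m F z b₀ ≠ 0 := by
      obtain ⟨x₀, hx₀0, -, -⟩ :=
        Cfsg.Agent.Lib.Helper22.Sp4ELeaf.exists_perp_ne_zero (F := F) hm2
          (0 : Fin m ⊕ Fin m → F) 0
      obtain ⟨b₀, hb₀⟩ := sympForm_nondeg x₀ hx₀0
      by_cases hQx : Q x₀ = 0
      · exact ⟨x₀, b₀, hQx, hb₀⟩
      · have hQx1 : Q x₀ = 1 := (hF (Q x₀)).resolve_left hQx
        obtain ⟨w, hw1, hw2, -, hQw⟩ := exists_ns_perp3 hQF hm x₀ b₀ x₀ hQx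
        have hQw1 : Q w = 1 := (hF (Q w)).resolve_left hQw
        refine ⟨x₀ + w, b₀, ?_, ?_⟩
        · rw [hQF.pol, hQx1, hQw1, sympForm_swap, hw1, neg_zero, add_zero, one_add_one_eq_two,
            h2]
        · rw [sympForm_add_left, hw2, add_zero]; exact hb₀
    have hT : tvc z 1 ∈ Geo.quadSimilarityGroup Q ⊓ spGL m F := by
      rw [hEq]; exact tvc_mem _ _
    obtain ⟨c, hc⟩ := mem_qsim.mp hT.1
    have hc1 : (c : F) = 1 := sim_eq_one hQF hT.2 hc hzb
    have h3 := hc b₀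
    rw [hQF.tvc, hz, hc1, one_mul] at h3
    have h4' : sympForm m F b₀ z ^ 2 = 0 := by linear_combination h3
    have h5 : sympForm m F b₀ z = 0 := (pow_eq_zero_iff (two_ne_zero)).mp h4'
    apply hzb
    rw [sympForm_swap, h5, neg_zero]
  · intro M hHM hMS
    by_cases hMH : M = Geo.quadSimilarityGroup Q ⊓ spGL m F
    · left; exact hMH
    right
    apply le_antisymm hMS
    obtain ⟨g, hgM, hgH⟩ := SetLike.exists_of_lt (lt_of_le_of_ne hHM (Ne.symm hMH))
    have hg : g ∉ Geo.quadSimilarityGroup Q := fun h => hgH ⟨h, hMS hgM⟩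
    exact le_of_forall_mem_Sset M (all_mem_two hF h2 hm hQF hMS hHM hgM hg)

/-- `O_{2m}^±(q) < Sp_{2m}(q)` is maximal for ALL even `q` and all `3 ≤ m`
(= conjunct (9) of `cmax5_sp6_geometric_types_maximal` at `m = 3`). -/
theorem quad_max_even [Fintype F] (m : ℕ) (hm : 3 ≤ m) (heven : ¬ Odd (Fintype.card F))
    (Q : (Fin m ⊕ Fin m → F) → F)
    (hQ : Geo.IsNondegenerateQuadraticForm Q)
    (hpol : ∀ u v, QuadraticMap.polar Q u v = sympForm m F u v) :
    Geo.IsMaximalIn (spGL m F) (Geo.quadSimilarityGroup Q ⊓ spGL m F) := by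
  by_cases h4 : 4 ≤ Fintype.card F
  · exact Cfsg.Agent.Lib.Helper22.Sp4ELeaf.quad_max_low m (by omega) heven h4 Q hQ hpol
  · have h1 : 1 < Fintype.card F := Fintype.one_lt_card
    have hcard : Fintype.card F = 2 := by
      have h3 : Fintype.card F ≠ 3 := by
        intro h3
        apply heven
        rw [h3]; decide
      omega
    exact quad_max_two m hm hcard Q hQ hpol

end Main

end Cfsg.Agent.Lib.Helper15.Sp6Q2
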