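import Mathlib
import Cfsg.Prelude.Def_GeometricClasses
import Cfsg.Prelude.Def_ClassicalGeometry
import Cfsg.Agent.Lib.Helper15.PolarForms
import Cfsg.Agent.Lib.Helper15.SympChar2
import Cfsg.Agent.Lib.Helper5.SpMax

/-! Helper15 library: the index of the orthogonal group of a quadratic form polarising to the
standard symplectic form inside the symplectic group, in characteristic two, as the number of
vectors `w` with `Tr (Q w) = 0`. -/

set_option autoImplicit false
set_option linter.unusedSectionVars false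

namespace Cfsg.Agent.Lib.Helper15.SpOrthIndex

open Module QuadraticMap Cfsg.Agent.Lib.Helper15 Cfsg.Agent.Lib.Helper15.QuadType
  Cfsg.Agent.Lib.Helper15.TraceSum Cfsg.Agent.Lib.Helper15.PolarForms
  Cfsg.Agent.Lib.Helper5.SpMax
open scoped Matrix MatrixGroups

section gl

variable {F : Type*} [Field F] {ι : Type} [Fintype ι] [DecidableEq ι]

/-- the element of `GL` of a linear automorphism of the coordinate space -/
noncomputable def glOf (e : (ι → F) ≃ₗ[F] (ι → F)) : GL ι F :=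
  ⟨LinearMap.toMatrix' (e : (ι → F) →ₗ[F] (ι → F)),
    LinearMap.toMatrix' (e.symm : (ι → F) →ₗ[F] (ι → F)),
    by rw [← LinearMap.toMatrix'_comp, LinearEquiv.comp_coe, LinearEquiv.symm_trans_self,
      LinearEquiv.refl_toLinearMap, LinearMap.toMatrix'_id],
    by rw [← LinearMap.toMatrix'_comp, LinearEquiv.comp_coe, LinearEquiv.self_trans_symm,
      LinearEquiv.refl_toLinearMap, LinearMap.toMatrix'_id]⟩

theorem glOf_mulVec (e : (ι → F) ≃ₗ[F] (ι → F)) (v : ι → F) :
    ((glOf e : GL ι F) : Matrix ι ι F) *ᵥ v = e v := by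
  show LinearMap.toMatrix' (e : (ι → F) →ₗ[F] (ι → F)) *ᵥ v = e v
  rw [← Matrix.toLin'_apply, Matrix.toLin'_toMatrix']
  rfl

theorem glOf_inv_mulVec (e : (ι → F) ≃ₗ[F] (ι → F)) (v : ι → F) :
    (((glOf e)⁻¹ : GL ι F) : Matrix ι ι F) *ᵥ v = e.symm v := by
  show LinearMap.toMatrix' (e.symm : (ι → F) →ₗ[F] (ι → F)) *ᵥ v = e.symm v
  rw [← Matrix.toLin'_apply, Matrix.toLin'_toMatrix']
  rfl

/-- the bijection of the coordinate space given by an invertible matrix -/
def glEquiv (g : GL ι F) : (ι → F) ≃ (ι → F) where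
  toFun v := (g : Matrix ι ι F) *ᵥ v
  invFun v := ((g⁻¹ : GL ι F) : Matrix ι ι F) *ᵥ v
  left_inv v := inv_mul_mulVec g v
  right_inv v := mul_inv_mulVec g v

/-- functions on the coordinate space, wrapped to carry the action of `GL` by substitution -/
structure FnW (ι : Type) (F : Type*) where
  fn : (ι → F) → F

theorem FnW.ext' {φ ψ : FnW ι F} (h : ∀ v, φ.fn v = ψ.fn v) : φ = ψ := by
  cases φ
  cases ψ
  congr
  exact funext h

noncomputable instance instMulActionFnW : MulAction (GL ι F) (FnW ι F) where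
  smul g φ := ⟨fun v => φ.fn (((g⁻¹ : GL ι F) : Matrix ι ι F) *ᵥ v)⟩
  one_smul φ := by
    apply FnW.ext'
    intro v
    show φ.fn ((((1 : GL ι F)⁻¹ : GL ι F) : Matrix ι ι F) *ᵥ v) = φ.fn v
    rw [inv_one, Units.val_one, Matrix.one_mulVec]
  mul_smul g h φ := by
    apply FnW.ext'
    intro v
    show φ.fn ((((g * h)⁻¹ : GL ι F) : Matrix ι ι F) *ᵥ v) =
      φ.fn (((h⁻¹ : GL ι F) : Matrix ι ι F) *ᵥ (((g⁻¹ : GL ι F) : Matrix ι ι F) *ᵥ v))
    rw [mul_inv_rev, Units.val_mul, Matrix.mulVec_mulVec]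

theorem smul_fn (g : GL ι F) (φ : FnW ι F) (v : ι → F) :
    (g • φ).fn v = φ.fn (((g⁻¹ : GL ι F) : Matrix ι ι F) *ᵥ v) := rfl

end gl

section sp

variable {F : Type*} [Field F] (d : ℕ)

theorem finrank_V : finrank F (Fin d ⊕ Fin d → F) = 2 * d := by
  rw [Module.finrank_fintype_fun_eq_card, Fintype.card_sum, Fintype.card_fin]
  ring

theorem card_V [Fintype F] : Fintype.card (Fin d ⊕ Fin d → F) = Fintype.card F ^ (2 * d) := by
  rw [Fintype.card_fun, Fintype.card_sum, Fintype.card_fin]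
  congr 1
  ring

variable {d}

theorem polarBilin_eq (Q : QuadraticForm F (Fin d ⊕ Fin d → F))
    (hpol : ∀ u v, polar Q u v = Cfsg.sympForm d F u v) : polarBilin Q = sympBilin d := by
  apply LinearMap.ext₂
  intro u v
  rw [polarBilin_apply_apply, hpol, sympBilin_apply]

theorem nondeg_of_polar (Q : QuadraticForm F (Fin d ⊕ Fin d → F))
    (hpol : ∀ u v, polar Q u v = Cfsg.sympForm d F u v) : (polarBilin Q).Nondegenerate := by
  rw [polarBilin_eq Q hpol]
  exact sympBilin_nondegenerate d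

/-- there is a pair of vectors with symplectic product one -/
theorem exists_symp_one (hd : 0 < d) :
    ∃ u v : Fin d ⊕ Fin d → F, Cfsg.sympForm d F u v = 1 := by
  classical
  refine ⟨Pi.single (Sum.inr ⟨0, hd⟩) 1, Pi.single (Sum.inl ⟨0, hd⟩) 1, ?_⟩
  rw [sympForm_eq]
  simp [Pi.single_apply]

theorem polar_comp_mulVec (Q : QuadraticForm F (Fin d ⊕ Fin d → F))
    (A : Matrix (Fin d ⊕ Fin d) (Fin d ⊕ Fin d) F) (u v : Fin d ⊕ Fin d → F) :
    polar (fun x => Q (A *ᵥ x)) u v = polar Q (A *ᵥ u) (A *ᵥ v) := by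
  simp only [polar, Matrix.mulVec_add]

/-- a similarity of `Q` lying in the symplectic group is an isometry -/
theorem isometry_of_sim (hd : 0 < d) (Q : QuadraticForm F (Fin d ⊕ Fin d → F))
    (hpol : ∀ u v, polar Q u v = Cfsg.sympForm d F u v) (g : GL (Fin d ⊕ Fin d) F)
    (hg : g ∈ Cfsg.spGL d F) (hs : g ∈ Cfsg.Geo.quadSimilarityGroup (⇑Q)) :
    ∀ v, Q ((g : Matrix (Fin d ⊕ Fin d) (Fin d ⊕ Fin d) F) *ᵥ v) = Q v := by
  obtain ⟨c, hc⟩ := hs
  obtain ⟨u, v, huv⟩ := exists_symp_one (F := F) hd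
  have h1 : polar Q ((g : Matrix (Fin d ⊕ Fin d) (Fin d ⊕ Fin d) F) *ᵥ u)
      ((g : Matrix (Fin d ⊕ Fin d) (Fin d ⊕ Fin d) F) *ᵥ v) = (c : F) * polar Q u v := by
    simp only [polar, ← Matrix.mulVec_add, hc]
    ring
  rw [hpol, hpol, mem_spGL.1 hg, huv, mul_one] at h1
  intro w
  rw [hc, ← h1, one_mul]

theorem mem_sim_of_isometry (Q : (Fin d ⊕ Fin d → F) → F) (g : GL (Fin d ⊕ Fin d) F)
    (h : ∀ v, Q ((g : Matrix (Fin d ⊕ Fin d) (Fin d ⊕ Fin d) F) *ᵥ v) = Q v) :
    g ∈ Cfsg.Geo.quadSimilarityGroup Q :=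
  ⟨1, fun v => by rw [h, Units.val_one, one_mul]⟩

theorem mem_sp_of_isometry (Q : QuadraticForm F (Fin d ⊕ Fin d → F))
    (hpol : ∀ u v, polar Q u v = Cfsg.sympForm d F u v) (g : GL (Fin d ⊕ Fin d) F)
    (h : ∀ v, Q ((g : Matrix (Fin d ⊕ Fin d) (Fin d ⊕ Fin d) F) *ᵥ v) = Q v) :
    g ∈ Cfsg.spGL d F := by
  rw [mem_spGL]
  intro u v
  rw [← hpol, ← hpol]
  simp only [polar, ← Matrix.mulVec_add, h]

/-- a linear automorphism carrying one form polarising to the symplectic form to another one is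
symplectic -/
theorem glOf_mem_sp (Q Q' : QuadraticForm F (Fin d ⊕ Fin d → F))
    (hpol : ∀ u v, polar Q u v = Cfsg.sympForm d F u v)
    (hpol' : ∀ u v, polar Q' u v = Cfsg.sympForm d F u v)
    (e : (Fin d ⊕ Fin d → F) ≃ₗ[F] (Fin d ⊕ Fin d → F)) (he : ∀ v, Q (e v) = Q' v) :
    glOf e ∈ Cfsg.spGL d F := by
  rw [mem_spGL]
  intro u v
  rw [glOf_mulVec, glOf_mulVec, ← hpol, ← hpol']
  simp only [polar, ← map_add, he]

end sp

section index

variable {F : Type*} [Field F] [Fintype F] [CharP F 2] {d : ℕ}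

theorem chi2_eq_one_iff (a : ZMod 2) : chi2 a = 1 ↔ a = 0 := by
  revert a; decide

/-- the type of a shifted form -/
theorem hasType_shift (hd : 0 < d) (Q : QuadraticForm F (Fin d ⊕ Fin d → F))
    (hpol : ∀ u v, polar Q u v = Cfsg.sympForm d F u v) {ε : ℤ}
    (ht : HasType ε d (fun v => Q v)) (w : Fin d ⊕ Fin d → F) :
    HasType (chi2 (tr2 (Q w)) * ε) d (fun v => shiftQF Q w v) := by
  have hpol' : ∀ u v, polar (shiftQF Q w) u v = Cfsg.sympForm d F u v := by
    intro u v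
    rw [polar_shiftQF, hpol]
  obtain ⟨ε', -, ht'⟩ := hasType_of_nondeg (shiftQF Q w) (nondeg_of_polar _ hpol') d (finrank_V d)
  have ht'' : HasType ε' d (fun v => Q v + (polar Q w v) ^ 2) := by
    have : (fun v => Q v + (polar Q w v) ^ 2) = fun v => shiftQF Q w v := by
      funext v
      rw [shiftQF_apply]
    rw [this]
    exact ht'
  rw [← type_shift Q w ht ht'']
  exact ht'

/-- the index of the orthogonal group in the symplectic group -/
theorem relIndex_eq_card (hd : 0 < d) (Q : QuadraticForm F (Fin d ⊕ Fin d → F))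
    (hpol : ∀ u v, polar Q u v = Cfsg.sympForm d F u v) :
    (Cfsg.Geo.quadSimilarityGroup (⇑Q)).relIndex (Cfsg.spGL d F) =
      Nat.card {w : Fin d ⊕ Fin d → F // tr2 (Q w) = 0} := by
  classical
  have hnd := nondeg_of_polar Q hpol
  obtain ⟨ε, hε, ht⟩ := hasType_of_nondeg Q hnd d (finrank_V d)
  have hε0 : ε ≠ 0 := by rcases hε with rfl | rfl <;> norm_num
  obtain ⟨x0, hx0⟩ : ∃ x0 : FnW (Fin d ⊕ Fin d) F, x0 = ⟨⇑Q⟩ := ⟨_, rfl⟩
  have hstab : MulAction.stabilizer ↥(Cfsg.spGL d F) x0 =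
      (Cfsg.Geo.quadSimilarityGroup (⇑Q)).subgroupOf (Cfsg.spGL d F) := by
    ext ⟨g, hg⟩
    rw [MulAction.mem_stabilizer_iff, Subgroup.mem_subgroupOf]
    show g • x0 = x0 ↔ g ∈ Cfsg.Geo.quadSimilarityGroup (⇑Q)
    constructor
    · intro h
      apply mem_sim_of_isometry
      intro v
      have h1 := congrArg (fun φ : FnW (Fin d ⊕ Fin d) F => φ.fn
        ((g : Matrix (Fin d ⊕ Fin d) (Fin d ⊕ Fin d) F) *ᵥ v)) h
      simp only [smul_fn, hx0, inv_mul_mulVec] at h1
      exact h1.symm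
    · intro h
      have hiso := isometry_of_sim hd Q hpol g hg h
      apply FnW.ext'
      intro v
      rw [smul_fn, hx0]
      show Q _ = Q v
      rw [← hiso, mul_inv_mulVec]
  rw [Subgroup.relIndex, ← hstab, MulAction.index_stabilizer]
  have hinj : Function.Injective
      (fun w : Fin d ⊕ Fin d → F => (⟨⇑(shiftQF Q w)⟩ : FnW (Fin d ⊕ Fin d) F)) := by
    intro w w' h
    have h1 : ∀ v, polar Q w v = polar Q w' v := by
      intro v
      have h2 := congrArg (fun φ : FnW (Fin d ⊕ Fin d) F => φ.fn v) h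
      simp only [shiftQF_apply] at h2
      have h3 : (polar Q w v) ^ 2 = (polar Q w' v) ^ 2 := add_left_cancel h2
      have h4 : (polar Q w v - polar Q w' v) ^ 2 = 0 := by
        have h2' : (2 : F) = 0 := CharTwo.two_eq_zero
        linear_combination h3 - (polar Q w v * polar Q w' v - polar Q w' v ^ 2) * h2'
      exact sub_eq_zero.1 ((pow_eq_zero_iff (two_ne_zero)).1 h4)
    have h5 : ∀ v, polarBilin Q (w - w') v = 0 := by
      intro v
      rw [map_sub, LinearMap.sub_apply, polarBilin_apply_apply, polarBilin_apply_apply, h1,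
        sub_self]
    have h6 := hnd.1 (w - w') h5
    exact sub_eq_zero.1 h6
  have horb : MulAction.orbit ↥(Cfsg.spGL d F) x0 =
      (fun w : Fin d ⊕ Fin d → F => (⟨⇑(shiftQF Q w)⟩ : FnW (Fin d ⊕ Fin d) F)) ''
        {w | tr2 (Q w) = 0} := by
    ext φ
    constructor
    · rintro ⟨⟨g, hg⟩, rfl⟩
      show g • x0 ∈ _
      obtain ⟨Q', hQ'⟩ : ∃ Q' : QuadraticForm F (Fin d ⊕ Fin d → F),
          Q' = Q.comp (Matrix.toLin' ((g⁻¹ : GL (Fin d ⊕ Fin d) F) :
            Matrix (Fin d ⊕ Fin d) (Fin d ⊕ Fin d) F)) := ⟨_, rfl⟩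
      have hQ'app : ∀ v, Q' v = Q (((g⁻¹ : GL (Fin d ⊕ Fin d) F) :
          Matrix (Fin d ⊕ Fin d) (Fin d ⊕ Fin d) F) *ᵥ v) := by
        intro v
        rw [hQ', QuadraticMap.comp_apply, Matrix.toLin'_apply]
      have hpol' : ∀ u v, polar Q' u v = polar Q u v := by
        intro u v
        have h1 : ⇑Q' = fun x => Q (((g⁻¹ : GL (Fin d ⊕ Fin d) F) :
          Matrix (Fin d ⊕ Fin d) (Fin d ⊕ Fin d) F) *ᵥ x) := funext hQ'app
        rw [h1, polar_comp_mulVec, hpol, hpol]
        exact mem_spGL.1 ((Cfsg.spGL d F).inv_mem hg) u v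
      obtain ⟨w, hw⟩ := exists_rep Q Q' hnd hpol'
      have ht' : HasType ε d (fun v => Q' v) := by
        apply ht.congr (glEquiv g)
        intro v
        rw [hQ'app]
        show Q (((g⁻¹ : GL (Fin d ⊕ Fin d) F) : Matrix (Fin d ⊕ Fin d) (Fin d ⊕ Fin d) F) *ᵥ
          ((g : Matrix (Fin d ⊕ Fin d) (Fin d ⊕ Fin d) F) *ᵥ v)) = Q v
        rw [inv_mul_mulVec]
      have ht'' : HasType ε d (fun v => Q v + (polar Q w v) ^ 2) := by
        have : (fun v => Q v + (polar Q w v) ^ 2) = fun v => Q' v := by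
          funext v
          rw [hw]
        rw [this]
        exact ht'
      have h1 := type_shift Q w ht ht''
      have h2 : chi2 (tr2 (Q w)) = 1 := by
        have : (chi2 (tr2 (Q w)) - 1) * ε = 0 := by linear_combination -h1
        rcases mul_eq_zero.1 this with h | h
        · exact sub_eq_zero.1 h
        · exact absurd h hε0
      refine ⟨w, (chi2_eq_one_iff _).1 h2, ?_⟩
      apply FnW.ext'
      intro v
      rw [smul_fn, hx0]
      show shiftQF Q w v = Q _
      rw [shiftQF_apply, ← hw, hQ'app]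
    · rintro ⟨w, hw, rfl⟩
      have hw' : tr2 (Q w) = 0 := hw
      have hpolw : ∀ u v, polar (shiftQF Q w) u v = Cfsg.sympForm d F u v := by
        intro u v
        rw [polar_shiftQF, hpol]
      have htw := hasType_shift hd Q hpol ht w
      rw [hw', chi2_zero, one_mul] at htw
      obtain ⟨e, he⟩ := exists_equiv_of_same_type Q hnd (shiftQF Q w) (nondeg_of_polar _ hpolw) d
        hd (finrank_V d) (finrank_V d) ε hε ht htw
      have hmem := glOf_mem_sp Q (shiftQF Q w) hpol hpolw e he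
      refine ⟨⟨(glOf e)⁻¹, (Cfsg.spGL d F).inv_mem hmem⟩, ?_⟩
      show (glOf e)⁻¹ • x0 = _
      apply FnW.ext'
      intro v
      rw [smul_fn, hx0, inv_inv, glOf_mulVec]
      exact he v
  rw [horb, Set.ncard_image_of_injective _ hinj]
  exact (_root_.Nat.card_coe_set_eq _).symm

end index

end Cfsg.Agent.Lib.Helper15.SpOrthIndex
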