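import Mathlib
import Cfsg.Agent.Lib.Helper15.GUCentC

/-!
helper15: the centraliser algebra `A` of the standard nilpotent `Nmat d`, with the
anti-automorphism `sig0` adjoint to the form `(-1)^j`·(reversal) for which `Nmat d` is skew.
Reduction to the diagonal blocks `Db`.
-/

set_option autoImplicit false

namespace Cfsg.Agent.Lib.Helper15.SpUni

open Matrix Cfsg.Agent.S2581 Cfsg.Agent.Lib.Helper15.GUCent

section blocks

variable {α m R : Type*} [CommRing R] [Fintype m] [LinearOrder α]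

lemma toSquareBlock_mul (b : m → α) (M N : Matrix m m R) (hM : M.BlockTriangular b)
    (hN : N.BlockTriangular b) (a : α) :
    (M * N).toSquareBlock b a = M.toSquareBlock b a * N.toSquareBlock b a := by
  ext i j
  rw [Matrix.mul_apply]
  show (M * N) i.1 j.1 = ∑ k : {k // b k = a}, M i.1 k.1 * N k.1 j.1
  rw [Matrix.mul_apply,
    ← Finset.sum_subtype (Finset.univ.filter (fun k => b k = a)) (by simp)
      (fun k => M i.1 k * N k j.1)]
  symm
  apply Finset.sum_subset (Finset.filter_subset _ _)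
  intro k _ hk
  rw [Finset.mem_filter] at hk
  have hk' : b k ≠ a := fun h => hk ⟨Finset.mem_univ k, h⟩
  rcases lt_or_gt_of_ne hk' with h | h
  · rw [hM (by rw [i.2]; exact h), zero_mul]
  · rw [hN (by rw [j.2]; exact h), mul_zero]

end blocks

section model

variable {F : Type*} [Field F] {t : ℕ} (d : Fin t → ℕ)

/-- alternating sign along a block -/
def sg (x : (k : Fin t) × Fin (d k)) : F := (-1) ^ x.2.1

lemma sg_mul_self (x : (k : Fin t) × Fin (d k)) : sg (F := F) d x * sg d x = 1 := by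
  unfold sg
  rw [← pow_add, ← two_mul, pow_mul]
  simp

/-- block parity sign -/
def eps (k : Fin t) : F := (-1) ^ (d k - 1)

lemma eps_mul_self (k : Fin t) : eps (F := F) d k * eps d k = 1 := by
  unfold eps
  rw [← pow_add, ← two_mul, pow_mul]
  simp

lemma sg_rev (x : (k : Fin t) × Fin (d k)) : sg (F := F) d (rev d x) * sg d x = eps d x.1 := by
  unfold sg eps
  rw [← pow_add, rev_snd]
  congr 1
  have := x.2.2
  omega

/-- the diagonal matrix of block signs -/
def Dm : Matrix ((k : Fin t) × Fin (d k)) ((k : Fin t) × Fin (d k)) F :=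
  Matrix.diagonal (fun x => eps d x.1)

/-- the twisted adjoint -/
def sig0 : Matrix ((k : Fin t) × Fin (d k)) ((k : Fin t) × Fin (d k)) F →+
    Matrix ((k : Fin t) × Fin (d k)) ((k : Fin t) × Fin (d k)) F where
  toFun c := fun x y => sg d x * sg d y * c (rev d y) (rev d x)
  map_zero' := by
    ext x y
    show sg d x * sg d y * (0 : F) = 0
    rw [mul_zero]
  map_add' a b := by
    ext x y
    show sg d x * sg d y * (a (rev d y) (rev d x) + b (rev d y) (rev d x)) =
      sg d x * sg d y * a (rev d y) (rev d x) + sg d x * sg d y * b (rev d y) (rev d x)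
    rw [mul_add]

lemma sig0_apply (c : Matrix ((k : Fin t) × Fin (d k)) ((k : Fin t) × Fin (d k)) F)
    (x y : (k : Fin t) × Fin (d k)) :
    sig0 d c x y = sg d x * sg d y * c (rev d y) (rev d x) := rfl

lemma sig0_mul (c c' : Matrix ((k : Fin t) × Fin (d k)) ((k : Fin t) × Fin (d k)) F) :
    sig0 d (c * c') = sig0 d c' * sig0 d c := by
  ext x y
  rw [sig0_apply, Matrix.mul_apply, Matrix.mul_apply, Finset.mul_sum,
    ← Equiv.sum_comp (revEquiv d)
      (fun z => sg d x * sg d y * (c (rev d y) z * c' z (rev d x)))]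
  apply Finset.sum_congr rfl
  intro w _
  rw [sig0_apply, sig0_apply]
  show sg d x * sg d y * (c (rev d y) (rev d w) * c' (rev d w) (rev d x)) = _
  have h := sg_mul_self (F := F) d w
  linear_combination (-(sg d x * sg d y * c (rev d y) (rev d w) * c' (rev d w) (rev d x))) * h

lemma sig0_sig0 (c : Matrix ((k : Fin t) × Fin (d k)) ((k : Fin t) × Fin (d k)) F) :
    sig0 d (sig0 d c) = Dm d * c * Dm d := by
  ext x y
  rw [sig0_apply, sig0_apply, rev_rev, rev_rev]
  unfold Dm
  rw [Matrix.mul_diagonal, Matrix.diagonal_mul, ← sg_rev d x, ← sg_rev d y]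
  ring

lemma sig0_Nmat : sig0 d (Nmat (F := F) d) = - Nmat d := by
  ext x y
  rw [sig0_apply, Nmat_rev, neg_apply, Nmat_apply]
  split_ifs with h
  · have h1 := sg_mul_self (F := F) d y
    have h2 : sg (F := F) d x = - sg d y := by
      unfold sg
      rw [h.2, pow_succ]
      ring
    rw [h2]
    linear_combination (-1 : F) * h1
  · rw [mul_zero, neg_zero]

lemma sig0_one : sig0 d (1 : Matrix ((k : Fin t) × Fin (d k)) ((k : Fin t) × Fin (d k)) F) = 1 := by
  ext x y
  rw [sig0_apply]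
  by_cases h : x = y
  · subst h
    rw [Matrix.one_apply_eq, Matrix.one_apply_eq, mul_one, sg_mul_self]
  · rw [Matrix.one_apply_ne h, Matrix.one_apply_ne, mul_zero]
    intro h1
    apply h
    rw [← rev_rev d x, ← rev_rev d y, h1]

lemma sig0_comm (c : Matrix ((k : Fin t) × Fin (d k)) ((k : Fin t) × Fin (d k)) F)
    (hc : c * Nmat d = Nmat d * c) : sig0 d c * Nmat d = Nmat d * sig0 d c := by
  have h := congrArg (sig0 d) hc
  rw [sig0_mul, sig0_mul, sig0_Nmat, Matrix.neg_mul, Matrix.mul_neg, neg_inj] at h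
  exact h.symm

lemma Dm_mul_self : Dm (F := F) d * Dm d = 1 := by
  unfold Dm
  rw [Matrix.diagonal_mul_diagonal]
  simp only [eps_mul_self]
  exact Matrix.diagonal_one

lemma Dm_comm : Dm (F := F) d * Nmat d = Nmat d * Dm d := by
  ext x y
  unfold Dm
  rw [Matrix.mul_diagonal, Matrix.diagonal_mul, Nmat_apply]
  split_ifs with h
  · rw [h.1, mul_comm]
  · rw [mul_zero, zero_mul]

lemma sig0_Dm : sig0 d (Dm (F := F) d) = Dm d := by
  ext x y
  rw [sig0_apply]
  unfold Dm
  by_cases h : x = y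
  · subst h
    rw [Matrix.diagonal_apply_eq, Matrix.diagonal_apply_eq, rev_fst]
    have := sg_mul_self (F := F) d x
    linear_combination (eps d x.1) * this
  · rw [Matrix.diagonal_apply_ne _ h, Matrix.diagonal_apply_ne, mul_zero]
    intro h1
    apply h
    rw [← rev_rev d x, ← rev_rev d y, h1]

end model

section diag

variable {F : Type*} [Field F] {t : ℕ} (d : Fin t → ℕ) (hd : ∀ k, 1 ≤ d k)

lemma col_top_mem (c : Matrix ((k : Fin t) × Fin (d k)) ((k : Fin t) × Fin (d k)) F)
    (hc : c * Nmat d = Nmat d * c) (l : Fin t) :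
    (fun z => c z (top d hd l)) ∈ Ksub (F := F) d 1 := by
  rw [← mulVec_ev, mem_Ksub_iff, Matrix.mulVec_mulVec, ← comm_pow d c hc, ← Matrix.mulVec_mulVec,
    pow_mulVec_ev, dif_neg, Matrix.mulVec_zero]
  have := hd l
  simp only [top]
  omega

lemma Rmat_mul (c c' : Matrix ((k : Fin t) × Fin (d k)) ((k : Fin t) × Fin (d k)) F)
    (hc' : c' * Nmat d = Nmat d * c') :
    Rmat d hd (c * c') = Rmat d hd c * Rmat d hd c' := by
  ext k l
  rw [Matrix.mul_apply]
  show (c * c') (top d hd k) (top d hd l) = ∑ j, c (top d hd k) (top d hd j) * c' (top d hd j) (top d hd l)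
  rw [Matrix.mul_apply]
  exact sum_tops d hd (fun z => c (top d hd k) z) (fun z => c' z (top d hd l))
    (col_top_mem d hd c' hc' l)

/-- the diagonal blocks of the socle matrix -/
def Db (c : Matrix ((k : Fin t) × Fin (d k)) ((k : Fin t) × Fin (d k)) F)
    (a : (Fin (Finset.univ.sup d + 1))ᵒᵈ) : Matrix {k // blab d k = a} {k // blab d k = a} F :=
  (Rmat d hd c).toSquareBlock (blab d) a

omit [Field F] in
lemma Db_apply (c : Matrix ((k : Fin t) × Fin (d k)) ((k : Fin t) × Fin (d k)) F)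
    (a : (Fin (Finset.univ.sup d + 1))ᵒᵈ) (i j : {k // blab d k = a}) :
    Db d hd c a i j = c (top d hd i.1) (top d hd j.1) := rfl

lemma Db_mul (c c' : Matrix ((k : Fin t) × Fin (d k)) ((k : Fin t) × Fin (d k)) F)
    (hc : c * Nmat d = Nmat d * c) (hc' : c' * Nmat d = Nmat d * c')
    (a : (Fin (Finset.univ.sup d + 1))ᵒᵈ) :
    Db d hd (c * c') a = Db d hd c a * Db d hd c' a := by
  unfold Db
  rw [Rmat_mul d hd c c' hc']
  exact toSquareBlock_mul (blab d) _ _ (Rmat_blockTriangular d hd c hc)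
    (Rmat_blockTriangular d hd c' hc') a

lemma Db_add (c c' : Matrix ((k : Fin t) × Fin (d k)) ((k : Fin t) × Fin (d k)) F)
    (a : (Fin (Finset.univ.sup d + 1))ᵒᵈ) :
    Db d hd (c + c') a = Db d hd c a + Db d hd c' a := by
  ext i j
  rfl

lemma Db_sub (c c' : Matrix ((k : Fin t) × Fin (d k)) ((k : Fin t) × Fin (d k)) F)
    (a : (Fin (Finset.univ.sup d + 1))ᵒᵈ) :
    Db d hd (c - c') a = Db d hd c a - Db d hd c' a := by
  ext i j
  rfl

lemma Db_neg (c : Matrix ((k : Fin t) × Fin (d k)) ((k : Fin t) × Fin (d k)) F)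
    (a : (Fin (Finset.univ.sup d + 1))ᵒᵈ) :
    Db d hd (-c) a = - Db d hd c a := by
  ext i j
  rfl

lemma Db_smul (r : F) (c : Matrix ((k : Fin t) × Fin (d k)) ((k : Fin t) × Fin (d k)) F)
    (a : (Fin (Finset.univ.sup d + 1))ᵒᵈ) :
    Db d hd (r • c) a = r • Db d hd c a := by
  ext i j
  rfl

lemma top_injective : Function.Injective (top d hd) := by
  intro k l h
  exact congrArg Sigma.fst h

lemma Db_one (a : (Fin (Finset.univ.sup d + 1))ᵒᵈ) :
    Db d hd (1 : Matrix ((k : Fin t) × Fin (d k)) ((k : Fin t) × Fin (d k)) F) a = 1 := by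
  ext i j
  rw [Db_apply]
  by_cases h : i = j
  · subst h
    rw [Matrix.one_apply_eq, Matrix.one_apply_eq]
  · rw [Matrix.one_apply_ne h, Matrix.one_apply_ne]
    intro h1
    exact h (Subtype.ext (top_injective d hd h1))

lemma Db_pow (c : Matrix ((k : Fin t) × Fin (d k)) ((k : Fin t) × Fin (d k)) F)
    (hc : c * Nmat d = Nmat d * c) (a : (Fin (Finset.univ.sup d + 1))ᵒᵈ) (n : ℕ) :
    Db d hd (c ^ n) a = (Db d hd c a) ^ n := by
  induction n with
  | zero => rw [pow_zero, pow_zero, Db_one]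
  | succ n ih =>
    rw [pow_succ, pow_succ, Db_mul d hd _ _ _ hc, ih]
    have h : Commute c (Nmat d) := hc
    exact (h.pow_left n)

lemma Db_sig0 (c : Matrix ((k : Fin t) × Fin (d k)) ((k : Fin t) × Fin (d k)) F)
    (hc : c * Nmat d = Nmat d * c) (a : (Fin (Finset.univ.sup d + 1))ᵒᵈ) :
    Db d hd (sig0 d c) a = (Db d hd c a)ᵀ := by
  ext i j
  rw [Db_apply, transpose_apply, Db_apply, sig0_apply, rev_top, rev_top]
  have hij : d i.1 = d j.1 := (blab_eq d i.1 j.1).1 (i.2.trans j.2.symm)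
  rw [← comm_gen_top d hd c hc i.1 j.1 hij]
  have h1 : sg (F := F) d (top d hd i.1) = sg d (top d hd j.1) := by
    unfold sg
    simp only [top]
    rw [hij]
  rw [h1, sg_mul_self, one_mul]

lemma Db_Dm (a : (Fin (Finset.univ.sup d + 1))ᵒᵈ) :
    Db d hd (Dm (F := F) d) a = ((-1 : F) ^ ((OrderDual.ofDual a : Fin _).1 - 1)) • 1 := by
  ext i j
  rw [Db_apply, Matrix.smul_apply, smul_eq_mul]
  unfold Dm
  by_cases h : i = j
  · subst h
    rw [Matrix.diagonal_apply_eq, Matrix.one_apply_eq, mul_one]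
    unfold eps
    have h1 : d i.1 = (OrderDual.ofDual a : Fin _).1 :=
      congrArg (fun b : (Fin (Finset.univ.sup d + 1))ᵒᵈ => (OrderDual.ofDual b : Fin _).1) i.2
    show (-1 : F) ^ (d i.1 - 1) = _
    rw [h1]
  · rw [Matrix.diagonal_apply_ne, Matrix.one_apply_ne h, mul_zero]
    intro h1
    exact h (Subtype.ext (top_injective d hd h1))

/-- every family of diagonal blocks lifts to the centraliser algebra -/
lemma exists_lift (x : (a : (Fin (Finset.univ.sup d + 1))ᵒᵈ) →
      Matrix {k // blab d k = a} {k // blab d k = a} F) :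
    ∃ c : Matrix ((k : Fin t) × Fin (d k)) ((k : Fin t) × Fin (d k)) F,
      c * Nmat d = Nmat d * c ∧ ∀ a, Db d hd c a = x a := by
  classical
  let w0 : (l : Fin t) → (((k : Fin t) × Fin (d k)) → F) := fun l y =>
    if h : d y.1 = d l ∧ y.2.1 = 0 then
      x (blab d l) ⟨y.1, (blab_eq d y.1 l).2 h.1⟩ ⟨l, rfl⟩ else 0
  have hw0 : ∀ l, w0 l ∈ Ksub d (d l) := by
    intro l
    rw [mem_Ksub]
    intro y hy
    simp only [w0]
    rw [dif_neg]
    rintro ⟨h1, _⟩
    omega
  refine ⟨Psi d w0, Psi_comm (F := F) d w0 hw0, ?_⟩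
  intro a
  ext i j
  obtain ⟨j, rfl⟩ := j
  have hij : d i.1 = d j := (blab_eq d i.1 j).1 i.2
  have h2 := rho_apply d hd (fun l => ⟨w0 l, hw0 l⟩) i.1 j
  rw [rho_eq] at h2
  show Rmat d hd (Psi d w0) i.1 j = _
  simp only at h2
  rw [h2, if_pos (by omega)]
  simp only [w0]
  rw [dif_pos ⟨hij, by omega⟩]

/-- elements of the centraliser algebra with vanishing diagonal blocks are nilpotent -/
lemma nilpotent_of_Db_zero [Finite F]
    (c : Matrix ((k : Fin t) × Fin (d k)) ((k : Fin t) × Fin (d k)) F)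
    (hc : c * Nmat d = Nmat d * c) (h0 : ∀ a, Db d hd c a = 0) : IsNilpotent c := by
  classical
  obtain ⟨m, m', hne, hmm⟩ := Finite.exists_ne_map_eq_of_infinite (fun n : ℕ => c ^ n)
  wlog hlt : m < m' generalizing m m'
  · exact this m' m hne.symm hmm.symm (lt_of_le_of_ne (not_lt.1 hlt) hne.symm)
  obtain ⟨k, rfl⟩ := Nat.exists_eq_add_of_lt hlt
  have hck : (c ^ (k + 1)) * Nmat d = Nmat d * (c ^ (k + 1)) := by
    have h : Commute c (Nmat d) := hc
    exact h.pow_left (k + 1)
  have hunit : (1 - c ^ (k + 1)).det ≠ 0 := by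
    rw [det_ne_zero_iff d hd]
    · intro a
      have h1 : (Rmat d hd (1 - c ^ (k + 1))).toSquareBlock (blab d) a = 1 := by
        show Db d hd (1 - c ^ (k + 1)) a = 1
        rw [Db_sub, Db_one, Db_pow d hd c hc, h0 a, zero_pow (Nat.succ_ne_zero k), sub_zero]
      rw [h1, det_one]
      exact one_ne_zero
    · rw [Matrix.sub_mul, Matrix.mul_sub, hck, Matrix.one_mul, Matrix.mul_one]
  refine ⟨m, ?_⟩
  have h2 : c ^ m * (1 - c ^ (k + 1)) = 0 := by
    rw [Matrix.mul_sub, Matrix.mul_one, ← pow_add, sub_eq_zero]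
    have hmm' : c ^ m = c ^ (m + k + 1) := hmm
    rw [hmm']
    congr 1
  have h3 : IsUnit (1 - c ^ (k + 1)) := (Matrix.isUnit_iff_isUnit_det _).2 (isUnit_iff_ne_zero.2 hunit)
  obtain ⟨u, hu⟩ := h3
  rw [← hu] at h2
  exact (Units.mul_left_eq_zero u).1 h2

end diag

end Cfsg.Agent.Lib.Helper15.SpUni
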