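import Mathlib
import Cfsg.Agent.Lib.Helper15.SpUniA

/-!
helper15: orbits of the units of the centraliser algebra on the twisted-symmetric units
(`sig0 c = -(c * Dm)`), under `c ↦ sig0 a * c * a`: reduction to the diagonal blocks.
-/

set_option autoImplicit false

namespace Cfsg.Agent.Lib.Helper15.SpUni

open Matrix Cfsg.Agent.S2581 Cfsg.Agent.Lib.Helper15.GUCent

section orbit

variable {F : Type*} [Field F] {t : ℕ} (d : Fin t → ℕ) (hd : ∀ k, 1 ≤ d k)

/-- twisted-symmetric units of the centraliser algebra -/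
def IsT (c : Matrix ((k : Fin t) × Fin (d k)) ((k : Fin t) × Fin (d k)) F) : Prop :=
  c * Nmat d = Nmat d * c ∧ c.det ≠ 0 ∧ sig0 d c = -(c * Dm d)

lemma comm_mul (a b : Matrix ((k : Fin t) × Fin (d k)) ((k : Fin t) × Fin (d k)) F)
    (ha : a * Nmat d = Nmat d * a) (hb : b * Nmat d = Nmat d * b) :
    (a * b) * Nmat d = Nmat d * (a * b) := by
  rw [Matrix.mul_assoc, hb, ← Matrix.mul_assoc, ha, Matrix.mul_assoc]

lemma comm_inv (a : Matrix ((k : Fin t) × Fin (d k)) ((k : Fin t) × Fin (d k)) F)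
    (ha : a * Nmat d = Nmat d * a) (hdet : a.det ≠ 0) : a⁻¹ * Nmat d = Nmat d * a⁻¹ := by
  have hu : IsUnit a.det := isUnit_iff_ne_zero.2 hdet
  calc a⁻¹ * Nmat d = a⁻¹ * (Nmat d * a) * a⁻¹ := by
        rw [Matrix.mul_assoc, Matrix.mul_assoc, Matrix.mul_nonsing_inv a hu, Matrix.mul_one]
    _ = Nmat d * a⁻¹ := by
        rw [← ha, ← Matrix.mul_assoc, Matrix.nonsing_inv_mul a hu, Matrix.one_mul]

include hd in
lemma IsT.Db_transpose {c : Matrix ((k : Fin t) × Fin (d k)) ((k : Fin t) × Fin (d k)) F}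
    (hc : IsT d c) (a : (Fin (Finset.univ.sup d + 1))ᵒᵈ) :
    (Db d hd c a)ᵀ = -(((-1 : F) ^ ((OrderDual.ofDual a : Fin _).1 - 1)) • Db d hd c a) := by
  rw [← Db_sig0 d hd c hc.1, hc.2.2, Db_neg, Db_mul d hd c (Dm d) hc.1 (Dm_comm d), Db_Dm,
    Matrix.mul_smul, Matrix.mul_one]

include hd in
lemma det_sig0_ne_zero (c : Matrix ((k : Fin t) × Fin (d k)) ((k : Fin t) × Fin (d k)) F)
    (hc : c * Nmat d = Nmat d * c) (hdet : c.det ≠ 0) : (sig0 d c).det ≠ 0 := by
  rw [det_ne_zero_iff d hd _ (sig0_comm d c hc)]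
  intro a
  have h1 := (det_ne_zero_iff d hd c hc).1 hdet a
  have h2 : (Rmat d hd (sig0 d c)).toSquareBlock (blab d) a = (Db d hd c a)ᵀ := Db_sig0 d hd c hc a
  rw [h2, det_transpose]
  exact h1

include hd in
lemma IsT.act {c : Matrix ((k : Fin t) × Fin (d k)) ((k : Fin t) × Fin (d k)) F}
    (hc : IsT d c) (a : Matrix ((k : Fin t) × Fin (d k)) ((k : Fin t) × Fin (d k)) F)
    (ha : a * Nmat d = Nmat d * a) (hdet : a.det ≠ 0) : IsT d (sig0 d a * c * a) := by
  refine ⟨comm_mul d _ _ (comm_mul d _ _ (sig0_comm d a ha) hc.1) ha, ?_, ?_⟩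
  · rw [det_mul, det_mul]
    exact mul_ne_zero (mul_ne_zero (det_sig0_ne_zero d hd a ha hdet) hc.2.1) hdet
  · rw [sig0_mul, sig0_mul, sig0_sig0, hc.2.2]
    have h1 := Dm_mul_self (F := F) d
    calc sig0 d a * (-(c * Dm d) * (Dm d * a * Dm d))
        = -(sig0 d a * c * (Dm d * Dm d) * a * Dm d) := by
          simp only [Matrix.neg_mul, Matrix.mul_neg, Matrix.mul_assoc]
      _ = -(sig0 d a * c * a * Dm d) := by rw [h1, Matrix.mul_one]

include hd in
lemma Db_act (c a : Matrix ((k : Fin t) × Fin (d k)) ((k : Fin t) × Fin (d k)) F)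
    (hc : c * Nmat d = Nmat d * c) (ha : a * Nmat d = Nmat d * a)
    (b : (Fin (Finset.univ.sup d + 1))ᵒᵈ) :
    Db d hd (sig0 d a * c * a) b = (Db d hd a b)ᵀ * Db d hd c b * Db d hd a b := by
  rw [Db_mul d hd _ _ (comm_mul d _ _ (sig0_comm d a ha) hc) ha,
    Db_mul d hd _ _ (sig0_comm d a ha) hc, Db_sig0 d hd a ha]

end orbit

section sqrt

variable {F : Type*} [Field F] [Finite F] {p : ℕ} [Fact p.Prime] [CharP F p] {t : ℕ}
  (d : Fin t → ℕ) (hd : ∀ k, 1 ≤ d k)

include hd in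
/-- two twisted-symmetric units with the same diagonal blocks are in one orbit -/
lemma exists_sqrt_act (hp2 : p ≠ 2)
    (c c' : Matrix ((k : Fin t) × Fin (d k)) ((k : Fin t) × Fin (d k)) F)
    (hc : IsT d c) (hc' : IsT d c') (hD : ∀ a, Db d hd c a = Db d hd c' a) :
    ∃ h : Matrix ((k : Fin t) × Fin (d k)) ((k : Fin t) × Fin (d k)) F,
      h * Nmat d = Nmat d * h ∧ h.det ≠ 0 ∧ sig0 d h * c * h = c' := by
  classical
  rcases isEmpty_or_nonempty ((k : Fin t) × Fin (d k)) with hI | hI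
  · refine ⟨1, by rw [Matrix.one_mul, Matrix.mul_one], by rw [det_one]; exact one_ne_zero, ?_⟩
    exact Subsingleton.elim _ _
  have hcu : IsUnit c.det := isUnit_iff_ne_zero.2 hc.2.1
  obtain ⟨r, hr⟩ : ∃ r, r = c⁻¹ * c' := ⟨_, rfl⟩
  have hcr : c * r = c' := by rw [hr, Matrix.mul_nonsing_inv_cancel_left _ _ hcu]
  have hrA : r * Nmat d = Nmat d * r := by
    rw [hr]
    exact comm_mul d _ _ (comm_inv d c hc.1 hc.2.1) hc'.1
  have hrdet : r.det ≠ 0 := by
    intro h0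
    apply hc'.2.1
    rw [← hcr, det_mul, h0, mul_zero]
  -- the diagonal blocks of `r` are trivial
  have hDr : ∀ a, Db d hd r a = 1 := by
    intro a
    have h1 : Db d hd c a * Db d hd r a = Db d hd c a := by
      rw [← Db_mul d hd c r hc.1 hrA, hcr, hD a]
    have h2 : IsUnit (Db d hd c a).det :=
      isUnit_iff_ne_zero.2 ((det_ne_zero_iff d hd c hc.1).1 hc.2.1 a)
    calc Db d hd r a = (Db d hd c a)⁻¹ * (Db d hd c a * Db d hd r a) := by
          rw [Matrix.nonsing_inv_mul_cancel_left _ _ h2]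
      _ = 1 := by rw [h1, Matrix.nonsing_inv_mul _ h2]
  have hxA : (r - 1) * Nmat d = Nmat d * (r - 1) := by
    rw [Matrix.sub_mul, Matrix.mul_sub, hrA, Matrix.one_mul, Matrix.mul_one]
  have hxnil : IsNilpotent (r - 1) := by
    apply nilpotent_of_Db_zero d hd _ hxA
    intro a
    rw [Db_sub, hDr a, Db_one, sub_self]
  obtain ⟨n, hn⟩ := hxnil
  have hp : p.Prime := Fact.out
  have hpn : n ≤ p ^ n := (Nat.lt_pow_self hp.one_lt).le
  have hrp : r ^ (p ^ n) = 1 := by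
    have h1 : r = (r - 1) + 1 := by rw [sub_add_cancel]
    rw [h1, add_pow_char_pow_of_commute p n (Commute.one_right _), one_pow,
      pow_eq_zero_of_le hpn hn, zero_add]
  have hodd : Odd (p ^ n) := (hp.odd_of_ne_two hp2).pow
  obtain ⟨j, hj⟩ := hodd
  have hh : r ^ (j + 1) * r ^ (j + 1) = r := by
    rw [← pow_add, show j + 1 + (j + 1) = p ^ n + 1 by omega, pow_succ, hrp, Matrix.one_mul]
  -- the adjoint of `r`
  have hsr : sig0 d r * c = c * r := by
    have h1 := congrArg (sig0 d) hcr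
    rw [sig0_mul, hc.2.2, hc'.2.2, Matrix.mul_neg, neg_inj, ← Matrix.mul_assoc] at h1
    have h2 := congrArg (fun M => M * Dm d) h1
    simp only [Matrix.mul_assoc, Dm_mul_self, Matrix.mul_one] at h2
    rw [h2, hcr]
  have hsrk : ∀ k : ℕ, sig0 d (r ^ k) * c = c * r ^ k := by
    intro k
    induction k with
    | zero => rw [pow_zero, sig0_one, Matrix.one_mul, Matrix.mul_one]
    | succ k ih =>
      rw [pow_succ, sig0_mul, Matrix.mul_assoc, ih, ← Matrix.mul_assoc, hsr, Matrix.mul_assoc,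
        ← pow_succ', pow_succ]
  refine ⟨r ^ (j + 1), ?_, ?_, ?_⟩
  · have h : Commute r (Nmat d) := hrA
    exact h.pow_left (j + 1)
  · rw [det_pow]
    exact pow_ne_zero _ hrdet
  · rw [hsrk, Matrix.mul_assoc, hh, hcr]

include hd in
/-- orbit criterion through the diagonal blocks -/
theorem orbit_of_blocks (hp2 : p ≠ 2)
    (c c' : Matrix ((k : Fin t) × Fin (d k)) ((k : Fin t) × Fin (d k)) F)
    (hc : IsT d c) (hc' : IsT d c')
    (hblk : ∀ a, ∃ g : Matrix {k // blab d k = a} {k // blab d k = a} F,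
      g.det ≠ 0 ∧ gᵀ * Db d hd c a * g = Db d hd c' a) :
    ∃ a : Matrix ((k : Fin t) × Fin (d k)) ((k : Fin t) × Fin (d k)) F,
      a * Nmat d = Nmat d * a ∧ a.det ≠ 0 ∧ sig0 d a * c * a = c' := by
  classical
  choose g hg1 hg2 using hblk
  obtain ⟨a0, ha0, hDa0⟩ := exists_lift d hd g
  have ha0det : a0.det ≠ 0 := by
    rw [det_ne_zero_iff d hd a0 ha0]
    intro a
    have h : (Rmat d hd a0).toSquareBlock (blab d) a = g a := hDa0 a
    rw [h]
    exact hg1 a
  have hc'' := hc.act d hd a0 ha0 ha0det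
  obtain ⟨h, hh1, hh2, hh3⟩ := exists_sqrt_act d hd hp2 _ c' hc'' hc' (by
    intro a
    rw [Db_act d hd c a0 hc.1 ha0, hDa0 a, hg2 a])
  refine ⟨a0 * h, comm_mul d _ _ ha0 hh1, ?_, ?_⟩
  · rw [det_mul]
    exact mul_ne_zero ha0det hh2
  · rw [sig0_mul, ← hh3]
    simp only [Matrix.mul_assoc]

end sqrt

end Cfsg.Agent.Lib.Helper15.SpUni
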