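import Mathlib
import Cfsg.Agent.Lib.Helper15.SpUniB
import Cfsg.Agent.Lib.Helper15.QuadOrth
import Cfsg.Agent.Lib.Helper15.AltGlue

/-!
helper15: congruence classification of symmetric and skew-symmetric invertible matrices over a
finite field of odd characteristic, in matrix form.
-/

set_option autoImplicit false

namespace Cfsg.Agent.Lib.Helper15.SpUni

open Matrix Cfsg.Agent.Lib.Helper15.AltGlue Cfsg.Agent.Lib.Helper15.AltIso

section congr

variable {F : Type*} [Field F] [Fintype F]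

omit [Fintype F] in
lemma bil_symm {ι : Type} [Fintype ι] [DecidableEq ι] (S : Matrix ι ι F) (hS : Sᵀ = S)
    (u v : ι → F) : v ⬝ᵥ S *ᵥ u = u ⬝ᵥ S *ᵥ v := by
  have h := dot_mulVec' S 1 u v
  rw [Matrix.one_mulVec, Matrix.mul_one, hS] at h
  rw [← h, dotProduct_comm]

omit [Fintype F] in
lemma symm_eq_zero_of_quad (h2 : (2 : F) ≠ 0) {ι : Type} [Fintype ι] [DecidableEq ι]
    (S : Matrix ι ι F) (hS : Sᵀ = S) (h : ∀ v : ι → F, v ⬝ᵥ S *ᵥ v = 0) : S = 0 := by
  apply mat_ext_bilin'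
  intro u v
  have h1 := h (u + v)
  rw [Matrix.mulVec_add, add_dotProduct, dotProduct_add, dotProduct_add, h u, h v,
    bil_symm S hS u v, zero_add, add_zero] at h1
  rw [Matrix.zero_mulVec, dotProduct_zero]
  have h3 : (2 : F) * (u ⬝ᵥ S *ᵥ v) = 0 := by
    rw [two_mul]
    exact h1
  rcases mul_eq_zero.1 h3 with h4 | h4
  · exact absurd h4 h2
  · exact h4

lemma congr_symm_fin (h2 : (2 : F) ≠ 0) {n : ℕ} (P P' : Matrix (Fin n) (Fin n) F)
    (hP : Pᵀ = P) (hP' : P'ᵀ = P') (hd : P.det ≠ 0) (hd' : P'.det ≠ 0)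
    (hsq : IsSquare (P.det * P'.det)) :
    ∃ g : Matrix (Fin n) (Fin n) F, g.det ≠ 0 ∧ gᵀ * P * g = P' := by
  classical
  have hpol : ∀ (M : Matrix (Fin n) (Fin n) F), Mᵀ = M → ∀ u v,
      QuadraticMap.polar (Matrix.toQuadraticForm' M) u v = u ⬝ᵥ ((2 : F) • M) *ᵥ v := by
    intro M hM u v
    unfold Matrix.toQuadraticForm'
    rw [LinearMap.BilinMap.polar_toQuadraticMap, Matrix.toLinearMap₂'_apply',
      Matrix.toLinearMap₂'_apply', bil_symm M hM u v, Matrix.smul_mulVec, dotProduct_smul,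
      smul_eq_mul, two_mul]
  have hgram : ∀ (M : Matrix (Fin n) (Fin n) F), Mᵀ = M →
      Matrix.of (fun i j : Fin n => QuadraticMap.polar (Matrix.toQuadraticForm' M)
        (Pi.single i 1) (Pi.single j 1)) = (2 : F) • M := by
    intro M hM
    ext i j
    rw [Matrix.of_apply, hpol M hM, Matrix.mulVec_single_one, single_dotProduct, one_mul]
    rfl
  have hnd : ∀ (M : Matrix (Fin n) (Fin n) F), Mᵀ = M → M.det ≠ 0 →
      (QuadraticMap.polarBilin (Matrix.toQuadraticForm' M)).Nondegenerate := by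
    intro M hM hdet
    have h1 : QuadraticMap.polarBilin (Matrix.toQuadraticForm' M) =
        Matrix.toBilin' ((2 : F) • M) := by
      apply LinearMap.ext₂
      intro u v
      rw [QuadraticMap.polarBilin_apply_apply, hpol M hM, Matrix.toBilin'_apply']
    rw [h1]
    apply LinearMap.BilinForm.nondegenerate_toBilin'_of_det_ne_zero'
    rw [Matrix.det_smul]
    exact mul_ne_zero (pow_ne_zero _ h2) hdet
  have hsq' : IsSquare ((Matrix.of (fun i j : Fin n =>
      QuadraticMap.polar (Matrix.toQuadraticForm' P') (Pi.single i 1) (Pi.single j 1))).det *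
      (Matrix.of (fun i j : Fin n =>
      QuadraticMap.polar (Matrix.toQuadraticForm' P) (Pi.single i 1) (Pi.single j 1))).det) := by
    rw [hgram P hP, hgram P' hP', Matrix.det_smul, Matrix.det_smul]
    obtain ⟨r, hr⟩ := hsq
    refine ⟨(2 : F) ^ Fintype.card (Fin n) * r, ?_⟩
    linear_combination ((2 : F) ^ Fintype.card (Fin n)) ^ 2 * hr
  obtain ⟨g, hg⟩ := isometric_of_disc h2 (Matrix.toQuadraticForm' P') (Matrix.toQuadraticForm' P)
    (hnd P' hP' hd') (hnd P hP hd) hsq'
  have hgm : ∀ v, g v = (LinearMap.toMatrix' g.toLinearMap) *ᵥ v := by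
    intro v
    rw [LinearMap.toMatrix'_mulVec]
    rfl
  have hq : ∀ (M : Matrix (Fin n) (Fin n) F) (v : Fin n → F),
      Matrix.toQuadraticForm' M v = v ⬝ᵥ M *ᵥ v := by
    intro M v
    unfold Matrix.toQuadraticForm'
    rw [LinearMap.BilinMap.toQuadraticMap_apply, Matrix.toLinearMap₂'_apply']
  have hkey : (LinearMap.toMatrix' g.toLinearMap)ᵀ * P * (LinearMap.toMatrix' g.toLinearMap) = P' := by
    rw [← sub_eq_zero]
    apply symm_eq_zero_of_quad h2
    · rw [transpose_sub, transpose_mul, transpose_mul, transpose_transpose, hP, hP',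
        Matrix.mul_assoc]
    · intro v
      have h1 := hg v
      rw [hq, hq, hgm, dot_mulVec', Matrix.mulVec_mulVec] at h1
      rw [Matrix.sub_mulVec, dotProduct_sub, h1, sub_self]
  refine ⟨LinearMap.toMatrix' g.toLinearMap, ?_, hkey⟩
  intro h0
  apply hd'
  rw [← hkey, det_mul, det_mul, h0, mul_zero]

lemma congr_symm (h2 : (2 : F) ≠ 0) {κ : Type} [Fintype κ] [DecidableEq κ] (P P' : Matrix κ κ F)
    (hP : Pᵀ = P) (hP' : P'ᵀ = P') (hd : P.det ≠ 0) (hd' : P'.det ≠ 0)
    (hsq : IsSquare (P.det * P'.det)) :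
    ∃ g : Matrix κ κ F, g.det ≠ 0 ∧ gᵀ * P * g = P' := by
  classical
  let e := Fintype.equivFin κ
  obtain ⟨g, hg1, hg2⟩ := congr_symm_fin h2 (P.submatrix e.symm e.symm) (P'.submatrix e.symm e.symm)
    (by rw [transpose_submatrix, hP]) (by rw [transpose_submatrix, hP'])
    (by rw [det_submatrix_equiv_self]; exact hd) (by rw [det_submatrix_equiv_self]; exact hd')
    (by rw [det_submatrix_equiv_self, det_submatrix_equiv_self]; exact hsq)
  refine ⟨g.submatrix e e, by rw [det_submatrix_equiv_self]; exact hg1, ?_⟩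
  have h := congrArg (fun M : Matrix (Fin _) (Fin _) F => M.submatrix e e) hg2
  simp only [submatrix_submatrix, Equiv.symm_comp_self, submatrix_id_id] at h
  rw [← h, ← submatrix_mul_equiv _ _ e e e, ← submatrix_mul_equiv _ _ e e e, transpose_submatrix,
    submatrix_submatrix, Equiv.symm_comp_self, submatrix_id_id]

lemma congr_alt (h2 : (2 : F) ≠ 0) {κ : Type} [Fintype κ] [DecidableEq κ] (P P' : Matrix κ κ F)
    (hP : Pᵀ = -P) (hP' : P'ᵀ = -P') (hd : P.det ≠ 0) (hd' : P'.det ≠ 0) :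
    ∃ g : Matrix κ κ F, g.det ≠ 0 ∧ gᵀ * P * g = P' := by
  classical
  have halt : ∀ (M : Matrix κ κ F), Mᵀ = -M → (Matrix.toBilin' M).IsAlt := by
    intro M hM v
    rw [Matrix.toBilin'_apply']
    have h := dot_mulVec' M 1 v v
    rw [Matrix.one_mulVec, Matrix.mul_one, hM, Matrix.neg_mulVec, dotProduct_neg,
      dotProduct_comm] at h
    have h3 : (2 : F) * (v ⬝ᵥ M *ᵥ v) = 0 := by
      rw [two_mul]
      nth_rewrite 1 [h]
      rw [neg_add_cancel]
    rcases mul_eq_zero.1 h3 with h4 | h4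
    · exact absurd h4 h2
    · exact h4
  have hnd : ∀ (M : Matrix κ κ F), M.det ≠ 0 →
      ∀ u, (∀ v, Matrix.toBilin' M u v = 0) → u = 0 := by
    intro M hM u hu
    apply (Matrix.nondegenerate_of_det_ne_zero hM).eq_zero_of_ortho
    intro v
    rw [← Matrix.toBilin'_apply']
    exact hu v
  obtain ⟨θ, hθ⟩ := exists_isometry_of_alt (Matrix.toBilin' P) (Matrix.toBilin' P')
    (halt P hP) (halt P' hP') (hnd P hd) (hnd P' hd')
  have hgm : ∀ v, θ v = (LinearMap.toMatrix' θ.toLinearMap) *ᵥ v := by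
    intro v
    rw [LinearMap.toMatrix'_mulVec]
    rfl
  have hkey : (LinearMap.toMatrix' θ.toLinearMap)ᵀ * P * (LinearMap.toMatrix' θ.toLinearMap) = P' := by
    apply mat_ext_bilin'
    intro u v
    have h1 := hθ u v
    rw [Matrix.toBilin'_apply', Matrix.toBilin'_apply', hgm, hgm, dot_mulVec',
      Matrix.mulVec_mulVec] at h1
    rw [← h1, Matrix.mul_assoc]
  refine ⟨LinearMap.toMatrix' θ.toLinearMap, ?_, hkey⟩
  intro h0
  apply hd'
  rw [← hkey, det_mul, det_mul, h0, mul_zero]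

lemma isSquare_mul_of_iff (hF : ringChar F ≠ 2) {x y : F} (hx : x ≠ 0) (hy : y ≠ 0)
    (h : IsSquare x ↔ IsSquare y) : IsSquare (x * y) := by
  rw [FiniteField.isSquare_iff hF (mul_ne_zero hx hy), mul_pow]
  rw [FiniteField.isSquare_iff hF hx, FiniteField.isSquare_iff hF hy] at h
  rcases FiniteField.pow_dichotomy hF hx with h1 | h1
  · rw [h1, h.1 h1, one_mul]
  · rcases FiniteField.pow_dichotomy hF hy with h3 | h3
    · rw [h.2 h3, h3, one_mul]
    · rw [h1, h3]
      ring

end congr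

end Cfsg.Agent.Lib.Helper15.SpUni
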