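import Mathlib
import Cfsg.Agent.Lib.Helper15.SpUniC

/-!
helper15: the orbits of the centraliser-algebra units on the twisted-symmetric units are
classified by the square classes of the determinants of the diagonal blocks of even size;
every combination occurs.
-/

set_option autoImplicit false

namespace Cfsg.Agent.Lib.Helper15.SpUni

open Matrix Cfsg.Agent.S2581 Cfsg.Agent.Lib.Helper15.GUCent

section inv

variable {F : Type*} [Field F] {t : ℕ} (d : Fin t → ℕ) (hd : ∀ k, 1 ≤ d k)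

lemma sig0_smul (r : F) (c : Matrix ((k : Fin t) × Fin (d k)) ((k : Fin t) × Fin (d k)) F) :
    sig0 d (r • c) = r • sig0 d c := by
  ext x y
  rw [sig0_apply, Matrix.smul_apply, Matrix.smul_apply, sig0_apply, smul_eq_mul, smul_eq_mul]
  ring

include hd in
lemma nval_pos (a : (Fin (Finset.univ.sup d + 1))ᵒᵈ) (hne : Nonempty {k // blab d k = a}) :
    1 ≤ (OrderDual.ofDual a : Fin _).1 := by
  obtain ⟨i⟩ := hne
  have h1 : d i.1 = (OrderDual.ofDual a : Fin _).1 :=
    congrArg (fun b : (Fin (Finset.univ.sup d + 1))ᵒᵈ => (OrderDual.ofDual b : Fin _).1) i.2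
  rw [← h1]
  exact hd i.1

include hd in
lemma IsT.block_symm {c : Matrix ((k : Fin t) × Fin (d k)) ((k : Fin t) × Fin (d k)) F}
    (hc : IsT d c) (a : (Fin (Finset.univ.sup d + 1))ᵒᵈ)
    (heven : Even (OrderDual.ofDual a : Fin _).1) (hne : Nonempty {k // blab d k = a}) :
    (Db d hd c a)ᵀ = Db d hd c a := by
  rw [hc.Db_transpose d hd a]
  have h1 := nval_pos d hd a hne
  have h2 : Odd ((OrderDual.ofDual a : Fin _).1 - 1) := by
    obtain ⟨r, hr⟩ := heven
    exact ⟨r - 1, by omega⟩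
  rw [h2.neg_one_pow, neg_smul, one_smul, neg_neg]

include hd in
lemma IsT.block_alt {c : Matrix ((k : Fin t) × Fin (d k)) ((k : Fin t) × Fin (d k)) F}
    (hc : IsT d c) (a : (Fin (Finset.univ.sup d + 1))ᵒᵈ)
    (hodd : Odd (OrderDual.ofDual a : Fin _).1) :
    (Db d hd c a)ᵀ = -Db d hd c a := by
  rw [hc.Db_transpose d hd a]
  have h2 : Even ((OrderDual.ofDual a : Fin _).1 - 1) := by
    obtain ⟨r, hr⟩ := hodd
    exact ⟨r, by omega⟩
  rw [h2.neg_one_pow, one_smul]

include hd in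
lemma IsT.block_det {c : Matrix ((k : Fin t) × Fin (d k)) ((k : Fin t) × Fin (d k)) F}
    (hc : IsT d c) (a : (Fin (Finset.univ.sup d + 1))ᵒᵈ) : (Db d hd c a).det ≠ 0 :=
  (det_ne_zero_iff d hd c hc.1).1 hc.2.1 a

include hd in
/-- twisted-symmetric units with prescribed diagonal blocks -/
lemma exists_T_of_blocks (h2 : (2 : F) ≠ 0)
    (x : (a : (Fin (Finset.univ.sup d + 1))ᵒᵈ) →
      Matrix {k // blab d k = a} {k // blab d k = a} F)
    (hx : ∀ a, (x a)ᵀ = -(((-1 : F) ^ ((OrderDual.ofDual a : Fin _).1 - 1)) • x a))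
    (hdet : ∀ a, (x a).det ≠ 0) :
    ∃ c : Matrix ((k : Fin t) × Fin (d k)) ((k : Fin t) × Fin (d k)) F,
      IsT d c ∧ ∀ a, Db d hd c a = x a := by
  obtain ⟨c1, hc1, hD1⟩ := exists_lift d hd x
  have hs1 : sig0 d c1 * Nmat d = Nmat d * sig0 d c1 := sig0_comm d c1 hc1
  have hs2 : (sig0 d c1 * Dm d) * Nmat d = Nmat d * (sig0 d c1 * Dm d) :=
    comm_mul d _ _ hs1 (Dm_comm d)
  obtain ⟨c, hcdef⟩ : ∃ c, c = (2 : F)⁻¹ • (c1 - sig0 d c1 * Dm d) := ⟨_, rfl⟩
  have hcA : c * Nmat d = Nmat d * c := by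
    rw [hcdef, Matrix.smul_mul, Matrix.mul_smul, Matrix.sub_mul, Matrix.mul_sub, hc1, hs2]
  have hDc : ∀ a, Db d hd c a = x a := by
    intro a
    rw [hcdef, Db_smul, Db_sub, Db_mul d hd _ _ hs1 (Dm_comm d), Db_sig0 d hd c1 hc1, Db_Dm, hD1 a,
      hx a, Matrix.mul_smul, Matrix.mul_one, smul_neg, smul_smul, ← pow_add, ← two_mul, pow_mul]
    have h3 : ((-1 : F) ^ 2) ^ ((OrderDual.ofDual a : Fin _).1 - 1) = 1 := by
      rw [neg_one_sq, one_pow]
    rw [h3, one_smul, sub_neg_eq_add, ← two_smul F (x a), smul_smul, inv_mul_cancel₀ h2, one_smul]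
  refine ⟨c, ⟨hcA, ?_, ?_⟩, hDc⟩
  · rw [det_ne_zero_iff d hd c hcA]
    intro a
    have h : (Rmat d hd c).toSquareBlock (blab d) a = x a := hDc a
    rw [h]
    exact hdet a
  · have h4 : sig0 d (sig0 d c1 * Dm d) = c1 * Dm d := by
      rw [sig0_mul, sig0_Dm, sig0_sig0, ← Matrix.mul_assoc, ← Matrix.mul_assoc, Dm_mul_self,
        Matrix.one_mul]
    rw [hcdef, sig0_smul, map_sub, h4, Matrix.smul_mul, Matrix.sub_mul, Matrix.mul_assoc,
      Dm_mul_self, Matrix.mul_one, ← smul_neg, neg_sub]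

end inv

section classify

variable {F : Type*} [Field F] [Fintype F] {p : ℕ} [Fact p.Prime] [CharP F p] {t : ℕ}
  (d : Fin t → ℕ) (hd : ∀ k, 1 ≤ d k)

omit [Fintype F] in
lemma two_ne_zero_of_char (hp2 : p ≠ 2) : (2 : F) ≠ 0 := by
  intro h
  have h1 : ((2 : ℕ) : F) = 0 := by exact_mod_cast h
  rw [CharP.cast_eq_zero_iff F p 2] at h1
  have hp : p.Prime := Fact.out
  exact hp2 ((Nat.prime_dvd_prime_iff_eq hp Nat.prime_two).1 h1)

omit [Fintype F] in
lemma isSquare_sq_mul_iff {x y : F} (hx : x ≠ 0) : IsSquare (x ^ 2 * y) ↔ IsSquare y := by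
  constructor
  · rintro ⟨r, hr⟩
    refine ⟨r / x, ?_⟩
    field_simp
    linear_combination hr
  · rintro ⟨r, hr⟩
    exact ⟨x * r, by rw [hr]; ring⟩

include hd in
/-- **orbit criterion** -/
theorem orbit_iff (hp2 : p ≠ 2)
    (c c' : Matrix ((k : Fin t) × Fin (d k)) ((k : Fin t) × Fin (d k)) F)
    (hc : IsT d c) (hc' : IsT d c') :
    (∃ a : Matrix ((k : Fin t) × Fin (d k)) ((k : Fin t) × Fin (d k)) F,
      a * Nmat d = Nmat d * a ∧ a.det ≠ 0 ∧ sig0 d a * c * a = c') ↔
    ∀ a : (Fin (Finset.univ.sup d + 1))ᵒᵈ, Even (OrderDual.ofDual a : Fin _).1 →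
      Nonempty {k // blab d k = a} →
      (IsSquare (Db d hd c a).det ↔ IsSquare (Db d hd c' a).det) := by
  classical
  have h2 : (2 : F) ≠ 0 := two_ne_zero_of_char hp2
  have hF : ringChar F ≠ 2 := by rw [ringChar.eq F p]; exact hp2
  constructor
  · rintro ⟨a, haA, hadet, rfl⟩ b _ _
    rw [Db_act d hd c a hc.1 haA, det_mul, det_mul, det_transpose]
    have h3 : (Db d hd a b).det ≠ 0 := (det_ne_zero_iff d hd a haA).1 hadet b
    have h4 : (Db d hd a b).det * (Db d hd c b).det * (Db d hd a b).det =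
        (Db d hd a b).det ^ 2 * (Db d hd c b).det := by ring
    rw [h4, isSquare_sq_mul_iff h3]
  · intro h
    apply orbit_of_blocks d hd hp2 c c' hc hc'
    intro a
    rcases isEmpty_or_nonempty {k // blab d k = a} with hemp | hne
    · exact ⟨1, by rw [det_one]; exact one_ne_zero, Subsingleton.elim _ _⟩
    rcases Nat.even_or_odd (OrderDual.ofDual a : Fin _).1 with heven | hodd
    · exact congr_symm h2 _ _ (hc.block_symm d hd a heven hne) (hc'.block_symm d hd a heven hne)
        (hc.block_det d hd a) (hc'.block_det d hd a)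
        (isSquare_mul_of_iff hF (hc.block_det d hd a) (hc'.block_det d hd a) (h a heven hne))
    · exact congr_alt h2 _ _ (hc.block_alt d hd a hodd) (hc'.block_alt d hd a hodd)
        (hc.block_det d hd a) (hc'.block_det d hd a)

include hd in
/-- **every combination of square classes occurs** -/
theorem exists_T (hp2 : p ≠ 2)
    (hadm : ∀ a : (Fin (Finset.univ.sup d + 1))ᵒᵈ, Odd (OrderDual.ofDual a : Fin _).1 →
      Even (Fintype.card {k // blab d k = a}))
    (f : (Fin (Finset.univ.sup d + 1))ᵒᵈ → Prop) :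
    ∃ c : Matrix ((k : Fin t) × Fin (d k)) ((k : Fin t) × Fin (d k)) F,
      IsT d c ∧ ∀ a : (Fin (Finset.univ.sup d + 1))ᵒᵈ, Even (OrderDual.ofDual a : Fin _).1 →
        Nonempty {k // blab d k = a} → (IsSquare (Db d hd c a).det ↔ f a) := by
  classical
  have h2 : (2 : F) ≠ 0 := two_ne_zero_of_char hp2
  have hF : ringChar F ≠ 2 := by rw [ringChar.eq F p]; exact hp2
  obtain ⟨η, hη⟩ := FiniteField.exists_nonsquare hF
  have hη0 : η ≠ 0 := by
    rintro rfl
    exact hη ⟨0, by rw [mul_zero]⟩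
  have hblock : ∀ a : (Fin (Finset.univ.sup d + 1))ᵒᵈ,
      ∃ P : Matrix {k // blab d k = a} {k // blab d k = a} F,
        Pᵀ = -(((-1 : F) ^ ((OrderDual.ofDual a : Fin _).1 - 1)) • P) ∧ P.det ≠ 0 ∧
        (Even (OrderDual.ofDual a : Fin _).1 → Nonempty {k // blab d k = a} →
          (IsSquare P.det ↔ f a)) := by
    intro a
    rcases isEmpty_or_nonempty {k // blab d k = a} with hemp | hne
    · refine ⟨1, Subsingleton.elim _ _, by rw [det_one]; exact one_ne_zero, ?_⟩
      intro _ hne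
      exact absurd hne (not_nonempty_iff.2 hemp)
    rcases Nat.even_or_odd (OrderDual.ofDual a : Fin _).1 with heven | hodd
    · obtain ⟨i0⟩ := hne
      have h1 := nval_pos d hd a ⟨i0⟩
      have h3 : Odd ((OrderDual.ofDual a : Fin _).1 - 1) := by
        obtain ⟨r, hr⟩ := heven
        exact ⟨r - 1, by omega⟩
      refine ⟨Matrix.diagonal (fun i => if i = i0 then (if f a then (1 : F) else η) else 1), ?_,
        ?_, ?_⟩
      · rw [Matrix.diagonal_transpose, h3.neg_one_pow, neg_smul, one_smul, neg_neg]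
      · rw [Matrix.det_diagonal, Finset.prod_ite_eq' Finset.univ i0]
        simp only [Finset.mem_univ, if_true]
        split_ifs
        · exact one_ne_zero
        · exact hη0
      · intro _ _
        rw [Matrix.det_diagonal, Finset.prod_ite_eq' Finset.univ i0]
        simp only [Finset.mem_univ, if_true]
        by_cases hfa : f a
        · rw [if_pos hfa]
          exact ⟨fun _ => hfa, fun _ => ⟨1, by rw [mul_one]⟩⟩
        · rw [if_neg hfa]
          exact ⟨fun h => absurd h hη, fun h => absurd h hfa⟩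
    · obtain ⟨k, hk⟩ := hadm a hodd
      have hcard : Fintype.card {k // blab d k = a} = Fintype.card (Fin k ⊕ Fin k) := by
        rw [hk, Fintype.card_sum, Fintype.card_fin]
      let eq := Fintype.equivOfCardEq hcard
      have h3 : Even ((OrderDual.ofDual a : Fin _).1 - 1) := by
        obtain ⟨r, hr⟩ := hodd
        exact ⟨r, by omega⟩
      refine ⟨(Matrix.J (Fin k) F).submatrix eq eq, ?_, ?_, ?_⟩
      · rw [transpose_submatrix, Matrix.J_transpose, h3.neg_one_pow, one_smul]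
        rfl
      · rw [det_submatrix_equiv_self]
        exact (Matrix.isUnit_det_J (Fin k) F).ne_zero
      · intro heven
        exact absurd heven (Nat.not_even_iff_odd.2 hodd)
  choose x hx1 hx2 hx3 using hblock
  obtain ⟨c, hc, hDc⟩ := exists_T_of_blocks d hd h2 x hx1 hx2
  refine ⟨c, hc, ?_⟩
  intro a heven hne
  rw [hDc a]
  exact hx3 a heven hne

end classify

end Cfsg.Agent.Lib.Helper15.SpUni
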