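import Mathlib
import Cfsg.Agent.Lib.Helper15.SpUniD

/-!
helper15: the Cayley unipotent `U0 = (1 + N)(1 - N)⁻¹` of the standard nilpotent `N = Nmat d`,
its centraliser, its invariant alternating forms, and the dictionary between these forms and the
twisted-symmetric units of the centraliser algebra.
-/

set_option autoImplicit false

namespace Cfsg.Agent.Lib.Helper15.SpUni

open Matrix Cfsg.Agent.S2581 Cfsg.Agent.Lib.Helper15.GUCent

section base

variable {F : Type*} [Field F] {t : ℕ} (d : Fin t → ℕ)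

/-- the reference form: reversal with alternating signs -/
def M0 : Matrix ((k : Fin t) × Fin (d k)) ((k : Fin t) × Fin (d k)) F :=
  fun x y => if y = rev d x then sg d y else 0

/-- its inverse -/
def M0i : Matrix ((k : Fin t) × Fin (d k)) ((k : Fin t) × Fin (d k)) F :=
  fun x y => if y = rev d x then sg d x else 0

lemma rev_eq_iff (x y : (k : Fin t) × Fin (d k)) : y = rev d x ↔ x = rev d y := by
  constructor
  · intro h
    rw [h, rev_rev]
  · intro h
    rw [h, rev_rev]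

lemma M0i_mul (B : Matrix ((k : Fin t) × Fin (d k)) ((k : Fin t) × Fin (d k)) F)
    (x y : (k : Fin t) × Fin (d k)) : (M0i (F := F) d * B) x y = sg d x * B (rev d x) y := by
  rw [Matrix.mul_apply, Finset.sum_eq_single (rev d x)]
  · unfold M0i
    rw [if_pos rfl]
  · intro z _ hz
    unfold M0i
    rw [if_neg hz, zero_mul]
  · intro h
    exact absurd (Finset.mem_univ _) h

lemma M0_mul (B : Matrix ((k : Fin t) × Fin (d k)) ((k : Fin t) × Fin (d k)) F)
    (x y : (k : Fin t) × Fin (d k)) : (M0 (F := F) d * B) x y = sg d (rev d x) * B (rev d x) y := by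
  rw [Matrix.mul_apply, Finset.sum_eq_single (rev d x)]
  · unfold M0
    rw [if_pos rfl]
  · intro z _ hz
    unfold M0
    rw [if_neg hz, zero_mul]
  · intro h
    exact absurd (Finset.mem_univ _) h

lemma mul_M0 (B : Matrix ((k : Fin t) × Fin (d k)) ((k : Fin t) × Fin (d k)) F)
    (x y : (k : Fin t) × Fin (d k)) : (B * M0 (F := F) d) x y = B x (rev d y) * sg d y := by
  rw [Matrix.mul_apply, Finset.sum_eq_single (rev d y)]
  · unfold M0
    rw [if_pos (by rw [rev_rev])]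
  · intro z _ hz
    unfold M0
    rw [if_neg, mul_zero]
    intro h
    apply hz
    rw [h, rev_rev]
  · intro h
    exact absurd (Finset.mem_univ _) h

lemma M0i_mul_M0 : M0i (F := F) d * M0 d = 1 := by
  ext x y
  rw [M0i_mul]
  unfold M0
  by_cases h : x = y
  · subst h
    rw [if_pos (by rw [rev_rev]), sg_mul_self, Matrix.one_apply_eq]
  · rw [if_neg, mul_zero, Matrix.one_apply_ne h]
    intro h1
    apply h
    rw [h1, rev_rev]

lemma M0_mul_M0i : M0 (F := F) d * M0i d = 1 := by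
  ext x y
  rw [M0_mul]
  unfold M0i
  by_cases h : x = y
  · subst h
    rw [if_pos (by rw [rev_rev]), sg_mul_self, Matrix.one_apply_eq]
  · rw [if_neg, mul_zero, Matrix.one_apply_ne h]
    intro h1
    apply h
    rw [h1, rev_rev]

lemma sig0_eq (c : Matrix ((k : Fin t) × Fin (d k)) ((k : Fin t) × Fin (d k)) F) :
    sig0 d c = M0i d * cᵀ * M0 d := by
  ext x y
  rw [Matrix.mul_assoc, M0i_mul, mul_M0, transpose_apply, sig0_apply]
  ring

lemma M0_transpose : (M0 (F := F) d)ᵀ = M0 d * Dm d := by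
  ext x y
  rw [transpose_apply]
  unfold Dm
  rw [Matrix.mul_diagonal]
  unfold M0
  by_cases h : y = rev d x
  · rw [if_pos h, if_pos ((rev_eq_iff d x y).1 h), ← sg_rev d y, ← (rev_eq_iff d x y).1 h]
    have := sg_mul_self (F := F) d y
    linear_combination (-(sg d x)) * this
  · rw [if_neg h, if_neg (fun h1 => h ((rev_eq_iff d x y).2 h1)), zero_mul]

lemma M0i_transpose_mul : (M0i (F := F) d)ᵀ * M0 d = Dm d := by
  have h1 : (M0i (F := F) d)ᵀ * (M0 d)ᵀ = 1 := by
    rw [← transpose_mul, M0_mul_M0i, transpose_one]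
  rw [M0_transpose, ← Matrix.mul_assoc] at h1
  calc (M0i (F := F) d)ᵀ * M0 d = (M0i d)ᵀ * M0 d * (Dm d * Dm d) := by
        rw [Dm_mul_self, Matrix.mul_one]
    _ = Dm d := by rw [← Matrix.mul_assoc, h1, Matrix.one_mul]

lemma Nmat_transpose_M0 : (Nmat (F := F) d)ᵀ * M0 d = -(M0 d * Nmat d) := by
  ext x y
  rw [mul_M0, neg_apply, M0_mul, transpose_apply]
  have h1 : Nmat (F := F) d (rev d y) x = Nmat d (rev d x) y := by
    have := Nmat_rev (K := F) d (rev d x) y
    rw [rev_rev] at this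
    exact this
  rw [h1, Nmat_apply]
  split_ifs with h
  · have h2 : sg (F := F) d (rev d x) = - sg d y := by
      unfold sg
      rw [h.2, pow_succ]
      ring
    rw [h2]
    ring
  · rw [zero_mul, mul_zero, neg_zero]

lemma Nmat_M0i : Nmat (F := F) d * M0i d = -(M0i d * (Nmat d)ᵀ) := by
  have h : M0i (F := F) d * ((Nmat d)ᵀ * M0 d) * M0i d =
      M0i d * (-(M0 d * Nmat d)) * M0i d := by rw [Nmat_transpose_M0]
  have hl : M0i (F := F) d * ((Nmat d)ᵀ * M0 d) * M0i d = M0i d * (Nmat d)ᵀ := by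
    rw [Matrix.mul_assoc, Matrix.mul_assoc, M0_mul_M0i, Matrix.mul_one]
  have hr : M0i (F := F) d * (-(M0 d * Nmat d)) * M0i d = -(Nmat d * M0i d) := by
    rw [Matrix.mul_neg, Matrix.neg_mul, ← Matrix.mul_assoc, M0i_mul_M0, Matrix.one_mul]
  rw [hl, hr] at h
  rw [h, neg_neg]

lemma det_M0i_ne_zero : (M0i (F := F) d).det ≠ 0 := by
  have h := congrArg Matrix.det (M0i_mul_M0 (F := F) d)
  rw [det_mul, det_one] at h
  intro h0
  rw [h0, zero_mul] at h
  exact zero_ne_one h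

lemma det_M0_ne_zero : (M0 (F := F) d).det ≠ 0 := by
  have h := congrArg Matrix.det (M0i_mul_M0 (F := F) d)
  rw [det_mul, det_one] at h
  intro h0
  rw [h0, mul_zero] at h
  exact zero_ne_one h

/-- an invariant alternating form gives a twisted-symmetric unit -/
lemma isT_of_form (B : Matrix ((k : Fin t) × Fin (d k)) ((k : Fin t) × Fin (d k)) F)
    (hB : Bᵀ = -B) (hdet : B.det ≠ 0) (hN : (Nmat d)ᵀ * B = -(B * Nmat d)) :
    IsT d (M0i d * B) := by
  refine ⟨?_, ?_, ?_⟩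
  · rw [Matrix.mul_assoc, ← neg_neg (B * Nmat d), ← hN, Matrix.mul_neg, ← Matrix.mul_assoc,
      ← Matrix.neg_mul, ← Nmat_M0i, Matrix.mul_assoc]
  · rw [det_mul]
    exact mul_ne_zero (det_M0i_ne_zero d) hdet
  · rw [sig0_eq, transpose_mul, hB, Matrix.mul_assoc, Matrix.mul_assoc, M0i_transpose_mul,
      Matrix.neg_mul, Matrix.mul_neg, Matrix.mul_assoc]

/-- a twisted-symmetric unit gives an invariant alternating form -/
lemma form_of_isT (c : Matrix ((k : Fin t) × Fin (d k)) ((k : Fin t) × Fin (d k)) F)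
    (hc : IsT d c) :
    (M0 d * c)ᵀ = -(M0 d * c) ∧ (M0 d * c).det ≠ 0 ∧
      (Nmat d)ᵀ * (M0 d * c) = -((M0 d * c) * Nmat d) := by
  refine ⟨?_, ?_, ?_⟩
  · have h1 := hc.2.2
    rw [sig0_eq] at h1
    have h2 : cᵀ * M0 d = -(M0 d * c * Dm d) := by
      have : M0 (F := F) d * (M0i d * cᵀ * M0 d) = M0 d * (-(c * Dm d)) := by rw [h1]
      rw [← Matrix.mul_assoc, ← Matrix.mul_assoc, M0_mul_M0i, Matrix.one_mul, Matrix.mul_neg,
        ← Matrix.mul_assoc] at this
      exact this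
    have h3 : cᵀ * (M0 d * Dm d) = -(M0 d * c) := by
      rw [← Matrix.mul_assoc, h2, Matrix.neg_mul, Matrix.mul_assoc, Dm_mul_self, Matrix.mul_one]
    rw [transpose_mul, M0_transpose, h3]
  · rw [det_mul]
    exact mul_ne_zero (det_M0_ne_zero d) hc.2.1
  · rw [← Matrix.mul_assoc, Nmat_transpose_M0, Matrix.neg_mul, Matrix.mul_assoc, ← hc.1,
      ← Matrix.mul_assoc]

lemma act_form (B a : Matrix ((k : Fin t) × Fin (d k)) ((k : Fin t) × Fin (d k)) F) :
    M0i d * (aᵀ * B * a) = sig0 d a * (M0i d * B) * a := by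
  rw [sig0_eq]
  calc M0i d * (aᵀ * B * a) = M0i d * aᵀ * (1 : Matrix _ _ F) * B * a := by
        rw [Matrix.mul_one]
        simp only [Matrix.mul_assoc]
    _ = M0i d * aᵀ * M0 d * (M0i d * B) * a := by
        rw [← M0_mul_M0i (F := F) d]
        simp only [Matrix.mul_assoc]

end base

section cayley

variable {F : Type*} [Field F] {t : ℕ} (d : Fin t → ℕ)

/-- the Cayley unipotent -/
noncomputable def U0 : Matrix ((k : Fin t) × Fin (d k)) ((k : Fin t) × Fin (d k)) F :=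
  (1 + Nmat d) * (1 - Nmat d)⁻¹

lemma isUnit_det_one_sub : IsUnit (1 - Nmat (F := F) d).det := by
  rw [← Matrix.isUnit_iff_isUnit_det]
  exact (Nmat_nilpotent d).isUnit_one_sub

lemma inv_mul_one_sub : (1 - Nmat (F := F) d)⁻¹ * (1 - Nmat d) = 1 :=
  Matrix.nonsing_inv_mul _ (isUnit_det_one_sub d)

lemma one_sub_mul_inv : (1 - Nmat (F := F) d) * (1 - Nmat d)⁻¹ = 1 :=
  Matrix.mul_nonsing_inv _ (isUnit_det_one_sub d)

/-- anything commuting with `N` commutes with `(1 - N)⁻¹` -/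
lemma comm_Pinv (g : Matrix ((k : Fin t) × Fin (d k)) ((k : Fin t) × Fin (d k)) F)
    (hg : g * Nmat d = Nmat d * g) : g * (1 - Nmat d)⁻¹ = (1 - Nmat d)⁻¹ * g := by
  have h1 : g * (1 - Nmat d) = (1 - Nmat d) * g := by
    rw [Matrix.mul_sub, Matrix.sub_mul, hg, Matrix.mul_one, Matrix.one_mul]
  calc g * (1 - Nmat d)⁻¹ = (1 - Nmat d)⁻¹ * ((1 - Nmat d) * g) * (1 - Nmat d)⁻¹ := by
        rw [← Matrix.mul_assoc, inv_mul_one_sub, Matrix.one_mul]
    _ = (1 - Nmat d)⁻¹ * g := by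
        rw [← h1, Matrix.mul_assoc, Matrix.mul_assoc, one_sub_mul_inv, Matrix.mul_one]

lemma U0_add_one : U0 (F := F) d + 1 = (2 : F) • (1 - Nmat d)⁻¹ := by
  unfold U0
  nth_rewrite 3 [← one_sub_mul_inv (F := F) d]
  rw [← Matrix.add_mul, two_smul, ← Matrix.one_mul ((1 - Nmat (F := F) d)⁻¹ + (1 - Nmat d)⁻¹),
    Matrix.mul_add, ← Matrix.add_mul]
  congr 1
  abel

lemma U0_sub_one : U0 (F := F) d - 1 = Nmat d * ((2 : F) • (1 - Nmat d)⁻¹) := by
  unfold U0
  nth_rewrite 3 [← one_sub_mul_inv (F := F) d]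
  rw [← Matrix.sub_mul, Matrix.mul_smul, ← Matrix.smul_mul]
  congr 1
  rw [two_smul]
  abel

lemma U0_mul_one_sub : U0 (F := F) d * (1 - Nmat d) = 1 + Nmat d := by
  unfold U0
  rw [Matrix.mul_assoc, inv_mul_one_sub, Matrix.mul_one]

lemma U0_comm_iff (h2 : (2 : F) ≠ 0)
    (g : Matrix ((k : Fin t) × Fin (d k)) ((k : Fin t) × Fin (d k)) F) :
    g * U0 d = U0 d * g ↔ g * Nmat d = Nmat d * g := by
  constructor
  · intro h
    have h1 : g * ((2 : F) • (1 - Nmat d)⁻¹) = ((2 : F) • (1 - Nmat d)⁻¹) * g := by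
      rw [← U0_add_one, Matrix.mul_add, Matrix.add_mul, h, Matrix.mul_one, Matrix.one_mul]
    rw [Matrix.mul_smul, Matrix.smul_mul] at h1
    have h3 : g * (1 - Nmat d)⁻¹ = (1 - Nmat d)⁻¹ * g := by
      have h4 := congrArg (fun M => (2 : F)⁻¹ • M) h1
      simp only [smul_smul, inv_mul_cancel₀ h2, one_smul] at h4
      exact h4
    have h5 : (1 - Nmat d) * g = g * (1 - Nmat d) := by
      calc (1 - Nmat d) * g = (1 - Nmat d) * (g * (1 - Nmat d)⁻¹) * (1 - Nmat d) := by
            rw [Matrix.mul_assoc, Matrix.mul_assoc, inv_mul_one_sub, Matrix.mul_one]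
        _ = g * (1 - Nmat d) := by
            rw [h3, ← Matrix.mul_assoc, one_sub_mul_inv, Matrix.one_mul]
    rw [Matrix.sub_mul, Matrix.mul_sub, Matrix.one_mul, Matrix.mul_one, sub_right_inj] at h5
    exact h5.symm
  · intro h
    unfold U0
    have h1 : g * (1 + Nmat d) = (1 + Nmat d) * g := by
      rw [Matrix.mul_add, Matrix.add_mul, h, Matrix.mul_one, Matrix.one_mul]
    rw [← Matrix.mul_assoc, h1, Matrix.mul_assoc, comm_Pinv d g h, Matrix.mul_assoc]

lemma U0_form_iff (h2 : (2 : F) ≠ 0)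
    (B : Matrix ((k : Fin t) × Fin (d k)) ((k : Fin t) × Fin (d k)) F) :
    (U0 d)ᵀ * B * U0 d = B ↔ (Nmat d)ᵀ * B = -(B * Nmat d) := by
  have hkey : (1 + Nmat d)ᵀ * B * (1 + Nmat d) - (1 - Nmat d)ᵀ * B * (1 - Nmat d) =
      (2 : F) • ((Nmat d)ᵀ * B + B * Nmat d) := by
    rw [transpose_add, transpose_sub, transpose_one, two_smul]
    noncomm_ring
  have hmid : (U0 d)ᵀ * B * U0 d = B ↔
      (1 + Nmat d)ᵀ * B * (1 + Nmat d) = (1 - Nmat d)ᵀ * B * (1 - Nmat d) := by
    constructor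
    · intro h
      rw [← U0_mul_one_sub, transpose_mul]
      calc (1 - Nmat d)ᵀ * (U0 d)ᵀ * B * (U0 d * (1 - Nmat d))
          = (1 - Nmat d)ᵀ * ((U0 d)ᵀ * B * U0 d) * (1 - Nmat d) := by
            simp only [Matrix.mul_assoc]
        _ = (1 - Nmat d)ᵀ * B * (1 - Nmat d) := by rw [h]
    · intro h
      have h3 : (U0 (F := F) d)ᵀ = ((1 - Nmat d)⁻¹)ᵀ * (1 + Nmat d)ᵀ := by
        unfold U0
        rw [transpose_mul]
      have h4 : ((1 - Nmat (F := F) d)⁻¹)ᵀ * (1 - Nmat d)ᵀ = 1 := by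
        rw [← transpose_mul, one_sub_mul_inv, transpose_one]
      calc (U0 d)ᵀ * B * U0 d
          = ((1 - Nmat d)⁻¹)ᵀ * ((1 + Nmat d)ᵀ * B * (1 + Nmat d)) * (1 - Nmat d)⁻¹ := by
            rw [h3]
            unfold U0
            simp only [Matrix.mul_assoc]
        _ = (((1 - Nmat d)⁻¹)ᵀ * (1 - Nmat d)ᵀ) * B * ((1 - Nmat d) * (1 - Nmat d)⁻¹) := by
            rw [h]
            simp only [Matrix.mul_assoc]
        _ = B := by rw [h4, one_sub_mul_inv, Matrix.one_mul, Matrix.mul_one]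
  rw [hmid, ← sub_eq_zero, hkey, smul_eq_zero, or_iff_right h2, add_eq_zero_iff_eq_neg]

end cayley

end Cfsg.Agent.Lib.Helper15.SpUni
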