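import Mathlib
import Cfsg.Agent.Lib.Helper15.SpUniE

/-!
helper15: the Jordan type of the Cayley unipotent, and the dictionary between conjugacy under the
isometry group of an alternating form `JI` and orbits of centraliser units on invariant forms.
-/

set_option autoImplicit false

namespace Cfsg.Agent.Lib.Helper15.SpUni

open Matrix Cfsg.Agent.S2581 Cfsg.Agent.Lib.Helper15.GUCent
  Cfsg.Agent.Lib.Helper15.NilpotentConj Cfsg.Agent.Lib.Helper15.UniJordan

universe u

section cancel

variable {F : Type*} [Field F] {ι : Type*} [Fintype ι] [DecidableEq ι]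

lemma mat_cancel_left {h x y : Matrix ι ι F} (hdet : h.det ≠ 0) (H : h * x = h * y) : x = y := by
  have hu : IsUnit h.det := isUnit_iff_ne_zero.2 hdet
  calc x = h⁻¹ * (h * x) := by rw [Matrix.nonsing_inv_mul_cancel_left _ _ hu]
    _ = y := by rw [H, Matrix.nonsing_inv_mul_cancel_left _ _ hu]

lemma mat_cancel_right {h x y : Matrix ι ι F} (hdet : h.det ≠ 0) (H : x * h = y * h) : x = y := by
  have hu : IsUnit h.det := isUnit_iff_ne_zero.2 hdet
  calc x = (x * h) * h⁻¹ := by rw [Matrix.mul_nonsing_inv_cancel_right _ _ hu]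
    _ = y := by rw [H, Matrix.mul_nonsing_inv_cancel_right _ _ hu]

end cancel

section type

variable {F : Type u} [Field F] [Fintype F] {t : ℕ} (d : Fin t → ℕ)

lemma kap_U0 (h2 : (2 : F) ≠ 0) (s : ℕ) :
    kap (Matrix.toLin' (U0 (F := F) d) - 1) s = kapm (typeOf d) s := by
  have h1 : Matrix.toLin' (U0 (F := F) d) - 1 = Matrix.toLin' (U0 d - 1) := by
    rw [map_sub, Matrix.toLin'_one, Module.End.one_eq_id]
  have hcomm : Commute (Nmat (F := F) d) ((2 : F) • (1 - Nmat d)⁻¹) := by
    have := comm_Pinv (F := F) d (Nmat d) rfl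
    show Nmat d * ((2 : F) • (1 - Nmat d)⁻¹) = ((2 : F) • (1 - Nmat d)⁻¹) * Nmat d
    rw [Matrix.mul_smul, Matrix.smul_mul, this]
  have hunit : IsUnit ((2 : F) • (1 - Nmat (F := F) d)⁻¹) := by
    rw [Matrix.isUnit_iff_isUnit_det, Matrix.det_smul]
    exact ((isUnit_iff_ne_zero.2 h2).pow _).mul
      (Matrix.isUnit_nonsing_inv_det_iff.2 (isUnit_det_one_sub d))
  rw [h1, U0_sub_one, kap_mul_unit _ _ hcomm hunit, kap_Nmat, kapm_typeOf]

lemma nilpotent_U0 (h2 : (2 : F) ≠ 0) : IsNilpotent (Matrix.toLin' (U0 (F := F) d) - 1) := by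
  apply nilpotent_of_kap _ (typeOf d) (kap_U0 d h2)
  rw [Module.finrank_fintype_fun_eq_card, Fintype.card_sigma, sum_typeOf]
  simp

end type

section dict

variable {F : Type*} [Field F] {t : ℕ} (d : Fin t → ℕ)

/-- the twisted-symmetric unit attached to a conjugating matrix -/
def cOf (JI g : Matrix ((k : Fin t) × Fin (d k)) ((k : Fin t) × Fin (d k)) F) :
    Matrix ((k : Fin t) × Fin (d k)) ((k : Fin t) × Fin (d k)) F :=
  M0i d * (gᵀ * JI * g)

lemma isT_cOf (h2 : (2 : F) ≠ 0)
    (JI g uI : Matrix ((k : Fin t) × Fin (d k)) ((k : Fin t) × Fin (d k)) F)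
    (hJ : JIᵀ = -JI) (hJdet : JI.det ≠ 0) (hu : uIᵀ * JI * uI = JI)
    (hgdet : g.det ≠ 0) (hg : g * U0 d = uI * g) : IsT d (cOf d JI g) := by
  apply isT_of_form
  · rw [transpose_mul, transpose_mul, transpose_transpose, hJ, Matrix.neg_mul, Matrix.mul_neg,
      Matrix.mul_assoc]
  · rw [det_mul, det_mul, det_transpose]
    exact mul_ne_zero (mul_ne_zero hgdet hJdet) hgdet
  · rw [← U0_form_iff d h2]
    calc (U0 d)ᵀ * (gᵀ * JI * g) * U0 d = (g * U0 d)ᵀ * JI * (g * U0 d) := by
          rw [transpose_mul]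
          simp only [Matrix.mul_assoc]
      _ = gᵀ * (uIᵀ * JI * uI) * g := by
          rw [hg, transpose_mul]
          simp only [Matrix.mul_assoc]
      _ = gᵀ * JI * g := by rw [hu]

/-- conjugacy under the isometry group of `JI` in terms of the attached forms -/
lemma conj_iff_forms (h2 : (2 : F) ≠ 0)
    (JI g g' uI uI' : Matrix ((k : Fin t) × Fin (d k)) ((k : Fin t) × Fin (d k)) F)
    (hJdet : JI.det ≠ 0)
    (hgdet : g.det ≠ 0) (hg : g * U0 d = uI * g)
    (hgdet' : g'.det ≠ 0) (hg' : g' * U0 d = uI' * g') :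
    (∃ sI : Matrix ((k : Fin t) × Fin (d k)) ((k : Fin t) × Fin (d k)) F,
      sIᵀ * JI * sI = JI ∧ sI * uI = uI' * sI) ↔
    ∃ a : Matrix ((k : Fin t) × Fin (d k)) ((k : Fin t) × Fin (d k)) F,
      a * Nmat d = Nmat d * a ∧ a.det ≠ 0 ∧ sig0 d a * cOf d JI g * a = cOf d JI g' := by
  constructor
  · rintro ⟨sI, hs1, hs2⟩
    have hsdet : sI.det ≠ 0 := by
      intro h0
      apply hJdet
      rw [← hs1, det_mul, det_mul, h0, mul_zero]
    have hhdet : (sI * g).det ≠ 0 := by
      rw [det_mul]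
      exact mul_ne_zero hsdet hgdet
    have hhu : IsUnit (sI * g).det := isUnit_iff_ne_zero.2 hhdet
    obtain ⟨a, ha⟩ : ∃ a, a = (sI * g)⁻¹ * g' := ⟨_, rfl⟩
    have hha : sI * g * a = g' := by
      rw [ha, Matrix.mul_nonsing_inv_cancel_left _ _ hhu]
    have hadet : a.det ≠ 0 := by
      intro h0
      apply hgdet'
      rw [← hha, det_mul, h0, mul_zero]
    have haU : a * U0 d = U0 d * a := by
      apply mat_cancel_left hhdet
      calc sI * g * (a * U0 d) = g' * U0 d := by rw [← Matrix.mul_assoc, hha]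
        _ = uI' * (sI * g * a) := by rw [hg', hha]
        _ = sI * (uI * g) * a := by
            rw [← Matrix.mul_assoc, ← Matrix.mul_assoc, ← hs2]
            simp only [Matrix.mul_assoc]
        _ = sI * g * (U0 d * a) := by
            rw [← hg]
            simp only [Matrix.mul_assoc]
    refine ⟨a, (U0_comm_iff d h2 a).1 haU, hadet, ?_⟩
    unfold cOf
    rw [← act_form]
    congr 1
    rw [← hha, transpose_mul, transpose_mul]
    calc aᵀ * (gᵀ * JI * g) * a = aᵀ * (gᵀ * (sIᵀ * JI * sI) * g) * a := by rw [hs1]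
      _ = aᵀ * (gᵀ * sIᵀ) * JI * (sI * g * a) := by simp only [Matrix.mul_assoc]
  · rintro ⟨a, haN, hadet, hact⟩
    have haU : a * U0 d = U0 d * a := (U0_comm_iff d h2 a).2 haN
    unfold cOf at hact
    rw [← act_form] at hact
    have hform : aᵀ * (gᵀ * JI * g) * a = g'ᵀ * JI * g' :=
      mat_cancel_left (det_M0i_ne_zero d) hact
    have hkdet : (g * a).det ≠ 0 := by
      rw [det_mul]
      exact mul_ne_zero hgdet hadet
    have hku : IsUnit (g * a).det := isUnit_iff_ne_zero.2 hkdet
    obtain ⟨sI, hsI⟩ : ∃ sI, sI = g' * (g * a)⁻¹ := ⟨_, rfl⟩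
    have hsk : sI * (g * a) = g' := by
      rw [hsI, Matrix.nonsing_inv_mul_cancel_right _ _ hku]
    refine ⟨sI, ?_, ?_⟩
    · apply mat_cancel_right hkdet
      have hkt : ((g * a)ᵀ).det ≠ 0 := by rw [det_transpose]; exact hkdet
      apply mat_cancel_left hkt
      calc (g * a)ᵀ * (sIᵀ * JI * sI * (g * a)) = (sI * (g * a))ᵀ * JI * (sI * (g * a)) := by
            rw [transpose_mul sI]
            simp only [Matrix.mul_assoc]
        _ = g'ᵀ * JI * g' := by rw [hsk]
        _ = (g * a)ᵀ * (JI * (g * a)) := by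
            rw [← hform, transpose_mul]
            simp only [Matrix.mul_assoc]
    · apply mat_cancel_right hkdet
      calc sI * uI * (g * a) = sI * (uI * g) * a := by simp only [Matrix.mul_assoc]
        _ = sI * (g * (U0 d * a)) := by
            rw [← hg]
            simp only [Matrix.mul_assoc]
        _ = sI * (g * a) * U0 d := by
            rw [← haU]
            simp only [Matrix.mul_assoc]
        _ = uI' * g' := by rw [hsk, hg']
        _ = uI' * sI * (g * a) := by rw [Matrix.mul_assoc, hsk]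

end dict

end Cfsg.Agent.Lib.Helper15.SpUni
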