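import Mathlib
import Cfsg.Agent.Lib.Helper15.SpUniF

/-!
helper15: the number of conjugacy classes of `Sp_2m(q)`, `q` odd, consisting of unipotent elements
of a given Jordan type.
-/

set_option autoImplicit false

namespace Cfsg.Agent.Lib.Helper15.SpUni

open Matrix Cfsg.Agent.S2581 Cfsg.Agent.Lib.Helper15.GUCent
  Cfsg.Agent.Lib.Helper15.NilpotentConj Cfsg.Agent.Lib.Helper15.UniJordan

universe u

section general

lemma card_classes_of_invariant {G : Type*} [Group G] (Y : G → Prop) {Z : Type*}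
    (f : {g // Y g} → Z) (hf : ∀ y y' : {g // Y g}, f y = f y' ↔ IsConj y.1 y'.1)
    (hsurj : Function.Surjective f) :
    Nat.card {C : ConjClasses G // ∃ g, ConjClasses.mk g = C ∧ Y g} = Nat.card Z := by
  symm
  apply Nat.card_congr
  refine Equiv.ofBijective (fun z => ⟨ConjClasses.mk (Classical.choose (hsurj z)).1,
    (Classical.choose (hsurj z)).1, rfl, (Classical.choose (hsurj z)).2⟩) ⟨?_, ?_⟩
  · intro z z' h
    have h1 : ConjClasses.mk (Classical.choose (hsurj z)).1 =
        ConjClasses.mk (Classical.choose (hsurj z')).1 := congrArg Subtype.val h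
    rw [ConjClasses.mk_eq_mk_iff_isConj] at h1
    have h2 := (hf _ _).2 h1
    rw [Classical.choose_spec (hsurj z), Classical.choose_spec (hsurj z')] at h2
    exact h2
  · rintro ⟨C, g, rfl, hg⟩
    refine ⟨f ⟨g, hg⟩, Subtype.ext ?_⟩
    show ConjClasses.mk _ = ConjClasses.mk g
    rw [ConjClasses.mk_eq_mk_iff_isConj]
    exact (hf _ ⟨g, hg⟩).1 (Classical.choose_spec (hsurj (f ⟨g, hg⟩)))

variable {F : Type u} [Field F]

lemma kap_submatrix {ι κ : Type} [Fintype ι] [DecidableEq ι] [Fintype κ] [DecidableEq κ]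
    (e : ι ≃ κ) (M : Matrix κ κ F) (s : ℕ) :
    kap (Matrix.toLin' (M.submatrix e e) - 1) s = kap (Matrix.toLin' M - 1) s := by
  apply kap_conj
  refine ⟨LinearEquiv.funCongrLeft F F e.symm, fun v => ?_⟩
  funext i
  rw [LinearMap.sub_apply]
  show ((M.submatrix e e) *ᵥ v - v) (e.symm i) = (M *ᵥ (v ∘ e.symm)) i - (v ∘ e.symm) i
  rw [Pi.sub_apply, Matrix.submatrix_mulVec_equiv]
  simp

end general

section sp

variable {F : Type u} [Field F] [Fintype F] {m t : ℕ} (d : Fin t → ℕ)
  (e : ((k : Fin t) × Fin (d k)) ≃ (Fin m ⊕ Fin m))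

/-- the standard alternating form on the index type of the model -/
def JI : Matrix ((k : Fin t) × Fin (d k)) ((k : Fin t) × Fin (d k)) F :=
  (Matrix.J (Fin m) F).submatrix e e

omit [Fintype F] in
lemma JI_transpose : (JI (F := F) d e)ᵀ = -JI d e := by
  unfold JI
  rw [transpose_submatrix, Matrix.J_transpose]
  rfl

omit [Fintype F] in
lemma JI_det : (JI (F := F) d e).det ≠ 0 := by
  unfold JI
  rw [det_submatrix_equiv_self]
  exact (Matrix.isUnit_det_J (Fin m) F).ne_zero

omit [Fintype F] in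
lemma uI_form (u : ↥(Matrix.symplecticGroup (Fin m) F)) :
    (u.1.submatrix e e)ᵀ * JI d e * (u.1.submatrix e e) = JI d e := by
  have h := (SymplecticGroup.mem_iff').1 u.2
  unfold JI
  rw [transpose_submatrix, submatrix_mul_equiv, submatrix_mul_equiv, h]

omit [Fintype F] in
lemma J_eq_JI_submatrix : Matrix.J (Fin m) F = (JI (F := F) d e).submatrix e.symm e.symm := by
  unfold JI
  rw [submatrix_submatrix, Equiv.self_comp_symm, submatrix_id_id]

omit [Fintype F] in
lemma mem_sp_of_form (X : Matrix ((k : Fin t) × Fin (d k)) ((k : Fin t) × Fin (d k)) F)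
    (h : Xᵀ * JI d e * X = JI d e) :
    X.submatrix e.symm e.symm ∈ Matrix.symplecticGroup (Fin m) F := by
  rw [SymplecticGroup.mem_iff']
  calc (X.submatrix e.symm e.symm)ᵀ * Matrix.J (Fin m) F * X.submatrix e.symm e.symm
      = Xᵀ.submatrix e.symm e.symm * (JI d e).submatrix e.symm e.symm *
          X.submatrix e.symm e.symm := by rw [transpose_submatrix, ← J_eq_JI_submatrix]
    _ = (Xᵀ * JI d e * X).submatrix e.symm e.symm := by
        rw [submatrix_mul_equiv, submatrix_mul_equiv]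
    _ = (JI d e).submatrix e.symm e.symm := by rw [h]
    _ = Matrix.J (Fin m) F := (J_eq_JI_submatrix d e).symm

omit [Fintype F] in
lemma isConj_iff_I (u u' : ↥(Matrix.symplecticGroup (Fin m) F)) :
    IsConj u u' ↔ ∃ sI : Matrix ((k : Fin t) × Fin (d k)) ((k : Fin t) × Fin (d k)) F,
      sIᵀ * JI d e * sI = JI d e ∧ sI * u.1.submatrix e e = u'.1.submatrix e e * sI := by
  constructor
  · intro h
    obtain ⟨s, hs⟩ := isConj_iff.1 h
    refine ⟨s.1.submatrix e e, uI_form d e s, ?_⟩
    have h1 : s * u = u' * s := by rw [← hs]; group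
    have h2 : s.1 * u.1 = u'.1 * s.1 := congrArg Subtype.val h1
    rw [submatrix_mul_equiv, submatrix_mul_equiv, h2]
  · rintro ⟨sI, hs1, hs2⟩
    have hmem : sI.submatrix e.symm e.symm ∈ Matrix.symplecticGroup (Fin m) F :=
      mem_sp_of_form d e sI hs1
    have h3 : (⟨sI.submatrix e.symm e.symm, hmem⟩ : ↥(Matrix.symplecticGroup (Fin m) F)) * u =
        u' * ⟨sI.submatrix e.symm e.symm, hmem⟩ := by
      apply Subtype.ext
      show sI.submatrix e.symm e.symm * u.1 = u'.1 * sI.submatrix e.symm e.symm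
      have h : (sI * u.1.submatrix e e).submatrix e.symm e.symm =
          (u'.1.submatrix e e * sI).submatrix e.symm e.symm := by rw [hs2]
      rw [← submatrix_mul_equiv _ _ e.symm e.symm e.symm,
        ← submatrix_mul_equiv _ _ e.symm e.symm e.symm, submatrix_submatrix,
        submatrix_submatrix, Equiv.self_comp_symm, submatrix_id_id] at h
      exact h
    rw [isConj_iff]
    exact ⟨⟨sI.submatrix e.symm e.symm, hmem⟩, by rw [h3, mul_inv_cancel_right]⟩

/-- a symplectic unipotent of type `d` is conjugate to the Cayley unipotent -/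
lemma exists_conj_of_type (h2 : (2 : F) ≠ 0) (u : ↥(Matrix.symplecticGroup (Fin m) F))
    (hk : ∀ s, kap (Matrix.toLin' u.1 - 1) s = kapm (typeOf d) s) :
    ∃ g : Matrix ((k : Fin t) × Fin (d k)) ((k : Fin t) × Fin (d k)) F,
      g.det ≠ 0 ∧ g * U0 d = u.1.submatrix e e * g := by
  have hk' : ∀ s, kap (Matrix.toLin' (u.1.submatrix e e) - 1) s = kapm (typeOf d) s := by
    intro s
    rw [kap_submatrix, hk]
  have hnil : IsNilpotent (Matrix.toLin' (u.1.submatrix e e) - 1) := by
    apply nilpotent_of_kap _ (typeOf d) hk'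
    rw [Module.finrank_fintype_fun_eq_card, Fintype.card_sigma, sum_typeOf]
    simp
  have hc := isConj_of_kap (U0 (F := F) d) (u.1.submatrix e e) (nilpotent_U0 d h2) hnil
    (fun s => by rw [kap_U0 d h2, hk'])
  obtain ⟨c, hc⟩ := hc
  exact ⟨c.1, (Matrix.isUnits_det_units c).ne_zero, hc⟩

/-- a symplectic unipotent with prescribed twisted-symmetric unit -/
lemma exists_sp_of_T (h2 : (2 : F) ≠ 0)
    (c : Matrix ((k : Fin t) × Fin (d k)) ((k : Fin t) × Fin (d k)) F) (hc : IsT d c) :
    ∃ (u : ↥(Matrix.symplecticGroup (Fin m) F))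
      (g : Matrix ((k : Fin t) × Fin (d k)) ((k : Fin t) × Fin (d k)) F),
      g.det ≠ 0 ∧ g * U0 d = u.1.submatrix e e * g ∧ cOf d (JI d e) g = c ∧
      ∀ s, kap (Matrix.toLin' u.1 - 1) s = kapm (typeOf d) s := by
  classical
  obtain ⟨hB1, hB2, hB3⟩ := form_of_isT d c hc
  obtain ⟨g, hgdet, hg⟩ := congr_alt h2 (JI (F := F) d e) (M0 d * c) (JI_transpose d e) hB1
    (JI_det d e) hB2
  have hgu : IsUnit g.det := isUnit_iff_ne_zero.2 hgdet
  obtain ⟨uI, huI⟩ : ∃ uI, uI = g * U0 d * g⁻¹ := ⟨_, rfl⟩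
  have hgU : g * U0 d = uI * g := by
    rw [huI, Matrix.nonsing_inv_mul_cancel_right _ _ hgu]
  have hform : uIᵀ * JI d e * uI = JI d e := by
    apply mat_cancel_right hgdet
    have hgt : (gᵀ).det ≠ 0 := by rw [det_transpose]; exact hgdet
    apply mat_cancel_left hgt
    calc gᵀ * (uIᵀ * JI d e * uI * g) = (uI * g)ᵀ * JI d e * (uI * g) := by
          rw [transpose_mul]
          simp only [Matrix.mul_assoc]
      _ = (U0 d)ᵀ * (gᵀ * JI d e * g) * U0 d := by
          rw [← hgU, transpose_mul]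
          simp only [Matrix.mul_assoc]
      _ = gᵀ * (JI d e * g) := by
          rw [hg, (U0_form_iff d h2 _).2 hB3, ← hg, Matrix.mul_assoc]
  have hmem : uI.submatrix e.symm e.symm ∈ Matrix.symplecticGroup (Fin m) F :=
    mem_sp_of_form d e uI hform
  have hsub : (uI.submatrix e.symm e.symm).submatrix e e = uI := by
    rw [submatrix_submatrix, Equiv.symm_comp_self, submatrix_id_id]
  refine ⟨⟨uI.submatrix e.symm e.symm, hmem⟩, g, hgdet, ?_, ?_, ?_⟩
  · show g * U0 d = (uI.submatrix e.symm e.symm).submatrix e e * g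
    rw [hsub]
    exact hgU
  · unfold cOf
    rw [hg, ← Matrix.mul_assoc, M0i_mul_M0, Matrix.one_mul]
  · intro s
    show kap (Matrix.toLin' (uI.submatrix e.symm e.symm) - 1) s = _
    rw [kap_submatrix, ← kap_U0 d h2 s]
    symm
    apply kap_of_isConj
    exact ⟨Matrix.nonsingInvUnit g hgu, hgU⟩

end sp

end Cfsg.Agent.Lib.Helper15.SpUni
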