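import Mathlib
import Cfsg.Agent.Lib.Helper15.SpUniG

/-!
helper15: **the number of classes of unipotent elements of Jordan type `d` in `Sp_2m(q)`, `q` odd,
is `2 ^ (number of distinct even block sizes)`** (when every odd size has even multiplicity).
-/

set_option autoImplicit false

namespace Cfsg.Agent.Lib.Helper15.SpUni

open Matrix Cfsg.Agent.S2581 Cfsg.Agent.Lib.Helper15.GUCent
  Cfsg.Agent.Lib.Helper15.NilpotentConj Cfsg.Agent.Lib.Helper15.UniJordan

universe u

section main

variable {F : Type u} [Field F] [Fintype F] {p : ℕ} [Fact p.Prime] [CharP F p] {m t : ℕ}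
  (d : Fin t → ℕ) (hd : ∀ k, 1 ≤ d k) (e : ((k : Fin t) × Fin (d k)) ≃ (Fin m ⊕ Fin m))

lemma lt_sup_of_mem (j : ℕ) (hj : j ∈ typeOf d) : j < Finset.univ.sup d + 1 := by
  unfold typeOf at hj
  rw [Multiset.mem_map] at hj
  obtain ⟨k, _, rfl⟩ := hj
  exact Nat.lt_succ_of_le (Finset.le_sup (Finset.mem_univ k))

lemma mem_of_mem_filter (j : ↥((typeOf d).toFinset.filter (fun j => Even j))) :
    j.1 ∈ typeOf d := by
  have := j.2
  rw [Finset.mem_filter, Multiset.mem_toFinset] at this
  exact this.1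

lemma even_of_mem_filter (j : ↥((typeOf d).toFinset.filter (fun j => Even j))) : Even j.1 := by
  have := j.2
  rw [Finset.mem_filter] at this
  exact this.2

/-- the block label of an even size -/
def aOf (j : ↥((typeOf d).toFinset.filter (fun j => Even j))) :
    (Fin (Finset.univ.sup d + 1))ᵒᵈ :=
  OrderDual.toDual ⟨j.1, lt_sup_of_mem d j.1 (mem_of_mem_filter d j)⟩

lemma blab_eq_iff (k : Fin t) (a : (Fin (Finset.univ.sup d + 1))ᵒᵈ) :
    blab d k = a ↔ d k = (OrderDual.ofDual a : Fin _).1 := by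
  constructor
  · intro h
    rw [← h]
    rfl
  · intro h
    apply OrderDual.ofDual.injective
    apply Fin.ext
    exact h

lemma nonempty_aOf (j : ↥((typeOf d).toFinset.filter (fun j => Even j))) :
    Nonempty {k // blab d k = aOf d j} := by
  have h := mem_of_mem_filter d j
  unfold typeOf at h
  rw [Multiset.mem_map] at h
  obtain ⟨k, _, hk⟩ := h
  exact ⟨⟨k, (blab_eq_iff d k _).2 hk⟩⟩

include hd e in
/-- **classes of symplectic unipotents of a given Jordan type** -/
theorem card_classes_type (hp2 : p ≠ 2)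
    (hadm : ∀ j : ℕ, Odd j → Even (Finset.univ.filter (fun k : Fin t => d k = j)).card) :
    Nat.card {C : ConjClasses ↥(Matrix.symplecticGroup (Fin m) F) //
      ∃ u : ↥(Matrix.symplecticGroup (Fin m) F), ConjClasses.mk u = C ∧
        ∀ s, kap (Matrix.toLin' u.1 - 1) s = kapm (typeOf d) s} =
    2 ^ ((typeOf d).toFinset.filter (fun j => Even j)).card := by
  classical
  have h2 : (2 : F) ≠ 0 := two_ne_zero_of_char hp2
  have hadm' : ∀ a : (Fin (Finset.univ.sup d + 1))ᵒᵈ, Odd (OrderDual.ofDual a : Fin _).1 →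
      Even (Fintype.card {k // blab d k = a}) := by
    intro a ha
    have h := hadm _ ha
    rw [Fintype.card_subtype]
    have h3 : Finset.univ.filter (fun k : Fin t => blab d k = a) =
        Finset.univ.filter (fun k : Fin t => d k = (OrderDual.ofDual a : Fin _).1) := by
      apply Finset.filter_congr
      intro k _
      exact blab_eq_iff d k a
    rw [h3]
    exact h
  obtain ⟨Y, hY⟩ : ∃ Y : ↥(Matrix.symplecticGroup (Fin m) F) → Prop,
      Y = fun u => ∀ s, kap (Matrix.toLin' u.1 - 1) s = kapm (typeOf d) s := ⟨_, rfl⟩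
  have hg : ∀ y : {u // Y u}, ∃ g : Matrix ((k : Fin t) × Fin (d k)) ((k : Fin t) × Fin (d k)) F,
      g.det ≠ 0 ∧ g * U0 d = y.1.1.submatrix e e * g := by
    intro y
    have hYiff : ∀ u, Y u → ∀ s, kap (Matrix.toLin' u.1 - 1) s = kapm (typeOf d) s := by
      intro u hu
      rw [hY] at hu
      exact hu
    exact exists_conj_of_type d e h2 y.1 (hYiff y.1 y.2)
  choose G hG1 hG2 using hg
  -- the comparison of two symplectic unipotents through conjugating matrices
  have hcmp : ∀ (u u' : ↥(Matrix.symplecticGroup (Fin m) F))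
      (g g' : Matrix ((k : Fin t) × Fin (d k)) ((k : Fin t) × Fin (d k)) F),
      g.det ≠ 0 → g * U0 d = u.1.submatrix e e * g →
      g'.det ≠ 0 → g' * U0 d = u'.1.submatrix e e * g' →
      (IsConj u u' ↔ ∀ a : (Fin (Finset.univ.sup d + 1))ᵒᵈ,
        Even (OrderDual.ofDual a : Fin _).1 → Nonempty {k // blab d k = a} →
        (IsSquare (Db d hd (cOf d (JI d e) g) a).det ↔
          IsSquare (Db d hd (cOf d (JI d e) g') a).det)) := by
    intro u u' g g' hgdet hgU hgdet' hgU'
    rw [isConj_iff_I d e, conj_iff_forms d h2 (JI d e) g g' _ _ (JI_det d e) hgdet hgU hgdet' hgU',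
      orbit_iff d hd hp2 _ _
        (isT_cOf d h2 _ _ _ (JI_transpose d e) (JI_det d e) (uI_form d e u) hgdet hgU)
        (isT_cOf d h2 _ _ _ (JI_transpose d e) (JI_det d e) (uI_form d e u') hgdet' hgU')]
  have hZ : ∀ (c c' : Matrix ((k : Fin t) × Fin (d k)) ((k : Fin t) × Fin (d k)) F),
      (∀ a : (Fin (Finset.univ.sup d + 1))ᵒᵈ,
        Even (OrderDual.ofDual a : Fin _).1 → Nonempty {k // blab d k = a} →
        (IsSquare (Db d hd c a).det ↔ IsSquare (Db d hd c' a).det)) ↔
      (fun j : ↥((typeOf d).toFinset.filter (fun j => Even j)) =>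
        IsSquare (Db d hd c (aOf d j)).det) =
      (fun j : ↥((typeOf d).toFinset.filter (fun j => Even j)) =>
        IsSquare (Db d hd c' (aOf d j)).det) := by
    intro c c'
    constructor
    · intro h
      funext j
      exact propext (h (aOf d j) (even_of_mem_filter d j) (nonempty_aOf d j))
    · intro h a heven hne
      obtain ⟨i⟩ := hne
      have hi : d i.1 = (OrderDual.ofDual a : Fin _).1 := (blab_eq_iff d i.1 a).1 i.2
      have hmem : (OrderDual.ofDual a : Fin _).1 ∈
          (typeOf d).toFinset.filter (fun j => Even j) := by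
        rw [Finset.mem_filter, Multiset.mem_toFinset]
        refine ⟨?_, heven⟩
        unfold typeOf
        rw [Multiset.mem_map]
        exact ⟨i.1, Finset.mem_univ_val _, hi⟩
      exact iff_of_eq (congrFun h ⟨(OrderDual.ofDual a : Fin _).1, hmem⟩)
  obtain ⟨f, hf⟩ : ∃ f : {u // Y u} → (↥((typeOf d).toFinset.filter (fun j => Even j)) → Prop),
      f = fun y j => IsSquare (Db d hd (cOf d (JI d e) (G y)) (aOf d j)).det := ⟨_, rfl⟩
  have hfconj : ∀ y y' : {u // Y u}, f y = f y' ↔ IsConj y.1 y'.1 := by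
    intro y y'
    rw [hcmp y.1 y'.1 (G y) (G y') (hG1 y) (hG2 y) (hG1 y') (hG2 y'), hZ, hf]
  have hsurj : Function.Surjective f := by
    intro z
    obtain ⟨c, hcT, hcz⟩ := exists_T (F := F) d hd hp2 hadm'
      (fun a => ∃ h : (OrderDual.ofDual a : Fin _).1 ∈
        (typeOf d).toFinset.filter (fun j => Even j), z ⟨_, h⟩)
    obtain ⟨u, g, hgdet, hgU, hgc, hk⟩ := exists_sp_of_T d e h2 c hcT
    have hYu : Y u := by rw [hY]; exact hk
    refine ⟨⟨u, hYu⟩, ?_⟩
    have h1 := (hcmp u u (G ⟨u, hYu⟩) g (hG1 _) (hG2 _) hgdet hgU).1 (IsConj.refl u)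
    rw [hf]
    funext j
    apply propext
    show IsSquare (Db d hd (cOf d (JI d e) (G ⟨u, hYu⟩)) (aOf d j)).det ↔ z j
    rw [h1 (aOf d j) (even_of_mem_filter d j) (nonempty_aOf d j), hgc,
      hcz (aOf d j) (even_of_mem_filter d j) (nonempty_aOf d j)]
    constructor
    · rintro ⟨h, hz⟩
      exact hz
    · intro hz
      exact ⟨j.2, hz⟩
  have hmain := card_classes_of_invariant Y f hfconj hsurj
  have hcard : Nat.card (↥((typeOf d).toFinset.filter (fun j => Even j)) → Prop) =
      2 ^ ((typeOf d).toFinset.filter (fun j => Even j)).card := by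
    rw [Nat.card_fun, Nat.card_eq_fintype_card (α := Prop), Fintype.card_prop,
      Nat.card_eq_fintype_card, Fintype.card_coe]
  rw [hY] at hmain
  exact hmain.trans hcard

end main

end Cfsg.Agent.Lib.Helper15.SpUni
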