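import Mathlib
import Cfsg.Agent.Lib.Helper15.SpUniH
import Cfsg.Agent.Lib.Helper15.UniForm
import Cfsg.Agent.S2570

/-!
helper15: symplectic elements of order `p` and their Jordan types.
-/

set_option autoImplicit false

namespace Cfsg.Agent.Lib.Helper15.SpUni

open Matrix Module Cfsg.Agent.Lib.Helper15.NilpotentConj Cfsg.Agent.Lib.Helper15.UniJordan
  Cfsg.Agent.Lib.Helper15.UniForm

universe u

section order

variable {F : Type u} [Field F] {p : ℕ} [Fact p.Prime] [CharP F p] {m : ℕ}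

open Polynomial in
lemma sub_one_pow_char' {ι : Type*} [Fintype ι] [DecidableEq ι] (A : Matrix ι ι F) :
    (A - 1) ^ p = A ^ p - 1 := by
  have h1 : ((X : F[X]) - C 1) ^ p = X ^ p - C 1 := by
    rw [sub_pow_char, ← C_pow, one_pow]
  have h2 := congrArg (aeval A) h1
  simpa using h2

lemma exists_d (μ : Multiset ℕ) : ∃ (t : ℕ) (d : Fin t → ℕ), typeOf d = μ := by
  refine ⟨μ.toList.length, fun i => μ.toList.get i, ?_⟩
  unfold typeOf
  rw [Fin.univ_val_map, List.ofFn_get, Multiset.coe_toList]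

lemma finrank_L : finrank F (Fin m ⊕ Fin m → F) = 2 * m := by
  rw [Module.finrank_fintype_fun_eq_card, Fintype.card_sum, Fintype.card_fin, two_mul]

lemma toLin_sub_one (A : Matrix (Fin m ⊕ Fin m) (Fin m ⊕ Fin m) F) :
    Matrix.toLin' A - 1 = Matrix.toLin' (A - 1) := by
  rw [map_sub, Matrix.toLin'_one, Module.End.one_eq_id]

lemma order_p_iff_type (u : ↥(Matrix.symplecticGroup (Fin m) F)) (μ : Nat.Partition (2 * m))
    (hk : ∀ s, kap (Matrix.toLin' u.1 - 1) s = kapm μ.parts s) :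
    orderOf u = p ↔ ((∀ a ∈ μ.parts, a ≤ p) ∧ μ ≠ Cfsg.Agent.S2570.ones (2 * m)) := by
  have e1 : (Matrix.toLin' u.1 - 1) ^ p = 0 ↔ ∀ a ∈ μ.parts, a ≤ p := by
    rw [pow_eq_zero_iff_kap, hk, finrank_L, ← kapm_eq_sum_iff, μ.parts_sum]
  have e2 : Matrix.toLin' u.1 - 1 ≠ 0 ↔ μ ≠ Cfsg.Agent.S2570.ones (2 * m) := by
    rw [Ne, Ne, ← Cfsg.Agent.S2570.card_parts_eq_iff,
      ← kapm_one μ.parts (fun a ha => μ.parts_pos ha), ← hk, ← finrank_L (F := F) (m := m),
      ← pow_eq_zero_iff_kap, pow_one]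
  have e3 : u ^ p = 1 ↔ (Matrix.toLin' u.1 - 1) ^ p = 0 := by
    rw [toLin_sub_one, ← Matrix.toLin'_pow, LinearEquiv.map_eq_zero_iff, sub_one_pow_char',
      sub_eq_zero]
    constructor
    · intro h
      have := congrArg Subtype.val h
      rw [SubmonoidClass.coe_pow] at this
      exact this
    · intro h
      apply Subtype.ext
      rw [SubmonoidClass.coe_pow]
      exact h
  have e4 : u ≠ 1 ↔ Matrix.toLin' u.1 - 1 ≠ 0 := by
    rw [toLin_sub_one, Ne, Ne, LinearEquiv.map_eq_zero_iff, sub_eq_zero]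
    constructor
    · intro h h1
      exact h (Subtype.ext h1)
    · intro h h1
      apply h
      rw [h1]
      rfl
  rw [orderOf_eq_prime_iff, e3, e4, e1, e2]

end order

section types

variable {F : Type u} [Field F] [Fintype F] {m : ℕ}

/-- conjugate symplectic matrices have the same kernel dimensions -/
lemma kap_of_isConj_sp (u u' : ↥(Matrix.symplecticGroup (Fin m) F)) (h : IsConj u u') (s : ℕ) :
    kap (Matrix.toLin' u.1 - 1) s = kap (Matrix.toLin' u'.1 - 1) s := by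
  obtain ⟨c, hc⟩ := isConj_iff.1 h
  have h1 : c * u = u' * c := by rw [← hc]; group
  have h2 : c.1 * u.1 = u'.1 * c.1 := congrArg Subtype.val h1
  have h3 : c.1 * (c⁻¹ : ↥(Matrix.symplecticGroup (Fin m) F)).1 = 1 := by
    rw [← Submonoid.coe_mul, mul_inv_cancel]
    rfl
  have h4 : (c⁻¹ : ↥(Matrix.symplecticGroup (Fin m) F)).1 * c.1 = 1 := by
    rw [← Submonoid.coe_mul, inv_mul_cancel]
    rfl
  apply kap_of_isConj
  exact ⟨⟨c.1, (c⁻¹ : ↥(Matrix.symplecticGroup (Fin m) F)).1, h3, h4⟩, h2⟩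

/-- the Jordan type of a symplectic unipotent has odd parts of even multiplicity -/
lemma adm_of_sp (u : ↥(Matrix.symplecticGroup (Fin m) F)) (μ : Multiset ℕ)
    (hk : ∀ s, kap (Matrix.toLin' u.1 - 1) s = kapm μ s) (j : ℕ) (hj : Odd j) :
    Even (μ.count j) := by
  classical
  apply count_even_of_kapm_even μ (2 * m) _ j hj
  intro i
  have hAmem := u.2
  rw [SymplecticGroup.mem_iff'] at hAmem
  have hβ : ∀ x y, Matrix.toBilin' (Matrix.J (Fin m) F) x y = x ⬝ᵥ (Matrix.J (Fin m) F) *ᵥ y :=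
    fun x y => Matrix.toBilin'_apply' _ x y
  have halt : (Matrix.toBilin' (Matrix.J (Fin m) F)).IsAlt := by
    intro x
    rw [hβ, J_alt]
  have hnd : ∀ x, (∀ y, Matrix.toBilin' (Matrix.J (Fin m) F) y x = 0) → x = 0 := by
    intro x hx
    apply J_nondeg m x
    intro v
    rw [← hβ, ← LinearMap.IsAlt.neg halt v x, hx, neg_zero]
  have h1 : (u⁻¹ : Matrix.symplecticGroup (Fin m) F).val * u.val = 1 := by
    rw [← Submonoid.coe_mul, inv_mul_cancel]
    rfl
  have h2 : u.val * (u⁻¹ : Matrix.symplecticGroup (Fin m) F).val = 1 := by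
    rw [← Submonoid.coe_mul, mul_inv_cancel]
    rfl
  obtain ⟨m', hm'⟩ := isometry_alt_rank (Matrix.toBilin' (Matrix.J (Fin m) F)) halt hnd
    (Matrix.toLin' u.val) (Matrix.toLin' (u⁻¹ : Matrix.symplecticGroup (Fin m) F).val)
    (by rw [Module.End.mul_eq_comp, ← Matrix.toLin'_mul, h2, Matrix.toLin'_one]; rfl)
    (by rw [Module.End.mul_eq_comp, ← Matrix.toLin'_mul, h1, Matrix.toLin'_one]; rfl)
    (by
      intro x y
      rw [hβ, hβ, Matrix.toLin'_apply, Matrix.toLin'_apply,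
        Cfsg.Agent.Lib.Helper15.AltGlue.dot_mulVec', Matrix.mulVec_mulVec, hAmem]) i
  refine ⟨m', ?_⟩
  rw [← hk, ← hm', finrank_L]

end types

end Cfsg.Agent.Lib.Helper15.SpUni
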