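import Mathlib
import Cfsg.Agent.S0171
import Cfsg.Agent.Lib.Helper6.LinChar
import Cfsg.Agent.Lib.Helper6.IndFun

/-!
helper15: a finite group of order 18 with trivial centre has an irreducible character of degree 2
vanishing on the involutions (it is a Frobenius group with abelian kernel of order 9).
-/

set_option autoImplicit false

namespace Cfsg.Agent.Lib.Helper15.St18

open Cfsg

/-- a group of order 18 with trivial centre has a character of Steinberg type for the prime 2 -/
theorem steinberg_eighteen {G : Type*} [Group G] [Finite G] (h18 : Nat.card G = 18)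
    (hZ : Subgroup.center G = ⊥) :
    ∃ χ : G → ℂ, IsIrrCharacter G χ ∧ ∀ P : Sylow 2 G, χ 1 = Nat.card P ∧
      ∀ x : G, x ∈ P → x ≠ 1 → χ x = 0 := by
  classical
  have : Fintype G := Fintype.ofFinite G
  have : Fact (Nat.Prime 3) := ⟨Nat.prime_three⟩
  have : Fact (Nat.Prime 2) := ⟨Nat.prime_two⟩
  -- the subgroup of order 9
  obtain ⟨A, hA⟩ := Sylow.exists_subgroup_card_pow_prime (G := G) 3 (n := 2)
    (by rw [h18]; norm_num)
  have hA9 : Nat.card A = 9 := by rw [hA]; norm_num
  have hidx : A.index = 2 := by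
    have := A.card_mul_index
    rw [hA9, h18] at this
    omega
  have hAn : A.Normal := Subgroup.normal_of_index_eq_two hidx
  have hAcomm : ∀ a b : A, a * b = b * a := by
    have := IsPGroup.isMulCommutative_of_card_eq_prime_sq (p := 3) (G := ↥A)
      (by rw [hA9]; norm_num)
    exact fun a b => mul_comm' a b
  -- an involution
  obtain ⟨t, ht⟩ := exists_prime_orderOf_dvd_card' (G := G) 2 (by rw [h18]; norm_num)
  have htA : t ∉ A := by
    intro h
    have h1 : orderOf (⟨t, h⟩ : A) ∣ Nat.card A := orderOf_dvd_natCard _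
    have h2 : orderOf (⟨t, h⟩ : A) = orderOf t := by
      rw [← Subgroup.orderOf_coe]
    rw [h2, ht, hA9] at h1
    omega
  set H : Subgroup G := Subgroup.zpowers t with hH
  have hH2 : Nat.card H = 2 := by rw [hH, Nat.card_zpowers, ht]
  have hKH : A ⊓ H = ⊥ := by
    apply disjoint_iff.mp
    apply Subgroup.disjoint_of_coprime_natCard
    rw [hA9, hH2]
    norm_num
  have hKH' : A ⊔ H = ⊤ := by
    apply Subgroup.eq_top_of_card_eq
    have h1 : Nat.card A ∣ Nat.card ↥(A ⊔ H) := Subgroup.card_dvd_of_le le_sup_left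
    have h2 : Nat.card H ∣ Nat.card ↥(A ⊔ H) := Subgroup.card_dvd_of_le le_sup_right
    have h3 : Nat.card ↥(A ⊔ H) ∣ Nat.card G := Subgroup.card_subgroup_dvd_card _
    rw [hA9] at h1
    rw [hH2] at h2
    rw [h18] at h3 ⊢
    have h4 : 18 ∣ Nat.card ↥(A ⊔ H) :=
      Nat.Coprime.mul_dvd_of_dvd_of_dvd (by norm_num : Nat.Coprime 9 2) h1 h2
    exact Nat.dvd_antisymm h3 h4
  have hfpf : ∀ h ∈ H, h ≠ 1 → ∀ k ∈ A, h * k = k * h → k = 1 := by
    intro h hh hh1 k hk hcomm
    -- `h = t`
    have hht : h = t := by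
      obtain ⟨i, rfl⟩ := Subgroup.mem_zpowers_iff.mp hh
      have h2 : t ^ (2 : ℤ) = 1 := by
        have := pow_orderOf_eq_one t
        rw [ht] at this
        exact_mod_cast this
      obtain ⟨j, hj | hj⟩ := Int.even_or_odd' i
      · exfalso
        apply hh1
        rw [hj, zpow_mul, h2, one_zpow]
      · rw [hj, zpow_add, zpow_mul, h2, one_zpow, one_mul, zpow_one]
    rw [hht] at hcomm
    have hkZ : k ∈ Subgroup.center G := by
      have hle : A ⊔ H ≤ Subgroup.centralizer {k} := by
        apply sup_le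
        · intro a ha
          rw [Subgroup.mem_centralizer_iff]
          intro y hy
          rw [Set.mem_singleton_iff] at hy
          rw [hy]
          have := hAcomm ⟨k, hk⟩ ⟨a, ha⟩
          exact congrArg Subtype.val this
        · rw [hH, Subgroup.zpowers_le]
          rw [Subgroup.mem_centralizer_iff]
          intro y hy
          rw [Set.mem_singleton_iff] at hy
          rw [hy]
          exact hcomm.symm
      rw [hKH'] at hle
      rw [Subgroup.mem_center_iff]
      intro g
      have := hle (Subgroup.mem_top g)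
      rw [Subgroup.mem_centralizer_iff] at this
      exact (this k rfl).symm
    rw [hZ] at hkZ
    exact Subgroup.mem_bot.mp hkZ
  -- a nontrivial linear character of `A`
  let instA : CommGroup ↥A := { (inferInstance : Group ↥A) with mul_comm := hAcomm }
  have hAnt : ∃ a : A, a ≠ 1 := by
    by_contra hcon
    have hcon : ∀ a : A, a = 1 := fun a => by
      by_contra h
      exact hcon ⟨a, h⟩
    have : Subsingleton A := ⟨fun x y => (hcon x).trans (hcon y).symm⟩
    have := Nat.card_of_subsingleton (1 : A)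
    rw [hA9] at this
    omega
  obtain ⟨a, ha⟩ := hAnt
  obtain ⟨φ, hφ⟩ := CommGroup.exists_apply_ne_one_of_hasEnoughRootsOfUnity ↥A ℂ ha
  set τ : A → ℂ := fun k => ((φ k : ℂˣ) : ℂ) with hτdef
  have hτ : IsIrrCharacter A τ := Cfsg.Agent.Lib.Helper6.isIrrCharacter_of_hom φ
  have hτ1 : τ ≠ fun _ => 1 := by
    intro h
    apply hφ
    have := congrFun h a
    rw [hτdef] at this
    exact Units.ext this
  have hχ := Cfsg.Agent.S0171.result A H hKH hKH' hfpf τ hτ hτ1
  refine ⟨indFun A τ, hχ, ?_⟩
  intro P
  have hP2 : Nat.card P = 2 := by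
    obtain ⟨k, hk⟩ := IsPGroup.exists_card_eq P.2
    have h1 : Nat.card P ∣ Nat.card G := Subgroup.card_subgroup_dvd_card _
    have h2 : 2 ∣ Nat.card P := P.dvd_card_of_dvd_card (by rw [h18]; norm_num)
    rw [h18, hk] at h1
    rw [hk] at h2 ⊢
    rcases k with _ | _ | k
    · norm_num at h2
    · norm_num
    · exfalso
      rw [pow_succ, pow_succ] at h1
      have : 4 ∣ 18 := Dvd.dvd.trans ⟨2 ^ k, by ring⟩ h1
      omega
  constructor
  · rw [hP2, Cfsg.Agent.Lib.Helper6.indFun_apply, hA9]
    have : ∀ x : G, extendByZero A τ (x⁻¹ * 1 * x) = 1 := by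
      intro x
      rw [mul_one, inv_mul_cancel, Cfsg.Agent.Lib.Helper6.extendByZero_mem A τ A.one_mem]
      show ((φ (1 : A) : ℂˣ) : ℂ) = 1
      rw [map_one, Units.val_one]
    rw [Finset.sum_congr rfl (fun x _ => this x), Finset.sum_const, Finset.card_univ,
      ← Nat.card_eq_fintype_card, h18]
    norm_num
  · intro x hx hx1
    have hxA : x ∉ A := by
      intro h
      have h1 : orderOf x ∣ 9 := by
        have h1 : orderOf (⟨x, h⟩ : A) ∣ Nat.card A := orderOf_dvd_natCard _
        rw [← Subgroup.orderOf_coe, hA9] at h1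
        exact h1
      have h2 : orderOf x ∣ 2 := by
        have h2 : orderOf (⟨x, hx⟩ : (P : Subgroup G)) ∣ Nat.card P := orderOf_dvd_natCard _
        rw [← Subgroup.orderOf_coe, hP2] at h2
        exact h2
      have h3 : orderOf x ∣ Nat.gcd 9 2 := Nat.dvd_gcd h1 h2
      have h4 : Nat.gcd 9 2 = 1 := by norm_num
      rw [h4] at h3
      exact hx1 (orderOf_eq_one_iff.mp (Nat.dvd_one.mp h3))
    rw [Cfsg.Agent.Lib.Helper6.indFun_apply]
    have : ∀ y : G, extendByZero A τ (y⁻¹ * x * y) = 0 := by
      intro y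
      apply Cfsg.Agent.Lib.Helper6.extendByZero_not_mem
      intro h
      apply hxA
      have := hAn.conj_mem _ h y
      simpa [mul_assoc] using this
    rw [Finset.sum_congr rfl (fun y _ => this y), Finset.sum_const_zero, mul_zero]

end Cfsg.Agent.Lib.Helper15.St18
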