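import Mathlib
import Cfsg.Agent.S2566

/-!
helper15: the commutator subgroup of the orthogonal group `O_4^+(2)` (order 72) is the image of
the subgroup of `S_3 × S_3` of the pairs of permutations of equal sign; it has order 18 and
trivial centre.
-/

set_option autoImplicit false

namespace Cfsg.Agent.Lib.Helper15.St18

open Cfsg Cfsg.Agent.S2566
open scoped commutatorElement

/-- the direct product of two symmetric groups of degree 3 -/
abbrev S33 := Equiv.Perm (Fin 3) × Equiv.Perm (Fin 3)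

/-- the product of the two signs -/
def sgn2 : S33 →* ℤˣ :=
  (Equiv.Perm.sign.comp (MonoidHom.fst _ _)) * (Equiv.Perm.sign.comp (MonoidHom.snd _ _))

lemma sgn2_apply (a : S33) : sgn2 a = Equiv.Perm.sign a.1 * Equiv.Perm.sign a.2 := rfl

lemma sgn2_swap (a : S33) : sgn2 a.swap = sgn2 a := by
  rw [sgn2_apply, sgn2_apply, mul_comm]
  rfl

set_option maxRecDepth 100000 in
lemma even_is_commutator : ∀ σ : Equiv.Perm (Fin 3), Equiv.Perm.sign σ = 1 →
    ∃ a b : Equiv.Perm (Fin 3), σ = ⁅a, b⁆ := by decide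

set_option maxRecDepth 100000 in
lemma center_K0 : ∀ z : S33, sgn2 z = 1 → (∀ g : S33, sgn2 g = 1 → g * z = z * g) → z = 1 := by
  decide

set_option maxRecDepth 100000 in
lemma card_K0 : Fintype.card {z : S33 // sgn2 z = 1} = 18 := by decide

/-- the embedding of `S_3 × S_3` into the orthogonal group -/
noncomputable def f33 : S33 →* O4 := MonoidHom.noncommCoprod phi psi comm_phi_psi

lemma f33_apply (a : S33) : f33 a = phi a.1 * psi a.2 :=
  MonoidHom.noncommCoprod_apply _ _ _ _

lemma f33_injective : Function.Injective f33 := by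
  unfold f33
  rw [MonoidHom.noncommCoprod_injective]
  exact ⟨phi_injective, psi_injective, disj⟩

lemma g0_mul_self : g0 * g0 = 1 := by
  apply toM_injective
  rw [map_mul, toM_g0, map_one]
  exact G4_sq

lemma g0_inv : g0⁻¹ = g0 := inv_eq_of_mul_eq_one_left g0_mul_self

lemma psi_eq (τ : Equiv.Perm (Fin 3)) : psi τ = g0 * phi τ * g0 := by
  show g0 * phi τ * g0⁻¹ = _
  rw [g0_inv]

lemma phi_eq (τ : Equiv.Perm (Fin 3)) : phi τ = g0 * psi τ * g0 := by
  rw [psi_eq]
  calc phi τ = (g0 * g0) * phi τ * (g0 * g0) := by rw [g0_mul_self, one_mul, mul_one]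
    _ = g0 * (g0 * phi τ * g0) * g0 := by simp only [mul_assoc]

/-- conjugation by `g0` swaps the two factors -/
lemma g0_conj (a : S33) : g0 * f33 a * g0 = f33 a.swap := by
  rw [f33_apply, f33_apply]
  show g0 * (phi a.1 * psi a.2) * g0 = phi a.2 * psi a.1
  rw [(comm_phi_psi a.2 a.1).eq, psi_eq a.1, phi_eq a.2]
  calc g0 * (phi a.1 * psi a.2) * g0 = g0 * phi a.1 * (1 * psi a.2) * g0 := by
        rw [one_mul]; simp only [mul_assoc]
    _ = g0 * phi a.1 * g0 * (g0 * psi a.2 * g0) := by
        rw [← g0_mul_self]; simp only [mul_assoc]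

lemma card_O4 : Nat.card O4 = 72 := Cfsg.Agent.S2566.result.1

lemma card_range_f33 : Nat.card ↥f33.range = 36 := by
  rw [← Nat.card_congr (MonoidHom.ofInjective f33_injective).toEquiv, Nat.card_prod,
    Nat.card_perm, Nat.card_eq_fintype_card, Fintype.card_fin]
  rfl

lemma index_range_f33 : f33.range.index = 2 := by
  have := Subgroup.card_mul_index f33.range
  rw [card_range_f33, card_O4] at this
  omega

lemma g0_not_mem : g0 ∉ f33.range := by
  rintro ⟨a, ha⟩
  -- conjugation by `g0` would preserve the first factor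
  have h1 : psi (Equiv.swap 0 1) = phi (a.1 * Equiv.swap 0 1 * a.1⁻¹) := by
    rw [psi_eq, ← ha, f33_apply]
    have hinv : (phi a.1 * psi a.2)⁻¹ = phi a.1 * psi a.2 := by
      have : phi a.1 * psi a.2 = g0 := by rw [← f33_apply]; exact ha
      rw [this, g0_inv]
    have hc := comm_phi_psi (Equiv.swap 0 1) a.2
    calc phi a.1 * psi a.2 * phi (Equiv.swap 0 1) * (phi a.1 * psi a.2)
        = phi a.1 * psi a.2 * phi (Equiv.swap 0 1) * (phi a.1 * psi a.2)⁻¹ := by rw [hinv]
      _ = phi a.1 * (psi a.2 * phi (Equiv.swap 0 1)) * (psi a.2)⁻¹ * (phi a.1)⁻¹ := by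
          rw [mul_inv_rev]; simp only [mul_assoc]
      _ = phi a.1 * (phi (Equiv.swap 0 1) * psi a.2) * (psi a.2)⁻¹ * (phi a.1)⁻¹ := by
          rw [hc.eq]
      _ = phi a.1 * phi (Equiv.swap 0 1) * (phi a.1)⁻¹ := by
          simp only [mul_assoc, mul_inv_cancel_left]
      _ = phi (a.1 * Equiv.swap 0 1 * a.1⁻¹) := by rw [map_mul, map_mul, map_inv]
  have h2 : psi (Equiv.swap 0 1) = 1 := by
    have := Subgroup.disjoint_def.mp disj (x := psi (Equiv.swap 0 1)) ⟨_, h1.symm⟩ ⟨_, rfl⟩
    exact this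
  have h3 : (Equiv.swap 0 1 : Equiv.Perm (Fin 3)) = 1 := by
    apply psi_injective
    rw [h2, map_one]
  revert h3
  decide

/-- every element of the orthogonal group lies in `S_3 × S_3` or in its other coset -/
lemma O4_cases (x : O4) : (∃ a, x = f33 a) ∨ (∃ a, x = g0 * f33 a) := by
  by_cases hx : x ∈ f33.range
  · obtain ⟨a, ha⟩ := hx
    exact Or.inl ⟨a, ha.symm⟩
  · right
    have h := (Subgroup.mul_mem_iff_of_index_two index_range_f33 (a := g0) (b := x)).mpr
      ⟨fun h => absurd h g0_not_mem, fun h => absurd h hx⟩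
    obtain ⟨a, ha⟩ := h
    refine ⟨a, ?_⟩
    rw [ha, ← mul_assoc, g0_mul_self, one_mul]

/-- the subgroup of the pairs of permutations of equal sign -/
def K0 : Subgroup S33 := sgn2.ker

lemma mem_K0 {a : S33} : a ∈ K0 ↔ sgn2 a = 1 := MonoidHom.mem_ker

lemma comm_mem_K0 (a b : S33) : a * b * a⁻¹ * b⁻¹ ∈ K0 := by
  rw [mem_K0, map_mul, map_mul, map_mul, map_inv, map_inv]
  rw [mul_comm (sgn2 a) (sgn2 b), mul_inv_cancel_right, mul_inv_cancel]

lemma comm_aux4 {G : Type*} [Group G] (g A B : G) (hg : g * g = 1) :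
    ⁅g * A, g * B⁆ = (g * A * g) * B * A⁻¹ * (g * B * g)⁻¹ := by
  have hg' : g⁻¹ = g := inv_eq_of_mul_eq_one_left hg
  rw [commutatorElement_def]
  simp only [mul_inv_rev, hg', mul_assoc]

/-- the commutator subgroup is contained in the image of `K0` -/
lemma commutator_le_K0 : commutator O4 ≤ K0.map f33 := by
  rw [commutator_def, Subgroup.commutator_le]
  intro x _ y _
  have key1 : ∀ a b : S33, ⁅g0 * f33 a, f33 b⁆ ∈ K0.map f33 := by
    intro a b
    have e : ⁅g0 * f33 a, f33 b⁆ = f33 ((a * b * a⁻¹).swap * b⁻¹) := by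
      rw [map_mul, ← g0_conj, map_mul, map_mul, map_inv, map_inv, commutatorElement_def,
        mul_inv_rev, g0_inv]
      simp only [mul_assoc]
    rw [e]
    apply Subgroup.mem_map_of_mem
    rw [mem_K0, map_mul, sgn2_swap, map_mul, map_mul, map_inv, map_inv]
    rw [mul_comm (sgn2 a) (sgn2 b), mul_inv_cancel_right, mul_inv_cancel]
  rcases O4_cases x with ⟨a, rfl⟩ | ⟨a, rfl⟩ <;> rcases O4_cases y with ⟨b, rfl⟩ | ⟨b, rfl⟩
  · rw [← map_commutatorElement]
    apply Subgroup.mem_map_of_mem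
    rw [commutatorElement_def]
    exact comm_mem_K0 a b
  · rw [← commutatorElement_inv]
    exact Subgroup.inv_mem _ (key1 b a)
  · exact key1 a b
  · have e : ⁅g0 * f33 a, g0 * f33 b⁆ = f33 (a.swap * b * a⁻¹ * (b.swap)⁻¹) := by
      rw [comm_aux4 g0 (f33 a) (f33 b) g0_mul_self, g0_conj, g0_conj, ← map_mul, ← map_inv,
        ← map_mul, ← map_inv, ← map_mul]
    rw [e]
    apply Subgroup.mem_map_of_mem
    rw [mem_K0, map_mul, map_mul, map_mul, map_inv, map_inv, sgn2_swap, sgn2_swap]
    rw [mul_comm (sgn2 a) (sgn2 b), mul_inv_cancel_right, mul_inv_cancel]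

lemma phi_even_mem {σ : Equiv.Perm (Fin 3)} (hσ : Equiv.Perm.sign σ = 1) :
    phi σ ∈ commutator O4 := by
  obtain ⟨a, b, rfl⟩ := even_is_commutator σ hσ
  rw [map_commutatorElement, commutator_def]
  exact Subgroup.commutator_mem_commutator (Subgroup.mem_top _) (Subgroup.mem_top _)

/-- the image of `K0` is contained in the commutator subgroup -/
lemma K0_le_commutator : K0.map f33 ≤ commutator O4 := by
  rintro x ⟨a, ha, rfl⟩
  have ha' : Equiv.Perm.sign a.1 * Equiv.Perm.sign a.2 = 1 := mem_K0.mp ha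
  have e : f33 a = phi (a.1 * a.2) * ⁅phi a.2⁻¹, g0⁆ := by
    rw [f33_apply, commutatorElement_def, psi_eq, g0_inv, map_mul, map_inv, inv_inv]
    simp only [mul_assoc, mul_inv_cancel_left]
  rw [e]
  apply Subgroup.mul_mem
  · apply phi_even_mem
    rw [map_mul]
    exact ha'
  · rw [commutator_def]
    exact Subgroup.commutator_mem_commutator (Subgroup.mem_top _) (Subgroup.mem_top _)

theorem commutator_eq_K0 : commutator O4 = K0.map f33 :=
  le_antisymm commutator_le_K0 K0_le_commutator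

/-- the commutator subgroup is isomorphic to `K0` -/
noncomputable def eK0 : ↥K0 ≃* ↥(commutator O4) :=
  (K0.equivMapOfInjective f33 f33_injective).trans (MulEquiv.subgroupCongr commutator_eq_K0.symm)

theorem card_commutator_O4 : Nat.card ↥(commutator O4) = 18 := by
  rw [← Nat.card_congr eK0.toEquiv]
  have : Nat.card ↥K0 = Nat.card {z : S33 // sgn2 z = 1} := rfl
  rw [this, Nat.card_eq_fintype_card]
  exact card_K0

theorem center_commutator_O4 : Subgroup.center ↥(commutator O4) = ⊥ := by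
  rw [eq_bot_iff]
  intro z hz
  rw [Subgroup.mem_bot]
  rw [Subgroup.mem_center_iff] at hz
  have h1 : (eK0.symm z : S33) = 1 := by
    apply center_K0 _ (mem_K0.mp (eK0.symm z).2)
    intro g hg
    have := hz (eK0 ⟨g, mem_K0.mpr hg⟩)
    have h2 := congrArg eK0.symm this
    rw [map_mul, map_mul, MulEquiv.symm_apply_apply] at h2
    exact congrArg Subtype.val h2
  have h2 : eK0.symm z = 1 := Subtype.ext h1
  have := congrArg eK0 h2
  rwa [MulEquiv.apply_symm_apply, map_one] at this

end Cfsg.Agent.Lib.Helper15.St18
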