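import Mathlib
import Cfsg.Agent.Lib.Helper15.St18A
import Cfsg.Agent.Lib.Helper15.St18B
import Cfsg.Agent.Lib.Helper15.OrBNE
import Cfsg.Agent.Lib.Helper15.OrBNI

/-!
helper15: the Steinberg character of `PΩ⁺_4(F)` for a field `F` with two elements: the isometry
group is isomorphic to the one over `ZMod 2` (base change along the ring isomorphism), whose
commutator subgroup has order 18 and trivial centre.
-/

set_option autoImplicit false

namespace Cfsg.Agent.Lib.Helper15.St18

open Matrix Cfsg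

/-- the Gram matrix of the hyperbolic quadratic form -/
def gramPlus (m : ℕ) (F : Type*) [Field F] : Matrix (Fin m ⊕ Fin m) (Fin m ⊕ Fin m) F :=
  Matrix.fromBlocks 0 1 0 0

lemma quadFormPlus_eq_gram (m : ℕ) {F : Type*} [Field F] (v : Fin m ⊕ Fin m → F) :
    Cfsg.quadFormPlus m F v = v ⬝ᵥ gramPlus m F *ᵥ v := by
  unfold Cfsg.quadFormPlus gramPlus
  rw [Matrix.fromBlocks_mulVec, dotProduct, Fintype.sum_sum_type]
  simp only [Sum.elim_inl, Sum.elim_inr, Matrix.zero_mulVec, Matrix.one_mulVec, zero_add,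
    Pi.zero_apply, mul_zero, Finset.sum_const_zero, add_zero, Function.comp_apply]

lemma gramPlus_map (m : ℕ) {F K : Type*} [Field F] [Field K] (ι : F →+* K) :
    (gramPlus m F).map ι = gramPlus m K := by
  unfold gramPlus
  rw [Matrix.fromBlocks_map, Matrix.map_zero _ (map_zero ι),
    Matrix.map_one _ (map_zero ι) (map_one ι)]

/-- isomorphic finite fields have isomorphic isometry groups of the hyperbolic quadratic form -/
theorem nonempty_isometry_plus_congr (m : ℕ) {F K : Type*} [Field F] [Field K] [Finite F]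
    [Finite K] (ι : F ≃+* K) :
    Nonempty (↥(Cfsg.isometryGroup F (Cfsg.quadFormPlus m F)) ≃*
      ↥(Cfsg.isometryGroup K (Cfsg.quadFormPlus m K))) := by
  obtain ⟨Φ, hΦ⟩ := Cfsg.Agent.Lib.Helper15.basechange_isometry (ι : F →+* K) (gramPlus m F)
    (Cfsg.quadFormPlus m F) (Cfsg.quadFormPlus m K) (quadFormPlus_eq_gram m)
    (fun v => by rw [gramPlus_map]; exact quadFormPlus_eq_gram m v)
  obtain ⟨Ψ, hΨ⟩ := Cfsg.Agent.Lib.Helper15.basechange_isometry (ι.symm : K →+* F) (gramPlus m K)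
    (Cfsg.quadFormPlus m K) (Cfsg.quadFormPlus m F) (quadFormPlus_eq_gram m)
    (fun v => by rw [gramPlus_map]; exact quadFormPlus_eq_gram m v)
  have hbij : Function.Bijective Φ :=
    hΦ.bijective_of_nat_card_le (Nat.card_le_card_of_injective Ψ hΨ)
  exact ⟨MulEquiv.ofBijective Φ hbij⟩

/-- the Steinberg character of `PΩ⁺_4(F)`, `|F| = 2` -/
theorem steinberg_plus_two_two {F : Type*} [Field F] [Fintype F] (hF : Fintype.card F = 2) :
    ∃ χ : Cfsg.POmega F (Cfsg.quadFormPlus 2 F) → ℂ,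
      Cfsg.IsIrrCharacter (Cfsg.POmega F (Cfsg.quadFormPlus 2 F)) χ ∧
      ∀ P : Sylow 2 (Cfsg.POmega F (Cfsg.quadFormPlus 2 F)), χ 1 = Nat.card P ∧
        ∀ x : Cfsg.POmega F (Cfsg.quadFormPlus 2 F), x ∈ P → x ≠ 1 → χ x = 0 := by
  have ι : ZMod 2 ≃+* F := ZMod.ringEquivOfPrime F Nat.prime_two hF
  obtain ⟨e₁⟩ := nonempty_isometry_plus_congr 2 ι.symm
  -- the central quotient of the commutator subgroup over `ZMod 2` is the commutator subgroup
  have e₂ := Cfsg.Agent.Lib.Helper15.OrBN.centralQuotientCommutatorEquiv e₁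
  have e₃ : (↥(commutator Cfsg.Agent.S2566.O4) ⧸
      Subgroup.center ↥(commutator Cfsg.Agent.S2566.O4)) ≃* ↥(commutator Cfsg.Agent.S2566.O4) :=
    (QuotientGroup.quotientMulEquivOfEq center_commutator_O4).trans QuotientGroup.quotientBot
  have e : ↥(commutator Cfsg.Agent.S2566.O4) ≃* Cfsg.POmega F (Cfsg.quadFormPlus 2 F) :=
    (e₂.trans e₃).symm
  have : Finite (Cfsg.POmega F (Cfsg.quadFormPlus 2 F)) := Finite.of_equiv _ e.toEquiv
  apply steinberg_eighteen
  · rw [← Nat.card_congr e.toEquiv]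
    exact card_commutator_O4
  · rw [← Cfsg.Agent.Lib.Helper15.OrBN.map_center_mulEquiv e, center_commutator_O4,
      Subgroup.map_bot]

end Cfsg.Agent.Lib.Helper15.St18
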