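/-
helper15: leaf MULTIIa (`mult_IIa`) of helper11's S2153 market "SU2" (`notes/S2153_leaves.lean`):
three conjugates of a big totally singular `U` through `w1`, when `om • w1 ∉ U ⊆ w1^⊥`.
-/
import Mathlib
import Cfsg.Agent.Lib.Helper11.Su2Tools
import Cfsg.Agent.Lib.Helper24.Su2P1

set_option autoImplicit false

open Cfsg.Agent.Lib.Helper11.Su2 MulAction
open scoped Pointwise

namespace Cfsg.Agent.Lib.Helper15.Su2Leaf

variable {F V G : Type*} [Field F] [AddCommGroup V] [Module F V] [Group G] [DistribMulAction G V]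
  (S : Setting F V G)

omit [Module F V] in
/-- in an additive subgroup `A` with a subgroup `B` of index at least four there are `a1, a2` with
`a1, a2, a1 + a2 ∉ B` -/
theorem exists_two_outside [Finite V] (A B : AddSubgroup V) (_hBA : B ≤ A)
    (h4 : 4 * Nat.card B ≤ Nat.card A) :
    ∃ a1 ∈ A, ∃ a2 ∈ A, a1 ∉ B ∧ a2 ∉ B ∧ a1 + a2 ∉ B := by
  classical
  have hBpos : 0 < Nat.card B := Nat.card_pos
  have h1 : ∃ a1 ∈ A, a1 ∉ B := by
    by_contra hc
    push Not at hc
    have hle : A ≤ B := hc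
    have := AddSubgroup.card_le_of_le hle
    omega
  obtain ⟨a1, ha1A, ha1B⟩ := h1
  by_contra hc
  push Not at hc
  -- every element of `A` lies in `B` or in `a1 + B`
  have hcov : ∀ a ∈ A, a ∈ B ∨ a1 + a ∈ B := by
    intro a ha
    by_cases haB : a ∈ B
    · exact Or.inl haB
    · exact Or.inr (hc a1 ha1A a ha ha1B haB)
  let f : A → B × Bool := fun a =>
    if h : (a : V) ∈ B then (⟨a, h⟩, false)
    else (⟨a1 + a, (hcov a a.2).resolve_left h⟩, true)
  have hf : Function.Injective f := by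
    intro a a' haa'
    by_cases h : (a : V) ∈ B <;> by_cases h' : (a' : V) ∈ B
    · simp only [f, h, h', dite_true] at haa'
      exact Subtype.ext (congrArg (fun p : B × Bool => (p.1 : V)) haa')
    · simp only [f, h, h', dite_true, dite_false] at haa'
      have := congrArg Prod.snd haa'
      simp at this
    · simp only [f, h, h', dite_true, dite_false] at haa'
      have := congrArg Prod.snd haa'
      simp at this
    · simp only [f, h, h', dite_false] at haa'
      have h5 : a1 + (a : V) = a1 + (a' : V) := congrArg (fun p : B × Bool => (p.1 : V)) haa'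
      exact Subtype.ext (add_left_cancel h5)
  have h6 := Nat.card_le_card_of_injective f hf
  rw [Nat.card_prod, Nat.card_eq_fintype_card (α := Bool), Fintype.card_bool] at h6
  omega

/-- the span of two vectors as an additive subgroup -/
def span2 (x w : V) : AddSubgroup V where
  carrier := {v | ∃ α β : F, v = α • x + β • w}
  add_mem' := by
    rintro _ _ ⟨α, β, rfl⟩ ⟨α', β', rfl⟩
    exact ⟨α + α', β + β', by module⟩
  zero_mem' := ⟨0, 0, by simp⟩
  neg_mem' := by
    rintro _ ⟨α, β, rfl⟩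
    exact ⟨-α, -β, by module⟩

include S in
theorem card_span2_le [Finite V] (x w : V) : Nat.card (span2 (F := F) x w) ≤ 16 := by
  have : Finite F := S.finite_F
  let f : F × F → span2 (F := F) x w := fun p => ⟨p.1 • x + p.2 • w, p.1, p.2, rfl⟩
  have hf : Function.Surjective f := by
    rintro ⟨_, α, β, rfl⟩
    exact ⟨(α, β), rfl⟩
  have h1 := Nat.card_le_card_of_surjective f hf
  rw [Nat.card_prod, S.natCard_F] at h1
  exact h1

theorem mult_IIa [Finite V] {n : ℕ} (hV : Nat.card V = 4 ^ n) (hn : 6 ≤ n) {x : V} (hx0 : x ≠ 0)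
    (hx : S.h x x = 0) (U : AddSubgroup V) (hxU : ∀ a : F, a • x ∈ U)
    (hUx : ∀ u ∈ U, S.h u x = 0) (hU0 : ∀ u ∈ U, S.h u u = 0) (hcard : 32 ≤ Nat.card U)
    {w1 : V} (hw1 : w1 ∈ U) (hw1' : S.om • w1 ∉ U) (hperp : ∀ u ∈ U, S.h u w1 = 0) :
    ∃ u0 ∈ U, (∀ a : F, u0 ≠ a • x) ∧ ∃ g : Fin 3 → G, (∀ i, g i • x = x) ∧
      (∀ i, u0 ∈ g i • (U : Set V)) ∧ Function.Injective (fun i => g i • (U : Set V)) := by
  have hw1x : S.h w1 x = 0 := hUx w1 hw1
  have hxw1 : S.h x w1 = 0 := S.h_eq_zero_symm hw1x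
  have hw1w1 : S.h w1 w1 = 0 := hU0 w1 hw1
  -- `w1` is not a multiple of `x`
  have hw1nx : ∀ a : F, w1 ≠ a • x := by
    intro a ha
    apply hw1'
    rw [ha, smul_smul]
    exact hxU _
  -- multiples of `w1` in `U`
  have hmult : ∀ c : F, c • w1 ∈ U → c + c * c = 0 := by
    intro c hc
    rw [S.tr_eq_zero_iff]
    rcases S.h4 c with h | h | h | h
    · exact Or.inl h
    · exact Or.inr h
    · exfalso; rw [h] at hc; exact hw1' hc
    · exfalso
      rw [h, add_smul, one_smul] at hc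
      apply hw1'
      have := U.sub_mem hc hw1
      rwa [add_sub_cancel_right] at this
  -- the subgroups
  set W : AddSubgroup V := span2 (F := F) x w1 with hW
  have hWom : ∀ u ∈ W, S.om • u ∈ W := by
    rintro _ ⟨α, β, rfl⟩
    exact ⟨S.om * α, S.om * β, by rw [smul_add, smul_smul, smul_smul]⟩
  have hxW : x ∈ W := ⟨1, 0, by simp⟩
  have hw1W : w1 ∈ W := ⟨0, 1, by simp⟩
  set A' : AddSubgroup V := S.perp W with hA'
  set B' : AddSubgroup V := S.perp (W ⊔ U) with hB'
  have hBA : B' ≤ A' := S.perp_anti le_sup_left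
  have hA'x : ∀ a ∈ A', S.h x a = 0 := fun a ha => S.h_eq_zero_of_mem_perp hWom hxW ha
  have hA'w : ∀ a ∈ A', S.h w1 a = 0 := fun a ha => S.h_eq_zero_of_mem_perp hWom hw1W ha
  have hB'mem : ∀ a ∈ A', a ∈ S.perp U → a ∈ B' := by
    intro a haA haU v hv
    obtain ⟨w, hw, u, hu, rfl⟩ := AddSubgroup.mem_sup.mp hv
    rw [S.h_add_left, S.tr_add, haA w hw, haU u hu, add_zero]
  -- cardinalities
  have hc1 := Cfsg.Agent.Lib.Helper24.Su2Leaf.card_mul_card_perp S W
  have hc2 := Cfsg.Agent.Lib.Helper24.Su2Leaf.card_mul_card_perp S (W ⊔ U)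
  have hW16 : Nat.card W ≤ 16 := card_span2_le S x w1
  have hWU : 64 ≤ Nat.card (W ⊔ U : AddSubgroup V) := by
    have hdvd : Nat.card U ∣ Nat.card (W ⊔ U : AddSubgroup V) :=
      AddSubgroup.card_dvd_of_le le_sup_right
    obtain ⟨k, hk⟩ := hdvd
    have hk1 : k ≠ 1 := by
      rintro rfl
      rw [mul_one] at hk
      have heq : U = W ⊔ U := AddSubgroup.eq_of_le_of_card_ge le_sup_right hk.le
      apply hw1'
      rw [heq]
      exact AddSubgroup.mem_sup_left (hWom w1 hw1W)
    have hk0 : k ≠ 0 := by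
      rintro rfl
      rw [mul_zero] at hk
      have : 0 < Nat.card (W ⊔ U : AddSubgroup V) := Nat.card_pos
      omega
    have hk2 : 2 ≤ k := by omega
    calc 64 ≤ Nat.card U * 2 := by omega
      _ ≤ Nat.card U * k := Nat.mul_le_mul_left _ hk2
      _ = Nat.card (W ⊔ U : AddSubgroup V) := hk.symm
  have h4 : 4 * Nat.card B' ≤ Nat.card A' := by
    have h5 : 64 * Nat.card B' ≤ 16 * Nat.card A' := by
      calc 64 * Nat.card B' ≤ Nat.card (W ⊔ U : AddSubgroup V) * Nat.card B' :=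
            Nat.mul_le_mul_right _ hWU
        _ = Nat.card V := hc2
        _ = Nat.card W * Nat.card A' := hc1.symm
        _ ≤ 16 * Nat.card A' := Nat.mul_le_mul_right _ hW16
    omega
  obtain ⟨a1, ha1A, a2, ha2A, ha1B, ha2B, ha12B⟩ := exists_two_outside A' B' hBA h4
  -- the elements `s_a`
  have hstab : ∀ a : V, S.h a w1 = 0 → ∀ c : F, c + c * c = S.h a a →
      S.gq w1 a c • (U : Set V) = (U : Set V) → a ∈ S.perp U := by
    intro a haw c hc hU z hz
    have h1 : S.gq w1 a c • z ∈ S.gq w1 a c • (U : Set V) := Set.smul_mem_smul_set hz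
    rw [hU, S.gq_smul_of_perp hw1w1 haw hc (hperp z hz)] at h1
    have h2 : S.h z a • w1 ∈ U := by
      have := U.sub_mem h1 hz
      rwa [add_sub_cancel_left] at this
    exact hmult _ h2
  have ha1w : S.h a1 w1 = 0 := S.h_eq_zero_symm (hA'w a1 ha1A)
  have ha2w : S.h a2 w1 = 0 := S.h_eq_zero_symm (hA'w a2 ha2A)
  obtain ⟨c1, hc1'⟩ := S.exists_tr_eq (S.h_self_mem a1)
  obtain ⟨c2, hc2'⟩ := S.exists_tr_eq (S.h_self_mem a2)
  set s1 : G := S.gq w1 a1 c1 with hs1
  set s2 : G := S.gq w1 a2 c2 with hs2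
  have hs1x : s1 • x = x := S.gq_smul_of_perp_perp hw1w1 ha1w hc1' hxw1 (hA'x a1 ha1A)
  have hs2x : s2 • x = x := S.gq_smul_of_perp_perp hw1w1 ha2w hc2' hxw1 (hA'x a2 ha2A)
  have hs1w : s1 • w1 = w1 := S.gq_smul_self hw1w1 ha1w hc1'
  have hs2w : s2 • w1 = w1 := S.gq_smul_self hw1w1 ha2w hc2'
  have hne1 : s1 • (U : Set V) ≠ (U : Set V) := fun h =>
    ha1B (hB'mem a1 ha1A (hstab a1 ha1w c1 hc1' h))
  have hne2 : s2 • (U : Set V) ≠ (U : Set V) := fun h =>
    ha2B (hB'mem a2 ha2A (hstab a2 ha2w c2 hc2' h))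
  have hne12 : s1 • (U : Set V) ≠ s2 • (U : Set V) := by
    intro h
    have h1 : (s1⁻¹ * s2) • (U : Set V) = (U : Set V) := by
      rw [mul_smul, ← h, inv_smul_smul]
    have h2 : s1⁻¹ * s2 = S.gq w1 (a1 + a2) (c1 * c1 + c2 + S.h a2 a1) := by
      rw [hs1, hs2, S.gq_inv hw1w1 ha1w hc1', S.gq_mul hw1w1 ha1w ha2w (S.norm_sq hc1') hc2']
    rw [h2] at h1
    have h3 : S.h (a1 + a2) w1 = 0 := by rw [S.h_add_left, ha1w, ha2w, add_zero]
    exact ha12B (hB'mem _ (A'.add_mem ha1A ha2A)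
      (hstab _ h3 _ (S.norm_add (S.norm_sq hc1') hc2') h1))
  refine ⟨w1, hw1, hw1nx, ![1, s1, s2], ?_, ?_, ?_⟩
  · intro i
    fin_cases i
    · exact one_smul G x
    · exact hs1x
    · exact hs2x
  · intro i
    fin_cases i
    · exact ⟨w1, hw1, one_smul G w1⟩
    · exact ⟨w1, hw1, hs1w⟩
    · exact ⟨w1, hw1, hs2w⟩
  · intro i j hij
    fin_cases i <;> fin_cases j
    · rfl
    · exfalso
      change (1 : G) • (U : Set V) = s1 • (U : Set V) at hij
      rw [one_smul] at hij
      exact hne1 hij.symm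
    · exfalso
      change (1 : G) • (U : Set V) = s2 • (U : Set V) at hij
      rw [one_smul] at hij
      exact hne2 hij.symm
    · exfalso
      change s1 • (U : Set V) = (1 : G) • (U : Set V) at hij
      rw [one_smul] at hij
      exact hne1 hij
    · rfl
    · exfalso
      change s1 • (U : Set V) = s2 • (U : Set V) at hij
      exact hne12 hij
    · exfalso
      change s2 • (U : Set V) = (1 : G) • (U : Set V) at hij
      rw [one_smul] at hij
      exact hne2 hij
    · exfalso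
      change s2 • (U : Set V) = s1 • (U : Set V) at hij
      exact hne12 hij.symm
    · rfl

end Cfsg.Agent.Lib.Helper15.Su2Leaf
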