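import Mathlib

/-!
# Algebra of the Suzuki–Tits ovoid (helper15)

`σ : F →+* F` with `σ (σ a) = a ^ 2` over a field with `2 = 0`.
`f x y = x y + x² σ(x) + σ(y)`; anisotropy, translation formula, inversion identity,
the no-three-collinear property in vector form, tangent plane uniqueness.
-/

set_option autoImplicit false

namespace Cfsg.Agent.Lib.Helper15.SuzukiAlg

variable {F : Type*} [Field F] (σ : F →+* F)

/-- the Tits function -/
def f (x y : F) : F := x * y + x ^ 2 * σ x + σ y

theorem f_zero : f σ 0 0 = 0 := by simp [f]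

section
variable (hσ : ∀ a, σ (σ a) = a ^ 2) (h2 : (2 : F) = 0)

include hσ in
theorem sig_f (x y : F) : σ (f σ x y) = σ x * σ y + (σ x) ^ 2 * x ^ 2 + y ^ 2 := by
  simp only [f, map_add, map_mul, map_pow, hσ]

include h2 in
theorem add_self (a : F) : a + a = 0 := by
  have : a + a = 2 * a := by ring
  rw [this, h2, zero_mul]

include h2 in
theorem neg_eq (a : F) : -a = a := by
  have := add_self h2 a
  exact neg_eq_of_add_eq_zero_left this

include h2 in
theorem eq_of_add_eq_zero {a b : F} (h : a + b = 0) : a = b := by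
  have := add_self h2 b
  have h3 : a + b = b + b := by rw [h, this]
  exact add_right_cancel h3

include hσ h2 in
/-- anisotropy of the Tits function -/
theorem aniso {x y : F} (h : f σ x y = 0) : x = 0 ∧ y = 0 := by
  have E : x * y + x ^ 2 * σ x + σ y = 0 := h
  have E' : σ x * σ y + (σ x) ^ 2 * x ^ 2 + y ^ 2 = 0 := by
    rw [← sig_f σ hσ, h, map_zero]
  have key : y * (σ x * x + y) = 0 := by grind
  rcases mul_eq_zero.mp key with hy | hy
  · subst hy
    rw [map_zero] at E
    have hx : x ^ 2 * σ x = 0 := by simpa using E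
    rcases mul_eq_zero.mp hx with hx | hx
    · exact ⟨pow_eq_zero_iff (two_ne_zero) |>.mp hx, rfl⟩
    · exact ⟨(map_eq_zero σ).mp hx, rfl⟩
  · have hy' : y = σ x * x := (eq_of_add_eq_zero h2 hy).symm
    have hsy : σ y = x ^ 2 * σ x := by rw [hy', map_mul, hσ]
    have hx : x ^ 2 * σ x = 0 := by
      rw [hsy, hy'] at E
      grind
    have hx0 : x = 0 := by
      rcases mul_eq_zero.mp hx with hx | hx
      · exact pow_eq_zero_iff (two_ne_zero) |>.mp hx
      · exact (map_eq_zero σ).mp hx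
    subst hx0
    exact ⟨rfl, by rw [hy']; simp⟩

include hσ h2 in
theorem f_ne_zero {x y : F} (h : ¬(x = 0 ∧ y = 0)) : f σ x y ≠ 0 :=
  fun h0 => h (aniso σ hσ h2 h0)

include hσ h2 in
/-- the translation formula -/
theorem f_trans (a b x y : F) :
    f σ (x + a) (y + b + σ a * x) =
      f σ x y + a * y + (b + a * σ a) * x + f σ a b := by
  simp only [f, map_add, map_mul, hσ]
  grind

include hσ h2 in
/-- the inversion identity -/
theorem key (x y : F) :
    x * y * σ (f σ x y) + y ^ 2 * σ y + σ x * (f σ x y) ^ 2 = f σ x y * σ (f σ x y) := by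
  rw [sig_f σ hσ]
  simp only [f]
  grind

include hσ h2 in
theorem key_div {x y : F} (hf : f σ x y ≠ 0) :
    f σ (y / f σ x y) (x / f σ x y) = 1 / f σ x y := by
  have hsf : σ (f σ x y) ≠ 0 := fun h => hf ((map_eq_zero σ).mp h)
  have k := key σ hσ h2 x y
  set d := f σ x y with hd
  have : f σ (y / d) (x / d) = (x * y * σ d + y ^ 2 * σ y + σ x * d ^ 2) / (d ^ 2 * σ d) := by
    simp only [f, map_div₀]
    field_simp
  rw [this, k]
  field_simp

include hσ h2 in
/-- a point on the line through the origin point and another ovoid point -/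
theorem scale_eq_one {t u v : F} (ht : t ≠ 0) (huv : ¬(u = 0 ∧ v = 0))
    (h : f σ (t * u) (t * v) = t * f σ u v) : t = 1 := by
  have hf : f σ u v ≠ 0 := f_ne_zero σ hσ h2 huv
  have hf' : f σ (t * u) (t * v) ≠ 0 := by rw [h]; exact mul_ne_zero ht hf
  have k1 := key_div σ hσ h2 hf
  have k2 := key_div σ hσ h2 hf'
  have e1 : t * v / f σ (t * u) (t * v) = v / f σ u v := by
    rw [h]; field_simp
  have e2 : t * u / f σ (t * u) (t * v) = u / f σ u v := by
    rw [h]; field_simp
  rw [e1, e2, k1, h] at k2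
  have : t * f σ u v = f σ u v := by
    have := congrArg (fun z => z⁻¹) k2
    simpa using this.symm
  have h3 : (t - 1) * f σ u v = 0 := by rw [sub_mul, this, one_mul, sub_self]
  rcases mul_eq_zero.mp h3 with h4 | h4
  · exact sub_eq_zero.mp h4
  · exact absurd h4 hf

end

/-! ### ovoid vectors -/

/-- affine ovoid vector -/
def pv (x y : F) : Fin 4 → F := ![f σ x y, y, x, 1]

/-- the vector of the point at infinity -/
def e0 : Fin 4 → F := ![1, 0, 0, 0]

/-- all ovoid vectors -/
def ov : Option (F × F) → (Fin 4 → F)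
  | none => e0
  | some p => pv σ p.1 p.2

@[simp] theorem pv_zero (x y : F) : pv σ x y 0 = f σ x y := rfl
@[simp] theorem pv_one (x y : F) : pv σ x y 1 = y := rfl
@[simp] theorem pv_two (x y : F) : pv σ x y 2 = x := rfl
@[simp] theorem pv_three (x y : F) : pv σ x y 3 = 1 := rfl
@[simp] theorem e0_zero : (e0 : Fin 4 → F) 0 = 1 := rfl
@[simp] theorem e0_one : (e0 : Fin 4 → F) 1 = 0 := rfl
@[simp] theorem e0_two : (e0 : Fin 4 → F) 2 = 0 := rfl
@[simp] theorem e0_three : (e0 : Fin 4 → F) 3 = 0 := rfl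

theorem pv_ne_zero (x y : F) : pv σ x y ≠ 0 := by
  intro h
  have := congrFun h 3
  simp at this

theorem e0_ne_zero : (e0 : Fin 4 → F) ≠ 0 := by
  intro h
  have := congrFun h 0
  simp at this

theorem ov_ne_zero (c : Option (F × F)) : ov σ c ≠ 0 := by
  rcases c with _ | p
  · exact e0_ne_zero
  · exact pv_ne_zero σ _ _

section
variable (hσ : ∀ a, σ (σ a) = a ^ 2) (h2 : (2 : F) = 0)

include h2 in
theorem indep_inf {a b c x₁ y₁ x₂ y₂ : F} (hne : ¬(x₁ = x₂ ∧ y₁ = y₂))
    (h : a • (e0 : Fin 4 → F) + b • pv σ x₁ y₁ + c • pv σ x₂ y₂ = 0) :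
    a = 0 ∧ b = 0 ∧ c = 0 := by
  have h0 := congrFun h 0
  have h1 := congrFun h 1
  have h2' := congrFun h 2
  have h3 := congrFun h 3
  simp only [Pi.add_apply, Pi.smul_apply, smul_eq_mul, pv_zero, pv_one, pv_two, pv_three,
    e0_zero, e0_one, e0_two, e0_three, Pi.zero_apply, mul_zero, mul_one, zero_add] at h0 h1 h2' h3
  have hc : c = b := (eq_of_add_eq_zero h2 h3).symm
  subst hc
  by_cases hb : c = 0
  · subst hb
    refine ⟨?_, rfl, rfl⟩
    simpa using h0
  · exfalso
    apply hne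
    constructor
    · have : c * (x₁ + x₂) = 0 := by rw [mul_add]; exact h2'
      rcases mul_eq_zero.mp this with h4 | h4
      · exact absurd h4 hb
      · exact eq_of_add_eq_zero h2 h4
    · have : c * (y₁ + y₂) = 0 := by rw [mul_add]; exact h1
      rcases mul_eq_zero.mp this with h4 | h4
      · exact absurd h4 hb
      · exact eq_of_add_eq_zero h2 h4

include h2 in
/-- two of three dependent affine ovoid vectors: if the first coefficient vanishes all do -/
theorem indep_fin_aux {b c x₂ y₂ x₃ y₃ : F} (hne : ¬(x₂ = x₃ ∧ y₂ = y₃))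
    (h : b • pv σ x₂ y₂ + c • pv σ x₃ y₃ = 0) : b = 0 ∧ c = 0 := by
  have := indep_inf σ h2 (a := 0) hne (by rw [zero_smul, zero_add]; exact h)
  exact this.2

include hσ h2 in
theorem indep_fin {a b c x₁ y₁ x₂ y₂ x₃ y₃ : F} (h12 : ¬(x₁ = x₂ ∧ y₁ = y₂))
    (h13 : ¬(x₁ = x₃ ∧ y₁ = y₃)) (h23 : ¬(x₂ = x₃ ∧ y₂ = y₃))
    (h : a • pv σ x₁ y₁ + b • pv σ x₂ y₂ + c • pv σ x₃ y₃ = 0) :
    a = 0 ∧ b = 0 ∧ c = 0 := by
  by_cases ha : a = 0
  · subst ha
    rw [zero_smul, zero_add] at h
    exact ⟨rfl, indep_fin_aux σ h2 h23 h⟩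
  by_cases hb : b = 0
  · subst hb
    rw [zero_smul, add_zero] at h
    have := indep_fin_aux σ h2 h13 h
    exact ⟨this.1, rfl, this.2⟩
  by_cases hc : c = 0
  · subst hc
    rw [zero_smul, add_zero] at h
    have := indep_fin_aux σ h2 h12 h
    exact ⟨this.1, this.2, rfl⟩
  exfalso
  have h0 := congrFun h 0
  have h1 := congrFun h 1
  have h2' := congrFun h 2
  have h3 := congrFun h 3
  simp only [Pi.add_apply, Pi.smul_apply, smul_eq_mul, pv_zero, pv_one, pv_two, pv_three,
    Pi.zero_apply, mul_one] at h0 h1 h2' h3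
  -- c = a + b
  have hc' : c = a + b := (eq_of_add_eq_zero h2 h3).symm
  subst hc'
  -- translate by (x₃, y₃)
  set u₁ := x₁ + x₃ with hu₁
  set u₂ := x₂ + x₃ with hu₂
  set v₁ := y₁ + y₃ + σ x₃ * u₁ with hv₁
  set v₂ := y₂ + y₃ + σ x₃ * u₂ with hv₂
  have ex₁ : x₁ = u₁ + x₃ := by rw [hu₁, add_assoc, add_self h2, add_zero]
  have ex₂ : x₂ = u₂ + x₃ := by rw [hu₂, add_assoc, add_self h2, add_zero]
  have ey₁ : y₁ = v₁ + y₃ + σ x₃ * u₁ := by rw [hv₁]; grind
  have ey₂ : y₂ = v₂ + y₃ + σ x₃ * u₂ := by rw [hv₂]; grind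
  have ef₁ : f σ x₁ y₁ = f σ u₁ v₁ + x₃ * v₁ + (y₃ + x₃ * σ x₃) * u₁ + f σ x₃ y₃ := by
    rw [ex₁, ey₁]; exact f_trans σ hσ h2 x₃ y₃ u₁ v₁
  have ef₂ : f σ x₂ y₂ = f σ u₂ v₂ + x₃ * v₂ + (y₃ + x₃ * σ x₃) * u₂ + f σ x₃ y₃ := by
    rw [ex₂, ey₂]; exact f_trans σ hσ h2 x₃ y₃ u₂ v₂
  have ru : a * u₁ = b * u₂ := by
    apply eq_of_add_eq_zero h2
    rw [hu₁, hu₂]; grind
  have rv : a * v₁ = b * v₂ := by
    apply eq_of_add_eq_zero h2
    have : a * (y₁ + y₃) + b * (y₂ + y₃) = 0 := by grind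
    rw [hv₁, hv₂]
    have ru' : a * u₁ + b * u₂ = 0 := by rw [ru]; exact add_self h2 _
    grind
  have rf : a * f σ u₁ v₁ = b * f σ u₂ v₂ := by
    apply eq_of_add_eq_zero h2
    rw [ef₁, ef₂] at h0
    have ru' : a * u₁ + b * u₂ = 0 := by rw [ru]; exact add_self h2 _
    have rv' : a * v₁ + b * v₂ = 0 := by rw [rv]; exact add_self h2 _
    grind
  -- t = b / a
  have hu : u₁ = (b / a) * u₂ := by field_simp; rw [mul_comm]; exact ru
  have hv : v₁ = (b / a) * v₂ := by field_simp; rw [mul_comm]; exact rv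
  have hf : f σ ((b / a) * u₂) ((b / a) * v₂) = (b / a) * f σ u₂ v₂ := by
    rw [← hu, ← hv]; field_simp; rw [mul_comm]; exact rf
  have huv : ¬(u₂ = 0 ∧ v₂ = 0) := by
    rintro ⟨h5, h6⟩
    apply h23
    have : x₂ = x₃ := eq_of_add_eq_zero h2 h5
    refine ⟨this, ?_⟩
    rw [hv₂, h5, mul_zero, add_zero] at h6
    exact eq_of_add_eq_zero h2 h6
  have ht := scale_eq_one σ hσ h2 (div_ne_zero hb ha) huv hf
  have hab : b = a := by
    field_simp at ht
    exact ht
  apply hc
  rw [hab]; exact add_self h2 a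

/-- the standard alternating form -/
def B (v w : Fin 4 → F) : F := v 0 * w 3 + v 1 * w 2 + v 2 * w 1 + v 3 * w 0

theorem B_comm (v w : Fin 4 → F) : B v w = B w v := by
  simp only [B]; ring

include h2 in
theorem B_self (v : Fin 4 → F) : B v v = 0 := by
  simp only [B]
  have : v 0 * v 3 + v 1 * v 2 + v 2 * v 1 + v 3 * v 0 = 2 * (v 0 * v 3 + v 1 * v 2) := by ring
  rw [this, h2, zero_mul]

include hσ h2 in
theorem B_pv_pv (x y x' y' : F) :
    B (pv σ x y) (pv σ x' y') = f σ (x' + x) (y' + y + σ x * (x' + x)) := by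
  have e1 : x' = (x' + x) + x := by rw [add_assoc, add_self h2, add_zero]
  have e2 : y' = (y' + y + σ x * (x' + x)) + y + σ x * (x' + x) := by grind
  have := f_trans σ hσ h2 x y (x' + x) (y' + y + σ x * (x' + x))
  rw [← e1, ← e2] at this
  simp only [B, pv_zero, pv_one, pv_two, pv_three]
  grind

include hσ h2 in
theorem B_pv_pv_ne {x y x' y' : F} (h : ¬(x = x' ∧ y = y')) :
    B (pv σ x y) (pv σ x' y') ≠ 0 := by
  rw [B_pv_pv σ hσ h2]
  apply f_ne_zero σ hσ h2
  rintro ⟨h5, h6⟩
  apply h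
  have : x' = x := eq_of_add_eq_zero h2 h5
  refine ⟨this.symm, ?_⟩
  rw [h5, mul_zero, add_zero] at h6
  exact (eq_of_add_eq_zero h2 h6).symm

theorem B_e0_pv (x y : F) : B (e0 : Fin 4 → F) (pv σ x y) = 1 := by
  simp [B]

include hσ h2 in
theorem B_ov_ne {c d : Option (F × F)} (h : c ≠ d) : B (ov σ c) (ov σ d) ≠ 0 := by
  rcases c with _ | p <;> rcases d with _ | q
  · exact absurd rfl h
  · simp only [ov]; rw [B_e0_pv]; exact one_ne_zero
  · simp only [ov]; rw [B_comm, B_e0_pv]; exact one_ne_zero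
  · simp only [ov]
    apply B_pv_pv_ne σ hσ h2
    rintro ⟨h5, h6⟩
    exact h (congrArg some (Prod.ext h5 h6))

theorem ov_smul_inj {c d : Option (F × F)} {k : F} (h : ov σ c = k • ov σ d) : c = d := by
  rcases c with _ | p <;> rcases d with _ | q
  · rfl
  · exfalso
    have h3 := congrFun h 3
    have h0 := congrFun h 0
    simp [ov] at h3 h0
    rw [← h3] at h0
    simp at h0
  · exfalso
    have h3 := congrFun h 3
    simp [ov] at h3
  · have h3 := congrFun h 3
    have h1 := congrFun h 1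
    have h2' := congrFun h 2
    simp [ov] at h3 h1 h2'
    rw [← h3, one_mul] at h1 h2'
    exact congrArg some (Prod.ext h2' h1)

include hσ h2 in
/-- three distinct ovoid vectors are linearly independent -/
theorem indep_ov {c₀ c₁ c₂ : Option (F × F)} (h01 : c₀ ≠ c₁) (h02 : c₀ ≠ c₂) (h12 : c₁ ≠ c₂)
    {a b c : F} (h : a • ov σ c₀ + b • ov σ c₁ + c • ov σ c₂ = 0) :
    a = 0 ∧ b = 0 ∧ c = 0 := by
  have hp : ∀ {p q : F × F}, some p ≠ some q → ¬(p.1 = q.1 ∧ p.2 = q.2) := by
    intro p q hpq h5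
    exact hpq (congrArg some (Prod.ext h5.1 h5.2))
  rcases c₀ with _ | p₀ <;> rcases c₁ with _ | p₁ <;> rcases c₂ with _ | p₂
  · exact absurd rfl h01
  · exact absurd rfl h01
  · exact absurd rfl h02
  · exact indep_inf σ h2 (hp h12) h
  · exact absurd rfl h12
  · simp only [ov] at h
    have h' : b • (e0 : Fin 4 → F) + a • pv σ p₀.1 p₀.2 + c • pv σ p₂.1 p₂.2 = 0 := by
      rw [← h]; abel
    have := indep_inf σ h2 (hp h02) h'
    exact ⟨this.2.1, this.1, this.2.2⟩
  · simp only [ov] at h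
    have h' : c • (e0 : Fin 4 → F) + a • pv σ p₀.1 p₀.2 + b • pv σ p₁.1 p₁.2 = 0 := by
      rw [← h]; abel
    have := indep_inf σ h2 (hp h01) h'
    exact ⟨this.2.1, this.2.2, this.1⟩
  · exact indep_fin σ hσ h2 (hp h01) (hp h02) (hp h12) h

include hσ h2 in
theorem linearIndependent_ov (c : Fin 3 → Option (F × F)) (hc : Function.Injective c) :
    LinearIndependent F (fun i => ov σ (c i)) := by
  rw [Fintype.linearIndependent_iff]
  intro g hg
  rw [Fin.sum_univ_three] at hg
  have h01 : c 0 ≠ c 1 := fun h => by have := hc h; simp at this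
  have h02 : c 0 ≠ c 2 := fun h => by have := hc h; simp at this
  have h12 : c 1 ≠ c 2 := fun h => by have := hc h; simp at this
  have := indep_ov σ hσ h2 h01 h02 h12 hg
  intro i
  fin_cases i
  · exact this.1
  · exact this.2.1
  · exact this.2.2

/-! ### tangent planes -/

include hσ h2 in
/-- a non-zero solution of `σ v + α v = 0` -/
theorem exists_root_one {α : F} (hα : α ≠ 0) : ∃ v : F, v ≠ 0 ∧ f σ 0 v + α * v = 0 := by
  refine ⟨α * σ α, mul_ne_zero hα (fun h => hα ((map_eq_zero σ).mp h)), ?_⟩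
  simp only [f, map_mul, hσ]
  grind

include hσ h2 in
/-- a non-zero solution of `u² σ u + β u = 0` -/
theorem exists_root_two {β : F} (hβ : β ≠ 0) : ∃ u : F, u ≠ 0 ∧ f σ u 0 + β * u = 0 := by
  have hsβ : σ β ≠ 0 := fun h => hβ ((map_eq_zero σ).mp h)
  refine ⟨σ β / β, div_ne_zero hsβ hβ, ?_⟩
  simp only [f, map_div₀, hσ, map_zero, mul_zero, zero_add, add_zero]
  field_simp
  grind

include hσ h2 in
/-- if `f u v + α v + β u` vanishes only at the origin then `α = β = 0` -/
theorem tangent_origin {α β : F} (h : ∀ u v : F, ¬(u = 0 ∧ v = 0) → f σ u v + α * v + β * u ≠ 0) :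
    α = 0 ∧ β = 0 := by
  constructor
  · by_contra hα
    obtain ⟨v, hv, hv'⟩ := exists_root_one σ hσ h2 hα
    apply h 0 v (fun h5 => hv h5.2)
    rw [mul_zero, add_zero]; exact hv'
  · by_contra hβ
    obtain ⟨u, hu, hu'⟩ := exists_root_two σ hσ h2 hβ
    apply h u 0 (fun h5 => hu h5.1)
    rw [mul_zero, add_zero]; exact hu'

/-- the form as a dot product with the reversed vector -/
def Jv (v : Fin 4 → F) : Fin 4 → F := ![v 3, v 2, v 1, v 0]

theorem dot_Jv (v w : Fin 4 → F) : Jv v ⬝ᵥ w = B v w := by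
  simp only [dotProduct, Fin.sum_univ_four, Jv, B]
  simp
  ring

include hσ h2 in
/-- uniqueness of the tangent plane at an ovoid point -/
theorem tangent_unique (w : Fin 4 → F) (c₀ : Option (F × F)) (h0 : w ⬝ᵥ ov σ c₀ = 0)
    (hne : ∀ c, c ≠ c₀ → w ⬝ᵥ ov σ c ≠ 0) : ∃ k : F, w = k • Jv (ov σ c₀) := by
  rcases c₀ with _ | ⟨a, b⟩
  · -- at infinity
    have hw0 : w 0 = 0 := by
      simpa [ov, dotProduct, Fin.sum_univ_four] using h0
    have hfin : ∀ x y : F, w 1 * y + w 2 * x + w 3 ≠ 0 := by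
      intro x y
      have := hne (some (x, y)) (by simp)
      simpa [ov, dotProduct, Fin.sum_univ_four, hw0, add_assoc] using this
    have hw1 : w 1 = 0 := by
      by_contra h1
      apply hfin 0 (-(w 3) / w 1)
      field_simp
      ring
    have hw2 : w 2 = 0 := by
      by_contra h1
      apply hfin (-(w 3) / w 2) 0
      field_simp
      ring
    refine ⟨w 3, ?_⟩
    funext i
    fin_cases i <;> simp [Jv, ov, hw0, hw1, hw2]
  · -- at an affine point
    have hw0 : w 0 ≠ 0 := by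
      have := hne none (by simp)
      simpa [ov, dotProduct, Fin.sum_univ_four] using this
    have hval : ∀ x y : F, w ⬝ᵥ ov σ (some (x, y)) = w 0 * f σ x y + w 1 * y + w 2 * x + w 3 := by
      intro x y
      simp [ov, dotProduct, Fin.sum_univ_four]
    rw [hval] at h0
    set α := a + w 1 / w 0 with hα
    set β := b + a * σ a + (w 1 / w 0) * σ a + w 2 / w 0 with hβ
    have hab : α = 0 ∧ β = 0 := by
      apply tangent_origin σ hσ h2
      intro u v huv
      have hne' : some (u + a, v + b + σ a * u) ≠ some (a, b) := by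
        intro h5
        apply huv
        have h6 := Option.some.inj h5
        have h7 : u + a = a := congrArg Prod.fst h6
        have h8 : v + b + σ a * u = b := congrArg Prod.snd h6
        have hu : u = 0 := by simpa using h7
        subst hu
        refine ⟨rfl, ?_⟩
        simpa using h8
      have := hne _ hne'
      rw [hval, f_trans σ hσ h2] at this
      intro h9
      apply this
      have h10 : w 0 * (f σ u v + α * v + β * u) = 0 := by rw [h9, mul_zero]
      rw [hα, hβ] at h10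
      field_simp at h10
      grind
    have h1 : w 1 = w 0 * a := by
      have := hab.1
      rw [hα] at this
      have h5 : w 1 / w 0 = a := (eq_of_add_eq_zero h2 this).symm
      field_simp at h5
      rw [h5, mul_comm]
    have h2'' : w 2 = w 0 * b := by
      have := hab.2
      rw [hβ, h1] at this
      field_simp at this
      grind
    have h3 : w 3 = w 0 * f σ a b := by
      rw [h1, h2''] at h0
      grind
    refine ⟨w 0, ?_⟩
    funext i
    fin_cases i <;> simp [Jv, ov, h1, h2'', h3]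

end

end Cfsg.Agent.Lib.Helper15.SuzukiAlg
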