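import Cfsg.Agent.Lib.Helper15.SuzukiFpf

set_option autoImplicit false

namespace Cfsg.Agent.Lib.Helper15.SuzukiField

open Cfsg.Agent.Lib.Helper15.SuzukiAlg Cfsg.Agent.Lib.Helper15.SuzukiOvoid
  Cfsg.Agent.Lib.Helper15.SuzukiGroup Cfsg.Agent.Lib.Helper15.SuzukiOrder
  Cfsg.Agent.Lib.Helper15.SuzukiZassenhaus
  Cfsg.Agent.Lib.Helper15.SuzukiIrred Cfsg.Agent.Lib.Helper15.SuzukiFpf Cfsg.Agent.S0331 Matrix Polynomial

variable {F : Type*} [Field F] [Fintype F] {m : ℕ}

/-- the centraliser algebra of a matrix -/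
abbrev Cent (M : Matrix (Fin 4) (Fin 4) F) : Subalgebra F (Matrix (Fin 4) (Fin 4) F) :=
  Subalgebra.centralizer F ({M} : Set (Matrix (Fin 4) (Fin 4) F))

omit [Fintype F] in
theorem mem_Cent {M z : Matrix (Fin 4) (Fin 4) F} : z ∈ Cent M ↔ z * M = M * z := by
  rw [Subalgebra.mem_centralizer_iff]
  constructor
  · intro h; exact (h _ rfl).symm
  · intro h g hg
    rw [Set.mem_singleton_iff] at hg
    subst hg
    exact h.symm

section
variable (hF : Fintype.card F = 2 ^ (2 * m + 1)) {p : ℕ} [hp : Fact p.Prime]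
    (hp2 : p ≠ 2) (hdvd : p ∣ (2 ^ (2 * m + 1)) ^ 2 + 1)
    (y : Matrix.SpecialLinearGroup (Fin 4) F) (hy : orderOf y = p)

include hF hp2 hdvd hy in
theorem Cent_comm (a b : Cent (y : Matrix (Fin 4) (Fin 4) F)) : a * b = b * a :=
  Subtype.ext (centralizer_comm hF hp2 hdvd y hy (mem_Cent.mp a.2) (mem_Cent.mp b.2))

include hF hp2 hdvd hy in
theorem Cent_nzd (a b : Cent (y : Matrix (Fin 4) (Fin 4) F)) (hab : a * b = 0) : a = 0 ∨ b = 0 := by
  obtain ⟨a, ha⟩ := a
  obtain ⟨b, hb⟩ := b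
  have hab' : a * b = 0 := congrArg Subtype.val hab
  by_cases ha0 : a = 0
  · left; exact Subtype.ext ha0
  · right
    apply Subtype.ext
    show b = 0
    apply Matrix.toLin'.injective
    apply LinearMap.ext
    intro w
    rw [Matrix.toLin'_apply]
    have h1 : a *ᵥ (b *ᵥ w) = 0 := by rw [Matrix.mulVec_mulVec, hab', Matrix.zero_mulVec]
    rw [mulVec_injective_of_comm hF hp2 hdvd y hy (mem_Cent.mp ha) ha0 h1]
    simp

/-- the commutative ring structure on the centraliser algebra -/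
@[reducible] def commRing : CommRing (Cent (y : Matrix (Fin 4) (Fin 4) F)) :=
  { (inferInstance : Ring (Cent (y : Matrix (Fin 4) (Fin 4) F))) with
    mul_comm := Cent_comm hF hp2 hdvd y hy }

theorem isDomain : @IsDomain (Cent (y : Matrix (Fin 4) (Fin 4) F)) (commRing hF hp2 hdvd y hy).toSemiring := by
  let _ := commRing hF hp2 hdvd y hy
  have : NoZeroDivisors (Cent (y : Matrix (Fin 4) (Fin 4) F)) :=
    ⟨fun {a b} h => Cent_nzd hF hp2 hdvd y hy a b h⟩
  exact NoZeroDivisors.to_isDomain _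

include hF hp2 hdvd hy in
/-- roots of the characteristic polynomial inside the centraliser field are Frobenius conjugates -/
theorem frob_conj (X X' : Cent (y : Matrix (Fin 4) (Fin 4) F))
    (hroot' : aeval (X' : Matrix (Fin 4) (Fin 4) F) (X : Matrix (Fin 4) (Fin 4) F).charpoly = 0)
    (hdist : ∀ i j, i < 4 → j < 4 → X ^ ((2 ^ (2 * m + 1)) ^ i) = X ^ ((2 ^ (2 * m + 1)) ^ j) → i = j) :
    ∃ i, i < 4 ∧ X' = X ^ ((2 ^ (2 * m + 1)) ^ i) := by
  classical
  letI := commRing hF hp2 hdvd y hy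
  haveI := isDomain hF hp2 hdvd y hy
  set χ : F[X] := (X : Matrix (Fin 4) (Fin 4) F).charpoly with hχ
  have h0 : aeval X χ = 0 := by
    apply Subtype.ext
    rw [aeval_subalgebra_coe]
    exact Matrix.aeval_self_charpoly _
  have h0' : aeval X' χ = 0 := by
    apply Subtype.ext
    rw [aeval_subalgebra_coe]
    exact hroot'
  have hinj : Function.Injective (algebraMap F (Cent (y : Matrix (Fin 4) (Fin 4) F))) :=
    (algebraMap F (Cent (y : Matrix (Fin 4) (Fin 4) F))).injective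
  haveI : CharP F 2 := CharTwo.of_one_ne_zero_of_two_eq_zero one_ne_zero (two_eq_zero hF)
  haveI : CharP (Cent (y : Matrix (Fin 4) (Fin 4) F)) 2 := charP_of_injective_algebraMap hinj 2
  set ψ : Cent (y : Matrix (Fin 4) (Fin 4) F) →+* Cent (y : Matrix (Fin 4) (Fin 4) F) :=
    iterateFrobenius (Cent (y : Matrix (Fin 4) (Fin 4) F)) 2 (2 * m + 1) with hψ
  have hψa : ∀ z : Cent (y : Matrix (Fin 4) (Fin 4) F), ψ z = z ^ (2 ^ (2 * m + 1)) := fun z => rfl
  have hcomp : (algebraMap F (Cent (y : Matrix (Fin 4) (Fin 4) F))).comp (RingHom.id F) =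
      ψ.comp (algebraMap F (Cent (y : Matrix (Fin 4) (Fin 4) F))) := by
    ext c
    rw [RingHom.comp_apply, RingHom.comp_apply, RingHom.id_apply, hψa, ← map_pow, ← hF,
      FiniteField.pow_card]
  have hstep : ∀ z : Cent (y : Matrix (Fin 4) (Fin 4) F), aeval z χ = 0 → aeval (z ^ (2 ^ (2 * m + 1))) χ = 0 := by
    intro z hz
    have := map_aeval_eq_aeval_map hcomp χ z
    rw [hz, map_zero, Polynomial.map_id, hψa] at this
    exact this.symm
  have hroots : ∀ i : ℕ, aeval (X ^ ((2 ^ (2 * m + 1)) ^ i)) χ = 0 := by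
    intro i
    induction i with
    | zero => simpa using h0
    | succ i ih =>
      have := hstep _ ih
      rwa [← pow_mul, ← pow_succ] at this
  set χK : (Cent (y : Matrix (Fin 4) (Fin 4) F))[X] :=
    χ.map (algebraMap F (Cent (y : Matrix (Fin 4) (Fin 4) F))) with hχK
  have hmonic : χK.Monic := (Matrix.charpoly_monic _).map _
  have hne : χK ≠ 0 := hmonic.ne_zero
  have hdeg : χK.natDegree = 4 := by
    rw [hχK, (Matrix.charpoly_monic _).natDegree_map, Matrix.charpoly_natDegree_eq_dim,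
      Fintype.card_fin]
  have hroot_iff : ∀ z : Cent (y : Matrix (Fin 4) (Fin 4) F), z ∈ χK.roots ↔ aeval z χ = 0 := by
    intro z
    rw [Polynomial.mem_roots hne, Polynomial.IsRoot.def, hχK, Polynomial.eval_map_algebraMap]
  by_contra hcon
  push Not at hcon
  set S : Finset (Cent (y : Matrix (Fin 4) (Fin 4) F)) :=
    (Finset.range 4).image (fun i => X ^ ((2 ^ (2 * m + 1)) ^ i)) with hS
  have hScard : S.card = 4 := by
    rw [hS, Finset.card_image_of_injOn, Finset.card_range]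
    intro i hi j hj hij
    exact hdist i j (Finset.mem_range.mp hi) (Finset.mem_range.mp hj) hij
  have hX'S : X' ∉ S := by
    intro h
    rw [hS, Finset.mem_image] at h
    obtain ⟨i, hi, hiX⟩ := h
    exact hcon i (Finset.mem_range.mp hi) hiX.symm
  have hsub : insert X' S ⊆ χK.roots.toFinset := by
    intro z hz
    rw [Multiset.mem_toFinset, hroot_iff]
    rw [Finset.mem_insert] at hz
    rcases hz with rfl | hz
    · exact h0'
    · rw [hS, Finset.mem_image] at hz
      obtain ⟨i, -, rfl⟩ := hz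
      exact hroots i
  have h1 := Finset.card_le_card hsub
  rw [Finset.card_insert_of_notMem hX'S, hScard] at h1
  have h2 := χK.roots.toFinset_card_le
  have h3 := Polynomial.card_roots' χK
  omega

end

variable (hF : Fintype.card F = 2 ^ (2 * m + 1))

omit [Fintype F] in
theorem mat_pow (g : Cfsg.Sz F m) (n : ℕ) : mat (g ^ n) = mat g ^ n := by
  induction n with
  | zero => rfl
  | succ n ih => rw [pow_succ, pow_succ, mat_mul, ih]

omit [Fintype F] in
theorem mat_one : mat (1 : Cfsg.Sz F m) = 1 := rfl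

include hF in
/-- conjugates of a fixed-point-free element inside its centraliser are Frobenius powers -/
theorem fpf_conj_pow (hm : 1 ≤ m) {x : Cfsg.Sz F m} (hx : IsFpf x) {n : Cfsg.Sz F m}
    (hn : (n * x * n⁻¹) * x = x * (n * x * n⁻¹)) :
    ∃ i, i < 4 ∧ n * x * n⁻¹ = x ^ ((2 ^ (2 * m + 1)) ^ i) := by
  obtain ⟨p, k, hp, hp2, hpN, hk⟩ := hx.exists_prime_pow hF hm
  have : Fact p.Prime := ⟨hp⟩
  have hy : orderOf ((x ^ k : Cfsg.Sz F m) : Matrix.SpecialLinearGroup (Fin 4) F) = p := by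
    rw [Subgroup.orderOf_coe]; exact hk
  have hxk : x * x ^ k = x ^ k * x := by rw [← pow_succ', ← pow_succ]
  have hnk : (n * x * n⁻¹) * x ^ k = x ^ k * (n * x * n⁻¹) :=
    (Commute.pow_right (show Commute (n * x * n⁻¹) x from hn) k).eq
  have hX : mat x ∈ Cent (((x ^ k : Cfsg.Sz F m) : Matrix.SpecialLinearGroup (Fin 4) F) :
      Matrix (Fin 4) (Fin 4) F) := mem_Cent.mpr (mat_comm hxk)
  have hX' : mat (n * x * n⁻¹) ∈ Cent (((x ^ k : Cfsg.Sz F m) :
      Matrix.SpecialLinearGroup (Fin 4) F) : Matrix (Fin 4) (Fin 4) F) :=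
    mem_Cent.mpr (mat_comm hnk)
  have hroot : aeval (mat (n * x * n⁻¹)) (mat x).charpoly = 0 := by
    have h1 : (mat (n * x * n⁻¹)).charpoly = (mat x).charpoly := by
      rw [mat_mul, mat_mul, mul_assoc, Matrix.charpoly_mul_comm, mul_assoc, ← mat_mul,
        inv_mul_cancel, mat_one, mul_one]
    rw [← h1]
    exact Matrix.aeval_self_charpoly _
  have hpx : p ∣ orderOf x := by
    rw [← hk]; exact orderOf_pow_dvd k
  have hdist : ∀ i j, i < 4 → j < 4 →
      (⟨mat x, hX⟩ : Cent (((x ^ k : Cfsg.Sz F m) : Matrix.SpecialLinearGroup (Fin 4) F) :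
        Matrix (Fin 4) (Fin 4) F)) ^ ((2 ^ (2 * m + 1)) ^ i) =
      ⟨mat x, hX⟩ ^ ((2 ^ (2 * m + 1)) ^ j) → i = j := by
    have key : ∀ i j, i < j → j < 4 → x ^ ((2 ^ (2 * m + 1)) ^ i) = x ^ ((2 ^ (2 * m + 1)) ^ j) →
        False := by
      intro i j hij hj h
      rw [pow_eq_pow_iff_modEq] at h
      have h1 : (2 ^ (2 * m + 1)) ^ i ≡ (2 ^ (2 * m + 1)) ^ j [MOD p] := h.of_dvd hpx
      have h2 := Nat.ModEq.mul_right ((2 ^ (2 * m + 1)) ^ (4 - j)) h1
      rw [← pow_add, ← pow_add, show j + (4 - j) = 4 by omega] at h2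
      exact pow_ne_of_dvd hp2 hpN (show i + (4 - j) = 1 ∨ i + (4 - j) = 2 ∨ i + (4 - j) = 3 by omega)
        h2.symm
    intro i j hi hj h
    have h' : x ^ ((2 ^ (2 * m + 1)) ^ i) = x ^ ((2 ^ (2 * m + 1)) ^ j) := by
      apply mat_inj
      rw [mat_pow, mat_pow]
      have := congrArg Subtype.val h
      simpa using this
    rcases Nat.lt_trichotomy i j with h1 | h1 | h1
    · exact (key i j h1 hj h').elim
    · exact h1
    · exact (key j i h1 hi h'.symm).elim
  obtain ⟨i, hi, hiX⟩ := frob_conj hF hp2 hpN _ hy ⟨mat x, hX⟩ ⟨mat (n * x * n⁻¹), hX'⟩ hroot hdist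
  refine ⟨i, hi, ?_⟩
  apply mat_inj
  rw [mat_pow]
  have := congrArg Subtype.val hiX
  simpa using this

include hF in
/-- the centraliser of a fixed-point-free element is cyclic -/
theorem cent_cyclic (hm : 1 ≤ m) {x : Cfsg.Sz F m} (hx : IsFpf x) :
    IsCyclic (Subgroup.centralizer ({x} : Set (Cfsg.Sz F m))) := by
  obtain ⟨p, k, hp, hp2, hpN, hk⟩ := hx.exists_prime_pow hF hm
  have : Fact p.Prime := ⟨hp⟩
  have hy : orderOf ((x ^ k : Cfsg.Sz F m) : Matrix.SpecialLinearGroup (Fin 4) F) = p := by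
    rw [Subgroup.orderOf_coe]; exact hk
  letI := commRing hF hp2 hpN _ hy
  haveI := isDomain hF hp2 hpN _ hy
  have hmem : ∀ h : Subgroup.centralizer ({x} : Set (Cfsg.Sz F m)),
      mat (h : Cfsg.Sz F m) ∈ Cent (((x ^ k : Cfsg.Sz F m) :
        Matrix.SpecialLinearGroup (Fin 4) F) : Matrix (Fin 4) (Fin 4) F) := by
    intro h
    have h1 := Subgroup.mem_centralizer_singleton_iff.mp h.2
    exact mem_Cent.mpr (mat_comm (Commute.pow_right (show Commute (h : Cfsg.Sz F m) x from h1) k).eq)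
  let f : Subgroup.centralizer ({x} : Set (Cfsg.Sz F m)) →*
      Cent (((x ^ k : Cfsg.Sz F m) : Matrix.SpecialLinearGroup (Fin 4) F) :
        Matrix (Fin 4) (Fin 4) F) :=
    { toFun := fun h => ⟨mat (h : Cfsg.Sz F m), hmem h⟩
      map_one' := rfl
      map_mul' := fun a b => rfl }
  apply isCyclic_of_injective_ringHom f
  intro a b hab
  apply Subtype.ext
  apply mat_inj
  have : (f a : Matrix (Fin 4) (Fin 4) F) = f b := congrArg Subtype.val hab
  exact this

include hF in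
theorem three_not_dvd_card (hm : 1 ≤ m) : ¬ 3 ∣ Nat.card (Cfsg.Sz F m) := by
  rw [card_Sz' hF hm]
  have h1 : 2 ^ (2 * m + 1) % 3 = 2 := by
    rw [pow_succ, pow_mul, Nat.mul_mod, Nat.pow_mod]
    norm_num
  have h2 : (2 ^ (2 * m + 1)) ^ 2 % 3 = 1 := by
    rw [Nat.pow_mod, h1]
  have h3 : ((2 ^ (2 * m + 1)) ^ 2 + 1) % 3 = 2 := by omega
  have h4 : (2 ^ (2 * m + 1) - 1) % 3 = 1 := by
    have : 1 ≤ 2 ^ (2 * m + 1) := Nat.one_le_two_pow
    omega
  intro h
  have := Nat.mod_eq_zero_of_dvd h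
  rw [Nat.mul_mod, Nat.mul_mod ((2 ^ (2 * m + 1)) ^ 2), h2, h3, h4] at this
  norm_num at this

include hF in
/-- the normaliser of the centraliser of a fixed-point-free element -/
theorem card_normalizer (hm : 1 ≤ m) {x : Cfsg.Sz F m} (hx : IsFpf x) :
    ∃ e : ℕ, (e = 1 ∨ e = 2 ∨ e = 4) ∧
      Nat.card (Subgroup.normalizer
        ((Subgroup.centralizer ({x} : Set (Cfsg.Sz F m)) : Subgroup (Cfsg.Sz F m)) :
          Set (Cfsg.Sz F m))) =
        e * Nat.card (Subgroup.centralizer ({x} : Set (Cfsg.Sz F m))) := by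
  classical
  set A : Subgroup (Cfsg.Sz F m) := Subgroup.centralizer ({x} : Set (Cfsg.Sz F m)) with hA
  set Nm : Subgroup (Cfsg.Sz F m) := Subgroup.normalizer (A : Set (Cfsg.Sz F m)) with hNm
  have hle : A ≤ Nm := Subgroup.le_normalizer
  letI : MulAction Nm (Cfsg.Sz F m) := MulAction.compHom (Cfsg.Sz F m) (MulAut.conj.comp Nm.subtype)
  have hsmul : ∀ (n : Nm) (g : Cfsg.Sz F m), n • g = (n : Cfsg.Sz F m) * g * (n : Cfsg.Sz F m)⁻¹ :=
    fun n g => rfl
  have hstab : MulAction.stabilizer Nm x = A.subgroupOf Nm := by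
    ext n
    rw [MulAction.mem_stabilizer_iff, hsmul, Subgroup.mem_subgroupOf, hA,
      Subgroup.mem_centralizer_singleton_iff]
    constructor
    · intro h
      have : (n : Cfsg.Sz F m) * x = (n : Cfsg.Sz F m) * x * (n : Cfsg.Sz F m)⁻¹ * n := by group
      rw [this, h]
    · intro h
      rw [h]; group
  have hcardstab : Nat.card (MulAction.stabilizer Nm x) = Nat.card A := by
    rw [hstab]
    exact Nat.card_congr (Subgroup.subgroupOfEquivOfLe hle).toEquiv
  have horb : (MulAction.orbit Nm x) ⊆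
      (((Finset.range 4).image (fun i => x ^ ((2 ^ (2 * m + 1)) ^ i)) : Finset (Cfsg.Sz F m)) :
        Set (Cfsg.Sz F m)) := by
    rintro _ ⟨n, rfl⟩
    show n • x ∈ _
    rw [hsmul]
    have hxA : x ∈ A := by
      rw [hA, Subgroup.mem_centralizer_singleton_iff]
    have hnx : (n : Cfsg.Sz F m) * x * (n : Cfsg.Sz F m)⁻¹ ∈ A :=
      (Subgroup.mem_normalizer_iff.mp n.2 x).mp hxA
    rw [hA, Subgroup.mem_centralizer_singleton_iff] at hnx
    obtain ⟨i, hi, hix⟩ := fpf_conj_pow hF hm hx hnx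
    rw [Finset.mem_coe, Finset.mem_image]
    exact ⟨i, Finset.mem_range.mpr hi, hix.symm⟩
  have hind : (MulAction.stabilizer Nm x).index ≤ 4 := by
    rw [MulAction.index_stabilizer]
    calc (MulAction.orbit Nm x).ncard ≤ ((((Finset.range 4).image
          (fun i => x ^ ((2 ^ (2 * m + 1)) ^ i)) : Finset (Cfsg.Sz F m)) : Set (Cfsg.Sz F m))).ncard :=
          Set.ncard_le_ncard horb (Finset.finite_toSet _)
      _ ≤ 4 := by
        rw [Set.ncard_coe_finset]
        exact le_trans Finset.card_image_le (by simp)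
  have hmul := Subgroup.index_mul_card (MulAction.stabilizer Nm x)
  rw [hcardstab] at hmul
  refine ⟨(MulAction.stabilizer Nm x).index, ?_, hmul.symm⟩
  have hpos : (MulAction.stabilizer Nm x).index ≠ 0 := Subgroup.index_ne_zero_of_finite
  have h3 : (MulAction.stabilizer Nm x).index ≠ 3 := by
    intro h
    apply three_not_dvd_card hF hm
    calc 3 ∣ Nat.card Nm := by rw [← hmul, h]; exact dvd_mul_right _ _
      _ ∣ Nat.card (Cfsg.Sz F m) := Subgroup.card_subgroup_dvd_card _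
  omega

end Cfsg.Agent.Lib.Helper15.SuzukiField
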