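import Cfsg.Agent.Lib.Helper15.SuzukiOvoid

/-!
# The Suzuki group preserves the antidiagonal alternating form (helper15)
-/

set_option autoImplicit false

namespace Cfsg.Agent.Lib.Helper15.SuzukiForm

open Cfsg.Agent.Lib.Helper15.SuzukiAlg Cfsg.Agent.Lib.Helper15.SuzukiOvoid Matrix
open scoped Pointwise

variable {F : Type*} [Field F]

/-- elements of the stabiliser of the ovoid permute the ovoid vectors up to scalars -/
theorem stab_ov (h2 : (2 : F) = 0) {m : ℕ} {g : Matrix.SpecialLinearGroup (Fin 4) F}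
    (hg : g ∈ Cfsg.Sz F m) (c : Option (F × F)) :
    ∃ (c' : Option (F × F)) (k : F), k ≠ 0 ∧
      (g : Matrix (Fin 4) (Fin 4) F) *ᵥ ov (sig h2 m) c = k • ov (sig h2 m) c' := by
  have hg' : g • Cfsg.suzukiOvoid F m = Cfsg.suzukiOvoid F m := MulAction.mem_stabilizer_iff.mp hg
  have hP : Projectivization.mk F (ov (sig h2 m) c) (ov_ne_zero _ c) ∈ Cfsg.suzukiOvoid F m :=
    (mem_ovoid_iff h2 m _).mpr ⟨c, rfl⟩
  have hgP := Set.smul_mem_smul_set (a := g) hP
  rw [hg', Projectivization.smul_mk, mem_ovoid_iff h2 m] at hgP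
  obtain ⟨c', hc'⟩ := hgP
  rw [Projectivization.mk_eq_mk_iff] at hc'
  obtain ⟨a, ha⟩ := hc'
  refine ⟨c', (a : F), a.ne_zero, ?_⟩
  exact ha.symm

theorem mulVec_inj (g : Matrix.SpecialLinearGroup (Fin 4) F) {u v : Fin 4 → F}
    (h : (g : Matrix (Fin 4) (Fin 4) F) *ᵥ u = (g : Matrix (Fin 4) (Fin 4) F) *ᵥ v) : u = v := by
  have hu : IsUnit (g : Matrix (Fin 4) (Fin 4) F) := by
    rw [Matrix.isUnit_iff_isUnit_det, g.det_coe]; exact isUnit_one
  exact (Matrix.mulVec_injective_iff_isUnit.mpr hu) h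

theorem suzukiForm_mulVec (v : Fin 4 → F) : Cfsg.suzukiForm F *ᵥ v = Jv v := by
  funext i
  fin_cases i <;> simp [Cfsg.suzukiForm, Jv, Matrix.mulVec, dotProduct, Fin.sum_univ_four]

theorem suzukiForm_mul_self : Cfsg.suzukiForm F * Cfsg.suzukiForm F = 1 := by
  ext i j
  fin_cases i <;> fin_cases j <;>
    simp [Cfsg.suzukiForm, Matrix.mul_apply, Fin.sum_univ_four]

theorem suzukiForm_transpose : (Cfsg.suzukiForm F)ᵀ = Cfsg.suzukiForm F := by
  ext i j
  fin_cases i <;> fin_cases j <;> rfl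

/-- the transported form in terms of `B` -/
theorem form_dot (g : Matrix (Fin 4) (Fin 4) F) (u v : Fin 4 → F) :
    ((gᵀ * Cfsg.suzukiForm F * g) *ᵥ u) ⬝ᵥ v = B (g *ᵥ u) (g *ᵥ v) := by
  rw [← dot_Jv, ← suzukiForm_mulVec, ← Matrix.mulVec_mulVec, ← Matrix.mulVec_mulVec,
    Matrix.mulVec_transpose, dotProduct_comm, Matrix.dotProduct_mulVec, dotProduct_comm]

theorem B_smul_smul (a b : F) (u v : Fin 4 → F) : B (a • u) (b • v) = a * b * B u v := by
  simp only [B, Pi.smul_apply, smul_eq_mul]; ring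

section
variable [Fintype F] {m : ℕ} (hF : Fintype.card F = 2 ^ (2 * m + 1))

include hF in
theorem preserves_form {g : Matrix.SpecialLinearGroup (Fin 4) F} (hg : g ∈ Cfsg.Sz F m) :
    (g : Matrix (Fin 4) (Fin 4) F)ᵀ * Cfsg.suzukiForm F * (g : Matrix (Fin 4) (Fin 4) F) =
      Cfsg.suzukiForm F := by
  have h2 := two_eq_zero hF
  have hσ := sig_sig h2 hF
  set σ := sig h2 m with hσdef
  set G : Matrix (Fin 4) (Fin 4) F := (g : Matrix (Fin 4) (Fin 4) F) with hG
  set M : Matrix (Fin 4) (Fin 4) F := Gᵀ * Cfsg.suzukiForm F * G with hM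
  choose c' k hk hgc using stab_ov h2 hg
  have hinj : Function.Injective c' := by
    intro c d hcd
    have h1 := hgc c
    have h3 := hgc d
    rw [hcd] at h1
    have h4 : G *ᵥ ov σ c = G *ᵥ ((k c / k d) • ov σ d) := by
      rw [Matrix.mulVec_smul, h3, h1, smul_smul, div_mul_cancel₀ _ (hk d)]
    exact ov_smul_inj σ (mulVec_inj g h4)
  -- the transported form on ovoid vectors
  have hB : ∀ c d, (M *ᵥ ov σ c) ⬝ᵥ ov σ d = k c * k d * B (ov σ (c' c)) (ov σ (c' d)) := by
    intro c d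
    rw [hM, form_dot, hgc c, hgc d, B_smul_smul]
  -- tangent planes
  have hT : ∀ c, ∃ l : F, M *ᵥ ov σ c = l • Jv (ov σ c) := by
    intro c
    apply tangent_unique σ hσ h2
    · rw [hB, B_self h2, mul_zero]
    · intro d hd
      rw [hB]
      refine mul_ne_zero (mul_ne_zero (hk c) (hk d)) ?_
      exact B_ov_ne σ hσ h2 (fun h => hd (hinj h).symm)
  choose l hl using hT
  -- the scalars agree
  have hMsymm : ∀ u v : Fin 4 → F, (M *ᵥ u) ⬝ᵥ v = (M *ᵥ v) ⬝ᵥ u := by
    intro u v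
    rw [hM, form_dot, form_dot, B_comm]
  have hlconst : ∀ c d, c ≠ d → l c = l d := by
    intro c d hcd
    have h1 := hMsymm (ov σ c) (ov σ d)
    rw [hl c, hl d, smul_dotProduct, smul_dotProduct, dot_Jv, dot_Jv, B_comm (ov σ d)] at h1
    have h3 := B_ov_ne σ hσ h2 hcd
    simp only [smul_eq_mul] at h1
    exact mul_right_cancel₀ h3 h1
  set l₀ := l none with hl₀
  have hl' : ∀ c, M *ᵥ ov σ c = l₀ • (Cfsg.suzukiForm F *ᵥ ov σ c) := by
    intro c
    rw [hl c, suzukiForm_mulVec]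
    by_cases hc : c = none
    · rw [hc]
    · rw [hlconst c none hc]
  -- the difference matrix kills the ovoid vectors
  set N : Matrix (Fin 4) (Fin 4) F := M - l₀ • Cfsg.suzukiForm F with hN
  have hNov : ∀ c, N *ᵥ ov σ c = 0 := by
    intro c
    rw [hN, Matrix.sub_mulVec, Matrix.smul_mulVec, hl' c, sub_self]
  have e0' : (Pi.single 0 1 : Fin 4 → F) = ov σ none := by
    funext i; fin_cases i <;> simp [ov, e0]
  have e3' : (Pi.single 3 1 : Fin 4 → F) = ov σ (some (0, 0)) := by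
    funext i; fin_cases i <;> simp [ov, pv, f]
  have e1' : (Pi.single 1 1 : Fin 4 → F) =
      ov σ (some (0, 1)) - ov σ none - ov σ (some (0, 0)) := by
    funext i; fin_cases i <;> simp [ov, pv, f, e0]
  have e2' : (Pi.single 2 1 : Fin 4 → F) =
      ov σ (some (1, 0)) - ov σ none - ov σ (some (0, 0)) := by
    funext i; fin_cases i <;> simp [ov, pv, f, e0]
  have hN0 : N = 0 := by
    ext i j
    have hcol : N *ᵥ Pi.single j 1 = 0 := by
      fin_cases j
      · exact e0' ▸ hNov _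
      · show N *ᵥ Pi.single 1 1 = 0
        rw [e1', Matrix.mulVec_sub, Matrix.mulVec_sub, hNov, hNov, hNov]; simp
      · show N *ᵥ Pi.single 2 1 = 0
        rw [e2', Matrix.mulVec_sub, Matrix.mulVec_sub, hNov, hNov, hNov]; simp
      · exact e3' ▸ hNov _
    rw [Matrix.mulVec_single_one] at hcol
    exact congrFun hcol i
  have hMl : M = l₀ • Cfsg.suzukiForm F := sub_eq_zero.mp hN0
  -- determinants
  have hdetJ : (Cfsg.suzukiForm F).det ≠ 0 := by
    intro h
    have := congrArg Matrix.det (suzukiForm_mul_self (F := F))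
    rw [Matrix.det_mul, h, mul_zero, Matrix.det_one] at this
    exact zero_ne_one this
  have hdet : l₀ ^ 4 = 1 := by
    have h1 := congrArg Matrix.det hMl
    rw [hM, Matrix.det_mul, Matrix.det_mul, Matrix.det_transpose, hG, g.det_coe, one_mul, mul_one,
      Matrix.det_smul, Fintype.card_fin] at h1
    have : (l₀ ^ 4 - 1) * (Cfsg.suzukiForm F).det = 0 := by rw [sub_mul, ← h1]; ring
    rcases mul_eq_zero.mp this with h4 | h4
    · exact sub_eq_zero.mp h4
    · exact absurd h4 hdetJ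
  have hl1 : l₀ = 1 := by
    have : (l₀ + 1) ^ 4 = 0 := by grind
    have := pow_eq_zero_iff (by norm_num) |>.mp this
    exact eq_of_add_eq_zero h2 this
  rw [hMl, hl1, one_smul]

end

end Cfsg.Agent.Lib.Helper15.SuzukiForm
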