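import Cfsg.Agent.S0331
import Mathlib.RingTheory.LittleWedderburn

set_option autoImplicit false

namespace Cfsg.Agent.Lib.Helper15.SuzukiIrred

open Cfsg.Agent.Lib.Helper15.SuzukiAlg Cfsg.Agent.Lib.Helper15.SuzukiOvoid
  Cfsg.Agent.Lib.Helper15.SuzukiGroup Cfsg.Agent.S0331 Matrix

variable {F : Type*} [Field F] [Fintype F] {m : ℕ}

theorem pow_four_modEq_one {p q : ℕ} (h2 : p ∣ q ^ 2 + 1) : q ^ 4 ≡ 1 [MOD p] := by
  have hx : ((q : ZMod p)) ^ 2 + 1 = 0 := by
    have := (ZMod.natCast_eq_zero_iff (q ^ 2 + 1) p).mpr h2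
    push_cast at this
    exact this
  have hx2 : (q : ZMod p) ^ 2 = -1 := eq_neg_of_add_eq_zero_left hx
  rw [← ZMod.natCast_eq_natCast_iff]
  push_cast
  calc (q : ZMod p) ^ 4 = ((q : ZMod p) ^ 2) ^ 2 := by ring
    _ = 1 := by rw [hx2]; ring

/-- an element of prime order `p ∣ q² + 1` acts irreducibly -/
theorem invariant_submodule (hF : Fintype.card F = 2 ^ (2 * m + 1)) {p : ℕ} [hp : Fact p.Prime]
    (hp2 : p ≠ 2) (hdvd : p ∣ (2 ^ (2 * m + 1)) ^ 2 + 1)
    (y : Matrix.SpecialLinearGroup (Fin 4) F) (hy : orderOf y = p)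
    (W : Submodule F (Fin 4 → F))
    (hW : ∀ w ∈ W, (y : Matrix (Fin 4) (Fin 4) F) *ᵥ w ∈ W) : W = ⊥ ∨ W = ⊤ := by
  classical
  set K : Subgroup (Matrix.SpecialLinearGroup (Fin 4) F) := Subgroup.zpowers y with hK
  have hKp : IsPGroup p K := by
    apply IsPGroup.of_card (n := 1)
    rw [Nat.card_zpowers, hy, pow_one]
  have hpow : ∀ (n : ℕ), ∀ w ∈ W, ((y ^ n : Matrix.SpecialLinearGroup (Fin 4) F) :
      Matrix (Fin 4) (Fin 4) F) *ᵥ w ∈ W := by
    intro n
    induction n with
    | zero => intro w hw; simpa using hw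
    | succ n ih =>
      intro w hw
      rw [pow_succ, Matrix.SpecialLinearGroup.coe_mul, ← Matrix.mulVec_mulVec]
      exact ih _ (hW w hw)
  have hKW : ∀ (k : K), ∀ w ∈ W, (k : Matrix.SpecialLinearGroup (Fin 4) F) • w ∈ W := by
    rintro ⟨k, hk⟩ w hw
    rw [hK, ← (isOfFinOrder_of_finite y).mem_powers_iff_mem_zpowers, Submonoid.mem_powers_iff] at hk
    obtain ⟨n, rfl⟩ := hk
    exact hpow n w hw
  let W' : SubMulAction K (Fin 4 → F) :=
    { carrier := W
      smul_mem' := fun k w hw => hKW k w hw }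
  have hmod := hKp.card_modEq_card_fixedPoints W'
  have hfix : Nat.card (MulAction.fixedPoints K W') = 1 := by
    rw [Nat.card_eq_one_iff_unique]
    refine ⟨⟨?_⟩, ⟨⟨⟨0, W.zero_mem⟩, ?_⟩⟩⟩
    · rintro ⟨⟨a, ha⟩, ha'⟩ ⟨⟨b, hb⟩, hb'⟩
      rw [MulAction.mem_fixedPoints] at ha' hb'
      have h1 := congrArg Subtype.val (ha' ⟨y, Subgroup.mem_zpowers y⟩)
      have h2 := congrArg Subtype.val (hb' ⟨y, Subgroup.mem_zpowers y⟩)
      have ha0 : a = 0 := fpf_of_order hF hp2 hdvd y hy a h1
      have hb0 : b = 0 := fpf_of_order hF hp2 hdvd y hy b h2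
      subst ha0; subst hb0; rfl
    · rw [MulAction.mem_fixedPoints]
      intro k
      apply Subtype.ext
      show (k : Matrix.SpecialLinearGroup (Fin 4) F) • (0 : Fin 4 → F) = 0
      exact smul_zero _
  have hcardW : Nat.card W' = (2 ^ (2 * m + 1)) ^ Module.finrank F W := by
    have : Nat.card W' = Nat.card W := rfl
    rw [this, Module.natCard_eq_pow_finrank (K := F), Nat.card_eq_fintype_card, hF]
  rw [hfix, hcardW] at hmod
  have hle : Module.finrank F W ≤ 4 := by
    have := Submodule.finrank_le W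
    simpa using this
  have h4 := pow_four_modEq_one hdvd
  have hd : Module.finrank F W = 0 ∨ Module.finrank F W = 4 := by
    by_contra hcon
    push Not at hcon
    have : Module.finrank F W = 1 ∨ Module.finrank F W = 2 ∨ Module.finrank F W = 3 := by omega
    exact pow_ne_of_dvd hp2 hdvd this (h4.trans hmod.symm)
  rcases hd with hd | hd
  · left; exact Submodule.finrank_eq_zero.mp hd
  · right
    apply Submodule.eq_top_of_finrank_eq
    rw [hd]; simp

/-- a non-zero matrix commuting with an element of prime order `p ∣ q² + 1` is injective -/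
theorem mulVec_injective_of_comm (hF : Fintype.card F = 2 ^ (2 * m + 1)) {p : ℕ} [hp : Fact p.Prime]
    (hp2 : p ≠ 2) (hdvd : p ∣ (2 ^ (2 * m + 1)) ^ 2 + 1)
    (y : Matrix.SpecialLinearGroup (Fin 4) F) (hy : orderOf y = p)
    {c : Matrix (Fin 4) (Fin 4) F} (hc : c * (y : Matrix (Fin 4) (Fin 4) F) = y * c) (hc0 : c ≠ 0)
    {v : Fin 4 → F} (hv : c *ᵥ v = 0) : v = 0 := by
  set W : Submodule F (Fin 4 → F) := LinearMap.ker (Matrix.mulVecLin c) with hW
  have hmem : ∀ w, w ∈ W ↔ c *ᵥ w = 0 := by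
    intro w
    rw [hW, LinearMap.mem_ker, Matrix.mulVecLin_apply]
  have hinv : ∀ w ∈ W, (y : Matrix (Fin 4) (Fin 4) F) *ᵥ w ∈ W := by
    intro w hw
    rw [hmem] at hw ⊢
    rw [Matrix.mulVec_mulVec, hc, ← Matrix.mulVec_mulVec, hw, Matrix.mulVec_zero]
  rcases invariant_submodule hF hp2 hdvd y hy W hinv with h | h
  · have : v ∈ W := (hmem v).mpr hv
    rw [h] at this
    exact (Submodule.mem_bot F).mp this
  · exfalso
    apply hc0
    apply Matrix.toLin'.injective
    apply LinearMap.ext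
    intro w
    have : w ∈ W := by rw [h]; exact Submodule.mem_top
    rw [Matrix.toLin'_apply, (hmem w).mp this]
    simp

/-- matrices commuting with an element of prime order `p ∣ q² + 1` commute with each other -/
theorem centralizer_comm (hF : Fintype.card F = 2 ^ (2 * m + 1)) {p : ℕ} [hp : Fact p.Prime]
    (hp2 : p ≠ 2) (hdvd : p ∣ (2 ^ (2 * m + 1)) ^ 2 + 1)
    (y : Matrix.SpecialLinearGroup (Fin 4) F) (hy : orderOf y = p)
    {c c' : Matrix (Fin 4) (Fin 4) F} (hc : c * (y : Matrix (Fin 4) (Fin 4) F) = y * c)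
    (hc' : c' * (y : Matrix (Fin 4) (Fin 4) F) = y * c') : c * c' = c' * c := by
  classical
  set R : Subring (Matrix (Fin 4) (Fin 4) F) :=
    Subring.centralizer ({(y : Matrix (Fin 4) (Fin 4) F)} : Set (Matrix (Fin 4) (Fin 4) F)) with hR
  have hmemR : ∀ z : Matrix (Fin 4) (Fin 4) F, z ∈ R ↔ z * (y : Matrix (Fin 4) (Fin 4) F) = y * z := by
    intro z
    rw [hR, Subring.mem_centralizer_iff]
    constructor
    · intro h; exact (h _ rfl).symm
    · intro h g hg
      rw [Set.mem_singleton_iff] at hg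
      subst hg
      exact h.symm
  have hnzd : NoZeroDivisors R := by
    constructor
    rintro ⟨a, ha⟩ ⟨b, hb⟩ hab
    have hab' : a * b = 0 := congrArg Subtype.val hab
    by_cases ha0 : a = 0
    · left; exact Subtype.ext ha0
    · right
      apply Subtype.ext
      show b = 0
      apply Matrix.toLin'.injective
      apply LinearMap.ext
      intro w
      rw [Matrix.toLin'_apply]
      have h1 : a *ᵥ (b *ᵥ w) = 0 := by rw [Matrix.mulVec_mulVec, hab', Matrix.zero_mulVec]
      rw [mulVec_injective_of_comm hF hp2 hdvd y hy ((hmemR a).mp ha) ha0 h1]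
      simp
  have hdom : IsDomain R := NoZeroDivisors.to_isDomain R
  have hfield := Finite.isDomain_to_isField R
  have := hfield.mul_comm ⟨c, (hmemR c).mpr hc⟩ ⟨c', (hmemR c').mpr hc'⟩
  exact congrArg Subtype.val this

end Cfsg.Agent.Lib.Helper15.SuzukiIrred
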