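import Cfsg.Agent.Lib.Helper15.SuzukiElements
import Cfsg.Agent.Lib.Helper15.SuzukiIrred
import Cfsg.Agent.Lib.Helper15.ZassenhausCount

set_option autoImplicit false

namespace Cfsg.Agent.Lib.Helper15.SuzukiFpf

open Cfsg.Agent.Lib.Helper15.SuzukiAlg Cfsg.Agent.Lib.Helper15.SuzukiOvoid
  Cfsg.Agent.Lib.Helper15.SuzukiForm Cfsg.Agent.Lib.Helper15.SuzukiMat
  Cfsg.Agent.Lib.Helper15.SuzukiGroup Cfsg.Agent.Lib.Helper15.SuzukiOrder
  Cfsg.Agent.Lib.Helper15.SuzukiSylow Cfsg.Agent.Lib.Helper15.SuzukiZassenhaus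
  Cfsg.Agent.Lib.Helper15.SuzukiBorel Cfsg.Agent.Lib.Helper15.SuzukiElements
  Cfsg.Agent.Lib.Helper15.SuzukiIrred Cfsg.Agent.S2410 Cfsg.Agent.S2247 Cfsg.Agent.S0331 Matrix
open scoped Pointwise

variable {F : Type*} [Field F] [Fintype F] {m : ℕ} (hF : Fintype.card F = 2 ^ (2 * m + 1))

/-- elements without fixed points on the ovoid -/
def IsFpf (x : Cfsg.Sz F m) : Prop := ∀ P : Cfsg.suzukiOvoid F m, x • P ≠ P

omit [Fintype F] in
theorem IsFpf.conj {x : Cfsg.Sz F m} (hx : IsFpf x) (g : Cfsg.Sz F m) : IsFpf (g * x * g⁻¹) := by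
  intro P hP
  apply hx (g⁻¹ • P)
  have h1 : g⁻¹ • ((g * x * g⁻¹) • P) = g⁻¹ • P := by rw [hP]
  rw [← mul_smul] at h1
  have h2 : g⁻¹ * (g * x * g⁻¹) = x * g⁻¹ := by group
  rw [h2, mul_smul] at h1
  exact h1

include hF in
theorem IsFpf.ne_one {x : Cfsg.Sz F m} (hx : IsFpf x) : x ≠ 1 := by
  rintro rfl
  exact hx (pt hF none) (one_smul _ _)

/-- an element fixing two points is conjugate into the torus -/
theorem two_fixed_conj (hm : 1 ≤ m) {g : Cfsg.Sz F m} {P Q : Cfsg.suzukiOvoid F m} (hPQ : P ≠ Q)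
    (hP : g • P = P) (hQ : g • Q = Q) : ∃ (k : Cfsg.Sz F m) (μ : Fˣ), k * g * k⁻¹ = Hs hF μ := by
  obtain ⟨k, hk0, hk3⟩ := exists_to_standard hF hPQ
  have f0 : (k * g * k⁻¹) • pt hF none = pt hF none := by
    rw [← hk0, mul_smul, inv_smul_smul, mul_smul, hP]
  have f3 : (k * g * k⁻¹) • pt hF (some (0, 0)) = pt hF (some (0, 0)) := by
    rw [← hk3, mul_smul, inv_smul_smul, mul_smul, hQ]
  obtain ⟨ν, hν⟩ := fix_standard hF hm f0 f3
  exact ⟨k, ν, hν⟩

include hF in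
/-- an involution does not fix two points -/
theorem involution_fix_unique (hm : 1 ≤ m) {t : Cfsg.Sz F m} (ht : t * t = 1) (ht1 : t ≠ 1)
    {P Q : Cfsg.suzukiOvoid F m} (hP : t • P = P) (hQ : t • Q = Q) : P = Q := by
  by_contra hPQ
  obtain ⟨k, μ, hk⟩ := two_fixed_conj hF hm hPQ hP hQ
  have h1 : Hs hF μ * Hs hF μ = 1 := by
    rw [← hk]
    have : k * t * k⁻¹ * (k * t * k⁻¹) = k * (t * t) * k⁻¹ := by group
    rw [this, ht]; group
  rw [Hs_mul] at h1
  have h2 : μ * μ = 1 := by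
    have h3 : Hs hF (μ * μ) = Hs hF 1 := by rw [h1, Hs_one]
    exact H_injective _ m (congrArg Subtype.val h3)
  have h3 : μ = 1 := by
    apply Units.ext
    rw [Units.val_one]
    apply sq_inj (two_eq_zero hF)
    rw [one_pow, sq, ← Units.val_mul, h2, Units.val_one]
  apply ht1
  rw [h3, Hs_one] at hk
  have : t = k⁻¹ * (k * t * k⁻¹) * k := by group
  rw [this, hk]; group

include hF in
theorem card_ovoid : Nat.card (Cfsg.suzukiOvoid F m) = (2 ^ (2 * m + 1)) ^ 2 + 1 := by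
  rw [Cfsg.Agent.S0326.result, hF]

theorem two_not_dvd_N : ¬ 2 ∣ (2 ^ (2 * m + 1)) ^ 2 + 1 := by
  intro h
  have h1 : 2 ∣ (2 ^ (2 * m + 1)) ^ 2 := by
    rw [← pow_mul]
    exact dvd_pow_self 2 (by omega)
  have := (Nat.dvd_add_right h1).mp h
  omega

include hF in
/-- a fixed-point-free element has odd order -/
theorem IsFpf.odd_order (hm : 1 ≤ m) {x : Cfsg.Sz F m} (hx : IsFpf x) : ¬ 2 ∣ orderOf x := by
  intro h2
  obtain ⟨k, hk⟩ := h2
  have hpos : 0 < orderOf x := orderOf_pos x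
  set t := x ^ k with ht
  have ht2 : t * t = 1 := by
    rw [ht, ← pow_add, ← two_mul, ← hk, pow_orderOf_eq_one]
  have ht1 : t ≠ 1 := by
    intro h
    have := orderOf_dvd_of_pow_eq_one h
    have := Nat.le_of_dvd (by omega) this
    omega
  have hK : IsPGroup 2 (Subgroup.zpowers t) := by
    apply IsPGroup.of_card (n := 1)
    rw [Nat.card_zpowers, pow_one]
    exact orderOf_eq_prime (by rw [sq]; exact ht2) ht1
  have hcard : ¬ 2 ∣ Nat.card (Cfsg.suzukiOvoid F m) := by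
    rw [card_ovoid hF]; exact two_not_dvd_N
  have : Fact (Nat.Prime 2) := ⟨Nat.prime_two⟩
  obtain ⟨P, hP⟩ := hK.nonempty_fixed_point_of_prime_not_dvd_card (Cfsg.suzukiOvoid F m) hcard
  rw [MulAction.mem_fixedPoints] at hP
  have hP' : t • P = P := hP ⟨t, Subgroup.mem_zpowers t⟩
  have hcomm : x * t = t * x := by
    rw [ht, ← pow_succ', ← pow_succ]
  have hQ : t • (x • P) = x • P := by
    rw [← mul_smul, ← hcomm, mul_smul, hP']
  exact hx P (involution_fix_unique hF hm ht2 ht1 hQ hP')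

include hF in
/-- the order of a fixed-point-free element involves only primes dividing `q² + 1` -/
theorem IsFpf.prime_dvd (hm : 1 ≤ m) {x : Cfsg.Sz F m} (hx : IsFpf x) {p : ℕ} (hp : p.Prime)
    (hpd : p ∣ orderOf x) : p ∣ (2 ^ (2 * m + 1)) ^ 2 + 1 := by
  by_contra hnd
  have : Fact p.Prime := ⟨hp⟩
  have hpos : 0 < orderOf x := orderOf_pos x
  set a := x ^ (orderOf x / p) with ha
  have hoa : orderOf a = p := by
    rw [ha, orderOf_pow' x (by
      intro h
      have := Nat.div_eq_zero_iff.mp h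
      rcases this with h | h
      · exact hp.ne_zero h
      · exact absurd (Nat.le_of_dvd hpos hpd) (not_le.mpr h))]
    rw [Nat.gcd_eq_right (Nat.div_dvd_of_dvd hpd)]
    exact Nat.div_div_self hpd hpos.ne'
  have ha1 : a ≠ 1 := by
    intro h
    rw [h, orderOf_one] at hoa
    exact hp.one_lt.ne' hoa.symm
  have hK : IsPGroup p (Subgroup.zpowers a) := by
    apply IsPGroup.of_card (n := 1)
    rw [Nat.card_zpowers, pow_one, hoa]
  have hcard : ¬ p ∣ Nat.card (Cfsg.suzukiOvoid F m) := by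
    rw [card_ovoid hF]; exact hnd
  obtain ⟨P, hP⟩ := hK.nonempty_fixed_point_of_prime_not_dvd_card (Cfsg.suzukiOvoid F m) hcard
  rw [MulAction.mem_fixedPoints] at hP
  have hP' : a • P = P := hP ⟨a, Subgroup.mem_zpowers a⟩
  have hcomm : x * a = a * x := by
    rw [ha, ← pow_succ', ← pow_succ]
  have hfix : ∀ Q : Cfsg.suzukiOvoid F m, a • Q = Q → a • (x • Q) = x • Q := by
    intro Q hQ
    rw [← mul_smul, ← hcomm, mul_smul, hQ]
  have h1 := hfix P hP'
  have h2 := hfix _ h1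
  have hx2 : x • (x • P) = P := by
    by_contra hne
    exact ha1 (three_fixed hF hm a P (x • P) (x • (x • P)) (fun h => hx P h.symm)
      (fun h => hx _ h.symm) (fun h => hne h.symm) hP' h1 h2)
  -- `x` has odd order, so it is a power of `x²`
  have hodd := hx.odd_order hF hm
  have hpow : ∀ n : ℕ, (x ^ (2 * n)) • P = P := by
    intro n
    induction n with
    | zero => simp
    | succ n ih =>
      have : x ^ (2 * (n + 1)) = x ^ (2 * n) * (x * x) := by
        rw [← sq, ← pow_add, mul_add, mul_one]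
      rw [this, mul_smul, mul_smul, hx2, ih]
  obtain ⟨j, hj⟩ : ∃ j, orderOf x + 1 = 2 * j := by
    have : orderOf x % 2 = 1 := by omega
    exact ⟨(orderOf x + 1) / 2, by omega⟩
  have := hpow j
  rw [← hj, pow_succ, pow_orderOf_eq_one, one_mul] at this
  exact hx P this

theorem orderOf_conj' {G : Type*} [Group G] (g x : G) : orderOf (g * x * g⁻¹) = orderOf x := by
  rw [← MulAut.conj_apply]
  exact MulEquiv.orderOf_eq _ _

theorem coprime_N : Nat.Coprime ((2 ^ (2 * m + 1)) ^ 2 + 1)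
    ((2 ^ (2 * m + 1)) ^ 2 * (2 ^ (2 * m + 1) - 1)) := by
  apply Nat.coprime_of_dvd
  intro k hk h1 h2
  rcases (Nat.Prime.dvd_mul hk).mp h2 with h3 | h3
  · have := (Nat.dvd_add_right h3).mp h1
    exact hk.one_lt.ne' (Nat.dvd_one.mp this)
  · by_cases hk2 : k = 2
    · subst hk2; exact two_not_dvd_N h1
    · exact not_both hk hk2 Nat.one_le_two_pow h3 h1

theorem card_Bz (hm : 1 ≤ m) :
    Nat.card (Bz hF) = (2 ^ (2 * m + 1)) ^ 2 * (2 ^ (2 * m + 1) - 1) := by
  have : Bz hF = MulAction.stabilizer (Cfsg.Sz F m) (Cfsg.suzukiPointInfinity F) := by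
    ext g
    rw [MulAction.mem_stabilizer_iff, MulAction.mem_stabilizer_iff, Subtype.ext_iff]
    rfl
  rw [this, card_stab_inf hF hm]

include hF in
theorem card_Sz' (hm : 1 ≤ m) : Nat.card (Cfsg.Sz F m) =
    ((2 ^ (2 * m + 1)) ^ 2 + 1) * ((2 ^ (2 * m + 1)) ^ 2 * (2 ^ (2 * m + 1) - 1)) := by
  rw [card_Sz hF hm]; ring

include hF in
/-- the order of a fixed-point-free element divides `q² + 1` -/
theorem IsFpf.order_dvd (hm : 1 ≤ m) {x : Cfsg.Sz F m} (hx : IsFpf x) :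
    orderOf x ∣ (2 ^ (2 * m + 1)) ^ 2 + 1 := by
  have h1 : orderOf x ∣ Nat.card (Cfsg.Sz F m) := orderOf_dvd_natCard x
  rw [card_Sz' hF hm] at h1
  have hcop : Nat.Coprime (orderOf x) ((2 ^ (2 * m + 1)) ^ 2 * (2 ^ (2 * m + 1) - 1)) := by
    apply Nat.coprime_of_dvd
    intro k hk h2 h3
    have h4 := hx.prime_dvd hF hm hk h2
    have := Nat.Coprime.eq_one_of_dvd (Nat.Coprime.coprime_dvd_left h4 coprime_N) h3
    exact hk.one_lt.ne' this
  exact hcop.dvd_of_dvd_mul_right h1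

include hF in
/-- non-trivial elements of order dividing `q² + 1` are fixed-point-free -/
theorem isFpf_of_order_dvd (hm : 1 ≤ m) {x : Cfsg.Sz F m} (hx1 : x ≠ 1)
    (hx : orderOf x ∣ (2 ^ (2 * m + 1)) ^ 2 + 1) : IsFpf x := by
  intro P hP
  obtain ⟨c, rfl⟩ := pt_surj hF P
  obtain ⟨g₁, hg₁, hg₁c⟩ := exists_map_inf hF c
  have h1 : (⟨g₁, hg₁⟩ : Cfsg.Sz F m) • pt hF none = pt hF c := Subtype.ext hg₁c
  have h1' : (⟨g₁, hg₁⟩ : Cfsg.Sz F m)⁻¹ • pt hF c = pt hF none := by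
    rw [← h1, inv_smul_smul]
  set g : Cfsg.Sz F m := (⟨g₁, hg₁⟩ : Cfsg.Sz F m)⁻¹ with hg
  have hmem : g * x * g⁻¹ ∈ Bz hF := by
    rw [MulAction.mem_stabilizer_iff, mul_smul, mul_smul, hg, inv_inv, h1, hP, h1']
  have h2 : orderOf (g * x * g⁻¹) ∣ Nat.card (Bz hF) := by
    have := orderOf_dvd_natCard (⟨g * x * g⁻¹, hmem⟩ : Bz hF)
    rwa [← Subgroup.orderOf_coe] at this
  rw [orderOf_conj', card_Bz hF hm] at h2
  have := Nat.Coprime.eq_one_of_dvd (Nat.Coprime.coprime_dvd_left hx coprime_N) h2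
  exact hx1 (orderOf_eq_one_iff.mp this)

include hF in
/-- a power of prime order `p ∣ q² + 1` -/
theorem IsFpf.exists_prime_pow (hm : 1 ≤ m) {x : Cfsg.Sz F m} (hx : IsFpf x) :
    ∃ (p k : ℕ), p.Prime ∧ p ≠ 2 ∧ p ∣ (2 ^ (2 * m + 1)) ^ 2 + 1 ∧ orderOf (x ^ k) = p := by
  have hn : orderOf x ≠ 1 := fun h => hx.ne_one hF (orderOf_eq_one_iff.mp h)
  obtain ⟨p, hp, hpd⟩ := Nat.exists_prime_and_dvd hn
  have hpos : 0 < orderOf x := orderOf_pos x
  have hpN := hx.prime_dvd hF hm hp hpd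
  refine ⟨p, orderOf x / p, hp, ?_, hpN, ?_⟩
  · rintro rfl
    exact two_not_dvd_N hpN
  · rw [orderOf_pow' x (by
      intro h
      have := Nat.div_eq_zero_iff.mp h
      rcases this with h | h
      · exact hp.ne_zero h
      · exact absurd (Nat.le_of_dvd hpos hpd) (not_le.mpr h))]
    rw [Nat.gcd_eq_right (Nat.div_dvd_of_dvd hpd)]
    exact Nat.div_div_self hpd hpos.ne'

/-- the underlying matrix -/
abbrev mat (g : Cfsg.Sz F m) : Matrix (Fin 4) (Fin 4) F :=
  ((g : Matrix.SpecialLinearGroup (Fin 4) F) : Matrix (Fin 4) (Fin 4) F)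

omit [Fintype F] in
theorem mat_mul (g h : Cfsg.Sz F m) : mat (g * h) = mat g * mat h := rfl

omit [Fintype F] in
theorem mat_inj {g h : Cfsg.Sz F m} (e : mat g = mat h) : g = h :=
  Subtype.ext (Subtype.ext e)

omit [Fintype F] in
theorem mat_comm {g h : Cfsg.Sz F m} (e : g * h = h * g) : mat g * mat h = mat h * mat g := by
  rw [← mat_mul, ← mat_mul, e]

include hF in
/-- the centraliser of a fixed-point-free element is commutative -/
theorem IsFpf.cent_comm (hm : 1 ≤ m) {x : Cfsg.Sz F m} (hx : IsFpf x) {h₁ h₂ : Cfsg.Sz F m}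
    (hh₁ : h₁ * x = x * h₁) (hh₂ : h₂ * x = x * h₂) : h₁ * h₂ = h₂ * h₁ := by
  obtain ⟨p, k, hp, hp2, hpN, hk⟩ := hx.exists_prime_pow hF hm
  have : Fact p.Prime := ⟨hp⟩
  have hy : orderOf ((x ^ k : Cfsg.Sz F m) : Matrix.SpecialLinearGroup (Fin 4) F) = p := by
    rw [Subgroup.orderOf_coe]; exact hk
  have c1 : h₁ * x ^ k = x ^ k * h₁ := (Commute.pow_right (show Commute h₁ x from hh₁) k).eq
  have c2 : h₂ * x ^ k = x ^ k * h₂ := (Commute.pow_right (show Commute h₂ x from hh₂) k).eq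
  exact mat_inj (centralizer_comm hF hp2 hpN _ hy (mat_comm c1) (mat_comm c2))

include hF in
/-- non-trivial elements commuting with a fixed-point-free element are fixed-point-free -/
theorem IsFpf.cent_fpf (hm : 1 ≤ m) {x : Cfsg.Sz F m} (hx : IsFpf x) {y : Cfsg.Sz F m}
    (hy : y * x = x * y) (hy1 : y ≠ 1) : IsFpf y := by
  have h2 := two_eq_zero hF
  obtain ⟨p, k, hp, hp2, hpN, hk⟩ := hx.exists_prime_pow hF hm
  have : Fact p.Prime := ⟨hp⟩
  have hoy : orderOf ((x ^ k : Cfsg.Sz F m) : Matrix.SpecialLinearGroup (Fin 4) F) = p := by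
    rw [Subgroup.orderOf_coe]; exact hk
  have c1 : y * x ^ k = x ^ k * y := (Commute.pow_right (show Commute y x from hy) k).eq
  intro P hP
  obtain ⟨c, rfl⟩ := pt_surj hF P
  rw [smul_pt_iff] at hP
  obtain ⟨l, hl, hv⟩ := hP
  set v := ov (sig h2 m) c with hvdef
  have hv0 : v ≠ 0 := ov_ne_zero _ c
  have hcomm : (mat y - l • (1 : Matrix (Fin 4) (Fin 4) F)) * mat (x ^ k) =
      mat (x ^ k) * (mat y - l • (1 : Matrix (Fin 4) (Fin 4) F)) := by
    rw [sub_mul, mul_sub, mat_comm c1]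
    simp
  have hker : (mat y - l • (1 : Matrix (Fin 4) (Fin 4) F)) *ᵥ v = 0 := by
    rw [Matrix.sub_mulVec, Matrix.smul_mulVec, Matrix.one_mulVec]
    show mat y *ᵥ v - l • v = 0
    rw [sub_eq_zero]
    exact hv
  have hzero : mat y - l • (1 : Matrix (Fin 4) (Fin 4) F) = 0 := by
    by_contra hne
    exact hv0 (mulVec_injective_of_comm hF hp2 hpN _ hoy hcomm hne hker)
  have hy' : mat y = l • (1 : Matrix (Fin 4) (Fin 4) F) := sub_eq_zero.mp hzero
  have hdet : (mat y).det = 1 := (y : Matrix.SpecialLinearGroup (Fin 4) F).2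
  rw [hy', Matrix.det_smul, Matrix.det_one, mul_one, Fintype.card_fin] at hdet
  have hl1 : l = 1 := by
    apply sq_inj h2
    apply sq_inj h2
    rw [one_pow, one_pow, ← pow_mul]
    exact hdet
  apply hy1
  apply mat_inj
  rw [hy', hl1, one_smul]
  rfl

include hF in
/-- centralisers of fixed-point-free elements coincide along commuting elements -/
theorem IsFpf.cent_eq (hm : 1 ≤ m) {x : Cfsg.Sz F m} (hx : IsFpf x) {y : Cfsg.Sz F m}
    (hy : y * x = x * y) (hy1 : y ≠ 1) :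
    Subgroup.centralizer ({y} : Set (Cfsg.Sz F m)) = Subgroup.centralizer {x} := by
  have hyf := hx.cent_fpf hF hm hy hy1
  ext h
  rw [Subgroup.mem_centralizer_singleton_iff, Subgroup.mem_centralizer_singleton_iff]
  constructor
  · intro hh
    exact hyf.cent_comm hF hm hh hy.symm
  · intro hh
    exact hx.cent_comm hF hm hh hy

include hF in
/-- elements of prime order in the centraliser of a fixed-point-free element -/
theorem IsFpf.exists_order (hm : 1 ≤ m) {x : Cfsg.Sz F m} (hx : IsFpf x) {p : ℕ} (hp : p.Prime)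
    (hpd : p ∣ Nat.card (Subgroup.centralizer ({x} : Set (Cfsg.Sz F m)))) :
    ∃ y : Cfsg.Sz F m, y * x = x * y ∧ orderOf y = p ∧ IsFpf y ∧
      p ∣ (2 ^ (2 * m + 1)) ^ 2 + 1 := by
  have : Fact p.Prime := ⟨hp⟩
  obtain ⟨⟨y, hyC'⟩, hy⟩ := exists_prime_orderOf_dvd_card' p hpd
  have hyC := Subgroup.mem_centralizer_singleton_iff.mp hyC'
  have hoy : orderOf y = p := by
    rw [← hy]
    exact Subgroup.orderOf_coe (⟨y, hyC'⟩ : Subgroup.centralizer ({x} : Set (Cfsg.Sz F m)))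
  have hy1 : y ≠ 1 := by
    rintro rfl
    rw [orderOf_one] at hoy
    exact hp.one_lt.ne' hoy.symm
  have hyf := hx.cent_fpf hF hm hyC hy1
  refine ⟨y, hyC, hoy, hyf, ?_⟩
  rw [← hoy]
  exact hyf.order_dvd hF hm

include hF in
/-- the order of the centraliser of a fixed-point-free element divides `q² + 1` -/
theorem IsFpf.card_cent_dvd (hm : 1 ≤ m) {x : Cfsg.Sz F m} (hx : IsFpf x) :
    Nat.card (Subgroup.centralizer ({x} : Set (Cfsg.Sz F m))) ∣ (2 ^ (2 * m + 1)) ^ 2 + 1 := by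
  have h1 : Nat.card (Subgroup.centralizer ({x} : Set (Cfsg.Sz F m))) ∣ Nat.card (Cfsg.Sz F m) :=
    Subgroup.card_subgroup_dvd_card _
  rw [card_Sz' hF hm] at h1
  have hcop : Nat.Coprime (Nat.card (Subgroup.centralizer ({x} : Set (Cfsg.Sz F m))))
      ((2 ^ (2 * m + 1)) ^ 2 * (2 ^ (2 * m + 1) - 1)) := by
    apply Nat.coprime_of_dvd
    intro k hk h2 h3
    obtain ⟨y, -, -, -, h4⟩ := hx.exists_order hF hm hk h2
    have := Nat.Coprime.eq_one_of_dvd (Nat.Coprime.coprime_dvd_left h4 coprime_N) h3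
    exact hk.one_lt.ne' this
  exact hcop.dvd_of_dvd_mul_right h1

include hF in
/-- the centraliser of a fixed-point-free element contains full Sylow subgroups -/
theorem IsFpf.sylow_le_cent (hm : 1 ≤ m) {x : Cfsg.Sz F m} (hx : IsFpf x) {p : ℕ}
    [hp : Fact p.Prime]
    (hpd : p ∣ Nat.card (Subgroup.centralizer ({x} : Set (Cfsg.Sz F m)))) :
    ∃ P : Sylow p (Cfsg.Sz F m), (P : Subgroup (Cfsg.Sz F m)) ≤ Subgroup.centralizer {x} := by
  obtain ⟨y, hyC, hoy, hyf, hpN⟩ := hx.exists_order hF hm hp.out hpd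
  have hp2 : p ≠ 2 := by
    rintro rfl
    exact two_not_dvd_N hpN
  have hy1 : y ≠ 1 := hyf.ne_one hF
  have hK : IsPGroup p (Subgroup.zpowers y) := by
    apply IsPGroup.of_card (n := 1)
    rw [Nat.card_zpowers, pow_one, hoy]
  obtain ⟨P, hP⟩ := hK.exists_le_sylow
  refine ⟨P, ?_⟩
  have hcyc : IsCyclic P := Cfsg.Agent.S0331.main hm hF hp2 P
  have hyP : y ∈ (P : Subgroup (Cfsg.Sz F m)) := hP (Subgroup.mem_zpowers y)
  rw [← hx.cent_eq hF hm hyC hy1]
  intro z hz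
  rw [Subgroup.mem_centralizer_singleton_iff]
  obtain ⟨⟨g, hg⟩, hgen⟩ := hcyc.exists_generator
  have h1 := hgen ⟨z, hz⟩
  have h2 := hgen ⟨y, hyP⟩
  rw [Subgroup.mem_zpowers_iff] at h1 h2
  obtain ⟨i, hi⟩ := h1
  obtain ⟨j, hj⟩ := h2
  have hi' : g ^ i = z := by
    have := congrArg Subtype.val hi
    simpa using this
  have hj' : g ^ j = y := by
    have := congrArg Subtype.val hj
    simpa using this
  rw [← hi', ← hj', ← _root_.zpow_add, ← _root_.zpow_add, add_comm]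

include hF in
/-- centralisers of fixed-point-free elements with a common prime divisor are conjugate -/
theorem IsFpf.conj_of_common_prime (hm : 1 ≤ m) {x y : Cfsg.Sz F m} (hx : IsFpf x) (hy : IsFpf y)
    {p : ℕ} (hp : p.Prime)
    (hpx : p ∣ Nat.card (Subgroup.centralizer ({x} : Set (Cfsg.Sz F m))))
    (hpy : p ∣ Nat.card (Subgroup.centralizer ({y} : Set (Cfsg.Sz F m)))) :
    ∃ g : Cfsg.Sz F m, Subgroup.centralizer ({y} : Set (Cfsg.Sz F m)) =
      Subgroup.centralizer {g * x * g⁻¹} := by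
  have : Fact p.Prime := ⟨hp⟩
  obtain ⟨P, hP⟩ := hx.sylow_le_cent hF hm hpx
  obtain ⟨P', hP'⟩ := hy.sylow_le_cent hF hm hpy
  obtain ⟨g, hg⟩ := MulAction.exists_smul_eq (Cfsg.Sz F m) P P'
  refine ⟨g, ?_⟩
  -- a non-trivial element of `P'`
  have hpG : p ∣ Nat.card (Cfsg.Sz F m) :=
    dvd_trans hpy (Subgroup.card_subgroup_dvd_card _)
  have hP'ne : (P' : Subgroup (Cfsg.Sz F m)) ≠ ⊥ := by
    intro h
    have h1 := P'.card_eq_multiplicity
    rw [h, Subgroup.card_bot] at h1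
    have h2 : (Nat.card (Cfsg.Sz F m)).factorization p = 0 := by
      by_contra h3
      have : 1 < p ^ (Nat.card (Cfsg.Sz F m)).factorization p :=
        Nat.one_lt_pow h3 hp.one_lt
      omega
    have h3 := (Nat.factorization_eq_zero_iff _ _).mp h2
    rcases h3 with h3 | h3 | h3
    · exact h3 hp
    · exact h3 hpG
    · exact Nat.card_pos.ne' h3
  obtain ⟨⟨z, hzP'⟩, hz1⟩ := (Subgroup.ne_bot_iff_exists_ne_one).mp hP'ne
  have hz1' : z ≠ 1 := fun h => hz1 (Subtype.ext h)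
  have hzy : z * y = y * z := Subgroup.mem_centralizer_singleton_iff.mp (hP' hzP')
  have hzP : g⁻¹ * z * g ∈ (P : Subgroup (Cfsg.Sz F m)) := by
    have h1 : z ∈ ((g • P : Sylow p (Cfsg.Sz F m)) : Subgroup (Cfsg.Sz F m)) := by
      rw [hg]; exact hzP'
    rw [Sylow.coe_subgroup_smul, Subgroup.mem_pointwise_smul_iff_inv_smul_mem] at h1
    have h2 : (MulAut.conj g)⁻¹ • z = g⁻¹ * z * g := by
      rw [MulAut.smul_def, MulAut.conj_inv_apply]
    rwa [h2] at h1
  have hzx := Subgroup.mem_centralizer_singleton_iff.mp (hP hzP)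
  have hzx' : z * (g * x * g⁻¹) = g * x * g⁻¹ * z := by
    have e1 : z * (g * x * g⁻¹) = g * (g⁻¹ * z * g * x) * g⁻¹ := by group
    have e2 : g * x * g⁻¹ * z = g * (x * (g⁻¹ * z * g)) * g⁻¹ := by group
    rw [e1, e2, hzx]
  rw [← hy.cent_eq hF hm hzy hz1', ← (hx.conj g).cent_eq hF hm hzx' hz1']

end Cfsg.Agent.Lib.Helper15.SuzukiFpf
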