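import Cfsg.Agent.Lib.Helper15.SuzukiMat

/-!
# Structure of the Suzuki group `Cfsg.Sz F m` (helper15)
-/

set_option autoImplicit false

namespace Cfsg.Agent.Lib.Helper15.SuzukiGroup

open Cfsg.Agent.Lib.Helper15.SuzukiAlg Cfsg.Agent.Lib.Helper15.SuzukiOvoid
  Cfsg.Agent.Lib.Helper15.SuzukiForm Cfsg.Agent.Lib.Helper15.SuzukiMat Matrix
open scoped Pointwise

variable {F : Type*} [Field F]

/-- the vector of the zero point -/
def e3 : Fin 4 → F := ![0, 0, 0, 1]

theorem pv_zero_zero (σ : F →+* F) : pv σ 0 0 = e3 := by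
  funext i
  fin_cases i <;> simp [pv, e3, f]

theorem e3_ne_zero : (e3 : Fin 4 → F) ≠ 0 := by
  intro h
  have := congrFun h 3
  simp [e3] at this

theorem pointInfinity_eq : Cfsg.suzukiPointInfinity F = Projectivization.mk F e0 e0_ne_zero := rfl

theorem pointZero_eq : Cfsg.suzukiPointZero F = Projectivization.mk F e3 e3_ne_zero := rfl

instance finite_proj [Finite F] : Finite (Projectivization F (Fin 4 → F)) := by
  unfold Projectivization
  infer_instance

theorem smul_mk_eq_iff (g : Matrix.SpecialLinearGroup (Fin 4) F) {v : Fin 4 → F} (hv : v ≠ 0)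
    {w : Fin 4 → F} (hw : w ≠ 0) :
    g • Projectivization.mk F v hv = Projectivization.mk F w hw ↔
      ∃ k : F, k ≠ 0 ∧ (g : Matrix (Fin 4) (Fin 4) F) *ᵥ v = k • w := by
  rw [Projectivization.smul_mk, Projectivization.mk_eq_mk_iff]
  constructor
  · rintro ⟨a, ha⟩
    exact ⟨(a : F), a.ne_zero, ha.symm⟩
  · rintro ⟨k, hk, h⟩
    exact ⟨Units.mk0 k hk, h.symm⟩

section
variable [Finite F] (h2 : (2 : F) = 0) (m : ℕ)

/-- membership criterion for the Suzuki group -/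
theorem mem_Sz_of_maps (g : Matrix.SpecialLinearGroup (Fin 4) F)
    (h : ∀ c, ∃ (c' : Option (F × F)) (k : F), k ≠ 0 ∧
      (g : Matrix (Fin 4) (Fin 4) F) *ᵥ ov (sig h2 m) c = k • ov (sig h2 m) c') :
    g ∈ Cfsg.Sz F m := by
  rw [MulAction.mem_stabilizer_iff]
  have hsub : g • Cfsg.suzukiOvoid F m ⊆ Cfsg.suzukiOvoid F m := by
    rintro P ⟨Q, hQ, rfl⟩
    obtain ⟨c, rfl⟩ := (mem_ovoid_iff h2 m Q).mp hQ
    obtain ⟨c', k, hk, hc'⟩ := h c
    rw [mem_ovoid_iff h2 m]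
    refine ⟨c', ?_⟩
    exact (smul_mk_eq_iff g _ _).mpr ⟨k, hk, hc'⟩
  exact Set.eq_of_subset_of_ncard_le hsub (by rw [Set.ncard_smul_set]) (Set.toFinite _)

end

theorem mulVec_e0 (G : Matrix (Fin 4) (Fin 4) F) : G *ᵥ e0 = fun i => G i 0 := by
  funext i
  simp [Matrix.mulVec, dotProduct, Fin.sum_univ_four, e0]

theorem mulVec_e3 (G : Matrix (Fin 4) (Fin 4) F) : G *ᵥ e3 = fun i => G i 3 := by
  funext i
  simp [Matrix.mulVec, dotProduct, Fin.sum_univ_four, e3]

theorem form_entry (G : Matrix (Fin 4) (Fin 4) F) (i j : Fin 4) :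
    (Gᵀ * Cfsg.suzukiForm F * G) i j =
      G 0 i * G 3 j + G 1 i * G 2 j + G 2 i * G 1 j + G 3 i * G 0 j := by
  simp [Matrix.mul_apply, Fin.sum_univ_four, Cfsg.suzukiForm]
  ring

/-! ### the explicit elements -/

section
variable (h2 : (2 : F) = 0) (m : ℕ)

/-- translation -/
def T (a b : F) : Matrix.SpecialLinearGroup (Fin 4) F := ⟨Tm (sig h2 m) a b, det_Tm _ a b⟩

/-- torus element -/
def H (μ : Fˣ) : Matrix.SpecialLinearGroup (Fin 4) F :=
  ⟨Hm (sig h2 m) (μ : F), det_Hm _ μ.ne_zero⟩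

/-- the inversion -/
def Jg : Matrix.SpecialLinearGroup (Fin 4) F := ⟨Cfsg.suzukiForm F, det_J h2⟩

@[simp] theorem T_coe (a b : F) :
    ((T h2 m a b : Matrix.SpecialLinearGroup (Fin 4) F) : Matrix (Fin 4) (Fin 4) F) =
      Tm (sig h2 m) a b := rfl

@[simp] theorem H_coe (μ : Fˣ) :
    ((H h2 m μ : Matrix.SpecialLinearGroup (Fin 4) F) : Matrix (Fin 4) (Fin 4) F) =
      Hm (sig h2 m) (μ : F) := rfl

@[simp] theorem Jg_coe :
    ((Jg h2 : Matrix.SpecialLinearGroup (Fin 4) F) : Matrix (Fin 4) (Fin 4) F) =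
      Cfsg.suzukiForm F := rfl

theorem T_zero : T h2 m 0 0 = 1 := by
  apply Subtype.ext
  exact Tm_zero _

theorem H_mul (μ ν : Fˣ) : H h2 m μ * H h2 m ν = H h2 m (μ * ν) := by
  apply Subtype.ext
  show Hm _ _ * Hm _ _ = Hm _ _
  rw [Hm_mul, Units.val_mul]

theorem H_one : H h2 m 1 = 1 := by
  apply Subtype.ext
  show Hm _ _ = 1
  rw [Units.val_one, Hm_one]

/-- the torus as a homomorphism -/
def Hhom : Fˣ →* Matrix.SpecialLinearGroup (Fin 4) F where
  toFun := H h2 m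
  map_one' := H_one h2 m
  map_mul' μ ν := (H_mul h2 m μ ν).symm

theorem H_injective : Function.Injective (H h2 m) := by
  intro μ ν h
  have h1 := congrArg (fun g : Matrix.SpecialLinearGroup (Fin 4) F =>
    (g : Matrix (Fin 4) (Fin 4) F) 1 1) h
  simp only [H_coe, Hm, Matrix.diagonal_apply_eq] at h1
  exact Units.ext h1

theorem Jg_mul_self : Jg h2 * Jg h2 = (1 : Matrix.SpecialLinearGroup (Fin 4) F) := by
  apply Subtype.ext
  exact suzukiForm_mul_self

end

section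
variable [Fintype F] {m : ℕ} (hF : Fintype.card F = 2 ^ (2 * m + 1))

include hF in
theorem T_mul (a b c d : F) :
    T (two_eq_zero hF) m a b * T (two_eq_zero hF) m c d =
      T (two_eq_zero hF) m (a + c) (b + d + sig (two_eq_zero hF) m a * c) := by
  apply Subtype.ext
  exact Tm_mul _ (sig_sig _ hF) (two_eq_zero hF) a b c d

include hF in
theorem T_inv (a b : F) :
    (T (two_eq_zero hF) m a b)⁻¹ =
      T (two_eq_zero hF) m a (b + a * sig (two_eq_zero hF) m a) := by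
  have h2 := two_eq_zero hF
  apply inv_eq_of_mul_eq_one_right
  rw [T_mul hF]
  have e1 : a + a = 0 := add_self h2 a
  have e2 : b + (b + a * sig h2 m a) + sig h2 m a * a = 0 := by grind
  rw [e1, e2, T_zero]

include hF in
theorem T_mem (a b : F) : T (two_eq_zero hF) m a b ∈ Cfsg.Sz F m := by
  have h2 := two_eq_zero hF
  apply mem_Sz_of_maps h2 m
  intro c
  rcases c with _ | ⟨x, y⟩
  · exact ⟨none, 1, one_ne_zero, by rw [one_smul]; exact Tm_e0 _ a b⟩
  · refine ⟨some (x + a, y + b + sig h2 m a * x), 1, one_ne_zero, ?_⟩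
    rw [one_smul]
    exact Tm_pv _ (sig_sig h2 hF) h2 a b x y

include hF in
theorem H_mem (μ : Fˣ) : H (two_eq_zero hF) m μ ∈ Cfsg.Sz F m := by
  have h2 := two_eq_zero hF
  have hsμ : sig h2 m (μ : F) ≠ 0 := fun h => μ.ne_zero ((map_eq_zero _).mp h)
  apply mem_Sz_of_maps h2 m
  intro c
  rcases c with _ | ⟨x, y⟩
  · exact ⟨none, _, mul_ne_zero μ.ne_zero hsμ, Hm_e0 _ _⟩
  · exact ⟨some (_, _), _, inv_ne_zero (mul_ne_zero μ.ne_zero hsμ),
      Hm_pv _ (sig_sig h2 hF) μ.ne_zero x y⟩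

include hF in
theorem Jg_mem : Jg (two_eq_zero hF) ∈ Cfsg.Sz F m := by
  have h2 := two_eq_zero hF
  apply mem_Sz_of_maps h2 m
  intro c
  rcases c with _ | ⟨x, y⟩
  · exact ⟨some (0, 0), 1, one_ne_zero, by rw [one_smul]; exact J_e0 _⟩
  · by_cases hxy : x = 0 ∧ y = 0
    · obtain ⟨rfl, rfl⟩ := hxy
      exact ⟨none, 1, one_ne_zero, by rw [one_smul]; exact J_pv_zero _⟩
    · exact ⟨some (_, _), _, f_ne_zero _ (sig_sig h2 hF) h2 hxy, J_pv _ (sig_sig h2 hF) h2 hxy⟩

/-! ### the two-point stabiliser -/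

include hF in
theorem exists_sig_ne (hm : 1 ≤ m) : ∃ t : F, sig (two_eq_zero hF) m t ≠ t ^ 2 := by
  have h2 := two_eq_zero hF
  have hσ := sig_sig h2 hF
  have h3 : ∃ t : F, t ≠ 0 ∧ t ≠ 1 := by
    classical
    by_contra hcon
    push Not at hcon
    have hsub : (Finset.univ : Finset F) ⊆ {0, 1} := by
      intro t _
      by_cases ht : t = 0
      · simp [ht]
      · simp [hcon t ht]
    have h4 := Finset.card_le_card hsub
    have h5 : ({0, 1} : Finset F).card ≤ 2 := Finset.card_le_two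
    rw [Finset.card_univ, hF] at h4
    have h6 : 2 ^ 3 ≤ 2 ^ (2 * m + 1) := Nat.pow_le_pow_right (by norm_num) (by omega)
    omega
  obtain ⟨t, ht0, ht1⟩ := h3
  refine ⟨t, fun h => ?_⟩
  have h4 := hσ t
  rw [h, map_pow, h] at h4
  have h5 : t ^ 2 * (t + 1) ^ 2 = 0 := by grind
  rcases mul_eq_zero.mp h5 with h6 | h6
  · exact ht0 (pow_eq_zero_iff (by norm_num) |>.mp h6)
  · exact ht1 (eq_of_add_eq_zero h2 (pow_eq_zero_iff (by norm_num) |>.mp h6))

include hF in
/-- an element of the Suzuki group fixing both standard points is a torus element -/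
theorem two_point (hm : 1 ≤ m) {g : Matrix.SpecialLinearGroup (Fin 4) F} (hg : g ∈ Cfsg.Sz F m)
    {k k' : F} (hk : k ≠ 0) (hk' : k' ≠ 0)
    (h0 : (g : Matrix (Fin 4) (Fin 4) F) *ᵥ e0 = k • e0)
    (h3 : (g : Matrix (Fin 4) (Fin 4) F) *ᵥ e3 = k' • e3) :
    ∃ μ : Fˣ, g = H (two_eq_zero hF) m μ := by
  have h2 := two_eq_zero hF
  have hσ := sig_sig h2 hF
  set σ := sig h2 m with hσdef
  have hsym := preserves_form hF hg
  set G : Matrix (Fin 4) (Fin 4) F := (g : Matrix (Fin 4) (Fin 4) F) with hG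
  rw [mulVec_e0] at h0
  rw [mulVec_e3] at h3
  have g00 : G 0 0 = k := by simpa [e0] using congrFun h0 0
  have g10 : G 1 0 = 0 := by simpa [e0] using congrFun h0 1
  have g20 : G 2 0 = 0 := by simpa [e0] using congrFun h0 2
  have g30 : G 3 0 = 0 := by simpa [e0] using congrFun h0 3
  have g03 : G 0 3 = 0 := by simpa [e3] using congrFun h3 0
  have g13 : G 1 3 = 0 := by simpa [e3] using congrFun h3 1
  have g23 : G 2 3 = 0 := by simpa [e3] using congrFun h3 2
  have g33 : G 3 3 = k' := by simpa [e3] using congrFun h3 3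
  have s01 := form_entry G 0 1
  have s02 := form_entry G 0 2
  have s03 := form_entry G 0 3
  have s31 := form_entry G 3 1
  have s32 := form_entry G 3 2
  have s12 := form_entry G 1 2
  rw [hsym] at s01 s02 s03 s31 s32 s12
  simp only [g00, g10, g20, g30, g03, g13, g23, g33, zero_mul, mul_zero, add_zero, zero_add]
    at s01 s02 s03 s31 s32 s12
  have j01 : Cfsg.suzukiForm F 0 1 = 0 := rfl
  have j02 : Cfsg.suzukiForm F 0 2 = 0 := rfl
  have j03 : Cfsg.suzukiForm F 0 3 = 1 := rfl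
  have j31 : Cfsg.suzukiForm F 3 1 = 0 := rfl
  have j32 : Cfsg.suzukiForm F 3 2 = 0 := rfl
  have j12 : Cfsg.suzukiForm F 1 2 = 1 := rfl
  rw [j01] at s01
  rw [j02] at s02
  rw [j03] at s03
  rw [j31] at s31
  rw [j32] at s32
  rw [j12] at s12
  have g31 : G 3 1 = 0 := by
    rcases mul_eq_zero.mp s01.symm with h | h
    · exact absurd h hk
    · exact h
  have g32 : G 3 2 = 0 := by
    rcases mul_eq_zero.mp s02.symm with h | h
    · exact absurd h hk
    · exact h
  have g01 : G 0 1 = 0 := by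
    rcases mul_eq_zero.mp s31.symm with h | h
    · exact absurd h hk'
    · exact h
  have g02 : G 0 2 = 0 := by
    rcases mul_eq_zero.mp s32.symm with h | h
    · exact absurd h hk'
    · exact h
  have hkk' : k * k' = 1 := s03.symm
  have hdet : G 1 1 * G 2 2 + G 1 2 * G 2 1 = 1 := by
    rw [g01, g31] at s12
    simp only [zero_mul, add_zero, zero_add] at s12
    calc G 1 1 * G 2 2 + G 1 2 * G 2 1 = G 1 1 * G 2 2 + G 2 1 * G 1 2 := by ring
      _ = 1 := s12.symm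
  -- the functional equation
  have hFE : ∀ x y, f σ (k * (G 2 1 * y + G 2 2 * x)) (k * (G 1 1 * y + G 1 2 * x)) =
      k ^ 2 * f σ x y := by
    intro x y
    obtain ⟨c', κ, hκ, hc'⟩ := stab_ov h2 hg (some (x, y))
    have hv : G *ᵥ pv σ x y = ![k * f σ x y, G 1 1 * y + G 1 2 * x, G 2 1 * y + G 2 2 * x, k'] := by
      funext i
      fin_cases i <;>
        simp [Matrix.mulVec, dotProduct, Fin.sum_univ_four, g00, g10, g20, g30, g03, g13, g23, g33,
          g01, g02, g31, g32]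
    change G *ᵥ pv σ x y = κ • ov σ c' at hc'
    rw [hv] at hc'
    rcases c' with _ | ⟨x', y'⟩
    · exfalso
      have := congrFun hc' 3
      simp [ov] at this
      exact hk' this
    · have c3 := congrFun hc' 3
      have c2 := congrFun hc' 2
      have c1 := congrFun hc' 1
      have c0 := congrFun hc' 0
      simp [ov] at c3 c2 c1 c0
      subst c3
      have ex : x' = k * (G 2 1 * y + G 2 2 * x) := by
        have : k * (k' * x') = x' := by rw [← mul_assoc, hkk', one_mul]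
        rw [c2, this]
      have ey : y' = k * (G 1 1 * y + G 1 2 * x) := by
        have : k * (k' * y') = y' := by rw [← mul_assoc, hkk', one_mul]
        rw [c1, this]
      rw [← ex, ← ey]
      have : k * (k' * f σ x' y') = f σ x' y' := by rw [← mul_assoc, hkk', one_mul]
      rw [← this, ← c0]; ring
  obtain ⟨hb, hc, hl, hd⟩ := FE_solve σ hσ h2 hk (exists_sig_ne hF hm) hdet hFE
  have ha : G 1 1 ≠ 0 := by
    intro h
    rw [h, zero_mul] at hl
    exact hk hl
  refine ⟨Units.mk0 (G 1 1) ha, ?_⟩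
  apply Subtype.ext
  show G = Hm σ (G 1 1)
  have hk'' : k' = (G 1 1 * σ (G 1 1))⁻¹ := by
    rw [← hl]; exact eq_inv_of_mul_eq_one_right hkk'
  ext i j
  fin_cases i <;> fin_cases j <;>
    simp [Hm, g00, g10, g20, g30, g03, g13, g23, g33, g01, g02, g31, g32, hb, hc, hd, hl, hk'']

/-! ### the point stabiliser -/

include hF in
theorem T_mulVec_e0 (a b : F) :
    (T (two_eq_zero hF) m a b : Matrix (Fin 4) (Fin 4) F) *ᵥ e0 = e0 := Tm_e0 _ a b

include hF in
theorem T_mulVec_pv (a b x y : F) :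
    (T (two_eq_zero hF) m a b : Matrix (Fin 4) (Fin 4) F) *ᵥ pv (sig (two_eq_zero hF) m) x y =
      pv (sig (two_eq_zero hF) m) (x + a) (y + b + sig (two_eq_zero hF) m a * x) :=
  Tm_pv _ (sig_sig _ hF) (two_eq_zero hF) a b x y

include hF in
theorem T_inv_mulVec_pv (a b : F) :
    ((T (two_eq_zero hF) m a b)⁻¹ : Matrix.SpecialLinearGroup (Fin 4) F).1 *ᵥ
      pv (sig (two_eq_zero hF) m) a b = e3 := by
  have h2 := two_eq_zero hF
  rw [T_inv hF]
  show (T h2 m a (b + a * sig h2 m a) : Matrix (Fin 4) (Fin 4) F) *ᵥ pv (sig h2 m) a b = e3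
  rw [T_mulVec_pv hF, ← pv_zero_zero (sig h2 m)]
  have e1 : a + a = 0 := add_self h2 a
  have e2 : b + (b + a * sig h2 m a) + sig h2 m a * a = 0 := by grind
  rw [e1, e2]

include hF in
theorem H_mulVec_e3 (μ : Fˣ) :
    (H (two_eq_zero hF) m μ : Matrix (Fin 4) (Fin 4) F) *ᵥ e3 =
      ((μ : F) * sig (two_eq_zero hF) m (μ : F))⁻¹ • e3 := by
  show Hm _ _ *ᵥ e3 = _
  rw [Hm_mulVec]
  funext i
  fin_cases i <;> simp [e3]

include hF in
theorem H_mulVec_e0 (μ : Fˣ) :
    (H (two_eq_zero hF) m μ : Matrix (Fin 4) (Fin 4) F) *ᵥ e0 =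
      ((μ : F) * sig (two_eq_zero hF) m (μ : F)) • e0 := Hm_e0 _ _

include hF in
/-- the stabiliser of the point at infinity is `Q H` -/
theorem stab_inf (hm : 1 ≤ m) {g : Matrix.SpecialLinearGroup (Fin 4) F} (hg : g ∈ Cfsg.Sz F m)
    {k : F} (hk : k ≠ 0) (h0 : (g : Matrix (Fin 4) (Fin 4) F) *ᵥ e0 = k • e0) :
    ∃ (a b : F) (μ : Fˣ), g = T (two_eq_zero hF) m a b * H (two_eq_zero hF) m μ := by
  have h2 := two_eq_zero hF
  obtain ⟨c', κ, hκ, hc'⟩ := stab_ov h2 hg (some (0, 0))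
  rcases c' with _ | ⟨a, b⟩
  · exfalso
    have h4 : (g : Matrix (Fin 4) (Fin 4) F) *ᵥ ov (sig h2 m) (some (0, 0)) =
        (g : Matrix (Fin 4) (Fin 4) F) *ᵥ ((κ / k) • e0) := by
      rw [Matrix.mulVec_smul, h0, smul_smul, div_mul_cancel₀ _ hk, hc']
      rfl
    have h5 := mulVec_inj g h4
    have := congrFun h5 3
    simp [ov] at this
  · refine ⟨a, b, ?_⟩
    have hg' : (T h2 m a b)⁻¹ * g ∈ Cfsg.Sz F m :=
      (Cfsg.Sz F m).mul_mem ((Cfsg.Sz F m).inv_mem (T_mem hF a b)) hg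
    have h0' : (((T h2 m a b)⁻¹ * g : Matrix.SpecialLinearGroup (Fin 4) F) :
        Matrix (Fin 4) (Fin 4) F) *ᵥ e0 = k • e0 := by
      rw [Matrix.SpecialLinearGroup.coe_mul, ← Matrix.mulVec_mulVec, h0, Matrix.mulVec_smul,
        T_inv hF]
      congr 1
      exact T_mulVec_e0 hF _ _
    have h3' : (((T h2 m a b)⁻¹ * g : Matrix.SpecialLinearGroup (Fin 4) F) :
        Matrix (Fin 4) (Fin 4) F) *ᵥ e3 = κ • e3 := by
      rw [Matrix.SpecialLinearGroup.coe_mul, ← Matrix.mulVec_mulVec, ← pv_zero_zero (sig h2 m)]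
      change ((T h2 m a b)⁻¹ : Matrix.SpecialLinearGroup (Fin 4) F).1 *ᵥ
        ((g : Matrix (Fin 4) (Fin 4) F) *ᵥ ov (sig h2 m) (some (0, 0))) = _
      rw [hc', Matrix.mulVec_smul, pv_zero_zero]
      congr 1
      exact T_inv_mulVec_pv hF a b
    obtain ⟨μ, hμ⟩ := two_point hF hm hg' hk hκ h0' h3'
    refine ⟨μ, ?_⟩
    rw [← hμ, mul_inv_cancel_left]

include hF in
theorem TH_unique {a b a' b' : F} {μ μ' : Fˣ}
    (h : T (two_eq_zero hF) m a b * H (two_eq_zero hF) m μ =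
      T (two_eq_zero hF) m a' b' * H (two_eq_zero hF) m μ') : a = a' ∧ b = b' ∧ μ = μ' := by
  have h2 := two_eq_zero hF
  have key : ∀ (a b : F) (μ : Fˣ),
      ((T h2 m a b * H h2 m μ : Matrix.SpecialLinearGroup (Fin 4) F) :
        Matrix (Fin 4) (Fin 4) F) *ᵥ e3 =
        ((μ : F) * sig h2 m (μ : F))⁻¹ • pv (sig h2 m) a b := by
    intro a b μ
    rw [Matrix.SpecialLinearGroup.coe_mul, ← Matrix.mulVec_mulVec, H_mulVec_e3 hF,
      Matrix.mulVec_smul, ← pv_zero_zero (sig h2 m), T_mulVec_pv hF]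
    simp
  have h1 := key a b μ
  rw [h, key a' b' μ'] at h1
  have c3 := congrFun h1 3
  have c2 := congrFun h1 2
  have c1 := congrFun h1 1
  simp only [Pi.smul_apply, pv_three, pv_two, pv_one, smul_eq_mul, mul_one] at c3 c2 c1
  have hne : ((μ : F) * sig h2 m (μ : F))⁻¹ ≠ 0 :=
    inv_ne_zero (mul_ne_zero μ.ne_zero (fun h => μ.ne_zero ((map_eq_zero _).mp h)))
  rw [c3] at c2 c1
  have ha : a = a' := (mul_left_cancel₀ hne c2).symm
  have hb : b = b' := (mul_left_cancel₀ hne c1).symm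
  subst ha hb
  refine ⟨rfl, rfl, ?_⟩
  exact H_injective h2 m (mul_left_cancel h)

end

end Cfsg.Agent.Lib.Helper15.SuzukiGroup
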