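import Cfsg.Agent.Lib.Helper15.SuzukiForm

/-!
# Explicit elements of the Suzuki group (helper15)

`Tm a b` (translations), `Hm μ` (torus), and the antidiagonal matrix, with their action on the
ovoid vectors.
-/

set_option autoImplicit false

namespace Cfsg.Agent.Lib.Helper15.SuzukiMat

open Cfsg.Agent.Lib.Helper15.SuzukiAlg Cfsg.Agent.Lib.Helper15.SuzukiForm Matrix

variable {F : Type*} [Field F] (σ : F →+* F)

/-- translation matrix -/
def Tm (a b : F) : Matrix (Fin 4) (Fin 4) F :=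
  Matrix.of ![![1, a, b + a * σ a, f σ a b], ![0, 1, σ a, b], ![0, 0, 1, a], ![0, 0, 0, 1]]

/-- torus matrix -/
def Hm (μ : F) : Matrix (Fin 4) (Fin 4) F :=
  Matrix.diagonal ![μ * σ μ, μ, μ⁻¹, (μ * σ μ)⁻¹]

theorem Tm_mulVec (a b : F) (v : Fin 4 → F) :
    Tm σ a b *ᵥ v = ![v 0 + a * v 1 + (b + a * σ a) * v 2 + f σ a b * v 3,
      v 1 + σ a * v 2 + b * v 3, v 2 + a * v 3, v 3] := by
  funext i
  fin_cases i <;> simp [Tm, Matrix.mulVec, dotProduct, Fin.sum_univ_four]

theorem Hm_mulVec (μ : F) (v : Fin 4 → F) :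
    Hm σ μ *ᵥ v = ![μ * σ μ * v 0, μ * v 1, μ⁻¹ * v 2, (μ * σ μ)⁻¹ * v 3] := by
  funext i
  rw [Hm, Matrix.mulVec_diagonal]
  fin_cases i <;> rfl

theorem Tm_e0 (a b : F) : Tm σ a b *ᵥ e0 = e0 := by
  rw [Tm_mulVec]
  funext i
  fin_cases i <;> simp [e0]

theorem Hm_e0 (μ : F) : Hm σ μ *ᵥ e0 = (μ * σ μ) • e0 := by
  rw [Hm_mulVec]
  funext i
  fin_cases i <;> simp [e0]

theorem J_e0 : Cfsg.suzukiForm F *ᵥ e0 = pv σ 0 0 := by
  rw [suzukiForm_mulVec]
  funext i
  fin_cases i <;> simp [Jv, e0, pv, f]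

theorem J_pv_zero : Cfsg.suzukiForm F *ᵥ pv σ 0 0 = e0 := by
  rw [suzukiForm_mulVec]
  funext i
  fin_cases i <;> simp [Jv, e0, pv, f]

section
variable (hσ : ∀ a, σ (σ a) = a ^ 2) (h2 : (2 : F) = 0)

include hσ h2 in
theorem Tm_pv (a b x y : F) : Tm σ a b *ᵥ pv σ x y = pv σ (x + a) (y + b + σ a * x) := by
  rw [Tm_mulVec]
  funext i
  fin_cases i
  · show pv σ x y 0 + a * pv σ x y 1 + (b + a * σ a) * pv σ x y 2 + f σ a b * pv σ x y 3 =
      pv σ (x + a) (y + b + σ a * x) 0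
    simp only [pv_zero, pv_one, pv_two, pv_three, mul_one]
    exact (f_trans σ hσ h2 a b x y).symm
  · show pv σ x y 1 + σ a * pv σ x y 2 + b * pv σ x y 3 = pv σ (x + a) (y + b + σ a * x) 1
    simp only [pv_one, pv_two, pv_three, mul_one]
    ring
  · show pv σ x y 2 + a * pv σ x y 3 = pv σ (x + a) (y + b + σ a * x) 2
    simp only [pv_two, pv_three, mul_one]
  · rfl

include hσ in
theorem Hm_pv {μ : F} (hμ : μ ≠ 0) (x y : F) :
    Hm σ μ *ᵥ pv σ x y = (μ * σ μ)⁻¹ • pv σ (σ μ * x) (μ ^ 2 * σ μ * y) := by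
  have hsμ : σ μ ≠ 0 := fun h => hμ ((map_eq_zero σ).mp h)
  rw [Hm_mulVec]
  funext i
  fin_cases i
  · show μ * σ μ * pv σ x y 0 = (μ * σ μ)⁻¹ * pv σ (σ μ * x) (μ ^ 2 * σ μ * y) 0
    simp only [pv_zero]
    have : f σ (σ μ * x) (μ ^ 2 * σ μ * y) = (μ * σ μ) ^ 2 * f σ x y := by
      simp only [f, map_mul, map_pow, hσ]
      ring
    rw [this]
    field_simp
  · show μ * pv σ x y 1 = (μ * σ μ)⁻¹ * pv σ (σ μ * x) (μ ^ 2 * σ μ * y) 1
    simp only [pv_one]
    field_simp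
  · show μ⁻¹ * pv σ x y 2 = (μ * σ μ)⁻¹ * pv σ (σ μ * x) (μ ^ 2 * σ μ * y) 2
    simp only [pv_two]
    field_simp
  · show (μ * σ μ)⁻¹ * pv σ x y 3 = (μ * σ μ)⁻¹ * pv σ (σ μ * x) (μ ^ 2 * σ μ * y) 3
    simp only [pv_three]

include hσ h2 in
theorem J_pv {x y : F} (hxy : ¬(x = 0 ∧ y = 0)) :
    Cfsg.suzukiForm F *ᵥ pv σ x y = f σ x y • pv σ (y / f σ x y) (x / f σ x y) := by
  have hf := f_ne_zero σ hσ h2 hxy
  rw [suzukiForm_mulVec]
  funext i
  fin_cases i
  · show pv σ x y 3 = f σ x y * pv σ (y / f σ x y) (x / f σ x y) 0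
    rw [pv_three, pv_zero, key_div σ hσ h2 hf]
    field_simp
  · show pv σ x y 2 = f σ x y * pv σ (y / f σ x y) (x / f σ x y) 1
    rw [pv_two, pv_one]
    field_simp
  · show pv σ x y 1 = f σ x y * pv σ (y / f σ x y) (x / f σ x y) 2
    rw [pv_one, pv_two]
    field_simp
  · show pv σ x y 0 = f σ x y * pv σ (y / f σ x y) (x / f σ x y) 3
    rw [pv_zero, pv_three, mul_one]

include hσ h2 in
theorem Tm_mul (a b c d : F) : Tm σ a b * Tm σ c d = Tm σ (a + c) (b + d + σ a * c) := by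
  have hf := f_trans σ hσ h2 a b c d
  ext i j
  fin_cases i <;> fin_cases j <;>
    simp [Tm, Matrix.mul_apply, Fin.sum_univ_four] <;> grind

theorem Tm_zero : Tm σ 0 0 = 1 := by
  ext i j
  fin_cases i <;> fin_cases j <;> simp [Tm, f]

theorem det_Tm (a b : F) : (Tm σ a b).det = 1 := by
  have h : (Tm σ a b).BlockTriangular id := by
    intro i j hij
    fin_cases i <;> fin_cases j <;> first | rfl | (exfalso; revert hij; decide)
  rw [Matrix.det_of_isUpperTriangular h, Fin.prod_univ_four]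
  simp [Tm]

theorem det_Hm {μ : F} (hμ : μ ≠ 0) : (Hm σ μ).det = 1 := by
  have hsμ : σ μ ≠ 0 := fun h => hμ ((map_eq_zero σ).mp h)
  rw [Hm, Matrix.det_diagonal, Fin.prod_univ_four]
  simp
  field_simp

include h2 in
theorem det_J : (Cfsg.suzukiForm F).det = 1 := by
  have := congrArg Matrix.det (suzukiForm_mul_self (F := F))
  rw [Matrix.det_mul, Matrix.det_one] at this
  have h3 : ((Cfsg.suzukiForm F).det + 1) ^ 2 = 0 := by grind
  exact eq_of_add_eq_zero h2 (pow_eq_zero_iff (by norm_num) |>.mp h3)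

theorem Hm_mul (μ ν : F) : Hm σ μ * Hm σ ν = Hm σ (μ * ν) := by
  rw [Hm, Hm, Hm, Matrix.diagonal_mul_diagonal]
  congr 1
  funext i
  fin_cases i <;> simp <;> ring

theorem Hm_one : Hm σ 1 = 1 := by
  rw [Hm, ← Matrix.diagonal_one]
  congr 1
  funext i
  fin_cases i <;> simp

include h2 in
theorem sq_inj {u v : F} (h : u ^ 2 = v ^ 2) : u = v := by
  have : (u + v) ^ 2 = 0 := by grind
  exact eq_of_add_eq_zero h2 (pow_eq_zero_iff (by norm_num) |>.mp this)

include hσ h2 in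
/-- the functional equation of an element fixing both standard points -/
theorem FE_solve {l a b c d : F} (hl : l ≠ 0) (ht : ∃ t : F, σ t ≠ t ^ 2)
    (hdet : a * d + b * c = 1)
    (hFE : ∀ x y, f σ (l * (c * y + d * x)) (l * (a * y + b * x)) = l ^ 2 * f σ x y) :
    b = 0 ∧ c = 0 ∧ l = a * σ a ∧ d = a⁻¹ := by
  obtain ⟨t, ht⟩ := ht
  have hsl : σ l ≠ 0 := fun h => hl ((map_eq_zero σ).mp h)
  have htt : t ^ 2 + σ t ≠ 0 := fun h => ht (eq_of_add_eq_zero h2 h).symm
  have hc : c = 0 := by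
    have h1 := hFE 0 t
    have h3 := hFE 0 1
    have h4 := hFE 0 (t + 1)
    simp only [f, map_add, map_mul, map_one, map_zero, hσ, mul_zero, add_zero, mul_one] at h1 h3 h4
    have : l ^ 2 * σ l * (c ^ 2 * σ c) * (t ^ 2 + σ t) = 0 := by grind
    have h5 : c ^ 2 * σ c = 0 := by
      rcases mul_eq_zero.mp this with h6 | h6
      · rcases mul_eq_zero.mp h6 with h7 | h7
        · exfalso
          rcases mul_eq_zero.mp h7 with h8 | h8
          · exact hl (pow_eq_zero_iff (by norm_num) |>.mp h8)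
          · exact hsl h8
        · exact h7
      · exact absurd h6 htt
    rcases mul_eq_zero.mp h5 with h6 | h6
    · exact pow_eq_zero_iff (by norm_num) |>.mp h6
    · exact (map_eq_zero σ).mp h6
  subst hc
  have hb : b = 0 := by
    have h1 := hFE t 0
    have h3 := hFE 1 0
    have h4 := hFE (t + 1) 0
    simp only [f, map_add, map_mul, map_one, map_zero, hσ, mul_zero, add_zero, mul_one,
      zero_add, zero_mul] at h1 h3 h4
    have h5 : (l ^ 2 * d ^ 2 * (σ l * σ d) + l ^ 2) * (t ^ 2 + σ t) = 0 := by grind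
    have h6 : l ^ 2 * d ^ 2 * (σ l * σ d) + l ^ 2 = 0 := by
      rcases mul_eq_zero.mp h5 with h6 | h6
      · exact h6
      · exact absurd h6 htt
    have h7 : σ l * σ b * (t ^ 2 + σ t) = 0 := by grind
    have h8 : σ b = 0 := by
      rcases mul_eq_zero.mp h7 with h8 | h8
      · rcases mul_eq_zero.mp h8 with h9 | h9
        · exact absurd h9 hsl
        · exact h9
      · exact absurd h8 htt
    exact (map_eq_zero σ).mp h8
  subst hb
  have had : a * d = 1 := by simpa using hdet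
  have ha : a ≠ 0 := fun h => by rw [h, zero_mul] at had; exact zero_ne_one had
  have h1 := hFE 0 1
  simp only [f, map_add, map_mul, map_one, map_zero, hσ, mul_zero, add_zero, mul_one,
      zero_add, zero_mul] at h1
  -- h1 : σ l * σ a = l ^ 2
  have h3 : l * a = σ l := by
    apply sq_inj h2
    have := congrArg σ h1
    simp only [map_mul, map_pow, hσ] at this
    rw [mul_pow]; exact this
  have h4 : l = a * σ a := by
    have : l * (l + a * σ a) = 0 := by
      have h5 := congrArg σ h3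
      simp only [map_mul, hσ] at h5
      grind
    rcases mul_eq_zero.mp this with h6 | h6
    · exact absurd h6 hl
    · exact eq_of_add_eq_zero h2 h6
  refine ⟨rfl, rfl, h4, ?_⟩
  exact eq_inv_of_mul_eq_one_right had

end

end Cfsg.Agent.Lib.Helper15.SuzukiMat
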