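import Cfsg.Prelude.Def_LieExceptional
import Cfsg.Agent.Lib.Helper15.SuzukiAlg

/-!
# The Suzuki–Tits ovoid of the Prelude in terms of `SuzukiAlg` (helper15)
-/

set_option autoImplicit false

namespace Cfsg.Agent.Lib.Helper15.SuzukiOvoid

open Cfsg.Agent.Lib.Helper15.SuzukiAlg

variable {F : Type*} [Field F]

theorem two_eq_zero [Fintype F] {m : ℕ} (hF : Fintype.card F = 2 ^ (2 * m + 1)) :
    (2 : F) = 0 := by
  have := FiniteField.cast_card_eq_zero F
  rw [hF] at this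
  push_cast at this
  exact (pow_eq_zero_iff (by omega)).mp this

/-- the Tits endomorphism `a ↦ a ^ 2 ^ (m + 1)` -/
def sig (h2 : (2 : F) = 0) (m : ℕ) : F →+* F where
  toFun a := a ^ (2 ^ (m + 1))
  map_one' := one_pow _
  map_mul' a b := mul_pow a b _
  map_zero' := zero_pow (by positivity)
  map_add' a b := by
    have : CharP F 2 := CharTwo.of_one_ne_zero_of_two_eq_zero one_ne_zero h2
    exact add_pow_char_pow a b 2 (m + 1)

theorem sig_apply (h2 : (2 : F) = 0) (m : ℕ) (a : F) : sig h2 m a = a ^ (2 ^ (m + 1)) := rfl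

theorem sig_sig [Fintype F] (h2 : (2 : F) = 0) {m : ℕ} (hF : Fintype.card F = 2 ^ (2 * m + 1))
    (a : F) : sig h2 m (sig h2 m a) = a ^ 2 := by
  simp only [sig_apply]
  rw [← pow_mul]
  have : 2 ^ (m + 1) * 2 ^ (m + 1) = Fintype.card F * 2 := by
    rw [hF]; ring
  rw [this, pow_mul, FiniteField.pow_card]

theorem f_sig (h2 : (2 : F) = 0) (m : ℕ) (x y : F) :
    f (sig h2 m) x y = x * y + x ^ (2 ^ (m + 1) + 2) + y ^ (2 ^ (m + 1)) := by
  simp only [f, sig_apply]
  rw [pow_add]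
  ring

theorem mem_ovoid_iff (h2 : (2 : F) = 0) (m : ℕ) (P : Projectivization F (Fin 4 → F)) :
    P ∈ Cfsg.suzukiOvoid F m ↔
      ∃ c, P = Projectivization.mk F (ov (sig h2 m) c) (ov_ne_zero _ c) := by
  constructor
  · rintro ⟨v, hv, rfl, hv' | ⟨x, y, hxy⟩⟩
    · subst hv'
      exact ⟨none, rfl⟩
    · refine ⟨some (x, y), ?_⟩
      have : v = ov (sig h2 m) (some (x, y)) := by
        rw [hxy]
        simp only [ov, pv, f_sig]
      subst this
      rfl
  · rintro ⟨c, rfl⟩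
    rcases c with _ | ⟨x, y⟩
    · exact ⟨_, _, rfl, Or.inl rfl⟩
    · refine ⟨_, _, rfl, Or.inr ⟨x, y, ?_⟩⟩
      simp only [ov, pv, f_sig]

end Cfsg.Agent.Lib.Helper15.SuzukiOvoid
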