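import Mathlib
import Cfsg.Agent.Lib.Helper15.SylowLarge
import Cfsg.Agent.Lib.Helper14.SympCount

namespace Cfsg.Agent.Lib.Helper15.SylowLarge

open Polynomial Matrix

section arith2

variable {r : ℕ} [hr : Fact r.Prime] {q : ℕ}

/-- `r`-part of `q ^ i - 1` for odd `r` when `r ∤ i`. -/
lemma val_pow_odd (hq : 2 ≤ q) (hrq : ¬ r ∣ q) (hr2 : r ≠ 2) {i : ℕ} (hi : 0 < i)
    (hri : orderOf (q : ZMod r) ∣ i → ¬ r ∣ i) :
    padicValNat r (q ^ i - 1) =
      if orderOf (q : ZMod r) ∣ i then padicValNat r (q ^ orderOf (q : ZMod r) - 1) else 0 := by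
  set d := orderOf (q : ZMod r) with hd
  split_ifs with h
  · have hri' := hri h
    obtain ⟨j, rfl⟩ := h
    have hd0 : 0 < d := d_pos hrq
    have hj0 : 0 < j := by
      rcases Nat.eq_zero_or_pos j with h | h
      · subst h; omega
      · exact h
    have hr3 : Odd r := hr.out.odd_of_ne_two hr2
    have hqd : 1 < q ^ d := by
      calc 1 < 2 := by norm_num
        _ = 2 ^ 1 := by norm_num
        _ ≤ 2 ^ d := Nat.pow_le_pow_right (by norm_num) hd0
        _ ≤ q ^ d := Nat.pow_le_pow_left hq d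
    have h1 := padicValNat.pow_sub_pow (p := r) hr3 (x := q ^ d) (y := 1) hqd
      ((dvd_pow_sub_one_iff hrq d).mpr dvd_rfl)
      (fun hh => hrq (hr.out.dvd_of_dvd_pow hh)) (n := j) hj0.ne'
    rw [one_pow, ← pow_mul] at h1
    rw [h1]
    have : ¬ r ∣ j := fun hrj => hri' (Dvd.dvd.mul_left hrj d)
    rw [padicValNat.eq_zero_of_not_dvd this, add_zero]
  · apply padicValNat.eq_zero_of_not_dvd
    rwa [dvd_pow_sub_one_iff hrq]

/-- the `r`-part of `|GL_N(q)|` for `N < r d`, `r` odd. -/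
lemma val_GL_odd (hq : 2 ≤ q) (hrq : ¬ r ∣ q) (hr2 : r ≠ 2) {n : ℕ}
    (hn : n < r * orderOf (q : ZMod r)) :
    (∏ i : Fin n, (q ^ n - q ^ (i : ℕ))).factorization r =
      (n / orderOf (q : ZMod r)) * padicValNat r (q ^ orderOf (q : ZMod r) - 1) := by
  set d := orderOf (q : ZMod r) with hd
  have hq0 : 0 < q := q_pos hrq
  have hcop : Nat.Coprime r d := by
    have h1 : d ∣ r - 1 := d_dvd hrq
    have h2 : Nat.Coprime r (r - 1) := by
      have := hr.out.two_le
      have h3 : Nat.Coprime (r - 1 + 1) (r - 1) := by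
        rw [Nat.coprime_self_add_left]; exact Nat.coprime_one_left _
      rwa [Nat.sub_add_cancel (by omega)] at h3
    exact Nat.Coprime.coprime_dvd_right h1 h2
  rw [Fin.prod_univ_eq_prod_range (fun i => q ^ n - q ^ i) n]
  have hterm : ∀ i ∈ Finset.range n, q ^ n - q ^ i = q ^ i * (q ^ (n - i) - 1) := by
    intro i hi
    rw [Finset.mem_range] at hi
    rw [Nat.mul_sub, mul_one, ← pow_add]
    congr 2; omega
  rw [Finset.prod_congr rfl hterm]
  have hne : ∀ i ∈ Finset.range n, q ^ i * (q ^ (n - i) - 1) ≠ 0 := by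
    intro i hi
    rw [Finset.mem_range] at hi
    apply mul_ne_zero (pow_ne_zero _ hq0.ne')
    have : 2 ^ (n - i) ≤ q ^ (n - i) := Nat.pow_le_pow_left hq _
    have : 2 ^ 1 ≤ 2 ^ (n - i) := Nat.pow_le_pow_right (by norm_num) (by omega)
    omega
  rw [Nat.factorization_prod hne, Finsupp.finsetSum_apply]
  have hterm2 : ∀ i ∈ Finset.range n, (q ^ i * (q ^ (n - i) - 1)).factorization r =
      if d ∣ (n - i) then padicValNat r (q ^ d - 1) else 0 := by
    intro i hi
    have hne' := hne i hi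
    rw [Finset.mem_range] at hi
    rw [Nat.factorization_mul (left_ne_zero_of_mul hne') (right_ne_zero_of_mul hne'),
      Finsupp.add_apply, Nat.factorization_pow, Finsupp.smul_apply,
      Nat.factorization_eq_zero_of_not_dvd hrq, smul_zero, zero_add,
      Nat.factorization_def _ hr.out, val_pow_odd hq hrq hr2 (by omega)]
    intro hdk hrk
    have := Nat.le_of_dvd (by omega) (Nat.Coprime.mul_dvd_of_dvd_of_dvd hcop hrk hdk)
    omega
  rw [Finset.sum_congr rfl hterm2, Finset.sum_ite, Finset.sum_const_zero, add_zero,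
    Finset.sum_const, smul_eq_mul]
  congr 1
  rw [← Nat.Ioc_filter_dvd_card_eq_div n d]
  apply Finset.card_bij (fun i _ => n - i)
  · intro i hi
    rw [Finset.mem_filter, Finset.mem_range] at hi
    rw [Finset.mem_filter, Finset.mem_Ioc]
    exact ⟨⟨by omega, by omega⟩, hi.2⟩
  · intro i hi j hj hij
    rw [Finset.mem_filter, Finset.mem_range] at hi hj
    omega
  · intro j hj
    rw [Finset.mem_filter, Finset.mem_Ioc] at hj
    refine ⟨n - j, ?_, by omega⟩
    rw [Finset.mem_filter, Finset.mem_range]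
    refine ⟨by omega, ?_⟩
    have : n - (n - j) = j := by omega
    rw [this]; exact hj.2

/-- the `r`-part of `|Sp_{2n}(q)|` for `n < r`, `r` odd. -/
lemma val_Sp (hq : 2 ≤ q) (hrq : ¬ r ∣ q) (hr2 : r ≠ 2) {n : ℕ} (hn : n < r) :
    (q ^ (n ^ 2) * ∏ i ∈ Finset.range n, (q ^ (2 * (i + 1)) - 1)).factorization r =
      ((Finset.Icc 1 n).filter (fun i => orderOf (q : ZMod r) ∣ 2 * i)).card *
        padicValNat r (q ^ orderOf (q : ZMod r) - 1) := by
  set d := orderOf (q : ZMod r) with hd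
  have hq0 : 0 < q := q_pos hrq
  have hne : ∀ i ∈ Finset.range n, q ^ (2 * (i + 1)) - 1 ≠ 0 := by
    intro i _
    have : 2 ^ (2 * (i + 1)) ≤ q ^ (2 * (i + 1)) := Nat.pow_le_pow_left hq _
    have : 2 ^ 1 ≤ 2 ^ (2 * (i + 1)) := Nat.pow_le_pow_right (by norm_num) (by omega)
    omega
  rw [Nat.factorization_mul (pow_ne_zero _ hq0.ne') (Finset.prod_ne_zero_iff.mpr hne),
    Finsupp.add_apply, Nat.factorization_pow, Finsupp.smul_apply,
    Nat.factorization_eq_zero_of_not_dvd hrq, smul_zero, zero_add,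
    Nat.factorization_prod hne, Finsupp.finsetSum_apply]
  have hterm2 : ∀ i ∈ Finset.range n, (q ^ (2 * (i + 1)) - 1).factorization r =
      if d ∣ 2 * (i + 1) then padicValNat r (q ^ d - 1) else 0 := by
    intro i hi
    rw [Finset.mem_range] at hi
    rw [Nat.factorization_def _ hr.out, val_pow_odd hq hrq hr2 (by omega)]
    intro _ hrk
    rcases (Nat.Prime.dvd_mul hr.out).mp hrk with h | h
    · have := Nat.le_of_dvd (by norm_num) h
      have := hr.out.two_le
      omega
    · have := Nat.le_of_dvd (by omega) h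
      omega
  rw [Finset.sum_congr rfl hterm2, Finset.sum_ite, Finset.sum_const_zero, add_zero,
    Finset.sum_const, smul_eq_mul]
  congr 1
  apply Finset.card_bij (fun i _ => i + 1)
  · intro i hi
    rw [Finset.mem_filter, Finset.mem_range] at hi
    rw [Finset.mem_filter, Finset.mem_Icc]
    exact ⟨⟨by omega, by omega⟩, hi.2⟩
  · intro i hi j hj hij
    omega
  · intro j hj
    rw [Finset.mem_filter, Finset.mem_Icc] at hj
    refine ⟨j - 1, ?_, by omega⟩
    rw [Finset.mem_filter, Finset.mem_range]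
    refine ⟨by omega, ?_⟩
    have : j - 1 + 1 = j := by omega
    rw [this]; exact hj.2

lemma count_odd (n d : ℕ) (hd : Odd d) :
    ((Finset.Icc 1 n).filter (fun i => d ∣ 2 * i)).card = n / d := by
  rw [← Nat.Ioc_filter_dvd_card_eq_div n d]
  congr 1
  ext i
  simp only [Finset.mem_filter, Finset.mem_Icc, Finset.mem_Ioc]
  have hc : Nat.Coprime d 2 := Nat.Coprime.symm (Nat.coprime_two_left.mpr hd)
  constructor
  · rintro ⟨h1, h2⟩
    exact ⟨by omega, hc.dvd_of_dvd_mul_left h2⟩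
  · rintro ⟨h1, h2⟩
    exact ⟨by omega, Dvd.dvd.mul_left h2 2⟩

lemma count_even (n d : ℕ) (hd : Even d) (hd0 : 0 < d) :
    ((Finset.Icc 1 n).filter (fun i => d ∣ 2 * i)).card = (n + n) / d := by
  obtain ⟨e, rfl⟩ := hd
  have he : 0 < e := by omega
  have h1 : (n + n) / (e + e) = n / e := by
    rw [← two_mul, ← two_mul, Nat.mul_div_mul_left _ _ (by norm_num : 0 < 2)]
  rw [h1, ← Nat.Ioc_filter_dvd_card_eq_div n e]
  congr 1
  ext i
  simp only [Finset.mem_filter, Finset.mem_Icc, Finset.mem_Ioc]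
  rw [← two_mul, Nat.mul_dvd_mul_iff_left (by norm_num : 0 < 2)]
  constructor
  · rintro ⟨h1, h2⟩
    exact ⟨by omega, h2⟩
  · rintro ⟨h1, h2⟩
    exact ⟨by omega, h2⟩

end arith2

section Spmain

variable {F : Type*} [Field F] [Fintype F]

/-- `GL_N` Sylow subgroups, from the order count. -/
theorem gl_core {q : ℕ} (hq : Fintype.card F = q) (n : ℕ)
    (r : ℕ) [hr : Fact r.Prime] (hrq : ¬ r ∣ q)
    (hval : (∏ i : Fin n, (q ^ n - q ^ (i : ℕ))).factorization r =
      (n / orderOf (q : ZMod r)) * padicValNat r (q ^ orderOf (q : ZMod r) - 1))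
    (P : Sylow r (GL (Fin n) F)) :
    Nonempty (↥(P : Subgroup (GL (Fin n) F)) ≃*
      (Fin (n / orderOf (q : ZMod r)) →
        Multiplicative (ZMod (r ^ padicValNat r (q ^ orderOf (q : ZMod r) - 1))))) := by
  classical
  set d := orderOf (q : ZMod r) with hd
  have hd0 : 0 < d := d_pos hrq
  have : NeZero d := ⟨hd0.ne'⟩
  obtain ⟨p, hp⟩ := CharP.exists F
  have : Fact p.Prime := ⟨CharP.char_is_prime F p⟩
  let K := FiniteField.Extension F p d
  have hfr : Module.finrank F K = d := FiniteField.finrank_extension F p d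
  have hKcard : Nat.card K = q ^ d := by
    rw [FiniteField.natCard_extension, Nat.card_eq_fintype_card, hq]
  have : Fintype K := Fintype.ofFinite K
  have hKu : Nat.card Kˣ = q ^ d - 1 := by
    rw [Nat.card_units, hKcard]
  set v := padicValNat r (q ^ d - 1) with hv
  have hm : r ^ v ∣ Nat.card Kˣ := by rw [hKu]; exact pow_padicValNat_dvd
  obtain ⟨ι, hι⟩ := exists_zmod_hom (G := Kˣ) (r ^ v) hm
  obtain ⟨τ, hτ⟩ := exists_torus_hom (F := F) K (n / d) (n % d) n
    (by rw [hfr, mul_comm]; exact Nat.div_add_mod n d)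
  have : NeZero (r ^ v) := ⟨pow_ne_zero _ hr.out.ne_zero⟩
  refine sylow_equiv_of_embedding r
    (τ.comp (MonoidHom.pi (fun i => ι.comp (Pi.evalMonoidHom _ i))))
    (hτ.comp (pi_hom_injective ι hι)) ?_ P
  rw [card_torus, Matrix.card_GL_field, hq, hval, ← pow_mul, mul_comm]

omit [Fintype F] in
/-- `GL_n` embeds in `Sp_{2n}` as `diag(A, A⁻ᵀ)`. -/
lemma exists_gl_sp_hom (n : ℕ) :
    ∃ f : GL (Fin n) F →* ↥(Matrix.symplecticGroup (Fin n) F), Function.Injective f := by
  classical
  have hmem : ∀ A : GL (Fin n) F,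
      fromBlocks (A : Matrix (Fin n) (Fin n) F) 0 0 ((A⁻¹ : GL (Fin n) F) : Matrix (Fin n) (Fin n) F)ᵀ
        ∈ Matrix.symplecticGroup (Fin n) F := by
    intro A
    rw [SymplecticGroup.fromBlocks_mem_iff]
    refine ⟨by simp, by simp, ?_⟩
    rw [← transpose_mul]
    have : ((A⁻¹ : GL (Fin n) F) : Matrix (Fin n) (Fin n) F) * (A : Matrix (Fin n) (Fin n) F) = 1 := by
      rw [← Units.val_mul, inv_mul_cancel]; rfl
    rw [this]
    simp
  refine ⟨MonoidHom.mk' (fun A => ⟨_, hmem A⟩) ?_, ?_⟩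
  · intro A B
    apply Subtype.ext
    show fromBlocks ((A * B : GL (Fin n) F) : Matrix (Fin n) (Fin n) F) 0 0
        (((A * B)⁻¹ : GL (Fin n) F) : Matrix (Fin n) (Fin n) F)ᵀ =
      fromBlocks (A : Matrix (Fin n) (Fin n) F) 0 0 ((A⁻¹ : GL (Fin n) F) : Matrix (Fin n) (Fin n) F)ᵀ *
        fromBlocks (B : Matrix (Fin n) (Fin n) F) 0 0 ((B⁻¹ : GL (Fin n) F) : Matrix (Fin n) (Fin n) F)ᵀ
    rw [fromBlocks_multiply, _root_.mul_inv_rev, Units.val_mul, Units.val_mul, transpose_mul]
    simp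
  · intro A B hAB
    have h1 := congrArg Subtype.val hAB
    simp only [MonoidHom.mk'_apply] at h1
    rw [fromBlocks_inj] at h1
    exact Units.ext h1.1

omit [Fintype F] in
/-- `Sp_{2n}` embeds in `GL_{2n}`. -/
lemma exists_sp_gl_hom (n : ℕ) :
    ∃ f : ↥(Matrix.symplecticGroup (Fin n) F) →* GL (Fin (n + n)) F, Function.Injective f := by
  classical
  let f1 : ↥(Matrix.symplecticGroup (Fin n) F) →* GL (Fin n ⊕ Fin n) F :=
    (Matrix.symplecticGroup (Fin n) F).subtype.toHomUnits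
  have hf1 : Function.Injective f1 := by
    intro a b hab
    apply Subtype.ext
    have := congrArg Units.val hab
    exact this
  let e : GL (Fin n ⊕ Fin n) F ≃* GL (Fin (n + n)) F :=
    Units.mapEquiv (Matrix.reindexAlgEquiv F F finSumFinEquiv).toMulEquiv
  exact ⟨e.toMonoidHom.comp f1, e.injective.comp hf1⟩

theorem sp_main {q : ℕ} (hq : Fintype.card F = q) (n : ℕ)
    (r : ℕ) [hr : Fact r.Prime] (hr2 : r ≠ 2) (hrn : n < r) (hrq : ¬ r ∣ q)
    (P : Sylow r ↥(Matrix.symplecticGroup (Fin n) F)) :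
    Nonempty (↥(P : Subgroup ↥(Matrix.symplecticGroup (Fin n) F)) ≃*
      (Fin ((Finset.Icc 1 n).filter (fun i => orderOf (q : ZMod r) ∣ 2 * i)).card →
        Multiplicative (ZMod (r ^ padicValNat r ((Polynomial.cyclotomic (orderOf (q : ZMod r)) ℤ).eval (q : ℤ)).natAbs)))) := by
  classical
  have hq2 : 2 ≤ q := by rw [← hq]; exact Fintype.one_lt_card
  rw [val_cyclo hq2 hrq]
  set d := orderOf (q : ZMod r) with hd
  have hd0 : 0 < d := d_pos hrq
  set v := padicValNat r (q ^ d - 1) with hv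
  have : NeZero (r ^ v) := ⟨pow_ne_zero _ hr.out.ne_zero⟩
  have hcardSp : (Nat.card ↥(Matrix.symplecticGroup (Fin n) F)).factorization r =
      ((Finset.Icc 1 n).filter (fun i => d ∣ 2 * i)).card * v := by
    rw [Cfsg.Agent.Lib.Helper14.card_symplectic, hq, val_Sp hq2 hrq hr2 hrn]
  rcases Nat.even_or_odd d with hde | hdo
  · -- `d` even: compare with `GL_{2n}`
    have hcount := count_even n d hde hd0
    rw [hcount] at hcardSp ⊢
    obtain ⟨ψ, hψ⟩ := exists_sp_gl_hom (F := F) n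
    have hd2 : 2 ≤ d := by
      obtain ⟨e, he⟩ := hde
      omega
    have hN : n + n < r * d := by nlinarith
    have hvalGL := val_GL_odd hq2 hrq hr2 hN
    have hP' : Nat.card ((P : Subgroup ↥(Matrix.symplecticGroup (Fin n) F)).map ψ) =
        r ^ (Nat.card (GL (Fin (n + n)) F)).factorization r := by
      rw [Matrix.card_GL_field, hq, hvalGL, ← hd, ← hv, ← hcardSp, ← Sylow.card_eq_multiplicity]
      exact Nat.card_congr ((P : Subgroup ↥(Matrix.symplecticGroup (Fin n) F)).equivMapOfInjective ψ hψ).symm.toEquiv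
    let Q : Sylow r (GL (Fin (n + n)) F) := Sylow.ofCard _ hP'
    obtain ⟨e1⟩ := gl_core hq (n + n) r hrq hvalGL Q
    exact ⟨((P : Subgroup ↥(Matrix.symplecticGroup (Fin n) F)).equivMapOfInjective ψ hψ).trans e1⟩
  · -- `d` odd: torus of `GL_n`
    have hcount := count_odd n d hdo
    rw [hcount] at hcardSp ⊢
    have : NeZero d := ⟨hd0.ne'⟩
    obtain ⟨p, hp⟩ := CharP.exists F
    have : Fact p.Prime := ⟨CharP.char_is_prime F p⟩
    let K := FiniteField.Extension F p d
    have hfr : Module.finrank F K = d := FiniteField.finrank_extension F p d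
    have hKcard : Nat.card K = q ^ d := by
      rw [FiniteField.natCard_extension, Nat.card_eq_fintype_card, hq]
    have : Fintype K := Fintype.ofFinite K
    have hKu : Nat.card Kˣ = q ^ d - 1 := by
      rw [Nat.card_units, hKcard]
    have hm : r ^ v ∣ Nat.card Kˣ := by rw [hKu]; exact pow_padicValNat_dvd
    obtain ⟨ι, hι⟩ := exists_zmod_hom (G := Kˣ) (r ^ v) hm
    obtain ⟨τ, hτ⟩ := exists_torus_hom (F := F) K (n / d) (n % d) n
      (by rw [hfr, mul_comm]; exact Nat.div_add_mod n d)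
    obtain ⟨σ, hσ⟩ := exists_gl_sp_hom (F := F) n
    refine sylow_equiv_of_embedding r
      (σ.comp (τ.comp (MonoidHom.pi (fun i => ι.comp (Pi.evalMonoidHom _ i)))))
      (hσ.comp (hτ.comp (pi_hom_injective ι hι))) ?_ P
    rw [card_torus, hcardSp, ← pow_mul, mul_comm]

end Spmain

end Cfsg.Agent.Lib.Helper15.SylowLarge
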