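import Mathlib

/-!
helper15: odd order of permutations from pointwise data; the "suspension" lemma; alternating walks
of two involutions.
-/

set_option autoImplicit false

namespace Cfsg.Agent.Lib.Helper15.SymOdd

open Equiv

variable {Ω : Type*} [DecidableEq Ω] [Fintype Ω]

omit [DecidableEq Ω] in
/-- pointwise odd periods imply odd order -/
theorem odd_orderOf_of_pointwise (d : Perm Ω) (h : ∀ v, ∃ r, Odd r ∧ (d ^ r) v = v) :
    Odd (orderOf d) := by
  choose r hr1 hr2 using h
  have hJ : Odd (∏ v, r v) := by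
    apply Finset.prod_induction _ (fun n => Odd n)
    · intro a b ha hb
      exact ha.mul hb
    · exact odd_one
    · intro v _
      exact hr1 v
  refine Odd.of_dvd_nat hJ (orderOf_dvd_of_pow_eq_one ?_)
  ext v
  obtain ⟨m, hm⟩ := Finset.dvd_prod_of_mem r (Finset.mem_univ v)
  rw [hm, pow_mul, Perm.one_apply]
  exact Perm.pow_apply_eq_self_of_apply_eq_self (hr2 v) m

omit [DecidableEq Ω] [Fintype Ω] in
theorem pow_apply_of_odd_orderOf (c : Perm Ω) (hc : Odd (orderOf c)) (v : Ω) :
    ∃ r, Odd r ∧ (c ^ r) v = v :=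
  ⟨orderOf c, hc, by rw [pow_orderOf_eq_one]; rfl⟩

omit [DecidableEq Ω] in
/-- **Suspension lemma.** If `d` returns to the base set `B` along `c`, in an odd number of steps each
time, and `c` has odd order, then `d` has odd order. -/
theorem odd_orderOf_of_suspension (c d : Perm Ω) (B : Set Ω)
    (hc : Odd (orderOf c)) (hcB : ∀ v ∈ B, c v ∈ B)
    (hstep : ∀ v ∈ B, ∃ r, Odd r ∧ (d ^ r) v = c v)
    (hout : ∀ v ∉ B, (∃ j, (d ^ j) v ∈ B) ∨ (∃ r, Odd r ∧ (d ^ r) v = v)) :
    Odd (orderOf d) := by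
  have stepA : ∀ i : ℕ, ∀ v ∈ B, (c ^ i) v ∈ B ∧ ∃ s, (Odd s ↔ Odd i) ∧ (d ^ s) v = (c ^ i) v := by
    intro i
    induction i with
    | zero =>
      intro v hv
      refine ⟨by simpa using hv, 0, by simp, by simp⟩
    | succ i ih =>
      intro v hv
      obtain ⟨hB, s, hs, hds⟩ := ih v hv
      obtain ⟨r, hr, hdr⟩ := hstep _ hB
      refine ⟨?_, r + s, ?_, ?_⟩
      · rw [pow_succ', Perm.mul_apply]
        exact hcB _ hB
      · rw [Nat.odd_iff] at hr
        rw [Nat.odd_iff, Nat.odd_iff] at hs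
        rw [Nat.odd_iff, Nat.odd_iff]
        omega
      · rw [pow_add, Perm.mul_apply, hds, hdr, pow_succ', Perm.mul_apply]
  have stepB : ∀ v ∈ B, ∃ s, Odd s ∧ (d ^ s) v = v := by
    intro v hv
    obtain ⟨_, s, hs, hds⟩ := stepA (orderOf c) v hv
    refine ⟨s, hs.mpr hc, ?_⟩
    rw [hds, pow_orderOf_eq_one]
    rfl
  apply odd_orderOf_of_pointwise
  intro v
  by_cases hv : v ∈ B
  · exact stepB v hv
  · rcases hout v hv with ⟨j, hj⟩ | h
    · obtain ⟨s, hs, hds⟩ := stepB _ hj
      refine ⟨s, hs, ?_⟩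
      have h1 : (d ^ j) ((d ^ s) v) = (d ^ j) v := by
        rw [← Perm.mul_apply, ← pow_add, add_comm, pow_add, Perm.mul_apply, hds]
      exact (d ^ j).injective h1
    · exact h

section walk

variable {α : Type*}

/-- alternating walk: `walk f g v 0 = v`, then apply `f`, `g`, `f`, ... -/
def walk (f g : α → α) (v : α) : ℕ → α
  | 0 => v
  | (k + 1) => if k % 2 = 0 then f (walk f g v k) else g (walk f g v k)

theorem walk_zero (f g : α → α) (v : α) : walk f g v 0 = v := rfl

theorem walk_succ_even (f g : α → α) (v : α) (k : ℕ) (hk : k % 2 = 0) :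
    walk f g v (k + 1) = f (walk f g v k) := by
  simp [walk, hk]

theorem walk_succ_odd (f g : α → α) (v : α) (k : ℕ) (hk : k % 2 = 1) :
    walk f g v (k + 1) = g (walk f g v k) := by
  have : ¬ k % 2 = 0 := by omega
  simp [walk, this]

/-- stepping back along the walk -/
theorem walk_back (f g : α → α) (hf : ∀ a, f (f a) = a) (hg : ∀ a, g (g a) = a) (v : α) (k : ℕ) :
    (if k % 2 = 0 then f (walk f g v (k + 1)) else g (walk f g v (k + 1))) = walk f g v k := by
  by_cases hk : k % 2 = 0
  · rw [if_pos hk, walk_succ_even f g v k hk, hf]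
  · rw [if_neg hk, walk_succ_odd f g v k (by omega), hg]

theorem walk_ne_odd (f g : α → α) (hf : ∀ a, f (f a) = a) (hg : ∀ a, g (g a) = a) (v : α) (n : ℕ)
    (hmove : ∀ k, k < n → walk f g v (k + 1) ≠ walk f g v k) :
    ∀ t i, i + (2 * t + 1) ≤ n → walk f g v i ≠ walk f g v (i + (2 * t + 1)) := by
  intro t
  induction t with
  | zero =>
    intro i hi h
    exact hmove i (by omega) h.symm
  | succ t ih =>
    intro i hi h
    apply ih (i + 1) (by omega)
    have e1 : i + 1 + (2 * t + 1) = i + 2 * t + 2 := by ring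
    have e2 : i + (2 * (t + 1) + 1) = (i + 2 * t + 2) + 1 := by ring
    rw [e1]
    rw [e2] at h
    have hb := walk_back f g hf hg v (i + 2 * t + 2)
    by_cases hi2 : i % 2 = 0
    · have h2 : (i + 2 * t + 2) % 2 = 0 := by omega
      rw [if_pos h2] at hb
      rw [walk_succ_even f g v i hi2, h, hb]
    · have h2 : ¬ (i + 2 * t + 2) % 2 = 0 := by omega
      rw [if_neg h2] at hb
      rw [walk_succ_odd f g v i (by omega), h, hb]

theorem walk_ne_even (f g : α → α) (hf : ∀ a, f (f a) = a) (hg : ∀ a, g (g a) = a) (v : α) (n : ℕ)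
    (heven : ∀ m, 0 < m → 2 * m ≤ n → walk f g v (2 * m) ≠ walk f g v 0) :
    ∀ i t, 0 < t → i + 2 * t ≤ n → walk f g v i ≠ walk f g v (i + 2 * t) := by
  intro i
  induction i with
  | zero =>
    intro t ht hn h
    rw [zero_add] at h hn
    exact heven t ht hn h.symm
  | succ i ih =>
    intro t ht hn h
    apply ih t ht (by omega)
    have e : i + 1 + 2 * t = (i + 2 * t) + 1 := by ring
    rw [e] at h
    have hb1 := walk_back f g hf hg v i
    have hb2 := walk_back f g hf hg v (i + 2 * t)
    by_cases hi2 : i % 2 = 0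
    · have h2 : (i + 2 * t) % 2 = 0 := by omega
      rw [if_pos hi2] at hb1
      rw [if_pos h2] at hb2
      rw [← hb1, h, hb2]
    · have h2 : ¬ (i + 2 * t) % 2 = 0 := by omega
      rw [if_neg hi2] at hb1
      rw [if_neg h2] at hb2
      rw [← hb1, h, hb2]

/-- **Walk lemma**: an alternating walk of two involutions which moves at each step and does not
return to its start at even times is injective. -/
theorem walk_injOn (f g : α → α) (hf : ∀ a, f (f a) = a) (hg : ∀ a, g (g a) = a) (v : α) (n : ℕ)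
    (hmove : ∀ k, k < n → walk f g v (k + 1) ≠ walk f g v k)
    (heven : ∀ m, 0 < m → 2 * m ≤ n → walk f g v (2 * m) ≠ walk f g v 0) :
    ∀ i j, i ≤ n → j ≤ n → walk f g v i = walk f g v j → i = j := by
  have key : ∀ i j, i < j → j ≤ n → walk f g v i ≠ walk f g v j := by
    intro i j hij hj
    obtain ⟨gap, rfl⟩ : ∃ gap, j = i + gap := ⟨j - i, by omega⟩
    rcases Nat.even_or_odd' gap with ⟨t, ht | ht⟩
    · rw [ht]
      exact walk_ne_even f g hf hg v n heven i t (by omega) (by omega)
    · rw [ht]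
      exact walk_ne_odd f g hf hg v n hmove t i (by omega)
  intro i j hi hj h
  rcases lt_trichotomy i j with hlt | heq | hgt
  · exact absurd h (key i j hlt hj)
  · exact heq
  · exact absurd h.symm (key j i hgt hi)

end walk

end Cfsg.Agent.Lib.Helper15.SymOdd
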