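import Mathlib
import Cfsg.Agent.Lib.Helper15.SymOddA

/-!
helper15: instances `(S, x, y)` of the common-neighbour problem for involutions of a symmetric
group, transport of explicit permutations of `Fin N` along an embedding, the restriction lemma and
the block step.
-/

set_option autoImplicit false

namespace Cfsg.Agent.Lib.Helper15.SymOdd

open Equiv

variable {Ω : Type*} [DecidableEq Ω] [Fintype Ω]

/-- two involutions with supports of the same size inside `S` -/
structure Inst (S : Finset Ω) (x y : Perm Ω) : Prop where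
  hx : x * x = 1
  hy : y * y = 1
  sx : x.support ⊆ S
  sy : y.support ⊆ S
  card : x.support.card = y.support.card

/-- the unique bad configuration: two distinct fixed-point-free involutions of a 4-set -/
def Bad (S : Finset Ω) (x y : Perm Ω) : Prop :=
  S.card = 4 ∧ x.support = S ∧ y.support = S ∧ x ≠ y

/-- a common neighbour supported in `S` -/
def Sol (S : Finset Ω) (x y : Perm Ω) : Prop :=
  ∃ z : Perm Ω, z * z = 1 ∧ z.support ⊆ S ∧ z.support.card = x.support.card ∧
    Odd (orderOf (x * z)) ∧ Odd (orderOf (z * y))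

omit [DecidableEq Ω] [Fintype Ω] in
theorem inv_apply_apply {x : Perm Ω} (hx : x * x = 1) (v : Ω) : x (x v) = v := by
  rw [← Perm.mul_apply, hx, Perm.one_apply]

omit [DecidableEq Ω] [Fintype Ω] in
theorem inv_apply_eq {x : Perm Ω} (hx : x * x = 1) {a b : Ω} (h : x a = b) : x b = a := by
  rw [← h, inv_apply_apply hx]

section transport

variable {I : Type*} [DecidableEq I] [Fintype I] (ι : I ↪ Ω)

omit [DecidableEq Ω] [Fintype Ω] [DecidableEq I] [Fintype I] in
theorem emb_apply (e : Perm I) (i : I) : Perm.viaEmbeddingHom ι e (ι i) = ι (e i) := by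
  rw [Perm.viaEmbeddingHom_apply, Perm.viaEmbedding_apply]

omit [DecidableEq Ω] [Fintype Ω] [DecidableEq I] [Fintype I] in
theorem emb_apply_of_notMem (e : Perm I) (v : Ω) (hv : v ∉ Set.range ι) :
    Perm.viaEmbeddingHom ι e v = v := by
  rw [Perm.viaEmbeddingHom_apply, Perm.viaEmbedding_apply_of_notMem _ _ _ hv]

theorem emb_support (e : Perm I) :
    (Perm.viaEmbeddingHom ι e).support = e.support.map ι := by
  ext v
  rw [Perm.mem_support, Finset.mem_map]
  constructor
  · intro h
    by_cases hv : v ∈ Set.range ι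
    · obtain ⟨i, rfl⟩ := hv
      refine ⟨i, ?_, rfl⟩
      rw [Perm.mem_support]
      intro hi
      apply h
      rw [emb_apply, hi]
    · exact absurd (emb_apply_of_notMem ι e v hv) h
  · rintro ⟨i, hi, rfl⟩
    rw [emb_apply]
    intro h
    rw [Perm.mem_support] at hi
    exact hi (ι.injective h)

theorem emb_card_support (e : Perm I) :
    (Perm.viaEmbeddingHom ι e).support.card = e.support.card := by
  rw [emb_support, Finset.card_map]

omit [DecidableEq Ω] [Fintype Ω] [DecidableEq I] [Fintype I] in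
theorem emb_orderOf (e : Perm I) : orderOf (Perm.viaEmbeddingHom ι e) = orderOf e :=
  orderOf_injective _ (Perm.viaEmbeddingHom_injective ι) e

omit [DecidableEq Ω] [Fintype Ω] [DecidableEq I] [Fintype I] in
theorem emb_mul_self (e : Perm I) (he : e * e = 1) :
    Perm.viaEmbeddingHom ι e * Perm.viaEmbeddingHom ι e = 1 := by
  rw [← map_mul, he, map_one]

theorem emb_support_subset (e : Perm I) :
    (Perm.viaEmbeddingHom ι e).support ⊆ Finset.univ.map ι := by
  rw [emb_support]
  exact Finset.map_subset_map.mpr (Finset.subset_univ _)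

omit [DecidableEq Ω] [Fintype Ω] [DecidableEq I] in
theorem mem_range_iff_mem_map (v : Ω) : v ∈ Set.range ι ↔ v ∈ Finset.univ.map ι := by
  simp

/-- **Restriction lemma.** An involution `x` acting on the image of `ι` as `x0`: splitting off
the block. -/
theorem restrict (x : Perm Ω) (hx : x * x = 1) (x0 : Perm I) (hx0 : x0 * x0 = 1)
    (h : ∀ i, x (ι i) = ι (x0 i)) :
    ∃ x' : Perm Ω, x' * x' = 1 ∧ (∀ i, x' (ι i) = ι i) ∧ (∀ v, v ∉ Set.range ι → x' v = x v) ∧
      x = x' * Perm.viaEmbeddingHom ι x0 ∧ x'.Disjoint (Perm.viaEmbeddingHom ι x0) ∧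
      x'.support = x.support \ Finset.univ.map ι ∧
      x.support.card = x'.support.card + x0.support.card := by
  set xB := Perm.viaEmbeddingHom ι x0 with hxB
  have hxB2 : xB * xB = 1 := emb_mul_self ι x0 hx0
  have r1 : ∀ i, (x * xB) (ι i) = ι i := by
    intro i
    rw [Perm.mul_apply, hxB, emb_apply, h, ← Perm.mul_apply, hx0, Perm.one_apply]
  have r2 : ∀ v, v ∉ Set.range ι → (x * xB) v = x v := by
    intro v hv
    rw [Perm.mul_apply, hxB, emb_apply_of_notMem ι x0 v hv]
  have hrange : ∀ v, v ∉ Set.range ι → x v ∉ Set.range ι := by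
    rintro v hv ⟨j, hj⟩
    apply hv
    refine ⟨x0 j, ?_⟩
    rw [← h, hj, inv_apply_apply hx]
  have hdisj : (x * xB).Disjoint xB := by
    intro v
    by_cases hv : v ∈ Set.range ι
    · obtain ⟨i, rfl⟩ := hv
      exact Or.inl (r1 i)
    · exact Or.inr (emb_apply_of_notMem ι x0 v hv)
  have r3 : (x * xB) * (x * xB) = 1 := by
    ext v
    rw [Perm.mul_apply, Perm.one_apply]
    by_cases hv : v ∈ Set.range ι
    · obtain ⟨i, rfl⟩ := hv
      rw [r1, r1]
    · rw [r2 v hv, r2 _ (hrange v hv), inv_apply_apply hx]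
  have r4 : x = (x * xB) * xB := by
    rw [mul_assoc, hxB2, mul_one]
  have r6 : (x * xB).support = x.support \ Finset.univ.map ι := by
    ext v
    rw [Finset.mem_sdiff, Perm.mem_support, Perm.mem_support, ← mem_range_iff_mem_map]
    by_cases hv : v ∈ Set.range ι
    · obtain ⟨i, rfl⟩ := hv
      simp [r1 i]
    · rw [r2 v hv]
      simp [hv]
  refine ⟨x * xB, r3, r1, r2, r4, hdisj, r6, ?_⟩
  conv_lhs => rw [r4]
  rw [hdisj.card_support_mul, hxB, emb_card_support]

end transport

omit [DecidableEq Ω] [Fintype Ω] in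
/-- the product of two disjoint permutations of odd order has odd order -/
theorem odd_orderOf_mul_of_disjoint {σ τ : Perm Ω} (h : σ.Disjoint τ) (hσ : Odd (orderOf σ))
    (hτ : Odd (orderOf τ)) : Odd (orderOf (σ * τ)) := by
  rw [h.orderOf]
  exact Odd.of_dvd_nat (hσ.mul hτ) (Nat.lcm_dvd_mul _ _)

/-- **Block step.** -/
theorem block_step {I : Type*} [DecidableEq I] [Fintype I] (ι : I ↪ Ω) (x0 y0 z0 : Perm I)
    (hx0 : x0 * x0 = 1) (hy0 : y0 * y0 = 1) (hz0 : z0 * z0 = 1)
    (hcx : z0.support.card = x0.support.card) (hcy : z0.support.card = y0.support.card)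
    (hxz : Odd (orderOf (x0 * z0))) (hzy : Odd (orderOf (z0 * y0)))
    (S : Finset Ω) (x y : Perm Ω) (hI : Inst S x y)
    (hxι : ∀ i, x (ι i) = ι (x0 i)) (hyι : ∀ i, y (ι i) = ι (y0 i)) (hιS : ∀ i, ι i ∈ S) :
    ∃ x' y', Inst (S \ Finset.univ.map ι) x' y' ∧
      (∀ v, v ∉ Set.range ι → x' v = x v ∧ y' v = y v) ∧
      (∀ i, x' (ι i) = ι i ∧ y' (ι i) = ι i) ∧
      (Sol (S \ Finset.univ.map ι) x' y' → Sol S x y) := by
  obtain ⟨x', hx'2, hx'ι, hx'o, hxe, hxd, hxs, hxc⟩ := restrict ι x hI.hx x0 hx0 hxι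
  obtain ⟨y', hy'2, hy'ι, hy'o, hye, hyd, hys, hyc⟩ := restrict ι y hI.hy y0 hy0 hyι
  set xB := Perm.viaEmbeddingHom ι x0 with hxB
  set yB := Perm.viaEmbeddingHom ι y0 with hyB
  set zB := Perm.viaEmbeddingHom ι z0 with hzB
  have hI' : Inst (S \ Finset.univ.map ι) x' y' := by
    refine ⟨hx'2, hy'2, ?_, ?_, ?_⟩
    · rw [hxs]
      exact Finset.sdiff_subset_sdiff hI.sx (le_refl _)
    · rw [hys]
      exact Finset.sdiff_subset_sdiff hI.sy (le_refl _)
    · have := hI.card
      omega
  refine ⟨x', y', hI', fun v hv => ⟨hx'o v hv, hy'o v hv⟩, fun i => ⟨hx'ι i, hy'ι i⟩, ?_⟩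
  rintro ⟨z', hz'2, hz's, hz'c, hz'x, hz'y⟩
  -- z' is disjoint from everything supported in the block
  have hdisjB : ∀ e : Perm I, ∀ w : Perm Ω, w.support ⊆ S \ Finset.univ.map ι →
      w.Disjoint (Perm.viaEmbeddingHom ι e) := by
    intro e w hw
    rw [Perm.disjoint_iff_disjoint_support]
    refine Finset.disjoint_of_subset_left hw ?_
    refine Finset.disjoint_of_subset_right (emb_support_subset ι e) ?_
    exact Finset.sdiff_disjoint
  have hz'B : z'.Disjoint zB := hdisjB z0 z' hz's
  have hz'xB : z'.Disjoint xB := hdisjB x0 z' hz's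
  have hx'zB : x'.Disjoint zB := hdisjB z0 x' hI'.sx
  have hy'zB : y'.Disjoint zB := hdisjB z0 y' hI'.sy
  have hzB2 : zB * zB = 1 := emb_mul_self ι z0 hz0
  refine ⟨z' * zB, ?_, ?_, ?_, ?_, ?_⟩
  · have hc : Commute z' zB := hz'B.commute
    calc z' * zB * (z' * zB) = (z' * z') * (zB * zB) := by
          rw [mul_assoc, ← mul_assoc zB, ← hc.eq, mul_assoc, ← mul_assoc]
      _ = 1 := by rw [hz'2, hzB2, mul_one]
  · refine (Perm.support_mul_le _ _).trans ?_
    apply Finset.union_subset
    · exact hz's.trans Finset.sdiff_subset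
    · intro v hv
      have hv' := emb_support_subset ι z0 hv
      rw [Finset.mem_map] at hv'
      obtain ⟨i, _, rfl⟩ := hv'
      exact hιS i
  · rw [hz'B.card_support_mul, hz'c, hxc, hzB, emb_card_support, hcx]
  · have e1 : x * (z' * zB) = (x' * z') * (xB * zB) := by
      rw [hxe]
      have hc : Commute xB z' := hz'xB.commute.symm
      rw [mul_assoc, ← mul_assoc xB, hc.eq, mul_assoc, ← mul_assoc]
    rw [e1]
    apply odd_orderOf_mul_of_disjoint
    · have : (x' * z').Disjoint (Perm.viaEmbeddingHom ι (x0 * z0)) := by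
        apply hdisjB
        refine (Perm.support_mul_le _ _).trans (Finset.union_subset hI'.sx hz's)
      rwa [map_mul] at this
    · exact hz'x
    · rw [hxB, hzB, ← map_mul, emb_orderOf]
      exact hxz
  · have e1 : (z' * zB) * y = (z' * y') * (zB * yB) := by
      rw [hye]
      have hc : Commute zB y' := hy'zB.commute.symm
      rw [mul_assoc, ← mul_assoc zB, hc.eq, mul_assoc, ← mul_assoc]
    rw [e1]
    apply odd_orderOf_mul_of_disjoint
    · have : (z' * y').Disjoint (Perm.viaEmbeddingHom ι (z0 * y0)) := by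
        apply hdisjB
        refine (Perm.support_mul_le _ _).trans (Finset.union_subset hz's hI'.sy)
      rwa [map_mul] at this
    · exact hz'y
    · rw [hzB, hyB, ← map_mul, emb_orderOf]
      exact hzy

end Cfsg.Agent.Lib.Helper15.SymOdd
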