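import Mathlib
import Cfsg.Agent.Lib.Helper15.SymOddB

/-!
helper15: four-cycles and segments of a pair of involutions, explicit blocks, and the peeling
wrapper around the block step.
-/

set_option autoImplicit false

namespace Cfsg.Agent.Lib.Helper15.SymOdd

open Equiv

variable {Ω : Type*} [DecidableEq Ω] [Fintype Ω]

/-- a 4-cycle of the pair `(x, y)` -/
def Has4 (x y : Perm Ω) : Prop :=
  ∃ ι : Fin 4 ↪ Ω, x (ι 0) = ι 1 ∧ y (ι 1) = ι 2 ∧ x (ι 2) = ι 3 ∧ y (ι 3) = ι 0

/-- an alternating segment `x, y, x, y, x` on six distinct points -/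
def HasSeg (x y : Perm Ω) : Prop :=
  ∃ ι : Fin 6 ↪ Ω, x (ι 0) = ι 1 ∧ y (ι 1) = ι 2 ∧ x (ι 2) = ι 3 ∧ y (ι 3) = ι 4 ∧ x (ι 4) = ι 5

/-- explicit block data on an index type -/
structure Block (I : Type*) [DecidableEq I] [Fintype I] where
  x0 : Perm I
  y0 : Perm I
  z0 : Perm I
  hx0 : x0 * x0 = 1
  hy0 : y0 * y0 = 1
  hz0 : z0 * z0 = 1
  hcx : z0.support.card = x0.support.card
  hcy : z0.support.card = y0.support.card
  hxz : Odd (orderOf (x0 * z0))
  hzy : Odd (orderOf (z0 * y0))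

theorem odd_orderOf_of_pow {G : Type*} [Monoid G] (g : G) (k : ℕ) (hk : Odd k) (h : g ^ k = 1) :
    Odd (orderOf g) :=
  Odd.of_dvd_nat hk (orderOf_dvd_of_pow_eq_one h)

theorem Inst.symm {S : Finset Ω} {x y : Perm Ω} (h : Inst S x y) : Inst S y x :=
  ⟨h.hy, h.hx, h.sy, h.sx, h.card.symm⟩

theorem orderOf_mul_swap' {G : Type*} [Group G] (a b : G) : orderOf (a * b) = orderOf (b * a) := by
  have h : b * a = b * (a * b) * b⁻¹ := by group
  rw [h]
  exact ((MulAut.conj b).orderOf_eq (a * b)).symm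

theorem Sol.symm {S : Finset Ω} {x y : Perm Ω} (hI : Inst S x y) (h : Sol S y x) : Sol S x y := by
  obtain ⟨z, hz2, hzs, hzc, h1, h2⟩ := h
  refine ⟨z, hz2, hzs, hzc.trans hI.card.symm, ?_, ?_⟩
  · rw [orderOf_mul_swap']
    exact h2
  · rw [orderOf_mul_swap']
    exact h1

theorem mem_of_moved {S : Finset Ω} {x : Perm Ω} (hs : x.support ⊆ S) {v : Ω} (hv : x v ≠ v) :
    v ∈ S :=
  hs (Perm.mem_support.mpr hv)

theorem fixed_of_notMem {S : Finset Ω} {x : Perm Ω} (hs : x.support ⊆ S) {v : Ω} (hv : v ∉ S) :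
    x v = v := by
  by_contra h
  exact hv (mem_of_moved hs h)

/-- a bad instance is a 4-cycle -/
theorem has4_of_bad {S : Finset Ω} {x y : Perm Ω} (hI : Inst S x y) (hB : Bad S x y) :
    ∃ ι : Fin 4 ↪ Ω, x (ι 0) = ι 1 ∧ y (ι 1) = ι 2 ∧ x (ι 2) = ι 3 ∧ y (ι 3) = ι 0 ∧
      S = Finset.univ.map ι := by
  obtain ⟨hc, hsx, hsy, hne⟩ := hB
  have hmx : ∀ v, v ∈ S → x v ≠ v := by
    intro v hv
    rw [← hsx] at hv
    exact Perm.mem_support.mp hv
  have hmy : ∀ v, v ∈ S → y v ≠ v := by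
    intro v hv
    rw [← hsy] at hv
    exact Perm.mem_support.mp hv
  have hxS : ∀ v, v ∈ S → x v ∈ S := by
    intro v hv
    rw [← hsx] at hv ⊢
    exact Perm.apply_mem_support.mpr hv
  have hyS : ∀ v, v ∈ S → y v ∈ S := by
    intro v hv
    rw [← hsy] at hv ⊢
    exact Perm.apply_mem_support.mpr hv
  obtain ⟨v, hv⟩ : ∃ v, x v ≠ y v := by
    by_contra h
    push Not at h
    exact hne (Perm.ext h)
  have hvS : v ∈ S := by
    by_contra hvS
    apply hv
    rw [fixed_of_notMem hI.sx hvS, fixed_of_notMem hI.sy hvS]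
  set w := walk (x : Ω → Ω) (y : Ω → Ω) v with hw
  have w0 : w 0 = v := rfl
  have w1 : w 1 = x v := by simp [hw, walk]
  have w2 : w 2 = y (x v) := by simp [hw, walk]
  have w3 : w 3 = x (y (x v)) := by simp [hw, walk]
  have hwS : ∀ k, w k ∈ S := by
    intro k
    induction k with
    | zero => exact hvS
    | succ k ih =>
      by_cases hk : k % 2 = 0
      · rw [hw, walk_succ_even _ _ _ _ hk]
        exact hxS _ ih
      · rw [hw, walk_succ_odd _ _ _ _ (by omega)]
        exact hyS _ ih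
  have hmove : ∀ k, k < 3 → w (k + 1) ≠ w k := by
    intro k _
    by_cases hk : k % 2 = 0
    · rw [hw, walk_succ_even _ _ _ _ hk]
      exact hmx _ (hwS k)
    · rw [hw, walk_succ_odd _ _ _ _ (by omega)]
      exact hmy _ (hwS k)
  have heven : ∀ m, 0 < m → 2 * m ≤ 3 → w (2 * m) ≠ w 0 := by
    intro m hm hm3
    have : m = 1 := by omega
    subst this
    rw [w0]
    change w 2 ≠ v
    rw [w2]
    intro h
    apply hv
    have := congrArg y h
    rw [inv_apply_apply hI.hy] at this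
    exact this
  have hinj := walk_injOn (x : Ω → Ω) (y : Ω → Ω) (inv_apply_apply hI.hx) (inv_apply_apply hI.hy)
    v 3 hmove heven
  let ι : Fin 4 ↪ Ω := ⟨fun i => w i, fun i j h => Fin.ext (hinj i j (by omega) (by omega) h)⟩
  have hι : ∀ i : Fin 4, ι i = w i := fun _ => rfl
  have hS : S = Finset.univ.map ι := by
    symm
    apply Finset.eq_of_subset_of_card_le
    · intro u hu
      rw [Finset.mem_map] at hu
      obtain ⟨i, _, rfl⟩ := hu
      exact hwS i
    · rw [Finset.card_map, Finset.card_univ, Fintype.card_fin, hc]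
  refine ⟨ι, ?_, ?_, ?_, ?_, hS⟩
  · rw [hι, hι]
    change x (w 0) = w 1
    rw [w0, w1]
  · rw [hι, hι]
    change y (w 1) = w 2
    rw [w1, w2]
  · rw [hι, hι]
    change x (w 2) = w 3
    rw [w2, w3]
  · have hmem : y (ι 3) ∈ Finset.univ.map ι := by
      rw [← hS]
      exact hyS _ (hwS 3)
    rw [Finset.mem_map] at hmem
    obtain ⟨j, _, hj⟩ := hmem
    have e3 : ι 3 = w 3 := rfl
    have e2 : ι 2 = w 2 := rfl
    have e1 : ι 1 = w 1 := rfl
    have hy32 : y (w 2) = w 1 := by rw [w2, w1, inv_apply_apply hI.hy]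
    fin_cases j
    · exact hj.symm
    · exfalso
      -- y (ι 3) = ι 1 → ι 3 = y (ι 1) = ι 2
      have h1 : y (ι 3) = ι 1 := hj.symm
      have := inv_apply_eq hI.hy h1
      rw [e1, w1, ← w2] at this
      have h2 := hinj 2 3 (by omega) (by omega) this
      omega
    · exfalso
      have h1 : y (ι 3) = ι 2 := hj.symm
      have := inv_apply_eq hI.hy h1
      rw [e2, hy32] at this
      have h2 := hinj 1 3 (by omega) (by omega) this
      omega
    · exfalso
      have h1 : y (ι 3) = ι 3 := hj.symm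
      exact hmy _ (hwS 3) h1

/-- an instance which agrees, off a block, with a pair without 4-cycles is not bad -/
theorem not_bad_of_not_has4 {I : Type*} [Fintype I] (ι : I ↪ Ω) {S : Finset Ω} {x y x' y' : Perm Ω}
    (h4 : ¬ Has4 x y) (hI' : Inst (S \ Finset.univ.map ι) x' y')
    (hag : ∀ v, v ∉ Set.range ι → x' v = x v ∧ y' v = y v) :
    ¬ Bad (S \ Finset.univ.map ι) x' y' := by
  intro hB
  obtain ⟨κ, h0, h1, h2, h3, hS⟩ := has4_of_bad hI' hB
  have hκ : ∀ j, κ j ∉ Set.range ι := by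
    intro j
    have : κ j ∈ S \ Finset.univ.map ι := by
      rw [hS]
      exact Finset.mem_map_of_mem _ (Finset.mem_univ _)
    rw [Finset.mem_sdiff] at this
    rw [mem_range_iff_mem_map]
    exact this.2
  apply h4
  refine ⟨κ, ?_, ?_, ?_, ?_⟩
  · rw [← (hag _ (hκ 0)).1]; exact h0
  · rw [← (hag _ (hκ 1)).2]; exact h1
  · rw [← (hag _ (hκ 2)).1]; exact h2
  · rw [← (hag _ (hκ 3)).2]; exact h3

/-- **Peeling wrapper.** -/
theorem peel {I : Type*} [DecidableEq I] [Fintype I] [Nonempty I] (ι : I ↪ Ω) (b : Block I)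
    (S : Finset Ω) (x y : Perm Ω) (hI : Inst S x y)
    (hxι : ∀ i, x (ι i) = ι (b.x0 i)) (hyι : ∀ i, y (ι i) = ι (b.y0 i)) (hιS : ∀ i, ι i ∈ S)
    (IH : ∀ S' : Finset Ω, S'.card < S.card → ∀ x' y', Inst S' x' y' → ¬ Bad S' x' y' → Sol S' x' y')
    (hnb : ∀ x' y', Inst (S \ Finset.univ.map ι) x' y' →
      (∀ v, v ∉ Set.range ι → x' v = x v ∧ y' v = y v) → ¬ Bad (S \ Finset.univ.map ι) x' y') :
    Sol S x y := by
  obtain ⟨x', y', hI', hag, _, hsol⟩ := block_step ι b.x0 b.y0 b.z0 b.hx0 b.hy0 b.hz0 b.hcx b.hcy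
    b.hxz b.hzy S x y hI hxι hyι hιS
  apply hsol
  apply IH _ _ x' y' hI' (hnb x' y' hI' hag)
  apply Finset.card_lt_card
  refine ⟨Finset.sdiff_subset, ?_⟩
  intro h
  obtain ⟨i⟩ := (inferInstance : Nonempty I)
  have := h (hιS i)
  rw [Finset.mem_sdiff] at this
  exact this.2 (Finset.mem_map_of_mem _ (Finset.mem_univ _))

end Cfsg.Agent.Lib.Helper15.SymOdd
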