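import Mathlib
import Cfsg.Agent.Lib.Helper15.SymOddC

/-!
helper15: the explicit blocks used in the common-neighbour construction for involutions of
symmetric groups; every field is checked by `decide`.
-/

set_option autoImplicit false
set_option maxRecDepth 100000

namespace Cfsg.Agent.Lib.Helper15.SymOdd

open Equiv

/-- build a block from decidable facts -/
def Block.ofDecide {I : Type*} [DecidableEq I] [Fintype I] (x0 y0 z0 : Perm I)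
    (h : x0 * x0 = 1 ∧ y0 * y0 = 1 ∧ z0 * z0 = 1 ∧ z0.support.card = x0.support.card ∧
      z0.support.card = y0.support.card ∧ (x0 * z0) ^ 15 = 1 ∧ (z0 * y0) ^ 15 = 1) : Block I where
  x0 := x0
  y0 := y0
  z0 := z0
  hx0 := h.1
  hy0 := h.2.1
  hz0 := h.2.2.1
  hcx := h.2.2.2.1
  hcy := h.2.2.2.2.1
  hxz := odd_orderOf_of_pow _ 15 (by decide) h.2.2.2.2.2.1
  hzy := odd_orderOf_of_pow _ 15 (by decide) h.2.2.2.2.2.2

/-- a common fixed point -/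
def blk1 : Block (Fin 1) := Block.ofDecide 1 1 1 (by decide)

/-- a common transposition -/
def blk2 : Block (Fin 2) := Block.ofDecide (swap 0 1) (swap 0 1) (swap 0 1) (by decide)

/-- the path `p0 -y- p1 -x- p2` -/
def blk3 : Block (Fin 3) := Block.ofDecide (swap 1 2) (swap 0 1) (swap 1 2) (by decide)

/-- the path `p0 -y- p1 -x- p2 -y- p3 -x- p4` -/
def blk5 : Block (Fin 5) :=
  Block.ofDecide (swap 1 2 * swap 3 4) (swap 0 1 * swap 2 3) (swap 1 2 * swap 3 4) (by decide)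

/-- `e0 -x- e1` and `c0 -y- c1` -/
def blk22 : Block (Fin 2 ⊕ Fin 2) :=
  Block.ofDecide (swap (Sum.inl 0) (Sum.inl 1)) (swap (Sum.inr 0) (Sum.inr 1))
    (swap (Sum.inl 1) (Sum.inr 0)) (by decide)

/-- `e0 -x- e1` and `c0 -y- c1 -x- c2 -y- c3` -/
def blk24 : Block (Fin 2 ⊕ Fin 4) :=
  Block.ofDecide (swap (Sum.inl 0) (Sum.inl 1) * swap (Sum.inr 1) (Sum.inr 2))
    (swap (Sum.inr 0) (Sum.inr 1) * swap (Sum.inr 2) (Sum.inr 3))
    (swap (Sum.inr 1) (Sum.inr 2) * swap (Sum.inl 1) (Sum.inr 0)) (by decide)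

/-- `e0 -x- e1 -y- e2 -x- e3` and `c0 -y- c1` -/
def blk42 : Block (Fin 4 ⊕ Fin 2) :=
  Block.ofDecide (swap (Sum.inl 0) (Sum.inl 1) * swap (Sum.inl 2) (Sum.inl 3))
    (swap (Sum.inl 1) (Sum.inl 2) * swap (Sum.inr 0) (Sum.inr 1))
    (swap (Sum.inl 1) (Sum.inl 2) * swap (Sum.inl 3) (Sum.inr 0)) (by decide)

/-- `e0 -x- e1 -y- e2 -x- e3` and `c0 -y- c1 -x- c2 -y- c3` -/
def blk44 : Block (Fin 4 ⊕ Fin 4) :=
  Block.ofDecide
    (swap (Sum.inl 0) (Sum.inl 1) * swap (Sum.inl 2) (Sum.inl 3) * swap (Sum.inr 1) (Sum.inr 2))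
    (swap (Sum.inl 1) (Sum.inl 2) * swap (Sum.inr 0) (Sum.inr 1) * swap (Sum.inr 2) (Sum.inr 3))
    (swap (Sum.inl 1) (Sum.inl 2) * swap (Sum.inr 1) (Sum.inr 2) * swap (Sum.inl 3) (Sum.inr 0))
    (by decide)

/-- two 4-cycles `c0 c1 c2 c3` and `d0 d1 d2 d3` (`x c0 = c1`, `y c1 = c2`, `x c2 = c3`,
`y c3 = c0`) -/
def blkCC : Block (Fin 4 ⊕ Fin 4) :=
  Block.ofDecide
    (swap (Sum.inl 0) (Sum.inl 1) * swap (Sum.inl 2) (Sum.inl 3) *
      (swap (Sum.inr 0) (Sum.inr 1) * swap (Sum.inr 2) (Sum.inr 3)))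
    (swap (Sum.inl 1) (Sum.inl 2) * swap (Sum.inl 3) (Sum.inl 0) *
      (swap (Sum.inr 1) (Sum.inr 2) * swap (Sum.inr 3) (Sum.inr 0)))
    (swap (Sum.inl 0) (Sum.inl 1) * swap (Sum.inr 0) (Sum.inr 3) *
      (swap (Sum.inl 2) (Sum.inr 1) * swap (Sum.inl 3) (Sum.inr 2)))
    (by decide)

/-- the 8-cycle `a0 a1 a2 a3 a4 a5 c b` (`x a0 = a1`, `y a1 = a2`, ..., `x a4 = a5`, `y a5 = c`,
`x c = b`, `y b = a0`) -/
def blk8 : Block (Fin 6 ⊕ Fin 2) :=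
  Block.ofDecide
    (swap (Sum.inl 0) (Sum.inl 1) * swap (Sum.inl 2) (Sum.inl 3) *
      (swap (Sum.inl 4) (Sum.inl 5) * swap (Sum.inr 0) (Sum.inr 1)))
    (swap (Sum.inl 1) (Sum.inl 2) * swap (Sum.inl 3) (Sum.inl 4) *
      (swap (Sum.inl 5) (Sum.inr 0) * swap (Sum.inr 1) (Sum.inl 0)))
    (swap (Sum.inl 0) (Sum.inl 1) * swap (Sum.inl 3) (Sum.inl 4) *
      (swap (Sum.inl 2) (Sum.inr 0) * swap (Sum.inl 5) (Sum.inr 1)))
    (by decide)

/-- the path `p0 -x- p1 -y- p2` -/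
def blk3' : Block (Fin 3) := Block.ofDecide (swap 0 1) (swap 1 2) (swap 0 1) (by decide)

/-- the path `p0 -x- p1 -y- p2 -x- p3 -y- p4` -/
def blk5' : Block (Fin 5) :=
  Block.ofDecide (swap 0 1 * swap 2 3) (swap 1 2 * swap 3 4) (swap 0 1 * swap 2 3) (by decide)

end Cfsg.Agent.Lib.Helper15.SymOdd
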