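import Mathlib
import Cfsg.Agent.Lib.Helper15.SymOddD

/-!
helper15: contraction of an alternating segment `x, y, x, y, x` (six points to two).
-/

set_option autoImplicit false

namespace Cfsg.Agent.Lib.Helper15.SymOdd

open Equiv

variable {Ω : Type*} [DecidableEq Ω] [Fintype Ω]

/-- the middle four indices of `Fin 6` -/
def mid46 : Fin 4 ↪ Fin 6 := ⟨fun i => ⟨i.1 + 1, by omega⟩, fun i j h => by
  apply Fin.ext
  have := congrArg Fin.val h
  simp at this
  exact this⟩

omit [DecidableEq Ω] [Fintype Ω] in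
theorem pow_three_apply (d : Perm Ω) (v : Ω) : (d ^ 3) v = d (d (d v)) := by
  simp [pow_succ, Perm.mul_apply]

omit [DecidableEq Ω] [Fintype Ω] in
theorem pow_two_apply (d : Perm Ω) (v : Ω) : (d ^ 2) v = d (d v) := by
  simp [pow_succ, Perm.mul_apply]

omit [DecidableEq Ω] [Fintype Ω] in
theorem pow_five_apply (d : Perm Ω) (v : Ω) : (d ^ 5) v = d (d (d (d (d v)))) := by
  simp [pow_succ, Perm.mul_apply]

omit [DecidableEq Ω] [Fintype Ω] in
theorem range_mid46 (ι : Fin 6 ↪ Ω) (v : Ω) :
    v ∈ Set.range (mid46.trans ι) ↔ v = ι 1 ∨ v = ι 2 ∨ v = ι 3 ∨ v = ι 4 := by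
  constructor
  · rintro ⟨i, rfl⟩
    fin_cases i
    · exact Or.inl rfl
    · exact Or.inr (Or.inl rfl)
    · exact Or.inr (Or.inr (Or.inl rfl))
    · exact Or.inr (Or.inr (Or.inr rfl))
  · rintro (h | h | h | h)
    · exact ⟨0, h.symm⟩
    · exact ⟨1, h.symm⟩
    · exact ⟨2, h.symm⟩
    · exact ⟨3, h.symm⟩

omit [DecidableEq Ω] [Fintype Ω] in
theorem range_six (ι : Fin 6 ↪ Ω) (v : Ω) :
    v ∈ Set.range ι ↔ v = ι 0 ∨ v = ι 5 ∨ v ∈ Set.range (mid46.trans ι) := by
  rw [range_mid46]
  constructor
  · rintro ⟨i, rfl⟩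
    fin_cases i <;> simp
  · rintro (h | h | h | h | h | h) <;> exact ⟨_, h.symm⟩

/-- **Contraction**: the reduced instance and the lifting of solutions. -/
theorem contraction_core (S : Finset Ω) (x y : Perm Ω) (hI : Inst S x y)
    (ι : Fin 6 ↪ Ω) (h01 : x (ι 0) = ι 1) (h12 : y (ι 1) = ι 2) (h23 : x (ι 2) = ι 3)
    (h34 : y (ι 3) = ι 4) (h45 : x (ι 4) = ι 5) :
    ∃ x' y', Inst (S \ Finset.univ.map (mid46.trans ι)) x' y' ∧
      x' (ι 0) = ι 5 ∧ x' (ι 5) = ι 0 ∧ (∀ v, v ∉ Set.range ι → x' v = x v) ∧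
      (∀ v, v ∉ Set.range (mid46.trans ι) → y' v = y v) ∧
      (Sol (S \ Finset.univ.map (mid46.trans ι)) x' y' → Sol S x y) := by
  set κ : Fin 4 ↪ Ω := mid46.trans ι with hκ
  have k0 : κ 0 = ι 1 := rfl
  have k1 : κ 1 = ι 2 := rfl
  have k2 : κ 2 = ι 3 := rfl
  have k3 : κ 3 = ι 4 := rfl
  have h10 := inv_apply_eq hI.hx h01
  have h21 := inv_apply_eq hI.hy h12
  have h32 := inv_apply_eq hI.hx h23
  have h43 := inv_apply_eq hI.hy h34
  have h54 := inv_apply_eq hI.hx h45
  -- the block permutations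
  set x0 : Perm (Fin 6) := swap 0 1 * swap 2 3 * swap 4 5 with hx0d
  set t05 : Perm (Fin 6) := swap 0 5 with ht05
  set y0 : Perm (Fin 4) := swap 0 1 * swap 2 3 with hy0d
  have hx0sq : x0 * x0 = 1 := by decide
  have ht05sq : t05 * t05 = 1 := by decide
  have hy0sq : y0 * y0 = 1 := by decide
  have hxι : ∀ i, x (ι i) = ι (x0 i) := by
    intro i
    fin_cases i
    · exact h01
    · exact h10
    · exact h23
    · exact h32
    · exact h45
    · exact h54
  have hyκ : ∀ i, y (κ i) = κ (y0 i) := by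
    intro i
    fin_cases i
    · exact h12
    · exact h21
    · exact h34
    · exact h43
  obtain ⟨x'', hx''2, hx''ι, hx''o, hxe, hxd, hxs, hxc⟩ := restrict ι x hI.hx x0 hx0sq hxι
  obtain ⟨y', hy'2, hy'κ, hy'o, hye, hyd, hys, hyc⟩ := restrict κ y hI.hy y0 hy0sq hyκ
  set T := Perm.viaEmbeddingHom ι t05 with hT
  set w := Perm.viaEmbeddingHom κ y0 with hw
  have hx''T : x''.Disjoint T := by
    intro v
    by_cases hv : v ∈ Set.range ι
    · obtain ⟨i, rfl⟩ := hv
      exact Or.inl (hx''ι i)
    · exact Or.inr (emb_apply_of_notMem ι t05 v hv)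
  have hT2 : T * T = 1 := emb_mul_self ι t05 ht05sq
  have hw2 : w * w = 1 := emb_mul_self κ y0 hy0sq
  set x' := x'' * T with hx'
  have hx'2 : x' * x' = 1 := by
    have hc : Commute x'' T := hx''T.commute
    calc x'' * T * (x'' * T) = (x'' * x'') * (T * T) := by
          rw [mul_assoc, ← mul_assoc T, ← hc.eq, mul_assoc, ← mul_assoc]
      _ = 1 := by rw [hx''2, hT2, mul_one]
  have hx'ι : ∀ i, x' (ι i) = ι (t05 i) := by
    intro i
    rw [hx', Perm.mul_apply, hT, emb_apply, hx''ι]
  have hx'o : ∀ v, v ∉ Set.range ι → x' v = x v := by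
    intro v hv
    rw [hx', Perm.mul_apply, hT, emb_apply_of_notMem ι t05 v hv, hx''o v hv]
  have hx'05 : x' (ι 0) = ι 5 := hx'ι 0
  have hx'50 : x' (ι 5) = ι 0 := hx'ι 5
  have hx'κ : ∀ i, x' (κ i) = κ i := by
    intro i
    fin_cases i
    · exact hx'ι 1
    · exact hx'ι 2
    · exact hx'ι 3
    · exact hx'ι 4
  have hιS : ∀ i, ι i ∈ S := by
    intro i
    apply mem_of_moved hI.sx
    rw [hxι]
    intro h
    have := ι.injective h
    revert this
    fin_cases i <;> decide
  have hκsub : Finset.univ.map κ ⊆ Finset.univ.map ι := by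
    intro v hv
    rw [Finset.mem_map] at hv ⊢
    obtain ⟨i, _, rfl⟩ := hv
    exact ⟨mid46 i, Finset.mem_univ _, rfl⟩
  have hTs : T.support = {ι 0, ι 5} := by
    rw [hT, emb_support, ht05, Perm.support_swap (by decide)]
    simp
  have h05κ : ι 0 ∉ Finset.univ.map κ ∧ ι 5 ∉ Finset.univ.map κ := by
    constructor
    · rw [← mem_range_iff_mem_map, range_mid46]
      rintro (h | h | h | h) <;> exact absurd (ι.injective h) (by decide)
    · rw [← mem_range_iff_mem_map, range_mid46]
      rintro (h | h | h | h) <;> exact absurd (ι.injective h) (by decide)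
  have hI' : Inst (S \ Finset.univ.map κ) x' y' := by
    refine ⟨hx'2, hy'2, ?_, ?_, ?_⟩
    · rw [hx']
      refine (Perm.support_mul_le _ _).trans (Finset.union_subset ?_ ?_)
      · rw [hxs]
        exact Finset.sdiff_subset_sdiff hI.sx hκsub
      · rw [hTs]
        intro v hv
        rw [Finset.mem_insert, Finset.mem_singleton] at hv
        rw [Finset.mem_sdiff]
        rcases hv with rfl | rfl
        · exact ⟨hιS 0, h05κ.1⟩
        · exact ⟨hιS 5, h05κ.2⟩
    · rw [hys]
      exact Finset.sdiff_subset_sdiff hI.sy (le_refl _)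
    · have hcT : T.support.card = 2 := by
        rw [hT, emb_card_support, ht05, Perm.card_support_swap (by decide)]
      have h1 : x'.support.card = x''.support.card + 2 := by
        rw [hx', hx''T.card_support_mul, hcT]
      have h2 : x0.support.card = 6 := by decide
      have h3 : y0.support.card = 4 := by decide
      have := hI.card
      omega
  refine ⟨x', y', hI', hx'05, hx'50, hx'o, hy'o, ?_⟩
  rintro ⟨z', hz'2, hz's, hz'c, hz'x, hz'y⟩
  have hz'w : z'.Disjoint w := by
    rw [Perm.disjoint_iff_disjoint_support]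
    refine Finset.disjoint_of_subset_left hz's ?_
    refine Finset.disjoint_of_subset_right (emb_support_subset κ y0) ?_
    exact Finset.sdiff_disjoint
  have hz'κ : ∀ i, z' (κ i) = κ i := by
    intro i
    apply fixed_of_notMem hz's
    rw [Finset.mem_sdiff]
    intro h
    exact h.2 (Finset.mem_map_of_mem _ (Finset.mem_univ _))
  have hz'o : ∀ v, v ∉ Set.range κ → z' v ∉ Set.range κ := by
    rintro v hv ⟨i, hi⟩
    apply hv
    refine ⟨i, ?_⟩
    have := congrArg z' hi
    rw [hz'κ, inv_apply_apply hz'2] at this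
    exact this
  have hx'o' : ∀ v, v ∉ Set.range κ → x' v ∉ Set.range κ := by
    rintro v hv ⟨i, hi⟩
    apply hv
    refine ⟨i, ?_⟩
    have := congrArg x' hi
    rw [hx'κ, inv_apply_apply hx'2] at this
    exact this
  set z := z' * w with hz
  have hzκ : ∀ i, z (κ i) = κ (y0 i) := by
    intro i
    rw [hz, Perm.mul_apply, hw, emb_apply, hz'κ]
  have hzo : ∀ v, v ∉ Set.range κ → z v = z' v := by
    intro v hv
    rw [hz, Perm.mul_apply, hw, emb_apply_of_notMem κ y0 v hv]
  have hz1 : z (ι 1) = ι 2 := hzκ 0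
  have hz2 : z (ι 2) = ι 1 := hzκ 1
  have hz3 : z (ι 3) = ι 4 := hzκ 2
  have hz4 : z (ι 4) = ι 3 := hzκ 3
  have dz1 : (x * z) (ι 1) = ι 3 := by rw [Perm.mul_apply, hz1, h23]
  have dz3 : (x * z) (ι 3) = ι 5 := by rw [Perm.mul_apply, hz3, h45]
  have dz4 : (x * z) (ι 4) = ι 2 := by rw [Perm.mul_apply, hz4, h32]
  have dz2 : (x * z) (ι 2) = ι 0 := by rw [Perm.mul_apply, hz2, h10]
  refine ⟨z, ?_, ?_, ?_, ?_, ?_⟩
  · have hc : Commute z' w := hz'w.commute
    calc z' * w * (z' * w) = (z' * z') * (w * w) := by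
          rw [mul_assoc, ← mul_assoc w, ← hc.eq, mul_assoc, ← mul_assoc]
      _ = 1 := by rw [hz'2, hw2, mul_one]
  · refine (Perm.support_mul_le _ _).trans (Finset.union_subset ?_ ?_)
    · exact hz's.trans Finset.sdiff_subset
    · intro v hv
      have hv' := emb_support_subset κ y0 hv
      rw [Finset.mem_map] at hv'
      obtain ⟨i, _, rfl⟩ := hv'
      exact hιS (mid46 i)
  · have h1 : x'.support.card = x''.support.card + 2 := by
      have hcT : T.support.card = 2 := by
        rw [hT, emb_card_support, ht05, Perm.card_support_swap (by decide)]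
      rw [hx', hx''T.card_support_mul, hcT]
    have h2 : x0.support.card = 6 := by decide
    have h3 : y0.support.card = 4 := by decide
    rw [hz, hz'w.card_support_mul, hw, emb_card_support, hz'c]
    omega
  · -- x * z : suspension over x' * z'
    apply odd_orderOf_of_suspension (x' * z') (x * z) (Set.range κ)ᶜ hz'x
    · intro v hv
      rw [Perm.mul_apply]
      exact hx'o' _ (hz'o v hv)
    · intro v hv
      have hv' : v ∉ Set.range κ := hv
      have hu : z' v ∉ Set.range κ := hz'o v hv'
      have hd : (x * z) v = x (z' v) := by rw [Perm.mul_apply, hzo v hv']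
      by_cases hur : z' v ∈ Set.range ι
      · rw [range_six] at hur
        rcases hur with h | h | h
        · -- z' v = ι 0
          refine ⟨3, by decide, ?_⟩
          have d1 : (x * z) v = ι 1 := by rw [hd, h, h01]
          rw [pow_three_apply, d1, dz1, dz3, Perm.mul_apply, h, hx'05]
        · refine ⟨3, by decide, ?_⟩
          have d1 : (x * z) v = ι 4 := by rw [hd, h, h54]
          rw [pow_three_apply, d1, dz4, dz2, Perm.mul_apply, h, hx'50]
        · exact absurd h hu
      · refine ⟨1, by decide, ?_⟩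
        rw [pow_one, hd, Perm.mul_apply, hx'o _ hur]
    · intro v hv
      have hv' : v ∈ Set.range κ := by
        by_contra h
        exact hv h
      left
      rw [range_mid46] at hv'
      have n0 : ι 0 ∈ (Set.range κ)ᶜ := by
        intro h
        rw [range_mid46] at h
        rcases h with h | h | h | h <;> exact absurd (ι.injective h) (by decide)
      have n5 : ι 5 ∈ (Set.range κ)ᶜ := by
        intro h
        rw [range_mid46] at h
        rcases h with h | h | h | h <;> exact absurd (ι.injective h) (by decide)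
      rcases hv' with rfl | rfl | rfl | rfl
      · refine ⟨2, ?_⟩
        rw [pow_two_apply, dz1, dz3]
        exact n5
      · refine ⟨1, ?_⟩
        rw [pow_one, dz2]
        exact n0
      · refine ⟨1, ?_⟩
        rw [pow_one, dz3]
        exact n5
      · refine ⟨2, ?_⟩
        rw [pow_two_apply, dz4, dz2]
        exact n0
  · -- z * y = z' * y'
    have e : z * y = z' * y' := by
      rw [hz, hye]
      have hc : Commute w y' := hyd.commute.symm
      rw [mul_assoc, ← mul_assoc w, hc.eq, mul_assoc, hw2, mul_one]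
    rw [e]
    exact hz'y

end Cfsg.Agent.Lib.Helper15.SymOdd
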