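import Mathlib
import Cfsg.Agent.Lib.Helper15.SymOddE

/-!
helper15: the contraction step (including the 8-cycle), for the common-neighbour construction.
-/

set_option autoImplicit false
set_option maxRecDepth 100000

namespace Cfsg.Agent.Lib.Helper15.SymOdd

open Equiv

variable {Ω : Type*} [DecidableEq Ω] [Fintype Ω]

omit [DecidableEq Ω] [Fintype Ω] in
/-- relabel a 4-cycle so that it starts at a prescribed point -/
theorem has4_rotate (x y : Perm Ω) (hx : x * x = 1) (hy : y * y = 1) (lam : Fin 4 ↪ Ω)
    (h0 : x (lam 0) = lam 1) (h1 : y (lam 1) = lam 2) (h2 : x (lam 2) = lam 3)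
    (h3 : y (lam 3) = lam 0) (j : Fin 4) :
    ∃ lam' : Fin 4 ↪ Ω, lam' 0 = lam j ∧ x (lam' 0) = lam' 1 ∧ y (lam' 1) = lam' 2 ∧
      x (lam' 2) = lam' 3 ∧ y (lam' 3) = lam' 0 ∧ (∀ v, v ∈ Set.range lam' ↔ v ∈ Set.range lam) := by
  have h0' := inv_apply_eq hx h0
  have h1' := inv_apply_eq hy h1
  have h2' := inv_apply_eq hx h2
  have h3' := inv_apply_eq hy h3
  have key : ∀ σ : Perm (Fin 4), ∀ v, v ∈ Set.range (σ.toEmbedding.trans lam) ↔ v ∈ Set.range lam := by
    intro σ v
    constructor
    · rintro ⟨i, rfl⟩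
      exact ⟨σ i, rfl⟩
    · rintro ⟨i, rfl⟩
      exact ⟨σ.symm i, by simp⟩
  fin_cases j
  · exact ⟨lam, rfl, h0, h1, h2, h3, fun _ => Iff.rfl⟩
  · refine ⟨(swap (0 : Fin 4) 1 * swap 2 3).toEmbedding.trans lam, rfl, ?_, ?_, ?_, ?_, key _⟩
    · exact h0'
    · exact h3'
    · exact h2'
    · exact h1'
  · refine ⟨(swap (0 : Fin 4) 2 * swap 1 3).toEmbedding.trans lam, rfl, ?_, ?_, ?_, ?_, key _⟩
    · exact h2
    · exact h3
    · exact h0
    · exact h1
  · refine ⟨(swap (0 : Fin 4) 3 * swap 1 2).toEmbedding.trans lam, rfl, ?_, ?_, ?_, ?_, key _⟩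
    · exact h2'
    · exact h1'
    · exact h0'
    · exact h3'

/-- **Contraction step.** -/
theorem contraction_step (S : Finset Ω) (x y : Perm Ω) (hI : Inst S x y) (hseg : HasSeg x y)
    (IH : ∀ S' : Finset Ω, S'.card < S.card → ∀ x' y', Inst S' x' y' → ¬ Bad S' x' y' →
      Sol S' x' y') : Sol S x y := by
  obtain ⟨ι, h01, h12, h23, h34, h45⟩ := hseg
  obtain ⟨x', y', hI', hx'05, hx'50, hx'o, hy'o, hsol⟩ :=
    contraction_core S x y hI ι h01 h12 h23 h34 h45
  set κ : Fin 4 ↪ Ω := mid46.trans ι with hκ
  have h10 := inv_apply_eq hI.hx h01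
  have h21 := inv_apply_eq hI.hy h12
  have h32 := inv_apply_eq hI.hx h23
  have h43 := inv_apply_eq hI.hy h34
  have h54 := inv_apply_eq hI.hx h45
  have hιS : ∀ i, ι i ∈ S := by
    intro i
    apply mem_of_moved hI.sx
    fin_cases i
    · show x (ι 0) ≠ ι 0
      rw [h01]; intro h; exact absurd (ι.injective h) (by decide)
    · show x (ι 1) ≠ ι 1
      rw [h10]; intro h; exact absurd (ι.injective h) (by decide)
    · show x (ι 2) ≠ ι 2
      rw [h23]; intro h; exact absurd (ι.injective h) (by decide)
    · show x (ι 3) ≠ ι 3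
      rw [h32]; intro h; exact absurd (ι.injective h) (by decide)
    · show x (ι 4) ≠ ι 4
      rw [h45]; intro h; exact absurd (ι.injective h) (by decide)
    · show x (ι 5) ≠ ι 5
      rw [h54]; intro h; exact absurd (ι.injective h) (by decide)
  have hcard : (S \ Finset.univ.map κ).card < S.card := by
    apply Finset.card_lt_card
    refine ⟨Finset.sdiff_subset, ?_⟩
    intro h
    have := h (hιS 1)
    rw [Finset.mem_sdiff] at this
    exact this.2 (Finset.mem_map_of_mem κ (Finset.mem_univ (0 : Fin 4)))
  by_cases hB : Bad (S \ Finset.univ.map κ) x' y'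
  · -- the 8-cycle
    obtain ⟨lam0, l0, l1, l2, l3, hS'⟩ := has4_of_bad hI' hB
    have hι0S' : ι 0 ∈ S \ Finset.univ.map κ := by
      apply mem_of_moved hI'.sx
      rw [hx'05]
      intro h
      exact absurd (ι.injective h) (by decide)
    rw [hS', Finset.mem_map] at hι0S'
    obtain ⟨j, _, hj⟩ := hι0S'
    obtain ⟨lam, hl0, m0, m1, m2, m3, hrange⟩ :=
      has4_rotate x' y' hI'.hx hI'.hy lam0 l0 l1 l2 l3 j
    rw [hj] at hl0
    have hS'' : ∀ v, v ∈ S \ Finset.univ.map κ ↔ v ∈ Set.range lam := by
      intro v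
      rw [hS', hrange, mem_range_iff_mem_map]
    have hlamκ : ∀ i, lam i ∉ Set.range κ := by
      intro i
      have : lam i ∈ S \ Finset.univ.map κ := (hS'' _).mpr ⟨i, rfl⟩
      rw [Finset.mem_sdiff] at this
      rw [mem_range_iff_mem_map]
      exact this.2
    have hl1 : lam 1 = ι 5 := by rw [← m0, hl0, hx'05]
    have hlamι : ∀ i : Fin 4, i ≠ 0 → i ≠ 1 → lam i ∉ Set.range ι := by
      intro i hi0 hi1 h
      rw [range_six] at h
      rcases h with h | h | h
      · rw [← hl0] at h
        exact hi0 (lam.injective h)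
      · rw [← hl1] at h
        exact hi1 (lam.injective h)
      · exact hlamκ i h
    have n5κ : ι 5 ∉ Set.range κ := by
      rw [← hl1]
      exact hlamκ 1
    set c := lam 2 with hc
    set b := lam 3 with hb
    have hyc : y (ι 5) = c := by
      rw [← hy'o _ n5κ, ← hl1]
      exact m1
    have hxc : x c = b := by
      rw [← hx'o _ (hlamι 2 (by decide) (by decide))]
      exact m2
    have hyb : y b = ι 0 := by
      rw [← hy'o _ (hlamκ 3), ← hl0]
      exact m3
    have hcb : c ≠ b := by
      intro h
      exact absurd (lam.injective h) (by decide)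
    have hcι : ∀ i, ι i ≠ c := fun i h => hlamι 2 (by decide) (by decide) ⟨i, h⟩
    have hbι : ∀ i, ι i ≠ b := fun i h => hlamι 3 (by decide) (by decide) ⟨i, h⟩
    have hinj : Function.Injective (Sum.elim ι ![c, b] : Fin 6 ⊕ Fin 2 → Ω) := by
      apply Function.Injective.sumElim ι.injective
      · intro i j h
        fin_cases i <;> fin_cases j
        · rfl
        · exact absurd h hcb
        · exact absurd h.symm hcb
        · rfl
      · intro i j
        fin_cases j
        · exact hcι i
        · exact hbι i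
    let ι8 : Fin 6 ⊕ Fin 2 ↪ Ω := ⟨Sum.elim ι ![c, b], hinj⟩
    have e8l : ∀ i, ι8 (Sum.inl i) = ι i := fun _ => rfl
    have e8c : ι8 (Sum.inr 0) = c := rfl
    have e8b : ι8 (Sum.inr 1) = b := rfl
    have hcx := inv_apply_eq hI.hx hxc
    have hcy := inv_apply_eq hI.hy hyc
    have hby := inv_apply_eq hI.hy hyb
    have hcS : c ∈ S := by
      apply mem_of_moved hI.sx
      rw [hxc]
      exact hcb.symm
    have hbS : b ∈ S := by
      apply mem_of_moved hI.sx
      rw [hcx]
      exact hcb
    apply peel ι8 blk8 S x y hI ?_ ?_ ?_ IH ?_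
    · rintro (i | i)
      · fin_cases i
        · exact h01
        · exact h10
        · exact h23
        · exact h32
        · exact h45
        · exact h54
      · fin_cases i
        · exact hxc
        · exact hcx
    · rintro (i | i)
      · fin_cases i
        · exact hby
        · exact h12
        · exact h21
        · exact h34
        · exact h43
        · exact hyc
      · fin_cases i
        · exact hcy
        · exact hyb
    · rintro (i | i)
      · exact hιS i
      · fin_cases i
        · exact hcS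
        · exact hbS
    · intro x1 y1 _ _ hbad
      have hempty : S \ Finset.univ.map ι8 = ∅ := by
        rw [Finset.eq_empty_iff_forall_notMem]
        intro v hv
        rw [Finset.mem_sdiff] at hv
        apply hv.2
        by_cases hvκ : v ∈ Finset.univ.map κ
        · rw [Finset.mem_map] at hvκ
          obtain ⟨i, _, rfl⟩ := hvκ
          exact Finset.mem_map_of_mem ι8 (Finset.mem_univ (Sum.inl (mid46 i)))
        · have : v ∈ S \ Finset.univ.map κ := Finset.mem_sdiff.mpr ⟨hv.1, hvκ⟩
          rw [hS''] at this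
          obtain ⟨i, rfl⟩ := this
          fin_cases i
          · show lam 0 ∈ _
            rw [hl0]
            exact Finset.mem_map_of_mem ι8 (Finset.mem_univ (Sum.inl 0))
          · show lam 1 ∈ _
            rw [hl1]
            exact Finset.mem_map_of_mem ι8 (Finset.mem_univ (Sum.inl 5))
          · exact Finset.mem_map_of_mem ι8 (Finset.mem_univ (Sum.inr 0))
          · exact Finset.mem_map_of_mem ι8 (Finset.mem_univ (Sum.inr 1))
      have := hbad.1
      rw [hempty] at this
      simp at this
  · exact hsol (IH _ hcard x' y' hI' hB)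

end Cfsg.Agent.Lib.Helper15.SymOdd
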