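import Mathlib
import Cfsg.Agent.Lib.Helper15.SymOddF

/-!
helper15: absorbing a 4-cycle into a solution on the complement.
-/

set_option autoImplicit false
set_option maxRecDepth 100000

namespace Cfsg.Agent.Lib.Helper15.SymOdd

open Equiv

variable {Ω : Type*} [DecidableEq Ω] [Fintype Ω]

omit [DecidableEq Ω] [Fintype Ω] in
theorem reach_of_mem (d : Perm Ω) (B : Set Ω) (v : Ω) (h : v ∈ B) : ∃ j, (d ^ j) v ∈ B :=
  ⟨0, by simpa using h⟩

omit [DecidableEq Ω] [Fintype Ω] in
theorem reach_of_step (d : Perm Ω) (B : Set Ω) (v u : Ω) (h : d v = u) (hu : ∃ j, (d ^ j) u ∈ B) :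
    ∃ j, (d ^ j) v ∈ B := by
  obtain ⟨j, hj⟩ := hu
  refine ⟨j + 1, ?_⟩
  rw [pow_succ, Perm.mul_apply, h]
  exact hj

omit [DecidableEq Ω] [Fintype Ω] in
theorem fixes_compl {σ : Perm Ω} (hσ : σ * σ = 1) {I : Type*} (lam : I ↪ Ω)
    (h : ∀ i, σ (lam i) = lam i) (v : Ω) (hv : v ∉ Set.range lam) : σ v ∉ Set.range lam := by
  rintro ⟨i, hi⟩
  apply hv
  refine ⟨i, ?_⟩
  have := congrArg σ hi
  rw [h, inv_apply_apply hσ] at this
  exact this

/-- data of a 4-cycle split off from an instance -/
theorem split4 (S : Finset Ω) (x y : Perm Ω) (hI : Inst S x y) (lam : Fin 4 ↪ Ω)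
    (h0 : x (lam 0) = lam 1) (h1 : y (lam 1) = lam 2) (h2 : x (lam 2) = lam 3)
    (h3 : y (lam 3) = lam 0) :
    ∃ x1 y1, Inst (S \ Finset.univ.map lam) x1 y1 ∧
      (∀ i, x1 (lam i) = lam i) ∧ (∀ i, y1 (lam i) = lam i) ∧
      (∀ v, v ∉ Set.range lam → x1 v = x v) ∧ (∀ v, v ∉ Set.range lam → y1 v = y v) ∧
      x.support.card = x1.support.card + 4 ∧ (∀ i, lam i ∈ S) := by
  have h0' := inv_apply_eq hI.hx h0
  have h1' := inv_apply_eq hI.hy h1
  have h2' := inv_apply_eq hI.hx h2
  have h3' := inv_apply_eq hI.hy h3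
  set x0 : Perm (Fin 4) := swap 0 1 * swap 2 3 with hx0d
  set y0 : Perm (Fin 4) := swap 1 2 * swap 3 0 with hy0d
  have hx0sq : x0 * x0 = 1 := by decide
  have hy0sq : y0 * y0 = 1 := by decide
  have hxl : ∀ i, x (lam i) = lam (x0 i) := by
    intro i
    fin_cases i
    · exact h0
    · exact h0'
    · exact h2
    · exact h2'
  have hyl : ∀ i, y (lam i) = lam (y0 i) := by
    intro i
    fin_cases i
    · exact h3'
    · exact h1
    · exact h1'
    · exact h3
  obtain ⟨x1, hx12, hx1l, hx1o, hxe, hxd, hxs, hxc⟩ := restrict lam x hI.hx x0 hx0sq hxl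
  obtain ⟨y1, hy12, hy1l, hy1o, hye, hyd, hys, hyc⟩ := restrict lam y hI.hy y0 hy0sq hyl
  have c1 : x0.support.card = 4 := by decide
  have c2 : y0.support.card = 4 := by decide
  refine ⟨x1, y1, ⟨hx12, hy12, ?_, ?_, ?_⟩, hx1l, hy1l, hx1o, hy1o, by omega, ?_⟩
  · rw [hxs]
    exact Finset.sdiff_subset_sdiff hI.sx (le_refl _)
  · rw [hys]
    exact Finset.sdiff_subset_sdiff hI.sy (le_refl _)
  · have := hI.card
    omega
  · intro i
    apply mem_of_moved hI.sx
    rw [hxl]
    intro h
    have := lam.injective h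
    revert this
    fin_cases i <;> decide

/-- absorbing a 4-cycle, first case: the solution on the complement fixes `w` -/
theorem absorbA (S : Finset Ω) (x y : Perm Ω) (hI : Inst S x y) (lam : Fin 4 ↪ Ω)
    (h0 : x (lam 0) = lam 1) (h1 : y (lam 1) = lam 2) (h2 : x (lam 2) = lam 3)
    (h3 : y (lam 3) = lam 0) (x1 y1 : Perm Ω) (hI1 : Inst (S \ Finset.univ.map lam) x1 y1)
    (hx1l : ∀ i, x1 (lam i) = lam i) (hy1l : ∀ i, y1 (lam i) = lam i)
    (hx1o : ∀ v, v ∉ Set.range lam → x1 v = x v) (hy1o : ∀ v, v ∉ Set.range lam → y1 v = y v)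
    (hcx : x.support.card = x1.support.card + 4) (hlS : ∀ i, lam i ∈ S)
    (z1 : Perm Ω) (hz12 : z1 * z1 = 1) (hz1s : z1.support ⊆ S \ Finset.univ.map lam)
    (hz1c : z1.support.card = x1.support.card) (hz1x : Odd (orderOf (x1 * z1)))
    (hz1y : Odd (orderOf (z1 * y1))) (w : Ω) (hwS : w ∈ S \ Finset.univ.map lam)
    (hw : z1 w = w) : Sol S x y := by
  have h0' := inv_apply_eq hI.hx h0
  have h1' := inv_apply_eq hI.hy h1
  have h2' := inv_apply_eq hI.hx h2
  have h3' := inv_apply_eq hI.hy h3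
  have hwl : w ∉ Set.range lam := by
    rw [mem_range_iff_mem_map]
    exact (Finset.mem_sdiff.mp hwS).2
  have hz1l : ∀ i, z1 (lam i) = lam i := by
    intro i
    apply fixed_of_notMem hz1s
    rw [Finset.mem_sdiff]
    intro h
    exact h.2 (Finset.mem_map_of_mem _ (Finset.mem_univ _))
  have hinj : Function.Injective (Sum.elim lam ![w] : Fin 4 ⊕ Fin 1 → Ω) := by
    apply Function.Injective.sumElim lam.injective
    · intro i j _
      exact Subsingleton.elim _ _
    · intro i j h
      fin_cases j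
      exact hwl ⟨i, h⟩
  let ι5 : Fin 4 ⊕ Fin 1 ↪ Ω := ⟨Sum.elim lam ![w], hinj⟩
  have hrange5 : ∀ v, v ∈ Set.range ι5 ↔ v ∈ Set.range lam ∨ v = w := by
    intro v
    constructor
    · rintro ⟨i | i, rfl⟩
      · exact Or.inl ⟨i, rfl⟩
      · fin_cases i
        exact Or.inr rfl
    · rintro (⟨i, rfl⟩ | rfl)
      · exact ⟨Sum.inl i, rfl⟩
      · exact ⟨Sum.inr 0, rfl⟩
  set t : Perm (Fin 4 ⊕ Fin 1) := swap (Sum.inl 0) (Sum.inr 0) * swap (Sum.inl 1) (Sum.inl 2) with ht
  have htsq : t * t = 1 := by decide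
  have htc : t.support.card = 4 := by decide
  set zB := Perm.viaEmbeddingHom ι5 t with hzB
  have hz1ι : ∀ i, z1 (ι5 i) = ι5 i := by
    rintro (i | i)
    · exact hz1l i
    · fin_cases i
      exact hw
  have hdisj : z1.Disjoint zB := by
    intro v
    by_cases hv : v ∈ Set.range ι5
    · obtain ⟨i, rfl⟩ := hv
      exact Or.inl (hz1ι i)
    · exact Or.inr (emb_apply_of_notMem ι5 t v hv)
  have hzB2 : zB * zB = 1 := emb_mul_self ι5 t htsq
  set z := z1 * zB with hz
  have hzι : ∀ i, z (ι5 i) = ι5 (t i) := by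
    intro i
    rw [hz, Perm.mul_apply, hzB, emb_apply, hz1ι]
  have hzo : ∀ v, v ∉ Set.range ι5 → z v = z1 v := by
    intro v hv
    rw [hz, Perm.mul_apply, hzB, emb_apply_of_notMem ι5 t v hv]
  have zc0 : z (lam 0) = w := hzι (Sum.inl 0)
  have zw : z w = lam 0 := hzι (Sum.inr 0)
  have zc1 : z (lam 1) = lam 2 := hzι (Sum.inl 1)
  have zc2 : z (lam 2) = lam 1 := hzι (Sum.inl 2)
  have zc3 : z (lam 3) = lam 3 := hzι (Sum.inl 3)
  have hx1c := fixes_compl hI1.hx lam hx1l
  have hy1c := fixes_compl hI1.hy lam hy1l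
  have hz1c' := fixes_compl hz12 lam hz1l
  have hzo' : ∀ v, v ∉ Set.range lam → v ≠ w → z v = z1 v := by
    intro v hv hvw
    apply hzo
    rw [hrange5]
    rintro (h | h)
    · exact hv h
    · exact hvw h
  refine ⟨z, ?_, ?_, ?_, ?_, ?_⟩
  · have hc : Commute z1 zB := hdisj.commute
    calc z1 * zB * (z1 * zB) = (z1 * z1) * (zB * zB) := by
          rw [mul_assoc, ← mul_assoc zB, ← hc.eq, mul_assoc, ← mul_assoc]
      _ = 1 := by rw [hz12, hzB2, mul_one]
  · refine (Perm.support_mul_le _ _).trans (Finset.union_subset ?_ ?_)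
    · exact hz1s.trans Finset.sdiff_subset
    · intro v hv
      have hv' := emb_support_subset ι5 t hv
      rw [Finset.mem_map] at hv'
      obtain ⟨i | i, _, rfl⟩ := hv'
      · exact hlS i
      · fin_cases i
        exact (Finset.mem_sdiff.mp hwS).1
  · rw [hz, hdisj.card_support_mul, hzB, emb_card_support, htc, hz1c, hcx]
  · -- x * z
    apply odd_orderOf_of_suspension (x1 * z1) (x * z) (Set.range lam)ᶜ hz1x
    · intro v hv
      rw [Perm.mul_apply]
      exact hx1c _ (hz1c' v hv)
    · intro v hv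
      have hv' : v ∉ Set.range lam := hv
      by_cases hvw : v = w
      · subst hvw
        refine ⟨5, by decide, ?_⟩
        have d1 : (x * z) v = lam 1 := by rw [Perm.mul_apply, zw, h0]
        have d2 : (x * z) (lam 1) = lam 3 := by rw [Perm.mul_apply, zc1, h2]
        have d3 : (x * z) (lam 3) = lam 2 := by rw [Perm.mul_apply, zc3, h2']
        have d4 : (x * z) (lam 2) = lam 0 := by rw [Perm.mul_apply, zc2, h0']
        have d5 : (x * z) (lam 0) = x1 v := by rw [Perm.mul_apply, zc0, hx1o v hv']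
        rw [pow_five_apply, d1, d2, d3, d4, d5, Perm.mul_apply, hw]
      · refine ⟨1, by decide, ?_⟩
        rw [pow_one, Perm.mul_apply, hzo' v hv' hvw, Perm.mul_apply, hx1o _ (hz1c' v hv')]
    · intro v hv
      have hv' : v ∈ Set.range lam := by
        by_contra h
        exact hv h
      left
      have hxw : x1 w ∈ (Set.range lam)ᶜ := hx1c w hwl
      have r0 : ∃ j, ((x * z) ^ j) (lam 0) ∈ (Set.range lam)ᶜ := by
        apply reach_of_step _ _ _ (x1 w) _ (reach_of_mem _ _ _ hxw)
        rw [Perm.mul_apply, zc0, hx1o w hwl]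
      have r2 : ∃ j, ((x * z) ^ j) (lam 2) ∈ (Set.range lam)ᶜ := by
        apply reach_of_step _ _ _ (lam 0) _ r0
        rw [Perm.mul_apply, zc2, h0']
      have r3 : ∃ j, ((x * z) ^ j) (lam 3) ∈ (Set.range lam)ᶜ := by
        apply reach_of_step _ _ _ (lam 2) _ r2
        rw [Perm.mul_apply, zc3, h2']
      have r1 : ∃ j, ((x * z) ^ j) (lam 1) ∈ (Set.range lam)ᶜ := by
        apply reach_of_step _ _ _ (lam 3) _ r3
        rw [Perm.mul_apply, zc1, h2]
      obtain ⟨i, rfl⟩ := hv'
      fin_cases i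
      · exact r0
      · exact r1
      · exact r2
      · exact r3
  · -- z * y
    apply odd_orderOf_of_suspension (z1 * y1) (z * y) (Set.range lam)ᶜ hz1y
    · intro v hv
      rw [Perm.mul_apply]
      exact hz1c' _ (hy1c v hv)
    · intro v hv
      have hv' : v ∉ Set.range lam := hv
      have hu : y1 v ∉ Set.range lam := hy1c v hv'
      have hyv : y v = y1 v := (hy1o v hv').symm
      by_cases huw : y1 v = w
      · refine ⟨3, by decide, ?_⟩
        have d1 : (z * y) v = lam 0 := by rw [Perm.mul_apply, hyv, huw, zw]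
        have d2 : (z * y) (lam 0) = lam 3 := by rw [Perm.mul_apply, h3', zc3]
        have d3 : (z * y) (lam 3) = w := by rw [Perm.mul_apply, h3, zc0]
        rw [pow_three_apply, d1, d2, d3, Perm.mul_apply, huw, hw]
      · refine ⟨1, by decide, ?_⟩
        rw [pow_one, Perm.mul_apply, hyv, hzo' _ hu huw, Perm.mul_apply]
    · intro v hv
      have hv' : v ∈ Set.range lam := by
        by_contra h
        exact hv h
      have hwB : w ∈ (Set.range lam)ᶜ := hwl
      have r3 : ∃ j, ((z * y) ^ j) (lam 3) ∈ (Set.range lam)ᶜ := by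
        apply reach_of_step _ _ _ w _ (reach_of_mem _ _ _ hwB)
        rw [Perm.mul_apply, h3, zc0]
      have r0 : ∃ j, ((z * y) ^ j) (lam 0) ∈ (Set.range lam)ᶜ := by
        apply reach_of_step _ _ _ (lam 3) _ r3
        rw [Perm.mul_apply, h3', zc3]
      obtain ⟨i, rfl⟩ := hv'
      fin_cases i
      · exact Or.inl r0
      · right
        refine ⟨1, by decide, ?_⟩
        show ((z * y) ^ 1) (lam 1) = lam 1
        rw [pow_one, Perm.mul_apply, h1, zc2]
      · right
        refine ⟨1, by decide, ?_⟩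
        show ((z * y) ^ 1) (lam 2) = lam 2
        rw [pow_one, Perm.mul_apply, h1', zc1]
      · exact Or.inl r3

/-- absorbing a 4-cycle, second case: the solution on the complement moves `w` -/
theorem absorbB (S : Finset Ω) (x y : Perm Ω) (hI : Inst S x y) (lam : Fin 4 ↪ Ω)
    (h0 : x (lam 0) = lam 1) (h1 : y (lam 1) = lam 2) (h2 : x (lam 2) = lam 3)
    (h3 : y (lam 3) = lam 0) (x1 y1 : Perm Ω) (hI1 : Inst (S \ Finset.univ.map lam) x1 y1)
    (hx1l : ∀ i, x1 (lam i) = lam i) (hy1l : ∀ i, y1 (lam i) = lam i)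
    (hx1o : ∀ v, v ∉ Set.range lam → x1 v = x v) (hy1o : ∀ v, v ∉ Set.range lam → y1 v = y v)
    (hcx : x.support.card = x1.support.card + 4) (hlS : ∀ i, lam i ∈ S)
    (z1 : Perm Ω) (hz12 : z1 * z1 = 1) (hz1s : z1.support ⊆ S \ Finset.univ.map lam)
    (hz1c : z1.support.card = x1.support.card) (hz1x : Odd (orderOf (x1 * z1)))
    (hz1y : Odd (orderOf (z1 * y1))) (w w' : Ω) (hw : z1 w = w') (hww : w' ≠ w) : Sol S x y := by
  have h0' := inv_apply_eq hI.hx h0
  have h1' := inv_apply_eq hI.hy h1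
  have h2' := inv_apply_eq hI.hx h2
  have h3' := inv_apply_eq hI.hy h3
  have hw' : z1 w' = w := inv_apply_eq hz12 hw
  have hwS : w ∈ S \ Finset.univ.map lam := by
    apply mem_of_moved hz1s
    rw [hw]
    exact hww
  have hw'S : w' ∈ S \ Finset.univ.map lam := by
    apply mem_of_moved hz1s
    rw [hw']
    exact hww.symm
  have hwl : w ∉ Set.range lam := by
    rw [mem_range_iff_mem_map]
    exact (Finset.mem_sdiff.mp hwS).2
  have hw'l : w' ∉ Set.range lam := by
    rw [mem_range_iff_mem_map]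
    exact (Finset.mem_sdiff.mp hw'S).2
  have hz1l : ∀ i, z1 (lam i) = lam i := by
    intro i
    apply fixed_of_notMem hz1s
    rw [Finset.mem_sdiff]
    intro h
    exact h.2 (Finset.mem_map_of_mem _ (Finset.mem_univ _))
  -- remove the transposition (w w') from z1
  have hinj2 : Function.Injective (![w, w'] : Fin 2 → Ω) := by
    intro i j h
    fin_cases i <;> fin_cases j
    · rfl
    · exact absurd h hww.symm
    · exact absurd h hww
    · rfl
  let ι2 : Fin 2 ↪ Ω := ⟨![w, w'], hinj2⟩
  have hrange2 : ∀ v, v ∈ Set.range ι2 ↔ v = w ∨ v = w' := by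
    intro v
    constructor
    · rintro ⟨i, rfl⟩
      fin_cases i
      · exact Or.inl rfl
      · exact Or.inr rfl
    · rintro (rfl | rfl)
      · exact ⟨0, rfl⟩
      · exact ⟨1, rfl⟩
  have hz1ι2 : ∀ i, z1 (ι2 i) = ι2 ((swap (0 : Fin 2) 1) i) := by
    intro i
    fin_cases i
    · exact hw
    · exact hw'
  obtain ⟨z2, hz22, hz2ι, hz2o, hz1e, hz2d, hz2s, hz2c⟩ :=
    restrict ι2 z1 hz12 (swap (0 : Fin 2) 1) (by decide) hz1ι2
  have hsw : (swap (0 : Fin 2) 1).support.card = 2 := by decide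
  have hinj : Function.Injective (Sum.elim lam ![w, w'] : Fin 4 ⊕ Fin 2 → Ω) := by
    apply Function.Injective.sumElim lam.injective hinj2
    intro i j h
    fin_cases j
    · exact hwl ⟨i, h⟩
    · exact hw'l ⟨i, h⟩
  let ι6 : Fin 4 ⊕ Fin 2 ↪ Ω := ⟨Sum.elim lam ![w, w'], hinj⟩
  have hrange6 : ∀ v, v ∈ Set.range ι6 ↔ v ∈ Set.range lam ∨ v = w ∨ v = w' := by
    intro v
    constructor
    · rintro ⟨i | i, rfl⟩
      · exact Or.inl ⟨i, rfl⟩
      · fin_cases i
        · exact Or.inr (Or.inl rfl)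
        · exact Or.inr (Or.inr rfl)
    · rintro (⟨i, rfl⟩ | rfl | rfl)
      · exact ⟨Sum.inl i, rfl⟩
      · exact ⟨Sum.inr 0, rfl⟩
      · exact ⟨Sum.inr 1, rfl⟩
  set t : Perm (Fin 4 ⊕ Fin 2) :=
    swap (Sum.inl 0) (Sum.inr 0) * swap (Sum.inl 2) (Sum.inr 1) * swap (Sum.inl 1) (Sum.inl 3) with ht
  have htsq : t * t = 1 := by decide
  have htc : t.support.card = 6 := by decide
  set zB := Perm.viaEmbeddingHom ι6 t with hzB
  have hlam2 : ∀ i, lam i ∉ Set.range ι2 := by
    intro i
    rw [hrange2]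
    rintro (h | h)
    · exact hwl ⟨i, h⟩
    · exact hw'l ⟨i, h⟩
  have hz2ι6 : ∀ i, z2 (ι6 i) = ι6 i := by
    rintro (i | i)
    · show z2 (lam i) = lam i
      rw [hz2o _ (hlam2 i), hz1l]
    · exact hz2ι i
  have hdisj : z2.Disjoint zB := by
    intro v
    by_cases hv : v ∈ Set.range ι6
    · obtain ⟨i, rfl⟩ := hv
      exact Or.inl (hz2ι6 i)
    · exact Or.inr (emb_apply_of_notMem ι6 t v hv)
  have hzB2 : zB * zB = 1 := emb_mul_self ι6 t htsq
  set z := z2 * zB with hz
  have hzι : ∀ i, z (ι6 i) = ι6 (t i) := by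
    intro i
    rw [hz, Perm.mul_apply, hzB, emb_apply, hz2ι6]
  have hzo : ∀ v, v ∉ Set.range lam → v ≠ w → v ≠ w' → z v = z1 v := by
    intro v hv h1 h2
    have hv6 : v ∉ Set.range ι6 := by
      rw [hrange6]
      rintro (h | h | h)
      · exact hv h
      · exact h1 h
      · exact h2 h
    have hv2 : v ∉ Set.range ι2 := by
      rw [hrange2]
      rintro (h | h)
      · exact h1 h
      · exact h2 h
    rw [hz, Perm.mul_apply, hzB, emb_apply_of_notMem ι6 t v hv6, hz2o v hv2]
  have zc0 : z (lam 0) = w := hzι (Sum.inl 0)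
  have zw : z w = lam 0 := hzι (Sum.inr 0)
  have zc2 : z (lam 2) = w' := hzι (Sum.inl 2)
  have zw' : z w' = lam 2 := hzι (Sum.inr 1)
  have zc1 : z (lam 1) = lam 3 := hzι (Sum.inl 1)
  have zc3 : z (lam 3) = lam 1 := hzι (Sum.inl 3)
  have hx1c := fixes_compl hI1.hx lam hx1l
  have hy1c := fixes_compl hI1.hy lam hy1l
  have hz1c' := fixes_compl hz12 lam hz1l
  refine ⟨z, ?_, ?_, ?_, ?_, ?_⟩
  · have hc : Commute z2 zB := hdisj.commute
    calc z2 * zB * (z2 * zB) = (z2 * z2) * (zB * zB) := by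
          rw [mul_assoc, ← mul_assoc zB, ← hc.eq, mul_assoc, ← mul_assoc]
      _ = 1 := by rw [hz22, hzB2, mul_one]
  · refine (Perm.support_mul_le _ _).trans (Finset.union_subset ?_ ?_)
    · rw [hz2s]
      exact (Finset.sdiff_subset.trans hz1s).trans Finset.sdiff_subset
    · intro v hv
      have hv' := emb_support_subset ι6 t hv
      rw [Finset.mem_map] at hv'
      obtain ⟨i | i, _, rfl⟩ := hv'
      · exact hlS i
      · fin_cases i
        · exact (Finset.mem_sdiff.mp hwS).1
        · exact (Finset.mem_sdiff.mp hw'S).1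
  · rw [hz, hdisj.card_support_mul, hzB, emb_card_support, htc]
    omega
  · -- x * z
    apply odd_orderOf_of_suspension (x1 * z1) (x * z) (Set.range lam)ᶜ hz1x
    · intro v hv
      rw [Perm.mul_apply]
      exact hx1c _ (hz1c' v hv)
    · intro v hv
      have hv' : v ∉ Set.range lam := hv
      by_cases hvw : v = w
      · subst hvw
        refine ⟨3, by decide, ?_⟩
        have d1 : (x * z) v = lam 1 := by rw [Perm.mul_apply, zw, h0]
        have d2 : (x * z) (lam 1) = lam 2 := by rw [Perm.mul_apply, zc1, h2']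
        have d3 : (x * z) (lam 2) = x1 w' := by rw [Perm.mul_apply, zc2, hx1o w' hw'l]
        rw [pow_three_apply, d1, d2, d3, Perm.mul_apply, hw]
      · by_cases hvw' : v = w'
        · subst hvw'
          refine ⟨3, by decide, ?_⟩
          have d1 : (x * z) v = lam 3 := by rw [Perm.mul_apply, zw', h2]
          have d2 : (x * z) (lam 3) = lam 0 := by rw [Perm.mul_apply, zc3, h0']
          have d3 : (x * z) (lam 0) = x1 w := by rw [Perm.mul_apply, zc0, hx1o w hwl]
          rw [pow_three_apply, d1, d2, d3, Perm.mul_apply, hw']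
        · refine ⟨1, by decide, ?_⟩
          rw [pow_one, Perm.mul_apply, hzo v hv' hvw hvw', Perm.mul_apply,
            hx1o _ (hz1c' v hv')]
    · intro v hv
      have hv' : v ∈ Set.range lam := by
        by_contra h
        exact hv h
      left
      have hxw : x1 w ∈ (Set.range lam)ᶜ := hx1c w hwl
      have hxw' : x1 w' ∈ (Set.range lam)ᶜ := hx1c w' hw'l
      have r2 : ∃ j, ((x * z) ^ j) (lam 2) ∈ (Set.range lam)ᶜ := by
        apply reach_of_step _ _ _ (x1 w') _ (reach_of_mem _ _ _ hxw')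
        rw [Perm.mul_apply, zc2, hx1o w' hw'l]
      have r1 : ∃ j, ((x * z) ^ j) (lam 1) ∈ (Set.range lam)ᶜ := by
        apply reach_of_step _ _ _ (lam 2) _ r2
        rw [Perm.mul_apply, zc1, h2']
      have r0 : ∃ j, ((x * z) ^ j) (lam 0) ∈ (Set.range lam)ᶜ := by
        apply reach_of_step _ _ _ (x1 w) _ (reach_of_mem _ _ _ hxw)
        rw [Perm.mul_apply, zc0, hx1o w hwl]
      have r3 : ∃ j, ((x * z) ^ j) (lam 3) ∈ (Set.range lam)ᶜ := by
        apply reach_of_step _ _ _ (lam 0) _ r0
        rw [Perm.mul_apply, zc3, h0']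
      obtain ⟨i, rfl⟩ := hv'
      fin_cases i
      · exact r0
      · exact r1
      · exact r2
      · exact r3
  · -- z * y
    apply odd_orderOf_of_suspension (z1 * y1) (z * y) (Set.range lam)ᶜ hz1y
    · intro v hv
      rw [Perm.mul_apply]
      exact hz1c' _ (hy1c v hv)
    · intro v hv
      have hv' : v ∉ Set.range lam := hv
      have hu : y1 v ∉ Set.range lam := hy1c v hv'
      have hyv : y v = y1 v := (hy1o v hv').symm
      by_cases huw : y1 v = w
      · refine ⟨3, by decide, ?_⟩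
        have d1 : (z * y) v = lam 0 := by rw [Perm.mul_apply, hyv, huw, zw]
        have d2 : (z * y) (lam 0) = lam 1 := by rw [Perm.mul_apply, h3', zc3]
        have d3 : (z * y) (lam 1) = w' := by rw [Perm.mul_apply, h1, zc2]
        rw [pow_three_apply, d1, d2, d3, Perm.mul_apply, huw, hw]
      · by_cases huw' : y1 v = w'
        · refine ⟨3, by decide, ?_⟩
          have d1 : (z * y) v = lam 2 := by rw [Perm.mul_apply, hyv, huw', zw']
          have d2 : (z * y) (lam 2) = lam 3 := by rw [Perm.mul_apply, h1', zc1]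
          have d3 : (z * y) (lam 3) = w := by rw [Perm.mul_apply, h3, zc0]
          rw [pow_three_apply, d1, d2, d3, Perm.mul_apply, huw', hw']
        · refine ⟨1, by decide, ?_⟩
          rw [pow_one, Perm.mul_apply, hyv, hzo _ hu huw huw', Perm.mul_apply]
    · intro v hv
      have hv' : v ∈ Set.range lam := by
        by_contra h
        exact hv h
      left
      have hwB : w ∈ (Set.range lam)ᶜ := hwl
      have hw'B : w' ∈ (Set.range lam)ᶜ := hw'l
      have r1 : ∃ j, ((z * y) ^ j) (lam 1) ∈ (Set.range lam)ᶜ := by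
        apply reach_of_step _ _ _ w' _ (reach_of_mem _ _ _ hw'B)
        rw [Perm.mul_apply, h1, zc2]
      have r0 : ∃ j, ((z * y) ^ j) (lam 0) ∈ (Set.range lam)ᶜ := by
        apply reach_of_step _ _ _ (lam 1) _ r1
        rw [Perm.mul_apply, h3', zc3]
      have r3 : ∃ j, ((z * y) ^ j) (lam 3) ∈ (Set.range lam)ᶜ := by
        apply reach_of_step _ _ _ w _ (reach_of_mem _ _ _ hwB)
        rw [Perm.mul_apply, h3, zc0]
      have r2 : ∃ j, ((z * y) ^ j) (lam 2) ∈ (Set.range lam)ᶜ := by
        apply reach_of_step _ _ _ (lam 3) _ r3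
        rw [Perm.mul_apply, h1', zc1]
      obtain ⟨i, rfl⟩ := hv'
      fin_cases i
      · exact r0
      · exact r1
      · exact r2
      · exact r3

/-- **Absorption step**: an instance containing a 4-cycle. -/
theorem absorb_step (S : Finset Ω) (x y : Perm Ω) (hI : Inst S x y) (hnb : ¬ Bad S x y)
    (h4 : Has4 x y)
    (IH : ∀ S' : Finset Ω, S'.card < S.card → ∀ x' y', Inst S' x' y' → ¬ Bad S' x' y' →
      Sol S' x' y') : Sol S x y := by
  obtain ⟨lam, h0, h1, h2, h3⟩ := h4
  obtain ⟨x1, y1, hI1, hx1l, hy1l, hx1o, hy1o, hcx, hlS⟩ := split4 S x y hI lam h0 h1 h2 h3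
  have h0' := inv_apply_eq hI.hx h0
  have h1' := inv_apply_eq hI.hy h1
  have h2' := inv_apply_eq hI.hx h2
  have h3' := inv_apply_eq hI.hy h3
  have hcard : (S \ Finset.univ.map lam).card < S.card := by
    apply Finset.card_lt_card
    refine ⟨Finset.sdiff_subset, ?_⟩
    intro h
    have := h (hlS 0)
    rw [Finset.mem_sdiff] at this
    exact this.2 (Finset.mem_map_of_mem lam (Finset.mem_univ (0 : Fin 4)))
  have hne : (S \ Finset.univ.map lam).Nonempty := by
    rw [Finset.nonempty_iff_ne_empty]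
    intro hempty
    apply hnb
    have hsub : S ⊆ Finset.univ.map lam := Finset.sdiff_eq_empty_iff_subset.mp hempty
    have hSeq : S = Finset.univ.map lam := by
      apply Finset.Subset.antisymm hsub
      intro v hv
      rw [Finset.mem_map] at hv
      obtain ⟨i, _, rfl⟩ := hv
      exact hlS i
    have hmovex : ∀ i, x (lam i) ≠ lam i := by
      intro i h
      fin_cases i
      · exact absurd (lam.injective (h0.symm.trans h)) (by decide)
      · exact absurd (lam.injective (h0'.symm.trans h)) (by decide)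
      · exact absurd (lam.injective (h2.symm.trans h)) (by decide)
      · exact absurd (lam.injective (h2'.symm.trans h)) (by decide)
    have hmovey : ∀ i, y (lam i) ≠ lam i := by
      intro i h
      fin_cases i
      · exact absurd (lam.injective (h3'.symm.trans h)) (by decide)
      · exact absurd (lam.injective (h1.symm.trans h)) (by decide)
      · exact absurd (lam.injective (h1'.symm.trans h)) (by decide)
      · exact absurd (lam.injective (h3.symm.trans h)) (by decide)
    refine ⟨?_, ?_, ?_, ?_⟩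
    · rw [hSeq, Finset.card_map, Finset.card_univ, Fintype.card_fin]
    · apply Finset.Subset.antisymm hI.sx
      intro v hv
      rw [hSeq, Finset.mem_map] at hv
      obtain ⟨i, _, rfl⟩ := hv
      exact Perm.mem_support.mpr (hmovex i)
    · apply Finset.Subset.antisymm hI.sy
      intro v hv
      rw [hSeq, Finset.mem_map] at hv
      obtain ⟨i, _, rfl⟩ := hv
      exact Perm.mem_support.mpr (hmovey i)
    · intro hxy
      have : x (lam 0) = y (lam 0) := by rw [hxy]
      rw [h0, h3'] at this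
      exact absurd (lam.injective this) (by decide)
  by_cases hB1 : Bad (S \ Finset.univ.map lam) x1 y1
  · -- two 4-cycles
    obtain ⟨mu, m0, m1, m2, m3, hS1⟩ := has4_of_bad hI1 hB1
    have hmul : ∀ i, mu i ∉ Set.range lam := by
      intro i
      have : mu i ∈ S \ Finset.univ.map lam := by
        rw [hS1]
        exact Finset.mem_map_of_mem _ (Finset.mem_univ _)
      rw [mem_range_iff_mem_map]
      exact (Finset.mem_sdiff.mp this).2
    have hmuS : ∀ i, mu i ∈ S := by
      intro i
      have : mu i ∈ S \ Finset.univ.map lam := by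
        rw [hS1]
        exact Finset.mem_map_of_mem _ (Finset.mem_univ _)
      exact (Finset.mem_sdiff.mp this).1
    have n0 : x (mu 0) = mu 1 := by rw [← hx1o _ (hmul 0)]; exact m0
    have n1 : y (mu 1) = mu 2 := by rw [← hy1o _ (hmul 1)]; exact m1
    have n2 : x (mu 2) = mu 3 := by rw [← hx1o _ (hmul 2)]; exact m2
    have n3 : y (mu 3) = mu 0 := by rw [← hy1o _ (hmul 3)]; exact m3
    have n0' := inv_apply_eq hI.hx n0
    have n1' := inv_apply_eq hI.hy n1
    have n2' := inv_apply_eq hI.hx n2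
    have n3' := inv_apply_eq hI.hy n3
    have hinj : Function.Injective (Sum.elim lam mu : Fin 4 ⊕ Fin 4 → Ω) := by
      apply Function.Injective.sumElim lam.injective mu.injective
      intro i j h
      exact hmul j ⟨i, h⟩
    let ι8 : Fin 4 ⊕ Fin 4 ↪ Ω := ⟨Sum.elim lam mu, hinj⟩
    apply peel ι8 blkCC S x y hI ?_ ?_ ?_ IH ?_
    · rintro (i | i)
      · fin_cases i
        · exact h0
        · exact h0'
        · exact h2
        · exact h2'
      · fin_cases i
        · exact n0
        · exact n0'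
        · exact n2
        · exact n2'
    · rintro (i | i)
      · fin_cases i
        · exact h3'
        · exact h1
        · exact h1'
        · exact h3
      · fin_cases i
        · exact n3'
        · exact n1
        · exact n1'
        · exact n3
    · rintro (i | i)
      · exact hlS i
      · exact hmuS i
    · intro x2 y2 _ _ hbad
      have hempty : S \ Finset.univ.map ι8 = ∅ := by
        rw [Finset.eq_empty_iff_forall_notMem]
        intro v hv
        rw [Finset.mem_sdiff] at hv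
        apply hv.2
        by_cases hvl : v ∈ Finset.univ.map lam
        · rw [Finset.mem_map] at hvl
          obtain ⟨i, _, rfl⟩ := hvl
          exact Finset.mem_map_of_mem ι8 (Finset.mem_univ (Sum.inl i))
        · have : v ∈ S \ Finset.univ.map lam := Finset.mem_sdiff.mpr ⟨hv.1, hvl⟩
          rw [hS1, Finset.mem_map] at this
          obtain ⟨i, _, rfl⟩ := this
          exact Finset.mem_map_of_mem ι8 (Finset.mem_univ (Sum.inr i))
      have := hbad.1
      rw [hempty] at this
      simp at this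
  · obtain ⟨z1, hz12, hz1s, hz1c, hz1x, hz1y⟩ := IH _ hcard x1 y1 hI1 hB1
    obtain ⟨w, hwS⟩ := hne
    by_cases hw : z1 w = w
    · exact absorbA S x y hI lam h0 h1 h2 h3 x1 y1 hI1 hx1l hy1l hx1o hy1o hcx hlS z1 hz12 hz1s
        hz1c hz1x hz1y w hwS hw
    · exact absorbB S x y hI lam h0 h1 h2 h3 x1 y1 hI1 hx1l hy1l hx1o hy1o hcx hlS z1 hz12 hz1s
        hz1c hz1x hz1y w (z1 w) rfl hw

end Cfsg.Agent.Lib.Helper15.SymOdd
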