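import Mathlib
import Cfsg.Agent.Lib.Helper15.SymOddG

/-!
helper15: exploring the alternating walk of two involutions from a given point.
-/

set_option autoImplicit false

namespace Cfsg.Agent.Lib.Helper15.SymOdd

open Equiv

variable {Ω : Type*} [DecidableEq Ω] [Fintype Ω]

section

variable {α : Type*}

/-- a walk starting at a point fixed by the second involution is injective as long as it moves -/
theorem walk_injOn_endpoint (f g : α → α) (hf : ∀ a, f (f a) = a) (hg : ∀ a, g (g a) = a) (s : α)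
    (hgs : g s = s) (n : ℕ) (hmove : ∀ k, k < n → walk f g s (k + 1) ≠ walk f g s k) :
    ∀ i j, i ≤ n → j ≤ n → walk f g s i = walk f g s j → i = j := by
  apply walk_injOn f g hf hg s n hmove
  intro m hm hmn h
  obtain ⟨m', rfl⟩ : ∃ m', m = m' + 1 := ⟨m - 1, by omega⟩
  have e : 2 * (m' + 1) = (2 * m' + 1) + 1 := by ring
  rw [e, walk_succ_odd f g s (2 * m' + 1) (by omega), walk_zero] at h
  have h' : walk f g s (2 * m' + 1) = s := by
    have := congrArg g h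
    rw [hg, hgs] at this
    exact this
  have := walk_ne_odd f g hf hg s n hmove m' 0 (by omega)
  rw [zero_add, walk_zero] at this
  exact this h'.symm

end

omit [DecidableEq Ω] [Fintype Ω] in
/-- **Exploration** from a point fixed by `g` and moved by `f`. -/
theorem explore (f g : Perm Ω) (hf : f * f = 1) (hg : g * g = 1) (s : Ω) (hgs : g s = s)
    (hfs : f s ≠ s)
    (hseg : ¬ ∃ ι : Fin 6 ↪ Ω, f (ι 0) = ι 1 ∧ g (ι 1) = ι 2 ∧ f (ι 2) = ι 3 ∧ g (ι 3) = ι 4 ∧
      f (ι 4) = ι 5) :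
    (∃ ι : Fin 2 ↪ Ω, ι 0 = s ∧ f (ι 0) = ι 1 ∧ g (ι 1) = ι 1) ∨
    (∃ ι : Fin 3 ↪ Ω, ι 0 = s ∧ f (ι 0) = ι 1 ∧ g (ι 1) = ι 2 ∧ f (ι 2) = ι 2) ∨
    (∃ ι : Fin 4 ↪ Ω, ι 0 = s ∧ f (ι 0) = ι 1 ∧ g (ι 1) = ι 2 ∧ f (ι 2) = ι 3 ∧ g (ι 3) = ι 3) ∨
    (∃ ι : Fin 5 ↪ Ω, ι 0 = s ∧ f (ι 0) = ι 1 ∧ g (ι 1) = ι 2 ∧ f (ι 2) = ι 3 ∧ g (ι 3) = ι 4 ∧
      f (ι 4) = ι 4) := by
  have hf' : ∀ a, (f : Ω → Ω) ((f : Ω → Ω) a) = a := inv_apply_apply hf
  have hg' : ∀ a, (g : Ω → Ω) ((g : Ω → Ω) a) = a := inv_apply_apply hg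
  set w := walk (f : Ω → Ω) (g : Ω → Ω) s with hw
  have w0 : w 0 = s := rfl
  have w1 : w 1 = f (w 0) := walk_succ_even _ _ _ 0 (by norm_num)
  have w2 : w 2 = g (w 1) := walk_succ_odd _ _ _ 1 (by norm_num)
  have w3 : w 3 = f (w 2) := walk_succ_even _ _ _ 2 (by norm_num)
  have w4 : w 4 = g (w 3) := walk_succ_odd _ _ _ 3 (by norm_num)
  have w5 : w 5 = f (w 4) := walk_succ_even _ _ _ 4 (by norm_num)
  have inj : ∀ n, (∀ k, k < n → w (k + 1) ≠ w k) → ∀ i j, i ≤ n → j ≤ n → w i = w j → i = j :=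
    fun n hmove => walk_injOn_endpoint _ _ hf' hg' s hgs n hmove
  have m0 : w 1 ≠ w 0 := by rw [w1, w0]; exact hfs
  by_cases t1 : g (w 1) = w 1
  · left
    have hinj := inj 1 (by
      intro k hk
      have : k = 0 := by omega
      subst this
      exact m0)
    refine ⟨⟨fun i : Fin 2 => w i, fun i j h => Fin.ext (hinj i j (by omega) (by omega) h)⟩,
      rfl, ?_, ?_⟩
    · exact w1.symm
    · exact t1
  have m1 : w 2 ≠ w 1 := by rw [w2]; exact t1
  by_cases t2 : f (w 2) = w 2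
  · right; left
    have hinj := inj 2 (by
      intro k hk
      have : k = 0 ∨ k = 1 := by omega
      rcases this with rfl | rfl
      · exact m0
      · exact m1)
    refine ⟨⟨fun i : Fin 3 => w i, fun i j h => Fin.ext (hinj i j (by omega) (by omega) h)⟩,
      rfl, ?_, ?_, ?_⟩
    · exact w1.symm
    · exact w2.symm
    · exact t2
  have m2 : w 3 ≠ w 2 := by rw [w3]; exact t2
  by_cases t3 : g (w 3) = w 3
  · right; right; left
    have hinj := inj 3 (by
      intro k hk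
      have : k = 0 ∨ k = 1 ∨ k = 2 := by omega
      rcases this with rfl | rfl | rfl
      · exact m0
      · exact m1
      · exact m2)
    refine ⟨⟨fun i : Fin 4 => w i, fun i j h => Fin.ext (hinj i j (by omega) (by omega) h)⟩,
      rfl, ?_, ?_, ?_, ?_⟩
    · exact w1.symm
    · exact w2.symm
    · exact w3.symm
    · exact t3
  have m3 : w 4 ≠ w 3 := by rw [w4]; exact t3
  by_cases t4 : f (w 4) = w 4
  · right; right; right
    have hinj := inj 4 (by
      intro k hk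
      have : k = 0 ∨ k = 1 ∨ k = 2 ∨ k = 3 := by omega
      rcases this with rfl | rfl | rfl | rfl
      · exact m0
      · exact m1
      · exact m2
      · exact m3)
    refine ⟨⟨fun i : Fin 5 => w i, fun i j h => Fin.ext (hinj i j (by omega) (by omega) h)⟩,
      rfl, ?_, ?_, ?_, ?_, ?_⟩
    · exact w1.symm
    · exact w2.symm
    · exact w3.symm
    · exact w4.symm
    · exact t4
  have m4 : w 5 ≠ w 4 := by rw [w5]; exact t4
  exfalso
  apply hseg
  have hinj := inj 5 (by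
    intro k hk
    have : k = 0 ∨ k = 1 ∨ k = 2 ∨ k = 3 ∨ k = 4 := by omega
    rcases this with rfl | rfl | rfl | rfl | rfl
    · exact m0
    · exact m1
    · exact m2
    · exact m3
    · exact m4)
  refine ⟨⟨fun i : Fin 6 => w i, fun i j h => Fin.ext (hinj i j (by omega) (by omega) h)⟩,
    ?_, ?_, ?_, ?_, ?_⟩
  · exact w1.symm
  · exact w2.symm
  · exact w3.symm
  · exact w4.symm
  · exact w5.symm

omit [DecidableEq Ω] [Fintype Ω] in
/-- **Exploration of a cycle**: a point moved by both involutions, whose walk keeps moving. -/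
theorem explore_cycle (f g : Perm Ω) (hf : f * f = 1) (hg : g * g = 1) (v : Ω)
    (hall : ∀ k, (walk (f : Ω → Ω) (g : Ω → Ω) v (k + 1)) ≠
      walk (f : Ω → Ω) (g : Ω → Ω) v k)
    (hdbl : g (f v) ≠ v)
    (h4 : ¬ ∃ ι : Fin 4 ↪ Ω, f (ι 0) = ι 1 ∧ g (ι 1) = ι 2 ∧ f (ι 2) = ι 3 ∧ g (ι 3) = ι 0) :
    ∃ ι : Fin 6 ↪ Ω, f (ι 0) = ι 1 ∧ g (ι 1) = ι 2 ∧ f (ι 2) = ι 3 ∧ g (ι 3) = ι 4 ∧
      f (ι 4) = ι 5 := by
  have hf' : ∀ a, (f : Ω → Ω) ((f : Ω → Ω) a) = a := inv_apply_apply hf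
  have hg' : ∀ a, (g : Ω → Ω) ((g : Ω → Ω) a) = a := inv_apply_apply hg
  set w := walk (f : Ω → Ω) (g : Ω → Ω) v with hw
  have w0 : w 0 = v := rfl
  have w1 : w 1 = f (w 0) := walk_succ_even _ _ _ 0 (by norm_num)
  have w2 : w 2 = g (w 1) := walk_succ_odd _ _ _ 1 (by norm_num)
  have w3 : w 3 = f (w 2) := walk_succ_even _ _ _ 2 (by norm_num)
  have w4 : w 4 = g (w 3) := walk_succ_odd _ _ _ 3 (by norm_num)
  have w5 : w 5 = f (w 4) := walk_succ_even _ _ _ 4 (by norm_num)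
  have e2 : w 2 ≠ w 0 := by
    rw [w2, w1, w0]
    exact hdbl
  have hinj3 := walk_injOn (f : Ω → Ω) (g : Ω → Ω) hf' hg' v 3 (fun k _ => hall k) (by
    intro m hm hm3
    have : m = 1 := by omega
    subst this
    exact e2)
  have e4 : w 4 ≠ w 0 := by
    intro h
    apply h4
    refine ⟨⟨fun i : Fin 4 => w i, fun i j h => Fin.ext (hinj3 i j (by omega) (by omega) h)⟩,
      ?_, ?_, ?_, ?_⟩
    · exact w1.symm
    · exact w2.symm
    · exact w3.symm
    · show g (w 3) = w 0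
      rw [← w4, h]
  have hinj5 := walk_injOn (f : Ω → Ω) (g : Ω → Ω) hf' hg' v 5 (fun k _ => hall k) (by
    intro m hm hm5
    have : m = 1 ∨ m = 2 := by omega
    rcases this with rfl | rfl
    · exact e2
    · exact e4)
  refine ⟨⟨fun i : Fin 6 => w i, fun i j h => Fin.ext (hinj5 i j (by omega) (by omega) h)⟩,
    ?_, ?_, ?_, ?_, ?_⟩
  · exact w1.symm
  · exact w2.symm
  · exact w3.symm
  · exact w4.symm
  · exact w5.symm

end Cfsg.Agent.Lib.Helper15.SymOdd
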