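import Mathlib
import Cfsg.Agent.Lib.Helper15.SymOddH

/-!
helper15: the main induction: every instance that is not the bad one has a common neighbour.
-/

set_option autoImplicit false
set_option maxRecDepth 100000

namespace Cfsg.Agent.Lib.Helper15.SymOdd

open Equiv

variable {Ω : Type*} [DecidableEq Ω] [Fintype Ω]

omit [DecidableEq Ω] [Fintype Ω] in
theorem notMem_range_of_image {I : Type*} (ιQ : I ↪ Ω) (σ : Perm Ω)
    (hQ : ∀ j, σ (ιQ j) ∈ Set.range ιQ) {a b : Ω} (h : σ a = b) (hb : b ∉ Set.range ιQ) :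
    a ∉ Set.range ιQ := by
  rintro ⟨j, rfl⟩
  exact hb (h ▸ hQ j)

/-- the pairs of even paths -/
theorem pair_step (S : Finset Ω) (x y : Perm Ω) (hI : Inst S x y) (h4 : ¬ Has4 x y)
    (IH : ∀ S' : Finset Ω, S'.card < S.card → ∀ x' y', Inst S' x' y' → ¬ Bad S' x' y' →
      Sol S' x' y')
    {p q : ℕ} [NeZero p] (ιP : Fin p ↪ Ω) (ιQ : Fin q ↪ Ω) (b : Block (Fin p ⊕ Fin q))
    (hdisj : ∀ i j, ιP i ≠ ιQ j)
    (hxP : ∀ i, x (ιP i) = Sum.elim ιP ιQ (b.x0 (Sum.inl i)))
    (hxQ : ∀ j, x (ιQ j) = Sum.elim ιP ιQ (b.x0 (Sum.inr j)))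
    (hyP : ∀ i, y (ιP i) = Sum.elim ιP ιQ (b.y0 (Sum.inl i)))
    (hyQ : ∀ j, y (ιQ j) = Sum.elim ιP ιQ (b.y0 (Sum.inr j)))
    (hPS : ∀ i, ιP i ∈ S) (hQS : ∀ j, ιQ j ∈ S) : Sol S x y := by
  have hinj : Function.Injective (Sum.elim ιP ιQ : Fin p ⊕ Fin q → Ω) :=
    Function.Injective.sumElim ιP.injective ιQ.injective hdisj
  let ι : Fin p ⊕ Fin q ↪ Ω := ⟨Sum.elim ιP ιQ, hinj⟩
  have : Nonempty (Fin p ⊕ Fin q) := ⟨Sum.inl 0⟩
  apply peel ι b S x y hI ?_ ?_ ?_ IH (fun x' y' h1 h2 => not_bad_of_not_has4 ι h4 h1 h2)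
  · rintro (i | j)
    · exact hxP i
    · exact hxQ j
  · rintro (i | j)
    · exact hyP i
    · exact hyQ j
  · rintro (i | j)
    · exact hPS i
    · exact hQS j

/-- the path `s -y- . -x- .` -/
theorem q3_step (S : Finset Ω) (x y : Perm Ω) (hI : Inst S x y) (h4 : ¬ Has4 x y)
    (IH : ∀ S' : Finset Ω, S'.card < S.card → ∀ x' y', Inst S' x' y' → ¬ Bad S' x' y' →
      Sol S' x' y')
    (ι : Fin 3 ↪ Ω) (q0 : x (ι 0) = ι 0) (q1 : y (ι 0) = ι 1) (q2 : x (ι 1) = ι 2)
    (q3 : y (ι 2) = ι 2) : Sol S x y := by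
  have q1' := inv_apply_eq hI.hy q1
  have q2' := inv_apply_eq hI.hx q2
  apply peel ι blk3 S x y hI ?_ ?_ ?_ IH (fun x' y' h1 h2 => not_bad_of_not_has4 ι h4 h1 h2)
  · intro i
    fin_cases i
    · exact q0
    · exact q2
    · exact q2'
  · intro i
    fin_cases i
    · exact q1
    · exact q1'
    · exact q3
  · intro i
    fin_cases i
    · apply mem_of_moved hI.sy
      show y (ι 0) ≠ ι 0
      rw [q1]
      intro h
      exact absurd (ι.injective h) (by decide)
    · apply mem_of_moved hI.sy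
      show y (ι 1) ≠ ι 1
      rw [q1']
      intro h
      exact absurd (ι.injective h) (by decide)
    · apply mem_of_moved hI.sx
      show x (ι 2) ≠ ι 2
      rw [q2']
      intro h
      exact absurd (ι.injective h) (by decide)

/-- the path `u -x- . -y- .` -/
theorem p3_step (S : Finset Ω) (x y : Perm Ω) (hI : Inst S x y) (h4 : ¬ Has4 x y)
    (IH : ∀ S' : Finset Ω, S'.card < S.card → ∀ x' y', Inst S' x' y' → ¬ Bad S' x' y' →
      Sol S' x' y')
    (ι : Fin 3 ↪ Ω) (q0 : y (ι 0) = ι 0) (q1 : x (ι 0) = ι 1) (q2 : y (ι 1) = ι 2)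
    (q3 : x (ι 2) = ι 2) : Sol S x y := by
  have q1' := inv_apply_eq hI.hx q1
  have q2' := inv_apply_eq hI.hy q2
  apply peel ι blk3' S x y hI ?_ ?_ ?_ IH (fun x' y' h1 h2 => not_bad_of_not_has4 ι h4 h1 h2)
  · intro i
    fin_cases i
    · exact q1
    · exact q1'
    · exact q3
  · intro i
    fin_cases i
    · exact q0
    · exact q2
    · exact q2'
  · intro i
    fin_cases i
    · apply mem_of_moved hI.sx
      show x (ι 0) ≠ ι 0
      rw [q1]
      intro h
      exact absurd (ι.injective h) (by decide)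
    · apply mem_of_moved hI.sx
      show x (ι 1) ≠ ι 1
      rw [q1']
      intro h
      exact absurd (ι.injective h) (by decide)
    · apply mem_of_moved hI.sy
      show y (ι 2) ≠ ι 2
      rw [q2']
      intro h
      exact absurd (ι.injective h) (by decide)

/-- the path `s -y- . -x- . -y- . -x- .` -/
theorem q5_step (S : Finset Ω) (x y : Perm Ω) (hI : Inst S x y) (h4 : ¬ Has4 x y)
    (IH : ∀ S' : Finset Ω, S'.card < S.card → ∀ x' y', Inst S' x' y' → ¬ Bad S' x' y' →
      Sol S' x' y')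
    (ι : Fin 5 ↪ Ω) (q0 : x (ι 0) = ι 0) (q1 : y (ι 0) = ι 1) (q2 : x (ι 1) = ι 2)
    (q3 : y (ι 2) = ι 3) (q4 : x (ι 3) = ι 4) (q5 : y (ι 4) = ι 4) : Sol S x y := by
  have q1' := inv_apply_eq hI.hy q1
  have q2' := inv_apply_eq hI.hx q2
  have q3' := inv_apply_eq hI.hy q3
  have q4' := inv_apply_eq hI.hx q4
  apply peel ι blk5 S x y hI ?_ ?_ ?_ IH (fun x' y' h1 h2 => not_bad_of_not_has4 ι h4 h1 h2)
  · intro i
    fin_cases i
    · exact q0
    · exact q2
    · exact q2'
    · exact q4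
    · exact q4'
  · intro i
    fin_cases i
    · exact q1
    · exact q1'
    · exact q3
    · exact q3'
    · exact q5
  · intro i
    fin_cases i
    · apply mem_of_moved hI.sy
      show y (ι 0) ≠ ι 0
      rw [q1]
      intro h
      exact absurd (ι.injective h) (by decide)
    · apply mem_of_moved hI.sy
      show y (ι 1) ≠ ι 1
      rw [q1']
      intro h
      exact absurd (ι.injective h) (by decide)
    · apply mem_of_moved hI.sx
      show x (ι 2) ≠ ι 2
      rw [q2']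
      intro h
      exact absurd (ι.injective h) (by decide)
    · apply mem_of_moved hI.sx
      show x (ι 3) ≠ ι 3
      rw [q4]
      intro h
      exact absurd (ι.injective h) (by decide)
    · apply mem_of_moved hI.sx
      show x (ι 4) ≠ ι 4
      rw [q4']
      intro h
      exact absurd (ι.injective h) (by decide)

/-- the path `u -x- . -y- . -x- . -y- .` -/
theorem p5_step (S : Finset Ω) (x y : Perm Ω) (hI : Inst S x y) (h4 : ¬ Has4 x y)
    (IH : ∀ S' : Finset Ω, S'.card < S.card → ∀ x' y', Inst S' x' y' → ¬ Bad S' x' y' →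
      Sol S' x' y')
    (ι : Fin 5 ↪ Ω) (q0 : y (ι 0) = ι 0) (q1 : x (ι 0) = ι 1) (q2 : y (ι 1) = ι 2)
    (q3 : x (ι 2) = ι 3) (q4 : y (ι 3) = ι 4) (q5 : x (ι 4) = ι 4) : Sol S x y := by
  have q1' := inv_apply_eq hI.hx q1
  have q2' := inv_apply_eq hI.hy q2
  have q3' := inv_apply_eq hI.hx q3
  have q4' := inv_apply_eq hI.hy q4
  apply peel ι blk5' S x y hI ?_ ?_ ?_ IH (fun x' y' h1 h2 => not_bad_of_not_has4 ι h4 h1 h2)
  · intro i
    fin_cases i
    · exact q1
    · exact q1'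
    · exact q3
    · exact q3'
    · exact q5
  · intro i
    fin_cases i
    · exact q0
    · exact q2
    · exact q2'
    · exact q4
    · exact q4'
  · intro i
    fin_cases i
    · apply mem_of_moved hI.sx
      show x (ι 0) ≠ ι 0
      rw [q1]
      intro h
      exact absurd (ι.injective h) (by decide)
    · apply mem_of_moved hI.sx
      show x (ι 1) ≠ ι 1
      rw [q1']
      intro h
      exact absurd (ι.injective h) (by decide)
    · apply mem_of_moved hI.sy
      show y (ι 2) ≠ ι 2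
      rw [q2']
      intro h
      exact absurd (ι.injective h) (by decide)
    · apply mem_of_moved hI.sy
      show y (ι 3) ≠ ι 3
      rw [q4]
      intro h
      exact absurd (ι.injective h) (by decide)
    · apply mem_of_moved hI.sy
      show y (ι 4) ≠ ι 4
      rw [q4']
      intro h
      exact absurd (ι.injective h) (by decide)

section pairs

variable (S : Finset Ω) (x y : Perm Ω) (hI : Inst S x y) (h4 : ¬ Has4 x y)
  (IH : ∀ S' : Finset Ω, S'.card < S.card → ∀ x' y', Inst S' x' y' → ¬ Bad S' x' y' →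
    Sol S' x' y')

omit [DecidableEq Ω] [Fintype Ω] in
theorem disjP2 (x : Perm Ω) (hx : x * x = 1) {q : ℕ} (ιP : Fin 2 ↪ Ω) (ιQ : Fin q ↪ Ω)
    (hQx : ∀ j, x (ιQ j) ∈ Set.range ιQ) (h0 : ιP 0 ∉ Set.range ιQ)
    (p1 : x (ιP 0) = ιP 1) : ∀ i j, ιP i ≠ ιQ j := by
  have p1' := inv_apply_eq hx p1
  have n1 : ιP 1 ∉ Set.range ιQ := notMem_range_of_image ιQ x hQx p1' h0
  intro i j h
  fin_cases i
  · exact h0 ⟨j, h.symm⟩
  · exact n1 ⟨j, h.symm⟩

omit [DecidableEq Ω] [Fintype Ω] in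
theorem disjP4 (x y : Perm Ω) (hx : x * x = 1) (hy : y * y = 1) {q : ℕ} (ιP : Fin 4 ↪ Ω)
    (ιQ : Fin q ↪ Ω)
    (hQx : ∀ j, x (ιQ j) ∈ Set.range ιQ) (hQy : ∀ j, y (ιQ j) ∈ Set.range ιQ)
    (h0 : ιP 0 ∉ Set.range ιQ)
    (p1 : x (ιP 0) = ιP 1) (p2 : y (ιP 1) = ιP 2) (p3 : x (ιP 2) = ιP 3) :
    ∀ i j, ιP i ≠ ιQ j := by
  have p1' := inv_apply_eq hx p1
  have p2' := inv_apply_eq hy p2
  have p3' := inv_apply_eq hx p3
  have n1 : ιP 1 ∉ Set.range ιQ := notMem_range_of_image ιQ x hQx p1' h0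
  have n2 : ιP 2 ∉ Set.range ιQ := notMem_range_of_image ιQ y hQy p2' n1
  have n3 : ιP 3 ∉ Set.range ιQ := notMem_range_of_image ιQ x hQx p3' n2
  intro i j h
  fin_cases i
  · exact h0 ⟨j, h.symm⟩
  · exact n1 ⟨j, h.symm⟩
  · exact n2 ⟨j, h.symm⟩
  · exact n3 ⟨j, h.symm⟩

include hI h4 IH in
theorem pair22 (ιP : Fin 2 ↪ Ω) (ιQ : Fin 2 ↪ Ω)
    (p0 : y (ιP 0) = ιP 0) (p1 : x (ιP 0) = ιP 1) (p2 : y (ιP 1) = ιP 1)
    (q0 : x (ιQ 0) = ιQ 0) (q1 : y (ιQ 0) = ιQ 1) (q2 : x (ιQ 1) = ιQ 1) : Sol S x y := by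
  have p1' := inv_apply_eq hI.hx p1
  have q1' := inv_apply_eq hI.hy q1
  have hxu : x (ιP 0) ≠ ιP 0 := by
    rw [p1]; intro h; exact absurd (ιP.injective h) (by decide)
  have hQx : ∀ j, x (ιQ j) ∈ Set.range ιQ := by
    intro j
    fin_cases j
    · exact ⟨0, q0.symm⟩
    · exact ⟨1, q2.symm⟩
  have h0 : ιP 0 ∉ Set.range ιQ := by
    rintro ⟨j, hj⟩
    apply hxu
    rw [← hj]
    fin_cases j
    · exact q0
    · exact q2
  have hdisj := disjP2 x hI.hx ιP ιQ hQx h0 p1
  apply pair_step S x y hI h4 IH ιP ιQ blk22 hdisj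
  · intro i
    fin_cases i
    · exact p1
    · exact p1'
  · intro j
    fin_cases j
    · exact q0
    · exact q2
  · intro i
    fin_cases i
    · exact p0
    · exact p2
  · intro j
    fin_cases j
    · exact q1
    · exact q1'
  · intro i
    fin_cases i
    · exact mem_of_moved hI.sx hxu
    · apply mem_of_moved hI.sx
      show x (ιP 1) ≠ ιP 1
      rw [p1']; intro h; exact absurd (ιP.injective h) (by decide)
  · intro j
    fin_cases j
    · apply mem_of_moved hI.sy
      show y (ιQ 0) ≠ ιQ 0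
      rw [q1]; intro h; exact absurd (ιQ.injective h) (by decide)
    · apply mem_of_moved hI.sy
      show y (ιQ 1) ≠ ιQ 1
      rw [q1']; intro h; exact absurd (ιQ.injective h) (by decide)

include hI h4 IH in
theorem pair24 (ιP : Fin 2 ↪ Ω) (ιQ : Fin 4 ↪ Ω)
    (p0 : y (ιP 0) = ιP 0) (p1 : x (ιP 0) = ιP 1) (p2 : y (ιP 1) = ιP 1)
    (q0 : x (ιQ 0) = ιQ 0) (q1 : y (ιQ 0) = ιQ 1) (q2 : x (ιQ 1) = ιQ 2)
    (q3 : y (ιQ 2) = ιQ 3) (q4 : x (ιQ 3) = ιQ 3) : Sol S x y := by
  have p1' := inv_apply_eq hI.hx p1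
  have q1' := inv_apply_eq hI.hy q1
  have q2' := inv_apply_eq hI.hx q2
  have q3' := inv_apply_eq hI.hy q3
  have hxu : x (ιP 0) ≠ ιP 0 := by
    rw [p1]; intro h; exact absurd (ιP.injective h) (by decide)
  have hQx : ∀ j, x (ιQ j) ∈ Set.range ιQ := by
    intro j
    fin_cases j
    · exact ⟨0, q0.symm⟩
    · exact ⟨2, q2.symm⟩
    · exact ⟨1, q2'.symm⟩
    · exact ⟨3, q4.symm⟩
  have hymove : ∀ j, y (ιQ j) ≠ ιQ j := by
    intro j
    fin_cases j
    · show y (ιQ 0) ≠ ιQ 0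
      rw [q1]; intro h; exact absurd (ιQ.injective h) (by decide)
    · show y (ιQ 1) ≠ ιQ 1
      rw [q1']; intro h; exact absurd (ιQ.injective h) (by decide)
    · show y (ιQ 2) ≠ ιQ 2
      rw [q3]; intro h; exact absurd (ιQ.injective h) (by decide)
    · show y (ιQ 3) ≠ ιQ 3
      rw [q3']; intro h; exact absurd (ιQ.injective h) (by decide)
  have h0 : ιP 0 ∉ Set.range ιQ := by
    rintro ⟨j, hj⟩
    apply hymove j
    rw [hj]
    exact p0
  have hdisj := disjP2 x hI.hx ιP ιQ hQx h0 p1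
  apply pair_step S x y hI h4 IH ιP ιQ blk24 hdisj
  · intro i
    fin_cases i
    · exact p1
    · exact p1'
  · intro j
    fin_cases j
    · exact q0
    · exact q2
    · exact q2'
    · exact q4
  · intro i
    fin_cases i
    · exact p0
    · exact p2
  · intro j
    fin_cases j
    · exact q1
    · exact q1'
    · exact q3
    · exact q3'
  · intro i
    fin_cases i
    · exact mem_of_moved hI.sx hxu
    · apply mem_of_moved hI.sx
      show x (ιP 1) ≠ ιP 1
      rw [p1']; intro h; exact absurd (ιP.injective h) (by decide)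
  · intro j
    exact mem_of_moved hI.sy (hymove j)

include hI h4 IH in
theorem pair42 (ιP : Fin 4 ↪ Ω) (ιQ : Fin 2 ↪ Ω)
    (p0 : y (ιP 0) = ιP 0) (p1 : x (ιP 0) = ιP 1) (p2 : y (ιP 1) = ιP 2)
    (p3 : x (ιP 2) = ιP 3) (p4 : y (ιP 3) = ιP 3)
    (q0 : x (ιQ 0) = ιQ 0) (q1 : y (ιQ 0) = ιQ 1) (q2 : x (ιQ 1) = ιQ 1) : Sol S x y := by
  have p1' := inv_apply_eq hI.hx p1
  have p2' := inv_apply_eq hI.hy p2
  have p3' := inv_apply_eq hI.hx p3
  have q1' := inv_apply_eq hI.hy q1
  have hxmove : ∀ i, x (ιP i) ≠ ιP i := by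
    intro i
    fin_cases i
    · show x (ιP 0) ≠ ιP 0
      rw [p1]; intro h; exact absurd (ιP.injective h) (by decide)
    · show x (ιP 1) ≠ ιP 1
      rw [p1']; intro h; exact absurd (ιP.injective h) (by decide)
    · show x (ιP 2) ≠ ιP 2
      rw [p3]; intro h; exact absurd (ιP.injective h) (by decide)
    · show x (ιP 3) ≠ ιP 3
      rw [p3']; intro h; exact absurd (ιP.injective h) (by decide)
  have hQx : ∀ j, x (ιQ j) ∈ Set.range ιQ := by
    intro j
    fin_cases j
    · exact ⟨0, q0.symm⟩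
    · exact ⟨1, q2.symm⟩
  have hQy : ∀ j, y (ιQ j) ∈ Set.range ιQ := by
    intro j
    fin_cases j
    · exact ⟨1, q1.symm⟩
    · exact ⟨0, q1'.symm⟩
  have h0 : ιP 0 ∉ Set.range ιQ := by
    rintro ⟨j, hj⟩
    apply hxmove 0
    rw [← hj]
    fin_cases j
    · exact q0
    · exact q2
  have hdisj := disjP4 x y hI.hx hI.hy ιP ιQ hQx hQy h0 p1 p2 p3
  apply pair_step S x y hI h4 IH ιP ιQ blk42 hdisj
  · intro i
    fin_cases i
    · exact p1
    · exact p1'
    · exact p3
    · exact p3'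
  · intro j
    fin_cases j
    · exact q0
    · exact q2
  · intro i
    fin_cases i
    · exact p0
    · exact p2
    · exact p2'
    · exact p4
  · intro j
    fin_cases j
    · exact q1
    · exact q1'
  · intro i
    exact mem_of_moved hI.sx (hxmove i)
  · intro j
    fin_cases j
    · apply mem_of_moved hI.sy
      show y (ιQ 0) ≠ ιQ 0
      rw [q1]; intro h; exact absurd (ιQ.injective h) (by decide)
    · apply mem_of_moved hI.sy
      show y (ιQ 1) ≠ ιQ 1
      rw [q1']; intro h; exact absurd (ιQ.injective h) (by decide)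

include hI h4 IH in
theorem pair44 (ιP : Fin 4 ↪ Ω) (ιQ : Fin 4 ↪ Ω)
    (p0 : y (ιP 0) = ιP 0) (p1 : x (ιP 0) = ιP 1) (p2 : y (ιP 1) = ιP 2)
    (p3 : x (ιP 2) = ιP 3) (p4 : y (ιP 3) = ιP 3)
    (q0 : x (ιQ 0) = ιQ 0) (q1 : y (ιQ 0) = ιQ 1) (q2 : x (ιQ 1) = ιQ 2)
    (q3 : y (ιQ 2) = ιQ 3) (q4 : x (ιQ 3) = ιQ 3) : Sol S x y := by
  have p1' := inv_apply_eq hI.hx p1
  have p2' := inv_apply_eq hI.hy p2
  have p3' := inv_apply_eq hI.hx p3
  have q1' := inv_apply_eq hI.hy q1
  have q2' := inv_apply_eq hI.hx q2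
  have q3' := inv_apply_eq hI.hy q3
  have hxmove : ∀ i, x (ιP i) ≠ ιP i := by
    intro i
    fin_cases i
    · show x (ιP 0) ≠ ιP 0
      rw [p1]; intro h; exact absurd (ιP.injective h) (by decide)
    · show x (ιP 1) ≠ ιP 1
      rw [p1']; intro h; exact absurd (ιP.injective h) (by decide)
    · show x (ιP 2) ≠ ιP 2
      rw [p3]; intro h; exact absurd (ιP.injective h) (by decide)
    · show x (ιP 3) ≠ ιP 3
      rw [p3']; intro h; exact absurd (ιP.injective h) (by decide)
  have hymove : ∀ j, y (ιQ j) ≠ ιQ j := by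
    intro j
    fin_cases j
    · show y (ιQ 0) ≠ ιQ 0
      rw [q1]; intro h; exact absurd (ιQ.injective h) (by decide)
    · show y (ιQ 1) ≠ ιQ 1
      rw [q1']; intro h; exact absurd (ιQ.injective h) (by decide)
    · show y (ιQ 2) ≠ ιQ 2
      rw [q3]; intro h; exact absurd (ιQ.injective h) (by decide)
    · show y (ιQ 3) ≠ ιQ 3
      rw [q3']; intro h; exact absurd (ιQ.injective h) (by decide)
  have hQx : ∀ j, x (ιQ j) ∈ Set.range ιQ := by
    intro j
    fin_cases j
    · exact ⟨0, q0.symm⟩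
    · exact ⟨2, q2.symm⟩
    · exact ⟨1, q2'.symm⟩
    · exact ⟨3, q4.symm⟩
  have hQy : ∀ j, y (ιQ j) ∈ Set.range ιQ := by
    intro j
    fin_cases j
    · exact ⟨1, q1.symm⟩
    · exact ⟨0, q1'.symm⟩
    · exact ⟨3, q3.symm⟩
    · exact ⟨2, q3'.symm⟩
  have h0 : ιP 0 ∉ Set.range ιQ := by
    rintro ⟨j, hj⟩
    apply hymove j
    rw [hj]
    exact p0
  have hdisj := disjP4 x y hI.hx hI.hy ιP ιQ hQx hQy h0 p1 p2 p3
  apply pair_step S x y hI h4 IH ιP ιQ blk44 hdisj
  · intro i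
    fin_cases i
    · exact p1
    · exact p1'
    · exact p3
    · exact p3'
  · intro j
    fin_cases j
    · exact q0
    · exact q2
    · exact q2'
    · exact q4
  · intro i
    fin_cases i
    · exact p0
    · exact p2
    · exact p2'
    · exact p4
  · intro j
    fin_cases j
    · exact q1
    · exact q1'
    · exact q3
    · exact q3'
  · intro i
    exact mem_of_moved hI.sx (hxmove i)
  · intro j
    exact mem_of_moved hI.sy (hymove j)

end pairs

/-- **Main theorem**: every instance other than the bad one has a common neighbour. -/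
theorem main_aux : ∀ n : ℕ, ∀ S : Finset Ω, S.card = n → ∀ x y : Perm Ω, Inst S x y →
    ¬ Bad S x y → Sol S x y := by
  intro n
  induction n using Nat.strong_induction_on with
  | _ n ih =>
  intro S hS x y hI hnb
  have IH : ∀ S' : Finset Ω, S'.card < S.card → ∀ x' y', Inst S' x' y' → ¬ Bad S' x' y' →
      Sol S' x' y' := fun S' h => ih S'.card (by omega) S' rfl
  by_cases h4 : Has4 x y
  · exact absorb_step S x y hI hnb h4 IH
  by_cases hs : HasSeg x y
  · exact contraction_step S x y hI hs IH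
  by_cases hs' : HasSeg y x
  · exact Sol.symm hI (contraction_step S y x hI.symm hs' IH)
  have hxx := inv_apply_apply hI.hx
  have hyy := inv_apply_apply hI.hy
  have hmx : ∀ {v}, x v ≠ v → v ∈ S := fun h => mem_of_moved hI.sx h
  have hmy : ∀ {v}, y v ≠ v → v ∈ S := fun h => mem_of_moved hI.sy h
  -- Step 2: a common fixed point
  by_cases hfix : ∃ p ∈ S, x p = p ∧ y p = p
  · obtain ⟨p, hpS, hxp, hyp⟩ := hfix
    let ι : Fin 1 ↪ Ω := ⟨fun _ => p, fun i j _ => Subsingleton.elim i j⟩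
    exact peel ι blk1 S x y hI (fun _ => hxp) (fun _ => hyp) (fun _ => hpS) IH
      (fun x' y' h1 h2 => not_bad_of_not_has4 ι h4 h1 h2)
  -- Step 3: a common transposition
  by_cases hdbl : ∃ a, x a ≠ a ∧ y a = x a
  · obtain ⟨a, hxa, hya⟩ := hdbl
    have hinj : Function.Injective (![a, x a] : Fin 2 → Ω) := by
      intro i j h
      fin_cases i <;> fin_cases j
      · rfl
      · exact absurd h.symm hxa
      · exact absurd h hxa
      · rfl
    let ι : Fin 2 ↪ Ω := ⟨![a, x a], hinj⟩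
    apply peel ι blk2 S x y hI ?_ ?_ ?_ IH (fun x' y' h1 h2 => not_bad_of_not_has4 ι h4 h1 h2)
    · intro i
      fin_cases i
      · rfl
      · exact hxx a
    · intro i
      fin_cases i
      · exact hya
      · show y (x a) = a
        rw [← hya, hyy]
    · intro i
      fin_cases i
      · exact hmx hxa
      · apply hmx
        show x (x a) ≠ x a
        rw [hxx]
        exact fun h => hxa h.symm
  -- Step 4
  by_cases hs4 : ∃ s, x s = s ∧ y s ≠ s
  · obtain ⟨s, hxs, hys⟩ := hs4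
    -- a point moved by x and fixed by y
    have hu : ∃ u, y u = u ∧ x u ≠ u := by
      by_contra hno
      push Not at hno
      have hsub : x.support ⊆ y.support := by
        intro v hv
        rw [Perm.mem_support] at hv ⊢
        intro h
        exact hv (hno v h)
      have heq := Finset.eq_of_subset_of_card_le hsub (le_of_eq hI.card.symm)
      have : s ∈ x.support := by
        rw [heq, Perm.mem_support]
        exact hys
      rw [Perm.mem_support] at this
      exact this hxs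
    obtain ⟨u, hyu, hxu⟩ := hu
    have hQ := explore y x hI.hy hI.hx s hxs hys hs'
    have hP := explore x y hI.hx hI.hy u hyu hxu hs
    rcases hQ with ⟨ιQ, q0, q1, q2⟩ | ⟨ιQ, q0, q1, q2, q3⟩ | ⟨ιQ, q0, q1, q2, q3, q4⟩ |
      ⟨ιQ, q0, q1, q2, q3, q4, q5⟩
    · have qx0 : x (ιQ 0) = ιQ 0 := by rw [q0]; exact hxs
      rcases hP with ⟨ιP, p0, p1, p2⟩ | ⟨ιP, p0, p1, p2, p3⟩ | ⟨ιP, p0, p1, p2, p3, p4⟩ |
        ⟨ιP, p0, p1, p2, p3, p4, p5⟩
      · have py0 : y (ιP 0) = ιP 0 := by rw [p0]; exact hyu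
        exact pair22 S x y hI h4 IH ιP ιQ py0 p1 p2 qx0 q1 q2
      · have py0 : y (ιP 0) = ιP 0 := by rw [p0]; exact hyu
        exact p3_step S x y hI h4 IH ιP py0 p1 p2 p3
      · have py0 : y (ιP 0) = ιP 0 := by rw [p0]; exact hyu
        exact pair42 S x y hI h4 IH ιP ιQ py0 p1 p2 p3 p4 qx0 q1 q2
      · have py0 : y (ιP 0) = ιP 0 := by rw [p0]; exact hyu
        exact p5_step S x y hI h4 IH ιP py0 p1 p2 p3 p4 p5
    · have qx0 : x (ιQ 0) = ιQ 0 := by rw [q0]; exact hxs
      exact q3_step S x y hI h4 IH ιQ qx0 q1 q2 q3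
    · have qx0 : x (ιQ 0) = ιQ 0 := by rw [q0]; exact hxs
      rcases hP with ⟨ιP, p0, p1, p2⟩ | ⟨ιP, p0, p1, p2, p3⟩ | ⟨ιP, p0, p1, p2, p3, p4⟩ |
        ⟨ιP, p0, p1, p2, p3, p4, p5⟩
      · have py0 : y (ιP 0) = ιP 0 := by rw [p0]; exact hyu
        exact pair24 S x y hI h4 IH ιP ιQ py0 p1 p2 qx0 q1 q2 q3 q4
      · have py0 : y (ιP 0) = ιP 0 := by rw [p0]; exact hyu
        exact p3_step S x y hI h4 IH ιP py0 p1 p2 p3
      · have py0 : y (ιP 0) = ιP 0 := by rw [p0]; exact hyu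
        exact pair44 S x y hI h4 IH ιP ιQ py0 p1 p2 p3 p4 qx0 q1 q2 q3 q4
      · have py0 : y (ιP 0) = ιP 0 := by rw [p0]; exact hyu
        exact p5_step S x y hI h4 IH ιP py0 p1 p2 p3 p4 p5
    · have qx0 : x (ιQ 0) = ιQ 0 := by rw [q0]; exact hxs
      exact q5_step S x y hI h4 IH ιQ qx0 q1 q2 q3 q4 q5
  -- Step 5: all points of S are moved by both
  by_cases hSe : S = ∅
  · have hx1 : x = 1 := by
      rw [← Perm.support_eq_empty_iff, ← Finset.subset_empty, ← hSe]
      exact hI.sx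
    have hy1 : y = 1 := by
      rw [← Perm.support_eq_empty_iff, ← Finset.subset_empty, ← hSe]
      exact hI.sy
    refine ⟨1, by simp, by simp, by rw [hx1], ?_, ?_⟩
    · rw [hx1, mul_one, orderOf_one]
      exact odd_one
    · rw [hy1, mul_one, orderOf_one]
      exact odd_one
  · exfalso
    obtain ⟨v, hvS⟩ := Finset.nonempty_iff_ne_empty.mpr hSe
    have hsub : y.support ⊆ x.support := by
      intro a ha
      rw [Perm.mem_support] at ha ⊢
      intro h
      exact hs4 ⟨a, h, ha⟩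
    have heq : y.support = x.support :=
      Finset.eq_of_subset_of_card_le hsub (le_of_eq hI.card)
    have hxv : x v ≠ v := by
      intro h
      by_cases hyv : y v = v
      · exact hfix ⟨v, hvS, h, hyv⟩
      · exact hs4 ⟨v, h, hyv⟩
    have hvT : v ∈ x.support := Perm.mem_support.mpr hxv
    have hwT : ∀ k, walk (x : Ω → Ω) (y : Ω → Ω) v k ∈ x.support := by
      intro k
      induction k with
      | zero => exact hvT
      | succ k ih =>
        by_cases hk : k % 2 = 0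
        · rw [walk_succ_even _ _ _ _ hk]
          exact Perm.apply_mem_support.mpr ih
        · rw [walk_succ_odd _ _ _ _ (by omega), ← heq]
          rw [← heq] at ih
          exact Perm.apply_mem_support.mpr ih
    have hall : ∀ k, walk (x : Ω → Ω) (y : Ω → Ω) v (k + 1) ≠ walk (x : Ω → Ω) (y : Ω → Ω) v k := by
      intro k
      have hk := hwT k
      by_cases hk2 : k % 2 = 0
      · rw [walk_succ_even _ _ _ _ hk2]
        exact Perm.mem_support.mp hk
      · rw [walk_succ_odd _ _ _ _ (by omega)]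
        rw [← heq] at hk
        exact Perm.mem_support.mp hk
    have hd : y (x v) ≠ v := by
      intro h
      apply hdbl
      refine ⟨v, hxv, ?_⟩
      have := congrArg y h
      rw [hyy] at this
      exact this.symm
    exact hs (explore_cycle x y hI.hx hI.hy v hall hd h4)

end Cfsg.Agent.Lib.Helper15.SymOdd
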