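import Mathlib
import Cfsg.Agent.Lib.Helper15.SymOddI
import Cfsg.Agent.Lib.Helper15.OddGraphA

/-!
helper15: the odd-product graph on a class of involutions of the symmetric group of degree at least
five: common neighbours, a non-adjacent pair, and the graph statement.
-/

set_option autoImplicit false

namespace Cfsg.Agent.Lib.Helper15.SymOdd

open Equiv

/-- odd-product graph on a conjugacy class of involutions: reduction to the class. -/
theorem oddGraph_class_connected_and_diam {G : Type*} [Group G] (t : G) (ht : orderOf t = 2)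
    (hnb : ∀ x y : G, IsConj t x → IsConj t y → ¬ Odd (orderOf (x * y)) →
      ∃ z : G, IsConj t z ∧ Odd (orderOf (x * z)) ∧ Odd (orderOf (z * y)))
    (hna : ∃ x y : G, IsConj t x ∧ IsConj t y ∧ ¬ Odd (orderOf (x * y))) :
    (SimpleGraph.fromRel fun x y : {x : G // IsConj t x} => Odd (orderOf (x.1 * y.1))).Connected ∧
      (SimpleGraph.fromRel fun x y : {x : G // IsConj t x} => Odd (orderOf (x.1 * y.1))).diam = 2 := by
  have : Nonempty {x : G // IsConj t x} := ⟨⟨t, IsConj.refl t⟩⟩
  apply OddGraph.connected_and_diam_eq_two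
  · intro u v huv hadj
    rw [SimpleGraph.fromRel_adj] at hadj
    have hno : ¬ Odd (orderOf (u.1 * v.1)) := by
      intro h
      exact hadj ⟨huv, Or.inl h⟩
    obtain ⟨z, hz, hz1, hz2⟩ := hnb u.1 v.1 u.2 v.2 hno
    refine ⟨⟨z, hz⟩, ?_, ?_⟩
    · rw [SimpleGraph.fromRel_adj]
      refine ⟨?_, Or.inl hz1⟩
      intro h
      apply hno
      have : u.1 = z := congrArg Subtype.val h
      rw [this]
      exact hz2
    · rw [SimpleGraph.fromRel_adj]
      refine ⟨?_, Or.inl hz2⟩
      intro h
      apply hno
      have : z = v.1 := congrArg Subtype.val h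
      rw [← this]
      exact hz1
  · obtain ⟨x, y, hx, hy, hxy⟩ := hna
    refine ⟨⟨x, hx⟩, ⟨y, hy⟩, ?_, ?_⟩
    · intro h
      apply hxy
      have : x = y := congrArg Subtype.val h
      rw [this]
      have hy2 : orderOf y = 2 := by rw [← OddGraph.orderOf_eq_of_isConj hy, ht]
      have h1 : y * y = 1 := by
        have := pow_orderOf_eq_one y
        rwa [hy2, pow_two] at this
      rw [h1, orderOf_one]
      exact odd_one
    · rw [SimpleGraph.fromRel_adj]
      rintro ⟨_, h | h⟩
      · exact hxy h
      · apply hxy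
        rw [OddGraph.orderOf_mul_swap]
        exact h

variable {n : ℕ}

theorem mul_self_of_orderOf_two {G : Type*} [Group G] {x : G} (h : orderOf x = 2) : x * x = 1 := by
  have := pow_orderOf_eq_one x
  rwa [h, pow_two] at this

theorem card_support_of_isConj {σ τ : Perm (Fin n)} (h : IsConj σ τ) :
    τ.support.card = σ.support.card := by
  obtain ⟨c, hc⟩ := isConj_iff.mp h
  rw [← hc, Perm.card_support_conj]

/-- involutions with supports of the same size are conjugate -/
theorem isConj_of_involutions (t z : Perm (Fin n)) (ht : orderOf t = 2) (hz : z * z = 1)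
    (hc : z.support.card = t.support.card) : IsConj t z := by
  have ht1 : t ≠ 1 := by
    rintro rfl
    rw [orderOf_one] at ht
    omega
  have hz1 : z ≠ 1 := by
    rintro rfl
    rw [Perm.support_one, Finset.card_empty] at hc
    exact ht1 (Perm.card_support_eq_zero.mp hc.symm)
  have hz2 : orderOf z = 2 := orderOf_eq_prime (by rw [pow_two]; exact hz) hz1
  rw [Perm.isConj_iff_cycleType_eq]
  obtain ⟨a, ha⟩ := Perm.cycleType_prime_order (σ := t) (by rw [ht]; exact Nat.prime_two)
  obtain ⟨b, hb⟩ := Perm.cycleType_prime_order (σ := z) (by rw [hz2]; exact Nat.prime_two)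
  have h1 := Perm.sum_cycleType t
  have h2 := Perm.sum_cycleType z
  rw [ha, Multiset.sum_replicate, ht] at h1
  rw [hb, Multiset.sum_replicate, hz2] at h2
  rw [ha, hb, ht, hz2]
  have : a = b := by
    simp only [smul_eq_mul] at h1 h2
    omega
  rw [this]

/-- **Common neighbours in the symmetric group.** -/
theorem sym_common_neighbour (hn : 5 ≤ n) (t x y : Perm (Fin n)) (ht : orderOf t = 2)
    (hx : IsConj t x) (hy : IsConj t y) :
    ∃ z, IsConj t z ∧ Odd (orderOf (x * z)) ∧ Odd (orderOf (z * y)) := by
  have hx2 : orderOf x = 2 := by rw [← OddGraph.orderOf_eq_of_isConj hx, ht]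
  have hy2 : orderOf y = 2 := by rw [← OddGraph.orderOf_eq_of_isConj hy, ht]
  have hI : Inst (Finset.univ : Finset (Fin n)) x y :=
    ⟨mul_self_of_orderOf_two hx2, mul_self_of_orderOf_two hy2, Finset.subset_univ _,
      Finset.subset_univ _, by rw [card_support_of_isConj hx, card_support_of_isConj hy]⟩
  have hnb : ¬ Bad (Finset.univ : Finset (Fin n)) x y := by
    intro h
    have := h.1
    rw [Finset.card_univ, Fintype.card_fin] at this
    omega
  obtain ⟨z, hz2, _, hzc, h1, h2⟩ := main_aux _ _ rfl x y hI hnb
  refine ⟨z, ?_, h1, h2⟩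
  apply isConj_of_involutions t z ht hz2
  rw [hzc, card_support_of_isConj hx]

/-- **A non-adjacent pair in the symmetric group.** -/
theorem sym_nonadjacent (hn : 5 ≤ n) (t : Perm (Fin n)) (ht : orderOf t = 2) :
    ∃ x y, IsConj t x ∧ IsConj t y ∧ ¬ Odd (orderOf (x * y)) := by
  have ht2 : t * t = 1 := mul_self_of_orderOf_two ht
  have htt := inv_apply_apply ht2
  have ht1 : t ≠ 1 := by
    rintro rfl
    rw [orderOf_one] at ht
    omega
  -- it suffices to find a distinct commuting conjugate
  have key : ∀ y, IsConj t y → y ≠ t → t * y = y * t → ¬ Odd (orderOf (t * y)) := by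
    intro y hy hne hc
    have hy2 : y * y = 1 := by
      apply mul_self_of_orderOf_two
      rw [← OddGraph.orderOf_eq_of_isConj hy, ht]
    have h2 : (t * y) ^ 2 = 1 := by
      rw [pow_two]
      calc t * y * (t * y) = t * (y * t) * y := by group
        _ = t * (t * y) * y := by rw [hc]
        _ = (t * t) * (y * y) := by group
        _ = 1 := by rw [ht2, hy2, mul_one]
    have h1 : t * y ≠ 1 := by
      intro h
      apply hne
      have : y = t⁻¹ := (eq_inv_of_mul_eq_one_right h)
      rw [this]
      exact inv_eq_of_mul_eq_one_right ht2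
    rw [orderOf_eq_prime h2 h1]
    decide
  obtain ⟨a, ha⟩ : ∃ a, t a ≠ a := by
    by_contra h
    push Not at h
    exact ht1 (Perm.ext h)
  obtain ⟨b, hab⟩ : ∃ b, t a = b := ⟨_, rfl⟩
  have hba : t b = a := by rw [← hab, htt]
  have hab' : b ≠ a := by rw [← hab]; exact ha
  by_cases hcase : ∃ c, c ≠ a ∧ c ≠ b ∧ t c ≠ c
  · obtain ⟨c, hca, hcb, hc⟩ := hcase
    obtain ⟨d, hcd⟩ : ∃ d, t c = d := ⟨_, rfl⟩
    have hdc : t d = c := by rw [← hcd, htt]
    have hdc' : d ≠ c := by rw [← hcd]; exact hc
    have hda : d ≠ a := by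
      intro h
      apply hcb
      rw [← hdc, h, hab]
    have hdb : d ≠ b := by
      intro h
      apply hca
      rw [← hdc, h, hba]
    set s := swap b c with hs
    have hsb : s b = c := swap_apply_left b c
    have hsc : s c = b := swap_apply_right b c
    have hsa : s a = a := swap_apply_of_ne_of_ne hab'.symm hca.symm
    have hsd : s d = d := swap_apply_of_ne_of_ne hdb hdc'
    have hso : ∀ v, v ≠ b → v ≠ c → s v = v := fun v h1 h2 => swap_apply_of_ne_of_ne h1 h2
    have hss : s⁻¹ = s := swap_inv b c
    have comm : ∀ v, t (s (t (s v))) = s (t (s (t v))) := by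
      intro v
      by_cases hva : v = a
      · rw [hva, hsa, hab, hsb, hcd, hsd]
      by_cases hvb : v = b
      · rw [hvb, hsb, hcd, hsd, hdc, hba, hsa, hab, hsb]
      by_cases hvc : v = c
      · rw [hvc, hsc, hba, hsa, hab, hcd, hsd, hdc, hsc]
      by_cases hvd : v = d
      · rw [hvd, hsd, hdc, hsc, hba, hsa]
      · have h1 : t v ≠ b := by
          intro h
          apply hva
          rw [← hba, ← h, htt]
        have h2 : t v ≠ c := by
          intro h
          apply hvd
          rw [← hcd, ← h, htt]
        rw [hso v hvb hvc, hso (t v) h1 h2, htt, hso v hvb hvc]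
    refine ⟨t, s * t * s⁻¹, IsConj.refl t, isConj_iff.mpr ⟨s, rfl⟩, ?_⟩
    apply key _ (isConj_iff.mpr ⟨s, rfl⟩)
    · intro h
      have := congrArg (fun σ : Perm (Fin n) => σ a) h
      simp only [Perm.mul_apply, hss, hsa, hab, hsb] at this
      exact hcb this
    · apply Perm.ext
      intro v
      simp only [Perm.mul_apply, hss]
      rw [comm v]
  · push Not at hcase
    have htsw : t = swap a b := by
      apply Perm.ext
      intro v
      by_cases hva : v = a
      · rw [hva, hab, swap_apply_left]
      by_cases hvb : v = b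
      · rw [hvb, hba, swap_apply_right]
      · rw [swap_apply_of_ne_of_ne hva hvb]
        exact hcase v hva hvb
    have hcard : 1 < (Finset.univ \ ({a, b} : Finset (Fin n))).card := by
      have h1 : ({a, b} : Finset (Fin n)).card ≤ 2 := Finset.card_le_two
      have h2 := Finset.le_card_sdiff ({a, b} : Finset (Fin n)) Finset.univ
      rw [Finset.card_univ, Fintype.card_fin] at h2
      omega
    obtain ⟨c, hc, d, hd, hcd⟩ := Finset.one_lt_card.mp hcard
    simp only [Finset.mem_sdiff, Finset.mem_univ, Finset.mem_insert, Finset.mem_singleton,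
      true_and, not_or] at hc hd
    refine ⟨t, swap c d, IsConj.refl t, ?_, ?_⟩
    · rw [htsw]
      exact Perm.isConj_swap hab'.symm hcd
    · have hconj : IsConj t (swap c d) := by
        rw [htsw]
        exact Perm.isConj_swap hab'.symm hcd
      apply key _ hconj
      · intro h
        have := congrArg (fun σ : Perm (Fin n) => σ c) h
        simp only [swap_apply_left] at this
        rw [hcase c hc.1 hc.2] at this
        exact hcd this.symm
      · rw [htsw]
        have hdisj : Perm.Disjoint (swap a b) (swap c d) := by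
          apply Perm.disjoint_swap_swap
          simp only [List.nodup_cons, List.mem_cons, List.not_mem_nil, or_false, not_or,
            List.nodup_nil, and_true, not_false_eq_true]
          exact ⟨⟨hab'.symm, Ne.symm hc.1, Ne.symm hd.1⟩, ⟨Ne.symm hc.2, Ne.symm hd.2⟩, hcd⟩
        exact hdisj.commute.eq

end Cfsg.Agent.Lib.Helper15.SymOdd
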