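import Mathlib
import Cfsg.Prelude.Def_GeometricClasses
import Cfsg.Agent.Lib.Helper25.TensDefs
import Cfsg.Agent.Lib.Helper25.TensStmt

/-!
S5637 leaf TIIb (`stageIIb`): from an element of `M \ KG` of `U₁`-form, extract a single non-scalar
block `θ` with `1 + θ ⊗ E_{oj} ∈ M`.
-/

set_option autoImplicit false
set_option linter.unusedSectionVars false
set_option linter.unusedVariables false

namespace Cfsg.Agent.Lib.Helper15.TensLeaf
open Matrix Cfsg.Agent.Lib.Helper25.Tens Cfsg.Agent.Lib.Helper25.TensLeaves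
open scoped Kronecker

variable {F : Type*} [Field F] {a b : ℕ}

lemma tiib_exists_ne2 {n : ℕ} (hn : 3 ≤ n) (x y : Fin n) : ∃ z : Fin n, z ≠ x ∧ z ≠ y := by
  classical
  by_contra hcon
  push Not at hcon
  have hsub : (Finset.univ : Finset (Fin n)) ⊆ {x, y} := by
    intro z _
    by_cases hz : z = x
    · simp [hz]
    · simp [hcon z hz]
  have h1 := Finset.card_le_card hsub
  have h2 : ({x, y} : Finset (Fin n)).card ≤ 2 := Finset.card_le_two
  rw [Finset.card_univ, Fintype.card_fin] at h1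
  omega

lemma tiib_kronecker_sub (A : Matrix (Fin a) (Fin a) F) (B₁ B₂ : Matrix (Fin b) (Fin b) F) :
    A ⊗ₖ (B₁ - B₂) = A ⊗ₖ B₁ - A ⊗ₖ B₂ := by
  ext ⟨i, k⟩ ⟨i', l⟩
  simp [Matrix.kroneckerMap_apply, mul_sub]

lemma blk_U1 {o : Fin b} {U : Matrix (Idx a b) (Idx a b) F} (hU : U1form o U) (l l' : Fin b)
    (h : l ≠ o ∨ l' = o) : blk U l l' = if l = l' then 1 else 0 := by
  rw [← blk_one]
  ext i i'
  exact hU i i' l l' h

/-- the row-block `j ≠ o` of a matrix of `U₁`-form is that of the identity -/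
lemma kron_single_mul_U {o : Fin b} {U : Matrix (Idx a b) (Idx a b) F} (hU : U1form o U)
    (X : Matrix (Fin a) (Fin a) F) (r j : Fin b) (hj : j ≠ o) :
    (X ⊗ₖ (Matrix.single r j (1 : F) : Matrix (Fin b) (Fin b) F)) * U =
      X ⊗ₖ (Matrix.single r j (1 : F) : Matrix (Fin b) (Fin b) F) := by
  apply ext_blk
  intro p q
  rw [blk_mul]
  simp only [blk_kron]
  rw [Finset.sum_eq_single j]
  · rw [blk_U1 hU j q (Or.inl hj)]
    by_cases hjq : j = q
    · subst hjq
      simp
    · simp [hjq, Matrix.single_apply]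
  · intro m _ hm
    simp [Matrix.single_apply, Ne.symm hm]
  · simp

/-- the column-block `k₀ ≠ o` of a matrix of `U₁`-form -/
lemma U_mul_kron_single {o : Fin b} {U : Matrix (Idx a b) (Idx a b) F} (hU : U1form o U)
    (k₀ j : Fin b) (hk : k₀ ≠ o) :
    U * ((1 : Matrix (Fin a) (Fin a) F) ⊗ₖ (Matrix.single k₀ j (1 : F) : Matrix (Fin b) (Fin b) F)) =
      (blk U o k₀) ⊗ₖ (Matrix.single o j (1 : F) : Matrix (Fin b) (Fin b) F) +
        (1 : Matrix (Fin a) (Fin a) F) ⊗ₖ (Matrix.single k₀ j (1 : F) : Matrix (Fin b) (Fin b) F) := by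
  apply ext_blk
  intro p q
  rw [blk_mul, blk_add]
  simp only [blk_kron]
  rw [Finset.sum_eq_single k₀]
  · by_cases hp : p = o
    · subst hp
      by_cases hjq : j = q
      · subst hjq
        simp [Matrix.single_apply, hk]
      · simp [Matrix.single_apply, hjq]
    · rw [blk_U1 hU p k₀ (Or.inl hp)]
      by_cases hpk : p = k₀
      · subst hpk
        by_cases hjq : j = q
        · subst hjq
          simp [Matrix.single_apply, hp, Ne.symm hp]
        · simp [Matrix.single_apply, hjq]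
      · simp [Matrix.single_apply, hpk, Ne.symm hpk, hp, Ne.symm hp]
  · intro m _ hm
    simp [Matrix.single_apply, Ne.symm hm]
  · simp

lemma kron_single_sq (k₀ j : Fin b) (hkj : k₀ ≠ j) :
    ((1 : Matrix (Fin a) (Fin a) F) ⊗ₖ (Matrix.single k₀ j (1 : F) : Matrix (Fin b) (Fin b) F)) *
      ((1 : Matrix (Fin a) (Fin a) F) ⊗ₖ (Matrix.single k₀ j (1 : F) : Matrix (Fin b) (Fin b) F)) = 0 := by
  rw [← Matrix.mul_kronecker_mul, Matrix.single_mul_single_of_ne _ _ _ _ (Ne.symm hkj)]
  simp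

/-- (TIIb) extraction of a single non-scalar block. -/
theorem stageIIb (hb : 3 ≤ b) (o : Fin b) (M : Subgroup (GL (Idx a b) F))
    (hKM : KG a b F ⊓ SLG a b F ≤ M) (h : R3 o M) :
    ∃ j : Fin b, j ≠ o ∧ ∃ θ ∈ Bset o j M, ¬ IsScalarMat θ := by
  classical
  obtain ⟨u, huM, huK, hU⟩ := h
  set U : Matrix (Idx a b) (Idx a b) F := ((u : GL (Idx a b) F) : Matrix (Idx a b) (Idx a b) F) with hUdef
  by_cases hall : ∀ q : Fin b, q ≠ o → IsScalarMat (blk U o q)
  · -- all blocks scalar: `u` is a Kronecker element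
    exfalso
    apply huK
    choose t ht using hall
    let t' : Fin b → F := fun q => if hq : q = o then 0 else t q hq
    have ht' : t' ⬝ᵥ (Pi.single o (1 : F) : Fin b → F) = 0 := by
      rw [dotProduct_single, mul_one]
      simp [t']
    rw [mem_KG_iff]
    refine ⟨1, tv (Pi.single o 1) t' ht', ?_⟩
    rw [tv_val, Units.val_one]
    apply ext_blk
    intro p q
    rw [blk_kron]
    by_cases hp : p = o
    · by_cases hq : q = o
      · rw [← hUdef, blk_U1 hU p q (Or.inr hq), hp, hq]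
        simp [Matrix.vecMulVec_apply, t']
      · rw [hp, ← hUdef, ht q hq]
        simp [Matrix.vecMulVec_apply, t', hq, Ne.symm hq]
    · rw [← hUdef, blk_U1 hU p q (Or.inl hp)]
      by_cases hpq : p = q
      · rw [if_pos hpq, ← hpq]
        simp [Matrix.vecMulVec_apply, hp]
      · simp [hpq, Matrix.vecMulVec_apply, hp]
  · push Not at hall
    obtain ⟨k₀, hk₀, hns⟩ := hall
    obtain ⟨j, hjo, hjk⟩ := tiib_exists_ne2 hb o k₀
    refine ⟨j, hjo, blk U o k₀, ?_, hns⟩
    -- the conjugating Kronecker element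
    have hη : (Pi.single j (1 : F) : Fin b → F) ⬝ᵥ (Pi.single k₀ (1 : F) : Fin b → F) = 0 := by
      rw [dotProduct_single, mul_one, Pi.single_apply, if_neg (Ne.symm hjk)]
    set k : GL (Idx a b) F := kel (1 : GL (Fin a) F) (tv (Pi.single k₀ 1) (Pi.single j 1) hη) with hk
    have hkM : k ∈ M := hKM (kel_one_tv_mem _ _ hη)
    set E : Matrix (Idx a b) (Idx a b) F :=
      (1 : Matrix (Fin a) (Fin a) F) ⊗ₖ (Matrix.single k₀ j (1 : F) : Matrix (Fin b) (Fin b) F) with hE
    set D : Matrix (Idx a b) (Idx a b) F :=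
      (blk U o k₀) ⊗ₖ (Matrix.single o j (1 : F) : Matrix (Fin b) (Fin b) F) with hD
    have hkval : ((k : GL (Idx a b) F) : Matrix (Idx a b) (Idx a b) F) = 1 + E := by
      rw [hk, kel_val, tv_val, Units.val_one, Matrix.kronecker_add, Matrix.one_kronecker_one,
        ← Matrix.single_eq_single_vecMulVec_single]
    have hkinv : ((k⁻¹ : GL (Idx a b) F) : Matrix (Idx a b) (Idx a b) F) = 1 - E := by
      have : ((k⁻¹ : GL (Idx a b) F) : Matrix (Idx a b) (Idx a b) F) =
          (((1 : GL (Fin a) F)⁻¹ : GL (Fin a) F) : Matrix (Fin a) (Fin a) F) ⊗ₖ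
            (((tv (Pi.single k₀ 1) (Pi.single j 1) hη)⁻¹ : GL (Fin b) F) :
              Matrix (Fin b) (Fin b) F) := rfl
      rw [this, tv_inv_val, inv_one, Units.val_one, tiib_kronecker_sub, Matrix.one_kronecker_one,
        ← Matrix.single_eq_single_vecMulVec_single]
    have hEU : E * U = E := kron_single_mul_U hU 1 k₀ j hjo
    have hDU : D * U = D := kron_single_mul_U hU (blk U o k₀) o j hjo
    have hUE : U * E = D + E := U_mul_kron_single hU k₀ j hk₀
    have hEE : E * E = 0 := kron_single_sq k₀ j (Ne.symm hjk)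
    have hconj : (1 - E) * U * (1 + E) = (1 + D) * U := by
      have e1 : (1 - E) * U = U - E := by rw [sub_mul, one_mul, hEU]
      rw [e1, sub_mul, mul_add, mul_one, mul_add, mul_one, hUE, hEE, add_mul, one_mul, hDU]
      abel
    refine ⟨k⁻¹ * u * k * u⁻¹, M.mul_mem (M.mul_mem (M.mul_mem (M.inv_mem hkM) huM) hkM)
      (M.inv_mem huM), ?_⟩
    rw [Units.val_mul, Units.val_mul, Units.val_mul, hkinv, hkval, ← hUdef, hconj, mul_assoc]
    have : U * ((u⁻¹ : GL (Idx a b) F) : Matrix (Idx a b) (Idx a b) F) = 1 := by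
      rw [hUdef, ← Units.val_mul, mul_inv_cancel, Units.val_one]
    rw [this, mul_one]

end Cfsg.Agent.Lib.Helper15.TensLeaf
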