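import Mathlib

/-! S3613 market "TW" (planner helper25): leaf TWARITH — helper15. -/

set_option autoImplicit false
set_option linter.dupNamespace false

namespace Cfsg.Agent.Lib.Helper15.TWARITH

/-- **TWARITH**.  `2 (p-2) d ≡ 1 (mod p)` means `p ∣ 4 d + 1`; with `d ∣ p - 3`:
`4d + 1 = p` (then `d ∣ 2`) or `4d + 1 = 3p` (then `d ∣ 8`), both impossible for `p ≥ 13`. -/
theorem TWARITH (p d : ℕ) (hp13 : 13 ≤ p) (hd : d ∣ p - 3) (h : (2 * ((p - 2) * d)) % p = 1) :
    False := by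
  have hN := Nat.div_add_mod (2 * ((p - 2) * d)) p
  rw [h] at hN
  generalize 2 * ((p - 2) * d) / p = k at hN
  have h2 : 2 * ((p - 2) * d) + 4 * d = 2 * p * d := by
    have hp2 : p - 2 + 2 = p := by omega
    calc 2 * ((p - 2) * d) + 4 * d = 2 * ((p - 2 + 2) * d) := by ring
      _ = 2 * p * d := by rw [hp2]; ring
  have hdvd : p ∣ 4 * d + 1 := by
    have h3 : p * k + (4 * d + 1) = p * (2 * d) := by linarith
    exact (Nat.dvd_add_right (dvd_mul_right p k)).1 (h3 ▸ dvd_mul_right p (2 * d))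
  have hdle : d ≤ p - 3 := Nat.le_of_dvd (by omega) hd
  obtain ⟨m, hm⟩ := hdvd
  have hm4 : m < 4 := by
    by_contra hcon
    have h4 : 4 ≤ m := by omega
    have : p * 4 ≤ p * m := Nat.mul_le_mul_left p h4
    omega
  have h4d : d ∣ 4 * d := dvd_mul_left d 4
  interval_cases m
  · omega
  · -- `4 d + 1 = p`
    have h5 : d ∣ 4 * d - (p - 3) := Nat.dvd_sub h4d hd
    have h6 : 4 * d - (p - 3) = 2 := by omega
    rw [h6] at h5
    have := Nat.le_of_dvd (by norm_num) h5
    omega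
  · omega
  · -- `4 d + 1 = 3 p`
    have hd3 : d ∣ 3 * (p - 3) := Dvd.dvd.mul_left hd 3
    have h5 : d ∣ 4 * d - 3 * (p - 3) := Nat.dvd_sub h4d hd3
    have h6 : 4 * d - 3 * (p - 3) = 8 := by omega
    rw [h6] at h5
    have := Nat.le_of_dvd (by norm_num) h5
    omega

end Cfsg.Agent.Lib.Helper15.TWARITH
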