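import Mathlib

/-! S3613 market "TW" (planner helper25): leaf TWFRAT — helper15. -/

set_option autoImplicit false
set_option linter.dupNamespace false

namespace Cfsg.Agent.Lib.Helper15.TWFRAT

/-- **TWFRAT**.  A subgroup `K₀` of index 2, `q` odd: every Sylow `q`-normalizer of `K` has even
order. -/
theorem TWFRAT {K : Type*} [Group K] [Finite K] (K₀ : Subgroup K) (hidx : K₀.index = 2) {q : ℕ}
    [Fact q.Prime] (hq2 : q ≠ 2) (P : Sylow q K) :
    Even (Nat.card ↥(Subgroup.normalizer ((P : Subgroup K) : Set K))) := by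
  have hq : q.Prime := Fact.out
  have hnorm : K₀.Normal := Subgroup.normal_of_index_eq_two hidx
  -- `P ≤ K₀`
  have hPK : (P : Subgroup K) ≤ K₀ := by
    intro x hx
    obtain ⟨k, hk⟩ := (IsPGroup.iff_orderOf.1 P.2) ⟨x, hx⟩
    rw [Subgroup.orderOf_mk] at hk
    have hodd : Odd (orderOf x) := by
      rw [hk]
      exact (hq.odd_of_ne_two hq2).pow
    obtain ⟨j, hj⟩ := hodd
    have hsq : x ^ 2 ∈ K₀ := by
      rw [pow_two]
      exact Subgroup.mul_self_mem_of_index_two hidx x
    have hx' : x = (x ^ 2) ^ (j + 1) := by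
      rw [← pow_mul, show 2 * (j + 1) = orderOf x + 1 by omega, pow_succ, pow_orderOf_eq_one,
        one_mul]
    rw [hx']
    exact K₀.pow_mem hsq _
  -- Frattini
  have hfrat := Sylow.normalizer_sup_eq_top (P.subtype hPK)
  have hmap : ((P.subtype hPK : Sylow q ↥K₀) : Subgroup ↥K₀).map K₀.subtype = (P : Subgroup K) := by
    rw [Sylow.coe_subtype, Subgroup.map_subgroupOf_eq_of_le hPK]
  rw [hmap] at hfrat
  -- the index of `K₀ ⊓ N` in `N` is 2
  have h2 : K₀.relIndex (Subgroup.normalizer ((P : Subgroup K) : Set K)) = 2 := by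
    rw [← Subgroup.relIndex_sup_right, hfrat, Subgroup.relIndex_top_right, hidx]
  have hdvd : 2 ∣ Nat.card ↥(Subgroup.normalizer ((P : Subgroup K) : Set K)) := by
    rw [← h2]
    exact Subgroup.index_dvd_card _
  exact even_iff_two_dvd.2 hdvd

end Cfsg.Agent.Lib.Helper15.TWFRAT
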