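import Mathlib
import Cfsg.Agent.Lib.Helper1.PRDefs

/-! S3613 market "TW" (planner helper25): leaf TWNOSWAP — helper15. -/

set_option autoImplicit false
set_option linter.dupNamespace false

namespace Cfsg.Agent.Lib.Helper15.TWNOSWAP

open MulAction Cfsg.Agent.Lib.Helper1.PR

/-- **TWNOSWAP**.  No element of `G` induces a transposition. -/
theorem TWNOSWAP {G Ω : Type*} [Group G] [Finite G] [MulAction G Ω] [FaithfulSMul G Ω] [Finite Ω]
    (p : ℕ) [Fact p.Prime] (hp3 : 3 ≤ p) (hΩ : Nat.card Ω = p) (h2 : TwoTrans G Ω) (P : Sylow p G)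
    (hN : 2 * Nat.card ↥(Subgroup.normalizer ((P : Subgroup G) : Set G)) = p * (p - 1))
    (a b : Ω) (hab : a ≠ b) (τ : G) (hτa : τ • a = b) (hτb : τ • b = a)
    (hτ : ∀ x : Ω, x ≠ a → x ≠ b → τ • x = x) : False := by
  classical
  have : Fintype Ω := Fintype.ofFinite Ω
  -- `τ` acts as the transposition `(a b)`
  have hφτ : MulAction.toPermHom G Ω τ = Equiv.swap a b := by
    ext x
    rw [MulAction.toPermHom_apply, MulAction.toPerm_apply]
    by_cases hxa : x = a
    · rw [hxa, hτa, Equiv.swap_apply_left]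
    · by_cases hxb : x = b
      · rw [hxb, hτb, Equiv.swap_apply_right]
      · rw [hτ x hxa hxb, Equiv.swap_apply_of_ne_of_ne hxa hxb]
  -- so `G` induces all transpositions, hence everything
  have hrange : (MulAction.toPermHom G Ω).range = ⊤ := by
    rw [eq_top_iff, ← Equiv.Perm.closure_isSwap, Subgroup.closure_le]
    rintro σ ⟨c, d, hcd, rfl⟩
    obtain ⟨g, hga, hgb⟩ := h2 a b c d hab hcd
    refine ⟨g * τ * g⁻¹, ?_⟩
    rw [map_mul, map_mul, map_inv, hφτ, ← hga, ← hgb]
    exact (Equiv.swap_apply_apply (MulAction.toPermHom G Ω g) a b).symm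
  have hinj : Function.Injective (MulAction.toPermHom G Ω) := MulAction.toPerm_injective
  have hcardG : Nat.card G = p.factorial := by
    have hbij : Function.Bijective (MulAction.toPermHom G Ω) :=
      ⟨hinj, MonoidHom.range_eq_top.1 hrange⟩
    rw [Nat.card_congr (Equiv.ofBijective _ hbij), Nat.card_eq_fintype_card, Fintype.card_perm,
      ← Nat.card_eq_fintype_card, hΩ]
  -- Sylow's congruence
  have hmod := card_sylow_modEq_one p G
  rw [Sylow.card_eq_index_normalizer P] at hmod
  have hidx := Subgroup.card_mul_index (Subgroup.normalizer ((P : Subgroup G) : Set G))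
  generalize (Subgroup.normalizer ((P : Subgroup G) : Set G)).index = n at hmod hidx
  have hfac : p * (p - 1).factorial = p.factorial := Nat.mul_factorial_pred (by omega)
  have hkey : (p - 1) * n = 2 * (p - 1).factorial := by
    have h1 : p * ((p - 1) * n) = p * (2 * (p - 1).factorial) := by
      calc p * ((p - 1) * n) = (p * (p - 1)) * n := by ring
        _ = (2 * Nat.card ↥(Subgroup.normalizer ((P : Subgroup G) : Set G))) * n := by rw [hN]
        _ = 2 * (Nat.card ↥(Subgroup.normalizer ((P : Subgroup G) : Set G)) * n) := by ring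
        _ = 2 * p.factorial := by rw [hidx, hcardG]
        _ = 2 * (p * (p - 1).factorial) := by rw [hfac]
        _ = p * (2 * (p - 1).factorial) := by ring
    exact Nat.eq_of_mul_eq_mul_left (by omega) h1
  have hz : ((p - 1 : ℕ) : ZMod p) = -1 := by
    rw [Nat.cast_sub (by omega), ZMod.natCast_self, Nat.cast_one, zero_sub]
  have hw : (((p - 1).factorial : ℕ) : ZMod p) = -1 := ZMod.wilsons_lemma p
  have hn1 : (n : ZMod p) = 1 := by
    have := (ZMod.natCast_eq_natCast_iff n 1 p).2 hmod
    simpa using this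
  have hc := congrArg (fun t : ℕ => (t : ZMod p)) hkey
  simp only [Nat.cast_mul, hz, hw, hn1, Nat.cast_ofNat] at hc
  have h10 : (1 : ZMod p) = 0 := by linear_combination hc
  exact one_ne_zero h10

end Cfsg.Agent.Lib.Helper15.TWNOSWAP
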