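import Mathlib

/-! S3613 market "TW" (planner helper25): leaf TWPAR — helper15. -/

set_option autoImplicit false
set_option linter.dupNamespace false

namespace Cfsg.Agent.Lib.Helper15.TWPAR

open MulAction

/-- **TWPAR**.  Parity: if the stabilizer in `K` of `c ≠ d` is transitive on the other points, their
number is odd and `K₀` has index `≤ 2`, the stabilizer in `K₀` is transitive there too. -/
theorem TWPAR {K X : Type*} [Group K] [MulAction K X] [Finite X] (K₀ : Subgroup K)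
    (hidx : K₀.index = 2) (c d : X) (hcd : c ≠ d) (hodd : Odd (Nat.card X))
    (htr : ∀ y y' : X, y ≠ c → y ≠ d → y' ≠ c → y' ≠ d →
      ∃ k : K, k • c = c ∧ k • d = d ∧ k • y = y') :
    ∀ y y' : X, y ≠ c → y ≠ d → y' ≠ c → y' ≠ d →
      ∃ k ∈ K₀, k • c = c ∧ k • d = d ∧ k • y = y' := by
  classical
  have : Fintype X := Fintype.ofFinite X
  have hnorm : K₀.Normal := Subgroup.normal_of_index_eq_two hidx
  intro y y' hyc hyd hy'c hy'd
  by_contra hcon
  obtain ⟨t, htc, htd, hty⟩ := htr y y' hyc hyd hy'c hy'd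
  have htK : t ∉ K₀ := fun h => hcon ⟨t, h, htc, htd, hty⟩
  have htc' : t⁻¹ • c = c := by rw [inv_smul_eq_iff, htc]
  have htd' : t⁻¹ • d = d := by rw [inv_smul_eq_iff, htd]
  have hmemS : ∀ z : X, z ∈ (Finset.univ.erase c).erase d ↔ z ≠ c ∧ z ≠ d := by
    intro z
    simp [and_comm]
  have hScard : ((Finset.univ.erase c).erase d).card + 2 = Fintype.card X := by
    rw [Finset.card_erase_of_mem (Finset.mem_erase.2 ⟨hcd.symm, Finset.mem_univ _⟩),
      Finset.card_erase_of_mem (Finset.mem_univ _), Finset.card_univ]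
    have : 1 < Fintype.card X := Fintype.one_lt_card_iff.2 ⟨c, d, hcd⟩
    omega
  generalize (Finset.univ.erase c).erase d = S at hmemS hScard
  have hsplit := Finset.card_filter_add_card_filter_not (s := S)
    (fun z => ∃ k ∈ K₀, k • c = c ∧ k • d = d ∧ k • y = z)
  have hbij : (S.filter (fun z => ∃ k ∈ K₀, k • c = c ∧ k • d = d ∧ k • y = z)).card =
      (S.filter (fun z => ¬ ∃ k ∈ K₀, k • c = c ∧ k • d = d ∧ k • y = z)).card := by
    apply Finset.card_bij (fun z _ => t • z)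
    · intro z hz
      rw [Finset.mem_filter] at hz ⊢
      obtain ⟨hzS, k₀, hk₀, hk₀c, hk₀d, hk₀y⟩ := hz
      obtain ⟨hzc, hzd⟩ := (hmemS z).1 hzS
      refine ⟨(hmemS _).2 ⟨fun h => hzc (smul_left_cancel t (h.trans htc.symm)),
        fun h => hzd (smul_left_cancel t (h.trans htd.symm))⟩, ?_⟩
      rintro ⟨k₁, hk₁, hk₁c, hk₁d, hk₁y⟩
      apply hcon
      have hk₀c' : k₀⁻¹ • c = c := by rw [inv_smul_eq_iff, hk₀c]
      have hk₀d' : k₀⁻¹ • d = d := by rw [inv_smul_eq_iff, hk₀d]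
      refine ⟨t * k₀⁻¹ * t⁻¹ * k₁, K₀.mul_mem (hnorm.conj_mem _ (K₀.inv_mem hk₀) t) hk₁, ?_, ?_, ?_⟩
      · rw [mul_smul, mul_smul, mul_smul, hk₁c, htc', hk₀c', htc]
      · rw [mul_smul, mul_smul, mul_smul, hk₁d, htd', hk₀d', htd]
      · rw [mul_smul, mul_smul, mul_smul, hk₁y, inv_smul_smul, ← hk₀y, inv_smul_smul, hty]
    · intro z₁ _ z₂ _ h
      exact smul_left_cancel t h
    · intro z hz
      rw [Finset.mem_filter] at hz
      obtain ⟨hzS, hzP⟩ := hz
      obtain ⟨hzc, hzd⟩ := (hmemS z).1 hzS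
      obtain ⟨k, hkc, hkd, hky⟩ := htr y z hyc hyd hzc hzd
      have hkK : k ∉ K₀ := fun h => hzP ⟨k, h, hkc, hkd, hky⟩
      have htk : t⁻¹ * k ∈ K₀ := by
        rw [Subgroup.mul_mem_iff_of_index_two hidx, inv_mem_iff]
        exact ⟨fun h => absurd h htK, fun h => absurd h hkK⟩
      refine ⟨t⁻¹ • z, ?_, smul_inv_smul t z⟩
      rw [Finset.mem_filter]
      refine ⟨(hmemS _).2 ⟨fun h => hzc ?_, fun h => hzd ?_⟩, t⁻¹ * k, htk, ?_, ?_, ?_⟩
      · rw [inv_smul_eq_iff, htc] at h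
        exact h
      · rw [inv_smul_eq_iff, htd] at h
        exact h
      · rw [mul_smul, hkc, htc']
      · rw [mul_smul, hkd, htd']
      · rw [mul_smul, hky]
  rw [Nat.card_eq_fintype_card] at hodd
  obtain ⟨j, hj⟩ := hodd
  omega

end Cfsg.Agent.Lib.Helper15.TWPAR
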