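import Mathlib

set_option autoImplicit false

namespace Cfsg.Agent.Lib.Helper15.TraceBound

open Module

/-- a biorthogonal system for the trace pairing is linearly independent -/
theorem card_le_of_biorthogonal {W : Type*} [AddCommGroup W] [Module ℂ W] [FiniteDimensional ℂ W]
    {ι : Type*} [Fintype ι] (A B : ι → (W →ₗ[ℂ] W))
    (h0 : ∀ i j, i ≠ j → LinearMap.trace ℂ W (B i ∘ₗ A j) = 0)
    (h1 : ∀ i, LinearMap.trace ℂ W (B i ∘ₗ A i) ≠ 0) :
    Fintype.card ι ≤ (finrank ℂ W) ^ 2 := by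
  classical
  have hli : LinearIndependent ℂ A := by
    rw [Fintype.linearIndependent_iff]
    intro c hc i
    have h3 : LinearMap.trace ℂ W (B i * (∑ j, c j • A j)) = 0 := by
      rw [hc, mul_zero, map_zero]
    rw [Finset.mul_sum, map_sum, Finset.sum_eq_single i] at h3
    · rw [mul_smul_comm, map_smul, smul_eq_mul] at h3
      exact (mul_eq_zero.mp h3).resolve_right (h1 i)
    · intro j _ hj
      rw [mul_smul_comm, map_smul]
      have := h0 i j (Ne.symm hj)
      rw [← Module.End.mul_eq_comp] at this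
      rw [this, smul_zero]
    · intro h; exact absurd (Finset.mem_univ i) h
  have := hli.fintype_card_le_finrank
  rwa [Module.finrank_linearMap, ← sq] at this

variable {V : Type*} [AddCommGroup V] [Module ℂ V]

/-- compress an operator to the range of `P` -/
noncomputable def cut (P : V →ₗ[ℂ] V) (X : V →ₗ[ℂ] V) :
    LinearMap.range P →ₗ[ℂ] LinearMap.range P :=
  (LinearMap.codRestrict (LinearMap.range P) (P ∘ₗ X) (fun v => ⟨X v, rfl⟩)) ∘ₗ
    (LinearMap.range P).subtype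

theorem cut_apply (P X : V →ₗ[ℂ] V) (w : LinearMap.range P) :
    ((cut P X w : LinearMap.range P) : V) = P (X w) := rfl

theorem range_fix {P : V →ₗ[ℂ] V} (hP : P ∘ₗ P = P) (w : LinearMap.range P) : P (w : V) = w := by
  obtain ⟨v, hv⟩ := w.2
  rw [← hv]
  exact LinearMap.congr_fun hP v

theorem cut_comp {P : V →ₗ[ℂ] V} (hP : P ∘ₗ P = P) (X Y : V →ₗ[ℂ] V) (hY : Y ∘ₗ P = P ∘ₗ Y) :
    cut P X ∘ₗ cut P Y = cut P (X ∘ₗ Y) := by
  ext w
  rw [LinearMap.comp_apply, cut_apply, cut_apply, cut_apply, LinearMap.comp_apply]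
  have : P (Y w) = Y w := by
    have h := LinearMap.congr_fun hY (w : V)
    rw [LinearMap.comp_apply, LinearMap.comp_apply, range_fix hP] at h
    exact h.symm
  rw [this]

variable [FiniteDimensional ℂ V]

theorem trace_cut {P : V →ₗ[ℂ] V} (hP : P ∘ₗ P = P) (X : V →ₗ[ℂ] V) :
    LinearMap.trace ℂ _ (cut P X) = LinearMap.trace ℂ V (X ∘ₗ P) := by
  have h1 : ∀ v, (P ∘ₗ X ∘ₗ P) v ∈ LinearMap.range P := fun v => ⟨X (P v), rfl⟩
  have h2 := LinearMap.trace_restrict_eq_of_forall_mem (LinearMap.range P) (P ∘ₗ X ∘ₗ P) h1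
  have h3 : (P ∘ₗ X ∘ₗ P).restrict (fun x _ => h1 x) = cut P X := by
    ext w
    rw [LinearMap.coe_restrict_apply, cut_apply, LinearMap.comp_apply, LinearMap.comp_apply,
      range_fix hP]
  rw [h3] at h2
  rw [h2]
  have h4 : LinearMap.trace ℂ V (P ∘ₗ (X ∘ₗ P)) = LinearMap.trace ℂ V ((X ∘ₗ P) ∘ₗ P) :=
    LinearMap.trace_mul_comm ℂ P (X ∘ₗ P)
  rw [h4, LinearMap.comp_assoc, hP]

theorem trace_idem {P : V →ₗ[ℂ] V} (hP : P ∘ₗ P = P) :
    LinearMap.trace ℂ V P = (finrank ℂ (LinearMap.range P) : ℂ) := by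
  have h : LinearMap.IsProj (LinearMap.range P) P :=
    ⟨fun v => ⟨v, rfl⟩, fun w hw => range_fix hP ⟨w, hw⟩⟩
  exact h.trace

/-- the trace bound for an idempotent: a biorthogonal family of operators commuting with `P` has
at most `(rank P)²` members -/
theorem card_le_sq_rank {P : V →ₗ[ℂ] V} (hP : P ∘ₗ P = P) {ι : Type*} [Fintype ι]
    (A B : ι → (V →ₗ[ℂ] V)) (hA : ∀ j, A j ∘ₗ P = P ∘ₗ A j)
    (h0 : ∀ i j, i ≠ j → LinearMap.trace ℂ V ((B i ∘ₗ A j) ∘ₗ P) = 0)
    (h1 : ∀ i, LinearMap.trace ℂ V ((B i ∘ₗ A i) ∘ₗ P) ≠ 0) :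
    Fintype.card ι ≤ (finrank ℂ (LinearMap.range P)) ^ 2 := by
  apply card_le_of_biorthogonal (fun i => cut P (A i)) (fun i => cut P (B i))
  · intro i j hij
    rw [cut_comp hP _ _ (hA j), trace_cut hP]
    exact h0 i j hij
  · intro i
    rw [cut_comp hP _ _ (hA i), trace_cut hP]
    exact h1 i

end Cfsg.Agent.Lib.Helper15.TraceBound
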