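import Mathlib
import Cfsg.Agent.Lib.Helper15.SuzukiOvoid

set_option autoImplicit false
set_option linter.style.haveILetI false
set_option linter.unusedSectionVars false

namespace Cfsg.Agent.Lib.Helper15.TraceChar

open Cfsg.Agent.Lib.Helper15.SuzukiOvoid

variable {F : Type*} [Field F] [Fintype F]

/-- the absolute trace of a finite field of characteristic two -/
noncomputable def tr2 (h2 : (2 : F) = 0) : F →+ ZMod 2 :=
  haveI : CharP F 2 := CharTwo.of_one_ne_zero_of_two_eq_zero one_ne_zero h2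
  letI : Algebra (ZMod 2) F := ZMod.algebra F 2
  (Algebra.trace (ZMod 2) F).toAddMonoidHom

theorem tr2_sq (h2 : (2 : F) = 0) (x : F) : tr2 h2 (x ^ 2) = tr2 h2 x := by
  haveI : CharP F 2 := CharTwo.of_one_ne_zero_of_two_eq_zero one_ne_zero h2
  letI : Algebra (ZMod 2) F := ZMod.algebra F 2
  have h := Algebra.trace_eq_of_algEquiv (FiniteField.frobeniusAlgEquivOfAlgebraic (ZMod 2) F) x
  rw [FiniteField.coe_frobeniusAlgEquivOfAlgebraic] at h
  simp only [ZMod.card] at h
  exact h

theorem tr2_pow (h2 : (2 : F) = 0) (n : ℕ) (x : F) : tr2 h2 (x ^ (2 ^ n)) = tr2 h2 x := by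
  induction n with
  | zero => simp
  | succ n ih => rw [pow_succ, pow_mul, tr2_sq, ih]

theorem tr2_sig (h2 : (2 : F) = 0) (m : ℕ) (x : F) : tr2 h2 (sig h2 m x) = tr2 h2 x := by
  rw [sig_apply, tr2_pow]

theorem tr2_nondeg (h2 : (2 : F) = 0) {a : F} (ha : a ≠ 0) : ∃ b : F, tr2 h2 (a * b) = 1 := by
  haveI : CharP F 2 := CharTwo.of_one_ne_zero_of_two_eq_zero one_ne_zero h2
  letI : Algebra (ZMod 2) F := ZMod.algebra F 2
  have htr := (traceForm_nondegenerate (ZMod 2) F).1 a
  simp_rw [Algebra.traceForm_apply] at htr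
  by_contra! hf
  apply ha
  apply htr
  intro b
  have := hf b
  have h3 : ∀ z : ZMod 2, z ≠ 1 → z = 0 := by decide
  exact h3 _ this

/-- the canonical additive character with values `±1` -/
noncomputable def chi (h2 : (2 : F) = 0) (x : F) : ℂ := if tr2 h2 x = 0 then 1 else -1

theorem chi_of_zero (h2 : (2 : F) = 0) {x : F} (h : tr2 h2 x = 0) : chi h2 x = 1 := by
  rw [chi, if_pos h]

theorem chi_of_one (h2 : (2 : F) = 0) {x : F} (h : tr2 h2 x = 1) : chi h2 x = -1 := by
  rw [chi, if_neg (by rw [h]; decide)]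

theorem tr2_cases (h2 : (2 : F) = 0) (x : F) : tr2 h2 x = 0 ∨ tr2 h2 x = 1 := by
  have h3 : ∀ z : ZMod 2, z = 0 ∨ z = 1 := by decide
  exact h3 _

theorem chi_zero (h2 : (2 : F) = 0) : chi h2 0 = 1 := chi_of_zero h2 (map_zero _)

theorem chi_add (h2 : (2 : F) = 0) (x y : F) : chi h2 (x + y) = chi h2 x * chi h2 y := by
  have h11 : (1 : ZMod 2) + 1 = 0 := by decide
  rcases tr2_cases h2 x with hx | hx <;> rcases tr2_cases h2 y with hy | hy
  · rw [chi_of_zero h2 hx, chi_of_zero h2 hy, chi_of_zero h2 (by rw [map_add, hx, hy, add_zero]),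
      mul_one]
  · rw [chi_of_zero h2 hx, chi_of_one h2 hy, chi_of_one h2 (by rw [map_add, hx, hy, zero_add]),
      one_mul]
  · rw [chi_of_one h2 hx, chi_of_zero h2 hy, chi_of_one h2 (by rw [map_add, hx, hy, add_zero]),
      mul_one]
  · rw [chi_of_one h2 hx, chi_of_one h2 hy, chi_of_zero h2 (by rw [map_add, hx, hy, h11])]
    norm_num

theorem chi_mul_self (h2 : (2 : F) = 0) (x : F) : chi h2 x * chi h2 x = 1 := by
  rcases tr2_cases h2 x with hx | hx
  · rw [chi_of_zero h2 hx, mul_one]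
  · rw [chi_of_one h2 hx]; norm_num

theorem chi_ne_zero (h2 : (2 : F) = 0) (x : F) : chi h2 x ≠ 0 := by
  intro h
  have := chi_mul_self h2 x
  rw [h, mul_zero] at this
  exact zero_ne_one this

/-- orthogonality -/
theorem chi_sum (h2 : (2 : F) = 0) {b : F} (hb : b ≠ 0) : ∑ ν : F, chi h2 (ν * b) = 0 := by
  obtain ⟨c, hc⟩ := tr2_nondeg h2 hb
  have h1 : ∑ ν : F, chi h2 (ν * b) = ∑ ν : F, chi h2 ((ν + c) * b) :=
    (Equiv.sum_comp (Equiv.addRight c) (fun ν => chi h2 (ν * b))).symm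
  have h2' : ∑ ν : F, chi h2 ((ν + c) * b) = - ∑ ν : F, chi h2 (ν * b) := by
    rw [← Finset.sum_neg_distrib]
    apply Finset.sum_congr rfl
    intro ν _
    have hcb : chi h2 (c * b) = -1 := chi_of_one h2 (by rw [mul_comm c b]; exact hc)
    rw [add_mul, chi_add, hcb]
    ring
  rw [h2'] at h1
  have : (2 : ℂ) * ∑ ν : F, chi h2 (ν * b) = 0 := by linear_combination h1
  exact (mul_eq_zero.mp this).resolve_left two_ne_zero

theorem chi_sum' (h2 : (2 : F) = 0) {ν : F} (hν : ν ≠ 0) : ∑ b : F, chi h2 (ν * b) = 0 := by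
  rw [← chi_sum h2 hν]
  exact Finset.sum_congr rfl (fun b _ => by rw [mul_comm])

theorem chi_sum_ite (h2 : (2 : F) = 0) [DecidableEq F] (b : F) :
    ∑ ν : F, chi h2 (ν * b) = if b = 0 then (Fintype.card F : ℂ) else 0 := by
  split_ifs with hb
  · subst hb
    simp [chi_zero, Finset.card_univ]
  · exact chi_sum h2 hb

variable {m : ℕ} (hF : Fintype.card F = 2 ^ (2 * m + 1))

include hF in
/-- the commutator form is non-degenerate modulo `{0, 1}` -/
theorem exists_comm {a : F} (h0 : a ≠ 0) (h1 : a ≠ 1) :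
    ∃ c : F, chi (two_eq_zero hF) (sig (two_eq_zero hF) m c * a + sig (two_eq_zero hF) m a * c)
      = -1 := by
  have h2 := two_eq_zero hF
  have hne : a + a ^ 2 ≠ 0 := by
    have : a + a ^ 2 = a * (1 + a) := by ring
    rw [this]
    refine mul_ne_zero h0 ?_
    intro h
    apply h1
    have h3 : a + a = 0 := by rw [← two_mul, h2, zero_mul]
    have : a = a + (1 + a) := by rw [h, add_zero]
    rw [this]
    calc a + (1 + a) = 1 + (a + a) := by ring
      _ = 1 := by rw [h3, add_zero]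
  obtain ⟨b, hb⟩ := tr2_nondeg h2 hne
  have hsurj : Function.Surjective (sig h2 m) :=
    Finite.surjective_of_injective (sig h2 m).injective
  obtain ⟨c, rfl⟩ := hsurj b
  refine ⟨c, chi_of_one h2 ?_⟩
  rw [map_add]
  have h5 : tr2 h2 (sig h2 m a * c) = tr2 h2 (a ^ 2 * sig h2 m c) := by
    rw [← tr2_sig h2 m (sig h2 m a * c), map_mul, sig_sig h2 hF]
  rw [h5, ← map_add, ← hb]
  congr 1
  ring

include hF in
/-- a set of representatives of `F` modulo `{0, 1}` -/
theorem exists_half : ∃ S : Finset F, 2 * S.card = Fintype.card F ∧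
    ∀ a ∈ S, ∀ a' ∈ S, a + a' ≠ 1 := by
  classical
  have h2 := two_eq_zero hF
  obtain ⟨κ, hκ⟩ := tr2_nondeg h2 (one_ne_zero : (1 : F) ≠ 0)
  rw [one_mul] at hκ
  refine ⟨Finset.univ.filter (fun a => tr2 h2 (κ * a) = 0), ?_, ?_⟩
  · have hs := chi_sum' h2 (show κ ≠ 0 by rintro rfl; rw [map_zero] at hκ; exact zero_ne_one hκ)
    have hsplit := Finset.sum_filter_add_sum_filter_not Finset.univ
      (fun a => tr2 h2 (κ * a) = 0) (fun a => chi h2 (κ * a))
    rw [hs] at hsplit
    have e1 : ∑ a ∈ Finset.univ.filter (fun a => tr2 h2 (κ * a) = 0), chi h2 (κ * a) =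
        ((Finset.univ.filter (fun a => tr2 h2 (κ * a) = 0)).card : ℂ) := by
      rw [Finset.sum_congr rfl (fun a ha => chi_of_zero h2 (Finset.mem_filter.mp ha).2)]
      simp
    have e2 : ∑ a ∈ Finset.univ.filter (fun a => ¬ tr2 h2 (κ * a) = 0), chi h2 (κ * a) =
        -((Finset.univ.filter (fun a => ¬ tr2 h2 (κ * a) = 0)).card : ℂ) := by
      rw [Finset.sum_congr rfl (fun a ha => chi_of_one h2
        ((tr2_cases h2 _).resolve_left (Finset.mem_filter.mp ha).2))]
      simp
    rw [e1, e2] at hsplit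
    have hc := Finset.card_filter_add_card_filter_not (s := (Finset.univ : Finset F))
      (fun a => tr2 h2 (κ * a) = 0)
    rw [Finset.card_univ] at hc
    have h3 : ((Finset.univ.filter (fun a => tr2 h2 (κ * a) = 0)).card : ℂ) =
        ((Finset.univ.filter (fun a => ¬ tr2 h2 (κ * a) = 0)).card : ℂ) := by
      linear_combination hsplit
    have h4 := Nat.cast_injective h3
    omega
  · intro a ha a' ha' h
    have h5 := (Finset.mem_filter.mp ha).2
    have h6 := (Finset.mem_filter.mp ha').2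
    have : tr2 h2 (κ * (a + a')) = 0 := by rw [mul_add, map_add, h5, h6, add_zero]
    rw [h, mul_one, hκ] at this
    exact one_ne_zero this

end Cfsg.Agent.Lib.Helper15.TraceChar
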