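import Mathlib
import Cfsg.Agent.Lib.Helper18.AschA89Defs

/-!
S5663, sub-block [E3] (`(q, m) = (2, 3)`, `|F| = 4`): definitions.
`Heis t` = the Heisenberg group of rank `t` over `ZMod 3` (extraspecial `3^(1+2t)` of exponent 3), with
`(c, a, b) * (c', a', b') = (c + c' + ∑ i, b i * a' i, a + a', b + b')`;
`Xm ω = diag(1, ω, ω²)`, `Ym` = the shift `e_j ↦ e_{j-1}` (`Ym * Xm ω = ω • (Xm ω * Ym)`), `Em ω a b = Xm ω ^ a * Ym ^ b`,
`rho ω x = ω ^ x.c • ptens (fun i => Em ω (x.a i) (x.b i))` (the representation of `Heis t` on `(F^3)^{⊗ t}`, as a matrix).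
-/

set_option autoImplicit false
set_option linter.unusedSectionVars false
set_option linter.unusedVariables false

namespace Cfsg.Agent.Lib.Helper15.E3
open Matrix Cfsg.Agent.Lib.Helper18.AschA89

/-- the Heisenberg group of rank `t` over `ZMod 3` -/
@[ext] structure Heis (t : ℕ) where
  c : ZMod 3
  a : Fin t → ZMod 3
  b : Fin t → ZMod 3
  deriving DecidableEq

namespace Heis
variable {t : ℕ}

instance : Mul (Heis t) := ⟨fun x y => ⟨x.c + y.c + ∑ i, x.b i * y.a i, x.a + y.a, x.b + y.b⟩⟩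
instance : One (Heis t) := ⟨⟨0, 0, 0⟩⟩
instance : Inv (Heis t) := ⟨fun x => ⟨-x.c + ∑ i, x.b i * x.a i, -x.a, -x.b⟩⟩

@[simp] lemma mul_c (x y : Heis t) : (x * y).c = x.c + y.c + ∑ i, x.b i * y.a i := rfl
@[simp] lemma mul_a (x y : Heis t) : (x * y).a = x.a + y.a := rfl
@[simp] lemma mul_b (x y : Heis t) : (x * y).b = x.b + y.b := rfl
@[simp] lemma one_c : (1 : Heis t).c = 0 := rfl
@[simp] lemma one_a : (1 : Heis t).a = 0 := rfl
@[simp] lemma one_b : (1 : Heis t).b = 0 := rfl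
@[simp] lemma inv_c (x : Heis t) : (x⁻¹).c = -x.c + ∑ i, x.b i * x.a i := rfl
@[simp] lemma inv_a (x : Heis t) : (x⁻¹).a = -x.a := rfl
@[simp] lemma inv_b (x : Heis t) : (x⁻¹).b = -x.b := rfl

instance : Group (Heis t) where
  mul_assoc x y z := by
    ext
    · simp only [mul_c, mul_a, mul_b, Pi.add_apply, add_mul, mul_add, Finset.sum_add_distrib]
      ring
    · simp only [mul_a, add_assoc]
    · simp only [mul_b, add_assoc]
  one_mul x := by
    ext <;> simp
  mul_one x := by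
    ext <;> simp
  inv_mul_cancel x := by
    ext
    · simp only [mul_c, inv_c, inv_b, Pi.neg_apply, neg_mul, Finset.sum_neg_distrib, one_c]
      ring
    · simp
    · simp

/-- `Heis t` as a product -/
def equivProd : Heis t ≃ ZMod 3 × (Fin t → ZMod 3) × (Fin t → ZMod 3) where
  toFun x := (x.c, x.a, x.b)
  invFun p := ⟨p.1, p.2.1, p.2.2⟩
  left_inv x := rfl
  right_inv p := rfl

instance : Fintype (Heis t) := Fintype.ofEquiv _ equivProd.symm

lemma card_eq : Fintype.card (Heis t) = 3 ^ (1 + 2 * t) := by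
  rw [Fintype.card_congr equivProd]
  simp only [Fintype.card_prod, ZMod.card, Fintype.card_fun, Fintype.card_fin]
  ring

end Heis

variable {F : Type*} [Field F]

/-- `diag(1, ω, ω²)` -/
def Xm (ω : F) : Matrix (Fin 3) (Fin 3) F := Matrix.diagonal ![1, ω, ω ^ 2]

/-- the shift `e_j ↦ e_{j-1}`: entry `(i, j)` is `1` iff `j = i + 1` -/
def Ym : Matrix (Fin 3) (Fin 3) F := Matrix.of fun i j => if j = i + 1 then 1 else 0

/-- `X^a Y^b` with exponents in `ZMod 3` -/
def Em (ω : F) (a b : ZMod 3) : Matrix (Fin 3) (Fin 3) F := Xm ω ^ a.val * Ym ^ b.val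

/-- the representation of `Heis t` on `(F^3)^{⊗ t}`, as a matrix-valued function -/
def rho (ω : F) {t : ℕ} (x : Heis t) : Matrix (Fin t → Fin 3) (Fin t → Fin 3) F :=
  ω ^ x.c.val • ptens 3 t fun i => Em ω (x.a i) (x.b i)

end Cfsg.Agent.Lib.Helper15.E3
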