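import Mathlib
import Cfsg.Agent.Lib.Helper15.AschUCtx
import Cfsg.Agent.Lib.Helper18.AschA89Defs
import Cfsg.Agent.Lib.Helper17.UAE3Defs
import Cfsg.Agent.Lib.Helper1.AFKrP
import Cfsg.Agent.Lib.Helper6.TWQ1
import Cfsg.Agent.Lib.Helper20.AschA89F2J
import Cfsg.Agent.Lib.Helper20.AschA89WR

/-!
S5663, sub-block E3 (sub-planner helper17, `notes/S5663_E3_leaves.lean`), packet E3-N in CORE form:
the unitary part of the standard tensor-wreath group normalises `Rstd ω t`.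
`ptens_unitary_factors` (N1) and `fperm_T` (N2) are the exact leaves; `ptens_T_core` (N3) takes the KEY LEMMA as a hypothesis,
`conj_mem_Rstd_core` (N4) takes the KEY LEMMA and the normal form `mem_Rstd_iff` as hypotheses.
-/

set_option autoImplicit false
set_option linter.unusedSectionVars false
set_option linter.unusedVariables false

namespace Cfsg.Agent.Lib.Helper15.UAE3N
open Matrix Cfsg Cfsg.Geo Cfsg.Agent.Lib.Helper20.Asch
open Cfsg.Agent.Lib.Helper15.AschU Cfsg.Agent.Lib.Helper15.AschForm Cfsg.Agent.Lib.Helper18.AschA89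
open Cfsg.Agent.Lib.Helper17.E3 Cfsg.Agent.Lib.Helper20.AschLeaf

variable {F : Type*} [Field F] [Fintype F]

/-! ### small facts on `wp` -/

lemma omega_cube {ω : F} (hω : ω ^ 2 + ω + 1 = 0) : ω ^ 3 = 1 := by
  have : ω ^ 3 - 1 = (ω - 1) * (ω ^ 2 + ω + 1) := by ring
  rw [hω, mul_zero] at this
  exact sub_eq_zero.mp this

lemma wp_zero' (ω : F) : wp ω 0 = 1 := by
  simp [wp]

lemma wp_add' {ω : F} (hω : ω ^ 2 + ω + 1 = 0) (x y : Fin 3) : wp ω (x + y) = wp ω x * wp ω y := by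
  have h3 := omega_cube hω
  have h4 : ω ^ 4 = ω := by rw [show ω ^ 4 = ω ^ 3 * ω by ring, h3, one_mul]
  unfold wp
  fin_cases x <;> fin_cases y <;> simp [← pow_add, h3, h4, Fin.add_def] <;> ring_nf <;> simp [h3, h4]

lemma prod_wp {ω : F} (hω : ω ^ 2 + ω + 1 = 0) {α : Type*} (s : Finset α) (c : α → Fin 3) :
    ∏ i ∈ s, wp ω (c i) = wp ω (∑ i ∈ s, c i) := by
  classical
  induction s using Finset.induction_on with
  | empty => simp [wp_zero']
  | insert a s ha ih => rw [Finset.prod_insert ha, Finset.sum_insert ha, ih, wp_add' hω]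

/-! ### unitary matrices -/

lemma map_map_sigma {κ : Type*} {σ : F ≃+* F} (hinv : ∀ a : F, σ (σ a) = a) (M : Matrix κ κ F) :
    (M.map σ).map σ = M := by
  ext i j
  simp [hinv]

/-- `Mᵀ σ(M)` is hermitian -/
lemma herm_transpose_mul_map {κ : Type*} [Fintype κ] {σ : F ≃+* F} (hinv : ∀ a : F, σ (σ a) = a)
    (M : Matrix κ κ F) : ((Mᵀ * M.map σ).map σ)ᵀ = Mᵀ * M.map σ := by
  have h1 : (Mᵀ * M.map σ).map σ = (Mᵀ).map σ * (M.map σ).map σ := Matrix.map_mul
  rw [h1, map_map_sigma hinv, Matrix.transpose_mul]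
  congr 1

/-- N1: the tensor factors of a unitary pure tensor over `F_4` are unitary -/
theorem ptens_unitary_factors (hF : Fintype.card F = 2 ^ 2) {σ : F ≃+* F} (hσ : IsFrob 2 σ) {t : ℕ}
    (A : Fin t → Matrix (Fin 3) (Fin 3) F) (h : (ptens 3 t A)ᵀ * (ptens 3 t A).map σ = 1) :
    ∀ i, (A i)ᵀ * (A i).map σ = 1 := by
  have hne : ptens 3 t (fun _ => (1 : Matrix (Fin 3) (Fin 3) F)) ≠ 0 := by
    rw [ptens_one]
    exact one_ne_zero
  have hh : (ptens 3 t A)ᵀ * ptens 3 t (fun _ => (1 : Matrix (Fin 3) (Fin 3) F)) *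
      (ptens 3 t A).map (σ : F →+* F) = ptens 3 t (fun _ => (1 : Matrix (Fin 3) (Fin 3) F)) := by
    rw [ptens_one, mul_one]
    exact h
  obtain ⟨c, hc, hprod⟩ := Cfsg.Agent.Lib.Helper1.AFLeaf.ptens_similitude (σ := (σ : F →+* F))
    (fun _ => (1 : Matrix (Fin 3) (Fin 3) F)) A hne hh
  intro i
  have hci : (A i)ᵀ * (A i).map σ = c i • (1 : Matrix (Fin 3) (Fin 3) F) := by
    have := hc i
    rw [mul_one] at this
    exact this
  have hc0 : c i ≠ 0 := by
    intro h0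
    have : ∏ j, c j = 0 := Finset.prod_eq_zero (Finset.mem_univ i) h0
    rw [hprod] at this
    exact one_ne_zero this
  have hherm := herm_transpose_mul_map hσ.invol (A i)
  rw [hci] at hherm
  have h00 := congrFun (congrFun hherm 0) 0
  simp only [Matrix.transpose_apply, Matrix.map_apply, Matrix.smul_apply, Matrix.one_apply_eq, smul_eq_mul,
    mul_one] at h00
  rw [hσ.pow] at h00
  have hc1 : c i = 1 := by
    have : c i * (c i - 1) = 0 := by rw [mul_sub, mul_one, ← pow_two, h00, sub_self]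
    rcases mul_eq_zero.mp this with h' | h'
    · exact absurd h' hc0
    · exact sub_eq_zero.mp h'
  rw [hci, hc1, one_smul]

/-- N2: `fperm π` permutes the slots of `T c a b` -/
theorem fperm_T {ω : F} {t : ℕ} (π : Equiv.Perm (Fin t)) (c : Fin 3) (a b : Fin t → Fin 3) :
    fperm 3 t π * T ω c a b =
      T ω c (fun j => a (π⁻¹ j)) (fun j => b (π⁻¹ j)) * fperm 3 t π := by
  unfold T
  rw [Matrix.mul_smul, Matrix.smul_mul, Cfsg.Agent.Lib.Helper6.TWQ.ptens_mul_fperm]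
  simp

/-- `fperm π` is unitary -/
lemma fperm_unitary {σ : F ≃+* F} {t : ℕ} (π : Equiv.Perm (Fin t)) :
    (fperm (F := F) 3 t π)ᵀ * (fperm (F := F) 3 t π).map σ = 1 := by
  have h1 : (fperm (F := F) 3 t π).map σ = fperm 3 t π := by
    ext x y
    rw [Matrix.map_apply, fperm_apply]
    split_ifs <;> simp
  have h2 : (fperm (F := F) 3 t π)ᵀ = fperm 3 t π⁻¹ := by
    ext x y
    rw [Matrix.transpose_apply, fperm_apply, fperm_apply]
    have : (x = y ∘ π) ↔ (y = x ∘ ((π⁻¹ : Equiv.Perm (Fin t)) : Fin t → Fin t)) := by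
      constructor
      · rintro rfl
        funext j
        simp
      · rintro rfl
        funext j
        simp
    by_cases h : x = y ∘ π
    · rw [if_pos h, if_pos (this.1 h)]
    · rw [if_neg h, if_neg (fun h' => h (this.2 h'))]
  rw [h1, h2, wr_fperm_inv_mul]

/-- N3 (core): a pure tensor of matrices normalising `E₀ = {ω^c W a b}` slotwise normalises `{T c a b}` -/
theorem ptens_T_core {ω : F} (hω : ω ^ 2 + ω + 1 = 0) {t : ℕ}
    (A : Fin t → Matrix (Fin 3) (Fin 3) F)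
    (hkey : ∀ i, ∀ a b : Fin 3, ∃ (c a' b' : Fin 3), A i * W ω a b = (wp ω c • W ω a' b') * A i)
    (c : Fin 3) (a b : Fin t → Fin 3) :
    ∃ (c' : Fin 3) (a' b' : Fin t → Fin 3), ptens 3 t A * T ω c a b = T ω c' a' b' * ptens 3 t A := by
  choose cc aa bb hcab using fun i => hkey i (a i) (b i)
  refine ⟨c + ∑ i, cc i, aa, bb, ?_⟩
  unfold T
  rw [Matrix.mul_smul, Matrix.smul_mul, ptens_mul, ptens_mul]
  have : (fun i => A i * W ω (a i) (b i)) = fun i => wp ω (cc i) • (W ω (aa i) (bb i) * A i) := by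
    funext i
    rw [hcab i, Matrix.smul_mul]
  rw [this, ptens_smul 3 t (fun i => wp ω (cc i)) (fun i => W ω (aa i) (bb i) * A i), prod_wp hω, smul_smul,
    ← wp_add' hω]

/-- N4 (core) -/
theorem conj_mem_Rstd_core (hF : Fintype.card F = 2 ^ 2) {ω : F} (hω : ω ^ 2 + ω + 1 = 0) {σ : F ≃+* F}
    (hσ : IsFrob 2 σ) {t : ℕ}
    (hkey : ∀ g : Matrix (Fin 3) (Fin 3) F, gᵀ * g.map σ = 1 → ∀ a b : Fin 3,
      ∃ (c a' b' : Fin 3), g * W ω a b = (wp ω c • W ω a' b') * g)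
    (hmem : ∀ g : GL (Fin t → Fin 3) F, g ∈ Rstd ω t ↔ ∃ (c : Fin 3) (a b : Fin t → Fin 3),
      (g : Matrix (Fin t → Fin 3) (Fin t → Fin 3) F) = T ω c a b)
    (g : GL (Fin t → Fin 3) F) (hg : g ∈ tensorWreathStandard 3 t F)
    (hu : (g : Matrix (Fin t → Fin 3) (Fin t → Fin 3) F)ᵀ * (g : Matrix (Fin t → Fin 3) (Fin t → Fin 3) F).map σ = 1) :
    ∀ x ∈ Rstd ω t, g * x * g⁻¹ ∈ Rstd ω t := by
  obtain ⟨π, gs, hgs⟩ := Cfsg.Agent.Lib.Helper6.TWQ.exists_fperm_ptens g hg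
  set A : Fin t → Matrix (Fin 3) (Fin 3) F := fun i => ((gs i : GL (Fin 3) F) : Matrix (Fin 3) (Fin 3) F) with hA
  -- `ptens A` is unitary
  have hpA : ptens 3 t A = fperm 3 t π⁻¹ * (g : Matrix (Fin t → Fin 3) (Fin t → Fin 3) F) := by
    rw [hgs, ← Matrix.mul_assoc, wr_fperm_inv_mul, Matrix.one_mul]
  have huA : (ptens 3 t A)ᵀ * (ptens 3 t A).map σ = 1 := by
    rw [hpA, Matrix.transpose_mul, Matrix.map_mul, Matrix.mul_assoc,
      ← Matrix.mul_assoc ((fperm (F := F) 3 t π⁻¹)ᵀ), fperm_unitary, Matrix.one_mul]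
    exact hu
  have hAu := ptens_unitary_factors hF hσ A huA
  intro x hx
  obtain ⟨c, a, b, hxT⟩ := (hmem x).mp hx
  obtain ⟨c', a', b', h1⟩ := ptens_T_core hω A (fun i => hkey (A i) (hAu i)) c a b
  rw [hmem]
  refine ⟨c', fun j => a' (π⁻¹ j), fun j => b' (π⁻¹ j), ?_⟩
  have h2 : (g : Matrix (Fin t → Fin 3) (Fin t → Fin 3) F) * T ω c a b =
      T ω c' (fun j => a' (π⁻¹ j)) (fun j => b' (π⁻¹ j)) * (g : Matrix (Fin t → Fin 3) (Fin t → Fin 3) F) := by
    rw [hgs, Matrix.mul_assoc, h1, ← Matrix.mul_assoc, fperm_T, Matrix.mul_assoc]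
  have h3 : ((g * x * g⁻¹ : GL (Fin t → Fin 3) F) : Matrix (Fin t → Fin 3) (Fin t → Fin 3) F) =
      (g : Matrix (Fin t → Fin 3) (Fin t → Fin 3) F) * (x : Matrix (Fin t → Fin 3) (Fin t → Fin 3) F) *
        ((g⁻¹ : GL (Fin t → Fin 3) F) : Matrix (Fin t → Fin 3) (Fin t → Fin 3) F) := by
    simp [Units.val_mul]
  rw [h3, hxT, h2, Matrix.mul_assoc]
  have h4 : (g : Matrix (Fin t → Fin 3) (Fin t → Fin 3) F) *
      ((g⁻¹ : GL (Fin t → Fin 3) F) : Matrix (Fin t → Fin 3) (Fin t → Fin 3) F) = 1 := by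
    rw [← Units.val_mul, mul_inv_cancel]
    rfl
  rw [h4, Matrix.mul_one]

end Cfsg.Agent.Lib.Helper15.UAE3N
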