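import Mathlib
import Cfsg.Agent.Lib.Helper15.AschUCtx
import Cfsg.Agent.Lib.Helper12.UABU
import Cfsg.Agent.Lib.Helper13.ThRGD

/-!
S5663 (Aschbacher for `GU_n(q)`): block [BIL] `realisable_of_fixes_bilinear`
(an absolutely irreducible subgroup of `GU_n(q)` fixing a non-degenerate bilinear form is realisable over `F_q`),
the assembly of `notes/S5663_U_leaves.lean` on the landed leaves (helper12 `UABU`, helper13 `ThRGD`).
-/

set_option autoImplicit false
set_option linter.unusedSectionVars false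
set_option linter.unusedVariables false

namespace Cfsg.Agent.Lib.Helper15.UAschLeaf
open Matrix Cfsg Cfsg.Geo Cfsg.Agent.Lib.Helper20.Asch Cfsg.Agent.Lib.Helper20.FC
open Cfsg.Agent.Lib.Helper15.AschU Cfsg.Agent.Lib.Helper15.AschForm Cfsg.Agent.Lib.Helper18.AschA89
open scoped Kronecker

variable {F : Type*} [Field F] [Fintype F] {n q : ℕ} {H N : Subgroup (GL (Fin n) F)}

/-- [BIL] block theorem -/
theorem realisable_of_fixes_bilinear (h : UCtx q N) (habs : AbsIrr N)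
    (S : Matrix (Fin n) (Fin n) F) (hS : S.det ≠ 0)
    (hfix : ∀ x ∈ N, (x : Matrix (Fin n) (Fin n) F)ᵀ * S * (x : Matrix (Fin n) (Fin n) F) = S) :
    ∃ F₀ : Subfield F, F₀ ≠ ⊤ ∧ RealisableOver F₀ (matrixSet N) := by
  obtain ⟨σ, hσ⟩ := h.exists_isFrob
  obtain ⟨F₀, hne, hmem⟩ := Cfsg.Agent.Lib.Helper12.UALeaf.exists_fixedSubfield hσ
  obtain ⟨C, hC⟩ := Cfsg.Agent.Lib.Helper12.UALeaf.conj_of_fixes_bilinear (σ := σ) (h.fixJ hσ) S hS hfix
  exact ⟨F₀, hne, Cfsg.Agent.Lib.Helper13.ThR.galois_descent N habs.2 σ C hC F₀ hmem⟩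

end Cfsg.Agent.Lib.Helper15.UAschLeaf
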