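import Mathlib
import Cfsg.Agent.Lib.Helper15.AschUCtx
import Cfsg.Agent.Lib.Helper1.AFAdj
import Cfsg.Agent.Lib.Helper4.UAOdd

/-!
S5663 (Aschbacher for `GU_n(q)`): block [FLD-U] `ugeo_of_field` (class C3, field extension of odd prime degree),
the assembly of `notes/S5663_U_leaves.lean` on the landed leaves (helper1 `AFAdj`, helper4 `UAOdd`).
-/

set_option autoImplicit false
set_option linter.unusedSectionVars false
set_option linter.unusedVariables false

namespace Cfsg.Agent.Lib.Helper15.UAschLeaf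
open Matrix Cfsg Cfsg.Geo Cfsg.Agent.Lib.Helper20.Asch Cfsg.Agent.Lib.Helper20.FC
open Cfsg.Agent.Lib.Helper15.AschU Cfsg.Agent.Lib.Helper15.AschForm Cfsg.Agent.Lib.Helper18.AschA89
open scoped Kronecker

variable {F : Type*} [Field F] [Fintype F] {n q : ℕ} {H N : Subgroup (GL (Fin n) F)}

/-- AF (ADJ7), prelude form: `ZCen X` is adjoint-closed -/
theorem zcen_adjointClosed {σ : F →+* F} {ε : F} {f : (Fin n → F) → (Fin n → F) → F} (hf : RForm σ ε f)
    {X : Subgroup (GL (Fin n) F)} (hX : X ≤ Isom f) : IsAdjointClosedFor f (ZCen X) :=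
  fun k hk => ⟨adjM σ f k, Cfsg.Agent.Lib.Helper1.AFLeaf.zcen_adj hf hX hk
    (Cfsg.Agent.Lib.Helper1.AFLeaf.isAdj_adjM hf k), Cfsg.Agent.Lib.Helper1.AFLeaf.isAdj_adjM hf k⟩

/-- [FLD-U] block theorem -/
theorem ugeo_of_field (h : UCtx q H) (hirr : Irr H) (hN : N ≤ H) (hnorm : NormBy H N)
    (hhom : Homog N) (hZ : ¬ ∀ T ∈ ZCen N, ∃ c : F, T = c • (1 : Matrix (Fin n) (Fin n) F)) :
    GeoU q H := by
  obtain ⟨σ, hσ⟩ := h.exists_isFrob
  have hn0 : 0 < n := by have := h.three_le; omega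
  have hfield := Cfsg.Agent.Lib.Helper20.AschLeaf.zcen_isField hn0 hhom
  obtain ⟨d, hd⟩ : ∃ d, d = Module.finrank F (ZCen N) := ⟨_, rfl⟩
  rw [← hd] at hfield
  have hpos : 0 < d := by
    have : Nontrivial (Matrix (Fin n) (Fin n) F) := by
      have : Nonempty (Fin n) := ⟨⟨0, hn0⟩⟩
      infer_instance
    rw [hd]
    exact Module.finrank_pos
  have hd1 : d ≠ 1 := by
    intro h1
    exact hZ (Cfsg.Agent.Lib.Helper29.AschLeaf.scalar_of_finrank_one (ZCen N) (by rw [← hd, h1]))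
  have hNU : N ≤ Isom (hermForm n F q) := hN.trans h.le
  have hadj : IsAdjointClosedFor (hermForm n F q) (ZCen N) := zcen_adjointClosed (hσ.rform (n := n)) hNU
  have hodd : Odd d := Cfsg.Agent.Lib.Helper4.UALeaf.odd_of_adjointClosed hσ hn0 (ZCen N) d hfield hadj
  obtain ⟨r, hr, hrd⟩ := Nat.exists_prime_and_dvd hd1
  have hrodd : Odd r := by
    rcases hr.eq_two_or_odd' with h2 | h2
    · subst h2
      exact absurd (even_iff_two_dvd.mpr hrd) (Nat.not_even_iff_odd.mpr hodd)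
    · exact h2
  obtain ⟨K', hK', hmem⟩ :=
    Cfsg.Agent.Lib.Helper27.AschKF3.exists_sub (ZCen N) d hfield r hr.ne_zero hpos hrd
  have hadj' : IsAdjointClosedFor (hermForm n F q) K' :=
    Cfsg.Agent.Lib.Helper1.AFLeaf.adjointClosed_of_pow_eq (hσ.rform (n := n)) hadj _ hmem
  refine GeoU.of_C3 r K' hr hrodd hK' hadj' (le_inf ?_ h.le)
  intro g hg
  have hgK := Cfsg.Agent.Lib.Helper29.AschLeaf.zcen_normalized hnorm hg
  intro k
  rw [hmem, hmem, Cfsg.Agent.Lib.Helper27.AschKF3.conj_pow_mat]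
  constructor
  · rintro ⟨h1, h2⟩
    exact ⟨(hgK k).mp h1, by rw [h2]⟩
  · rintro ⟨h1, h2⟩
    exact ⟨(hgK k).mpr h1, Cfsg.Agent.Lib.Helper27.AschKF3.conj_inj_mat g _ _ h2⟩

end Cfsg.Agent.Lib.Helper15.UAschLeaf
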