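import Mathlib
import Cfsg.Agent.Lib.Helper15.AschUCtx
import Cfsg.Agent.Lib.Helper15.AschDSC1
import Cfsg.Agent.Lib.Helper15.UAschBil
import Cfsg.Agent.Lib.Helper4.AschA4
import Cfsg.Agent.Lib.Helper17.AFDsc
import Cfsg.Agent.Lib.Helper1.UADsc
import Cfsg.Agent.Lib.Helper23.UADsc6
import Cfsg.Agent.Lib.Helper12.UAGram

/-!
S5663 (Aschbacher for `GU_n(q)`): block [DSC-U] `ugeo_of_realisable` (form-aware subfield descent, class C5),
and the wrappers [QDR] `ugeo_of_fixes_quad`, [SYM] `ugeo_of_fixes_symp`;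
the assemblies of `notes/S5663_U_leaves.lean` / `notes/S5663_leaves.lean` on the landed leaves
(helper4 `exists_max_subfield`, helper17 `AFDsc`, helper1 `UADsc`, helper23 `UADsc6`, helper12 `UAGram`).
-/

set_option autoImplicit false
set_option linter.unusedSectionVars false
set_option linter.unusedVariables false

namespace Cfsg.Agent.Lib.Helper15.UAschLeaf
open Matrix Cfsg Cfsg.Geo Cfsg.Agent.Lib.Helper20.Asch Cfsg.Agent.Lib.Helper20.FC
open Cfsg.Agent.Lib.Helper15.AschU Cfsg.Agent.Lib.Helper15.AschForm Cfsg.Agent.Lib.Helper18.AschA89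
open scoped Kronecker

variable {F : Type*} [Field F] [Fintype F] {n q : ℕ} {H N : Subgroup (GL (Fin n) F)}

/-- [DSC-U] block theorem -/
theorem ugeo_of_realisable (h : UCtx q H) (hN : N ≤ H) (hnorm : NormBy H N) (habs : AbsIrr N)
    (F₀ : Subfield F) (hF₀ : F₀ ≠ ⊤) (hreal : RealisableOver F₀ (matrixSet N)) : GeoU q H := by
  obtain ⟨σ, hσ⟩ := h.exists_isFrob
  obtain ⟨F₁, r, h01, hr, hcard⟩ := Cfsg.Agent.Lib.Helper4.AschLeaf.exists_max_subfield F₀ hF₀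
  obtain ⟨B, hB⟩ := hreal
  have hB1 : ∀ s ∈ matrixSet N, ∀ i j,
      ((B : Matrix (Fin n) (Fin n) F) * s * ((B⁻¹ : GL (Fin n) F) : Matrix (Fin n) (Fin n) F)) i j ∈ F₁ :=
    fun s hs i j => h01 (hB s hs i j)
  have hH : H ≤ subfieldSubgroup F₁ B⁻¹ :=
    Cfsg.Agent.Lib.Helper15.AFLeaf.le_subfieldSubgroup_of_realisable hnorm habs F₁ F₁ le_rfl B hB1
  have hfix : FixJ (σ : F →+* F) (1 : Matrix (Fin n) (Fin n) F) N := (h.mono hN).fixJ hσ
  obtain ⟨c, hc, hrat⟩ := Cfsg.Agent.Lib.Helper17.AFLeaf.gram_rational F₁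
    (Cfsg.Agent.Lib.Helper17.AFLeaf.subfield_stable _ F₁) (J := (1 : Matrix (Fin n) (Fin n) F))
    (by simp) hfix habs B hB1
  rcases hr.eq_two_or_odd' with h2 | hodd
  · subst h2
    by_cases hq : Odd q
    · exact Cfsg.Agent.Lib.Helper1.UALeaf.dsc_two_odd h hσ hq F₁ hcard B⁻¹ hH c hc hrat
    · refine Cfsg.Agent.Lib.Helper23.UALeaf.dsc_two_even h hσ hq F₁ hcard B⁻¹ hH c hc hrat hN habs ?_
      intro s hs i j
      rw [inv_inv]
      exact hB1 s hs i j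
  · exact Cfsg.Agent.Lib.Helper1.UALeaf.dsc_odd h hσ F₁ r hr hodd hcard B⁻¹ hH c hc hrat

/-- [QDR] -/
theorem ugeo_of_fixes_quad (h : UCtx q H) (hN : N ≤ H) (hnorm : NormBy H N) (habs : AbsIrr N)
    (Q : (Fin n → F) → F) (hQ : IsNondegenerateQuadraticForm Q)
    (hfix : FixesQuadForm (matrixSet N) Q) : GeoU q H := by
  obtain ⟨S, hS, hfixS⟩ := Cfsg.Agent.Lib.Helper12.UALeaf.exists_gram_of_quad Q hQ N hfix
  obtain ⟨F₀, hF₀, hreal⟩ := realisable_of_fixes_bilinear (h.mono hN) habs S hS hfixS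
  exact ugeo_of_realisable h hN hnorm habs F₀ hF₀ hreal

/-- [SYM] -/
theorem ugeo_of_fixes_symp (h : UCtx q H) (hN : N ≤ H) (hnorm : NormBy H N) (habs : AbsIrr N)
    (f : (Fin n → F) → (Fin n → F) → F) (hf : IsSymplecticForm f)
    (hfix : FixesForm (matrixSet N) f) : GeoU q H := by
  obtain ⟨S, hS, hfixS⟩ := Cfsg.Agent.Lib.Helper12.UALeaf.exists_gram_of_symp f hf N hfix
  obtain ⟨F₀, hF₀, hreal⟩ := realisable_of_fixes_bilinear (h.mono hN) habs S hS hfixS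
  exact ugeo_of_realisable h hN hnorm habs F₀ hF₀ hreal

end Cfsg.Agent.Lib.Helper15.UAschLeaf
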