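import Mathlib
import Cfsg.Agent.Lib.Helper15.AschUCtx
import Cfsg.Agent.Lib.Helper15.UAschDsc
import Cfsg.Agent.Lib.Helper24.AschUNIL

/-!
S5663 (Aschbacher for `GU_n(q)`): block [NIL] `ugeo_of_nilpotent` (the symplectic-type case, class C6 or descent),
= helper24's `geoU_of_nilpotent_core` with the descent hypothesis filled by [DSC-U] `ugeo_of_realisable`.
-/

set_option autoImplicit false
set_option linter.unusedSectionVars false
set_option linter.unusedVariables false

namespace Cfsg.Agent.Lib.Helper15.UAschLeaf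
open Matrix Cfsg Cfsg.Geo Cfsg.Agent.Lib.Helper20.Asch Cfsg.Agent.Lib.Helper20.FC
open Cfsg.Agent.Lib.Helper15.AschU Cfsg.Agent.Lib.Helper15.AschForm
open scoped Kronecker

variable {F : Type*} [Field F] [Fintype F] {n q : ℕ} {H N : Subgroup (GL (Fin n) F)}

/-- [NIL] block theorem -/
theorem ugeo_of_nilpotent (h : UCtx q H) (hirr : Irr H) (hqp : QP H) (hN : N ≤ H)
    (hnorm : NormBy H N) (hns : ¬ N ≤ scalars (Fin n) F)
    (hmin : ∀ M : Subgroup (GL (Fin n) F), M ≤ N → NormBy H M → M = N ∨ M ≤ scalars (Fin n) F)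
    (hcomm : ⁅N, N⁆ ≤ scalars (Fin n) F) : GeoU q H := by
  have habs : AbsIrr N := (hqp N hN hnorm).resolve_left hns
  exact Cfsg.Agent.Lib.Helper24.AschULeaf.geoU_of_nilpotent_core h.card
    (fun F₀ hF₀ hreal => ugeo_of_realisable h hN hnorm habs F₀ hF₀ hreal)
    h.le hirr hqp hN hnorm hns hmin hcomm

end Cfsg.Agent.Lib.Helper15.UAschLeaf
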