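import Mathlib
import Cfsg.Agent.Lib.Helper15.AschUCtx
import Cfsg.Agent.Lib.Helper20.FCMain
import Cfsg.Agent.Lib.Helper11.FCRed

/-!
S5663 (Aschbacher for `GU_n(q)`): blocks [RED] `ugeo_of_not_irr` and [CLF] `ugeo_of_not_homog`
(wrappers of helper20's FORM-CLIFFORD block: `Helper11.FCLeaf.reducible_cases`, `Helper20.FCLeaf.fc_unitary_main`).
Exact signatures of `notes/S5663_leaves.lean`.
-/

set_option autoImplicit false
set_option linter.unusedSectionVars false
set_option linter.unusedVariables false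

namespace Cfsg.Agent.Lib.Helper15.UAschLeaf
open Matrix Cfsg Cfsg.Geo Cfsg.Agent.Lib.Helper20.Asch Cfsg.Agent.Lib.Helper20.FC
open Cfsg.Agent.Lib.Helper15.AschU Cfsg.Agent.Lib.Helper15.AschForm
open scoped Kronecker

variable {F : Type*} [Field F] [Fintype F] {n q : ℕ} {H N : Subgroup (GL (Fin n) F)}

/-- [RED] a reducible group lies in a member of C1 or C2 -/
theorem ugeo_of_not_irr (h : UCtx q H) (hred : ¬ Irr H) : GeoU q H := by
  obtain ⟨σ, hσ⟩ := h.exists_isFrob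
  rcases Cfsg.Agent.Lib.Helper11.FCLeaf.reducible_cases (hσ.rsform (n := n)) h.isoms hred with
    ⟨W, h0, hts, hW⟩ | ⟨W, h0, hnd, hdim, hW⟩ | ⟨k, D, hD, hst⟩
  · exact GeoU.of_ts W h0 hts (le_inf hW h.le)
  · exact GeoU.of_nd W h0 hnd hdim (le_inf hW h.le)
  · exact GeoU.of_decomp D hD (le_inf hst h.le)

/-- [CLF] `V|_N` not homogeneous: C2 -/
theorem ugeo_of_not_homog (h : UCtx q H) (hirr : Irr H) (hN : N ≤ H) (hnorm : NormBy H N)
    (hnh : ¬ Homog N) : GeoU q H := by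
  obtain ⟨σ, hσ⟩ := h.exists_isFrob
  have hn0 : 0 < n := by have := h.three_le; omega
  rcases Cfsg.Agent.Lib.Helper20.FCLeaf.fc_unitary_main (hσ.unitary (n := n)) hn0 hirr hN hnorm h.isoms with
    hh | ⟨t', k, D', hD', hst', -⟩ | ⟨k, D', hk, hD', hts, hst'⟩
  · exact absurd hh hnh
  · exact GeoU.of_decomp D' hD' (le_inf hst' h.le)
  · exact GeoU.of_tspair k D' hk hD' hts (le_inf hst' h.le)

end Cfsg.Agent.Lib.Helper15.UAschLeaf
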