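import Mathlib
import Cfsg.Agent.Lib.Helper15.AschUCtx
import Cfsg.Agent.Lib.Helper15.AschPRFData
import Cfsg.Agent.Lib.Helper15.AFMain
import Cfsg.Agent.Lib.Helper15.UAGU
import Cfsg.Agent.Lib.Helper15.UAschRC
import Cfsg.Agent.Lib.Helper15.UAschFld
import Cfsg.Agent.Lib.Helper15.UAschNil
import Cfsg.Agent.Lib.Helper1.UAHerm
import Cfsg.Agent.Lib.Helper23.UAStd2
import Cfsg.Agent.Lib.Helper12.UAStd
import Cfsg.Agent.Lib.Helper25.AFCb
import Cfsg.Agent.Lib.Helper26.AschNL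
import Cfsg.Agent.Lib.Helper27.AschSW
import Cfsg.Agent.Lib.Helper29.AschKF2
import Cfsg.Agent.Lib.Helper29.AschS1K1
import Cfsg.Agent.Lib.Helper20.AschTS
import Cfsg.Agent.Lib.Helper4.AschA1
import Cfsg.Agent.Lib.Helper4.AschA4

/-!
S5663 (Aschbacher for `GU_n(q)`): the blocks [TWF-U] `ugeo_of_tensorWreath`, [TNS-U] `ugeo_of_tensor`, [PRF-U] `ugeo_or_simple`
and the top-level assembly `main`, in CORE form: the two sub-blocks `t2_of_std` (factors of dimension 2, helper14's market)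
and `e3_of_std` (`(q, m) = (2, 3)`, helper17's market) are the hypotheses `T2Hyp q H`, `E3Hyp q H`.
Everything else is wired on landed leaves.
-/

set_option autoImplicit false
set_option linter.unusedSectionVars false
set_option linter.unusedVariables false

namespace Cfsg.Agent.Lib.Helper15.UAschLeaf
open Matrix Cfsg Cfsg.Geo Cfsg.Agent.Lib.Helper20.Asch Cfsg.Agent.Lib.Helper20.FC
open Cfsg.Agent.Lib.Helper15.AschU Cfsg.Agent.Lib.Helper15.AschForm Cfsg.Agent.Lib.Helper18.AschA89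
open scoped Kronecker

variable {F : Type*} [Field F] [Fintype F] {n q : ℕ} {H N : Subgroup (GL (Fin n) F)}

/-- the statement of the sub-block [T2] for the group `H` -/
def T2Hyp (q : ℕ) (H : Subgroup (GL (Fin n) F)) : Prop :=
  ∀ {σ : F ≃+* F} (_ : IsFrob q σ) {t : ℕ} (_ : 2 ≤ t)
    (e : Fin n ≃ (Fin t → Fin 2)) (P : GL (Fin n) F) (c : F) (_ : c ≠ 0)
    (_ : gramIn (σ : F →+* F) 1 e P = c • (1 : Matrix (Fin t → Fin 2) (Fin t → Fin 2) F))
    (_ : H ≤ tensorWreathSubgroup 2 t e P), GeoU q H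

/-- the statement of the sub-block [E3] for the group `H` -/
def E3Hyp (q : ℕ) (H : Subgroup (GL (Fin n) F)) : Prop :=
  q = 2 → ∀ {σ : F ≃+* F} (_ : IsFrob q σ) {t : ℕ} (_ : 1 ≤ t)
    (e : Fin n ≃ (Fin t → Fin 3)) (P : GL (Fin n) F) (c : F) (_ : c ≠ 0)
    (_ : gramIn (σ : F →+* F) 1 e P = c • (1 : Matrix (Fin t → Fin 3) (Fin t → Fin 3) F))
    (_ : H ≤ tensorWreathSubgroup 3 t e P), GeoU q H

/-- [TWF-U] block theorem, core form -/
theorem ugeo_of_tensorWreath_core (hT2 : T2Hyp q H) (hE3 : E3Hyp q H)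
    (h : UCtx q H) {σ : F ≃+* F} (hσ : IsFrob q σ) {m t : ℕ} (hm : 2 ≤ m) (ht : 2 ≤ t)
    (e : Fin n ≃ (Fin t → Fin m)) (P : GL (Fin n) F) (hH : H ≤ tensorWreathSubgroup m t e P)
    (c : F) (G : Fin t → Matrix (Fin m) (Fin m) F)
    (hG : gramIn (σ : F →+* F) 1 e P = c • ptens m t G) : GeoU q H := by
  have hn0 : 0 < n := by have := h.three_le; omega
  obtain ⟨c', G', hc', hherm, hdet, hG'⟩ :=
    Cfsg.Agent.Lib.Helper1.UALeaf.herm_normalise_ptens h.card hσ hn0 e P c G hG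
  obtain ⟨P', hP', hstd⟩ := Cfsg.Agent.Lib.Helper23.UALeaf.standardise h.card hσ e P c' G' hherm hdet hG'
  rw [← hP'] at hH
  rcases Nat.lt_or_ge m 3 with h3 | h3
  · have hm2 : m = 2 := by omega
    subst hm2
    exact hT2 hσ ht e P' c' hc' hstd hH
  · by_cases hex : q = 2 ∧ m = 3
    · obtain ⟨hq, hm3⟩ := hex
      subst hm3
      exact hE3 hq hσ (by omega) e P' c' hc' hstd hH
    · exact Cfsg.Agent.Lib.Helper12.UALeaf.c7_of_std h hσ h3 ht hex e P' c' hc' hstd hH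

/-- [TNS-U] block theorem, core form -/
theorem ugeo_of_tensor_core (hT2 : T2Hyp q H) (hE3 : E3Hyp q H)
    (h : UCtx q H) (hirr : Irr H) (hN : N ≤ H) (hnorm : NormBy H N)
    {s k : ℕ} (hs : 2 ≤ s) (hk : 2 ≤ k) (e : Fin n ≃ Fin s × Fin k) (P : GL (Fin n) F)
    (h1 : ∀ A : Matrix (Fin s) (Fin s) F, conjR e P (A ⊗ₖ (1 : Matrix (Fin k) (Fin k) F)) ∈ Env N)
    (h2 : ∀ T ∈ Env N, ∃ A : Matrix (Fin s) (Fin s) F,
      T = conjR e P (A ⊗ₖ (1 : Matrix (Fin k) (Fin k) F))) : GeoU q H := by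
  obtain ⟨σ, hσ⟩ := h.exists_isFrob
  have hH : H ≤ tensorProductSubgroup s k e P := by
    intro g hg
    apply Cfsg.Agent.Lib.Helper26.AschLeaf.normalizer_le_tensor e P g
    intro A
    exact h2 _ (Cfsg.Agent.Lib.Helper29.AschLeaf.env_conj hnorm g hg _ (h1 A))
  have hfix : FixJ (σ : F →+* F) (1 : Matrix (Fin n) (Fin n) F) N := (h.mono hN).fixJ hσ
  obtain ⟨G₁, G₂, hG⟩ := Cfsg.Agent.Lib.Helper15.AFLeaf.gram_kron hfix (by omega) e P h1 h2
  have hJh := Cfsg.Agent.Lib.Helper15.UALeaf.gramIn_herm (σ : F →+* F) hσ.invol 1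
    (Cfsg.Agent.Lib.Helper15.UALeaf.one_herm _) e P
  have hJd := Cfsg.Agent.Lib.Helper15.UALeaf.gramIn_det_ne_zero (σ : F →+* F)
    (1 : Matrix (Fin n) (Fin n) F) (by simp) e P
  obtain ⟨G₁', G₂', hh1, hh2, hd1, hd2, hG'⟩ :=
    Cfsg.Agent.Lib.Helper1.UALeaf.herm_normalise_kron h.card hσ _ hJh hJd G₁ G₂ hG
  rcases Nat.lt_trichotomy s k with hlt | heq | hgt
  · exact Cfsg.Agent.Lib.Helper12.UALeaf.c4_of_kron h hσ hs hlt e P hH G₁' G₂' hh1 hh2 hd1 hd2 hG'
  · subst heq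
    have hH' := hH.trans (Cfsg.Agent.Lib.Helper25.AFLeaf.tensorProductSubgroup_le_wreath' e P)
    have hG'' := Cfsg.Agent.Lib.Helper25.AFLeaf.gramIn_pair e P G₁' G₂' hG'
    exact ugeo_of_tensorWreath_core hT2 hE3 h hσ hs le_rfl _ P hH' 1 ![G₁', G₂'] (by rw [one_smul]; exact hG'')
  · rw [Cfsg.Agent.Lib.Helper27.AschLeaf.tensorProductSubgroup_swap] at hH
    exact Cfsg.Agent.Lib.Helper12.UALeaf.c4_of_kron h hσ hk hgt _ P hH G₂' G₁' hh2 hh1 hd2 hd1
      (Cfsg.Agent.Lib.Helper25.AFLeaf.gramIn_swap e P G₁' G₂' hG')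

/-- [PRF-U] block theorem, core form -/
theorem ugeo_or_simple_core (hT2 : T2Hyp q H) (hE3 : E3Hyp q H)
    (h : UCtx q H) (hirr : Irr H) (hqp : QP H) (hN : N ≤ H)
    (hnorm : NormBy H N) (hns : ¬ N ≤ scalars (Fin n) F)
    (hmin : ∀ M : Subgroup (GL (Fin n) F), M ≤ N → NormBy H M → M = N ∨ M ≤ scalars (Fin n) F)
    (hperf : ⁅N, N⁆ = N) :
    GeoU q H ∨ IsSimpleGroup (N ⧸ (scalars (Fin n) F).subgroupOf N) := by
  obtain ⟨σ, hσ⟩ := h.exists_isFrob
  have habs : AbsIrr N := (hqp N hN hnorm).resolve_left hns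
  refine Cfsg.Agent.Lib.Helper15.AschPRF.simple_of_prf_data h.three_le habs hnorm hns hmin hperf ?_
  intro r Nf m e P hfam hm hH h1 h2
  have hfix : ∀ i, FixJ (σ : F →+* F) (1 : Matrix (Fin n) (Fin n) F) (Nf i) :=
    fun i => (h.mono ((hfam.le i).trans hN)).fixJ hσ
  obtain ⟨c, G, hG⟩ := Cfsg.Agent.Lib.Helper15.AFLeaf.gram_ptens (by omega) hfix e P h1 h2
  exact ugeo_of_tensorWreath_core hT2 hE3 h hσ hm hfam.two_le e P hH c G hG

/-- every `H`-normal subgroup is scalar or absolutely irreducible -/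
theorem ugeo_or_qp_core (hT2 : T2Hyp q H) (hE3 : E3Hyp q H)
    (h : UCtx q H) (hirr : Irr H) : GeoU q H ∨ QP H := by
  by_cases hgeo : GeoU q H
  · exact Or.inl hgeo
  right
  intro N hN hnorm
  have hn0 : 0 < n := by have := h.three_le; omega
  have hhom : Homog N := by
    by_contra hnh
    exact hgeo (ugeo_of_not_homog h hirr hN hnorm hnh)
  have hZ : ∀ T ∈ ZCen N, ∃ c : F, T = c • (1 : Matrix (Fin n) (Fin n) F) := by
    by_contra hZ
    exact hgeo (ugeo_of_field h hirr hN hnorm hhom hZ)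
  obtain ⟨s, k, e, P, h1, h2⟩ := Cfsg.Agent.Lib.Helper20.AschLeaf.tensor_of_homog hn0 hhom hZ
  have hcard : n = s * k := by
    have := Fintype.card_congr e
    simpa using this
  rcases Nat.lt_or_ge s 2 with hs | hs
  · have hs1 : s = 1 := by
      rcases Nat.eq_zero_or_pos s with h0 | h0
      · subst h0; omega
      · omega
    subst hs1
    exact Or.inl (Cfsg.Agent.Lib.Helper29.AschLeaf.scalar_of_tensor_one e P h2)
  rcases Nat.lt_or_ge k 2 with hk | hk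
  · have hk1 : k = 1 := by
      rcases Nat.eq_zero_or_pos k with h0 | h0
      · subst h0; omega
      · omega
    subst hk1
    exact Or.inr (Cfsg.Agent.Lib.Helper29.AschLeaf.absIrr_of_tensor_one e P h1)
  exact absurd (ugeo_of_tensor_core hT2 hE3 h hirr hN hnorm hs hk e P h1 h2) hgeo

/-- Aschbacher's theorem for `GU_n(q)`, core form -/
theorem main_core (hT2 : T2Hyp q H) (hE3 : E3Hyp q H)
    (h : UCtx q H) : GeoU q H ∨ InUnitaryResidualClass H := by
  by_cases hgeo : GeoU q H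
  · exact Or.inl hgeo
  right
  have hn3 : 3 ≤ n := h.three_le
  have hirr : Irr H := by
    by_contra hred
    exact hgeo (ugeo_of_not_irr h hred)
  have hqp : QP H := (ugeo_or_qp_core hT2 hE3 h hirr).resolve_left hgeo
  obtain ⟨N, hN, hnorm, hns, hmin⟩ :=
    Cfsg.Agent.Lib.Helper4.AschLeaf.exists_min_normal (by omega) hirr
  have hNabs : AbsIrr N := (hqp N hN hnorm).resolve_left hns
  have hperf : ⁅N, N⁆ = N := by
    rcases hmin ⁅N, N⁆ (Subgroup.commutator_le.mpr (fun x hx y hy =>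
      N.mul_mem (N.mul_mem (N.mul_mem hx hy) (N.inv_mem hx)) (N.inv_mem hy)))
      (Cfsg.Agent.Lib.Helper4.AschLeaf.normBy_commutator hnorm) with h' | h'
    · exact h'
    · exact absurd (ugeo_of_nilpotent h hirr hqp hN hnorm hns hmin h') hgeo
  have hsimple := (ugeo_or_simple_core hT2 hE3 h hirr hqp hN hnorm hns hmin hperf).resolve_left hgeo
  refine ⟨N, ⟨hN, hnorm, hperf, hsimple, ?_, ?_, hNabs, ?_⟩, ?_, ?_⟩
  · -- nonabelian
    intro hab
    have h1 := (Subgroup.Normal.quotient_commutative_iff_commutator_le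
      (N := (scalars (Fin n) F).subgroupOf N)).mp hab
    apply hns
    intro x hx
    have h2 : x ∈ ⁅N, N⁆ := by rw [hperf]; exact hx
    rw [← Subgroup.map_subtype_commutator] at h2
    obtain ⟨y, hy, rfl⟩ := h2
    exact h1 hy
  · -- centralizer
    intro g _ hc
    exact Cfsg.Agent.Lib.Helper4.AschLeaf.scalar_of_centralizes_mod hNabs hperf g hc
  · -- no subfield
    intro F₀ hF₀ hreal
    exact hgeo (ugeo_of_realisable h hN hnorm hNabs F₀ hF₀ hreal)
  · rintro ⟨Q, hQ, hfix⟩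
    exact hgeo (ugeo_of_fixes_quad h hN hnorm hNabs Q hQ hfix)
  · rintro ⟨f, hf, hfix⟩
    exact hgeo (ugeo_of_fixes_symp h hN hnorm hNabs f hf hfix)

end Cfsg.Agent.Lib.Helper15.UAschLeaf
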