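import Mathlib
import Cfsg.Agent.Lib.Helper15.UAschCore
import Cfsg.Agent.Lib.Helper14.UAT2
import Cfsg.Agent.Lib.Helper17.UAE3

/-!
S5663 (Aschbacher for `GU_n(q)`): the final assembly: `main_core` with the sub-blocks [T2] (helper14, `Helper14.UAT2`)
and [E3] (helper17, `Helper17.UAE3`).
-/

set_option autoImplicit false
set_option linter.unusedSectionVars false
set_option linter.unusedVariables false

namespace Cfsg.Agent.Lib.Helper15.UAschLeaf
open Matrix Cfsg Cfsg.Geo Cfsg.Agent.Lib.Helper20.Asch Cfsg.Agent.Lib.Helper20.FC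
open Cfsg.Agent.Lib.Helper15.AschU Cfsg.Agent.Lib.Helper15.AschForm Cfsg.Agent.Lib.Helper18.AschA89

variable {F : Type*} [Field F] [Fintype F] {n q : ℕ} {H N : Subgroup (GL (Fin n) F)}

theorem t2Hyp_of_ctx (h : UCtx q H) : T2Hyp q H :=
  fun hσ _ ht e P c hc hstd hH => Cfsg.Agent.Lib.Helper14.UALeaf.t2_of_std h hσ ht e P c hc hstd hH

theorem e3Hyp_of_ctx (h : UCtx q H) : E3Hyp q H := by
  intro hq
  subst hq
  exact fun hσ _ ht e P c hc hstd hH => Cfsg.Agent.Lib.Helper17.UALeaf.e3_of_std h hσ ht e P c hc hstd hH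

/-- Aschbacher's theorem for `GU_n(q)`, `n ≥ 3` -/
theorem main (h : UCtx q H) : GeoU q H ∨ InUnitaryResidualClass H :=
  main_core (t2Hyp_of_ctx h) (e3Hyp_of_ctx h) h

/-- the frozen statement S5663 -/
theorem final (n q : ℕ) (hF : Fintype.card F = q ^ 2) (hn : 3 ≤ n) (hex : ¬ (n = 3 ∧ q = 2))
    (H : Subgroup (Matrix.GeneralLinearGroup (Fin n) F))
    (hH : H ≤ (Cfsg.GU n F q ⊓ Cfsg.Geo.specialLinear (Fin n) F))
    (hproper : H ⊔ (Cfsg.Geo.scalars (Fin n) F ⊓ (Cfsg.GU n F q ⊓ Cfsg.Geo.specialLinear (Fin n) F)) ≠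
      (Cfsg.GU n F q ⊓ Cfsg.Geo.specialLinear (Fin n) F)) :
    (∃ M : Subgroup (Matrix.GeneralLinearGroup (Fin n) F), Cfsg.Geo.InUnitaryClass n F q M ∧ H ≤ M) ∨
      Cfsg.Geo.InUnitaryResidualClass H :=
  main ⟨hF, hn, hH.trans inf_le_left⟩

end Cfsg.Agent.Lib.Helper15.UAschLeaf
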