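import Mathlib
import Cfsg.Agent.Lib.Helper5.UTGDefs
import Cfsg.Agent.Lib.Helper23.UTG

/-!
S5670 part (G), leaf X1 `mix_chain` of `notes/S5670_G_leaves.lean` (helper5's market): the uniform 4-step chain of
hyperbolic line steps turning `x₁ ⊗ y` into `(x₁ + β₀ x₂) ⊗ y` with non-isotropic `A`-part.
-/

set_option autoImplicit false
set_option linter.unusedSectionVars false
set_option linter.unusedVariables false

namespace Cfsg.Agent.Lib.Helper15.UTGLeaf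
open Matrix
open Cfsg.Agent.Lib.Helper25.Tens Cfsg.Agent.Lib.Helper25.TensLeaf Cfsg.Agent.Lib.Helper20.UT
open Cfsg.Agent.Lib.Helper5.UTG Cfsg.Agent.Lib.Helper5.SUGen Cfsg.Agent.Lib.Helper5.SUMax
open scoped Kronecker

variable {F : Type*} [Field F] [Fintype F] {a b q : ℕ}

/-- the auxiliary isotropic vector `y'(t d) = z - N(t d) θ y + t d` -/
def ypr (q : ℕ) (y z d : Fin b → F) (θ t : F) : Fin b → F :=
  z + (-(t * t ^ q * hv q d d * θ)) • y + t • d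

lemma ypr_iso (hF : Fintype.card F = q ^ 2) {y z d : Fin b → F} (hy : hv q y y = 0)
    (hz : hv q z z = 0) (hyz : hv q y z = 1) (hdy : hv q d y = 0) (hdz : hv q d z = 0) {θ : F}
    (hθ : θ + θ ^ q = 1) (t : F) : hv q (ypr q y z d θ t) (ypr q y z d θ t) = 0 := by
  have hzy : hv q z y = 1 := by rw [← hv_conj hF, hyz, one_pow]
  have hyd : hv q y d = 0 := hv_symm_zero hF hdy
  have hzd : hv q z d = 0 := hv_symm_zero hF hdz
  have hν : (hv q d d) ^ q = hv q d d := hv_self_pow hF d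
  unfold ypr
  simp only [hv_add_left, hv_add_right hF, hv_smul_left, hv_smul_right, hy, hz, hyz, hzy, hdy, hyd,
    hdz, hzd, neg_pow_q hF, mul_pow, pow_q_pow_q' hF, hν]
  linear_combination (-(t * t ^ q * hv q d d)) * hθ

lemma hv_y_ypr (hF : Fintype.card F = q ^ 2) {y z d : Fin b → F} (hy : hv q y y = 0)
    (hyz : hv q y z = 1) (hdy : hv q d y = 0) (θ t : F) : hv q y (ypr q y z d θ t) = 1 := by
  have hyd : hv q y d = 0 := hv_symm_zero hF hdy
  unfold ypr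
  simp only [hv_add_right hF, hv_smul_right, hy, hyz, hyd]
  ring

variable {M : Subgroup (GL (Idx a b) F)}

/-- the norm of `x₁ ⊗ y + x₂ ⊗ W` for a hyperbolic pair `x₁, x₂` and isotropic `y` -/
lemma norm_two (hF : Fintype.card F = q ^ 2) {x₁ x₂ : Fin a → F} (h1 : hv q x₁ x₁ = 0)
    (h2 : hv q x₂ x₂ = 0) (h12 : hv q x₁ x₂ = 1) {y : Fin b → F} (hy : hv q y y = 0) (W : Fin b → F) :
    hv q (pt x₁ y + pt x₂ W) (pt x₁ y + pt x₂ W) = hv q y W + (hv q y W) ^ q := by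
  have h21 : hv q x₂ x₁ = 1 := by rw [← hv_conj hF, h12, one_pow]
  rw [hv_add_left, hv_add_right hF, hv_add_right hF, hv_pt, hv_pt, hv_pt, hv_pt, h1, h2, h12, h21,
    hv_conj hF]
  ring

/-- one step of the chain -/
lemma chain_step (h : MCtx a b q M)
    (hS : ∀ (x : Fin a → F) (y : Fin b → F), hv q x x = 0 → hv q y y = 0 → pt x y ∈ SsetI q M)
    {x₁ x₂ : Fin a → F} (h1 : hv q x₁ x₁ = 0) (h2 : hv q x₂ x₂ = 0) (h12 : hv q x₁ x₂ = 1)
    {y : Fin b → F} (hy : hv q y y = 0) {W y' : Fin b → F}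
    (hW : pt x₁ y + pt x₂ W ∈ SsetI q M) (hWs : (hv q y W) ^ q = - hv q y W)
    (hy' : hv q y' y' = 0) (hyy' : hv q y y' = 1) {l : F} (hl : l ^ q = -l) :
    pt x₁ y + pt x₂ (W + l • y') ∈ SsetI q M ∧
      (hv q y (W + l • y')) ^ q = - hv q y (W + l • y') := by
  have hF := h.hF
  have hsk : (hv q y (W + l • y')) ^ q = - hv q y (W + l • y') := by
    rw [hv_add_right hF, hv_smul_right, hyy', mul_one, add_pow_q hF, hWs, hl, neg_pow_q hF, hl]
    ring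
  refine ⟨?_, hsk⟩
  have e : pt x₁ y + pt x₂ (W + l • y') = (pt x₁ y + pt x₂ W) + l • pt x₂ y' := by
    rw [pt_add_right, pt_smul_right, add_assoc]
  rw [e]
  apply SsetI_add_smul h hW (hS x₂ y' h2 hy')
  · rw [norm_two hF h1 h2 h12 hy, hWs]; ring
  · rw [hv_pt, h2, zero_mul]
  · rw [hv_add_left, hv_pt, hv_pt, h12, h2, hyy']
    simp
  · rw [← e, norm_two hF h1 h2 h12 hy, hsk]; ring

/-- X1 (MIX, the chain) -/
theorem mix_chain (h : MCtx a b q M)
    (hS : ∀ (x : Fin a → F) (y : Fin b → F), hv q x x = 0 → hv q y y = 0 → pt x y ∈ SsetI q M)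
    {x₁ x₂ : Fin a → F} (h1 : hv q x₁ x₁ = 0) (h2 : hv q x₂ x₂ = 0) (h12 : hv q x₁ x₂ = 1)
    {y z d : Fin b → F} (hy : hv q y y = 0) (hz : hv q z z = 0) (hyz : hv q y z = 1)
    (hdy : hv q d y = 0) (hdz : hv q d z = 0) {θ c₀ : F} (hθ : θ + θ ^ q = 1)
    (hc₀ : c₀ ^ q = -c₀) : pt (x₁ + (-(c₀ * θ * hv q d d)) • x₂) y ∈ SsetI q M := by
  have hF := h.hF
  have hnc₀ : (-c₀) ^ q = -(-c₀) := by rw [neg_pow_q hF, hc₀]
  have hyp := fun t => ypr_iso hF hy hz hyz hdy hdz hθ t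
  have hyy := fun t => hv_y_ypr (z := z) hF hy hyz hdy θ t
  -- start
  have h0 : pt x₁ y + pt x₂ (0 : Fin b → F) ∈ SsetI q M := by
    rw [pt_zero_right, add_zero]; exact hS x₁ y h1 hy
  have h0s : (hv q y (0 : Fin b → F)) ^ q = - hv q y (0 : Fin b → F) := by
    rw [hv_zero_right hF, neg_zero, zero_pow]
    rintro rfl
    have : 2 ≤ Fintype.card F := Fintype.one_lt_card
    rw [hF] at this; omega
  obtain ⟨hA1, hA1s⟩ := chain_step h hS h1 h2 h12 hy h0 h0s (hyp 0) (hyy 0) hc₀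
  obtain ⟨hA2, hA2s⟩ := chain_step h hS h1 h2 h12 hy hA1 hA1s (hyp 1) (hyy 1) hnc₀
  obtain ⟨hA3, hA3s⟩ := chain_step h hS h1 h2 h12 hy hA2 hA2s (hyp θ) (hyy θ) hnc₀
  obtain ⟨hA4, -⟩ := chain_step h hS h1 h2 h12 hy hA3 hA3s (hyp (1 + θ)) (hyy (1 + θ)) hc₀
  have hsum : (0 : Fin b → F) + c₀ • ypr q y z d θ 0 + (-c₀) • ypr q y z d θ 1 + (-c₀) • ypr q y z d θ θ
      + c₀ • ypr q y z d θ (1 + θ) = (-(c₀ * θ * hv q d d)) • y := by
    ext l
    simp only [ypr, Pi.add_apply, Pi.smul_apply, Pi.zero_apply, smul_eq_mul, add_pow_q hF, one_pow]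
    linear_combination (-(c₀ * y l * hv q d d * θ)) * hθ
  rw [hsum] at hA4
  rw [pt_add_left, pt_smul_left, ← pt_smul_right]
  exact hA4

end Cfsg.Agent.Lib.Helper15.UTGLeaf
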