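import Mathlib
import Cfsg.Agent.Lib.Helper20.UTDefs
import Cfsg.Agent.Lib.Helper23.UDenseK2b
import Cfsg.Agent.Lib.Helper5.UForm

/-!
S5670 (`SU_a ⊗ SU_b`), Stage I, leaf S1 (`fus`): fusion control on the `B`-side.
Paper proof: notes/C4_stageI_fixedpoint_helper20.md, notes/S5670_leaves.lean (S1).
-/

set_option autoImplicit false
set_option linter.unusedSectionVars false
set_option linter.unusedVariables false

namespace Cfsg.Agent.Lib.Helper15.UTLeaf
open Matrix
open Cfsg.Agent.Lib.Helper25.Tens Cfsg.Agent.Lib.Helper25.TensLeaf Cfsg.Agent.Lib.Helper20.UT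
open scoped Kronecker

variable {F : Type*} [Field F] [Fintype F] {a b q : ℕ}

lemma q_ne_zero_of_card (hF : Fintype.card F = q ^ 2) : q ≠ 0 := by
  rintro rfl
  have : 2 ≤ Fintype.card F := Fintype.one_lt_card
  omega

lemma cj_ne_zero (hq : q ≠ 0) {n : ℕ} {y : Fin n → F} (hy : y ≠ 0) : cj q y ≠ 0 := by
  intro h
  apply hy
  ext i
  have := congrFun h i
  simp only [cj, Pi.zero_apply] at this
  exact pow_eq_zero_iff hq |>.mp this

lemma hv_single_self (hq : q ≠ 0) {n : ℕ} (i : Fin n) :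
    hv q (Pi.single i (1 : F) : Fin n → F) (Pi.single i 1) = 1 := by
  unfold hv
  rw [Finset.sum_eq_single i]
  · simp
  · intro j _ hj
    simp [hj]
  · intro h; exact absurd (Finset.mem_univ i) h

variable {M : Subgroup (GL (Idx a b) F)}

/-- if an isometry maps the isotropic fibre `A ⊗ y` into `A ⊗ y''` then `y''` is isotropic -/
lemma iso_of_fib_map (hF : Fintype.card F = q ^ 2) (ha : 1 ≤ a) {h : GL (Idx a b) F}
    (hh : h ∈ GUI a b q F) {y y'' : Fin b → F} (hy0 : y ≠ 0) (hy''0 : y'' ≠ 0) (hy : hv q y y = 0)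
    (hmap : ∀ x : Fin a → F, ∃ x' : Fin a → F, mv h (pt x y) = pt x' y'') : hv q y'' y'' = 0 := by
  classical
  have hq := q_ne_zero_of_card hF
  -- a functional with value one on `y''`
  obtain ⟨l, hl⟩ : ∃ l, y'' l ≠ 0 := by
    by_contra hcon
    push Not at hcon
    exact hy''0 (funext hcon)
  set ξ : Fin b → F := (y'' l)⁻¹ • Pi.single l 1 with hξ
  have hξy : ξ ⬝ᵥ y'' = 1 := by
    rw [hξ, smul_dotProduct, single_dotProduct, one_mul, smul_eq_mul, inv_mul_cancel₀ hl]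
  -- the induced linear map
  let φ : (Fin a → F) →ₗ[F] (Fin a → F) :=
    (ctR (a := a) ξ) ∘ₗ (Matrix.toLin' (h : Matrix (Idx a b) (Idx a b) F)) ∘ₗ (ptL (a := a) y)
  have hφ : ∀ x, mv h (pt x y) = pt (φ x) y'' := by
    intro x
    obtain ⟨x', hx'⟩ := hmap x
    have : φ x = x' := by
      show ct ξ ((h : Matrix (Idx a b) (Idx a b) F) *ᵥ pt x y) = x'
      have h1 : (h : Matrix (Idx a b) (Idx a b) F) *ᵥ pt x y = pt x' y'' := hx'
      rw [h1, ct_pt, hξy, one_smul]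
    rw [this, hx']
  have hinj : Function.Injective φ := by
    rw [← LinearMap.ker_eq_bot, LinearMap.ker_eq_bot']
    intro x hx
    have h1 := hφ x
    rw [hx, pt_zero_left] at h1
    have h2 := (mv_eq_zero_iff h _).mp h1
    rcases (pt_eq_zero_iff x y).mp h2 with h3 | h3
    · exact h3
    · exact absurd h3 hy0
  have hsurj : Function.Surjective φ := LinearMap.injective_iff_surjective.mp hinj
  obtain ⟨x, hx⟩ := hsurj (Pi.single (⟨0, by omega⟩ : Fin a) 1)
  have h1 := hh (pt x y) (pt x y)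
  change hv q (mv h (pt x y)) (mv h (pt x y)) = hv q (pt x y) (pt x y) at h1
  rw [hφ x, hx, hv_pt, hv_pt, hy, mul_zero, hv_single_self hq, one_mul] at h1
  exact h1

/-- S1 FUSION CONTROL (B-side). -/
theorem fus (hc : MCtx a b q M) (hNS : ¬ R1U q M) {m : GL (Idx a b) F} (hm : m ∈ M)
    {y : Fin b → F} (hy0 : y ≠ 0) (hy : hv q y y = 0) {c : F} (hc0 : c ≠ 0)
    (hk : m⁻¹ * kB q y c hy * m ∈ KG a b F) : m ∈ KG a b F := by
  have hq := q_ne_zero_of_card hc.hF
  have hη : c • cj q y ≠ 0 := smul_ne_zero hc0 (cj_ne_zero hq hy0)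
  have hηy : (c • cj q y) ⬝ᵥ y = 0 := by rw [smul_dotProduct, ← hv_eq_dot, hy, smul_zero]
  have hk' : m⁻¹ * kel (1 : GL (Fin a) F) (tv y (c • cj q y) hηy) * m ∈ KG a b F := hk
  have ha1 : 1 ≤ a := by have := hc.ha; omega
  obtain ⟨y'', hy''0, hmap⟩ := leafQ ha1 hc.hab m y _ hy0 hη hηy hk'
  have hmap' : ∀ x : Fin a → F, ∃ x' : Fin a → F, mv m⁻¹ (pt x y) = pt x' y'' := hmap
  have hminv : m⁻¹ ∈ M := M.inv_mem hm
  have hiso : hv q y'' y'' = 0 :=
    iso_of_fib_map hc.hF ha1 (hc.le_G hminv).1 hy0 hy''0 hy hmap'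
  by_contra hmK
  apply hNS
  refine ⟨m⁻¹, hminv, ?_, y, y'', hy0, hy''0, hy, hiso, hmap'⟩
  intro h
  apply hmK
  have := (KG a b F).inv_mem h
  rwa [inv_inv] at this

end Cfsg.Agent.Lib.Helper15.UTLeaf
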