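import Mathlib
import Cfsg.Agent.Lib.Helper20.UTDefs
import Cfsg.Agent.Lib.Helper20.UTCT
import Cfsg.Agent.Lib.Helper20.UTS
import Cfsg.Agent.Lib.Helper23.UTG

/-!
S5670 Stage I: leaf S6 `fusA` (fusion control, A-side) of `notes/S5670_leaves.lean`.

`k = m⁻¹ (kA x₀ c) m = α ⊗ β` has `k ^ p = 1`, so `α ^ p` is a scalar `s⁻¹`, `s = r ^ p`, and
`α_u = r α` is unipotent, `β_u = r⁻¹ β`, `k = α_u ⊗ β_u`.  The image of `D = k - 1` is `m⁻¹ (x₀ ⊗ B)`,
totally isotropic, and `m` maps it to pure tensors.  We exhibit a non-zero pure tensor `x ⊗ y` in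
`im D` with `y` isotropic (three cases, no dimension count, no isometry of `k` needed, any `b ≥ 3`);
then S5 `no_pure` applies.
-/

set_option autoImplicit false
set_option linter.unusedSectionVars false
set_option linter.unusedVariables false

namespace Cfsg.Agent.Lib.Helper15.UTLeaf
open Matrix
open Cfsg.Agent.Lib.Helper25.Tens Cfsg.Agent.Lib.Helper25.TensLeaf Cfsg.Agent.Lib.Helper20.UT
open scoped Kronecker

variable {F : Type*} [Field F] [Fintype F] {a b q : ℕ}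

/-- powers of a Kronecker product -/
lemma kron_pow (α : Matrix (Fin a) (Fin a) F) (β : Matrix (Fin b) (Fin b) F) (n : ℕ) :
    (α ⊗ₖ β) ^ n = (α ^ n) ⊗ₖ (β ^ n) := by
  induction n with
  | zero => simp
  | succ n ih => rw [pow_succ, ih, pow_succ, pow_succ, Matrix.mul_kronecker_mul]

/-- if `α ⊗ β` has order dividing `p = char F` then some scalar multiple `r • α` is unipotent -/
lemma exists_unipotent_scalar (ha : 1 ≤ a) (hb : 1 ≤ b) (p : ℕ) [CharP F p]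
    (α : Matrix (Fin a) (Fin a) F) (β : Matrix (Fin b) (Fin b) F) (hpow : (α ⊗ₖ β) ^ p = 1) :
    ∃ r : F, r ≠ 0 ∧ (r • α) ^ p = 1 := by
  have : Fact p.Prime := ⟨CharP.char_is_prime F p⟩
  rw [kron_pow] at hpow
  have h00 := congrArg (fun X => blk X (⟨0, by omega⟩ : Fin b) ⟨0, by omega⟩) hpow
  simp only [blk_kron, blk_one, if_true] at h00
  set s : F := (β ^ p) ⟨0, by omega⟩ ⟨0, by omega⟩ with hs
  have hs0 : s ≠ 0 := by
    intro h0
    rw [h0, zero_smul] at h00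
    have := congrFun (congrFun h00 (⟨0, by omega⟩ : Fin a)) ⟨0, by omega⟩
    simp at this
  obtain ⟨r, hr⟩ := surjective_frobenius F p s
  rw [frobenius_def] at hr
  refine ⟨r, ?_, ?_⟩
  · rintro rfl
    rw [zero_pow (CharP.char_is_prime F p).ne_zero] at hr
    exact hs0 hr.symm
  · rw [smul_pow, hr, h00]

lemma pt_sub_left (x x' : Fin a → F) (y : Fin b → F) : pt (x - x') y = pt x y - pt x' y := by
  ext p; simp only [pt, Pi.sub_apply, sub_mul]

lemma pt_sub_right (x : Fin a → F) (y y' : Fin b → F) : pt x (y - y') = pt x y - pt x y' := by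
  ext p; simp only [pt, Pi.sub_apply, mul_sub]

/-- a matrix different from `1` moves some vector -/
lemma exists_mulVec_ne {n : ℕ} {A : Matrix (Fin n) (Fin n) F} (hA : A ≠ 1) :
    ∃ x : Fin n → F, A *ᵥ x ≠ x := by
  by_contra h
  push Not at h
  apply hA
  apply Matrix.toLin'.injective
  apply LinearMap.ext
  intro w
  rw [Matrix.toLin'_apply, h w, Matrix.toLin'_one, LinearMap.id_apply]

/-- a unipotent matrix (`A ^ p = 1`, `p = char F`) fixes a non-zero vector -/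
lemma exists_fixed_of_pow_char {n : ℕ} (hn : 1 ≤ n) (p : ℕ) [CharP F p]
    {A : Matrix (Fin n) (Fin n) F} (hA : A ^ p = 1) : ∃ x : Fin n → F, x ≠ 0 ∧ A *ᵥ x = x := by
  have : Fact p.Prime := ⟨CharP.char_is_prime F p⟩
  have : Nonempty (Fin n) := ⟨⟨0, by omega⟩⟩
  have h1 : (A - 1) ^ p = 0 := by
    rw [sub_pow_char_of_commute p (Commute.one_right A), hA, one_pow, sub_self]
  have hdet : (A - 1).det = 0 := by
    have h2 := congrArg Matrix.det h1
    rw [Matrix.det_pow, Matrix.det_zero] at h2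
    exact pow_eq_zero_iff (CharP.char_is_prime F p).ne_zero |>.mp h2
  obtain ⟨x, hx0, hx⟩ := Matrix.exists_mulVec_eq_zero_iff.mpr hdet
  refine ⟨x, hx0, ?_⟩
  rw [Matrix.sub_mulVec, Matrix.one_mulVec, sub_eq_zero] at hx
  exact hx

/-- the core: a Kronecker product `K = α ⊗ β ≠ 1` of order `p = char F` such that the image of `K - 1`
is totally isotropic moves some vector by a non-zero pure tensor `x ⊗ y` with `y` isotropic -/
theorem exists_pure_sub (hF : Fintype.card F = q ^ 2) (ha : 1 ≤ a) (hb : 3 ≤ b) (p : ℕ) [CharP F p]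
    (α : Matrix (Fin a) (Fin a) F) (β : Matrix (Fin b) (Fin b) F)
    (hpow : (α ⊗ₖ β) ^ p = 1) (hne : α ⊗ₖ β ≠ 1)
    (hiso : ∀ v : Idx a b → F, hv q ((α ⊗ₖ β) *ᵥ v - v) ((α ⊗ₖ β) *ᵥ v - v) = 0) :
    ∃ (x : Fin a → F) (y : Fin b → F) (u : Idx a b → F), x ≠ 0 ∧ y ≠ 0 ∧ hv q y y = 0 ∧
      (α ⊗ₖ β) *ᵥ u - u = pt x y := by
  obtain ⟨r, hr0, hr⟩ := exists_unipotent_scalar ha (by omega) p α β hpow
  have hK : α ⊗ₖ β = (r • α) ⊗ₖ (r⁻¹ • β) := by
    rw [Matrix.smul_kronecker, Matrix.kronecker_smul, smul_smul, mul_inv_cancel₀ hr0, one_smul]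
  rw [hK] at hne hiso ⊢
  generalize r • α = αu at hr hne hiso ⊢
  generalize r⁻¹ • β = βu at hne hiso ⊢
  by_cases hA : αu = 1
  · -- `αu = 1`: then `βu ≠ 1`
    subst hA
    have hB : βu ≠ 1 := by
      rintro rfl
      exact hne Matrix.one_kronecker_one
    obtain ⟨w, hw⟩ := exists_mulVec_ne hB
    obtain ⟨e, he⟩ : ∃ e : Fin a → F, hv q e e = 1 :=
      ⟨Pi.single (⟨0, by omega⟩ : Fin a) (1 : F), Cfsg.Agent.Lib.Helper20.UTLeaf.hv_single_self _⟩
    have he0 : e ≠ 0 := by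
      intro h
      rw [h, hv_zero_left] at he
      exact zero_ne_one he
    have hu : ((1 : Matrix (Fin a) (Fin a) F) ⊗ₖ βu) *ᵥ pt e w - pt e w = pt e (βu *ᵥ w - w) := by
      rw [kron_mulVec_pt, Matrix.one_mulVec, pt_sub_right]
    refine ⟨e, βu *ᵥ w - w, pt e w, he0, sub_ne_zero.mpr hw, ?_, hu⟩
    have h := hiso (pt e w)
    rw [hu, hv_pt, he, one_mul] at h
    exact h
  · -- `αu ≠ 1`
    obtain ⟨x, hx⟩ := exists_mulVec_ne hA
    set f : (Fin b → F) →ₗ[F] (Fin b → F) := Matrix.mulVecLin (βu - 1) with hf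
    have hfw : ∀ w, f w = βu *ᵥ w - w := by
      intro w
      rw [hf, Matrix.mulVecLin_apply, Matrix.sub_mulVec, Matrix.one_mulVec]
    have hrn := LinearMap.finrank_range_add_finrank_ker f
    rw [Module.finrank_fin_fun] at hrn
    by_cases hker : 2 ≤ Module.finrank F (LinearMap.ker f)
    · obtain ⟨w, hwU, hw0, hww⟩ := Cfsg.Agent.Lib.Helper23.UTLeaf.exists_iso_mem (q := q) hF _ hker
      rw [LinearMap.mem_ker, hfw, sub_eq_zero] at hwU
      refine ⟨αu *ᵥ x - x, w, pt x w, sub_ne_zero.mpr hx, hw0, hww, ?_⟩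
      rw [kron_mulVec_pt, hwU, pt_sub_left]
    · have hrg : 2 ≤ Module.finrank F (LinearMap.range f) := by omega
      obtain ⟨y, hyU, hy0, hyy⟩ := Cfsg.Agent.Lib.Helper23.UTLeaf.exists_iso_mem (q := q) hF _ hrg
      obtain ⟨w, hw⟩ := hyU
      rw [hfw] at hw
      obtain ⟨x₁, hx₁0, hx₁⟩ := exists_fixed_of_pow_char ha p hr
      refine ⟨x₁, y, pt x₁ w, hx₁0, hy0, hyy, ?_⟩
      rw [kron_mulVec_pt, hx₁, ← hw, pt_sub_right]

variable {M : Subgroup (GL (Idx a b) F)}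

/-- S6 FUSION CONTROL (A-side) -/
theorem fusA (hc : MCtx a b q M) (hNS : ¬ R1U q M) (hb : b = a + 1) {m : GL (Idx a b) F}
    (hm : m ∈ M) {x₀ : Fin a → F} (hx0 : x₀ ≠ 0) (hx : hv q x₀ x₀ = 0) {c : F} (hc0 : c ≠ 0)
    (hk : m⁻¹ * kA q x₀ c hx * m ∈ KG a b F) : m ∈ KG a b F := by
  by_contra hmK
  obtain ⟨p, hp, hcp⟩ := Cfsg.Agent.Lib.Helper20.UTLeaf.exists_char_prime F
  have ha := hc.ha
  have hb4 := hc.hb
  obtain ⟨α, β, hαβ⟩ := (mem_KG_iff _).mp hk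
  -- `k ^ p = 1`
  have hkp : (m⁻¹ * kA q x₀ c hx * m) ^ p = 1 := by
    have h := conj_pow (a := m⁻¹) (b := kA q x₀ c hx) (i := p)
    rw [inv_inv] at h
    rw [h, Cfsg.Agent.Lib.Helper20.UTLeaf.kA_pow_char, mul_one, inv_mul_cancel]
  have hpow : ((α : Matrix (Fin a) (Fin a) F) ⊗ₖ (β : Matrix (Fin b) (Fin b) F)) ^ p = 1 := by
    rw [← hαβ, ← Units.val_pow_eq_pow_val, hkp, Units.val_one]
  -- `m (k - 1) = (kA - 1) m`
  have hD : ∀ v, mv m (mv (m⁻¹ * kA q x₀ c hx * m) v - v) = pt x₀ (c • ctA (cj q x₀) (mv m v)) := by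
    intro v
    rw [mv_mul, mv_mul, Cfsg.Agent.Lib.Helper20.UTLeaf.mv_kA, mv_add, mv_inv_mv, add_sub_cancel_left,
      mv_mv_inv, pt_smul_right]
  have hmv : ∀ v, ((α : Matrix (Fin a) (Fin a) F) ⊗ₖ (β : Matrix (Fin b) (Fin b) F)) *ᵥ v =
      mv (m⁻¹ * kA q x₀ c hx * m) v := by
    intro v
    rw [← hαβ]
    rfl
  -- `k ≠ 1`
  have hne : (α : Matrix (Fin a) (Fin a) F) ⊗ₖ (β : Matrix (Fin b) (Fin b) F) ≠ 1 := by
    intro h1
    obtain ⟨i, hi⟩ := Function.ne_iff.mp hx0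
    have hi' : x₀ i ≠ 0 := hi
    obtain ⟨y₁, hy₁⟩ : ∃ y₁ : Fin b → F, y₁ ≠ 0 :=
      ⟨Pi.single (⟨0, by omega⟩ : Fin b) (1 : F), by
        intro h
        have := congrFun h (⟨0, by omega⟩ : Fin b)
        simp at this⟩
    have h2 := hD (mv m⁻¹ (pt (Pi.single i (1 : F)) y₁))
    rw [← hmv, h1, Matrix.one_mulVec, sub_self, mv_zero, mv_mv_inv, ctA_cj_pt] at h2
    have h3 : hv q (Pi.single i (1 : F)) x₀ = (x₀ i) ^ q := by
      unfold hv
      rw [Finset.sum_eq_single i]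
      · simp
      · intro j _ hj; simp [hj]
      · simp
    rw [h3] at h2
    rcases (pt_eq_zero_iff _ _).mp h2.symm with h | h
    · exact hx0 h
    · rw [smul_smul] at h
      exact hy₁ ((smul_eq_zero.mp h).resolve_left (mul_ne_zero hc0 (pow_ne_zero q hi')))
  -- the image of `k - 1` is totally isotropic
  have hiso : ∀ v : Idx a b → F,
      hv q (((α : Matrix (Fin a) (Fin a) F) ⊗ₖ (β : Matrix (Fin b) (Fin b) F)) *ᵥ v - v)
        (((α : Matrix (Fin a) (Fin a) F) ⊗ₖ (β : Matrix (Fin b) (Fin b) F)) *ᵥ v - v) = 0 := by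
    intro v
    rw [hmv, ← Cfsg.Agent.Lib.Helper20.UTLeaf.iso_of_mem hc hm, hD, hv_pt, hx, zero_mul]
  obtain ⟨x, y, u, hx0', hy0, hyy, hu⟩ :=
    exists_pure_sub hc.hF (by omega) (by omega) p (α : Matrix (Fin a) (Fin a) F)
      (β : Matrix (Fin b) (Fin b) F) hpow hne hiso
  have hfin : mv m (pt x y) = pt x₀ (c • ctA (cj q x₀) (mv m u)) := by
    rw [← hu, hmv, hD]
  exact Cfsg.Agent.Lib.Helper20.UTLeaf.no_pure hc hNS hm hmK hx0' hy0 hyy hfin

end Cfsg.Agent.Lib.Helper15.UTLeaf
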