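import Mathlib
import Cfsg.Agent.Lib.Helper15.UnGenA
import Cfsg.Agent.Lib.Helper15.OrGenB

/-!
helper15: the upper unitriangular subgroup of the unitary group `GUJ σ n` is generated by the
positive root elements (row reduction).
-/

set_option autoImplicit false

namespace Cfsg.Agent.Lib.Helper15.UnGen

open Matrix Equiv Cfsg Cfsg.Agent.Lib.Helper6.GLBN Cfsg.Agent.Lib.Helper15.UnBN
  Cfsg.Agent.Lib.Helper15.OrBN Cfsg.Agent.Lib.Helper15.OrGen

variable {n : ℕ} {F : Type*} [Field F] {σ : F →+* F}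

/-- the short root elements, in the group -/
def xsG (hσ : ∀ x, σ (σ x) = x) (p q : Fin n) (hpq : p ≠ q) (hp : p ≠ p.rev) (hq : q ≠ q.rev)
    (t : F) : ↥(GUJ σ n) :=
  ⟨xsU σ p q hpq t, xsU_mem hσ hpq hp hq t⟩

/-- the long root elements, in the group -/
def lgG (k : Fin n) (hk : k ≠ k.rev) (t : F) (ht : t + σ t = 0) : ↥(GUJ σ n) :=
  ⟨xGL k k.rev hk t, xGL_long_mem hk ht⟩

/-- the elements of the odd root groups, in the group -/
def euG (hσ : ∀ x, σ (σ x) = x) {c : Fin n} (hc : c.rev = c) (q : Fin n) (hq : q ≠ c) (a b : F)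
    (h : b + σ b + a * σ a = 0) : ↥(GUJ σ n) :=
  ⟨eU hc q hq a (σ a) b, eU_mem hc hσ q hq h⟩

/-- if a row of a unitary matrix is trivial then so is the mirror column -/
lemma col_of_row' (hσ : ∀ x, σ (σ x) = x) {g : GL (Fin n) F} (hg : g ∈ GUJ σ n) {i : Fin n}
    (hi : ∀ j, (g : Matrix (Fin n) (Fin n) F) i j = if i = j then 1 else 0) (l : Fin n) :
    (g : Matrix (Fin n) (Fin n) F) l i.rev = if l = i.rev then 1 else 0 := by
  have h := GUJ_entry' hg i l.rev
  rw [Finset.sum_eq_single i] at h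
  · rw [hi i, if_pos rfl, one_mul, Fin.rev_rev] at h
    have h' := congrArg σ h
    rw [hσ] at h'
    rw [h']
    by_cases e : i = l.rev
    · rw [if_pos e, if_pos (by rw [e, Fin.rev_rev]), map_one]
    · rw [if_neg e, if_neg, map_zero]
      intro e'
      apply e
      rw [e', Fin.rev_rev]
  · intro x _ hx
    rw [hi x, if_neg (Ne.symm hx), zero_mul]
  · intro h; exact absurd (Finset.mem_univ _) h

/-- the odd root elements above the diagonal are upper unitriangular -/
lemma euG_mem_UG (hσ : ∀ x, σ (σ x) = x) {c : Fin n} (hc : c.rev = c) {q : Fin n} (hqc : q < c)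
    (a b : F) (h : b + σ b + a * σ a = 0) : euG hσ hc q (ne_of_lt hqc) a b h ∈ UG σ n := by
  have hn := mid_val hc
  have h1 : c < q.rev := by
    rw [Fin.lt_def, Fin.val_rev]
    rw [Fin.lt_def] at hqc
    omega
  have h2 : q < q.rev := lt_trans hqc h1
  have hB1 := xGL_mem_Bup (F := F) hqc a
  have hB2 := xGL_mem_Bup (F := F) h1 (-σ a)
  have hB3 := xGL_mem_Bup (F := F) h2 (b + a * σ a)
  refine ⟨Subgroup.mul_mem _ (Subgroup.mul_mem _ hB1 hB2) hB3, fun i => ?_⟩
  show ((xGL q c _ a * xGL c q.rev _ (-σ a) * xGL q q.rev _ (b + a * σ a) : GL (Fin n) F) :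
    Matrix (Fin n) (Fin n) F) i i = 1
  rw [Cfsg.Agent.Lib.Helper6.GLSt.Bup_mul_diag (Subgroup.mul_mem _ hB1 hB2) hB3,
    Cfsg.Agent.Lib.Helper6.GLSt.Bup_mul_diag hB1 hB2, xGL_diag, xGL_diag, xGL_diag, mul_one,
    mul_one]

lemma lgG_mem_UG {k : Fin n} (hk : k < k.rev) (t : F) (ht : t + σ t = 0) :
    lgG k (ne_of_lt hk) t ht ∈ UG σ n :=
  ⟨xGL_mem_Bup hk t, fun i => xGL_diag (ne_of_lt hk) t i⟩

section reduce

variable (hσ : ∀ x, σ (σ x) = x) (H : Subgroup ↥(GUJ σ n))

/-- one step of the reduction of the row `k`: a short root element -/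
lemma step_row_xs
    (hX : ∀ (p q : Fin n) (hpq : p < q) (hp : p ≠ p.rev) (hq : q ≠ q.rev) (_ : q < p.rev) (t : F),
      xsG hσ p q (ne_of_lt hpq) hp hq t ∈ H)
    {k l : ℕ} (hkl : k < l) (hl : l + k + 1 < n) (hlc : 2 * l + 1 ≠ n)
    (u : ↥(GUJ σ n)) (hu : u ∈ UG σ n) (hP : RowPat (mat u) k l) :
    ∃ h ∈ H, h ∈ UG σ n ∧ RowPat (mat (h * u)) k (l + 1) := by
  have hkn : k < n := by omega
  have hln : l < n := by omega
  obtain ⟨p, hpv⟩ : ∃ p : Fin n, p.val = k := ⟨⟨k, hkn⟩, rfl⟩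
  obtain ⟨q, hqv⟩ : ∃ q : Fin n, q.val = l := ⟨⟨l, hln⟩, rfl⟩
  have hpq : p < q := by rw [Fin.lt_def]; omega
  have hp : p ≠ p.rev := by
    apply Fin.ne_of_val_ne
    rw [Fin.val_rev]
    omega
  have hq : q ≠ q.rev := by
    apply Fin.ne_of_val_ne
    rw [Fin.val_rev]
    omega
  have hqp : q < p.rev := by rw [Fin.lt_def, Fin.val_rev]; omega
  have hqr : q.rev.val = n - (l + 1) := by rw [Fin.val_rev, hqv]
  have hupper : ∀ i j : Fin n, j < i → mat u i j = 0 := fun i j hji => (mem_Bup.mp hu.1) i j hji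
  have hdiag : ∀ i : Fin n, mat u i i = 1 := fun i => hu.2 i
  set t : F := -(mat u p q) with ht
  have hmul : ∀ a j, mat (xsG hσ p q (ne_of_lt hpq) hp hq t * u) a j =
      mat u a j + (if a = q.rev then -σ t * mat u p.rev j else 0) +
        (if a = p then t * mat u q j else 0) := fun a j =>
    xsU_mul_apply (σ := σ) (ne_of_lt hpq) hq t (mat u) a j
  refine ⟨xsG hσ p q (ne_of_lt hpq) hp hq t, hX p q hpq hp hq hqp _, ?_, ?_⟩
  · exact xsU_mem_UG hσ hpq hp hq _
  · refine ⟨fun i j hi => ?_, fun i j hi hj1 hj2 => ?_⟩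
    · rw [hmul, if_neg, if_neg, add_zero, add_zero]
      · exact hP.1 i j hi
      · intro e
        rw [e] at hi
        omega
      · intro e
        rw [e] at hi
        omega
    · have hip : i = p := Fin.ext (by omega)
      rw [hmul, if_neg, if_pos hip, add_zero]
      · by_cases hjl : j.val < l
        · rw [hP.2 i j hi hj1 hjl, hupper q j (by rw [Fin.lt_def]; omega), mul_zero, add_zero]
        · have hjq : j = q := Fin.ext (by omega)
          rw [hjq, hdiag q, hip, ht]
          ring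
      · intro e
        rw [e] at hi
        omega

/-- one step of the reduction of the row `k`: an odd root element -/
lemma step_row_odd (htr : ∀ r, σ r = r → ∃ z, z + σ z = r)
    (hOdd : ∀ (c : Fin n) (hc : c.rev = c) (q : Fin n) (hqc : q < c) (a b : F)
      (h : b + σ b + a * σ a = 0), euG hσ hc q (ne_of_lt hqc) a b h ∈ H)
    {k l : ℕ} (hkl : k < l) (hlc : 2 * l + 1 = n)
    (u : ↥(GUJ σ n)) (hu : u ∈ UG σ n) (hP : RowPat (mat u) k l) :
    ∃ h ∈ H, h ∈ UG σ n ∧ RowPat (mat (h * u)) k (l + 1) := by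
  have hkn : k < n := by omega
  have hln : l < n := by omega
  obtain ⟨p, hpv⟩ : ∃ p : Fin n, p.val = k := ⟨⟨k, hkn⟩, rfl⟩
  obtain ⟨c, hcv⟩ : ∃ c : Fin n, c.val = l := ⟨⟨l, hln⟩, rfl⟩
  have hc : c.rev = c := by
    apply Fin.ext
    rw [Fin.val_rev]
    omega
  have hpc : p < c := by rw [Fin.lt_def]; omega
  have hpr : p.rev.val = n - (k + 1) := by rw [Fin.val_rev, hpv]
  have hupper : ∀ i j : Fin n, j < i → mat u i j = 0 := fun i j hji => (mem_Bup.mp hu.1) i j hji
  have hdiag : ∀ i : Fin n, mat u i i = 1 := fun i => hu.2 i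
  set t : F := -(mat u p c) with ht
  obtain ⟨b, hb⟩ := htr (-(t * σ t)) (by rw [map_neg, map_mul, hσ]; ring)
  have hb' : b + σ b + t * σ t = 0 := by rw [hb]; ring
  have hmul : ∀ a j, mat (euG hσ hc p (ne_of_lt hpc) t b hb' * u) a j =
      mat u a j + (if a = p then t * mat u c j + b * mat u p.rev j else 0) +
        (if a = c then -σ t * mat u p.rev j else 0) := fun a j =>
    eU_mul_apply hc p (ne_of_lt hpc) t (σ t) b (mat u) a j
  refine ⟨euG hσ hc p (ne_of_lt hpc) t b hb', hOdd c hc p hpc _ _ _, euG_mem_UG hσ hc hpc _ _ _, ?_⟩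
  refine ⟨fun i j hi => ?_, fun i j hi hj1 hj2 => ?_⟩
  · rw [hmul, if_neg, if_neg, add_zero, add_zero]
    · exact hP.1 i j hi
    · intro e
      rw [e] at hi
      omega
    · intro e
      rw [e] at hi
      omega
  · have hip : i = p := Fin.ext (by omega)
    rw [hmul, if_pos hip, if_neg, add_zero]
    · by_cases hjl : j.val < l
      · rw [hP.2 i j hi hj1 hjl, hupper c j (by rw [Fin.lt_def]; omega),
          hupper p.rev j (by rw [Fin.lt_def]; omega), mul_zero, mul_zero, add_zero, add_zero]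
      · have hjq : j = c := Fin.ext (by omega)
        rw [hjq, hdiag c, hupper p.rev c (by rw [Fin.lt_def]; omega), hip, ht]
        ring
    · intro e
      rw [e] at hi
      omega

/-- the last step of the reduction of the row `k`: a long root element -/
lemma step_row_long'
    (hLg : ∀ (k : Fin n) (hk : k < k.rev) (t : F) (ht : t + σ t = 0),
      lgG k (ne_of_lt hk) t ht ∈ H)
    {k : ℕ} (hk : 2 * k + 1 < n)
    (u : ↥(GUJ σ n)) (hu : u ∈ UG σ n) (hP : RowPat (mat u) k (n - 1 - k)) :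
    ∃ h ∈ H, h ∈ UG σ n ∧ RowPat (mat (h * u)) k (n - k) := by
  have hkn : k < n := by omega
  obtain ⟨p, hpv⟩ : ∃ p : Fin n, p.val = k := ⟨⟨k, hkn⟩, rfl⟩
  have hpr : p.rev.val = n - (k + 1) := by rw [Fin.val_rev, hpv]
  have hlt : p < p.rev := by rw [Fin.lt_def]; omega
  have hne : p ≠ p.rev := ne_of_lt hlt
  have hupper : ∀ i j : Fin n, j < i → mat u i j = 0 := fun i j hji => (mem_Bup.mp hu.1) i j hji
  have hdiag : ∀ i : Fin n, mat u i i = 1 := fun i => hu.2 i
  -- the mirror entry is skew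
  have hskew : mat u p p.rev + σ (mat u p p.rev) = 0 := by
    have h := row_relation (σ := σ) u.2 hne
    rw [sum_eq_two p p.rev hne] at h
    · rw [Fin.rev_rev] at h
      have h2 : ((u : GL (Fin n) F) : Matrix (Fin n) (Fin n) F) p p = 1 := hu.2 p
      rw [h2, map_one, mul_one, one_mul] at h
      rw [← h]
      show ((u : GL (Fin n) F) : Matrix (Fin n) (Fin n) F) p p.rev +
        σ (((u : GL (Fin n) F) : Matrix (Fin n) (Fin n) F) p p.rev) = _
      ring
    · intro l hl1 hl2
      have hlv : l.val ≠ k := fun e => hl1 (Fin.ext (by omega))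
      have hlv' : l.val ≠ n - (k + 1) := fun e => hl2 (Fin.ext (by omega))
      have hlr : l.rev.val = n - (l.val + 1) := Fin.val_rev l
      have hl2' := l.2
      by_cases c1 : l.val < k
      · have : mat u p l = 0 := hupper p l (by rw [Fin.lt_def]; omega)
        show mat u p l * σ (mat u p l.rev) = 0
        rw [this, zero_mul]
      · by_cases c2 : l.val < n - (k + 1)
        · have : mat u p l = 0 := hP.2 p l hpv (by omega) (by omega)
          show mat u p l * σ (mat u p l.rev) = 0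
          rw [this, zero_mul]
        · have : mat u p l.rev = 0 := hupper p l.rev (by rw [Fin.lt_def]; omega)
          show mat u p l * σ (mat u p l.rev) = 0
          rw [this, map_zero, mul_zero]
  set t : F := -(mat u p p.rev) with ht
  have hts : t + σ t = 0 := by
    rw [ht, map_neg]
    linear_combination (-1 : F) * hskew
  have hmul : ∀ a j, mat (lgG p hne t hts * u) a j =
      mat u a j + (if a = p then t * mat u p.rev j else 0) := fun a j =>
    xGL_mul_apply hne t (mat u) a j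
  refine ⟨lgG p hne t hts, hLg p hlt t hts, lgG_mem_UG hlt t hts, ?_⟩
  refine ⟨fun i j hi => ?_, fun i j hi hj1 hj2 => ?_⟩
  · rw [hmul, if_neg, add_zero]
    · exact hP.1 i j hi
    · intro e
      rw [e] at hi
      omega
  · have hip : i = p := Fin.ext (by omega)
    rw [hmul, if_pos hip]
    by_cases hjl : j.val < n - 1 - k
    · rw [hP.2 i j hi hj1 hjl, hupper p.rev j (by rw [Fin.lt_def]; omega), mul_zero, add_zero]
    · have hjq : j = p.rev := Fin.ext (by omega)
      rw [hjq, hdiag p.rev, hip, ht]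
      ring

include hσ in
/-- the end of the reduction of the row `k` -/
lemma rowTriv_succ' {k : ℕ} (hk : 2 * k + 1 < n)
    (u : ↥(GUJ σ n)) (hu : u ∈ UG σ n) (hP : RowPat (mat u) k (n - k)) :
    RowTriv (mat u) (k + 1) := by
  have hupper : ∀ i j : Fin n, j < i → mat u i j = 0 := fun i j hji => (mem_Bup.mp hu.1) i j hji
  intro i j hi
  by_cases hik : i.val < k
  · exact hP.1 i j hik
  have hik' : i.val = k := by omega
  by_cases c0 : j.val < k
  · rw [hupper i j (by rw [Fin.lt_def]; omega), if_neg]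
    intro e
    rw [e] at hik'
    omega
  by_cases c1 : j.val = k
  · have : i = j := Fin.ext (by omega)
    rw [if_pos this, ← this]
    exact hu.2 i
  have hij : i ≠ j := fun e => c1 (by rw [← e, hik'])
  rw [if_neg hij]
  by_cases c2 : j.val < n - k
  · exact hP.2 i j hik' (by omega) c2
  · -- the column `j` is the mirror of a trivial row
    have hjr : j.rev.val = n - (j.val + 1) := Fin.val_rev j
    have hrow : ∀ x, ((u : GL (Fin n) F) : Matrix (Fin n) (Fin n) F) j.rev x =
        if j.rev = x then 1 else 0 := fun x => hP.1 j.rev x (by have := j.2; omega)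
    have := col_of_row' hσ u.2 hrow i
    rw [Fin.rev_rev] at this
    rw [if_neg hij] at this
    exact this

/-- the reduction of the row `k` -/
lemma reduce_row' (htr : ∀ r, σ r = r → ∃ z, z + σ z = r)
    (hX : ∀ (p q : Fin n) (hpq : p < q) (hp : p ≠ p.rev) (hq : q ≠ q.rev) (_ : q < p.rev) (t : F),
      xsG hσ p q (ne_of_lt hpq) hp hq t ∈ H)
    (hOdd : ∀ (c : Fin n) (hc : c.rev = c) (q : Fin n) (hqc : q < c) (a b : F)
      (h : b + σ b + a * σ a = 0), euG hσ hc q (ne_of_lt hqc) a b h ∈ H)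
    {k : ℕ} (hk : 2 * k + 1 < n) (u : ↥(GUJ σ n)) (hu : u ∈ UG σ n) (hT : RowTriv (mat u) k) :
    ∀ e l : ℕ, l = k + 1 + e → l + k + 1 ≤ n →
      ∃ h ∈ H, h ∈ UG σ n ∧ RowPat (mat (h * u)) k l := by
  intro e
  induction e with
  | zero =>
    intro l hl _
    refine ⟨1, Subgroup.one_mem _, Subgroup.one_mem _, ?_⟩
    rw [one_mul]
    refine ⟨hT, fun i j _ h1 h2 => ?_⟩
    omega
  | succ e ihe =>
    intro l hl hln
    obtain ⟨h1, hh1, hu1, hP1⟩ := ihe (l - 1) (by omega) (by omega)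
    have hu' : h1 * u ∈ UG σ n := Subgroup.mul_mem _ hu1 hu
    by_cases hlc : 2 * (l - 1) + 1 = n
    · obtain ⟨h2, hh2, hu2, hP2⟩ := step_row_odd hσ H htr hOdd (by omega) hlc (h1 * u) hu' hP1
      refine ⟨h2 * h1, Subgroup.mul_mem _ hh2 hh1, Subgroup.mul_mem _ hu2 hu1, ?_⟩
      rw [mul_assoc]
      have e' : l = l - 1 + 1 := by omega
      rw [e']
      exact hP2
    · obtain ⟨h2, hh2, hu2, hP2⟩ := step_row_xs hσ H hX (by omega) (by omega) hlc
        (h1 * u) hu' hP1
      refine ⟨h2 * h1, Subgroup.mul_mem _ hh2 hh1, Subgroup.mul_mem _ hu2 hu1, ?_⟩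
      rw [mul_assoc]
      have e' : l = l - 1 + 1 := by omega
      rw [e']
      exact hP2

/-- the reduction of the first `k` rows -/
lemma reduce_rows' (htr : ∀ r, σ r = r → ∃ z, z + σ z = r)
    (hX : ∀ (p q : Fin n) (hpq : p < q) (hp : p ≠ p.rev) (hq : q ≠ q.rev) (_ : q < p.rev) (t : F),
      xsG hσ p q (ne_of_lt hpq) hp hq t ∈ H)
    (hLg : ∀ (k : Fin n) (hk : k < k.rev) (t : F) (ht : t + σ t = 0),
      lgG k (ne_of_lt hk) t ht ∈ H)
    (hOdd : ∀ (c : Fin n) (hc : c.rev = c) (q : Fin n) (hqc : q < c) (a b : F)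
      (h : b + σ b + a * σ a = 0), euG hσ hc q (ne_of_lt hqc) a b h ∈ H)
    (u : ↥(GUJ σ n)) (hu : u ∈ UG σ n) :
    ∀ k : ℕ, 2 * k ≤ n → ∃ h ∈ H, h ∈ UG σ n ∧ RowTriv (mat (h * u)) k := by
  intro k
  induction k with
  | zero =>
    intro _
    refine ⟨1, Subgroup.one_mem _, Subgroup.one_mem _, fun i j hi => ?_⟩
    omega
  | succ k ihk =>
    intro hk
    obtain ⟨h1, hh1, hu1, hT1⟩ := ihk (by omega)
    have hu' : h1 * u ∈ UG σ n := Subgroup.mul_mem _ hu1 hu
    obtain ⟨h2, hh2, hu2, hP2⟩ := reduce_row' hσ H htr hX hOdd (by omega) (h1 * u) hu' hT1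
      (n - 1 - k - (k + 1)) (n - 1 - k) (by omega) (by omega)
    have hu'' : h2 * (h1 * u) ∈ UG σ n := Subgroup.mul_mem _ hu2 hu'
    obtain ⟨h3, hh3, hu3, hP3⟩ := step_row_long' H hLg (by omega) (h2 * (h1 * u)) hu'' hP2
    refine ⟨h3 * (h2 * h1), Subgroup.mul_mem _ hh3 (Subgroup.mul_mem _ hh2 hh1),
      Subgroup.mul_mem _ hu3 (Subgroup.mul_mem _ hu2 hu1), ?_⟩
    have e : h3 * (h2 * h1) * u = h3 * (h2 * (h1 * u)) := by group
    rw [e]
    exact rowTriv_succ' hσ (by omega) _ (Subgroup.mul_mem _ hu3 hu'') hP3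

/-- **the upper unitriangular subgroup is generated by the positive root elements** -/
theorem UG_le_of_roots' (htr : ∀ r, σ r = r → ∃ z, z + σ z = r)
    (hX : ∀ (p q : Fin n) (hpq : p < q) (hp : p ≠ p.rev) (hq : q ≠ q.rev) (_ : q < p.rev) (t : F),
      xsG hσ p q (ne_of_lt hpq) hp hq t ∈ H)
    (hLg : ∀ (k : Fin n) (hk : k < k.rev) (t : F) (ht : t + σ t = 0),
      lgG k (ne_of_lt hk) t ht ∈ H)
    (hOdd : ∀ (c : Fin n) (hc : c.rev = c) (q : Fin n) (hqc : q < c) (a b : F)
      (h : b + σ b + a * σ a = 0), euG hσ hc q (ne_of_lt hqc) a b h ∈ H) :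
    UG σ n ≤ H := by
  intro u hu
  obtain ⟨h, hh, hhU, hT⟩ := reduce_rows' hσ H htr hX hLg hOdd u hu (n / 2) (by omega)
  have hu' : h * u ∈ UG σ n := Subgroup.mul_mem _ hhU hu
  have hupper : ∀ i j : Fin n, j < i → mat (h * u) i j = 0 :=
    fun i j hji => (mem_Bup.mp hu'.1) i j hji
  have h1 : h * u = 1 := by
    apply eq_one_of_offdiag hu'
    intro i j hij
    by_cases c1 : i.val < n / 2
    · have := hT i j c1
      rw [if_neg hij] at this
      exact this
    · by_cases c2 : j < i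
      · exact hupper i j c2
      · have hji : i.val < j.val := by
          rw [Fin.lt_def] at c2
          have : i.val ≠ j.val := fun e => hij (Fin.ext e)
          omega
        have hjr : j.rev.val = n - (j.val + 1) := Fin.val_rev j
        have hrow : ∀ x, ((h * u : ↥(GUJ σ n)) : GL (Fin n) F).1 j.rev x =
            if j.rev = x then 1 else 0 := fun x => hT j.rev x (by have := j.2; omega)
        have := col_of_row' hσ (h * u).2 hrow i
        rw [Fin.rev_rev, if_neg hij] at this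
        exact this
  have : u = h⁻¹ := by
    rw [eq_inv_iff_mul_eq_one, ← h1]
    have := mul_eq_one_iff_eq_inv.mp h1
    rw [this]
    group
  rw [this]
  exact Subgroup.inv_mem _ hh

end reduce

end Cfsg.Agent.Lib.Helper15.UnGen
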