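import Mathlib
import Cfsg.Agent.Lib.Helper15.UnGenB
import Cfsg.Agent.Lib.Helper15.OrGenC
import Cfsg.Agent.Lib.Helper15.UnBNK

/-!
helper15: in the unitary group `GUJ σ n`, a subgroup `R` containing the upper and the lower
unitriangular elements is normal, and the group is the product of `R` and the torus.
-/

set_option autoImplicit false

namespace Cfsg.Agent.Lib.Helper15.UnGen

open Matrix Equiv Cfsg Cfsg.Agent.Lib.Helper3.BN Cfsg.Agent.Lib.Helper6.BNSt
  Cfsg.Agent.Lib.Helper6.GLBN Cfsg.Agent.Lib.Helper6.GLSt Cfsg.Agent.Lib.Helper15.UnBN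
  Cfsg.Agent.Lib.Helper15.OrBN Cfsg.Agent.Lib.Helper15.OrGen
open Cfsg.Agent.Lib.Helper15.SpBN (conj_monoGL_apply)
open Cfsg.Agent.Lib.Helper16.FusSU (InvOK)

variable {n : ℕ} {F : Type*} [Field F] {σ : F →+* F}

/-- lower unitriangular elements -/
def IsLowerU (y : ↥(GUJ σ n)) : Prop :=
  (∀ i j : Fin n, i < j → ((y : GL (Fin n) F) : Matrix (Fin n) (Fin n) F) i j = 0) ∧
    ∀ i : Fin n, ((y : GL (Fin n) F) : Matrix (Fin n) (Fin n) F) i i = 1

/-- entries of a transvection off the root position -/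
lemma xGL_apply_zero {p q : Fin n} (hpq : p ≠ q) (t : F) {i j : Fin n} (hij : i ≠ j)
    (h : ¬ (i = p ∧ j = q)) :
    ((xGL p q hpq t : GL (Fin n) F) : Matrix (Fin n) (Fin n) F) i j = 0 := by
  rw [coe_xGL, transvection_apply', if_neg hij, if_neg h, add_zero]

/-- the simple reflections lie in the product of the torus and a subgroup containing the upper
and lower unitriangular elements -/
lemma SG_subset_supU (hσ : InvOK σ) (R : Subgroup ↥(GUJ σ n)) (hU : UG σ n ≤ R)
    (hLow : ∀ y : ↥(GUJ σ n), IsLowerU y → y ∈ R) {s : ↥(GUJ σ n)}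
    (hs : s ∈ SG σ n) : s ∈ R ⊔ TG σ n := by
  have hinv := hσ.invol
  have hUle : UG σ n ≤ R ⊔ TG σ n := le_trans hU le_sup_left
  have hBle : BG σ n ≤ R ⊔ TG σ n := by
    intro b hb
    obtain ⟨u, hu, d, hd, rfl⟩ := exists_UG_mul_TG hb
    exact Subgroup.mul_mem _ (hUle hu) (Subgroup.mem_sup_right hd)
  have key : ∀ x y : ↥(GUJ σ n), x ∈ R ⊔ TG σ n →
      y ∈ R ⊔ TG σ n → s * x * y ∈ BG σ n →
      s ∈ R ⊔ TG σ n := by
    intro x y hx hy hb
    have e : s = (s * x * y) * y⁻¹ * x⁻¹ := by group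
    rw [e]
    exact Subgroup.mul_mem _ (Subgroup.mul_mem _ (hBle hb) (Subgroup.inv_mem _ hy))
      (Subgroup.inv_mem _ hx)
  obtain ⟨k, hk⟩ := hs
  rcases hk with ⟨k', hk', hkm, hs'⟩ | ⟨hl | ho, hs'⟩
  · obtain ⟨g1, g2, g3, g4, g5, g6, g7, g8⟩ := short_idx hk' hkm
    have hlt : k < k' := by rw [Fin.lt_def]; omega
    apply key ⟨xsU σ k k' g1 1, xsU_mem hinv g1 g3 g4 1⟩
      ⟨xsU σ k' k g1.symm (-(1 : F)⁻¹), xsU_mem hinv g1.symm g4 g3 _⟩
    · exact hUle (xsU_mem_UG hinv hlt g3 g4 1)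
    · apply Subgroup.mem_sup_left
      apply hLow
      refine ⟨?_, ?_⟩
      · intro i j hij
        exact xsU_lower hlt g3 _ hij
      · intro i
        exact xsU_diag g1.symm g3 _ i
    · rw [mem_BG, coe_mul3, hs']
      exact short_rank_one hk' hkm g1 one_ne_zero
  · obtain ⟨g1, g2, g3⟩ := long_idx hl
    obtain ⟨t, ht0, hts⟩ := hσ.sk
    have hσt0 : σ t ≠ 0 := fun e => ht0 ((map_eq_zero σ).mp e)
    have hts' : (-t⁻¹) + σ (-t⁻¹) = 0 := by
      rw [map_neg, map_inv₀]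
      field_simp
      linear_combination (-1 : F) * hts
    apply key ⟨xGL k k.rev g2 t, xGL_long_mem g2 hts⟩
      ⟨xGL k.rev k g2.symm (-t⁻¹), xGL_long_mem' g2.symm hts'⟩
    · exact hUle (lgG_mem_UG g3 t hts)
    · apply Subgroup.mem_sup_left
      apply hLow
      refine ⟨?_, ?_⟩
      · intro i j hij
        apply xGL_apply_zero g2.symm _ (ne_of_lt hij)
        rintro ⟨h1, h2⟩
        rw [h1, h2] at hij
        exact absurd hij (not_lt.mpr (le_of_lt g3))
      · intro i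
        exact xGL_diag g2.symm _ i
    · rw [mem_BG, coe_mul3, hs']
      exact long_rank_one hl g2 ht0
  · have hlt : k.val + 1 < n := by omega
    have hk' : (⟨k.val + 1, hlt⟩ : Fin n).val = k.val + 1 := rfl
    have hfix : σ (-1 : F) = -1 := by rw [map_neg, map_one]
    obtain ⟨z, hz⟩ := hσ.tr (-1) hfix
    have hz0 : z ≠ 0 := by
      intro e
      rw [e, map_zero, add_zero] at hz
      exact one_ne_zero (neg_eq_zero.mp hz.symm)
    have hσz0 : σ z ≠ 0 := fun e => hz0 ((map_eq_zero σ).mp e)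
    have hrel : z + σ z + 1 * σ 1 = 0 := by
      rw [map_one, hz]; ring
    have hrel' : (1 / σ z) + σ (1 / σ z) + (-1 / z) * σ (-1 / z) = 0 := by
      rw [map_div₀, map_div₀, map_neg, map_one, hinv]
      field_simp
      linear_combination hz
    have hy : lO hk' ho (-1 / z) (-σ 1 / σ z) (1 / σ z) ∈ GUJ σ n := by
      have := lO_mem hk' ho hinv hrel'
      rw [map_div₀, map_neg] at this
      exact this
    apply key ⟨uO hk' ho 1 (σ 1) z, uO_mem hk' ho hinv hrel⟩ ⟨_, hy⟩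
    · apply hUle
      exact ⟨uO_mem_Bup hk' ho _ _ _, fun i => uO_diag hk' ho _ _ _ i⟩
    · apply Subgroup.mem_sup_left
      apply hLow
      refine ⟨?_, ?_⟩
      · intro i j hij
        exact lO_lower hk' ho _ _ _ hij
      · intro i
        exact lO_diag hk' ho _ _ _ i
    · rw [mem_BG, coe_mul3, hs']
      exact odd_rank_one hk' ho hz0 hσz0 hrel

/-- the group is the product of the torus and such a subgroup -/
theorem sup_TG_eq_topU (hσ : InvOK σ) (R : Subgroup ↥(GUJ σ n)) (hU : UG σ n ≤ R)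
    (hLow : ∀ y : ↥(GUJ σ n), IsLowerU y → y ∈ R) : R ⊔ TG σ n = ⊤ := by
  rw [eq_top_iff, ← BG_sup_NG (σ := σ) (n := n) hσ.invol]
  apply sup_le
  · intro b hb
    obtain ⟨u, hu, d, hd, rfl⟩ := exists_UG_mul_TG hb
    exact Subgroup.mul_mem _ (Subgroup.mem_sup_left (hU hu)) (Subgroup.mem_sup_right hd)
  · apply sup_le
    · rw [Subgroup.closure_le]
      intro s hs
      exact SG_subset_supU hσ R hU hLow hs
    · exact le_sup_right

/-- the torus is commutative -/
lemma TG_commU (a b : ↥(GUJ σ n)) (ha : a ∈ TG σ n) (hb : b ∈ TG σ n) :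
    a * b = b * a := by
  obtain ⟨c, hc⟩ := mem_TG.mp ha
  obtain ⟨d, hd⟩ := mem_TG.mp hb
  apply Subtype.ext
  show (a : GL (Fin n) F) * (b : GL (Fin n) F) = (b : GL (Fin n) F) * (a : GL (Fin n) F)
  rw [hc, hd, monoGL_mul, monoGL_mul]
  congr 1
  funext j
  simp only [Perm.one_apply]
  exact mul_comm _ _

/-- conjugates of lower unitriangular elements by torus elements -/
lemma isLowerU_conj {t y : ↥(GUJ σ n)} (ht : t ∈ TG σ n) (hy : IsLowerU y) :
    IsLowerU (t⁻¹ * y * t) := by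
  obtain ⟨c, hc⟩ := mem_TG.mp ht
  have hent : ∀ i j : Fin n, (((t⁻¹ * y * t : ↥(GUJ σ n)) : GL (Fin n) F) :
      Matrix (Fin n) (Fin n) F) i j =
      ((c i)⁻¹ : Fˣ) * ((y : GL (Fin n) F) : Matrix (Fin n) (Fin n) F) i j * c j := by
    intro i j
    have := conj_monoGL_apply (1 : Perm (Fin n)) c (y : GL (Fin n) F) i j
    rw [← hc] at this
    exact this
  refine ⟨fun i j hij => ?_, fun i => ?_⟩
  · rw [hent, hy.1 i j hij, mul_zero, zero_mul]
  · rw [hent, hy.2 i, mul_one, ← Units.val_mul, inv_mul_cancel, Units.val_one]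

/-- the subgroup generated by the upper and the lower unitriangular elements -/
def RG (σ : F →+* F) (n : ℕ) : Subgroup ↥(GUJ σ n) :=
  Subgroup.closure ((UG σ n : Set ↥(GUJ σ n)) ∪ {y | IsLowerU y})

lemma UG_le_RG : UG σ n ≤ RG σ n := fun _ hx => Subgroup.subset_closure (Or.inl hx)

lemma lower_mem_RG {y : ↥(GUJ σ n)} (hy : IsLowerU y) : y ∈ RG σ n :=
  Subgroup.subset_closure (Or.inr hy)

lemma RG_sup_TG (hσ : InvOK σ) : RG σ n ⊔ TG σ n = ⊤ :=
  sup_TG_eq_topU hσ _ UG_le_RG (fun _ hy => lower_mem_RG hy)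

/-- the torus normalises `RG` -/
lemma TG_conj_RG {t : ↥(GUJ σ n)} (ht : t ∈ TG σ n) :
    ∀ x ∈ RG σ n, t * x * t⁻¹ ∈ RG σ n := by
  apply conj_mem_closure
  rintro s (hs | hs)
  · apply Subgroup.subset_closure
    left
    exact UG_conj_mem (TG_le_BG ht) hs
  · apply Subgroup.subset_closure
    right
    have := isLowerU_conj (Subgroup.inv_mem _ ht) hs
    rw [inv_inv] at this
    exact this

/-- `RG` is a normal subgroup -/
lemma RG_normal (hσ : InvOK σ) : (RG σ n).Normal := by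
  have hN : TG σ n ≤ Subgroup.normalizer (RG σ n : Set ↥(GUJ σ n)) := by
    intro t ht
    rw [Subgroup.mem_normalizer_iff]
    intro x
    constructor
    · exact TG_conj_RG ht x
    · intro hx
      have := TG_conj_RG (Subgroup.inv_mem _ ht) _ hx
      have e : t⁻¹ * (t * x * t⁻¹) * t⁻¹⁻¹ = x := by group
      rw [e] at this
      exact this
  rw [← Subgroup.normalizer_eq_top_iff, eq_top_iff, ← RG_sup_TG hσ]
  exact sup_le Subgroup.le_normalizer hN

open scoped Pointwise in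
/-- every element is the product of an element of `RG` and a torus element -/
lemma exists_RG_mul_TG (hσ : InvOK σ) (g : ↥(GUJ σ n)) :
    ∃ r ∈ RG σ n, ∃ t ∈ TG σ n, g = r * t := by
  have := RG_normal (n := n) hσ
  have hg : g ∈ ((RG σ n ⊔ TG σ n : Subgroup ↥(GUJ σ n)) : Set ↥(GUJ σ n)) := by
    rw [RG_sup_TG hσ]; trivial
  rw [Subgroup.normal_mul] at hg
  obtain ⟨r, hr, t, ht, e⟩ := Set.mem_mul.mp hg
  exact ⟨r, hr, t, ht, e.symm⟩

end Cfsg.Agent.Lib.Helper15.UnGen
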