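import Mathlib
import Cfsg.Agent.Lib.Helper15.UnGenC

/-!
helper15: in the unitary group `GUJ σ n`, the elements of determinant one lie in every subgroup
containing the upper and the lower unitriangular elements.
-/

set_option autoImplicit false

namespace Cfsg.Agent.Lib.Helper15.UnGen

open Matrix Equiv Cfsg Cfsg.Agent.Lib.Helper6.GLBN Cfsg.Agent.Lib.Helper6.GLSt
  Cfsg.Agent.Lib.Helper15.UnBN Cfsg.Agent.Lib.Helper15.OrBN Cfsg.Agent.Lib.Helper15.OrGen
open Cfsg.Agent.Lib.Helper16.FusSU (InvOK UJ mem_UJ adj emb emb_mul diagonal_eq_emb cor corL corf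
  corLf cor_mem corL_mem dg_coe diag_mem_UJ exists_norm X3 Y3 W3 id3a id3b)

variable {n : ℕ} {F : Type*} [Field F] {σ : F →+* F}

/-! ### small matrix identities -/

lemma id4m (s t : F) (hs : s ≠ 0) (ht : t ≠ 0) :
    (transvection (0 : Fin 4) 1 s * transvection (2 : Fin 4) 3 (-t)) *
      (transvection (1 : Fin 4) 0 (-s⁻¹) * transvection (3 : Fin 4) 2 (- -t⁻¹)) *
      (transvection (0 : Fin 4) 1 s * transvection (2 : Fin 4) 3 (-t)) =
    diagonal ![s, s⁻¹, t, t⁻¹] *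
      ((transvection (0 : Fin 4) 1 1 * transvection (2 : Fin 4) 3 (-1)) *
      (transvection (1 : Fin 4) 0 (-1) * transvection (3 : Fin 4) 2 (- -1)) *
      (transvection (0 : Fin 4) 1 1 * transvection (2 : Fin 4) 3 (-1))) := by
  ext i j
  simp only [Matrix.mul_assoc, transvection_mul_apply', transvection_apply',
    Matrix.diagonal_mul]
  fin_cases i <;> fin_cases j <;> simp [hs, ht]

lemma id2m (e s : F) (he : e ≠ 0) (hs : s ≠ 0) :
    transvection (0 : Fin 2) 1 (e * s) * transvection (1 : Fin 2) 0 (-(e * s)⁻¹) *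
      transvection (0 : Fin 2) 1 (e * s) =
    diagonal ![s, s⁻¹] * (transvection (0 : Fin 2) 1 e * transvection (1 : Fin 2) 0 (-e⁻¹) *
      transvection (0 : Fin 2) 1 e) := by
  ext i j
  simp only [Matrix.mul_assoc, transvection_mul_apply', transvection_apply',
    Matrix.diagonal_mul]
  fin_cases i <;> fin_cases j <;> simp [he] <;> (try field_simp) <;> (try ring_nf)

lemma U3_eq_X3 (a ab b : F) : U3 a ab b = X3 a ab b := by
  ext i j
  fin_cases i <;> fin_cases j <;> simp [U3, X3]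

lemma L3_eq_Y3 (c cb d : F) : L3 c cb d = Y3 c cb d := by
  ext i j
  fin_cases i <;> fin_cases j <;> simp [L3, Y3]

/-! ### from `SL` to `GL` -/

/-- the subgroup of `SL` attached to a subgroup of the unitary group -/
def memSL (R : Subgroup ↥(GUJ σ n)) : Subgroup (SpecialLinearGroup (Fin n) F) :=
  (R.comap (toGUJ σ n)).map (UJ σ n).subtype

lemma mem_memSL {R : Subgroup ↥(GUJ σ n)} {x : SpecialLinearGroup (Fin n) F} (hx : x ∈ UJ σ n)
    (h : toGUJ σ n ⟨x, hx⟩ ∈ R) : x ∈ memSL R :=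
  ⟨⟨x, hx⟩, h, rfl⟩

lemma of_mem_memSL {R : Subgroup ↥(GUJ σ n)} {x : SpecialLinearGroup (Fin n) F}
    (h : x ∈ memSL R) : ∃ hx : x ∈ UJ σ n, toGUJ σ n ⟨x, hx⟩ ∈ R := by
  obtain ⟨y, hy, rfl⟩ := h
  exact ⟨y.2, hy⟩

/-- a diagonal element of a rank one subgroup -/
lemma key_emb {r : ℕ} {ι : Fin r → Fin n} (hι : Function.Injective ι) (R : Subgroup ↥(GUJ σ n))
    (x : SpecialLinearGroup (Fin n) F) (hx : x ∈ UJ σ n) (d : Fin r → F)
    (hxd : (x : Matrix (Fin n) (Fin n) F) = emb ι (diagonal d))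
    (W1 Ws : ↥(GUJ σ n)) (h1R : W1 ∈ R) (hsR : Ws ∈ R) (A1 As : Matrix (Fin r) (Fin r) F)
    (hW1 : mat W1 = emb ι A1) (hWs : mat Ws = emb ι As) (hid : diagonal d * A1 = As) :
    x ∈ memSL R := by
  apply mem_memSL hx
  have e : toGUJ σ n ⟨x, hx⟩ * W1 = Ws := by
    apply Subtype.ext
    apply Units.ext
    show mat (toGUJ σ n ⟨x, hx⟩ * W1) = mat Ws
    rw [mat_mul, hW1, hWs]
    show (x : Matrix (Fin n) (Fin n) F) * emb ι A1 = emb ι As
    rw [hxd, ← emb_mul hι, hid]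
  have e' : toGUJ σ n ⟨x, hx⟩ = Ws * W1⁻¹ := by rw [← e]; group
  rw [e']
  exact Subgroup.mul_mem _ hsR (Subgroup.inv_mem _ h1R)

/-- the short root elements in `RG` -/
lemma xsG_mem_RG (hσ : ∀ x, σ (σ x) = x) {p q : Fin n} (hpq : p ≠ q) (hp : p ≠ p.rev)
    (hq : q ≠ q.rev) (t : F) : xsG hσ p q hpq hp hq t ∈ RG σ n := by
  rcases lt_or_gt_of_ne hpq with h | h
  · exact UG_le_RG (xsU_mem_UG hσ h hp hq t)
  · apply lower_mem_RG
    refine ⟨?_, ?_⟩
    · intro i j hij
      exact xsU_lower h hq _ hij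
    · intro i
      exact xsU_diag hpq hq _ i

/-- the coroot elements of the short simple roots -/
lemma cor_short_mem_RG (hσ : InvOK σ) (j j1 : Fin n) (hj : j.val + 1 = j1.val)
    (hn : 2 * j.val + 3 < n) (s : F) (hs : s ≠ 0) : cor σ j j1 s hs ∈ memSL (RG σ n) := by
  have hinv := hσ.invol
  have hs' : σ s ≠ 0 := fun h => hs ((map_eq_zero σ).mp h)
  obtain ⟨g1, g2, g3, g4, g5, g6, g7, g8⟩ := short_idx hj.symm hn
  have hinj := i4_injective g1 g3 g4 g2
  have E1 : ∀ a : F, xsU σ j j1 g1 a = embGL (i4 j j1) hinj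
      (xGL (0 : Fin 4) 1 (by decide) a * xGL (2 : Fin 4) 3 (by decide) (-σ a)) := by
    intro a
    rw [map_mul, embGL_xGL, embGL_xGL]
    rfl
  have E2 : ∀ c : F, xsU σ j1 j g1.symm c = embGL (i4 j j1) hinj
      (xGL (1 : Fin 4) 0 (by decide) c * xGL (3 : Fin 4) 2 (by decide) (-σ c)) := by
    intro c
    rw [map_mul, embGL_xGL, embGL_xGL]
    rfl
  have hdm : diagonal (corf σ j j1 s) =
      emb (i4 j j1) (diagonal ![s, s⁻¹, σ s, (σ s)⁻¹]) := by
    apply diagonal_eq_emb hinj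
    · intro α
      fin_cases α
      · show corf σ j j1 s j = s
        unfold corf
        rw [if_pos rfl, if_neg g1, if_neg g2, if_neg g3, mul_one, mul_one, mul_one]
      · show corf σ j j1 s j1 = s⁻¹
        unfold corf
        rw [if_neg g1.symm, if_pos rfl, if_neg g4, if_neg g5, one_mul, mul_one, mul_one]
      · show corf σ j j1 s j1.rev = σ s
        unfold corf
        rw [if_neg g2.symm, if_neg g4.symm, if_pos rfl, if_neg g6, one_mul, one_mul, mul_one]
      · show corf σ j j1 s j.rev = (σ s)⁻¹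
        unfold corf
        rw [if_neg g3.symm, if_neg g5.symm, if_neg g6.symm, if_pos rfl, one_mul, one_mul, one_mul]
    · intro x hx
      have h0 : x ≠ j := hx 0
      have h1 : x ≠ j1 := hx 1
      have h2 : x ≠ j1.rev := hx 2
      have h3 : x ≠ j.rev := hx 3
      unfold corf
      rw [if_neg h0, if_neg h1, if_neg h2, if_neg h3, one_mul, one_mul, one_mul]
  have hW : ∀ a : F, mat (xsG hinv j j1 g1 g3 g4 a * xsG hinv j1 j g1.symm g4 g3 (-a⁻¹) *
      xsG hinv j j1 g1 g3 g4 a) = emb (i4 j j1)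
      ((transvection (0 : Fin 4) 1 a * transvection (2 : Fin 4) 3 (-σ a)) *
      (transvection (1 : Fin 4) 0 (-a⁻¹) * transvection (3 : Fin 4) 2 (- -(σ a)⁻¹)) *
      (transvection (0 : Fin 4) 1 a * transvection (2 : Fin 4) 3 (-σ a))) := by
    intro a
    show ((xsU σ j j1 g1 a * xsU σ j1 j g1.symm (-a⁻¹) * xsU σ j j1 g1 a : GL (Fin n) F) :
      Matrix (Fin n) (Fin n) F) = _
    rw [E1, E2, ← map_mul, ← map_mul, coe_embGL, map_neg, map_inv₀]
    rfl
  have hmem : ∀ a : F, xsG hinv j j1 g1 g3 g4 a * xsG hinv j1 j g1.symm g4 g3 (-a⁻¹) *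
      xsG hinv j j1 g1 g3 g4 a ∈ RG σ n := by
    intro a
    exact Subgroup.mul_mem _ (Subgroup.mul_mem _ (xsG_mem_RG hinv g1 g3 g4 a)
      (xsG_mem_RG hinv g1.symm g4 g3 _)) (xsG_mem_RG hinv g1 g3 g4 a)
  refine key_emb hinj (RG σ n) _ (cor_mem hinv j j1 s hs) ![s, s⁻¹, σ s, (σ s)⁻¹] ?_ _ _
    (hmem 1) (hmem s) _ _ (hW 1) (hW s) ?_
  · unfold cor
    rw [dg_coe, hdm]
  · rw [map_one, inv_one, id4m s (σ s) hs hs']

/-- the long root elements in `RG` -/
lemma lgG_mem_RG {k : Fin n} (hk : k ≠ k.rev) (t : F) (ht : t + σ t = 0) :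
    lgG k hk t ht ∈ RG σ n := by
  rcases lt_or_gt_of_ne hk with h | h
  · exact UG_le_RG (lgG_mem_UG h t ht)
  · apply lower_mem_RG
    refine ⟨?_, ?_⟩
    · intro i j hij
      apply xGL_apply_zero hk _ (ne_of_lt hij)
      rintro ⟨h1, h2⟩
      rw [h1, h2] at hij
      exact absurd hij (not_lt.mpr (le_of_lt h))
    · intro i
      exact xGL_diag hk _ i

/-- the index injection of a `2 × 2` block -/
def i2 (p : Fin n) : Fin 2 → Fin n := ![p, p.rev]

lemma i2_injective {p : Fin n} (hp : p ≠ p.rev) : Function.Injective (i2 p) := by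
  intro α β hαβ
  fin_cases α <;> fin_cases β <;> simp [i2] at hαβ ⊢
  · exact hp hαβ
  · exact hp hαβ.symm

/-- the coroot elements of the long simple root -/
lemma cor_long_mem_RG (hσ : InvOK σ) (j : Fin n) (hj : 2 * j.val + 2 = n) (s : F) (hs : s ≠ 0)
    (hfix : σ s = s) : corL j s hs ∈ memSL (RG σ n) := by
  obtain ⟨g1, g2, g3⟩ := long_idx hj
  have hinj := i2_injective g2
  obtain ⟨e, he0, hes⟩ := hσ.sk
  have hsk1 : ∀ a : F, σ a = a → e * a + σ (e * a) = 0 := by
    intro a ha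
    rw [map_mul, ha]
    linear_combination a * hes
  have hsk2 : ∀ a : F, a ≠ 0 → σ a = a → -(e * a)⁻¹ + σ (-(e * a)⁻¹) = 0 := by
    intro a ha0 ha
    have hσe : σ e = -e := by linear_combination hes
    rw [map_neg, map_inv₀, map_mul, ha, hσe]
    field_simp
    ring
  have E1 : ∀ a : F, xGL j j.rev g2 a = embGL (i2 j) hinj (xGL (0 : Fin 2) 1 (by decide) a) := by
    intro a
    rw [embGL_xGL]
    rfl
  have E2 : ∀ c : F, xGL j.rev j g2.symm c =
      embGL (i2 j) hinj (xGL (1 : Fin 2) 0 (by decide) c) := by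
    intro c
    rw [embGL_xGL]
    rfl
  have hjr : j.rev ≠ j.rev.rev := by rw [Fin.rev_rev]; exact g2.symm
  have hdm : diagonal (corLf j s) = emb (i2 j) (diagonal ![s, s⁻¹]) := by
    apply diagonal_eq_emb hinj
    · intro α
      fin_cases α
      · show corLf j s j = s
        unfold corLf
        rw [if_pos rfl, if_neg g2, mul_one]
      · show corLf j s j.rev = s⁻¹
        unfold corLf
        rw [if_neg g2.symm, if_pos rfl, one_mul]
    · intro x hx
      have h0 : x ≠ j := hx 0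
      have h1 : x ≠ j.rev := hx 1
      unfold corLf
      rw [if_neg h0, if_neg h1, one_mul]
  -- the lower long root elements
  have hlow : ∀ (c : F) (hc : c + σ c = 0),
      (⟨xGL j.rev j g2.symm c, xGL_long_mem' g2.symm hc⟩ : ↥(GUJ σ n)) ∈ RG σ n := by
    intro c hc
    apply lower_mem_RG
    refine ⟨?_, ?_⟩
    · intro i k hik
      apply xGL_apply_zero g2.symm _ (ne_of_lt hik)
      rintro ⟨h1, h2⟩
      rw [h1, h2] at hik
      exact absurd hik (not_lt.mpr (le_of_lt g3))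
    · intro i
      exact xGL_diag g2.symm _ i
  have hW : ∀ (a : F) (ha0 : a ≠ 0) (ha : σ a = a),
      mat (lgG j g2 (e * a) (hsk1 a ha) *
        ⟨xGL j.rev j g2.symm (-(e * a)⁻¹), xGL_long_mem' g2.symm (hsk2 a ha0 ha)⟩ *
        lgG j g2 (e * a) (hsk1 a ha)) = emb (i2 j)
      (transvection (0 : Fin 2) 1 (e * a) * transvection (1 : Fin 2) 0 (-(e * a)⁻¹) *
        transvection (0 : Fin 2) 1 (e * a)) := by
    intro a ha0 ha
    show ((xGL j j.rev g2 (e * a) * xGL j.rev j g2.symm (-(e * a)⁻¹) * xGL j j.rev g2 (e * a) :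
      GL (Fin n) F) : Matrix (Fin n) (Fin n) F) = _
    rw [E1, E2, ← map_mul, ← map_mul, coe_embGL]
    rfl
  have hmem : ∀ (a : F) (ha0 : a ≠ 0) (ha : σ a = a),
      lgG j g2 (e * a) (hsk1 a ha) *
        ⟨xGL j.rev j g2.symm (-(e * a)⁻¹), xGL_long_mem' g2.symm (hsk2 a ha0 ha)⟩ *
        lgG j g2 (e * a) (hsk1 a ha) ∈ RG σ n := by
    intro a ha0 ha
    exact Subgroup.mul_mem _ (Subgroup.mul_mem _ (lgG_mem_RG g2 _ _) (hlow _ (hsk2 a ha0 ha)))
      (lgG_mem_RG g2 _ _)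
  refine key_emb hinj (RG σ n) _ (corL_mem j s hs hfix) ![s, s⁻¹] ?_ _ _
    (hmem 1 one_ne_zero (map_one σ)) (hmem s hs hfix) _ _ (hW 1 one_ne_zero (map_one σ))
    (hW s hs hfix) ?_
  · unfold corL
    rw [dg_coe, hdm]
  · rw [mul_one, id2m e s he0 hs]

/-- the coroot elements of the last simple root in odd dimension -/
lemma cor_odd_mem_RG (hσ : InvOK σ) (j j1 : Fin n) (hj : j.val + 1 = j1.val)
    (hn : 2 * j.val + 3 = n) (s : F) (hs : s ≠ 0) : cor σ j j1 s hs ∈ memSL (RG σ n) := by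
  have hinv := hσ.invol
  have hs' : σ s ≠ 0 := fun h => hs ((map_eq_zero σ).mp h)
  have hk : j1.val = j.val + 1 := hj.symm
  obtain ⟨g1, g2, g3, g4, g5, g6, g7⟩ := odd_idx hk hn
  have hinj := (io_strictMono hk hn).injective
  -- the monomial elements
  have hr1 : ∀ a b : F, b ≠ 0 → b + σ b + a * σ a = 0 →
      (1 / σ b) + σ (1 / σ b) + (-a / σ b) * σ (-a / σ b) = 0 := by
    intro a b hb h
    have hb' : σ b ≠ 0 := fun e => hb ((map_eq_zero σ).mp e)
    rw [map_div₀, map_div₀, map_neg, map_one, hinv]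
    field_simp
    linear_combination h
  have hr2 : ∀ a b : F, b ≠ 0 → b + σ b + a * σ a = 0 →
      (1 / σ b) + σ (1 / σ b) + (-a / b) * σ (-a / b) = 0 := by
    intro a b hb h
    have hb' : σ b ≠ 0 := fun e => hb ((map_eq_zero σ).mp e)
    rw [map_div₀, map_div₀, map_neg, map_one, hinv]
    field_simp
    linear_combination h
  have hlow : ∀ (c d : F) (h : d + σ d + c * σ c = 0),
      (⟨lO hk hn c (σ c) d, lO_mem hk hn hinv h⟩ : ↥(GUJ σ n)) ∈ RG σ n := by
    intro c d h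
    apply lower_mem_RG
    refine ⟨?_, ?_⟩
    · intro i k hik
      exact lO_lower hk hn _ _ _ hik
    · intro i
      exact lO_diag hk hn _ _ _ i
  have hup : ∀ (a b : F) (h : b + σ b + a * σ a = 0),
      (⟨uO hk hn a (σ a) b, uO_mem hk hn hinv h⟩ : ↥(GUJ σ n)) ∈ RG σ n := by
    intro a b h
    apply UG_le_RG
    exact ⟨uO_mem_Bup hk hn _ _ _, fun i => uO_diag hk hn _ _ _ i⟩
  have hW : ∀ (a b : F) (hb : b ≠ 0) (h : b + σ b + a * σ a = 0),
      mat ((⟨lO hk hn (-a / σ b) (σ (-a / σ b)) (1 / σ b), lO_mem hk hn hinv (hr1 a b hb h)⟩ :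
          ↥(GUJ σ n)) * ⟨uO hk hn a (σ a) b, uO_mem hk hn hinv h⟩ *
        ⟨lO hk hn (-a / b) (σ (-a / b)) (1 / σ b), lO_mem hk hn hinv (hr2 a b hb h)⟩) =
      emb (io j j1) (W3 b (σ b)) := by
    intro a b hb h
    have hb' : σ b ≠ 0 := fun e => hb ((map_eq_zero σ).mp e)
    show ((lO hk hn (-a / σ b) (σ (-a / σ b)) (1 / σ b) : GL (Fin n) F) :
        Matrix (Fin n) (Fin n) F) * ((uO hk hn a (σ a) b : GL (Fin n) F) :
        Matrix (Fin n) (Fin n) F) * ((lO hk hn (-a / b) (σ (-a / b)) (1 / σ b) : GL (Fin n) F) :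
        Matrix (Fin n) (Fin n) F) = _
    rw [coe_lO, coe_uO, coe_lO, ← emb_mul hinj, ← emb_mul hinj, U3_eq_X3, L3_eq_Y3, L3_eq_Y3,
      map_div₀, map_div₀, map_neg, hinv, id3a a (σ a) b (σ b) hb hb' h]
  have hmem : ∀ (a b : F) (hb : b ≠ 0) (h : b + σ b + a * σ a = 0),
      (⟨lO hk hn (-a / σ b) (σ (-a / σ b)) (1 / σ b), lO_mem hk hn hinv (hr1 a b hb h)⟩ :
          ↥(GUJ σ n)) * ⟨uO hk hn a (σ a) b, uO_mem hk hn hinv h⟩ *
        ⟨lO hk hn (-a / b) (σ (-a / b)) (1 / σ b), lO_mem hk hn hinv (hr2 a b hb h)⟩ ∈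
      RG σ n := by
    intro a b hb h
    exact Subgroup.mul_mem _ (Subgroup.mul_mem _ (hlow _ _ (hr1 a b hb h)) (hup _ _ h))
      (hlow _ _ (hr2 a b hb h))
  -- the parameters
  have hfix : σ (-1 : F) = -1 := by rw [map_neg, map_one]
  obtain ⟨z, hz⟩ := hσ.tr (-1) hfix
  have hz0 : z ≠ 0 := by
    intro e
    rw [e, map_zero, add_zero] at hz
    exact one_ne_zero (neg_eq_zero.mp hz.symm)
  have hσz0 : σ z ≠ 0 := fun e => hz0 ((map_eq_zero σ).mp e)
  have hrel : z + σ z + 1 * σ 1 = 0 := by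
    rw [map_one, hz]; ring
  obtain ⟨a', ha'⟩ := exists_norm hσ (s * z)
  have hsz0 : s * z ≠ 0 := mul_ne_zero hs hz0
  have hdm : diagonal (corf σ j j1 s) = emb (io j j1) (diagonal ![s, σ s / s, 1 / σ s]) := by
    apply diagonal_eq_emb hinj
    · intro α
      fin_cases α
      · show corf σ j j1 s j = s
        unfold corf
        rw [if_pos rfl, if_neg g3, g1, if_neg g3, if_neg g4, mul_one, mul_one, mul_one]
      · show corf σ j j1 s j1 = σ s / s
        unfold corf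
        rw [if_neg g3.symm, if_pos rfl, g1, if_pos rfl, if_neg g5, one_mul, mul_one,
          div_eq_mul_inv, mul_comm]
      · show corf σ j j1 s j.rev = 1 / σ s
        unfold corf
        rw [if_neg g4.symm, if_neg g5.symm, g1, if_neg g5.symm, if_pos rfl, one_mul, one_mul,
          one_mul, one_div]
    · intro x hx
      have h0 : x ≠ j := hx 0
      have h1 : x ≠ j1 := hx 1
      have h2 : x ≠ j.rev := hx 2
      unfold corf
      rw [if_neg h0, if_neg h1, g1, if_neg h1, if_neg h2, one_mul, one_mul, one_mul]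
  refine key_emb hinj (RG σ n) _ (cor_mem hinv j j1 s hs) ![s, σ s / s, 1 / σ s] ?_ _ _
    (hmem 1 z hz0 hrel) (hmem a' (s * z) hsz0 ha') _ _ (hW 1 z hz0 hrel)
    (hW a' (s * z) hsz0 ha') ?_
  · unfold cor
    rw [dg_coe, hdm]
  · rw [map_mul, id3b s (σ s) z (σ z) hs hs' hz0 hσz0]

/-! ### determinants -/

/-- the determinant, on the unitary group -/
def detHom (σ : F →+* F) (n : ℕ) : ↥(GUJ σ n) →* Fˣ :=
  Matrix.GeneralLinearGroup.det.comp (GUJ σ n).subtype

lemma detHom_eq_one_iff {g : ↥(GUJ σ n)} : detHom σ n g = 1 ↔ (mat g).det = 1 := by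
  rw [Units.ext_iff]
  rfl

lemma det_UG {u : ↥(GUJ σ n)} (hu : u ∈ UG σ n) : (mat u).det = 1 := by
  have h1 : (mat u).BlockTriangular id := by
    intro i j hij
    exact (mem_Bup.mp hu.1) i j hij
  rw [Matrix.det_of_isUpperTriangular h1]
  apply Finset.prod_eq_one
  intro i _
  exact hu.2 i

lemma det_lower {y : ↥(GUJ σ n)} (hy : IsLowerU y) : (mat y).det = 1 := by
  have h1 : (mat y).BlockTriangular OrderDual.toDual := by
    intro i j hij
    exact hy.1 i j (OrderDual.toDual_lt_toDual.mp hij)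
  rw [Matrix.det_of_isLowerTriangular _ h1]
  apply Finset.prod_eq_one
  intro i _
  exact hy.2 i

lemma det_RG {r : ↥(GUJ σ n)} (hr : r ∈ RG σ n) : (mat r).det = 1 := by
  have : RG σ n ≤ (detHom σ n).ker := by
    unfold RG
    rw [Subgroup.closure_le]
    rintro x (hx | hx)
    · exact detHom_eq_one_iff.mpr (det_UG hx)
    · exact detHom_eq_one_iff.mpr (det_lower hx)
  exact detHom_eq_one_iff.mp (this hr)

lemma mono_one_eq_diagonal (c : Fin n → F) : mono (1 : Perm (Fin n)) c = diagonal c := by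
  ext i j
  rw [mono_apply, Matrix.diagonal_apply, Perm.one_apply]
  by_cases h : i = j
  · rw [if_pos h, if_pos h, h]
  · rw [if_neg h, if_neg h]

/-- **the torus elements of determinant one are products of root elements** -/
theorem TG_det_one_mem_RG (hσ : InvOK σ) {t : ↥(GUJ σ n)} (ht : t ∈ TG σ n)
    (hdet : (mat t).det = 1) : t ∈ RG σ n := by
  obtain ⟨c, hc⟩ := mem_TG.mp ht
  have hf : mat t = diagonal (fun j => ((c j : Fˣ) : F)) := by
    show ((t : GL (Fin n) F) : Matrix (Fin n) (Fin n) F) = _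
    rw [hc, coe_monoGL, mono_one_eq_diagonal]
  have hg' : (⟨mat t, hdet⟩ : SpecialLinearGroup (Fin n) F) ∈ UJ σ n :=
    mem_UJ.mpr (mem_GUJ.mp t.2)
  have hmem := diag_mem_UJ hσ.invol (memSL (RG σ n))
    (fun j j1 hj hn s hs => by
      rcases Nat.lt_or_ge (2 * j.val + 3) n with h | h
      · exact cor_short_mem_RG hσ j j1 hj h s hs
      · exact cor_odd_mem_RG hσ j j1 hj (by omega) s hs)
    (fun j hj s hs hfix => cor_long_mem_RG hσ j hj s hs hfix)
    ⟨mat t, hdet⟩ hg' _ hf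
  obtain ⟨hx, h⟩ := of_mem_memSL hmem
  have e : toGUJ σ n ⟨⟨mat t, hdet⟩, hx⟩ = t := by
    apply Subtype.ext
    apply Units.ext
    rfl
  rw [e] at h
  exact h

/-- **the elements of determinant one lie in every subgroup containing the upper and the lower
unitriangular elements** -/
theorem det_one_mem_of_UG_lower (hσ : InvOK σ) (M : Subgroup ↥(GUJ σ n)) (hU : UG σ n ≤ M)
    (hLow : ∀ y : ↥(GUJ σ n), IsLowerU y → y ∈ M) (g : ↥(GUJ σ n))
    (hdet : (mat g).det = 1) : g ∈ M := by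
  have hRM : RG σ n ≤ M := by
    unfold RG
    rw [Subgroup.closure_le]
    rintro x (hx | hx)
    · exact hU hx
    · exact hLow x hx
  obtain ⟨r, hr, t, ht, rfl⟩ := exists_RG_mul_TG hσ g
  have hdt : (mat t).det = 1 := by
    rw [mat_mul, Matrix.det_mul, det_RG hr, one_mul] at hdet
    exact hdet
  exact hRM (Subgroup.mul_mem _ hr (TG_det_one_mem_RG hσ ht hdt))

end Cfsg.Agent.Lib.Helper15.UnGen
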