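import Mathlib
import Cfsg.Agent.Lib.Helper15.UnGenD

/-!
helper15: in the unitary group `GUJ σ n`, the elements of determinant one lie in every subgroup
containing all the root elements.
-/

set_option autoImplicit false

namespace Cfsg.Agent.Lib.Helper15.UnGen

open Matrix Equiv Cfsg Cfsg.Agent.Lib.Helper6.GLBN Cfsg.Agent.Lib.Helper6.GLSt
  Cfsg.Agent.Lib.Helper15.UnBN Cfsg.Agent.Lib.Helper15.OrBN Cfsg.Agent.Lib.Helper15.OrGen
open Cfsg.Agent.Lib.Helper16.FusSU (InvOK)

variable {n : ℕ} {F : Type*} [Field F] {σ : F →+* F}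

lemma xsU_congr' {p q p' q' : Fin n} (hpq : p ≠ q) (hpq' : p' ≠ q') (hp : p = p') (hq : q = q')
    {t t' : F} (ht : t = t') : xsU σ p q hpq t = xsU σ p' q' hpq' t' := by
  subst hp hq ht
  rfl

/-- conjugation of short root elements by the longest element -/
lemma w0G_conj_xsG (hσ : ∀ x, σ (σ x) = x) (p q : Fin n) (hpq : p ≠ q) (hp : p ≠ p.rev)
    (hq : q ≠ q.rev) (t : F) :
    w0G σ n * xsG hσ p q hpq hp hq t * (w0G σ n)⁻¹ =
      xsG hσ p.rev q.rev (fun e => hpq (Fin.rev_injective e))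
        (fun e => hp (by rw [Fin.rev_rev] at e; exact e.symm))
        (fun e => hq (by rw [Fin.rev_rev] at e; exact e.symm)) t := by
  apply Subtype.ext
  show monoGL Fin.revPerm (fun _ => 1) * xsU σ p q hpq t *
    (monoGL Fin.revPerm (fun _ => 1))⁻¹ = xsU σ p.rev q.rev _ t
  rw [monoGL_conj_xsU' Fin.revPerm (fun _ => 1) (fun a => by simp [Fin.revPerm_apply])
    (fun a => by simp)]
  apply xsU_congr'
  · rw [Fin.revPerm_apply]
  · rw [Fin.revPerm_apply]
  · simp

/-- conjugation of long root elements by the longest element -/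
lemma w0G_conj_lgG (k : Fin n) (hk : k ≠ k.rev) (t : F) (ht : t + σ t = 0) :
    w0G σ n * lgG k hk t ht * (w0G σ n)⁻¹ =
      lgG k.rev (fun e => hk (by rw [Fin.rev_rev] at e; exact e.symm)) t ht := by
  have hk' : k.rev ≠ k.rev.rev := fun e => hk (by rw [Fin.rev_rev] at e; exact e.symm)
  apply Subtype.ext
  show monoGL Fin.revPerm (fun _ => 1) * xGL k k.rev hk t *
    (monoGL Fin.revPerm (fun _ => 1))⁻¹ = xGL k.rev k.rev.rev hk' t
  rw [monoGL_conj_long Fin.revPerm (fun _ => 1) (fun a => by simp [Fin.revPerm_apply])]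
  apply xGL_congr
  · rw [Fin.revPerm_apply]
  · rw [Fin.revPerm_apply]
  · simp

/-- conjugation of odd root elements by the longest element -/
lemma w0G_conj_euG (hσ : ∀ x, σ (σ x) = x) {c : Fin n} (hc : c.rev = c) (q : Fin n) (hq : q ≠ c)
    (a b : F) (h : b + σ b + a * σ a = 0) :
    w0G σ n * euG hσ hc q hq a b h * (w0G σ n)⁻¹ =
      euG hσ hc q.rev (fun e => mid_ne_rev hc hq e.symm) a b h := by
  apply Subtype.ext
  show monoGL Fin.revPerm (fun _ => 1) * eU hc q hq a (σ a) b *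
    (monoGL Fin.revPerm (fun _ => 1))⁻¹ = eU hc q.rev _ a (σ a) b
  rw [monoGL_conj_eU hc Fin.revPerm (fun _ => 1) (fun a => by simp [Fin.revPerm_apply])
    (by rw [Fin.revPerm_apply, hc])]
  apply eU_congr
  · rw [Fin.revPerm_apply]
  · simp
  · simp
  · simp

/-- **the elements of determinant one lie in every subgroup containing all the root
elements** -/
theorem det_one_mem_of_roots (hσ : InvOK σ) (M : Subgroup ↥(GUJ σ n))
    (hX : ∀ (p q : Fin n) (hpq : p ≠ q) (hp : p ≠ p.rev) (hq : q ≠ q.rev) (_ : q ≠ p.rev) (t : F),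
      xsG hσ.invol p q hpq hp hq t ∈ M)
    (hLg : ∀ (k : Fin n) (hk : k ≠ k.rev) (t : F) (ht : t + σ t = 0), lgG k hk t ht ∈ M)
    (hOdd : ∀ (c : Fin n) (hc : c.rev = c) (q : Fin n) (hq : q ≠ c) (a b : F)
      (h : b + σ b + a * σ a = 0), euG hσ.invol hc q hq a b h ∈ M)
    (g : ↥(GUJ σ n)) (hdet : (mat g).det = 1) : g ∈ M := by
  have hinv := hσ.invol
  have hU : UG σ n ≤ M := by
    apply UG_le_of_roots' hinv M hσ.tr
    · intro p q hpq hp hq hqp t
      exact hX p q _ hp hq (ne_of_lt hqp) t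
    · intro k hk t ht
      exact hLg k _ t ht
    · intro c hc q hqc a b h
      exact hOdd c hc q _ a b h
  set M' : Subgroup ↥(GUJ σ n) := M.comap (MulAut.conj (w0G σ n)).toMonoidHom with hM'
  have hmem' : ∀ x : ↥(GUJ σ n), x ∈ M' ↔ w0G σ n * x * (w0G σ n)⁻¹ ∈ M := fun x => Iff.rfl
  have hU' : UG σ n ≤ M' := by
    apply UG_le_of_roots' hinv M' hσ.tr
    · intro p q hpq hp hq hqp t
      rw [hmem', w0G_conj_xsG]
      apply hX
      intro e
      rw [Fin.rev_rev] at e
      rw [← e, Fin.rev_rev] at hqp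
      exact lt_irrefl _ hqp
    · intro k hk t ht
      rw [hmem', w0G_conj_lgG]
      exact hLg _ _ t ht
    · intro c hc q hqc a b h
      rw [hmem', w0G_conj_euG]
      exact hOdd c hc _ _ a b h
  have hLow : ∀ y : ↥(GUJ σ n), IsLowerU y → y ∈ M := by
    intro y hy
    have h1 := hU' (w0G_conj_mem_UG hy.1 hy.2)
    rw [hmem'] at h1
    have e : w0G σ n * ((w0G σ n)⁻¹ * y * w0G σ n) * (w0G σ n)⁻¹ = y := by group
    rw [e] at h1
    exact h1
  exact det_one_mem_of_UG_lower hσ M hU hLow g hdet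

end Cfsg.Agent.Lib.Helper15.UnGen
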