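import Mathlib

/-!
helper15: an abstract generation lemma (a torus element and the product of a monomial element
with a root element generate the root group and the monomial element), for possibly non-abelian
root groups; elements of finite fields lying in no proper subfield.
-/

set_option autoImplicit false

namespace Cfsg.Agent.Lib.Helper15.UnGen

section core

variable {G : Type*} [Group G] {K : Type*} [Field K]

/-- the key lemma: from a torus element `h` and `b = n u0`, with `u0` in the root group `XA`, one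
gets the whole root group `XA` and `n` -/
theorem core_lemma_na (M XA : Subgroup G) (π : G → K)
    (hπ : ∀ u ∈ XA, ∀ v ∈ XA, π (u * v) = π u + π v)
    (h n u0 : G) (cA cS : K) (hcA1 : cA ≠ 1) (hcS1 : cS ≠ 1)
    (hu0 : u0 ∈ XA) (hu00 : π u0 ≠ 0)
    (hA : ∀ u ∈ XA, h * u * h⁻¹ ∈ XA ∧ π (h * u * h⁻¹) = cA * π u)
    (hS : ∀ u ∈ XA, ∃ u' ∈ XA, h * (n * u * n⁻¹) * h⁻¹ = n * u' * n⁻¹ ∧ π u' = cS * π u)
    (hgen : ∀ S : AddSubgroup K, (∀ s ∈ S, cS * s ∈ S) → (∃ s ∈ S, s ≠ 0) → S = ⊤)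
    (hfull : ∀ S : Subgroup G, S ≤ XA → (∀ k : K, ∃ u ∈ S, π u = k) → XA ≤ S)
    (hcomm : Commute h (n * h * n⁻¹))
    (hh : h ∈ M) (hb : n * u0 ∈ M) : XA ≤ M ∧ n ∈ M := by
  have hπ1 : π 1 = 0 := by
    have := hπ 1 XA.one_mem 1 XA.one_mem
    rw [mul_one] at this
    exact left_eq_add.mp this
  have hπinv : ∀ u ∈ XA, π u⁻¹ = -π u := by
    intro u hu
    have := hπ u hu u⁻¹ (XA.inv_mem hu)
    rw [mul_inv_cancel, hπ1] at this
    exact (neg_eq_of_add_eq_zero_right this.symm).symm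
  -- the element `u1`
  obtain ⟨hA1, hA2⟩ := hA u0 hu0
  have hu1 : u0 * (h * u0 * h⁻¹)⁻¹ ∈ XA := XA.mul_mem hu0 (XA.inv_mem hA1)
  have hπu1 : π (u0 * (h * u0 * h⁻¹)⁻¹) = (1 - cA) * π u0 := by
    rw [hπ u0 hu0 _ (XA.inv_mem hA1), hπinv _ hA1, hA2]
    ring
  have hπu1' : π (u0 * (h * u0 * h⁻¹)⁻¹) ≠ 0 := by
    rw [hπu1]
    exact mul_ne_zero (sub_ne_zero.mpr (Ne.symm hcA1)) hu00
  obtain ⟨u1, hu1def⟩ : ∃ u1, u1 = u0 * (h * u0 * h⁻¹)⁻¹ := ⟨_, rfl⟩
  rw [← hu1def] at hu1 hπu1'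
  -- `y = b h b⁻¹`
  have hy : (n * u0) * h * (n * u0)⁻¹ ∈ M := M.mul_mem (M.mul_mem hb hh) (M.inv_mem hb)
  have e2 : (n * u0) * h * (n * u0)⁻¹ = (n * u1 * n⁻¹) * (n * h * n⁻¹) := by
    rw [hu1def]; group
  rw [e2] at hy
  -- `z = y h y⁻¹ h⁻¹`
  obtain ⟨u1', hu1', e1, hπ1'⟩ := hS u1 hu1
  have hz : (n * u1 * n⁻¹) * (n * h * n⁻¹) * h * ((n * u1 * n⁻¹) * (n * h * n⁻¹))⁻¹ * h⁻¹ ∈ M :=
    M.mul_mem (M.mul_mem (M.mul_mem hy hh) (M.inv_mem hy)) (M.inv_mem hh)
  have e3 : (n * u1 * n⁻¹) * (n * h * n⁻¹) * h * ((n * u1 * n⁻¹) * (n * h * n⁻¹))⁻¹ * h⁻¹ =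
      n * (u1 * u1'⁻¹) * n⁻¹ := by
    have c1 : (n * h * n⁻¹) * h * (n * h * n⁻¹)⁻¹ = h := by
      rw [← hcomm.eq, mul_assoc, mul_inv_cancel, mul_one]
    have : (n * u1 * n⁻¹) * (n * h * n⁻¹) * h * ((n * u1 * n⁻¹) * (n * h * n⁻¹))⁻¹ * h⁻¹ =
        (n * u1 * n⁻¹) * ((n * h * n⁻¹) * h * (n * h * n⁻¹)⁻¹) * (n * u1 * n⁻¹)⁻¹ * h⁻¹ := by
      group
    rw [this, c1]
    have : (n * u1 * n⁻¹) * h * (n * u1 * n⁻¹)⁻¹ * h⁻¹ =
        (n * u1 * n⁻¹) * (h * (n * u1 * n⁻¹) * h⁻¹)⁻¹ := by group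
    rw [this, e1]
    group
  rw [e3] at hz
  have hπz : π (u1 * u1'⁻¹) ≠ 0 := by
    rw [hπ u1 hu1 _ (XA.inv_mem hu1'), hπinv _ hu1', hπ1']
    have : π u1 + -(cS * π u1) = (1 - cS) * π u1 := by ring
    rw [this]
    exact mul_ne_zero (sub_ne_zero.mpr (Ne.symm hcS1)) hπu1'
  -- the subgroup `S`
  set S : Subgroup G := XA ⊓ M.comap (MulAut.conj n).toMonoidHom with hSdef
  have hSmem : ∀ u, u ∈ S ↔ u ∈ XA ∧ n * u * n⁻¹ ∈ M := fun u => Iff.rfl
  let A : AddSubgroup K :=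
    { carrier := {k | ∃ u ∈ S, π u = k}
      add_mem' := by
        rintro a b ⟨u, hu, rfl⟩ ⟨v, hv, rfl⟩
        exact ⟨u * v, S.mul_mem hu hv, hπ u hu.1 v hv.1⟩
      zero_mem' := ⟨1, S.one_mem, hπ1⟩
      neg_mem' := by
        rintro a ⟨u, hu, rfl⟩
        exact ⟨u⁻¹, S.inv_mem hu, hπinv u hu.1⟩ }
  have hAtop : A = ⊤ := by
    apply hgen A
    · rintro s ⟨u, hu, rfl⟩
      obtain ⟨u', hu', e, hπ'⟩ := hS u hu.1
      refine ⟨u', ⟨hu', ?_⟩, hπ'⟩
      show n * u' * n⁻¹ ∈ M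
      rw [← e]
      exact M.mul_mem (M.mul_mem hh hu.2) (M.inv_mem hh)
    · exact ⟨_, ⟨u1 * u1'⁻¹, ⟨XA.mul_mem hu1 (XA.inv_mem hu1'), hz⟩, rfl⟩, hπz⟩
  have hXS : XA ≤ S := by
    apply hfull S inf_le_left
    intro k
    have : k ∈ A := by rw [hAtop]; trivial
    exact this
  have hXM : XA ≤ M := by
    intro v hv
    have h1 : u0 * v * u0⁻¹ ∈ S := hXS (XA.mul_mem (XA.mul_mem hu0 hv) (XA.inv_mem hu0))
    have h2 := M.mul_mem (M.mul_mem (M.inv_mem hb) ((hSmem _).mp h1).2) hb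
    have e : (n * u0)⁻¹ * (n * (u0 * v * u0⁻¹) * n⁻¹) * (n * u0) = v := by group
    rw [e] at h2
    exact h2
  refine ⟨hXM, ?_⟩
  have := M.mul_mem hb (M.inv_mem (hXM hu0))
  rwa [mul_inv_cancel_right] at this

end core

section field

variable {F : Type*} [Field F]

/-- `c` lies in no proper subfield -/
def FGen (c : F) : Prop := ∀ K' : Subfield F, c ∈ K' → K' = ⊤

lemma FGen.inv {c : F} (h : FGen c) : FGen c⁻¹ := fun K' hc =>
  h K' (by have := K'.inv_mem hc; rwa [inv_inv] at this)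

lemma FGen.of_pow {c : F} {k : ℕ} (h : FGen (c ^ k)) : FGen c := fun K' hc =>
  h K' (K'.pow_mem hc k)

lemma FGen.frob [Fintype F] {q : ℕ} (hF : Fintype.card F = q ^ 2) {c : F} (h : FGen c) :
    FGen (c ^ q) := by
  intro K' hc
  apply h K'
  have := K'.pow_mem hc q
  rwa [← pow_mul, ← sq, ← hF, FiniteField.pow_card] at this

/-- an additive subgroup stable under the multiplication by such an element is trivial or
everything -/
lemma addSubgroup_eq_top_of_FGen [Finite F] {c : F} (hc : FGen c) (S : AddSubgroup F)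
    (hS : ∀ s ∈ S, c * s ∈ S) (hne : ∃ s ∈ S, s ≠ 0) : S = ⊤ := by
  classical
  let K' : Subfield F :=
    { carrier := {r | ∀ s ∈ S, r * s ∈ S}
      mul_mem' := by
        intro a b ha hb s hs
        rw [mul_assoc]
        exact ha _ (hb s hs)
      one_mem' := by
        intro s hs
        rwa [one_mul]
      add_mem' := by
        intro a b ha hb s hs
        rw [add_mul]
        exact S.add_mem (ha s hs) (hb s hs)
      zero_mem' := by
        intro s _
        rw [zero_mul]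
        exact S.zero_mem
      neg_mem' := by
        intro a ha s hs
        rw [neg_mul]
        exact S.neg_mem (ha s hs)
      inv_mem' := by
        intro a ha s hs
        by_cases ha0 : a = 0
        · rw [ha0, inv_zero, zero_mul]
          exact S.zero_mem
        · let f : S → S := fun x => ⟨a * x.1, ha x.1 x.2⟩
          have hinj : Function.Injective f := by
            intro x y hxy
            have := congrArg Subtype.val hxy
            exact Subtype.ext (mul_left_cancel₀ ha0 this)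
          obtain ⟨x, hx⟩ := (Finite.injective_iff_surjective.mp hinj) ⟨s, hs⟩
          have hx' : a * x.1 = s := congrArg Subtype.val hx
          rw [← hx', inv_mul_cancel_left₀ ha0]
          exact x.2 }
  have hcK : c ∈ K' := hS
  have htop := hc K' hcK
  obtain ⟨s0, hs0, hs00⟩ := hne
  rw [eq_top_iff]
  intro x _
  have : x / s0 ∈ K' := by rw [htop]; trivial
  have := this s0 hs0
  rwa [div_mul_cancel₀ _ hs00] at this

/-- the proper subfields of a field with `q²` elements have at most `q` elements -/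
lemma card_subfield_le [Fintype F] {q : ℕ} (hF : Fintype.card F = q ^ 2) (K' : Subfield F)
    [Fintype K'] (hK' : K' ≠ ⊤) : Fintype.card K' ≤ q := by
  have h1 : Fintype.card F = Fintype.card K' ^ Module.finrank K' F := Module.card_eq_pow_finrank
  have h2 : 2 ≤ Module.finrank K' F := by
    by_contra hlt
    have hpos : 0 < Module.finrank K' F := Module.finrank_pos
    have h1' : Module.finrank K' F = 1 := by omega
    apply hK'
    rw [eq_top_iff]
    intro x _
    obtain ⟨r, hr⟩ := (finrank_eq_one_iff_of_nonzero' (1 : F) one_ne_zero).mp h1' x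
    have : x = (r : F) := by
      rw [← hr, Algebra.smul_def, mul_one]
      rfl
    rw [this]
    exact r.2
  have hc1 : 1 ≤ Fintype.card K' := Fintype.card_pos
  rw [hF] at h1
  by_contra hlt
  have hlt' : q < Fintype.card K' := not_le.mp hlt
  have : q ^ 2 < Fintype.card K' ^ Module.finrank K' F :=
    calc q ^ 2 < Fintype.card K' ^ 2 := Nat.pow_lt_pow_left hlt' (by norm_num)
      _ ≤ Fintype.card K' ^ Module.finrank K' F := Nat.pow_le_pow_right hc1 h2
  omega

/-- small powers of a generator of the multiplicative group lie in no proper subfield -/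
lemma FGen_pow_of_orderOf [Fintype F] {q : ℕ} (hq : 2 ≤ q) (hF : Fintype.card F = q ^ 2) (κ : F)
    (hκ : orderOf κ = q ^ 2 - 1) (e : ℕ) (he0 : 0 < e) (he : e ≤ q) : FGen (κ ^ e) := by
  classical
  intro K' hc
  by_contra hne
  have hle := card_subfield_le hF K' hne
  have hκ0 : κ ≠ 0 := by
    intro h0
    rw [h0, orderOf_zero] at hκ
    have : 4 ≤ q ^ 2 := by nlinarith
    omega
  have h1 : (⟨κ ^ e, hc⟩ : K') ^ Fintype.card K' = ⟨κ ^ e, hc⟩ := FiniteField.pow_card _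
  have h2 : (κ ^ e) ^ Fintype.card K' = κ ^ e := by
    have := congrArg (fun x : K' => (x : F)) h1
    simpa using this
  have h3 : 2 ≤ Fintype.card K' := by
    have : Fintype.card K' ≠ 1 := by
      intro h
      have := Fintype.card_le_one_iff.mp (le_of_eq h) (0 : K') 1
      exact zero_ne_one this
    have : 0 < Fintype.card K' := Fintype.card_pos
    omega
  obtain ⟨r, hr⟩ : ∃ r, Fintype.card K' = r + 1 := ⟨Fintype.card K' - 1, by omega⟩
  rw [hr, pow_succ] at h2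
  have h4 : (κ ^ e) ^ r = 1 := by
    have hne0 : κ ^ e ≠ 0 := pow_ne_zero _ hκ0
    have : (κ ^ e) ^ r * κ ^ e = 1 * κ ^ e := by rw [h2, one_mul]
    exact mul_right_cancel₀ hne0 this
  rw [← pow_mul] at h4
  have h5 := orderOf_dvd_of_pow_eq_one h4
  rw [hκ] at h5
  have hr1 : 1 ≤ r := by omega
  have hrq : r + 1 ≤ q := by omega
  have hpos : 0 < e * r := Nat.mul_pos he0 hr1
  have hle2 := Nat.le_of_dvd hpos h5
  have : e * r ≤ q * (q - 1) := Nat.mul_le_mul he (by omega)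
  have hqq : q * (q - 1) + q = q ^ 2 := by
    obtain ⟨k, rfl⟩ : ∃ k, q = k + 1 := ⟨q - 1, by omega⟩
    simp only [Nat.add_sub_cancel]
    ring
  omega

end field

end Cfsg.Agent.Lib.Helper15.UnGen
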