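import Mathlib
import Cfsg.Agent.Lib.Helper15.UnGenE
import Cfsg.Agent.Lib.Helper15.UnGenF

/-!
helper15: the unitary group `GUJ σ n`, `n` odd: a torus element and the product of a Coxeter
element with an element of an odd root group generate a subgroup containing all the elements of
determinant one.
-/

set_option autoImplicit false

namespace Cfsg.Agent.Lib.Helper15.UnGen

open Matrix Equiv Cfsg Cfsg.Agent.Lib.Helper6.GLBN Cfsg.Agent.Lib.Helper6.GLSt
  Cfsg.Agent.Lib.Helper15.UnBN Cfsg.Agent.Lib.Helper15.OrBN Cfsg.Agent.Lib.Helper15.OrGen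
open Cfsg.Agent.Lib.Helper16.FusSU (InvOK)

variable {n : ℕ} {F : Type*} [Field F] {σ : F →+* F}

/-- the monomial elements, in the group -/
def monoGU (τ : Perm (Fin n)) (d : Fin n → Fˣ) (hτ : ∀ a, τ a.rev = (τ a).rev)
    (hd : ∀ a, (d a : F) * σ (d a.rev : F) = 1) : ↥(GUJ σ n) :=
  ⟨monoGL τ d, (monoGL_mem_GUJ_iff τ d).mpr ⟨hτ, hd⟩⟩

lemma monoGU_one_mem_TG (e : Fin n → Fˣ) (he : ∀ a, (e a : F) * σ (e a.rev : F) = 1) :
    monoGU 1 e (fun _ => rfl) he ∈ TG σ n := by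
  rw [mem_TG]
  exact ⟨e, rfl⟩

/-- a conjugate of a torus element by a monomial element lies in the torus -/
lemma monoGU_conj_mem_TG (τ : Perm (Fin n)) (d e : Fin n → Fˣ) (hτ : ∀ a, τ a.rev = (τ a).rev)
    (hd : ∀ a, (d a : F) * σ (d a.rev : F) = 1) (he : ∀ a, (e a : F) * σ (e a.rev : F) = 1) :
    monoGU τ d hτ hd * monoGU 1 e (fun _ => rfl) he * (monoGU τ d hτ hd)⁻¹ ∈ TG σ n := by
  rw [mem_TG]
  show monoGL τ d * monoGL 1 e * (monoGL τ d)⁻¹ ∈ diagSubgroup n F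
  rw [monoGL_inv, monoGL_mul, monoGL_mul]
  refine ⟨fun j => d ((1 : Perm (Fin n)) (τ⁻¹ j)) * e (τ⁻¹ j) * (d (τ⁻¹ j))⁻¹, ?_⟩
  congr 1
  simp

/-- the coefficient relations of a monomial unitary matrix -/
lemma mono_coeff (d : Fin n → Fˣ) (hd : ∀ a, (d a : F) * σ (d a.rev : F) = 1) (q : Fin n) :
    σ (d q : F) = ((d q.rev : Fˣ) : F)⁻¹ := by
  have := hd q.rev
  rw [Fin.rev_rev] at this
  exact eq_inv_of_mul_eq_one_right this

section odd

variable {c : Fin n} (hc : c.rev = c)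

lemma eU_apply_qc (q : Fin n) (hq : q ≠ c) (a ab b : F) :
    ((eU hc q hq a ab b : GL (Fin n) F) : Matrix (Fin n) (Fin n) F) q c = a := by
  have h := eU_mul_apply hc q hq a ab b (1 : Matrix (Fin n) (Fin n) F) q c
  rw [Matrix.mul_one] at h
  rw [h, if_pos rfl, if_neg hq, Matrix.one_apply_ne hq, Matrix.one_apply_eq,
    Matrix.one_apply_ne (fun e => mid_ne_rev hc hq e.symm)]
  ring

/-- conjugation of an odd root element by a monomial element -/
lemma monoGU_conj_euG (hσ : ∀ x, σ (σ x) = x) (τ : Perm (Fin n)) (d : Fin n → Fˣ)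
    (hτ : ∀ a, τ a.rev = (τ a).rev) (hd : ∀ a, (d a : F) * σ (d a.rev : F) = 1) (hτc : τ c = c)
    (q : Fin n) (hq : q ≠ c) (q' : Fin n) (hq' : q' ≠ c) (hqq' : τ q = q') (a b : F)
    (h : b + σ b + a * σ a = 0)
    (h' : b * (d q : F) / (d q.rev : F) + σ (b * (d q : F) / (d q.rev : F)) +
      a * (d q : F) / (d c : F) * σ (a * (d q : F) / (d c : F)) = 0) :
    monoGU τ d hτ hd * euG hσ hc q hq a b h * (monoGU τ d hτ hd)⁻¹ =
      euG hσ hc q' hq' (a * (d q : F) / (d c : F)) (b * (d q : F) / (d q.rev : F)) h' := by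
  apply Subtype.ext
  show monoGL τ d * eU hc q hq a (σ a) b * (monoGL τ d)⁻¹ = eU hc q' hq' _ _ _
  rw [monoGL_conj_eU hc τ d hτ hτc]
  apply eU_congr hc _ _ hqq' rfl _ rfl
  have h1 := mono_coeff d hd q
  have h2 := mono_coeff d hd c
  rw [hc] at h2
  rw [map_div₀, map_mul, h1, h2]
  field_simp

include hc in
/-- the relation is preserved by the conjugation -/
lemma conj_rel (d : Fin n → Fˣ)
    (hd : ∀ a, (d a : F) * σ (d a.rev : F) = 1) (q : Fin n) (a b : F)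
    (h : b + σ b + a * σ a = 0) :
    b * (d q : F) / (d q.rev : F) + σ (b * (d q : F) / (d q.rev : F)) +
      a * (d q : F) / (d c : F) * σ (a * (d q : F) / (d c : F)) = 0 := by
  have h1 := mono_coeff d hd q
  have h2 := mono_coeff d hd c
  rw [hc] at h2
  have h3 := mono_coeff d hd q.rev
  rw [Fin.rev_rev] at h3
  have hdq : (d q : F) ≠ 0 := (d q).ne_zero
  have hdc : (d c : F) ≠ 0 := (d c).ne_zero
  have hdq' : (d q.rev : F) ≠ 0 := (d q.rev).ne_zero
  rw [map_div₀, map_div₀, map_mul, map_mul, h1, h2, h3]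
  field_simp
  linear_combination (d q : F) * h
  
lemma euG_congr (hσ : ∀ x, σ (σ x) = x) (q : Fin n) (hq : q ≠ c) {a a' b b' : F}
    (h : b + σ b + a * σ a = 0) (h' : b' + σ b' + a' * σ a' = 0) (ha : a = a') (hb : b = b') :
    euG hσ hc q hq a b h = euG hσ hc q hq a' b' h' := by
  subst ha hb
  rfl

lemma euG_mul (hσ : ∀ x, σ (σ x) = x) (q : Fin n) (hq : q ≠ c) (a b a' b' : F)
    (h : b + σ b + a * σ a = 0) (h' : b' + σ b' + a' * σ a' = 0)
    (h'' : (b + b' - a * σ a') + σ (b + b' - a * σ a') + (a + a') * σ (a + a') = 0) :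
    euG hσ hc q hq a b h * euG hσ hc q hq a' b' h' =
      euG hσ hc q hq (a + a') (b + b' - a * σ a') h'' := by
  apply Subtype.ext
  show eU hc q hq a (σ a) b * eU hc q hq a' (σ a') b' = eU hc q hq (a + a') (σ (a + a')) _
  rw [eU_mul]
  exact eU_congr hc _ _ rfl rfl (map_add σ a a').symm rfl

lemma euG_inv (hσ : ∀ x, σ (σ x) = x) (q : Fin n) (hq : q ≠ c) (a b : F)
    (h : b + σ b + a * σ a = 0)
    (h' : (-b - a * σ a) + σ (-b - a * σ a) + (-a) * σ (-a) = 0) :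
    (euG hσ hc q hq a b h)⁻¹ = euG hσ hc q hq (-a) (-b - a * σ a) h' := by
  apply Subtype.ext
  show (eU hc q hq a (σ a) b)⁻¹ = eU hc q hq (-a) (σ (-a)) _
  rw [eU_inv]
  exact eU_congr hc _ _ rfl rfl (map_neg σ a).symm rfl

lemma euG_zero (hσ : ∀ x, σ (σ x) = x) (q : Fin n) (hq : q ≠ c)
    (h : (0 : F) + σ 0 + 0 * σ 0 = 0) : euG hσ hc q hq 0 0 h = 1 := by
  apply Subtype.ext
  show eU hc q hq 0 (σ 0) 0 = 1
  rw [map_zero, eU_zero]

lemma rel_mul (hσ : ∀ x, σ (σ x) = x) {a b a' b' : F}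
    (h : b + σ b + a * σ a = 0) (h' : b' + σ b' + a' * σ a' = 0) :
    (b + b' - a * σ a') + σ (b + b' - a * σ a') + (a + a') * σ (a + a') = 0 := by
  simp only [map_add, map_sub, map_mul, hσ]
  linear_combination h + h'

lemma rel_inv (hσ : ∀ x, σ (σ x) = x) {a b : F}
    (h : b + σ b + a * σ a = 0) :
    (-b - a * σ a) + σ (-b - a * σ a) + (-a) * σ (-a) = 0 := by
  simp only [map_neg, map_sub, map_mul, hσ]
  linear_combination (-1 : F) * h

/-- the odd root group at `q` -/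
def XO (hσ : ∀ x, σ (σ x) = x) (q : Fin n) (hq : q ≠ c) : Subgroup ↥(GUJ σ n) where
  carrier := {g | ∃ (a b : F) (h : b + σ b + a * σ a = 0), g = euG hσ hc q hq a b h}
  mul_mem' := by
    rintro _ _ ⟨a, b, h, rfl⟩ ⟨a', b', h', rfl⟩
    exact ⟨_, _, rel_mul hσ h h', euG_mul hc hσ q hq a b a' b' h h' _⟩
  one_mem' := ⟨0, 0, by simp, (euG_zero hc hσ q hq _).symm⟩
  inv_mem' := by
    rintro _ ⟨a, b, h, rfl⟩
    exact ⟨_, _, rel_inv hσ h, euG_inv hc hσ q hq a b h _⟩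

lemma euG_mem_XO (hσ : ∀ x, σ (σ x) = x) (q : Fin n) (hq : q ≠ c) (a b : F)
    (h : b + σ b + a * σ a = 0) : euG hσ hc q hq a b h ∈ XO hc hσ q hq :=
  ⟨a, b, h, rfl⟩

/-- a long root element as an element of an odd root group -/
lemma lgG_eq_euG (hσ : ∀ x, σ (σ x) = x) (k : Fin n) (hk : k ≠ k.rev) (hkc : k ≠ c) (t : F)
    (ht : t + σ t = 0) (h : t + σ t + 0 * σ 0 = 0) :
    lgG k hk t ht = euG hσ hc k hkc 0 t h := by
  apply Subtype.ext
  show xGL k k.rev hk t = eU hc k hkc 0 (σ 0) t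
  unfold eU
  rw [xGL_zero, map_zero, neg_zero, xGL_zero, one_mul, one_mul]
  exact xGL_congr _ _ rfl rfl (by ring)

end odd

end Cfsg.Agent.Lib.Helper15.UnGen
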