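import Mathlib
import Cfsg.Agent.Lib.Helper15.UnGenG

/-!
helper15: the unitary group `GUJ σ n`, `n` odd: a torus element and the product of a Coxeter
element with an element of an odd root group generate a subgroup containing all the elements of
determinant one.
-/

set_option autoImplicit false

namespace Cfsg.Agent.Lib.Helper15.UnGen

open Matrix Equiv Cfsg Cfsg.Agent.Lib.Helper6.GLBN Cfsg.Agent.Lib.Helper6.GLSt
  Cfsg.Agent.Lib.Helper15.UnBN Cfsg.Agent.Lib.Helper15.OrBN Cfsg.Agent.Lib.Helper15.OrGen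
open Cfsg.Agent.Lib.Helper16.FusSU (InvOK)

variable {n : ℕ} {F : Type*} [Field F] {σ : F →+* F}

section odd

variable {c : Fin n} (hc : c.rev = c)

/-- every skew element is of the form `z - σ z` -/
lemma exists_sub_eq (hσ : InvOK σ) (t : F) (ht : t + σ t = 0) : ∃ z : F, z - σ z = t := by
  obtain ⟨e, he0, hes⟩ := hσ.sk
  have hσe : σ e = -e := by linear_combination hes
  have hσt : σ t = -t := by linear_combination ht
  have hfix : σ (t / e) = t / e := by
    rw [map_div₀, hσe, hσt, neg_div_neg_eq]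
  obtain ⟨w, hw⟩ := hσ.tr _ hfix
  refine ⟨e * w, ?_⟩
  rw [map_mul, hσe]
  have : e * w - -e * σ w = e * (w + σ w) := by ring
  rw [this, hw, mul_div_cancel₀ _ he0]

/-- a subgroup of an odd root group which projects onto the field is everything -/
lemma XO_full (hσ : InvOK σ) (q : Fin n) (hq : q ≠ c) (S : Subgroup ↥(GUJ σ n))
    (hS : S ≤ XO hc hσ.invol q hq)
    (hfull : ∀ k : F, ∃ u ∈ S, mat u q c = k) : XO hc hσ.invol q hq ≤ S := by
  have hinv := hσ.invol
  -- the elements of `S` with a given first coordinate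
  have hex : ∀ a : F, ∃ (b : F) (h : b + σ b + a * σ a = 0), euG hinv hc q hq a b h ∈ S := by
    intro a
    obtain ⟨u, hu, hua⟩ := hfull a
    obtain ⟨a', b, h, rfl⟩ := hS hu
    have : a' = a := by
      rw [← hua]
      exact (eU_apply_qc hc q hq a' (σ a') b).symm
    subst this
    exact ⟨b, h, hu⟩
  -- the long root elements
  have hlong : ∀ (t : F) (h : t + σ t + 0 * σ 0 = 0), euG hinv hc q hq 0 t h ∈ S := by
    intro t h
    have ht : t + σ t = 0 := by
      rw [map_zero, mul_zero, add_zero] at h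
      exact h
    obtain ⟨z, hz⟩ := exists_sub_eq hσ t ht
    obtain ⟨b, hb, hbS⟩ := hex (-z)
    obtain ⟨b', hb', hbS'⟩ := hex 1
    have h1 := S.mul_mem (S.mul_mem hbS hbS') (S.inv_mem (S.mul_mem hbS' hbS))
    rw [euG_mul hc hinv q hq _ _ _ _ hb hb' (rel_mul hinv hb hb'),
      euG_mul hc hinv q hq _ _ _ _ hb' hb (rel_mul hinv hb' hb),
      euG_inv hc hinv q hq _ _ _ (rel_inv hinv (rel_mul hinv hb' hb)),
      euG_mul hc hinv q hq _ _ _ _ (rel_mul hinv hb hb') (rel_inv hinv (rel_mul hinv hb' hb))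
        (rel_mul hinv (rel_mul hinv hb hb') (rel_inv hinv (rel_mul hinv hb' hb)))] at h1
    have e := euG_congr hc hinv q hq
      (rel_mul hinv (rel_mul hinv hb hb') (rel_inv hinv (rel_mul hinv hb' hb))) h
      (a := -z + 1 + -(1 + -z)) (a' := 0) (by ring)
      (b := b + b' - -z * σ 1 + (-(b' + b - 1 * σ (-z)) - (1 + -z) * σ (1 + -z)) -
        (-z + 1) * σ (-(1 + -z))) (b' := t) (by
        rw [← hz]
        simp only [map_neg, map_add, map_one]
        ring)
    rw [e] at h1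
    exact h1
  rintro _ ⟨a, b, h, rfl⟩
  obtain ⟨b1, hb1, hb1S⟩ := hex a
  have hrel : (b - b1) + σ (b - b1) + 0 * σ 0 = 0 := by
    rw [map_zero, mul_zero, add_zero, map_sub]
    linear_combination h - hb1
  have h2 := S.mul_mem hb1S (hlong (b - b1) hrel)
  rw [euG_mul hc hinv q hq _ _ _ _ hb1 hrel (rel_mul hinv hb1 hrel)] at h2
  have e := euG_congr hc hinv q hq (rel_mul hinv hb1 hrel) h (a := a + 0) (a' := a) (by ring)
    (b := b1 + (b - b1) - a * σ 0) (b' := b) (by rw [map_zero]; ring)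
  rw [e] at h2
  exact h2

/-- the commutator of two odd root elements -/
lemma xsG_eq_comm (hσ : InvOK σ) (p r : Fin n) (hpr : p ≠ r) (hp : p ≠ p.rev) (hr : r ≠ r.rev)
    (hrp : r ≠ p.rev) (hpc : p ≠ c) (hrc : r.rev ≠ c) (t z b : F)
    (hz : z + σ z + 1 * σ 1 = 0) (hb : b + σ b + (-t) * σ (-t) = 0) :
    xsG hσ.invol p r hpr hp hr t =
      euG hσ.invol hc p hpc (-t) b hb * euG hσ.invol hc r.rev hrc 1 z hz *
        (euG hσ.invol hc r.rev hrc 1 z hz * euG hσ.invol hc p hpc (-t) b hb)⁻¹ := by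
  have hpr' : p ≠ r.rev := fun e => hrp (by rw [e, Fin.rev_rev])
  have hpr'' : p ≠ r.rev.rev := by rw [Fin.rev_rev]; exact hpr
  have h := eU_comm_rel hσ.invol hc hpc hrc hpr' hpr'' (-t) b 1 z
  have h' : xsU σ p r.rev.rev hpr'' (-(-t * σ 1)) = xsU σ p r hpr t :=
    xsU_congr' _ _ rfl (Fin.rev_rev r) (by rw [map_one]; ring)
  rw [h'] at h
  apply Subtype.ext
  show xsU σ p r hpr t = eU hc p hpc (-t) (σ (-t)) b * eU hc r.rev hrc 1 (σ 1) z *
    (eU hc r.rev hrc 1 (σ 1) z * eU hc p hpc (-t) (σ (-t)) b)⁻¹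
  rw [h]
  group

/-- **the generation theorem in odd dimension** -/
theorem two_gen_core_odd (hσ : InvOK σ) (p0 : Fin n) (hp0 : p0 ≠ c)
    (τ : Perm (Fin n)) (d : Fin n → Fˣ) (hτ : ∀ a, τ a.rev = (τ a).rev)
    (hd : ∀ a, (d a : F) * σ (d a.rev : F) = 1) (hτc : τ c = c)
    (horb : ∀ q, q ≠ c → ∃ k : ℕ, (τ ^ k) p0 = q)
    (e : Fin n → Fˣ) (he : ∀ a, (e a : F) * σ (e a.rev : F) = 1)
    (he0 : (e p0 : F) / (e c : F) ≠ 1) (he1 : (e (τ p0) : F) / (e c : F) ≠ 1)
    (hgen : ∀ S : AddSubgroup F, (∀ s ∈ S, (e (τ p0) : F) / (e c : F) * s ∈ S) →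
      (∃ s ∈ S, s ≠ 0) → S = ⊤)
    (a0 b0 : F) (hab : b0 + σ b0 + a0 * σ a0 = 0) (ha0 : a0 ≠ 0)
    (M : Subgroup ↥(GUJ σ n))
    (hh : monoGU 1 e (fun _ => rfl) he ∈ M)
    (hb : monoGU τ d hτ hd * euG hσ.invol hc p0 hp0 a0 b0 hab ∈ M) :
    ∀ g : ↥(GUJ σ n), (mat g).det = 1 → g ∈ M := by
  have hinv := hσ.invol
  have hτp0 : τ p0 ≠ c := fun h => hp0 (τ.injective (h.trans hτc.symm))
  have hec : σ (e c : F) = ((e c : Fˣ) : F)⁻¹ := by
    have := mono_coeff e he c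
    rwa [hc] at this
  have hec0 : (e c : F) ≠ 0 := (e c).ne_zero
  -- the data of the core lemma
  have hπ : ∀ u ∈ XO hc hinv p0 hp0, ∀ v ∈ XO hc hinv p0 hp0,
      mat (u * v) p0 c = mat u p0 c + mat v p0 c := by
    rintro _ ⟨a, b, h, rfl⟩ _ ⟨a', b', h', rfl⟩
    rw [euG_mul hc hinv p0 hp0 a b a' b' h h' (rel_mul hinv h h')]
    show ((eU hc p0 hp0 _ _ _ : GL (Fin n) F) : Matrix (Fin n) (Fin n) F) p0 c =
      ((eU hc p0 hp0 _ _ _ : GL (Fin n) F) : Matrix (Fin n) (Fin n) F) p0 c +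
      ((eU hc p0 hp0 _ _ _ : GL (Fin n) F) : Matrix (Fin n) (Fin n) F) p0 c
    rw [eU_apply_qc, eU_apply_qc, eU_apply_qc]
  have hA : ∀ u ∈ XO hc hinv p0 hp0,
      monoGU 1 e (fun _ => rfl) he * u * (monoGU 1 e (fun _ => rfl) he)⁻¹ ∈ XO hc hinv p0 hp0 ∧
      mat (monoGU 1 e (fun _ => rfl) he * u * (monoGU 1 e (fun _ => rfl) he)⁻¹) p0 c =
        (e p0 : F) / (e c : F) * mat u p0 c := by
    rintro _ ⟨a, b, h, rfl⟩
    rw [monoGU_conj_euG hc hinv 1 e (fun _ => rfl) he rfl p0 hp0 p0 hp0 rfl a b h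
      (conj_rel hc e he p0 a b h)]
    refine ⟨euG_mem_XO hc hinv _ _ _ _ _, ?_⟩
    show ((eU hc p0 hp0 _ _ _ : GL (Fin n) F) : Matrix (Fin n) (Fin n) F) p0 c =
      _ * ((eU hc p0 hp0 _ _ _ : GL (Fin n) F) : Matrix (Fin n) (Fin n) F) p0 c
    rw [eU_apply_qc, eU_apply_qc]
    ring
  have hS : ∀ u ∈ XO hc hinv p0 hp0, ∃ u' ∈ XO hc hinv p0 hp0,
      monoGU 1 e (fun _ => rfl) he * (monoGU τ d hτ hd * u * (monoGU τ d hτ hd)⁻¹) *
        (monoGU 1 e (fun _ => rfl) he)⁻¹ = monoGU τ d hτ hd * u' * (monoGU τ d hτ hd)⁻¹ ∧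
      mat u' p0 c = (e (τ p0) : F) / (e c : F) * mat u p0 c := by
    rintro _ ⟨a, b, h, rfl⟩
    have hcS : σ ((e (τ p0) : F) / (e c : F)) = (e c : F) / (e (τ p0).rev : F) := by
      rw [map_div₀, mono_coeff e he (τ p0), hec]
      field_simp
    have h3 : (e (τ p0) : F) / (e c : F) * σ ((e (τ p0) : F) / (e c : F)) * b +
        σ ((e (τ p0) : F) / (e c : F) * σ ((e (τ p0) : F) / (e c : F)) * b) +
        (e (τ p0) : F) / (e c : F) * a * σ ((e (τ p0) : F) / (e c : F) * a) = 0 := by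
      simp only [map_mul, hinv]
      linear_combination ((e (τ p0) : F) / (e c : F) * σ ((e (τ p0) : F) / (e c : F))) * h
    refine ⟨euG hinv hc p0 hp0 ((e (τ p0) : F) / (e c : F) * a)
      ((e (τ p0) : F) / (e c : F) * σ ((e (τ p0) : F) / (e c : F)) * b) h3,
      euG_mem_XO hc hinv _ _ _ _ _, ?_, ?_⟩
    · rw [monoGU_conj_euG hc hinv τ d hτ hd hτc p0 hp0 (τ p0) hτp0 rfl a b h
          (conj_rel hc d hd p0 a b h),
        monoGU_conj_euG hc hinv τ d hτ hd hτc p0 hp0 (τ p0) hτp0 rfl _ _ h3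
          (conj_rel hc d hd p0 _ _ h3),
        monoGU_conj_euG hc hinv 1 e (fun _ => rfl) he rfl (τ p0) hτp0 (τ p0) hτp0 rfl _ _
          (conj_rel hc d hd p0 a b h) (conj_rel hc e he (τ p0) _ _ (conj_rel hc d hd p0 a b h))]
      apply euG_congr
      · ring
      · rw [hcS]
        have h1 : (e (τ p0).rev : F) ≠ 0 := (e (τ p0).rev).ne_zero
        field_simp
    · show ((eU hc p0 hp0 _ _ _ : GL (Fin n) F) : Matrix (Fin n) (Fin n) F) p0 c =
        _ * ((eU hc p0 hp0 _ _ _ : GL (Fin n) F) : Matrix (Fin n) (Fin n) F) p0 c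
      rw [eU_apply_qc, eU_apply_qc]
  have hcomm : Commute (monoGU 1 e (fun _ => rfl) he)
      (monoGU τ d hτ hd * monoGU 1 e (fun _ => rfl) he * (monoGU τ d hτ hd)⁻¹) :=
    TG_commU _ _ (monoGU_one_mem_TG e he) (monoGU_conj_mem_TG τ d e hτ hd he)
  have hu00 : mat (euG hinv hc p0 hp0 a0 b0 hab) p0 c ≠ 0 := by
    show ((eU hc p0 hp0 _ _ _ : GL (Fin n) F) : Matrix (Fin n) (Fin n) F) p0 c ≠ 0
    rw [eU_apply_qc]
    exact ha0
  obtain ⟨hXM, hnM⟩ := core_lemma_na M (XO hc hinv p0 hp0) (fun g => mat g p0 c) hπ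
    (monoGU 1 e (fun _ => rfl) he) (monoGU τ d hτ hd) (euG hinv hc p0 hp0 a0 b0 hab)
    ((e p0 : F) / (e c : F)) ((e (τ p0) : F) / (e c : F)) he0 he1
    (euG_mem_XO hc hinv _ _ _ _ _) hu00 hA hS hgen
    (fun S hS hfull => XO_full hc hσ p0 hp0 S hS hfull) hcomm hh hb
  -- the orbit of the Coxeter element
  have horbit : ∀ k : ℕ, ∀ (q : Fin n) (hq : q ≠ c), (τ ^ k) p0 = q →
      ∀ (a b : F) (h : b + σ b + a * σ a = 0), euG hinv hc q hq a b h ∈ M := by
    intro k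
    induction k with
    | zero =>
      intro q hq hk a b h
      rw [pow_zero, Perm.one_apply] at hk
      subst hk
      exact hXM (euG_mem_XO hc hinv _ _ _ _ _)
    | succ k ih =>
      intro q hq hk a b h
      rw [pow_succ', Perm.mul_apply] at hk
      have hq' : (τ ^ k) p0 ≠ c := by
        intro h'
        rw [h', hτc] at hk
        exact hq hk.symm
      obtain ⟨q0, hq0⟩ : ∃ q0, q0 = (τ ^ k) p0 := ⟨_, rfl⟩
      rw [← hq0] at hk hq'
      have hdq : (d q0 : F) ≠ 0 := (d q0).ne_zero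
      have hdc : (d c : F) ≠ 0 := (d c).ne_zero
      have hdq' : (d q0.rev : F) ≠ 0 := (d q0.rev).ne_zero
      have g1 := mono_coeff d hd q0
      have g2 := mono_coeff d hd c
      rw [hc] at g2
      have g3 := mono_coeff d hd q0.rev
      rw [Fin.rev_rev] at g3
      have hrel : b * (d q0.rev : F) / (d q0 : F) + σ (b * (d q0.rev : F) / (d q0 : F)) +
          a * (d c : F) / (d q0 : F) * σ (a * (d c : F) / (d q0 : F)) = 0 := by
        rw [map_div₀, map_div₀, map_mul, map_mul, g1, g2, g3]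
        field_simp
        linear_combination (d q0.rev : F) * h
      have h1 := ih q0 hq' hq0.symm _ _ hrel
      have h2 := monoGU_conj_euG hc hinv τ d hτ hd hτc q0 hq' q hq hk _ _ hrel
        (conj_rel hc d hd q0 _ _ hrel)
      have h3 := M.mul_mem (M.mul_mem hnM h1) (M.inv_mem hnM)
      rw [h2] at h3
      have e := euG_congr hc hinv q hq (conj_rel hc d hd q0 _ _ hrel) h
        (a := a * (d c : F) / (d q0 : F) * (d q0 : F) / (d c : F)) (a' := a) (by field_simp)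
        (b := b * (d q0.rev : F) / (d q0 : F) * (d q0 : F) / (d q0.rev : F)) (b' := b)
        (by field_simp)
      rw [e] at h3
      exact h3
  have hE : ∀ (q : Fin n) (hq : q ≠ c) (a b : F) (h : b + σ b + a * σ a = 0),
      euG hinv hc q hq a b h ∈ M := by
    intro q hq a b h
    obtain ⟨k, hk⟩ := horb q hq
    exact horbit k q hq hk a b h
  have hmid : ∀ k : Fin n, k ≠ k.rev → k ≠ c := by
    intro k hk e
    apply hk
    rw [e, hc]
  apply det_one_mem_of_roots hσ M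
  · intro p r hpr hp hr hrp t
    have hpc := hmid p hp
    have hrc : r.rev ≠ c := fun e => hmid r hr (by rw [← hc, ← e, Fin.rev_rev])
    have hfix1 : σ (-1 : F) = -1 := by rw [map_neg, map_one]
    obtain ⟨z, hz⟩ := hσ.tr (-1) hfix1
    have hz' : z + σ z + 1 * σ 1 = 0 := by rw [map_one, hz]; ring
    have hfix2 : σ (-(t * σ t)) = -(t * σ t) := by
      rw [map_neg, map_mul, hinv]
      ring
    obtain ⟨b, hb⟩ := hσ.tr _ hfix2
    have hb' : b + σ b + (-t) * σ (-t) = 0 := by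
      rw [map_neg, hb]
      ring
    rw [xsG_eq_comm hc hσ p r hpr hp hr hrp hpc hrc t z b hz' hb']
    exact M.mul_mem (M.mul_mem (hE _ _ _ _ _) (hE _ _ _ _ _))
      (M.inv_mem (M.mul_mem (hE _ _ _ _ _) (hE _ _ _ _ _)))
  · intro k hk t ht
    have h : t + σ t + 0 * σ 0 = 0 := by rw [map_zero, mul_zero, add_zero]; exact ht
    rw [lgG_eq_euG hc hinv k hk (hmid k hk) t ht h]
    exact hE _ _ _ _ _
  · intro c' hc' q hq a b h
    have hcc : c' = c := by
      apply Fin.ext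
      have h1 := congrArg Fin.val hc'
      have h2 := congrArg Fin.val hc
      rw [Fin.val_rev] at h1 h2
      omega
    subst hcc
    exact hE q hq a b h

end odd

end Cfsg.Agent.Lib.Helper15.UnGen
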