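import Mathlib
import Cfsg.Agent.Lib.Helper15.UnGenG

/-!
helper15: the unitary group `GUJ σ n`, `n` even: a torus element and the product of a Coxeter
element with a short root element generate a subgroup containing all the elements of
determinant one.
-/

set_option autoImplicit false

namespace Cfsg.Agent.Lib.Helper15.UnGen

open Matrix Equiv Cfsg Cfsg.Agent.Lib.Helper6.GLBN Cfsg.Agent.Lib.Helper6.GLSt
  Cfsg.Agent.Lib.Helper15.UnBN Cfsg.Agent.Lib.Helper15.OrBN Cfsg.Agent.Lib.Helper15.OrGen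
open Cfsg.Agent.Lib.Helper16.FusSU (InvOK)
open Cfsg.Agent.Lib.Helper15.SpBN (xGL_comm)

variable {n : ℕ} {F : Type*} [Field F] {σ : F →+* F}

lemma xsG_congr (hσ : ∀ x, σ (σ x) = x) {p q p' q' : Fin n} (hpq : p ≠ q) (hp : p ≠ p.rev)
    (hq : q ≠ q.rev) (hpq' : p' ≠ q') (hp' : p' ≠ p'.rev) (hq' : q' ≠ q'.rev)
    (e1 : p = p') (e2 : q = q') {t t' : F} (ht : t = t') :
    xsG hσ p q hpq hp hq t = xsG hσ p' q' hpq' hp' hq' t' := by
  subst e1 e2 ht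
  rfl

lemma xsG_mul (hσ : ∀ x, σ (σ x) = x) {p q : Fin n} (hpq : p ≠ q) (hp : p ≠ p.rev)
    (hq : q ≠ q.rev) (t u : F) :
    xsG hσ p q hpq hp hq t * xsG hσ p q hpq hp hq u = xsG hσ p q hpq hp hq (t + u) :=
  Subtype.ext (xsU_mul hpq hp hq t u)

lemma xsG_inv (hσ : ∀ x, σ (σ x) = x) {p q : Fin n} (hpq : p ≠ q) (hp : p ≠ p.rev)
    (hq : q ≠ q.rev) (t : F) :
    (xsG hσ p q hpq hp hq t)⁻¹ = xsG hσ p q hpq hp hq (-t) :=
  Subtype.ext (xsU_inv hpq hp hq t)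

lemma xsG_zero (hσ : ∀ x, σ (σ x) = x) {p q : Fin n} (hpq : p ≠ q) (hp : p ≠ p.rev)
    (hq : q ≠ q.rev) : xsG hσ p q hpq hp hq 0 = 1 :=
  Subtype.ext (xsU_zero p q hpq)

lemma xsG_apply_pq (hσ : ∀ x, σ (σ x) = x) {p q : Fin n} (hpq : p ≠ q) (hp : p ≠ p.rev)
    (hq : q ≠ q.rev) (hq' : q ≠ p.rev) (t : F) : mat (xsG hσ p q hpq hp hq t) p q = t := by
  show ((xsU σ p q hpq t : GL (Fin n) F) : Matrix (Fin n) (Fin n) F) p q = t
  rw [xsU_apply hpq hq, if_neg hpq, if_neg, if_pos ⟨rfl, rfl⟩]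
  · ring
  · rintro ⟨-, h2⟩
    exact hq' h2

/-- the short root group at `(p, q)` -/
def XS (hσ : ∀ x, σ (σ x) = x) (p q : Fin n) (hpq : p ≠ q) (hp : p ≠ p.rev) (hq : q ≠ q.rev) :
    Subgroup ↥(GUJ σ n) where
  carrier := {g | ∃ t : F, g = xsG hσ p q hpq hp hq t}
  mul_mem' := by
    rintro _ _ ⟨t, rfl⟩ ⟨u, rfl⟩
    exact ⟨t + u, xsG_mul hσ hpq hp hq t u⟩
  one_mem' := ⟨0, (xsG_zero hσ hpq hp hq).symm⟩
  inv_mem' := by
    rintro _ ⟨t, rfl⟩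
    exact ⟨-t, xsG_inv hσ hpq hp hq t⟩

/-- conjugation of a short root element by a monomial element -/
lemma monoGU_conj_xsG (hσ : ∀ x, σ (σ x) = x) (τ : Perm (Fin n)) (d : Fin n → Fˣ)
    (hτ : ∀ a, τ a.rev = (τ a).rev) (hd : ∀ a, (d a : F) * σ (d a.rev : F) = 1)
    {p q p' q' : Fin n} (hpq : p ≠ q) (hp : p ≠ p.rev) (hq : q ≠ q.rev)
    (hpq' : p' ≠ q') (hp' : p' ≠ p'.rev) (hq' : q' ≠ q'.rev) (e1 : τ p = p') (e2 : τ q = q')
    (t : F) :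
    monoGU τ d hτ hd * xsG hσ p q hpq hp hq t * (monoGU τ d hτ hd)⁻¹ =
      xsG hσ p' q' hpq' hp' hq' (t * (d p : F) / (d q : F)) := by
  apply Subtype.ext
  show monoGL τ d * xsU σ p q hpq t * (monoGL τ d)⁻¹ = xsU σ p' q' hpq' _
  rw [monoGL_conj_xsU' τ d hτ hd]
  exact xsU_congr' _ _ e1 e2 rfl

/-- the symmetry of the short root elements -/
lemma xsG_symm (hσ : ∀ x, σ (σ x) = x) {p q : Fin n} (hpq : p ≠ q) (hp : p ≠ p.rev)
    (hq : q ≠ q.rev) (t : F) :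
    xsG hσ p q hpq hp hq t =
      xsG hσ q.rev p.rev (fun e => hpq (Fin.rev_injective e).symm)
        (fun e => hq (by rw [Fin.rev_rev] at e; exact e.symm))
        (fun e => hp (by rw [Fin.rev_rev] at e; exact e.symm)) (-σ t) := by
  apply Subtype.ext
  show xsU σ p q hpq t = xsU σ q.rev p.rev _ (-σ t)
  unfold xsU
  have h1 : p.rev.rev ≠ q.rev.rev := by rw [Fin.rev_rev, Fin.rev_rev]; exact hpq
  have e : xGL p.rev.rev q.rev.rev h1 (-σ (-σ t)) = xGL p q hpq t :=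
    xGL_congr _ _ (Fin.rev_rev p) (Fin.rev_rev q) (by rw [map_neg, hσ]; ring)
  rw [e]
  exact xGL_comm _ _ hq (Ne.symm hp) _ _

/-- a whole short root group lies in the subgroup -/
def QM (hσ : ∀ x, σ (σ x) = x) (M : Subgroup ↥(GUJ σ n)) (p q : Fin n) : Prop :=
  ∀ (hpq : p ≠ q) (hp : p ≠ p.rev) (hq : q ≠ q.rev) (t : F), xsG hσ p q hpq hp hq t ∈ M

lemma QM_conj (hσ : ∀ x, σ (σ x) = x) {M : Subgroup ↥(GUJ σ n)} (τ : Perm (Fin n))
    (d : Fin n → Fˣ) (hτ : ∀ a, τ a.rev = (τ a).rev)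
    (hd : ∀ a, (d a : F) * σ (d a.rev : F) = 1) (hn : monoGU τ d hτ hd ∈ M) {p q : Fin n}
    (h : QM hσ M p q) : QM hσ M (τ p) (τ q) := by
  intro hpq hp hq t
  have hpq0 : p ≠ q := fun e => hpq (by rw [e])
  have hp0 : p ≠ p.rev := fun e => hp (by rw [← hτ p, ← e])
  have hq0 : q ≠ q.rev := fun e => hq (by rw [← hτ q, ← e])
  have hdq : (d q : F) ≠ 0 := (d q).ne_zero
  have hdp : (d p : F) ≠ 0 := (d p).ne_zero
  have h1 := h hpq0 hp0 hq0 (t * (d q : F) / (d p : F))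
  have h2 := M.mul_mem (M.mul_mem hn h1) (M.inv_mem hn)
  rw [monoGU_conj_xsG hσ τ d hτ hd hpq0 hp0 hq0 hpq hp hq rfl rfl] at h2
  have e : t * (d q : F) / (d p : F) * (d p : F) / (d q : F) = t := by field_simp
  rw [e] at h2
  exact h2

lemma QM_comm (hσ : ∀ x, σ (σ x) = x) {M : Subgroup ↥(GUJ σ n)} {p q r : Fin n}
    (hpq : p ≠ q) (hpr : p ≠ r) (hqr : q ≠ r)
    (hpp : p ≠ p.rev) (hqq : q ≠ q.rev) (hrr : r ≠ r.rev)
    (hpq' : p ≠ q.rev) (hpr' : p ≠ r.rev) (hqr' : q ≠ r.rev)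
    (h1 : QM hσ M p q) (h2 : QM hσ M q r) : QM hσ M p r := by
  intro _ _ _ t
  have h := xsU_comm_rel (σ := σ) hpq hpr hqr hpp hqq hrr hpq' hpr' hqr' t 1
  have e : xsG hσ p r hpr hpp hrr t =
      xsG hσ p q hpq hpp hqq t * xsG hσ q r hqr hqq hrr 1 *
        (xsG hσ q r hqr hqq hrr 1 * xsG hσ p q hpq hpp hqq t)⁻¹ := by
    apply Subtype.ext
    show xsU σ p r hpr t = xsU σ p q hpq t * xsU σ q r hqr 1 *
      (xsU σ q r hqr 1 * xsU σ p q hpq t)⁻¹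
    rw [h, mul_one]
    group
  rw [e]
  exact M.mul_mem (M.mul_mem (h1 _ _ _ _) (h2 _ _ _ _))
    (M.inv_mem (M.mul_mem (h2 _ _ _ _) (h1 _ _ _ _)))

lemma QM_symm (hσ : ∀ x, σ (σ x) = x) {M : Subgroup ↥(GUJ σ n)} {p q : Fin n}
    (h : QM hσ M q.rev p.rev) : QM hσ M p q := by
  intro hpq hp hq t
  rw [xsG_symm hσ hpq hp hq t]
  exact h _ _ _ _

lemma long_of_QM (hσ : InvOK σ) {M : Subgroup ↥(GUJ σ n)} {p q : Fin n}
    (hpq : p ≠ q) (hpp : p ≠ p.rev) (hqq : q ≠ q.rev) (hpq' : p ≠ q.rev)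
    (h1 : QM hσ.invol M p q) (h2 : QM hσ.invol M q p.rev) (t : F) (ht : t + σ t = 0) :
    lgG p hpp t ht ∈ M := by
  have hinv := hσ.invol
  obtain ⟨e0, he0, hes⟩ := hσ.sk
  have hσe : σ e0 = -e0 := by linear_combination hes
  have hσt : σ t = -t := by linear_combination ht
  have hfix : σ (t / e0) = t / e0 := by
    rw [map_div₀, hσe, hσt, neg_div_neg_eq]
  obtain ⟨w, hw⟩ := hσ.tr _ hfix
  have hz : e0 * w * 1 - σ (e0 * w * 1) = t := by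
    rw [mul_one, map_mul, hσe]
    have : e0 * w - -e0 * σ w = e0 * (w + σ w) := by ring
    rw [this, hw, mul_div_cancel₀ _ he0]
  have hqp' : q ≠ p.rev := fun e => hpq' (by rw [e, Fin.rev_rev])
  have hp'' : p.rev ≠ p.rev.rev := by rw [Fin.rev_rev]; exact hpp.symm
  have h := xsU_long_rel (σ := σ) hpq hpp hqq hpq' (e0 * w) 1
  have e : lgG p hpp t ht =
      xsG hinv p q hpq hpp hqq (e0 * w) * xsG hinv q p.rev hqp' hqq hp'' 1 *
        (xsG hinv q p.rev hqp' hqq hp'' 1 * xsG hinv p q hpq hpp hqq (e0 * w))⁻¹ := by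
    apply Subtype.ext
    show xGL p p.rev hpp t = xsU σ p q hpq (e0 * w) * xsU σ q p.rev hqp' 1 *
      (xsU σ q p.rev hqp' 1 * xsU σ p q hpq (e0 * w))⁻¹
    rw [h, hz]
    group
  rw [e]
  exact M.mul_mem (M.mul_mem (h1 _ _ _ _) (h2 _ _ _ _))
    (M.inv_mem (M.mul_mem (h2 _ _ _ _) (h1 _ _ _ _)))

end Cfsg.Agent.Lib.Helper15.UnGen
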