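import Mathlib
import Cfsg.Agent.Lib.Helper15.UnGenI

/-!
helper15: the generation theorem for the unitary group `GUJ σ n`, `n = 2m` even, `m ≥ 2`.
-/

set_option autoImplicit false

namespace Cfsg.Agent.Lib.Helper15.UnGen

open Matrix Equiv Cfsg Cfsg.Agent.Lib.Helper6.GLBN Cfsg.Agent.Lib.Helper6.GLSt
  Cfsg.Agent.Lib.Helper15.UnBN Cfsg.Agent.Lib.Helper15.OrBN Cfsg.Agent.Lib.Helper15.OrGen
open Cfsg.Agent.Lib.Helper16.FusSU (InvOK)

variable {n : ℕ} {F : Type*} [Field F] {σ : F →+* F}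

/-- **the generation theorem in even dimension** -/
theorem two_gen_core_even (hσ : InvOK σ) (m : ℕ) (hm : 2 ≤ m) (a : ℕ → Fin n)
    (τ : Perm (Fin n)) (d : Fin n → Fˣ) (hτ : ∀ a, τ a.rev = (τ a).rev)
    (hd : ∀ a, (d a : F) * σ (d a.rev : F) = 1)
    (ha_step : ∀ i, a (i + 1) = τ (a i))
    (ha_rev : ∀ i, a (i + m) = (a i).rev)
    (ha_inj : ∀ i j, i < j → j < i + 2 * m → a i ≠ a j)
    (ha_surj : ∀ p, ∃ i, a i = p)
    (e : Fin n → Fˣ) (he : ∀ a, (e a : F) * σ (e a.rev : F) = 1)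
    (he0 : (e (a 0) : F) / (e (a 1) : F) ≠ 1) (he1 : (e (a 1) : F) / (e (a 2) : F) ≠ 1)
    (hgen : ∀ S : AddSubgroup F, (∀ s ∈ S, (e (a 1) : F) / (e (a 2) : F) * s ∈ S) →
      (∃ s ∈ S, s ≠ 0) → S = ⊤)
    (h01 : a 0 ≠ a 1) (h0 : a 0 ≠ (a 0).rev) (h1 : a 1 ≠ (a 1).rev)
    (M : Subgroup ↥(GUJ σ n))
    (hh : monoGU 1 e (fun _ => rfl) he ∈ M)
    (hb : monoGU τ d hτ hd * xsG hσ.invol (a 0) (a 1) h01 h0 h1 1 ∈ M) :
    ∀ g : ↥(GUJ σ n), (mat g).det = 1 → g ∈ M := by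
  have hinv := hσ.invol
  -- distinctness facts
  have hrev : ∀ i, a i ≠ (a i).rev := by
    intro i
    rw [← ha_rev i]
    exact ha_inj i (i + m) (by omega) (by omega)
  have h12 : a 1 ≠ a 2 := ha_inj 1 2 (by omega) (by omega)
  have h2 : a 2 ≠ (a 2).rev := hrev 2
  have h10' : a 1 ≠ (a 0).rev := by
    rw [← ha_rev 0]
    exact ha_inj 1 (0 + m) (by omega) (by omega)
  have hτ0 : τ (a 0) = a 1 := (ha_step 0).symm
  have hτ1 : τ (a 1) = a 2 := (ha_step 1).symm
  have hper : ∀ i, a (i + 2 * m) = a i := by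
    intro i
    have : i + 2 * m = i + m + m := by ring
    rw [this, ha_rev, ha_rev, Fin.rev_rev]
  have hper' : ∀ s i, a (i + 2 * m * s) = a i := by
    intro s
    induction s with
    | zero => intro i; rfl
    | succ s ih =>
      intro i
      have : i + 2 * m * (s + 1) = i + 2 * m * s + 2 * m := by ring
      rw [this, hper, ih]
  -- the data of the core lemma
  have hπ : ∀ u ∈ XS hinv (a 0) (a 1) h01 h0 h1, ∀ v ∈ XS hinv (a 0) (a 1) h01 h0 h1,
      mat (u * v) (a 0) (a 1) = mat u (a 0) (a 1) + mat v (a 0) (a 1) := by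
    rintro _ ⟨t, rfl⟩ _ ⟨u, rfl⟩
    rw [xsG_mul, xsG_apply_pq hinv h01 h0 h1 h10', xsG_apply_pq hinv h01 h0 h1 h10',
      xsG_apply_pq hinv h01 h0 h1 h10']
  have hA : ∀ u ∈ XS hinv (a 0) (a 1) h01 h0 h1,
      monoGU 1 e (fun _ => rfl) he * u * (monoGU 1 e (fun _ => rfl) he)⁻¹ ∈
        XS hinv (a 0) (a 1) h01 h0 h1 ∧
      mat (monoGU 1 e (fun _ => rfl) he * u * (monoGU 1 e (fun _ => rfl) he)⁻¹) (a 0) (a 1) =
        (e (a 0) : F) / (e (a 1) : F) * mat u (a 0) (a 1) := by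
    rintro _ ⟨t, rfl⟩
    rw [monoGU_conj_xsG hinv 1 e (fun _ => rfl) he h01 h0 h1 h01 h0 h1 rfl rfl]
    refine ⟨⟨_, rfl⟩, ?_⟩
    rw [xsG_apply_pq hinv h01 h0 h1 h10', xsG_apply_pq hinv h01 h0 h1 h10']
    ring
  have hS : ∀ u ∈ XS hinv (a 0) (a 1) h01 h0 h1, ∃ u' ∈ XS hinv (a 0) (a 1) h01 h0 h1,
      monoGU 1 e (fun _ => rfl) he * (monoGU τ d hτ hd * u * (monoGU τ d hτ hd)⁻¹) *
        (monoGU 1 e (fun _ => rfl) he)⁻¹ = monoGU τ d hτ hd * u' * (monoGU τ d hτ hd)⁻¹ ∧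
      mat u' (a 0) (a 1) = (e (a 1) : F) / (e (a 2) : F) * mat u (a 0) (a 1) := by
    rintro _ ⟨t, rfl⟩
    refine ⟨xsG hinv (a 0) (a 1) h01 h0 h1 ((e (a 1) : F) / (e (a 2) : F) * t), ⟨_, rfl⟩, ?_, ?_⟩
    · rw [monoGU_conj_xsG hinv τ d hτ hd h01 h0 h1 h12 h1 h2 hτ0 hτ1,
        monoGU_conj_xsG hinv τ d hτ hd h01 h0 h1 h12 h1 h2 hτ0 hτ1,
        monoGU_conj_xsG hinv 1 e (fun _ => rfl) he h12 h1 h2 h12 h1 h2 rfl rfl]
      apply xsG_congr hinv _ _ _ _ _ _ rfl rfl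
      ring
    · rw [xsG_apply_pq hinv h01 h0 h1 h10', xsG_apply_pq hinv h01 h0 h1 h10']
  have hcomm : Commute (monoGU 1 e (fun _ => rfl) he)
      (monoGU τ d hτ hd * monoGU 1 e (fun _ => rfl) he * (monoGU τ d hτ hd)⁻¹) :=
    TG_commU _ _ (monoGU_one_mem_TG e he) (monoGU_conj_mem_TG τ d e hτ hd he)
  have hu00 : mat (xsG hinv (a 0) (a 1) h01 h0 h1 1) (a 0) (a 1) ≠ 0 := by
    rw [xsG_apply_pq hinv h01 h0 h1 h10']
    exact one_ne_zero
  have hfull : ∀ S : Subgroup ↥(GUJ σ n), S ≤ XS hinv (a 0) (a 1) h01 h0 h1 →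
      (∀ k : F, ∃ u ∈ S, mat u (a 0) (a 1) = k) → XS hinv (a 0) (a 1) h01 h0 h1 ≤ S := by
    rintro S hS hfull _ ⟨t, rfl⟩
    obtain ⟨u, hu, hut⟩ := hfull t
    obtain ⟨t', rfl⟩ := hS hu
    rw [xsG_apply_pq hinv h01 h0 h1 h10'] at hut
    rw [← hut]
    exact hu
  obtain ⟨hXM, hnM⟩ := core_lemma_na M (XS hinv (a 0) (a 1) h01 h0 h1)
    (fun g => mat g (a 0) (a 1)) hπ
    (monoGU 1 e (fun _ => rfl) he) (monoGU τ d hτ hd) (xsG hinv (a 0) (a 1) h01 h0 h1 1)
    ((e (a 0) : F) / (e (a 1) : F)) ((e (a 1) : F) / (e (a 2) : F)) he0 he1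
    ⟨_, rfl⟩ hu00 hA hS hgen hfull hcomm hh hb
  -- step 1: the orbit of the Coxeter element
  have hQ1 : ∀ i, QM hinv M (a i) (a (i + 1)) := by
    intro i
    induction i with
    | zero =>
      intro _ _ _ t
      exact hXM ⟨t, rfl⟩
    | succ i ih =>
      have := QM_conj hinv τ d hτ hd hnM ih
      rw [← ha_step, ← ha_step] at this
      exact this
  -- step 2: commutators
  have hQ2 : ∀ j, 1 ≤ j → j < m → ∀ i, QM hinv M (a i) (a (i + j)) := by
    intro j hj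
    induction j, hj using Nat.le_induction with
    | base => intro _ i; exact hQ1 i
    | succ j hj ih =>
      intro hjm i
      have ih' := ih (by omega) i
      have hq := hQ1 (i + j)
      have e : i + (j + 1) = i + j + 1 := by ring
      rw [e]
      have r1 : (a i).rev = a (i + m) := (ha_rev i).symm
      have r2 : (a (i + j)).rev = a (i + j + m) := (ha_rev (i + j)).symm
      have r3 : (a (i + j + 1)).rev = a (i + j + 1 + m) := (ha_rev (i + j + 1)).symm
      apply QM_comm hinv (q := a (i + j)) _ _ _ _ _ _ _ _ _ ih' hq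
      · exact ha_inj _ _ (by omega) (by omega)
      · exact ha_inj _ _ (by omega) (by omega)
      · exact ha_inj _ _ (by omega) (by omega)
      · exact hrev _
      · exact hrev _
      · exact hrev _
      · rw [r2]; exact ha_inj _ _ (by omega) (by omega)
      · rw [r3]; exact ha_inj _ _ (by omega) (by omega)
      · rw [r3]; exact ha_inj _ _ (by omega) (by omega)
  -- step 3: all the short root groups
  have hQ3 : ∀ p q : Fin n, q ≠ p.rev → QM hinv M p q := by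
    intro p q hqp
    by_cases hpq : p = q
    · intro h; exact absurd hpq h
    obtain ⟨i, rfl⟩ := ha_surj p
    obtain ⟨j', rfl⟩ := ha_surj q
    have hmpos : 0 < 2 * m := by omega
    have hle : i ≤ j' + 2 * m * i := by nlinarith
    obtain ⟨N, hN⟩ : ∃ N, j' + 2 * m * i = i + N := ⟨j' + 2 * m * i - i, by omega⟩
    have hdm := Nat.div_add_mod N (2 * m)
    have hr := Nat.mod_lt N hmpos
    set r := N % (2 * m) with hrdef
    set s := N / (2 * m) with hsdef
    have hq : a j' = a (i + r) := by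
      rw [← hper' i j', hN, ← hdm, ← hper' s (i + r)]
      congr 1
      ring
    rw [hq] at hqp hpq ⊢
    have hr0 : r ≠ 0 := by
      intro h
      rw [h, add_zero] at hpq
      exact hpq rfl
    have hrm : r ≠ m := by
      intro h
      rw [h, ha_rev] at hqp
      exact hqp rfl
    by_cases hlt : r < m
    · exact hQ2 r (by omega) hlt i
    · obtain ⟨r1, hr1⟩ : ∃ r1, r = m + r1 := ⟨r - m, by omega⟩
      apply QM_symm
      have e1 : (a (i + r)).rev = a (i + r1) := by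
        have : i + r = i + r1 + m := by omega
        rw [this, ha_rev, Fin.rev_rev]
      have e2 : (a i).rev = a (i + r1 + (m - r1)) := by
        have : i + r1 + (m - r1) = i + m := by omega
        rw [this, ha_rev]
      rw [e1, e2]
      exact hQ2 (m - r1) (by omega) (by omega) (i + r1)
  -- the conclusion
  apply det_one_mem_of_roots hσ M
  · intro p q hpq hp hq hqp t
    exact hQ3 p q hqp hpq hp hq t
  · intro k hk t ht
    obtain ⟨i, rfl⟩ := ha_surj k
    have g1 : a i ≠ a (i + 1) := ha_inj _ _ (by omega) (by omega)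
    have g2 : a i ≠ (a (i + 1)).rev := by
      rw [← ha_rev]
      exact ha_inj _ _ (by omega) (by omega)
    apply long_of_QM hσ g1 hk (hrev (i + 1)) g2 (hQ1 i)
    apply hQ3
    exact fun e => g1 (Fin.rev_injective e)
  · intro c hc q hq a' b h
    exact absurd hc.symm (by
      obtain ⟨i, rfl⟩ := ha_surj c
      exact hrev i)

end Cfsg.Agent.Lib.Helper15.UnGen
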