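import Mathlib

/-!
helper15: the Coxeter permutation of `Fin (2m)` (a `2m`-cycle commuting with the reversal, whose
`m`-th power is the reversal).
-/

set_option autoImplicit false

namespace Cfsg.Agent.Lib.Helper15.UnGen

open Equiv

/-- the Coxeter permutation, as a function -/
def coxFunE (m : ℕ) (i : Fin (2 * m)) : Fin (2 * m) :=
  if h1 : i.val + 1 < m then ⟨i.val + 1, by omega⟩
  else if h2 : i.val + 1 = m then ⟨2 * m - 1, by omega⟩
  else if h3 : i.val = m then ⟨0, by omega⟩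
  else ⟨i.val - 1, by omega⟩

lemma coxFunE_val (m : ℕ) (i : Fin (2 * m)) : (coxFunE m i).val =
    if i.val + 1 < m then i.val + 1 else if i.val + 1 = m then 2 * m - 1
    else if i.val = m then 0 else i.val - 1 := by
  unfold coxFunE
  split_ifs <;> simp_all

lemma coxFunE_injective (m : ℕ) : Function.Injective (coxFunE m) := by
  intro a b h
  have := congrArg Fin.val h
  rw [coxFunE_val, coxFunE_val] at this
  apply Fin.ext
  have ha := a.2
  have hb := b.2
  split_ifs at this <;> omega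

/-- the Coxeter permutation -/
noncomputable def coxPermE (m : ℕ) : Perm (Fin (2 * m)) :=
  Equiv.ofBijective (coxFunE m) (Finite.injective_iff_bijective.mp (coxFunE_injective m))

lemma coxPermE_val (m : ℕ) (i : Fin (2 * m)) : (coxPermE m i).val =
    if i.val + 1 < m then i.val + 1 else if i.val + 1 = m then 2 * m - 1
    else if i.val = m then 0 else i.val - 1 :=
  coxFunE_val m i

lemma coxPermE_rev (m : ℕ) (a : Fin (2 * m)) : coxPermE m a.rev = (coxPermE m a).rev := by
  apply Fin.ext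
  rw [Fin.val_rev, coxPermE_val, coxPermE_val, Fin.val_rev]
  have ha := a.2
  split_ifs <;> omega

lemma coxPermE_pow_rev (m : ℕ) (k : ℕ) (a : Fin (2 * m)) :
    (coxPermE m ^ k) a.rev = ((coxPermE m ^ k) a).rev := by
  induction k with
  | zero => rfl
  | succ k ih => rw [pow_succ', Perm.mul_apply, Perm.mul_apply, ih, coxPermE_rev]

lemma coxPermE_pow_zero (m : ℕ) (p0 : Fin (2 * m)) (hp0 : p0.val = 0) :
    ∀ k : ℕ, k < 2 * m → ((coxPermE m ^ k) p0).val = if k < m then k else 3 * m - 1 - k := by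
  intro k
  induction k with
  | zero =>
    intro h
    rw [pow_zero, Perm.one_apply, hp0, if_pos (by omega)]
  | succ k ih =>
    intro h
    have := ih (by omega)
    rw [pow_succ', Perm.mul_apply, coxPermE_val, this]
    split_ifs <;> omega

/-- the orbit of the first index -/
noncomputable def coxSeq (m : ℕ) (p0 : Fin (2 * m)) (i : ℕ) : Fin (2 * m) := (coxPermE m ^ i) p0

lemma coxSeq_step (m : ℕ) (p0 : Fin (2 * m)) (i : ℕ) :
    coxSeq m p0 (i + 1) = coxPermE m (coxSeq m p0 i) := by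
  unfold coxSeq
  rw [pow_succ', Perm.mul_apply]

lemma coxSeq_m (m : ℕ) (hm : 1 ≤ m) (p0 : Fin (2 * m)) (hp0 : p0.val = 0) :
    coxSeq m p0 m = p0.rev := by
  apply Fin.ext
  unfold coxSeq
  rw [coxPermE_pow_zero m p0 hp0 m (by omega), if_neg (by omega), Fin.val_rev, hp0]
  omega

lemma coxSeq_rev (m : ℕ) (hm : 1 ≤ m) (p0 : Fin (2 * m)) (hp0 : p0.val = 0) (i : ℕ) :
    coxSeq m p0 (i + m) = (coxSeq m p0 i).rev := by
  have h := coxSeq_m m hm p0 hp0
  unfold coxSeq at h ⊢
  rw [pow_add, Perm.mul_apply, h, coxPermE_pow_rev]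

lemma coxSeq_inj (m : ℕ) (p0 : Fin (2 * m)) (hp0 : p0.val = 0) (i j : ℕ)
    (hij : i < j) (hj : j < i + 2 * m) : coxSeq m p0 i ≠ coxSeq m p0 j := by
  obtain ⟨r, rfl⟩ : ∃ r, j = i + r := ⟨j - i, by omega⟩
  intro h
  unfold coxSeq at h
  rw [pow_add, Perm.mul_apply] at h
  have h' := (coxPermE m ^ i).injective h
  have h'' := congrArg Fin.val h'
  rw [coxPermE_pow_zero m p0 hp0 r (by omega), hp0] at h''
  split_ifs at h'' <;> omega

lemma coxSeq_surj (m : ℕ) (p0 : Fin (2 * m)) (hp0 : p0.val = 0) (p : Fin (2 * m)) :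
    ∃ i, coxSeq m p0 i = p := by
  have hp := p.2
  by_cases h : p.val < m
  · refine ⟨p.val, Fin.ext ?_⟩
    unfold coxSeq
    rw [coxPermE_pow_zero m p0 hp0 _ (by omega), if_pos h]
  · refine ⟨3 * m - 1 - p.val, Fin.ext ?_⟩
    unfold coxSeq
    rw [coxPermE_pow_zero m p0 hp0 _ (by omega), if_neg (by omega)]
    omega

lemma coxSeq_val (m : ℕ) (p0 : Fin (2 * m)) (hp0 : p0.val = 0) (k : ℕ) (hk : k < 2 * m) :
    (coxSeq m p0 k).val = if k < m then k else 3 * m - 1 - k :=
  coxPermE_pow_zero m p0 hp0 k hk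

end Cfsg.Agent.Lib.Helper15.UnGen
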