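import Mathlib
import Cfsg.Agent.Lib.Helper15.UnGenH
import Cfsg.Agent.Lib.Helper15.UnGenJ
import Cfsg.Agent.Lib.Helper15.UnGenK

/-!
helper15: ingredients for the two generators of the special unitary group: a monomial
representative of determinant one of any Weyl group element, the torus elements of determinant one
coming from the coroots, powers of a generator of the multiplicative group.
-/

set_option autoImplicit false

namespace Cfsg.Agent.Lib.Helper15.UnGen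

open Matrix Equiv Cfsg Cfsg.Agent.Lib.Helper6.GLBN Cfsg.Agent.Lib.Helper6.GLSt
  Cfsg.Agent.Lib.Helper15.UnBN Cfsg.Agent.Lib.Helper15.OrBN Cfsg.Agent.Lib.Helper15.OrGen
open Cfsg.Agent.Lib.Helper16.FusSU (InvOK UJ corf corf_unitary prod_corf)

variable {n : ℕ} {F : Type*} [Field F] {σ : F →+* F}

/-- a monomial representative of determinant one -/
lemma exists_mono_det_one (hσ : InvOK σ) (hn : 2 ≤ n) (τ : Perm (Fin n))
    (hτ : ∀ a, τ a.rev = (τ a).rev) :
    ∃ (d : Fin n → Fˣ) (hd : ∀ a, (d a : F) * σ (d a.rev : F) = 1),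
      (mat (monoGU τ d hτ hd)).det = 1 := by
  have h1 : ∀ a : Fin n, (((1 : Fˣ)) : F) * σ (((1 : Fˣ)) : F) = 1 := fun _ => by simp
  obtain ⟨h, t, ht, hg⟩ := toGUJ_mul_torus hσ.invol hσ.sk hn
    (monoGU τ (fun _ => (1 : Fˣ)) hτ h1)
  rw [BG_inf_NG, mem_TG] at ht
  obtain ⟨c', hc'⟩ := ht
  have hh : ((toGUJ σ n h : ↥(GUJ σ n)) : GL (Fin n) F) = monoGL τ (fun j => (c' j)⁻¹) := by
    have e1 : toGUJ σ n h = monoGU τ (fun _ => (1 : Fˣ)) hτ h1 * t⁻¹ := by
      rw [hg]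
      group
    rw [e1]
    show monoGL τ (fun _ => (1 : Fˣ)) * (t : GL (Fin n) F)⁻¹ = _
    rw [hc', monoGL_inv, monoGL_mul]
    congr 1
    funext j
    simp
  have hmem : monoGL τ (fun j => (c' j)⁻¹) ∈ GUJ σ n := by
    rw [← hh]
    exact (toGUJ σ n h).2
  rw [monoGL_mem_GUJ_iff] at hmem
  refine ⟨fun j => (c' j)⁻¹, hmem.2, ?_⟩
  have e : mat (monoGU τ (fun j => (c' j)⁻¹) hτ hmem.2) = mat (toGUJ σ n h) := by
    show ((monoGL τ (fun j => (c' j)⁻¹) : GL (Fin n) F) : Matrix (Fin n) (Fin n) F) = _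
    rw [← hh]
    rfl
  rw [e]
  exact h.1.2

lemma corf_ne_zero' (σ : F →+* F) (j j1 : Fin n) {s : F} (hs : s ≠ 0) (x : Fin n) :
    corf σ j j1 s x ≠ 0 := by
  have hs' : σ s ≠ 0 := fun h => hs ((map_eq_zero σ).mp h)
  unfold corf
  split_ifs <;> simp [hs, hs']

/-- the coefficients of the torus element -/
noncomputable def eCor (σ : F →+* F) (p0 p1 : Fin n) (s : F) (hs : s ≠ 0) (x : Fin n) : Fˣ :=
  Units.mk0 (corf σ p0 p1 s x) (corf_ne_zero' σ p0 p1 hs x)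

lemma eCor_val (p0 p1 : Fin n) (s : F) (hs : s ≠ 0) (x : Fin n) :
    ((eCor σ p0 p1 s hs x : Fˣ) : F) = corf σ p0 p1 s x := rfl

lemma eCor_unitary (hσ : ∀ x, σ (σ x) = x) (p0 p1 : Fin n) (s : F) (hs : s ≠ 0) (a : Fin n) :
    ((eCor σ p0 p1 s hs a : Fˣ) : F) * σ ((eCor σ p0 p1 s hs a.rev : Fˣ) : F) = 1 :=
  corf_unitary hσ p0 p1 hs a

lemma det_eCor (hσ : ∀ x, σ (σ x) = x) (p0 p1 : Fin n) (s : F) (hs : s ≠ 0) :
    (mat (monoGU 1 (eCor σ p0 p1 s hs) (fun _ => rfl) (eCor_unitary hσ p0 p1 s hs))).det = 1 := by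
  have : mat (monoGU 1 (eCor σ p0 p1 s hs) (fun _ => rfl) (eCor_unitary hσ p0 p1 s hs)) =
      diagonal (corf σ p0 p1 s) := by
    show ((monoGL 1 (eCor σ p0 p1 s hs) : GL (Fin n) F) : Matrix (Fin n) (Fin n) F) = _
    rw [coe_monoGL, mono_one_eq_diagonal]
    rfl
  rw [this, Matrix.det_diagonal, prod_corf σ p0 p1 hs]

/-- the values of the coroot vectors -/
lemma corf_apply (j j1 : Fin n) (s : F) (x : Fin n) : corf σ j j1 s x =
    (if x = j then s else 1) * (if x = j1 then s⁻¹ else 1) * (if x = j1.rev then σ s else 1) *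
      (if x = j.rev then (σ s)⁻¹ else 1) := rfl

lemma pow_ne_one_of_lt {κ : F} {N : ℕ} (hκ : orderOf κ = N) {k : ℕ} (hk0 : 0 < k) (hk : k < N) :
    κ ^ k ≠ 1 := by
  intro h
  have := orderOf_dvd_of_pow_eq_one h
  rw [hκ] at this
  have := Nat.le_of_dvd hk0 this
  omega

/-- a generator of the multiplicative group -/
lemma exists_generator_orderOf [Fintype F] {q : ℕ} (hF : Fintype.card F = q ^ 2) :
    ∃ κ : F, κ ≠ 0 ∧ orderOf κ = q ^ 2 - 1 := by
  classical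
  obtain ⟨g, hg⟩ := IsCyclic.exists_generator (α := Fˣ)
  refine ⟨(g : F), g.ne_zero, ?_⟩
  rw [orderOf_units, orderOf_eq_card_of_forall_mem_zpowers hg, Nat.card_eq_fintype_card,
    Fintype.card_units, hF]

end Cfsg.Agent.Lib.Helper15.UnGen
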