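import Mathlib
import Cfsg.Agent.Lib.Helper15.UnGenL
import Cfsg.Agent.Lib.Helper5.HermBridge

/-!
helper15: two generators of the special unitary group in even dimension `2m ≥ 4`.
-/

set_option autoImplicit false

namespace Cfsg.Agent.Lib.Helper15.UnGen

open Matrix Equiv Cfsg Cfsg.Agent.Lib.Helper6.GLBN Cfsg.Agent.Lib.Helper6.GLSt
  Cfsg.Agent.Lib.Helper15.UnBN Cfsg.Agent.Lib.Helper15.OrBN Cfsg.Agent.Lib.Helper15.OrGen
open Cfsg.Agent.Lib.Helper16.FusSU (InvOK corf)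
open Cfsg.Agent.Lib.Helper5.HermBridge (frobHom)

variable {F : Type*} [Field F] [Fintype F]

/-- **two generators in even dimension** -/
theorem exists_two_gen_even {q : ℕ} (hF : Fintype.card F = q ^ 2) (hq : 2 ≤ q)
    (hσ : InvOK (frobHom hF)) (m : ℕ) (hm : 2 ≤ m) :
    ∃ a b : ↥(GUJ (frobHom hF) (2 * m)), (mat a).det = 1 ∧ (mat b).det = 1 ∧
      ∀ M : Subgroup ↥(GUJ (frobHom hF) (2 * m)), a ∈ M → b ∈ M →
        ∀ g : ↥(GUJ (frobHom hF) (2 * m)), (mat g).det = 1 → g ∈ M := by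
  classical
  have hinv := hσ.invol
  obtain ⟨κ, hκ0, hκ⟩ := exists_generator_orderOf hF
  have hq4 : 4 ≤ q ^ 2 := by nlinarith
  obtain ⟨s, hsdef⟩ : ∃ s : F, s = κ⁻¹ := ⟨_, rfl⟩
  have hs : s ≠ 0 := by rw [hsdef]; exact inv_ne_zero hκ0
  have hσs : frobHom hF s = s ^ q := rfl
  obtain ⟨p0, hp0v⟩ : ∃ p0 : Fin (2 * m), p0.val = 0 := ⟨⟨0, by omega⟩, rfl⟩
  obtain ⟨a, hadef⟩ : ∃ a : ℕ → Fin (2 * m), a = coxSeq m p0 := ⟨_, rfl⟩
  have ha_step : ∀ i, a (i + 1) = coxPermE m (a i) := by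
    intro i; rw [hadef]; exact coxSeq_step m p0 i
  have ha_rev : ∀ i, a (i + m) = (a i).rev := by
    intro i; rw [hadef]; exact coxSeq_rev m (by omega) p0 hp0v i
  have ha_inj : ∀ i j, i < j → j < i + 2 * m → a i ≠ a j := by
    intro i j h1 h2; rw [hadef]; exact coxSeq_inj m p0 hp0v i j h1 h2
  have ha_surj : ∀ p, ∃ i, a i = p := by
    intro p; rw [hadef]; exact coxSeq_surj m p0 hp0v p
  obtain ⟨d, hd, hdet⟩ := exists_mono_det_one hσ (by omega) (coxPermE m) (coxPermE_rev m)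
  -- distinctness
  have r0 : (a 0).rev = a m := by rw [← ha_rev 0, zero_add]
  have r1 : (a 1).rev = a (1 + m) := (ha_rev 1).symm
  have h01 : a 0 ≠ a 1 := ha_inj 0 1 (by omega) (by omega)
  have h0 : a 0 ≠ (a 0).rev := by rw [r0]; exact ha_inj _ _ (by omega) (by omega)
  have h1 : a 1 ≠ (a 1).rev := by rw [r1]; exact ha_inj _ _ (by omega) (by omega)
  have h01' : a 0 ≠ (a 1).rev := by rw [r1]; exact ha_inj _ _ (by omega) (by omega)
  have h10' : a 1 ≠ (a 0).rev := by rw [r0]; exact ha_inj _ _ (by omega) (by omega)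
  -- the values of the torus element
  have hv0 : ((eCor (frobHom hF) (a 0) (a 1) s hs (a 0) : Fˣ) : F) = s := by
    rw [eCor_val, corf_apply, if_pos rfl, if_neg h01, if_neg h01', if_neg h0, mul_one, mul_one,
      mul_one]
  have hv1 : ((eCor (frobHom hF) (a 0) (a 1) s hs (a 1) : Fˣ) : F) = s⁻¹ := by
    rw [eCor_val, corf_apply, if_neg h01.symm, if_pos rfl, if_neg h1, if_neg h10', one_mul,
      mul_one, mul_one]
  have hcA : s / s⁻¹ ≠ 1 := by
    have e : s / s⁻¹ = (κ ^ 2)⁻¹ := by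
      rw [hsdef]
      field_simp
    rw [e]
    intro h
    have := inv_eq_one.mp h
    exact pow_ne_one_of_lt hκ (by norm_num) (by omega) this
  -- the second constant
  have hcS : ((eCor (frobHom hF) (a 0) (a 1) s hs (a 1) : Fˣ) : F) /
      ((eCor (frobHom hF) (a 0) (a 1) s hs (a 2) : Fˣ) : F) ≠ 1 ∧
      FGen (((eCor (frobHom hF) (a 0) (a 1) s hs (a 1) : Fˣ) : F) /
      ((eCor (frobHom hF) (a 0) (a 1) s hs (a 2) : Fˣ) : F)) := by
    rw [hv1]
    by_cases hm3 : 3 ≤ m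
    · have g0 : a 2 ≠ a 0 := (ha_inj 0 2 (by omega) (by omega)).symm
      have g1 : a 2 ≠ a 1 := (ha_inj 1 2 (by omega) (by omega)).symm
      have g2 : a 2 ≠ (a 1).rev := by rw [r1]; exact ha_inj _ _ (by omega) (by omega)
      have g3 : a 2 ≠ (a 0).rev := by rw [r0]; exact ha_inj _ _ (by omega) (by omega)
      have hv2 : ((eCor (frobHom hF) (a 0) (a 1) s hs (a 2) : Fˣ) : F) = 1 := by
        rw [eCor_val, corf_apply, if_neg g0, if_neg g1, if_neg g2, if_neg g3, mul_one, mul_one,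
          mul_one]
      have e : s⁻¹ / 1 = κ ^ 1 := by rw [hsdef, inv_inv, div_one, pow_one]
      rw [hv2, e]
      exact ⟨pow_ne_one_of_lt hκ (by norm_num) (by omega),
        FGen_pow_of_orderOf hq hF κ hκ 1 (by norm_num) (by omega)⟩
    · have hm2 : m = 2 := by omega
      have g0 : a 2 ≠ a 0 := (ha_inj 0 2 (by omega) (by omega)).symm
      have g1 : a 2 ≠ a 1 := (ha_inj 1 2 (by omega) (by omega)).symm
      have g2 : a 2 ≠ (a 1).rev := by rw [r1]; exact ha_inj _ _ (by omega) (by omega)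
      have g3 : a 2 = (a 0).rev := by rw [r0]; exact congrArg a hm2.symm
      have hv2 : ((eCor (frobHom hF) (a 0) (a 1) s hs (a 2) : Fˣ) : F) = (s ^ q)⁻¹ := by
        rw [eCor_val, corf_apply, if_neg g0, if_neg g1, if_neg g2, if_pos g3, one_mul, one_mul,
          one_mul, hσs]
      have e : s⁻¹ / (s ^ q)⁻¹ = (κ ^ (q - 1))⁻¹ := by
        have : κ ^ q = κ ^ (q - 1) * κ := by
          rw [← pow_succ]
          congr 1
          omega
        rw [hsdef, inv_pow, inv_inv, inv_inv, this]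
        field_simp
      rw [hv2, e]
      have h2q : 2 * q ≤ q ^ 2 := by nlinarith
      have hlt : q - 1 < q ^ 2 - 1 := by omega
      refine ⟨?_, (FGen_pow_of_orderOf hq hF κ hκ (q - 1) (by omega) (by omega)).inv⟩
      intro h
      exact pow_ne_one_of_lt hκ (by omega) hlt (inv_eq_one.mp h)
  have he0 : ((eCor (frobHom hF) (a 0) (a 1) s hs (a 0) : Fˣ) : F) /
      ((eCor (frobHom hF) (a 0) (a 1) s hs (a 1) : Fˣ) : F) ≠ 1 := by
    rw [hv0, hv1]
    exact hcA
  refine ⟨monoGU 1 (eCor (frobHom hF) (a 0) (a 1) s hs) (fun _ => rfl)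
      (eCor_unitary hinv (a 0) (a 1) s hs),
    monoGU (coxPermE m) d (coxPermE_rev m) hd * xsG hinv (a 0) (a 1) h01 h0 h1 1,
    det_eCor hinv (a 0) (a 1) s hs, ?_, ?_⟩
  · rw [mat_mul, Matrix.det_mul, hdet, one_mul]
    exact det_RG (xsG_mem_RG hinv h01 h0 h1 1)
  · intro M ha hb
    exact two_gen_core_even hσ m hm a (coxPermE m) d (coxPermE_rev m) hd ha_step ha_rev ha_inj
      ha_surj (eCor (frobHom hF) (a 0) (a 1) s hs) (eCor_unitary hinv (a 0) (a 1) s hs) he0 hcS.1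
      (fun S hS hne => addSubgroup_eq_top_of_FGen hcS.2 S hS hne) h01 h0 h1 M ha hb

end Cfsg.Agent.Lib.Helper15.UnGen
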