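import Mathlib
import Cfsg.Agent.Lib.Helper15.UnGenL
import Cfsg.Agent.Lib.Helper15.OrGenF
import Cfsg.Agent.Lib.Helper5.HermBridge

/-!
helper15: two generators of the special unitary group in odd dimension `2m + 1 ≥ 3`
(`q ≥ 3` when the dimension is three).
-/

set_option autoImplicit false

namespace Cfsg.Agent.Lib.Helper15.UnGen

open Matrix Equiv Cfsg Cfsg.Agent.Lib.Helper6.GLBN Cfsg.Agent.Lib.Helper6.GLSt
  Cfsg.Agent.Lib.Helper15.UnBN Cfsg.Agent.Lib.Helper15.OrBN Cfsg.Agent.Lib.Helper15.OrGen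
open Cfsg.Agent.Lib.Helper16.FusSU (InvOK corf)
open Cfsg.Agent.Lib.Helper5.HermBridge (frobHom pow_q_pow_q)

variable {F : Type*} [Field F] [Fintype F]

/-- **two generators in odd dimension** -/
theorem exists_two_gen_odd {q : ℕ} (hF : Fintype.card F = q ^ 2) (hq : 2 ≤ q)
    (hσ : InvOK (frobHom hF)) (m : ℕ) (hm : 1 ≤ m) (h32 : m = 1 → 3 ≤ q) :
    ∃ a b : ↥(GUJ (frobHom hF) (2 * m + 1)), (mat a).det = 1 ∧ (mat b).det = 1 ∧
      ∀ M : Subgroup ↥(GUJ (frobHom hF) (2 * m + 1)), a ∈ M → b ∈ M →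
        ∀ g : ↥(GUJ (frobHom hF) (2 * m + 1)), (mat g).det = 1 → g ∈ M := by
  classical
  have hinv := hσ.invol
  obtain ⟨κ, hκ0, hκ⟩ := exists_generator_orderOf hF
  have hq4 : 4 ≤ q ^ 2 := by nlinarith
  have h2q : 2 * q ≤ q ^ 2 := by nlinarith
  obtain ⟨s, hsdef⟩ : ∃ s : F, s = κ⁻¹ := ⟨_, rfl⟩
  have hs : s ≠ 0 := by rw [hsdef]; exact inv_ne_zero hκ0
  have hσs : frobHom hF s = s ^ q := rfl
  obtain ⟨c, hcv⟩ : ∃ c : Fin (2 * m + 1), c.val = m := ⟨⟨m, by omega⟩, rfl⟩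
  have hc : c.rev = c := by
    apply Fin.ext
    rw [Fin.val_rev, hcv]
    omega
  obtain ⟨p0, hp0v⟩ : ∃ p0 : Fin (2 * m + 1), p0.val = 0 := ⟨⟨0, by omega⟩, rfl⟩
  obtain ⟨p1, hp1v⟩ : ∃ p1 : Fin (2 * m + 1), p1.val = 1 := ⟨⟨1, by omega⟩, rfl⟩
  have hp0 : p0 ≠ c := by
    apply Fin.ne_of_val_ne
    omega
  have hp0r : p0.rev.val = 2 * m := by
    rw [Fin.val_rev, hp0v]
    omega
  have hp1r : p1.rev.val = 2 * m - 1 := by
    rw [Fin.val_rev, hp1v]
    omega
  have hτ : ∀ a, coxPerm m a.rev = (coxPerm m a).rev := coxPerm_rev m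
  have hτc : coxPerm m c = c := coxPerm_mid m c hcv
  have horb : ∀ q', q' ≠ c → ∃ k : ℕ, (coxPerm m ^ k) p0 = q' := by
    intro q' hq'
    apply coxPerm_orbit m p0 hp0v q'
    intro h
    exact hq' (Fin.ext (h.trans hcv.symm))
  have hτp0 : (coxPerm m p0).val = if 1 < m then 1 else 2 * m := by
    rw [coxPerm_val, hp0v]
    split_ifs <;> omega
  obtain ⟨d, hd, hdet⟩ := exists_mono_det_one hσ (by omega) (coxPerm m) hτ
  -- the root element
  have hfix : frobHom hF (-1 : F) = -1 := by rw [map_neg, map_one]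
  obtain ⟨z, hz⟩ := hσ.tr (-1) hfix
  have hz' : z + frobHom hF z + 1 * frobHom hF 1 = 0 := by rw [map_one, hz]; ring
  -- distinctness
  have d01 : p0 ≠ p1 := by apply Fin.ne_of_val_ne; omega
  have d00 : p0 ≠ p0.rev := by apply Fin.ne_of_val_ne; omega
  have d01' : p0 ≠ p1.rev := by apply Fin.ne_of_val_ne; omega
  have d10' : p1 ≠ p0.rev := by apply Fin.ne_of_val_ne; omega
  have hv0 : ((eCor (frobHom hF) p0 p1 s hs p0 : Fˣ) : F) = s := by
    rw [eCor_val, corf_apply, if_pos rfl, if_neg d01, if_neg d01', if_neg d00, mul_one, mul_one,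
      mul_one]
  -- the constants
  have hconst : ((eCor (frobHom hF) p0 p1 s hs p0 : Fˣ) : F) /
        ((eCor (frobHom hF) p0 p1 s hs c : Fˣ) : F) ≠ 1 ∧
      ((eCor (frobHom hF) p0 p1 s hs (coxPerm m p0) : Fˣ) : F) /
        ((eCor (frobHom hF) p0 p1 s hs c : Fˣ) : F) ≠ 1 ∧
      FGen (((eCor (frobHom hF) p0 p1 s hs (coxPerm m p0) : Fˣ) : F) /
        ((eCor (frobHom hF) p0 p1 s hs c : Fˣ) : F)) := by
    rw [hv0]
    by_cases hm2 : 2 ≤ m
    · have g0 : c ≠ p0 := Ne.symm hp0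
      have g1 : c ≠ p1 := by apply Fin.ne_of_val_ne; omega
      have g2 : c ≠ p1.rev := by apply Fin.ne_of_val_ne; omega
      have g3 : c ≠ p0.rev := by apply Fin.ne_of_val_ne; omega
      have hvc : ((eCor (frobHom hF) p0 p1 s hs c : Fˣ) : F) = 1 := by
        rw [eCor_val, corf_apply, if_neg g0, if_neg g1, if_neg g2, if_neg g3, mul_one, mul_one,
          mul_one]
      have hτp : coxPerm m p0 = p1 := by
        apply Fin.ext
        rw [hτp0, if_pos (by omega), hp1v]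
      have d11 : p1 ≠ p1.rev := by apply Fin.ne_of_val_ne; omega
      have hv1 : ((eCor (frobHom hF) p0 p1 s hs p1 : Fˣ) : F) = s⁻¹ := by
        rw [eCor_val, corf_apply, if_neg d01.symm, if_pos rfl, if_neg d11, if_neg d10', one_mul,
          mul_one, mul_one]
      rw [hτp, hvc, hv1, div_one, div_one]
      have e : s⁻¹ = κ ^ 1 := by rw [hsdef, inv_inv, pow_one]
      rw [e]
      refine ⟨?_, pow_ne_one_of_lt hκ (by norm_num) (by omega),
        FGen_pow_of_orderOf hq hF κ hκ 1 (by norm_num) (by omega)⟩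
      rw [hsdef]
      intro h
      have h' := inv_eq_one.mp h
      have := pow_ne_one_of_lt hκ (k := 1) (by norm_num) (by omega)
      rw [pow_one] at this
      exact this h'
    · have hm1 : m = 1 := by omega
      have hq3 : 3 ≤ q := h32 hm1
      have hcp : c = p1 := by apply Fin.ext; omega
      have d11 : p1.rev = p1 := by rw [← hcp]; exact hc
      have hvc : ((eCor (frobHom hF) p0 p1 s hs c : Fˣ) : F) = s⁻¹ * s ^ q := by
        rw [hcp, eCor_val, corf_apply, if_neg d01.symm, if_pos rfl, if_pos d11.symm, if_neg d10',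
          one_mul, mul_one, hσs]
      have hτp : coxPerm m p0 = p0.rev := by
        apply Fin.ext
        rw [hτp0, if_neg (by omega), hp0r]
      have hvt : ((eCor (frobHom hF) p0 p1 s hs p0.rev : Fˣ) : F) = (s ^ q)⁻¹ := by
        rw [eCor_val, corf_apply, if_neg d00.symm, if_neg d10'.symm, d11, if_neg d10'.symm,
          if_pos rfl, one_mul, one_mul, one_mul, hσs]
      rw [hτp, hvc, hvt]
      have hsq : s ^ q ≠ 0 := pow_ne_zero _ hs
      have hκq : κ ^ q = κ ^ (q - 2) * κ ^ 2 := by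
        rw [← pow_add]
        congr 1
        omega
      have eA : s / (s⁻¹ * s ^ q) = κ ^ (q - 2) := by
        rw [hsdef, inv_pow, inv_inv, hκq]
        field_simp
      have hprod : (s ^ q)⁻¹ / (s⁻¹ * s ^ q) * (s / (s⁻¹ * s ^ q)) ^ q = 1 := by
        rw [div_pow, mul_pow, inv_pow, pow_q_pow_q hF s]
        field_simp
      have hlt : q - 2 < q ^ 2 - 1 := by omega
      have hA1 : s / (s⁻¹ * s ^ q) ≠ 1 := by
        rw [eA]
        exact pow_ne_one_of_lt hκ (by omega) hlt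
      have hAG : FGen (s / (s⁻¹ * s ^ q)) := by
        rw [eA]
        exact FGen_pow_of_orderOf hq hF κ hκ (q - 2) (by omega) (by omega)
      have eS : (s ^ q)⁻¹ / (s⁻¹ * s ^ q) = ((s / (s⁻¹ * s ^ q)) ^ q)⁻¹ :=
        eq_inv_of_mul_eq_one_left hprod
      refine ⟨hA1, ?_, ?_⟩
      · intro h
        rw [h, one_mul] at hprod
        apply hA1
        have := pow_q_pow_q hF (s / (s⁻¹ * s ^ q))
        rw [hprod, one_pow] at this
        exact this.symm
      · rw [eS]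
        exact (hAG.frob hF).inv
  refine ⟨monoGU 1 (eCor (frobHom hF) p0 p1 s hs) (fun _ => rfl)
      (eCor_unitary hinv p0 p1 s hs),
    monoGU (coxPerm m) d hτ hd * euG hinv hc p0 hp0 1 z hz',
    det_eCor hinv p0 p1 s hs, ?_, ?_⟩
  · rw [mat_mul, Matrix.det_mul, hdet, one_mul]
    apply det_UG
    apply euG_mem_UG hinv hc
    rw [Fin.lt_def]
    omega
  · intro M ha hb
    exact two_gen_core_odd hc hσ p0 hp0 (coxPerm m) d hτ hd hτc horb
      (eCor (frobHom hF) p0 p1 s hs) (eCor_unitary hinv p0 p1 s hs) hconst.1 hconst.2.1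
      (fun S hS hne => addSubgroup_eq_top_of_FGen hconst.2.2 S hS hne) 1 z hz' one_ne_zero
      M ha hb

end Cfsg.Agent.Lib.Helper15.UnGen
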