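import Mathlib
import Cfsg.Agent.Lib.Helper15.UniModels

set_option autoImplicit false

namespace Cfsg.Agent.Lib.Helper15.UniModels2

open Module Cfsg.Agent.Lib.Helper15.SemisimpleConj Cfsg.Agent.Lib.Helper15.NilpotentConj
  Cfsg.Agent.Lib.Helper15.UniForm Cfsg.Agent.Lib.Helper15.UniModels

universe u

section char2

variable {F : Type u} [Field F]

/-- coordinates indexed by naturals -/
def bb (k : ℕ) (b : Vk F k) (j : ℕ) : F := if h : j < k then b ⟨(), ⟨j, h⟩⟩ else 0

lemma bb_of_lt (k : ℕ) (b : Vk F k) (j : ℕ) (h : j < k) : bb k b j = b ⟨(), ⟨j, h⟩⟩ := by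
  unfold bb
  rw [dif_pos h]

lemma bb_val (k : ℕ) (b : Vk F k) (i : Fin k) : bb k b i.1 = b ⟨(), i⟩ := by
  rw [bb_of_lt k b i.1 i.2]

lemma bb_Sk (k : ℕ) (b : Vk F k) (j : ℕ) (h : j < k) : bb k (Sk F k b) j = bb k b (j + 1) := by
  rw [bb_of_lt k _ j h, Sk_apply]
  unfold bb
  rfl

/-- the twisted self-pairing as a sum over naturals -/
lemma pairB_self_shift (k : ℕ) (b : Vk F k) :
    pairB F k 1 b (Sk F k b) =
      ∑ i ∈ Finset.range k, if 0 < i then bb k b i * bb k b (k - i) else 0 := by
  rw [pairB_apply,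
    ← Fin.sum_univ_eq_sum_range (fun i => if 0 < i then bb k b i * bb k b (k - i) else 0) k]
  apply Finset.sum_congr rfl
  intro i _
  have hi := i.2
  have hr : ((Fin.rev i : Fin k) : ℕ) = k - (i.1 + 1) := Fin.val_rev i
  rw [one_pow, one_mul, ← bb_val k (Sk F k b) (Fin.rev i), bb_Sk k b _ (Fin.rev i).2, hr,
    ← bb_val k b i]
  by_cases h0 : 0 < i.1
  · rw [if_pos h0]
    congr 2
    omega
  · rw [if_neg h0]
    have : k - (i.1 + 1) + 1 = k := by omega
    rw [this]
    unfold bb
    rw [dif_neg (lt_irrefl k), mul_zero]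

variable [CharP F 2]

variable (F) in
lemma add_self_vec {W : Type*} [AddCommGroup W] [Module F W] (x : W) : x + x = 0 := by
  rw [← two_smul F x, CharTwo.two_eq_zero, zero_smul]

variable (F) in
lemma neg_vec {W : Type*} [AddCommGroup W] [Module F W] (x : W) : -x = x :=
  neg_eq_of_add_eq_zero_left (add_self_vec F x)

lemma Tk_apply2 (k : ℕ) (x : Vk F k × Vk F k) :
    Tk (F := F) k x = (x.2, x.1 + Sk F k x.2) := by
  rw [Tk_apply, neg_vec F, add_assoc x.1, add_self_vec F, add_zero]

/-- the summand is symmetric under `i ↦ k - i` -/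
lemma summand_symm (k : ℕ) (b : Vk F k) (i : ℕ) (hi : i < k) (h0 : 0 < i) :
    bb k b i * bb k b (k - i) +
      (if 0 < k - i then bb k b (k - i) * bb k b (k - (k - i)) else 0) = 0 := by
  have h1 : 0 < k - i := by omega
  have h2 : k - (k - i) = i := by omega
  rw [if_pos h1, h2, mul_comm (bb k b (k - i))]
  exact CharTwo.add_self_eq_zero _

lemma pairB_self_shift_odd (k : ℕ) (hk : Odd k) (b : Vk F k) :
    pairB F k 1 b (Sk F k b) = 0 := by
  rw [pairB_self_shift]
  apply Finset.sum_involution (fun i _ => if 0 < i then k - i else i)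
  · intro i hi
    rw [Finset.mem_range] at hi
    by_cases h0 : 0 < i
    · simp only [if_pos h0]
      exact summand_symm k b i hi h0
    · simp only [if_neg h0]
      rw [zero_add]
  · intro i hi hne
    rw [Finset.mem_range] at hi
    by_cases h0 : 0 < i
    · simp only [if_pos h0]
      intro h
      obtain ⟨m, rfl⟩ := hk
      omega
    · rw [if_neg h0] at hne
      exact absurd rfl hne
  · intro i hi
    rw [Finset.mem_range] at hi ⊢
    by_cases h0 : 0 < i
    · simp only [if_pos h0]
      omega
    · simp only [if_neg h0]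
      exact hi
  · intro i hi
    rw [Finset.mem_range] at hi
    by_cases h0 : 0 < i
    · have h1 : 0 < k - i := by omega
      simp only [if_pos h0, if_pos h1]
      omega
    · simp only [if_neg h0]

lemma pairB_self_shift_even (h : ℕ) (hh : 1 ≤ h) (b : Vk F (2 * h)) :
    pairB F (2 * h) 1 b (Sk F (2 * h) b) = bb (2 * h) b h * bb (2 * h) b h := by
  classical
  rw [pairB_self_shift, ← Finset.add_sum_erase (Finset.range (2 * h)) _
    (Finset.mem_range.2 (by omega : h < 2 * h))]
  have h1 : 2 * h - h = h := by omega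
  rw [if_pos (by omega : 0 < h), h1]
  have h2 : ∑ i ∈ (Finset.range (2 * h)).erase h,
      (if 0 < i then bb (2 * h) b i * bb (2 * h) b (2 * h - i) else 0) = 0 := by
    apply Finset.sum_involution (fun i _ => if 0 < i then 2 * h - i else i)
    · intro i hi
      rw [Finset.mem_erase, Finset.mem_range] at hi
      by_cases h0 : 0 < i
      · simp only [if_pos h0]
        exact summand_symm (2 * h) b i hi.2 h0
      · simp only [if_neg h0]
        rw [zero_add]
    · intro i hi hne
      rw [Finset.mem_erase, Finset.mem_range] at hi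
      by_cases h0 : 0 < i
      · simp only [if_pos h0]
        intro h'
        apply hi.1
        omega
      · rw [if_neg h0] at hne
        exact absurd rfl hne
    · intro i hi
      rw [Finset.mem_erase, Finset.mem_range] at hi ⊢
      by_cases h0 : 0 < i
      · simp only [if_pos h0]
        constructor
        · intro h'
          apply hi.1
          omega
        · omega
      · simp only [if_neg h0]
        exact hi
    · intro i hi
      rw [Finset.mem_erase, Finset.mem_range] at hi
      by_cases h0 : 0 < i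
      · have h1 : 0 < 2 * h - i := by omega
        simp only [if_pos h0, if_pos h1]
        omega
      · simp only [if_neg h0]
  rw [h2, add_zero]

/-- the orthogonal model of a single block `2k` from a correction functional -/
theorem oU_of_data (k : ℕ) (hk : 1 ≤ k) (ℓ : Vk F k × Vk F k →ₗ[F] F) (lam : Vk F k → F)
    (h1 : ∀ x, ℓ (Tk k x) = ℓ x + lam x.2)
    (h2 : ∀ b, pairB F k 1 b (Sk F k b) = lam b * lam b) : OU F {2 * k} := by
  classical
  have hsymm : ∀ f g, pairB F k 1 g f = pairB F k 1 f g := by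
    intro f g
    rw [pairB_comm F k 1 (by ring), one_pow, one_mul]
  let B₀ : LinearMap.BilinForm F (Vk F k × Vk F k) :=
    (pairB F k 1).compl₁₂ (LinearMap.fst F _ _) (LinearMap.snd F _ _)
  have hB₀ : ∀ x y, B₀ x y = pairB F k 1 x.1 y.2 := fun x y => rfl
  let Q : QuadraticForm F (Vk F k × Vk F k) :=
    LinearMap.BilinMap.toQuadraticMap B₀ + QuadraticMap.linMulLin ℓ ℓ
  have hQ : ∀ x, Q x = pairB F k 1 x.1 x.2 + ℓ x * ℓ x := fun x => rfl
  have hpolar : ∀ x y, QuadraticMap.polar Q x y = pairB F k 1 x.1 y.2 + pairB F k 1 y.1 x.2 := by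
    intro x y
    have e1 : QuadraticMap.polar Q x y =
        QuadraticMap.polar (LinearMap.BilinMap.toQuadraticMap B₀) x y +
          QuadraticMap.polar (QuadraticMap.linMulLin ℓ ℓ) x y := by
      unfold QuadraticMap.polar
      show (LinearMap.BilinMap.toQuadraticMap B₀ + QuadraticMap.linMulLin ℓ ℓ) (x + y) -
        (LinearMap.BilinMap.toQuadraticMap B₀ + QuadraticMap.linMulLin ℓ ℓ) x -
        (LinearMap.BilinMap.toQuadraticMap B₀ + QuadraticMap.linMulLin ℓ ℓ) y = _
      simp only [add_apply]
      ring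
    have e2 : QuadraticMap.polar (QuadraticMap.linMulLin ℓ ℓ) x y = 0 := by
      unfold QuadraticMap.polar
      rw [QuadraticMap.linMulLin_apply, QuadraticMap.linMulLin_apply, QuadraticMap.linMulLin_apply,
        map_add]
      have : (ℓ x + ℓ y) * (ℓ x + ℓ y) - ℓ x * ℓ x - ℓ y * ℓ y = ℓ x * ℓ y + ℓ x * ℓ y := by ring
      rw [this]
      exact CharTwo.add_self_eq_zero _
    rw [e1, e2, add_zero, LinearMap.BilinMap.polar_toQuadraticMap, hB₀, hB₀]
  have key : ∀ x : Vk F k × Vk F k, (∀ y, QuadraticMap.polar Q x y = 0) → x = 0 := by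
    intro x hx
    have hx1 : x.1 = 0 := by
      apply pairB_nondeg F k 1 one_ne_zero
      intro g
      have := hx (0, g)
      rw [hpolar] at this
      simpa using this
    have hx2 : x.2 = 0 := by
      apply pairB_nondeg F k 1 one_ne_zero
      intro g
      have := hx (g, 0)
      rw [hpolar] at this
      rw [hsymm g x.2]
      simpa using this
    exact Prod.ext hx1 hx2
  refine ⟨Vk F k × Vk F k, inferInstance, inferInstance, inferInstance, Tk k, Q,
    ?_, ?_, Tk_nilpotent k, Tk_kap k hk⟩
  · constructor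
    · intro x hx
      exact key x (fun y => by
        have := hx y; rwa [QuadraticMap.polarBilin_apply_apply] at this)
    · intro y hy
      exact key y (fun x => by
        have := hy x; rwa [QuadraticMap.polarBilin_apply_apply, QuadraticMap.polar_comm] at this)
  · intro x
    rw [hQ, hQ, h1, Tk_apply2]
    show pairB F k 1 x.2 (x.1 + Sk F k x.2) + _ = _
    rw [map_add, h2, hsymm x.1 x.2]
    have e3 : (ℓ x + lam x.2) * (ℓ x + lam x.2) =
        ℓ x * ℓ x + lam x.2 * lam x.2 + (ℓ x * lam x.2 + ℓ x * lam x.2) := by ring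
    rw [e3, CharTwo.add_self_eq_zero, add_zero]
    have e4 : pairB F k 1 x.1 x.2 + lam x.2 * lam x.2 + (ℓ x * ℓ x + lam x.2 * lam x.2) =
        pairB F k 1 x.1 x.2 + ℓ x * ℓ x + (lam x.2 * lam x.2 + lam x.2 * lam x.2) := by ring
    rw [e4, CharTwo.add_self_eq_zero, add_zero]

/-- a single Jordan block of even size in an orthogonal group, characteristic two -/
theorem oU_single_char2 (k : ℕ) (hk : 1 ≤ k) : OU F {2 * k} := by
  rcases Nat.even_or_odd k with ⟨h, hh⟩ | hodd
  · have hh' : k = 2 * h := by omega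
    subst hh'
    have h1 : 1 ≤ h := by omega
    have hlt : h - 1 < 2 * h := by omega
    have hlt' : h < 2 * h := by omega
    let μ : Vk F (2 * h) →ₗ[F] F := LinearMap.proj ⟨(), ⟨h - 1, hlt⟩⟩
    have hμ : ∀ b, μ b = bb (2 * h) b (h - 1) := by
      intro b
      rw [bb_of_lt _ _ _ hlt]
      rfl
    apply oU_of_data (2 * h) hk (μ.comp (LinearMap.fst F _ _) + μ.comp (LinearMap.snd F _ _))
      (fun b => bb (2 * h) b h)
    · intro x
      rw [Tk_apply2]
      show μ x.2 + μ (x.1 + Sk F (2 * h) x.2) = μ x.1 + μ x.2 + bb (2 * h) x.2 h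
      rw [map_add, hμ (Sk F (2 * h) x.2), bb_Sk _ _ _ hlt]
      have : h - 1 + 1 = h := by omega
      rw [this]
      ring
    · intro b
      exact pairB_self_shift_even h h1 b
  · apply oU_of_data k hk 0 (fun _ => 0)
    · intro x
      simp
    · intro b
      rw [pairB_self_shift_odd k hodd, mul_zero]

end char2

end Cfsg.Agent.Lib.Helper15.UniModels2
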