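/-
helper15: leaves BAS of helper29's S3572 market "WD" (`notes/S3572_leaves.lean`):
Boolean algebra of S-sets, level sets, orbits, primitivity.
-/
import Mathlib
import Cfsg.Agent.Lib.Helper29.WDDefs
import Cfsg.Agent.Lib.Helper7.DHBGP
import Cfsg.Agent.Lib.Helper7.DHB2S

set_option autoImplicit false
set_option linter.unusedSectionVars false
set_option linter.unusedVariables false

namespace Cfsg.Agent.Lib.Helper15.WDLeaf

open Finset DihedralGroup
open Cfsg.Agent.Lib.Helper19.SchurCyclic
open Cfsg.Agent.Lib.Helper7.DHB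
open Cfsg.Agent.Lib.Helper29.WD

variable {n : ℕ} [NeZero n] {U : Type*} [Group U] {star : U → DihedralGroup n → DihedralGroup n}
variable {T T' T₁ T₂ : Finset (DihedralGroup n)}

/-! ## BAS: Boolean algebra of S-sets, orbits, primitivity (all easy) -/

theorem inv_empty : Inv star (∅ : Finset (DihedralGroup n)) := by
  intro u t ht
  exact absurd ht (Finset.notMem_empty t)

theorem inv_univ : Inv star (univ : Finset (DihedralGroup n)) := fun u t _ => mem_univ _

theorem inv_union (h₁ : Inv star T₁) (h₂ : Inv star T₂) : Inv star (T₁ ∪ T₂) := by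
  intro u t ht
  rcases mem_union.mp ht with h | h
  · exact mem_union_left _ (h₁ u t h)
  · exact mem_union_right _ (h₂ u t h)

theorem inv_inter (h₁ : Inv star T₁) (h₂ : Inv star T₂) : Inv star (T₁ ∩ T₂) := by
  intro u t ht
  rw [mem_inter] at ht ⊢
  exact ⟨h₁ u t ht.1, h₂ u t ht.2⟩

theorem inv_sdiff (hax : Ax star) (h₁ : Inv star T₁) (h₂ : Inv star T₂) : Inv star (T₁ \ T₂) := by
  intro u t ht
  rw [mem_sdiff] at ht ⊢
  exact ⟨h₁ u t ht.1, fun h => ht.2 ((h₂.mem_iff hax u t).mp h)⟩

theorem inv_erase_one (hax : Ax star) (hT : Inv star T) : Inv star (T.erase 1) := by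
  intro u t ht
  rw [mem_erase] at ht ⊢
  exact ⟨fun h => ht.1 ((hax.eq_one_iff u t).mp h), hT u t ht.2⟩

theorem inv_insert_one (hax : Ax star) (hT : Inv star T) : Inv star (insert 1 T) := by
  intro u t ht
  rw [mem_insert] at ht ⊢
  rcases ht with rfl | h
  · left; exact hax.one_right u
  · right; exact hT u t h

theorem inv_biUnion {ι : Type*} (s : Finset ι) (f : ι → Finset (DihedralGroup n))
    (h : ∀ i ∈ s, Inv star (f i)) : Inv star (s.biUnion f) := by
  intro u t ht
  rw [mem_biUnion] at ht ⊢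
  obtain ⟨i, hi, hti⟩ := ht
  exact ⟨i, hi, h i hi u t hti⟩

/-- level sets of a `star`-invariant function -/
theorem inv_filter (hax : Ax star) {R : Type*} (ξ : DihedralGroup n → R) (hξ : ∀ u g, ξ (star u g) = ξ g)
    (P : R → Prop) [DecidablePred P] (hT : Inv star T) : Inv star (T.filter (fun g => P (ξ g))) := by
  intro u t ht
  rw [mem_filter] at ht ⊢
  refine ⟨hT u t ht.1, ?_⟩
  rw [hξ]
  exact ht.2

/-- helper19 `eta_pow_inv`, restated -/
theorem coeff_pow_star (hax : Ax star) (hT : Inv star T) (R : Type*) [Semiring R] (j : ℕ) (u : U)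
    (g : DihedralGroup n) : ((eta R T) ^ j).coeff (star u g) = ((eta R T) ^ j).coeff g :=
  eta_pow_inv hT hax j u g

theorem inv_image_inv (hax : Ax star) (hT : Inv star T) : Inv star (T.image (fun g => g⁻¹)) := by
  intro u t ht
  rw [mem_image] at ht ⊢
  obtain ⟨s, hs, rfl⟩ := ht
  obtain ⟨u', hu'⟩ := hax.split u s⁻¹
  have h1 := hu' s
  rw [inv_mul_cancel, hax.one_right] at h1
  refine ⟨star u' s, hT u' s hs, ?_⟩
  exact (eq_inv_of_mul_eq_one_left h1.symm).symm

theorem prim_closure (hax : Ax star) (hprim : Prim star) (hT : Inv star T) :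
    Subgroup.closure (T : Set (DihedralGroup n)) = ⊥ ∨ Subgroup.closure (T : Set (DihedralGroup n)) = ⊤ :=
  hprim _ (fun u x hx => closure_inv hax (T : Set (DihedralGroup n)) (fun u e he => hT u e he) u x hx)

theorem prim_stab (hax : Ax star) (hprim : Prim star) (hT : Inv star T) : stab T = ⊥ ∨ stab T = ⊤ :=
  hprim _ (fun u x hx => hT.stab_inv hax u x hx)

/-- helper19 has `orb`, `mem_orb`, `orb_inv`, `self_mem_orb`, `one_notMem_orb`. -/
theorem orb_subset (hT : Inv star T) {a : DihedralGroup n} (ha : a ∈ T) : orb star a ⊆ T := by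
  intro y hy
  obtain ⟨u, rfl⟩ := mem_orb.mp hy
  exact hT u a ha

/-- rank 2 gives transitivity of `U` on `H ∖ 1` -/
theorem main_of_triv (hax : Ax star)
    (h : ∀ T : Finset (DihedralGroup n), Inv star T → (1 : DihedralGroup n) ∉ T → Triv T) :
    ∀ a b : DihedralGroup n, a ≠ 1 → b ≠ 1 → ∃ u, star u a = b := by
  intro a b ha hb
  have h1 := h (orb star a) (orb_inv hax a) (one_notMem_orb hax ha)
  have h2 : a ∈ orb star a := self_mem_orb hax a
  rcases h1 with h1 | h1
  · rw [h1] at h2
    exact absurd h2 (Finset.notMem_empty a)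
  · have h3 : b ∈ orb star a := by
      rw [h1, mem_erase]
      exact ⟨hb, mem_univ _⟩
    exact mem_orb.mp h3

end Cfsg.Agent.Lib.Helper15.WDLeaf
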