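/-
helper15: leaf SUBODD (`sub_odd`) of helper29's S3572 market "WD" (`notes/S3572_leaves.lean`), twin.
SUB(p), `p` odd: an S-set without `1` whose reflection part is `P_p`-invariant is trivial.
-/
import Mathlib
import Cfsg.Agent.Lib.Helper29.WDDefs
import Cfsg.Agent.Lib.Helper7.DHBGP
import Cfsg.Agent.Lib.Helper7.DHB2S
import Cfsg.Agent.Lib.Helper15.WDBAS
import Cfsg.Agent.Lib.Helper15.WDFROB
import Cfsg.Agent.Lib.Helper21.WDF12
import Cfsg.Agent.Lib.Helper21.WDLEMF
import Cfsg.Agent.Lib.Helper5.WDYYS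
import Cfsg.Agent.Lib.Helper5.WDFIB

set_option autoImplicit false
set_option linter.unusedSectionVars false
set_option linter.unusedVariables false

namespace Cfsg.Agent.Lib.Helper15.WDLeaf

open Finset DihedralGroup
open Cfsg.Agent.Lib.Helper19.SchurCyclic
open Cfsg.Agent.Lib.Helper7.DHB
open Cfsg.Agent.Lib.Helper29.WD

variable {n : ℕ} [NeZero n] {U : Type*} [Group U] {star : U → DihedralGroup n → DihedralGroup n}
variable {T T' T₁ T₂ : Finset (DihedralGroup n)}

/-- SUB(p), `p` odd. -/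
theorem sub_odd {p : ℕ} (hax : Ax star) (hprim : Prim star) (hn : 3 ≤ n) (hp : p.Prime) (hp2 : p ≠ 2) (hpn : p ∣ n)
    (hT : Inv star T) (h1 : (1 : DihedralGroup n) ∉ T) (hY : PInv p (YY T)) : Triv T := by
  have : Fact p.Prime := ⟨hp⟩
  have hsymm := Cfsg.Agent.Lib.Helper21.WDLeaf.symm hax hprim hT
  have hyy := Cfsg.Agent.Lib.Helper5.WDLeaf.ind_mul_ind_neg_eq_zero hpn (YY T) hY
  have hpos : (p - 1) / 2 ≠ 0 := by
    have := hp.two_le
    omega
  -- the reflection coefficients of `τ^p` vanish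
  have hsr : ∀ j : ZMod n, ((eta (ZMod p) T) ^ p).coeff (sr j) = 0 := by
    intro j
    rw [frob_sr hp2 T hsymm j, hyy, zero_pow hpos, zero_mul]
    rfl
  -- hence so do the rotation coefficients off `1`
  have hr : ∀ i : ZMod n, i ≠ 0 → ((eta (ZMod p) T) ^ p).coeff (r i) = 0 := by
    intro i hi
    by_contra hc
    have hL : Inv star ((univ.erase (1 : DihedralGroup n)).filter
        (fun g => ((eta (ZMod p) T) ^ p).coeff g = ((eta (ZMod p) T) ^ p).coeff (r i))) :=
      inv_filter hax (fun g => ((eta (ZMod p) T) ^ p).coeff g)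
        (fun u g => coeff_pow_star hax hT (ZMod p) p u g)
        (fun x => x = ((eta (ZMod p) T) ^ p).coeff (r i)) (inv_erase_one hax inv_univ)
    have h1L : (1 : DihedralGroup n) ∉ (univ.erase (1 : DihedralGroup n)).filter
        (fun g => ((eta (ZMod p) T) ^ p).coeff g = ((eta (ZMod p) T) ^ p).coeff (r i)) := by
      intro h
      rw [mem_filter, mem_erase] at h
      exact h.1.1 rfl
    have hri : (r i : DihedralGroup n) ≠ 1 := by
      rw [one_def]
      intro h
      exact hi (r.inj h)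
    have hneL : ((univ.erase (1 : DihedralGroup n)).filter
        (fun g => ((eta (ZMod p) T) ^ p).coeff g = ((eta (ZMod p) T) ^ p).coeff (r i))).Nonempty :=
      ⟨r i, by rw [mem_filter, mem_erase]; exact ⟨⟨hri, mem_univ _⟩, rfl⟩⟩
    obtain ⟨-, ⟨j, hj⟩⟩ := Cfsg.Agent.Lib.Helper21.WDLeaf.F2 hax hprim hn hL h1L hneL
    rw [mem_YY, mem_filter] at hj
    exact hc (hj.2.symm.trans (hsr j))
  -- fibres of `s ↦ p • s` on `X`
  have hfib : ∀ i : ZMod n, i ≠ 0 → p ∣ ((XX T).filter (fun s => p • s = i)).card := by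
    intro i hi
    have h := hr i hi
    rw [frob_r hp2 T hsymm i] at h
    exact (ZMod.natCast_eq_zero_iff _ _).mp h
  have hXoff := Cfsg.Agent.Lib.Helper5.WDLeaf.pinvoff_of_dvd_fibre hp hpn (XX T) hfib
  exact Cfsg.Agent.Lib.Helper21.WDLeaf.lemF hax hprim hn hp hpn hT h1 hXoff hY

end Cfsg.Agent.Lib.Helper15.WDLeaf
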