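/-
helper15: S2524 Part W, the form half.  `card_isoGroup_le_Bb_odd`: over a finite field of odd order `q`
a quadratic form with two orthogonal non-singular vectors (i.e. of rank at least two) on a space of
dimension `n` has at most `Bb q n = 2 (q + 1) q^(2 (n - 2)) |GL_(n-2)(q)|` isometries (the odd-`q` twin of
`Helper11.LS.card_isoGroup_le_Bb`).  Route: orbit-stabiliser at a non-singular vector `v`; the sphere
`{Q = Q v}` has at most `(q + 1) q^(n - 2)` points (`V = F v + F u + <v, u>^⊥`, the conic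
`c s^2 + d t^2 = e` has at most `q + 1` points if the plane is anisotropic - stereographic projection -
and the hyperbolic plane is counted through the coordinates `s ± r t`); the stabiliser of `v` embeds in
the isometry group of `v^⊥`, bounded by `WLB.card_isoGroup_le_odd`.
Matrix form: `exists_orth_pair` (a symmetric matrix that is not `a v v^T` has such a pair) and
`card_isoGroup_le_Bb_mat`.
-/
import Mathlib
import Cfsg.Agent.Lib.Helper11.LSDefs
import Cfsg.Agent.Lib.Helper11.LSA1
import Cfsg.Agent.Lib.Helper11.WLBIso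

set_option autoImplicit false

namespace Cfsg.Agent.Lib.Helper15.WGWF

open QuadraticMap Module Matrix Cfsg.Agent.Lib.Helper11.LS Cfsg.Agent.Lib.Helper11.WLB

section conic

variable {F : Type*} [Field F]

/-- algebraic core of the stereographic projection -/
theorem conic_core (h2 : (2 : F) ≠ 0) {c d e s₀ t₀ a b a' b' : F}
    (he : e ≠ 0) (h0 : c * s₀ ^ 2 + d * t₀ ^ 2 = e)
    (hN : c * a ^ 2 + d * b ^ 2 + 2 * (c * s₀ * a + d * t₀ * b) = 0)
    (hN' : c * a' ^ 2 + d * b' ^ 2 + 2 * (c * s₀ * a' + d * t₀ * b') = 0)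
    (hB0 : c * s₀ * a + d * t₀ * b ≠ 0) (hB0' : c * s₀ * a' + d * t₀ * b' ≠ 0)
    (hx : (-t₀ * a + s₀ * b) * (c * s₀ * a' + d * t₀ * b') =
      (-t₀ * a' + s₀ * b') * (c * s₀ * a + d * t₀ * b)) :
    a = a' ∧ b = b' := by
  have hx1 : e * ((c * s₀ * a + d * t₀ * b) * a' - (c * s₀ * a' + d * t₀ * b') * a) = 0 := by
    linear_combination (d * t₀) * hx -
      ((c * s₀ * a + d * t₀ * b) * a' - (c * s₀ * a' + d * t₀ * b') * a) * h0
  have hx2 : e * ((c * s₀ * a + d * t₀ * b) * b' - (c * s₀ * a' + d * t₀ * b') * b) = 0 := by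
    linear_combination (-(c * s₀)) * hx -
      ((c * s₀ * a + d * t₀ * b) * b' - (c * s₀ * a' + d * t₀ * b') * b) * h0
  have hy1 : (c * s₀ * a + d * t₀ * b) * a' = (c * s₀ * a' + d * t₀ * b') * a :=
    sub_eq_zero.mp ((mul_eq_zero.mp hx1).resolve_left he)
  have hy2 : (c * s₀ * a + d * t₀ * b) * b' = (c * s₀ * a' + d * t₀ * b') * b :=
    sub_eq_zero.mp ((mul_eq_zero.mp hx2).resolve_left he)
  -- B = B'
  have hBB : 2 * ((c * s₀ * a + d * t₀ * b) * (c * s₀ * a' + d * t₀ * b')) *
      ((c * s₀ * a' + d * t₀ * b') - (c * s₀ * a + d * t₀ * b)) = 0 := by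
    linear_combination (c * s₀ * a' + d * t₀ * b') ^ 2 * hN - (c * s₀ * a + d * t₀ * b) ^ 2 * hN'
      + c * ((c * s₀ * a + d * t₀ * b) * a' + (c * s₀ * a' + d * t₀ * b') * a) * hy1
      + d * ((c * s₀ * a + d * t₀ * b) * b' + (c * s₀ * a' + d * t₀ * b') * b) * hy2
  have hBeq : c * s₀ * a' + d * t₀ * b' = c * s₀ * a + d * t₀ * b := by
    rcases mul_eq_zero.mp hBB with h | h
    · rcases mul_eq_zero.mp h with h | h
      · exact absurd h h2
      · rcases mul_eq_zero.mp h with h | h
        · exact absurd h hB0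
        · exact absurd h hB0'
    · exact sub_eq_zero.mp h
  rw [hBeq] at hy1 hy2
  exact ⟨(mul_left_cancel₀ hB0 hy1).symm, (mul_left_cancel₀ hB0 hy2).symm⟩

/-- an anisotropic conic over a field with `q` elements has at most `q + 1` points -/
theorem conic_card_le [Fintype F] [DecidableEq F] (h2 : (2 : F) ≠ 0) (c d e : F)
    (haniso : ∀ s t : F, c * s ^ 2 + d * t ^ 2 = 0 → s = 0 ∧ t = 0) :
    (Finset.univ.filter (fun p : F × F => c * p.1 ^ 2 + d * p.2 ^ 2 = e)).card ≤
      Fintype.card F + 1 := by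
  set C := Finset.univ.filter (fun p : F × F => c * p.1 ^ 2 + d * p.2 ^ 2 = e) with hC
  rcases C.eq_empty_or_nonempty with h0 | ⟨p₀, hp₀⟩
  · rw [h0]; simp
  have hp₀' : c * p₀.1 ^ 2 + d * p₀.2 ^ 2 = e := (Finset.mem_filter.mp hp₀).2
  have key : (C.erase p₀).card ≤ (Finset.univ : Finset F).card := by
    apply Finset.card_le_card_of_injOn (fun p =>
      (-p₀.2 * (p.1 - p₀.1) + p₀.1 * (p.2 - p₀.2)) /
        (c * p₀.1 * (p.1 - p₀.1) + d * p₀.2 * (p.2 - p₀.2))) (fun _ _ => Finset.mem_univ _)
    intro p hp p' hp' hpp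
    have hp1 : c * p.1 ^ 2 + d * p.2 ^ 2 = e :=
      (Finset.mem_filter.mp (Finset.mem_of_mem_erase (Finset.mem_coe.mp hp))).2
    have hp1' : c * p'.1 ^ 2 + d * p'.2 ^ 2 = e :=
      (Finset.mem_filter.mp (Finset.mem_of_mem_erase (Finset.mem_coe.mp hp'))).2
    have hne : p ≠ p₀ := Finset.ne_of_mem_erase (Finset.mem_coe.mp hp)
    have hne' : p' ≠ p₀ := Finset.ne_of_mem_erase (Finset.mem_coe.mp hp')
    have he : e ≠ 0 := by
      intro he
      rw [he] at hp₀' hp1
      obtain ⟨a1, a2⟩ := haniso _ _ hp₀'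
      obtain ⟨b1, b2⟩ := haniso _ _ hp1
      exact hne (Prod.ext (b1.trans a1.symm) (b2.trans a2.symm))
    have hN : c * (p.1 - p₀.1) ^ 2 + d * (p.2 - p₀.2) ^ 2 +
        2 * (c * p₀.1 * (p.1 - p₀.1) + d * p₀.2 * (p.2 - p₀.2)) = 0 := by
      linear_combination hp1 - hp₀'
    have hN' : c * (p'.1 - p₀.1) ^ 2 + d * (p'.2 - p₀.2) ^ 2 +
        2 * (c * p₀.1 * (p'.1 - p₀.1) + d * p₀.2 * (p'.2 - p₀.2)) = 0 := by
      linear_combination hp1' - hp₀'
    have hB0 : c * p₀.1 * (p.1 - p₀.1) + d * p₀.2 * (p.2 - p₀.2) ≠ 0 := by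
      intro h
      rw [h, mul_zero, add_zero] at hN
      obtain ⟨a1, a2⟩ := haniso _ _ hN
      exact hne (Prod.ext (sub_eq_zero.mp a1) (sub_eq_zero.mp a2))
    have hB0' : c * p₀.1 * (p'.1 - p₀.1) + d * p₀.2 * (p'.2 - p₀.2) ≠ 0 := by
      intro h
      rw [h, mul_zero, add_zero] at hN'
      obtain ⟨a1, a2⟩ := haniso _ _ hN'
      exact hne' (Prod.ext (sub_eq_zero.mp a1) (sub_eq_zero.mp a2))
    have hx := (div_eq_div_iff hB0 hB0').mp hpp
    obtain ⟨e1, e2⟩ := conic_core h2 he hp₀' hN hN' hB0 hB0' hx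
    exact Prod.ext (sub_left_injective e1) (sub_left_injective e2)
  rw [Finset.card_univ] at key
  have := Finset.card_erase_add_one hp₀
  omega

/-- the combinatorial sphere count -/
theorem triple_count [Fintype F] [DecidableEq F] (h2 : (2 : F) ≠ 0) {W : Type*} [Fintype W]
    [DecidableEq W] (f : W → F) (c d e₀ : F) (hc : c ≠ 0) (hd : d ≠ 0)
    (hW₀ : Fintype.card F * (Finset.univ.filter (fun w : W => f w = e₀)).card ≤
      2 * Fintype.card W) :
    (Finset.univ.filter (fun p : F × F × W => c * p.1 ^ 2 + d * p.2.1 ^ 2 + f p.2.2 = e₀)).card ≤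
      (Fintype.card F + 1) * Fintype.card W := by
  set S := Finset.univ.filter (fun p : F × F × W => c * p.1 ^ 2 + d * p.2.1 ^ 2 + f p.2.2 = e₀)
    with hS
  by_cases haniso : ∀ s t : F, c * s ^ 2 + d * t ^ 2 = 0 → s = 0 ∧ t = 0
  · -- anisotropic plane: every fibre over `W` has at most `q + 1` points
    have h1 : S.card ≤ (Fintype.card F + 1) * (S.image (fun p => p.2.2)).card := by
      apply Finset.card_le_mul_card_image
      intro w _
      refine le_trans ?_ (conic_card_le h2 c d (e₀ - f w) haniso)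
      apply Finset.card_le_card_of_injOn (fun p => (p.1, p.2.1))
      · intro p hp
        have hp' := Finset.mem_filter.mp (Finset.mem_coe.mp hp)
        have hp1 : c * p.1 ^ 2 + d * p.2.1 ^ 2 + f p.2.2 = e₀ := (Finset.mem_filter.mp hp'.1).2
        rw [Finset.mem_coe, Finset.mem_filter]
        refine ⟨Finset.mem_univ _, ?_⟩
        show c * p.1 ^ 2 + d * p.2.1 ^ 2 = e₀ - f w
        rw [← hp'.2]
        linear_combination hp1
      · intro p hp p' hp' hpp
        have h3 := (Finset.mem_filter.mp (Finset.mem_coe.mp hp)).2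
        have h3' := (Finset.mem_filter.mp (Finset.mem_coe.mp hp')).2
        have e1 : p.1 = p'.1 := (Prod.ext_iff.mp hpp).1
        have e2 : p.2.1 = p'.2.1 := (Prod.ext_iff.mp hpp).2
        exact Prod.ext e1 (Prod.ext e2 (h3.trans h3'.symm))
    exact le_trans h1 (Nat.mul_le_mul_left _ (Finset.card_le_univ _))
  · -- hyperbolic plane
    push Not at haniso
    obtain ⟨s₁, t₁, h1, h1'⟩ := haniso
    have ht₁ : t₁ ≠ 0 := by
      intro h
      rw [h] at h1
      have : c * s₁ ^ 2 = 0 := by linear_combination h1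
      rcases mul_eq_zero.mp this with h3 | h3
      · exact hc h3
      · exact h1' (pow_eq_zero_iff (two_ne_zero) |>.mp h3) h
    set r : F := s₁ / t₁ with hr
    have hr1 : c * r ^ 2 + d = 0 := by
      rw [hr]
      field_simp
      linear_combination h1
    have hr0 : r ≠ 0 := by
      intro h
      rw [h] at hr1
      apply hd
      linear_combination hr1
    have hfac : ∀ s t : F, c * s ^ 2 + d * t ^ 2 = c * (s - r * t) * (s + r * t) := by
      intro s t
      linear_combination t ^ 2 * hr1
    have hsplit : S.card = (S.filter (fun p => p.1 + r * p.2.1 ≠ 0)).card +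
        (S.filter (fun p => ¬ (p.1 + r * p.2.1 ≠ 0))).card :=
      (Finset.card_filter_add_card_filter_not _).symm
    have hS1 : (S.filter (fun p => p.1 + r * p.2.1 ≠ 0)).card ≤
        (Fintype.card F - 1) * Fintype.card W := by
      have : ((Finset.univ.filter (fun b : F => b ≠ 0)) ×ˢ (Finset.univ : Finset W)).card =
          (Fintype.card F - 1) * Fintype.card W := by
        rw [Finset.card_product, Finset.filter_ne' Finset.univ (0 : F),
          Finset.card_erase_of_mem (Finset.mem_univ _), Finset.card_univ, Finset.card_univ]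
      rw [← this]
      apply Finset.card_le_card_of_injOn (fun p => (p.1 + r * p.2.1, p.2.2))
      · intro p hp
        have hp' := Finset.mem_filter.mp (Finset.mem_coe.mp hp)
        rw [Finset.mem_coe, Finset.mem_product]
        exact ⟨Finset.mem_filter.mpr ⟨Finset.mem_univ _, hp'.2⟩, Finset.mem_univ _⟩
      · intro p hp p' hp' hpp
        have hp2 := Finset.mem_filter.mp (Finset.mem_coe.mp hp)
        have hp2' := Finset.mem_filter.mp (Finset.mem_coe.mp hp')
        have hp1 : c * p.1 ^ 2 + d * p.2.1 ^ 2 + f p.2.2 = e₀ := (Finset.mem_filter.mp hp2.1).2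
        have hp1' : c * p'.1 ^ 2 + d * p'.2.1 ^ 2 + f p'.2.2 = e₀ :=
          (Finset.mem_filter.mp hp2'.1).2
        have e1 : p.1 + r * p.2.1 = p'.1 + r * p'.2.1 := (Prod.ext_iff.mp hpp).1
        have e2 : p.2.2 = p'.2.2 := (Prod.ext_iff.mp hpp).2
        rw [hfac] at hp1 hp1'
        rw [← e2, ← e1] at hp1'
        have e3 : (c * (p.1 + r * p.2.1)) * (p.1 - r * p.2.1) =
            (c * (p.1 + r * p.2.1)) * (p'.1 - r * p'.2.1) := by
          linear_combination hp1 - hp1'
        have e4 := mul_left_cancel₀ (mul_ne_zero hc hp2.2) e3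
        have e5 : (2 : F) * p.1 = 2 * p'.1 := by linear_combination e1 + e4
        have e6 : (2 * r) * p.2.1 = (2 * r) * p'.2.1 := by linear_combination e1 - e4
        exact Prod.ext (mul_left_cancel₀ h2 e5)
          (Prod.ext (mul_left_cancel₀ (mul_ne_zero h2 hr0) e6) e2)
    have hS2 : (S.filter (fun p => ¬ (p.1 + r * p.2.1 ≠ 0))).card ≤
        Fintype.card F * (Finset.univ.filter (fun w : W => f w = e₀)).card := by
      have : ((Finset.univ : Finset F) ×ˢ (Finset.univ.filter (fun w : W => f w = e₀))).card =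
          Fintype.card F * (Finset.univ.filter (fun w : W => f w = e₀)).card := by
        rw [Finset.card_product, Finset.card_univ]
      rw [← this]
      apply Finset.card_le_card_of_injOn (fun p => (p.1 - r * p.2.1, p.2.2))
      · intro p hp
        have hp2 := Finset.mem_filter.mp (Finset.mem_coe.mp hp)
        have hp1 : c * p.1 ^ 2 + d * p.2.1 ^ 2 + f p.2.2 = e₀ := (Finset.mem_filter.mp hp2.1).2
        have hb : p.1 + r * p.2.1 = 0 := not_not.mp hp2.2
        rw [hfac, hb, mul_zero, zero_add] at hp1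
        rw [Finset.mem_coe, Finset.mem_product]
        exact ⟨Finset.mem_univ _, Finset.mem_filter.mpr ⟨Finset.mem_univ _, hp1⟩⟩
      · intro p hp p' hp' hpp
        have hp2 := Finset.mem_filter.mp (Finset.mem_coe.mp hp)
        have hp2' := Finset.mem_filter.mp (Finset.mem_coe.mp hp')
        have hb : p.1 + r * p.2.1 = 0 := not_not.mp hp2.2
        have hb' : p'.1 + r * p'.2.1 = 0 := not_not.mp hp2'.2
        have e4 : p.1 - r * p.2.1 = p'.1 - r * p'.2.1 := (Prod.ext_iff.mp hpp).1
        have e2 : p.2.2 = p'.2.2 := (Prod.ext_iff.mp hpp).2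
        have e5 : (2 : F) * p.1 = 2 * p'.1 := by linear_combination hb - hb' + e4
        have e6 : (2 * r) * p.2.1 = (2 * r) * p'.2.1 := by linear_combination hb - hb' - e4
        exact Prod.ext (mul_left_cancel₀ h2 e5)
          (Prod.ext (mul_left_cancel₀ (mul_ne_zero h2 hr0) e6) e2)
    have hq : 1 ≤ Fintype.card F := Fintype.card_pos
    calc S.card ≤ (Fintype.card F - 1) * Fintype.card W + 2 * Fintype.card W := by
          rw [hsplit]
          exact Nat.add_le_add hS1 (le_trans hS2 hW₀)
      _ = (Fintype.card F + 1) * Fintype.card W := by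
          rw [← Nat.add_mul]
          congr 1
          omega

end conic

section forms

variable {F : Type*} [Field F]

universe u
variable {V : Type u} [AddCommGroup V] [Module F V]

theorem polar_self_ne (h2 : (2 : F) ≠ 0) (Q : QuadraticForm F V) {v : V} (hv : Q v ≠ 0) :
    polar Q v v ≠ 0 := by
  rw [polar_self]
  intro h
  have h3 : (2 : F) * Q v = 0 := by
    rw [← h]
    simp [two_smul, two_mul]
  rcases mul_eq_zero.mp h3 with h4 | h4
  · exact h2 h4
  · exact hv h4

/-- `Q (s v + t u + w) = s^2 Q v + t^2 Q u + Q w` for pairwise orthogonal `v`, `u`, `w` -/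
theorem map_decomp (Q : QuadraticForm F V) {v u : V} (hvu : polar Q v u = 0) (s t : F)
    (w : perp2 Q v u) :
    Q (s • v + t • u + (w : V)) = Q v * s ^ 2 + Q u * t ^ 2 + Q (w : V) := by
  have hw := w.2
  rw [mem_perp2] at hw
  rw [QuadraticMap.map_add (⇑Q) (s • v + t • u) (w : V), QuadraticMap.map_add (⇑Q) (s • v) (t • u),
    QuadraticMap.map_smul, QuadraticMap.map_smul, polar_add_left, polar_smul_left, polar_smul_left,
    polar_smul_left, polar_smul_right, hvu, hw.1, hw.2]
  simp only [smul_eq_mul, mul_zero, add_zero]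
  ring

/-- the decomposition `V = F v ⊕ F u ⊕ <v, u>^⊥` -/
noncomputable def decomp (h2 : (2 : F) ≠ 0) (Q : QuadraticForm F V) {v u : V} (hv : Q v ≠ 0)
    (hu : Q u ≠ 0) (hvu : polar Q v u = 0) : (F × F × perp2 Q v u) ≃ V where
  toFun p := p.1 • v + p.2.1 • u + (p.2.2 : V)
  invFun x := (polar Q v x / polar Q v v, polar Q u x / polar Q u u,
    ⟨x - (polar Q v x / polar Q v v) • v - (polar Q u x / polar Q u u) • u, by
      have hvv := polar_self_ne h2 Q hv
      have huu := polar_self_ne h2 Q hu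
      have huv : polar Q u v = 0 := by rw [polar_comm]; exact hvu
      rw [mem_perp2]
      constructor
      · rw [polar_sub_right, polar_sub_right, polar_smul_right, polar_smul_right, hvu, smul_eq_mul,
          smul_eq_mul, mul_zero, sub_zero, div_mul_cancel₀ _ hvv, sub_self]
      · rw [polar_sub_right, polar_sub_right, polar_smul_right, polar_smul_right, huv, smul_eq_mul,
          smul_eq_mul, mul_zero, sub_zero, div_mul_cancel₀ _ huu, sub_self]⟩)
  left_inv := by
    rintro ⟨s, t, w⟩
    have hvv := polar_self_ne h2 Q hv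
    have huu := polar_self_ne h2 Q hu
    have huv : polar Q u v = 0 := by rw [polar_comm]; exact hvu
    have hw := w.2
    rw [mem_perp2] at hw
    have e1 : polar Q v (s • v + t • u + (w : V)) / polar Q v v = s := by
      rw [polar_add_right, polar_add_right, polar_smul_right, polar_smul_right, hvu, hw.1,
        smul_eq_mul, smul_eq_mul, mul_zero, add_zero, add_zero, mul_div_assoc, div_self hvv, mul_one]
    have e2 : polar Q u (s • v + t • u + (w : V)) / polar Q u u = t := by
      rw [polar_add_right, polar_add_right, polar_smul_right, polar_smul_right, huv, hw.2,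
        smul_eq_mul, smul_eq_mul, mul_zero, zero_add, add_zero, mul_div_assoc, div_self huu, mul_one]
    refine Prod.ext e1 (Prod.ext e2 (Subtype.ext ?_))
    show s • v + t • u + (w : V) - _ • v - _ • u = (w : V)
    rw [e1, e2]
    abel
  right_inv := by
    intro x
    show _ • v + _ • u + (x - _ • v - _ • u) = x
    abel

/-- the sphere of a non-singular vector `v` of a form with a second non-singular vector
orthogonal to `v` has at most `(q + 1) q^m` points (`dim V = m + 2`) -/
theorem card_sphere_le2 [Fintype F] [Finite V] (h2 : (2 : F) ≠ 0) (Q : QuadraticForm F V)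
    {v u : V} (hv : Q v ≠ 0) (hu : Q u ≠ 0) (hvu : polar Q v u = 0) {m : ℕ}
    (hn : finrank F V = m + 2) :
    Nat.card {x : V // Q x = Q v} ≤ (Fintype.card F + 1) * Fintype.card F ^ m := by
  classical
  have : Fintype V := Fintype.ofFinite V
  have : Fintype (perp2 Q v u) := Fintype.ofFinite _
  have hq : 0 < Fintype.card F := Fintype.card_pos
  have hcardV : Fintype.card V = Fintype.card F ^ (m + 2) := by
    rw [Module.card_eq_pow_finrank (K := F), hn]
  have hW : Fintype.card (perp2 Q v u) = Fintype.card F ^ m := by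
    have h := Fintype.card_congr (decomp h2 Q hv hu hvu)
    rw [Fintype.card_prod, Fintype.card_prod, hcardV] at h
    have h' : Fintype.card F * (Fintype.card F * Fintype.card (perp2 Q v u)) =
        Fintype.card F * (Fintype.card F * Fintype.card F ^ m) := by
      rw [h]; ring
    exact Nat.eq_of_mul_eq_mul_left hq (Nat.eq_of_mul_eq_mul_left hq h')
  have h1 : Nat.card {x : V // Q x = Q v} = (Finset.univ.filter (fun p : F × F × perp2 Q v u =>
      Q v * p.1 ^ 2 + Q u * p.2.1 ^ 2 + Q (p.2.2 : V) = Q v)).card := by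
    rw [Nat.card_eq_fintype_card, ← Fintype.card_subtype]
    apply Fintype.card_congr
    refine ((decomp h2 Q hv hu hvu).subtypeEquiv (fun p => ?_)).symm
    show _ ↔ Q (p.1 • v + p.2.1 • u + (p.2.2 : V)) = Q v
    rw [map_decomp Q hvu]
  rw [h1, ← hW]
  apply triple_count h2 (fun w : perp2 Q v u => Q (w : V)) (Q v) (Q u) (Q v) hv hu
  by_cases hex : ∃ w₀ : perp2 Q v u, Q (w₀ : V) = Q v
  · obtain ⟨w₀, hw₀⟩ := hex
    set Q' : QuadraticForm F (perp2 Q v u) := Q.comp (perp2 Q v u).subtype with hQ'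
    have hw₀' : Q' w₀ = Q v := hw₀
    have hne : Q' w₀ ≠ 0 := by rw [hw₀']; exact hv
    have hw0 : w₀ ≠ 0 := by
      rintro rfl
      exact hne (map_zero Q')
    have hfd : Module.Finite F V := Module.Finite.of_finite
    have hpos : 0 < finrank F (perp2 Q v u) := Module.finrank_pos_iff_exists_ne_zero.mpr ⟨w₀, hw0⟩
    obtain ⟨k, hk⟩ : ∃ k, finrank F (perp2 Q v u) = k + 1 := ⟨finrank F (perp2 Q v u) - 1, by omega⟩
    have h3 := card_sphere_le Q' hne hk
    have h4 : (Finset.univ.filter (fun w : perp2 Q v u => Q (w : V) = Q v)).card =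
        Nat.card {w : perp2 Q v u // Q' w = Q' w₀} := by
      rw [Nat.card_eq_fintype_card, Fintype.card_subtype]
      congr 1
      ext w
      simp only [Finset.mem_filter, Finset.mem_univ, true_and]
      rw [hw₀']
      rfl
    rw [h4, Module.card_eq_pow_finrank (K := F) (V := perp2 Q v u), hk]
    calc Fintype.card F * Nat.card {w : perp2 Q v u // Q' w = Q' w₀}
        ≤ Fintype.card F * (2 * Fintype.card F ^ k) := Nat.mul_le_mul_left _ h3
      _ = 2 * Fintype.card F ^ (k + 1) := by ring
  · have h4 : (Finset.univ.filter (fun w : perp2 Q v u => Q (w : V) = Q v)) = ∅ := by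
      rw [Finset.filter_eq_empty_iff]
      intro w _ hw
      exact hex ⟨w, hw⟩
    rw [h4, Finset.card_empty, mul_zero]
    exact Nat.zero_le _

/-- the stabiliser of a non-singular vector `v` in the isometry group embeds in the isometry group
of `v^⊥` -/
theorem card_stab_le_iso [Fintype F] [Finite V] (h2 : (2 : F) ≠ 0) (Q : QuadraticForm F V) {v : V}
    (hv : Q v ≠ 0) :
    Nat.card {g : V ≃ₗ[F] V // g ∈ isoGroup Q ∧ g v = v} ≤
      Nat.card (isoGroup (Q.comp (hyp Q v).subtype)) := by
  classical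
  let r : {g : V ≃ₗ[F] V // g ∈ isoGroup Q ∧ g v = v} → isoGroup (Q.comp (hyp Q v).subtype) :=
    fun g => ⟨LinearEquiv.ofSubmodules g.1 (hyp Q v) (hyp Q v) (map_hyp g.2.1 g.2.2), by
      intro x
      show Q (g.1 (x : V)) = Q (x : V)
      exact g.2.1 (x : V)⟩
  have hr : Function.Injective r := by
    intro g g' hgg
    apply Subtype.ext
    ext w
    have hvv := polar_self_ne h2 Q hv
    set t : F := polar Q v w / polar Q v v with ht
    have hu : w - t • v ∈ hyp Q v := by
      rw [mem_hyp, polar_sub_right, polar_smul_right, ht, smul_eq_mul, div_mul_cancel₀ _ hvv,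
        sub_self]
    have h1 : (((r g : isoGroup (Q.comp (hyp Q v).subtype)) : hyp Q v ≃ₗ[F] hyp Q v)
        ⟨w - t • v, hu⟩ : V) =
        (((r g' : isoGroup (Q.comp (hyp Q v).subtype)) : hyp Q v ≃ₗ[F] hyp Q v)
          ⟨w - t • v, hu⟩ : V) := by rw [hgg]
    have h3 : g.1 (w - t • v) = g'.1 (w - t • v) := h1
    have hw : w = t • v + (w - t • v) := by abel
    rw [hw, map_add, map_add, map_smul, map_smul, g.2.2, g'.2.2, h3]
  have : Finite (hyp Q v ≃ₗ[F] hyp Q v) :=
    Finite.of_injective (fun g => (g : hyp Q v → hyp Q v)) DFunLike.coe_injective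
  exact Nat.card_le_card_of_injective r hr

/-- **the odd-`q` analogue of `LS.card_isoGroup_le_Bb`**: a quadratic form with two orthogonal
non-singular vectors (rank at least two) on a space of dimension `n` over a finite field of odd
order `q` has at most `Bb q n = 2 (q + 1) q^(2 (n - 2)) |GL_(n-2)(q)|` isometries -/
theorem card_isoGroup_le_Bb_odd [Fintype F] [Finite V] (h2 : (2 : F) ≠ 0) (Q : QuadraticForm F V)
    {v u : V} (hv : Q v ≠ 0) (hu : Q u ≠ 0) (hvu : polar Q v u = 0) :
    Nat.card (isoGroup Q) ≤ Bb (Fintype.card F) (finrank F V) := by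
  classical
  have hq : 2 ≤ Fintype.card F := by
    have := Fintype.one_lt_card (α := F)
    omega
  -- the dimension is at least two
  obtain ⟨m, hm⟩ : ∃ m, finrank F V = m + 2 := by
    have : Fintype V := Fintype.ofFinite V
    have : Fintype (perp2 Q v u) := Fintype.ofFinite _
    have h := Fintype.card_congr (decomp h2 Q hv hu hvu)
    rw [Fintype.card_prod, Fintype.card_prod, Module.card_eq_pow_finrank (K := F) (V := V)] at h
    have hW : 0 < Fintype.card (perp2 Q v u) := Fintype.card_pos
    refine ⟨finrank F V - 2, ?_⟩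
    by_contra hlt
    have h5 : finrank F V ≤ 1 := by omega
    have h6 : Fintype.card F ^ finrank F V ≤ Fintype.card F ^ 1 :=
      Nat.pow_le_pow_right (by omega) h5
    have h7 : Fintype.card F * Fintype.card F ≤
        Fintype.card F * (Fintype.card F * Fintype.card (perp2 Q v u)) :=
      Nat.mul_le_mul_left _ (Nat.le_mul_of_pos_right _ hW)
    have h8 : 2 * Fintype.card F ≤ Fintype.card F * Fintype.card F := Nat.mul_le_mul_right _ hq
    rw [pow_one] at h6
    omega
  rw [hm, Bb_succ2]
  have : Finite (V ≃ₗ[F] V) := Finite.of_injective (fun g => (g : V → V)) (fun g h hgh => by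
    ext x; exact congrFun hgh x)
  have h1 := Subgroup.index_mul_card (MulAction.stabilizer (isoGroup Q) v)
  rw [MulAction.index_stabilizer] at h1
  have h3 : (MulAction.orbit (isoGroup Q) v).ncard ≤
      (Fintype.card F + 1) * Fintype.card F ^ m := by
    have hsub : MulAction.orbit (isoGroup Q) v ⊆ {w : V | Q w = Q v} := by
      rintro w ⟨g, rfl⟩
      exact g.2 v
    have hle := Set.ncard_le_ncard hsub (Set.toFinite _)
    refine le_trans hle ?_
    have h5 := card_sphere_le2 h2 Q hv hu hvu hm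
    have h6 : {w : V | Q w = Q v}.ncard = Nat.card {w : V // Q w = Q v} :=
      (Nat.card_coe_set_eq {w : V | Q w = Q v}).symm
    rw [h6]
    exact h5
  have h4 : Nat.card (MulAction.stabilizer (isoGroup Q) v) ≤
      2 * Fintype.card F ^ m * gl (Fintype.card F) m := by
    have hfd : Module.Finite F V := Module.Finite.of_finite
    have hdim : finrank F (hyp Q v) = m + 1 := finrank_hyp h2 Q hv (n := m + 1) hm
    have hne : Q.comp (hyp Q v).subtype ≠ 0 := by
      intro h
      have h5 : (Q.comp (hyp Q v).subtype) ⟨u, mem_hyp.mpr hvu⟩ = 0 := by rw [h]; rfl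
      exact hu h5
    refine le_trans ?_ (card_isoGroup_le_odd h2 (Q.comp (hyp Q v).subtype) hne hdim)
    refine le_trans ?_ (card_stab_le_iso h2 Q hv)
    let e : MulAction.stabilizer (isoGroup Q) v → {g : V ≃ₗ[F] V // g ∈ isoGroup Q ∧ g v = v} :=
      fun g => ⟨g.1.1, g.1.2, MulAction.mem_stabilizer_iff.mp g.2⟩
    apply Nat.card_le_card_of_injective e
    intro g g' hgg
    apply Subtype.ext
    apply Subtype.ext
    have h5 := congrArg Subtype.val hgg
    exact h5
  rw [← h1]
  calc (MulAction.orbit (isoGroup Q) v).ncard * Nat.card (MulAction.stabilizer (isoGroup Q) v)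
      ≤ (Fintype.card F + 1) * Fintype.card F ^ m *
          (2 * Fintype.card F ^ m * gl (Fintype.card F) m) := Nat.mul_le_mul h3 h4
    _ = 2 * (Fintype.card F + 1) * Fintype.card F ^ (2 * m) * gl (Fintype.card F) m := by ring

end forms

section matrices

variable {F : Type*} [Field F] {n : ℕ}

theorem toQM_apply (B : Matrix (Fin n) (Fin n) F) (x : Fin n → F) :
    Matrix.toQuadraticForm' B x = x ⬝ᵥ B *ᵥ x := by
  rw [Matrix.toQuadraticForm', LinearMap.BilinMap.toQuadraticMap_apply,
    Matrix.toLinearMap₂'_apply']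

theorem dot_mulVec_symm (B : Matrix (Fin n) (Fin n) F) (hB : Bᵀ = B) (x y : Fin n → F) :
    y ⬝ᵥ B *ᵥ x = x ⬝ᵥ B *ᵥ y := by
  rw [Matrix.dotProduct_mulVec, dotProduct_comm, ← Matrix.mulVec_transpose, hB]

theorem polar_toQM (B : Matrix (Fin n) (Fin n) F) (hB : Bᵀ = B) (x y : Fin n → F) :
    polar (Matrix.toQuadraticForm' B) x y = 2 * (x ⬝ᵥ B *ᵥ y) := by
  rw [Matrix.toQuadraticForm', LinearMap.BilinMap.polar_toQuadraticMap,
    Matrix.toLinearMap₂'_apply', Matrix.toLinearMap₂'_apply', dot_mulVec_symm B hB x y]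
  ring

theorem toQM_injective (h2 : (2 : F) ≠ 0) {B B' : Matrix (Fin n) (Fin n) F} (hB : Bᵀ = B)
    (hB' : B'ᵀ = B') (h : Matrix.toQuadraticForm' B = Matrix.toQuadraticForm' B') : B = B' := by
  ext i j
  have h1 := congrArg (fun Q : QuadraticMap F (Fin n → F) F =>
    polar Q (Pi.single i 1) (Pi.single j 1)) h
  simp only [polar_toQM B hB, polar_toQM B' hB'] at h1
  have h3 := mul_left_cancel₀ h2 h1
  simpa using h3

theorem toQM_rank_one (a : F) (l x : Fin n → F) :
    Matrix.toQuadraticForm' (a • vecMulVec l l) x = a * (l ⬝ᵥ x) ^ 2 := by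
  rw [toQM_apply, Matrix.smul_mulVec, dotProduct_smul, smul_eq_mul]
  congr 1
  simp only [dotProduct, mulVec, vecMulVec_apply, Finset.mul_sum, pow_two, Finset.sum_mul]
  rw [Finset.sum_comm]
  apply Finset.sum_congr rfl
  intro i _
  apply Finset.sum_congr rfl
  intro j _
  ring

theorem exists_orth_pair (h2 : (2 : F) ≠ 0) (B : Matrix (Fin n) (Fin n) F) (hB : Bᵀ = B)
    (hr : ¬ ∃ (a : F) (v : Fin n → F), B = a • vecMulVec v v) :
    ∃ v u : Fin n → F, Matrix.toQuadraticForm' B v ≠ 0 ∧ Matrix.toQuadraticForm' B u ≠ 0 ∧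
      polar (Matrix.toQuadraticForm' B) v u = 0 := by
  by_contra hcon
  push Not at hcon
  apply hr
  have hsymm : ∀ (a : F) (l : Fin n → F), (a • vecMulVec l l)ᵀ = a • vecMulVec l l := by
    intro a l
    ext i j
    simp [vecMulVec_apply, mul_comm]
  by_cases hQ0 : ∀ x, Matrix.toQuadraticForm' B x = 0
  · refine ⟨0, 0, ?_⟩
    apply toQM_injective h2 hB (hsymm 0 0)
    ext x
    rw [hQ0 x, toQM_rank_one, zero_mul]
  · push Not at hQ0
    obtain ⟨v, hv⟩ := hQ0
    set Q : QuadraticMap F (Fin n → F) F := Matrix.toQuadraticForm' B with hQ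
    have hvv : polar Q v v = 2 * Q v := by
      rw [polar_self]
      simp [two_smul, two_mul]
    have hvv0 : polar Q v v ≠ 0 := by
      rw [hvv]
      exact mul_ne_zero h2 hv
    have key : ∀ x, Q x = (Q v)⁻¹ * ((B *ᵥ v) ⬝ᵥ x) ^ 2 := by
      intro x
      set s : F := polar Q v x / polar Q v v with hs
      have hh : polar Q v (x - s • v) = 0 := by
        rw [polar_sub_right, polar_smul_right, hs, smul_eq_mul, div_mul_cancel₀ _ hvv0, sub_self]
      have hQh : Q (x - s • v) = 0 := by
        by_contra hne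
        exact hcon v (x - s • v) hv hne hh
      have hx : x = s • v + (x - s • v) := by abel
      have h1' : Q (s • v + (x - s • v)) = s ^ 2 * Q v := by
        rw [QuadraticMap.map_add (⇑Q) (s • v) (x - s • v), QuadraticMap.map_smul,
          polar_smul_left, hh, hQh, smul_eq_mul, smul_eq_mul, mul_zero, add_zero, add_zero]
        ring
      have h1 : Q x = s ^ 2 * Q v := (congrArg Q hx).trans h1'
      have h3 : polar Q v x = 2 * ((B *ᵥ v) ⬝ᵥ x) := by
        rw [hQ, polar_toQM B hB, Matrix.dotProduct_mulVec, ← Matrix.mulVec_transpose, hB]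
      rw [h1, hs, h3, hvv]
      field_simp
    refine ⟨(Q v)⁻¹, B *ᵥ v, ?_⟩
    apply toQM_injective h2 hB (hsymm _ _)
    ext x
    rw [toQM_rank_one]
    exact key x

/-- the matrix form of `card_isoGroup_le_Bb_odd` -/
theorem card_isoGroup_le_Bb_mat [Fintype F] (h2 : (2 : F) ≠ 0) (B : Matrix (Fin n) (Fin n) F)
    (hB : Bᵀ = B) (hr : ¬ ∃ (a : F) (v : Fin n → F), B = a • vecMulVec v v) :
    Nat.card (isoGroup (Matrix.toQuadraticForm' B)) ≤ Bb (Fintype.card F) n := by
  obtain ⟨v, u, hv, hu, hvu⟩ := exists_orth_pair h2 B hB hr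
  have h := card_isoGroup_le_Bb_odd h2 (Matrix.toQuadraticForm' B) hv hu hvu
  rwa [Module.finrank_fin_fun] at h

end matrices

end Cfsg.Agent.Lib.Helper15.WGWF
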