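/-
helper15: S2524 Part W, the representation half.  For a finite-dimensional complex representation `ρ` of
`Sp_{2n}(F)`, `|F| = q` odd, a weight `B` of the Siegel radical that is not of rank at most one forces
`(q^n - 1) (q^n - q) ≤ 2 (q + 1) dim ρ` (`le_finrank_of_wt_ne_bot`); hence `dim ρ < beta_n` gives `IsW`
(`isW_of_lt`).  The weight spaces are independent (`Helper17.WGWD`), the Levi factor permutes them
(`Helper23.WGLVW.LvG_mem_wt`), and the `GL_n`-orbit of a form of rank at least two is counted with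
`Helper18.LSLeaf.orbit_bound_of` and `WGWF.card_isoGroup_le_Bb_mat`.
-/
import Mathlib
import Cfsg.Agent.Lib.Helper10.WGDefs
import Cfsg.Agent.Lib.Helper17.WGWD
import Cfsg.Agent.Lib.Helper23.WGLVW
import Cfsg.Agent.Lib.Helper18.LSO
import Cfsg.Agent.Lib.Helper11.LSA1
import Cfsg.Agent.Lib.Helper15.WGWF

set_option autoImplicit false

namespace Cfsg.Agent.Lib.Helper15.WGWR

open QuadraticMap Module Matrix Cfsg.Agent.Lib.Helper11.LS Cfsg.Agent.Lib.Helper10.WG
  Cfsg.Agent.Lib.Helper15.WGWF Cfsg.Agent.Lib.Helper17.WGWD Cfsg.Agent.Lib.Helper23.WGLVW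

variable {F : Type*} [Field F] [Fintype F] [DecidableEq F]

omit [Fintype F] [DecidableEq F] in
/-- the quadratic form of `Mᵀ A M` is the form of `A` composed with `M` -/
theorem toQF_congr {n : ℕ} (A : Matrix (Fin n) (Fin n) F)
    (g : (Fin n → F) ≃ₗ[F] (Fin n → F)) :
    Matrix.toQuadraticForm' ((LinearMap.toMatrix' g.toLinearMap)ᵀ * A *
      LinearMap.toMatrix' g.toLinearMap) = (Matrix.toQuadraticForm' A).comp g.toLinearMap := by
  ext x
  rw [QuadraticMap.comp_apply, toQM_apply, toQM_apply, ← Matrix.mulVec_mulVec,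
    ← Matrix.mulVec_mulVec, Matrix.dotProduct_mulVec, Matrix.vecMul_transpose,
    LinearMap.toMatrix'_mulVec]

/-- a weight that is not of rank at most one forces `(q^n - 1) (q^n - q) ≤ 2 (q + 1) dim V` -/
theorem le_finrank_of_wt_ne_bot (h2 : (2 : F) ≠ 0) (ψ : AddChar F ℂ) (hψ : ψ.IsPrimitive) {n : ℕ}
    {V : Type*} [AddCommGroup V] [Module ℂ V] [Module.Finite ℂ V]
    (ρ : Representation ℂ (SpG F n) V)
    (B : Matrix (Fin n) (Fin n) F) (hB : Bᵀ = B) (hne : wt ψ ρ B ≠ ⊥)
    (hr : ¬ ∃ (a : F) (v : Fin n → F), B = a • vecMulVec v v) :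
    (Fintype.card F ^ n - 1) * (Fintype.card F ^ n - Fintype.card F) ≤
      2 * (Fintype.card F + 1) * Module.finrank ℂ V := by
  classical
  by_cases hn : 2 ≤ n
  swap
  · have hn' : n = 0 ∨ n = 1 := by omega
    rcases hn' with rfl | rfl
    · simp
    · simp
  have hq : 2 ≤ Fintype.card F := by
    have := Fintype.one_lt_card (α := F)
    omega
  let W := {b : SymM F n // wt ψ ρ b.1 ≠ ⊥}
  -- the number of weights is at most the dimension
  have hWd : Fintype.card W ≤ Module.finrank ℂ V := by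
    have hx : ∀ b : W, ∃ x : V, x ∈ wt ψ ρ b.1.1 ∧ x ≠ 0 := fun b =>
      (Submodule.ne_bot_iff _).mp b.2
    choose x hxm hx0 using hx
    have hli : LinearIndependent ℂ x := by
      rw [linearIndependent_iff']
      intro s c hsum b hb
      have h1 := congrArg (wtProj ψ ρ b.1.1) hsum
      rw [map_sum, map_zero, Finset.sum_eq_single b] at h1
      · rw [map_smul, wtProj_of_mem ψ ρ _ _ (hxm b)] at h1
        exact (smul_eq_zero.mp h1).resolve_right (hx0 b)
      · intro b' _ hb'
        rw [map_smul, wtProj_of_mem_ne h2 ψ hψ ρ b.1.1 b'.1.1 b.1.2 b'.1.2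
          (fun h => hb' (Subtype.ext (Subtype.ext h)).symm) _ (hxm b'), smul_zero]
      · intro h
        exact absurd hb h
    exact hli.fintype_card_le_finrank
  -- the weights as quadratic forms
  let Φ : W → QuadraticForm F (Fin n → F) := fun b => Matrix.toQuadraticForm' b.1.1
  have hΦ : Function.Injective Φ := by
    intro b b' h
    exact Subtype.ext (Subtype.ext (toQM_injective h2 b.1.2 b'.1.2 h))
  have hcl : ∀ (a : W) (g : (Fin n → F) ≃ₗ[F] (Fin n → F)),
      ∃ b : W, Φ b = (Φ a).comp g.toLinearMap := by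
    intro a g
    set M : Matrix (Fin n) (Fin n) F := LinearMap.toMatrix' g.toLinearMap with hM
    set M' : Matrix (Fin n) (Fin n) F := LinearMap.toMatrix' g.symm.toLinearMap with hM'
    have hMM' : M * M' = 1 := by
      rw [hM, hM', ← LinearMap.toMatrix'_comp]
      have : g.toLinearMap ∘ₗ g.symm.toLinearMap = LinearMap.id := by
        ext v : 1
        simp
      rw [this, LinearMap.toMatrix'_id]
    have hM'M : M' * M = 1 := by
      rw [hM, hM', ← LinearMap.toMatrix'_comp]
      have : g.symm.toLinearMap ∘ₗ g.toLinearMap = LinearMap.id := by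
        ext v : 1
        simp
      rw [this, LinearMap.toMatrix'_id]
    let gG : GL (Fin n) F := ⟨M', M, hM'M, hMM'⟩
    have hginv : ((gG⁻¹ : GL (Fin n) F) : Matrix (Fin n) (Fin n) F) = M := rfl
    obtain ⟨x, hxm, hx0⟩ := (Submodule.ne_bot_iff _).mp a.2
    have h1 := LvG_mem_wt ψ ρ gG a.1.1 x hxm
    rw [hginv] at h1
    have hsym : (Mᵀ * a.1.1 * M)ᵀ = Mᵀ * a.1.1 * M := by
      rw [transpose_mul, transpose_mul, transpose_transpose, a.1.2, Matrix.mul_assoc]
    have hne' : wt ψ ρ (Mᵀ * a.1.1 * M) ≠ ⊥ := by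
      rw [Submodule.ne_bot_iff]
      refine ⟨ρ (LvG gG) x, h1, ?_⟩
      intro h0
      apply hx0
      have h3 : ρ (LvG gG)⁻¹ (ρ (LvG gG) x) = x := by
        rw [← Module.End.mul_apply, ← map_mul, inv_mul_cancel, map_one]
        rfl
      rw [← h3, h0, map_zero]
    refine ⟨⟨⟨Mᵀ * a.1.1 * M, hsym⟩, hne'⟩, ?_⟩
    exact toQF_congr a.1.1 g
  have key := Cfsg.Agent.Lib.Helper18.LSLeaf.orbit_bound_of Φ hΦ hcl ⟨⟨B, hB⟩, hne⟩
    (gl_eq _ hq n hn) (Bb_pos _ hq n) (card_isoGroup_le_Bb_mat h2 B hB hr)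
  calc (Fintype.card F ^ n - 1) * (Fintype.card F ^ n - Fintype.card F)
      ≤ 2 * (Fintype.card F + 1) * Fintype.card W := key
    _ ≤ 2 * (Fintype.card F + 1) * Module.finrank ℂ V := Nat.mul_le_mul_left _ hWd

/-- **Part W**: a representation of `Sp_{2n}(q)`, `q` odd, of dimension less than
`beta_n = (q^n - 1) (q^n - q) / (2 (q + 1))` has only weights of rank at most one -/
theorem isW_of_lt (h2 : (2 : F) ≠ 0) (ψ : AddChar F ℂ) (hψ : ψ.IsPrimitive) {n : ℕ}
    {V : Type*} [AddCommGroup V] [Module ℂ V] [Module.Finite ℂ V]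
    (ρ : Representation ℂ (SpG F n) V)
    (hd : 2 * (Fintype.card F + 1) * Module.finrank ℂ V <
      (Fintype.card F ^ n - 1) * (Fintype.card F ^ n - Fintype.card F)) : IsW ψ ρ := by
  intro B hB hne
  by_contra hr
  exact absurd (le_finrank_of_wt_ne_bot h2 ψ hψ ρ B hB hne hr) (not_le.mpr hd)

end Cfsg.Agent.Lib.Helper15.WGWR
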